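import Groth.Prelude.Def_AlgSpDec

/-!
# Helper lemmas on points of fppf sheaves / algebraic spaces (helper10)

* `exists_point_of_isPullback`: the points of a fibre product of sheaves surject onto the fibre product of
  the sets of points.
* `mono_yon_map`: `yon S` preserves monomorphisms.
-/

set_option autoImplicit false
universe u

open CategoryTheory CategoryTheory.Limits AlgebraicGeometry Opposite

namespace Groth.Agent.Lib.helper10

variable {S : Scheme.{u}}

/-- The field-valued point with prescribed morphism `h_{Spec Ω} ⟶ F`. -/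
noncomputable def fieldPtOfHom {F : AlgSp.Sp S} {Ω : Type u} [Field Ω] (w : Spec (CommRingCat.of Ω) ⟶ S)
    (l : (AlgSp.yon S).obj (Over.mk w) ⟶ F) : AlgSp.FieldPt F :=
  ⟨Ω, w, (AlgSp.J S).uliftYonedaEquiv l⟩

theorem fieldPtOfHom_toHom {F : AlgSp.Sp S} {Ω : Type u} [Field Ω] (w : Spec (CommRingCat.of Ω) ⟶ S)
    (l : (AlgSp.yon S).obj (Over.mk w) ⟶ F) : (fieldPtOfHom w l).toHom = l :=
  Equiv.symm_apply_apply _ _

theorem fieldPtOfHom_map {F G : AlgSp.Sp S} {Ω : Type u} [Field Ω] (w : Spec (CommRingCat.of Ω) ⟶ S)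
    (l : (AlgSp.yon S).obj (Over.mk w) ⟶ F) (f : F ⟶ G) :
    (fieldPtOfHom w l).map f = fieldPtOfHom w (l ≫ f) := by
  unfold fieldPtOfHom AlgSp.FieldPt.map
  congr 1


/-- Restricting a field-valued point along a field extension gives the same point. -/
theorem mk_fieldPtOfHom_comp {F : AlgSp.Sp S} (p : AlgSp.FieldPt F) {Ω : Type u} [Field Ω]
    (w : Spec (CommRingCat.of Ω) ⟶ S) (a : Over.mk w ⟶ p.pt) :
    AlgSp.Points.mk (fieldPtOfHom w ((AlgSp.yon S).map a ≫ p.toHom)) = AlgSp.Points.mk p := by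
  refine AlgSp.Points.sound ⟨Ω, inferInstance, w, 𝟙 _, a, ?_⟩
  change F.obj.map (𝟙 _) ((AlgSp.J S).uliftYonedaEquiv ((AlgSp.yon S).map a ≫ p.toHom)) = _
  rw [Functor.map_id_apply, ← GrothendieckTopology.uliftYonedaEquiv_naturality,
    AlgSp.FieldPt.uliftYonedaEquiv_toHom]

/-- The points of a fibre product of sheaves surject onto the fibre product of the sets of points. -/
theorem exists_point_of_isPullback {F G G' P : AlgSp.Sp S} {fst : P ⟶ F} {snd : P ⟶ G'} {f : F ⟶ G}
    {g : G' ⟶ G} (h : IsPullback fst snd f g) (x : AlgSp.Points F) (z : AlgSp.Points G')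
    (hxz : AlgSp.Points.map f x = AlgSp.Points.map g z) :
    ∃ w : AlgSp.Points P, AlgSp.Points.map fst w = x ∧ AlgSp.Points.map snd w = z := by
  induction x using AlgSp.Points.ind with
  | h p =>
  induction z using AlgSp.Points.ind with
  | h q =>
  obtain ⟨Ω, _, w, a', b', hab'⟩ := AlgSp.Points.mk_eq_mk_iff.mp hxz
  obtain ⟨a, rfl⟩ : ∃ a : Over.mk w ⟶ p.pt, a = a' := ⟨a', rfl⟩
  obtain ⟨b, rfl⟩ : ∃ b : Over.mk w ⟶ q.pt, b = b' := ⟨b', rfl⟩
  have hab : G.obj.map a.op (p.map f).val = G.obj.map b.op (q.map g).val := hab'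
  have e : ((AlgSp.yon S).map a ≫ p.toHom) ≫ f = ((AlgSp.yon S).map b ≫ q.toHom) ≫ g := by
    apply (AlgSp.J S).uliftYonedaEquiv.injective
    have key : ∀ {F' : AlgSp.Sp S} (r : AlgSp.FieldPt F') (c : Over.mk w ⟶ r.pt) (k : F' ⟶ G),
        (AlgSp.J S).uliftYonedaEquiv (((AlgSp.yon S).map c ≫ r.toHom) ≫ k) =
          G.obj.map c.op (r.map k).val := by
      intro F' r c k
      rw [GrothendieckTopology.uliftYonedaEquiv_comp (AlgSp.J S) ((AlgSp.yon S).map c ≫ r.toHom) k,
        ← GrothendieckTopology.uliftYonedaEquiv_naturality, AlgSp.FieldPt.uliftYonedaEquiv_toHom,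
        NatTrans.naturality_apply]
      rfl
    rw [key, key]
    exact hab
  refine ⟨AlgSp.Points.mk (fieldPtOfHom w (h.lift _ _ e)), ?_, ?_⟩
  · rw [AlgSp.Points.map_mk, fieldPtOfHom_map, h.lift_fst]
    exact mk_fieldPtOfHom_comp p w a
  · rw [AlgSp.Points.map_mk, fieldPtOfHom_map, h.lift_snd]
    exact mk_fieldPtOfHom_comp q w b

/-- `yon S` preserves monomorphisms. -/
theorem mono_yon_map {U V : Over S} (g : U ⟶ V) [Mono g] : Mono ((AlgSp.yon S).map g) :=
  inferInstance

/-- The canonical morphism `Spec κ(t) ⟶ T` over `S` is a monomorphism. -/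
instance mono_homMk_fromSpecResidueField (T : Over S) (t : ↥T.left) :
    Mono (Over.homMk (T.left.fromSpecResidueField t) rfl :
      Over.mk (T.left.fromSpecResidueField t ≫ T.hom) ⟶ T) :=
  (Over.forget S).mono_of_mono_map (by dsimp; infer_instance)

/-- `h` of the canonical morphism `Spec κ(t) ⟶ T` over `S` is a monomorphism of sheaves. -/
theorem mono_yon_map_fromSpecResidueField (T : Over S) (t : ↥T.left) :
    Mono ((AlgSp.yon S).map (Over.homMk (T.left.fromSpecResidueField t) rfl :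
      Over.mk (T.left.fromSpecResidueField t ≫ T.hom) ⟶ T)) := by
  have := mono_homMk_fromSpecResidueField T t
  exact mono_yon_map _

/-- The morphism of the field-valued point defined by a point of a scheme mapping by a monomorphism
is a monomorphism. -/
theorem mono_toHom_ofPt {F : AlgSp.Sp S} {T : Over S} (g : (AlgSp.yon S).obj T ⟶ F) [Mono g]
    (t : ↥T.left) : Mono (AlgSp.FieldPt.ofPt g t).toHom := by
  rw [AlgSp.FieldPt.toHom_ofPt]
  exact @mono_comp _ _ _ _ _ _ (mono_yon_map_fromSpecResidueField T t) _ ‹_›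

/-- Every point of `h_T` mapped to `F` is `ofPt` of a point of `T`. -/
theorem map_eq_ofPt_toScheme {F : AlgSp.Sp S} {T : Over S} (g : (AlgSp.yon S).obj T ⟶ F)
    (w : AlgSp.Points ((AlgSp.yon S).obj T)) :
    AlgSp.Points.map g w = AlgSp.Points.ofPt g (AlgSp.Points.toScheme T w) := by
  rw [AlgSp.Points.ofPt_eq_map_ofScheme, AlgSp.Points.ofScheme_toScheme]

/-- The class of a field-valued point `q` is the image under `q.toHom` of any point of `Spec K`. -/
theorem map_toHom_ofScheme {F : AlgSp.Sp S} (q : AlgSp.FieldPt F) (s : ↥(Spec (CommRingCat.of q.K))) :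
    AlgSp.Points.map q.toHom (AlgSp.Points.ofScheme q.pt s) = AlgSp.Points.mk q := by
  rw [← AlgSp.Points.ofPt_eq_map_ofScheme, AlgSp.Points.ofPt_toHom]

end Groth.Agent.Lib.helper10
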