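import Groth.Agent.Lib.Helper10.LocRes3

/-!
Artin–Schreier function fields `y² + y = f` with prescribed odd poles at a finite set `B ⊆ k`
(helper10): the partial-fraction basis of the regular differentials (S19044).
-/

set_option autoImplicit false
set_option linter.unusedSectionVars false
set_option linter.style.haveILetI false

universe u v w

open FunFld Polynomial

namespace Groth.Agent.Lib.helper10

namespace FF

section ValXC

variable {k : Type u} [Field k]

theorem ratFunc_X_sub_C_ne_zero (α : k) : (RatFunc.X - RatFunc.C α : RatFunc k) ≠ 0 := by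
  rw [ratFunc_X_sub_C]
  exact (_root_.map_ne_zero_iff _ (RatFunc.algebraMap_injective k)).mpr (X_sub_C_ne_zero α)

theorem Place.val_X_inf (p : Place k (RatFunc k)) (hp : 1 < p.1 (RatFunc.X : RatFunc k)) :
    p.1 (RatFunc.X : RatFunc k) = WithZero.exp (1 : ℤ) := by
  rw [Place.val_eq_exp_neg_ord p RatFunc.X_ne_zero,
    (Place.infinity_deg_and_ord p ((Place.ord_neg_iff p RatFunc.X_ne_zero).mpr hp)).2, neg_neg]

theorem Place.val_X_sub_C_inf (p : Place k (RatFunc k)) (hp : 1 < p.1 (RatFunc.X : RatFunc k))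
    (α : k) : p.1 ((RatFunc.X : RatFunc k) - RatFunc.C α) = WithZero.exp (1 : ℤ) := by
  have h1 : p.1 ((RatFunc.X : RatFunc k) - RatFunc.C α) = p.1 (RatFunc.X : RatFunc k) := by
    apply Valuation.map_sub_eq_of_lt_left
    rw [← RatFunc.algebraMap_eq_C]
    exact lt_of_le_of_lt (p.2.1 α) hp
  rw [h1, Place.val_X_inf p hp]

theorem Place.val_X_sub_C_of_lt (p : Place k (RatFunc k)) (α : k)
    (h : p.1 ((RatFunc.X : RatFunc k) - RatFunc.C α) < 1) :
    p.1 ((RatFunc.X : RatFunc k) - RatFunc.C α) = WithZero.exp (-1 : ℤ) := by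
  rw [ratFunc_X_sub_C] at h ⊢
  exact Place.val_irreducible_eq p (irreducible_X_sub_C α) h

theorem Place.val_X_sub_C_le_one (p : Place k (RatFunc k)) (hp : p.1 (RatFunc.X : RatFunc k) ≤ 1)
    (α : k) : p.1 ((RatFunc.X : RatFunc k) - RatFunc.C α) ≤ 1 := by
  rw [ratFunc_X_sub_C]
  exact Place.val_polynomial_le_one p hp _

theorem Place.val_X_le_one_of_lt (p : Place k (RatFunc k)) (α : k)
    (h : p.1 ((RatFunc.X : RatFunc k) - RatFunc.C α) < 1) : p.1 (RatFunc.X : RatFunc k) ≤ 1 := by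
  by_contra hX
  rw [not_le] at hX
  rw [Place.val_X_sub_C_inf p hX α] at h
  exact absurd h (not_lt.mpr (by rw [← WithZero.exp_zero, WithZero.exp_le_exp]; norm_num))

theorem val_inv_pow_of_eq {F : Type*} [Field F] (v : Valuation F (WithZero (Multiplicative ℤ)))
    {u : F} {c : ℤ} (h : v u = WithZero.exp c) (m : ℕ) :
    v (u⁻¹ ^ m) = WithZero.exp (-((m : ℤ) * c)) := by
  rw [map_pow, map_inv₀, h, ← WithZero.exp_neg, ← WithZero.exp_nsmul]
  congr 1
  simp

end ValXC

section PF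

variable {k : Type u} [Field k]

/-- The simple partial fractions `(X - α)^{-(j+1)}` are linearly independent. -/
theorem pf_linearIndependent (B : Finset k) (n : ↥B → ℕ) :
    LinearIndependent k (fun x : (Σ α : ↥B, Fin (n α)) =>
      ((RatFunc.X : RatFunc k) - RatFunc.C (x.1 : k))⁻¹ ^ ((x.2 : ℕ) + 1)) := by
  classical
  rw [Fintype.linearIndependent_iff]
  intro c hc x
  have hg : ∀ α ∈ (Finset.univ : Finset ↥B),
      (Polynomial.X - Polynomial.C (α : k)).Monic := fun α _ => monic_X_sub_C _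
  have hgg : Set.Pairwise (↑(Finset.univ : Finset ↥B)) fun α β : ↥B =>
      IsCoprime (Polynomial.X - Polynomial.C (α : k)) (Polynomial.X - Polynomial.C (β : k)) := by
    intro α _ β _ hαβ
    exact Polynomial.isCoprime_X_sub_C_of_isUnit_sub
      (sub_ne_zero.mpr (fun h => hαβ (Subtype.ext h))).isUnit
  have hgi : ∀ α ∈ (Finset.univ : Finset ↥B),
      ((RatFunc.X : RatFunc k) - RatFunc.C (α : k))⁻¹ *
        algebraMap k[X] (RatFunc k) (Polynomial.X - Polynomial.C (α : k)) = 1 := by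
    intro α _
    rw [← ratFunc_X_sub_C]
    exact inv_mul_cancel₀ (ratFunc_X_sub_C_ne_zero _)
  have key := quo_add_sum_rem_mul_pow_inverse_unique (K := RatFunc k) hg hgg (n := n) hgi
    (q₁ := 0) (q₂ := 0)
    (r₁ := fun α j => Polynomial.C (c ⟨α, j⟩)) (r₂ := fun _ _ => 0)
    (fun α _ j => by
      rw [degree_X_sub_C]
      exact lt_of_le_of_lt degree_C_le (by norm_num))
    (fun α _ j => by
      rw [degree_X_sub_C, degree_zero]
      exact WithBot.bot_lt_coe _)
    (by
      simp only [map_zero, zero_mul, Finset.sum_const_zero, zero_add, add_zero]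
      rw [Fintype.sum_sigma] at hc
      rw [← hc]
      apply Finset.sum_congr rfl
      intro α _
      apply Finset.sum_congr rfl
      intro j _
      rw [RatFunc.algebraMap_C, Algebra.smul_def, RatFunc.algebraMap_eq_C])
  have h1 := congrFun (key.2 x.1 (Finset.mem_univ _)) x.2
  simpa using h1

/-- Existence of the partial fraction decomposition with linear denominators. -/
theorem pf_exists (B : Finset k) (n : ↥B → ℕ) (r : k[X]) :
    ∃ (quo : k[X]) (t : (Σ α : ↥B, Fin (n α)) → k),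
      algebraMap k[X] (RatFunc k) r *
          ∏ α : ↥B, ((RatFunc.X : RatFunc k) - RatFunc.C (α : k))⁻¹ ^ n α =
        algebraMap k[X] (RatFunc k) quo +
          ∑ x : (Σ α : ↥B, Fin (n α)),
            t x • ((RatFunc.X : RatFunc k) - RatFunc.C (x.1 : k))⁻¹ ^ ((x.2 : ℕ) + 1) := by
  classical
  have hg : ∀ α ∈ (Finset.univ : Finset ↥B),
      (Polynomial.X - Polynomial.C (α : k)).Monic := fun α _ => monic_X_sub_C _
  have hgg : Set.Pairwise (↑(Finset.univ : Finset ↥B)) fun α β : ↥B =>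
      IsCoprime (Polynomial.X - Polynomial.C (α : k)) (Polynomial.X - Polynomial.C (β : k)) := by
    intro α _ β _ hαβ
    exact Polynomial.isCoprime_X_sub_C_of_isUnit_sub
      (sub_ne_zero.mpr (fun h => hαβ (Subtype.ext h))).isUnit
  have hgi : ∀ α ∈ (Finset.univ : Finset ↥B),
      ((RatFunc.X : RatFunc k) - RatFunc.C (α : k))⁻¹ *
        algebraMap k[X] (RatFunc k) (Polynomial.X - Polynomial.C (α : k)) = 1 := by
    intro α _
    rw [← ratFunc_X_sub_C]
    exact inv_mul_cancel₀ (ratFunc_X_sub_C_ne_zero _)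
  obtain ⟨quo, r', hr', hf⟩ := mul_prod_pow_inverse_eq_quo_add_sum_rem_mul_pow_inverse
    (K := RatFunc k) r hg hgg n hgi
  refine ⟨quo, fun x => (r' x.1 x.2).coeff 0, ?_⟩
  rw [hf, Fintype.sum_sigma]
  congr 1
  apply Finset.sum_congr rfl
  intro α _
  apply Finset.sum_congr rfl
  intro j _
  have h1 := hr' α (Finset.mem_univ _) j
  rw [degree_X_sub_C] at h1
  have h2 : r' α j = Polynomial.C ((r' α j).coeff 0) :=
    eq_C_of_degree_le_zero (Nat.WithBot.lt_one_iff_le_zero.mp h1)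
  conv_lhs => rw [h2]
  rw [RatFunc.algebraMap_C, Algebra.smul_def, RatFunc.algebraMap_eq_C]

end PF

section PFFam

variable {k : Type u} [Field k] (B : Finset k) (d : k → ℕ)

/-- The pole-order bound `c_α + 1`. -/
def pfN (α : ↥B) : ℕ := (d (α : k) - 1) / 2 + 1

/-- The partial-fraction family of S19044. -/
noncomputable def pfFam :
    {a : ↥B × ℕ // 1 ≤ a.2 ∧ 2 * a.2 + 1 ≤ d (a.1 : k)} ⊕ {b : ↥B // (b : k) ≠ 0} → RatFunc k :=
  Sum.elim (fun a => ((RatFunc.X : RatFunc k) - RatFunc.C (a.1.1 : k))⁻¹ ^ (a.1.2 + 1))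
    (fun b => RatFunc.C (b.1 : k) /
      ((RatFunc.X : RatFunc k) * ((RatFunc.X : RatFunc k) - RatFunc.C (b.1 : k))))

theorem pf_inr_eq (b : k) :
    (RatFunc.C b / ((RatFunc.X : RatFunc k) * ((RatFunc.X : RatFunc k) - RatFunc.C b))) =
      ((RatFunc.X : RatFunc k) - RatFunc.C b)⁻¹ - (RatFunc.X : RatFunc k)⁻¹ := by
  have hX : (RatFunc.X : RatFunc k) ≠ 0 := RatFunc.X_ne_zero
  have hXb := ratFunc_X_sub_C_ne_zero b
  field_simp
  ring

theorem sigma_fin_ext {ι : Type*} {n : ι → ℕ} {x y : Σ α : ι, Fin (n α)}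
    (h1 : x.1 = y.1) (h2 : (x.2 : ℕ) = (y.2 : ℕ)) : x = y := by
  obtain ⟨α, j⟩ := x
  obtain ⟨β, j'⟩ := y
  simp only at h1
  subst h1
  simp only at h2
  rw [Fin.ext h2]

theorem pfFam_linearIndependent (h0 : (0 : k) ∈ B) : LinearIndependent k (pfFam B d) := by
  classical
  have he := pf_linearIndependent B (pfN B d)
  obtain ⟨e, hedef⟩ : ∃ e : (Σ α : ↥B, Fin (pfN B d α)) → RatFunc k, e = fun x =>
      ((RatFunc.X : RatFunc k) - RatFunc.C (x.1 : k))⁻¹ ^ ((x.2 : ℕ) + 1) := ⟨_, rfl⟩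
  rw [← hedef] at he
  let i1 : {a : ↥B × ℕ // 1 ≤ a.2 ∧ 2 * a.2 + 1 ≤ d (a.1 : k)} →
      (Σ α : ↥B, Fin (pfN B d α)) :=
    fun a => ⟨a.1.1, ⟨a.1.2, by
      show a.1.2 < (d _ - 1) / 2 + 1
      have := a.2.2
      omega⟩⟩
  let i2 : {b : ↥B // (b : k) ≠ 0} → (Σ α : ↥B, Fin (pfN B d α)) :=
    fun b => ⟨b.1, ⟨0, Nat.succ_pos _⟩⟩
  let z0 : (Σ α : ↥B, Fin (pfN B d α)) := ⟨⟨0, h0⟩, ⟨0, Nat.succ_pos _⟩⟩
  have h1 : ∀ a, pfFam B d (Sum.inl a) = e (i1 a) := fun a => by rw [hedef]; rfl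
  have h2 : ∀ b, pfFam B d (Sum.inr b) = e (i2 b) - e z0 := by
    intro b
    rw [hedef]
    show RatFunc.C (b.1 : k) / (RatFunc.X * (RatFunc.X - RatFunc.C (b.1 : k))) =
      (RatFunc.X - RatFunc.C (b.1 : k))⁻¹ ^ (0 + 1) - (RatFunc.X - RatFunc.C (0 : k))⁻¹ ^ (0 + 1)
    rw [map_zero, sub_zero, zero_add, pow_one, pow_one]
    exact pf_inr_eq b.1.1
  have hi1 : ∀ a a₀, i1 a = i1 a₀ ↔ a = a₀ := by
    intro a a₀
    constructor
    · intro h
      have e1 : a.1.1 = a₀.1.1 := congrArg (fun x => x.1) h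
      have e2 : a.1.2 = a₀.1.2 := congrArg (fun x => (x.2 : ℕ)) h
      exact Subtype.ext (Prod.ext e1 e2)
    · rintro rfl
      rfl
  haveI : Finite {a : ↥B × ℕ // 1 ≤ a.2 ∧ 2 * a.2 + 1 ≤ d (a.1 : k)} :=
    Finite.of_injective i1 (fun a a₀ h => (hi1 a a₀).mp h)
  haveI := Fintype.ofFinite {a : ↥B × ℕ // 1 ≤ a.2 ∧ 2 * a.2 + 1 ≤ d (a.1 : k)}
  rw [Fintype.linearIndependent_iff]
  intro g hg
  obtain ⟨l, hldef⟩ : ∃ l : (Σ α : ↥B, Fin (pfN B d α)) →₀ k, l =
    ∑ a, Finsupp.single (i1 a) (g (Sum.inl a)) +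
      ∑ b, (Finsupp.single (i2 b) (g (Sum.inr b)) - Finsupp.single z0 (g (Sum.inr b))) :=
    ⟨_, rfl⟩
  have hl : Finsupp.linearCombination k e l = 0 := by
    rw [← hg, Fintype.sum_sum_type, hldef]
    simp only [map_add, map_sum, map_sub, Finsupp.linearCombination_single, h1, h2, smul_sub]
  have hl0 : l = 0 := linearIndependent_iff.mp he l hl
  have hi21 : ∀ b a₀, i2 b ≠ i1 a₀ := by
    intro b a₀ h
    have e2 : 0 = a₀.1.2 := congrArg (fun x => (x.2 : ℕ)) h
    have := a₀.2.1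
    omega
  have hz1 : ∀ a₀, z0 ≠ i1 a₀ := by
    intro a₀ h
    have e2 : 0 = a₀.1.2 := congrArg (fun x => (x.2 : ℕ)) h
    have := a₀.2.1
    omega
  have hi12 : ∀ a b₀, i1 a ≠ i2 b₀ := fun a b₀ h => hi21 b₀ a h.symm
  have hi2 : ∀ b b₀, i2 b = i2 b₀ ↔ b = b₀ := by
    intro b b₀
    constructor
    · intro h
      have e1 : b.1 = b₀.1 := congrArg (fun x => x.1) h
      exact Subtype.ext e1
    · rintro rfl
      rfl
  have hz2 : ∀ b₀, z0 ≠ i2 b₀ := by
    intro b₀ h
    have e1 : (⟨0, h0⟩ : ↥B) = b₀.1 := congrArg (fun x => x.1) h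
    exact b₀.2 (congrArg Subtype.val e1).symm
  intro i
  rcases i with a₀ | b₀
  · have := DFunLike.congr_fun hl0 (i1 a₀)
    rw [hldef] at this
    simp only [Finsupp.coe_add, Pi.add_apply, Finsupp.coe_finsetSum, Finset.sum_apply,
      Finsupp.coe_sub, Pi.sub_apply, Finsupp.single_apply, Finsupp.coe_zero, Pi.zero_apply,
      hi1, hi21, hz1, if_false, sub_zero, Finset.sum_const_zero, add_zero,
      Finset.sum_ite_eq', Finset.mem_univ, if_true] at this
    exact this
  · have := DFunLike.congr_fun hl0 (i2 b₀)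
    rw [hldef] at this
    simp only [Finsupp.coe_add, Pi.add_apply, Finsupp.coe_finsetSum, Finset.sum_apply,
      Finsupp.coe_sub, Pi.sub_apply, Finsupp.single_apply, Finsupp.coe_zero, Pi.zero_apply,
      hi12, hi2, hz2, if_false, sub_zero, Finset.sum_const_zero, zero_add,
      Finset.sum_ite_eq', Finset.mem_univ, if_true] at this
    exact this

theorem pf_sum_mem_span (t : (Σ α : ↥B, Fin (pfN B d α)) → k) :
    ∑ x : (Σ α : ↥B, Fin (pfN B d α)),
        t x • ((RatFunc.X : RatFunc k) - RatFunc.C (x.1 : k))⁻¹ ^ ((x.2 : ℕ) + 1) ∈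
      Submodule.span k (Set.range (pfFam B d)) ⊔
        Submodule.span k {(RatFunc.X : RatFunc k)⁻¹} := by
  apply Submodule.sum_mem
  intro x _
  apply Submodule.smul_mem
  obtain ⟨α, ⟨j, hj⟩⟩ := x
  have hj' : j < (d (α : k) - 1) / 2 + 1 := hj
  show ((RatFunc.X : RatFunc k) - RatFunc.C (α : k))⁻¹ ^ (j + 1) ∈ _
  by_cases hj0 : j = 0
  · subst hj0
    rw [zero_add, pow_one]
    by_cases hα : (α : k) = 0
    · apply Submodule.mem_sup_right
      rw [hα, map_zero, sub_zero]
      exact Submodule.mem_span_singleton_self _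
    · have e1 : ((RatFunc.X : RatFunc k) - RatFunc.C (α : k))⁻¹ =
          pfFam B d (Sum.inr ⟨α, hα⟩) + (RatFunc.X : RatFunc k)⁻¹ := by
        show _ = RatFunc.C (α : k) / (RatFunc.X * (RatFunc.X - RatFunc.C (α : k))) + _
        rw [pf_inr_eq, sub_add_cancel]
      rw [e1]
      exact add_mem (Submodule.mem_sup_left (Submodule.subset_span ⟨_, rfl⟩))
        (Submodule.mem_sup_right (Submodule.mem_span_singleton_self _))
  · apply Submodule.mem_sup_left
    apply Submodule.subset_span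
    exact ⟨Sum.inl ⟨(α, j), ⟨by show 1 ≤ j; omega, by show 2 * j + 1 ≤ d (α : k); omega⟩⟩, rfl⟩

end PFFam

section BSetup

variable {k : Type u} [Field k] {f : RatFunc k} {B : Finset k} {d : k → ℕ}
  (hd : ∀ α ∈ B, Odd (d α))
  (hpole : ∀ (p : Place k (RatFunc k)) (α : k), α ∈ B →
    p.1 ((RatFunc.X : RatFunc k) - RatFunc.C α) < 1 → p.ord f = -(d α : ℤ))
  (hint : ∀ p : Place k (RatFunc k),
    (∀ α ∈ B, 1 ≤ p.1 ((RatFunc.X : RatFunc k) - RatFunc.C α)) → p.1 f ≤ 1)

include hd hpole hint in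
theorem asB_odd (p : Place k (RatFunc k)) (hp : p.ord f < 0) : Odd (p.ord f) := by
  have hf0 : f ≠ 0 := by
    rintro rfl
    rw [Place.ord_zero] at hp
    exact lt_irrefl _ hp
  have h1 : 1 < p.1 f := (Place.ord_neg_iff p hf0).mp hp
  by_contra hodd
  have : ∀ α ∈ B, 1 ≤ p.1 ((RatFunc.X : RatFunc k) - RatFunc.C α) := by
    intro α hα
    by_contra hlt
    rw [not_le] at hlt
    apply hodd
    rw [hpole p α hα hlt]
    obtain ⟨m, hm⟩ := hd α hα
    exact ⟨-(m : ℤ) - 1, by rw [hm]; push_cast; ring⟩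
  exact absurd (hint p this) (not_le.mpr h1)

include hd hpole in
theorem asB_asDiv_of_lt (p : Place k (RatFunc k)) {α : k} (hα : α ∈ B)
    (h : p.1 ((RatFunc.X : RatFunc k) - RatFunc.C α) < 1) :
    asDiv f p = (((d α - 1) / 2 + 1 : ℕ) : ℤ) := by
  rw [asDiv_apply, hpole p α hα h]
  obtain ⟨m, hm⟩ := hd α hα
  rw [if_pos (by omega)]
  omega

include hint in
theorem asB_asDiv_of_le (p : Place k (RatFunc k))
    (h : ∀ α ∈ B, 1 ≤ p.1 ((RatFunc.X : RatFunc k) - RatFunc.C α)) :
    asDiv f p = 0 := by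
  rw [asDiv_apply, if_neg]
  rw [not_lt]
  exact Place.ord_nonneg_of_val_le_one p (hint p h)

theorem asCanon_apply_fin (p : Place k (RatFunc k)) (hX : p.1 (RatFunc.X : RatFunc k) ≤ 1) :
    asCanon f p = asDiv f p := by
  unfold asCanon
  rw [Finsupp.coe_sub, Pi.sub_apply, Finsupp.smul_apply, polesDiv_X_apply_of_le p hX]
  simp

include hint in
theorem asB_asCanon_inf (p : Place k (RatFunc k)) (hX : 1 < p.1 (RatFunc.X : RatFunc k)) :
    asCanon f p = -2 := by
  unfold asCanon
  rw [Finsupp.coe_sub, Pi.sub_apply, Finsupp.smul_apply, polesDiv_X_apply_of_lt p hX,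
    asB_asDiv_of_le hint p]
  · simp
  · intro α _
    rw [Place.val_X_sub_C_inf p hX α, ← WithZero.exp_zero, WithZero.exp_le_exp]
    norm_num

include hd hpole hint in
/-- Membership in `L` of the canonical divisor, place by place. -/
theorem asB_mem_L_asCanon_iff (z : RatFunc k) :
    z ∈ L (asCanon f) ↔
      (∀ p : Place k (RatFunc k), 1 < p.1 (RatFunc.X : RatFunc k) →
        p.1 z ≤ WithZero.exp (-2 : ℤ)) ∧
      (∀ p : Place k (RatFunc k), p.1 (RatFunc.X : RatFunc k) ≤ 1 →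
        p.1 z ≤ WithZero.exp (asDiv f p)) := by
  constructor
  · intro hz
    refine ⟨fun p hp => ?_, fun p hp => ?_⟩
    · have := hz p
      rwa [asB_asCanon_inf hint p hp] at this
    · have := hz p
      rwa [asCanon_apply_fin p hp] at this
  · rintro ⟨h1, h2⟩ p
    by_cases hX : p.1 (RatFunc.X : RatFunc k) ≤ 1
    · rw [asCanon_apply_fin p hX]
      exact h2 p hX
    · rw [not_le] at hX
      rw [asB_asCanon_inf hint p hX]
      exact h1 p hX

theorem asDiv_nonneg (p : Place k (RatFunc k)) : 0 ≤ asDiv f p := by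
  rw [asDiv_apply]
  split_ifs with h
  · omega
  · exact le_rfl

include hd hpole in
/-- The simple fractions at finite places. -/
theorem asB_val_inv_pow_fin (p : Place k (RatFunc k)) (hX : p.1 (RatFunc.X : RatFunc k) ≤ 1)
    {α : k} (hα : α ∈ B) {m : ℕ} (hm : m ≤ (d α - 1) / 2 + 1) :
    p.1 (((RatFunc.X : RatFunc k) - RatFunc.C α)⁻¹ ^ m) ≤ WithZero.exp (asDiv f p) := by
  by_cases hlt : p.1 ((RatFunc.X : RatFunc k) - RatFunc.C α) < 1
  · rw [val_inv_pow_of_eq p.1 (Place.val_X_sub_C_of_lt p α hlt) m,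
      asB_asDiv_of_lt hd hpole p hα hlt, WithZero.exp_le_exp]
    push_cast
    have : (m : ℤ) ≤ ((d α - 1) / 2 + 1 : ℕ) := by exact_mod_cast hm
    push_cast at this
    linarith
  · rw [not_lt] at hlt
    have h1 : p.1 ((RatFunc.X : RatFunc k) - RatFunc.C α) = 1 :=
      le_antisymm (Place.val_X_sub_C_le_one p hX α) hlt
    rw [map_pow, map_inv₀, h1, inv_one, one_pow, ← WithZero.exp_zero, WithZero.exp_le_exp]
    exact asDiv_nonneg p

end BSetup

section Main

variable {k : Type u} [Field k] {f : RatFunc k} {B : Finset k} {d : k → ℕ}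
  (hd : ∀ α ∈ B, Odd (d α))
  (hpole : ∀ (p : Place k (RatFunc k)) (α : k), α ∈ B →
    p.1 ((RatFunc.X : RatFunc k) - RatFunc.C α) < 1 → p.ord f = -(d α : ℤ))
  (hint : ∀ p : Place k (RatFunc k),
    (∀ α ∈ B, 1 ≤ p.1 ((RatFunc.X : RatFunc k) - RatFunc.C α)) → p.1 f ≤ 1)

include hd hpole hint in
theorem asB_pfFam_mem_L (h0 : (0 : k) ∈ B) (i) : pfFam B d i ∈ L (asCanon f) := by
  rw [asB_mem_L_asCanon_iff hd hpole hint]
  rcases i with a | b
  · obtain ⟨⟨⟨α, hα⟩, j⟩, hj1, hj2⟩ := a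
    have hj1' : 1 ≤ j := hj1
    have hj2' : 2 * j + 1 ≤ d α := hj2
    show (∀ p : Place k (RatFunc k), _ →
      p.1 (((RatFunc.X : RatFunc k) - RatFunc.C α)⁻¹ ^ (j + 1)) ≤ _) ∧
      (∀ p : Place k (RatFunc k), _ →
      p.1 (((RatFunc.X : RatFunc k) - RatFunc.C α)⁻¹ ^ (j + 1)) ≤ _)
    constructor
    · intro p hp
      rw [val_inv_pow_of_eq p.1 (Place.val_X_sub_C_inf p hp α) (j + 1), WithZero.exp_le_exp]
      push_cast
      omega
    · intro p hp
      exact asB_val_inv_pow_fin hd hpole p hp hα (by omega)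
  · obtain ⟨⟨b, hbB⟩, hb⟩ := b
    have hb' : b ≠ 0 := hb
    show (∀ p : Place k (RatFunc k), _ →
      p.1 (RatFunc.C b / ((RatFunc.X : RatFunc k) * (RatFunc.X - RatFunc.C b))) ≤ _) ∧
      (∀ p : Place k (RatFunc k), _ →
      p.1 (RatFunc.C b / ((RatFunc.X : RatFunc k) * (RatFunc.X - RatFunc.C b))) ≤ _)
    constructor
    · intro p hp
      rw [map_div₀, map_mul, Place.val_X_inf p hp, Place.val_X_sub_C_inf p hp b,
        ← RatFunc.algebraMap_eq_C, Place.val_algebraMap_eq_one p hb', ← WithZero.exp_add, one_div,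
        ← WithZero.exp_neg]
      norm_num
    · intro p hp
      rw [pf_inr_eq]
      apply le_trans (Valuation.map_sub _ _ _)
      apply max_le
      · have := asB_val_inv_pow_fin hd hpole p hp hbB (m := 1) (by omega)
        rwa [pow_one] at this
      · have := asB_val_inv_pow_fin hd hpole p hp h0 (m := 1) (by omega)
        rwa [pow_one, map_zero, sub_zero] at this

include hd hpole hint in
/-- Every element of `L` of the canonical divisor is a combination of the partial fractions. -/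
theorem asB_mem_span (h0 : (0 : k) ∈ B) {a : RatFunc k} (ha : a ∈ L (asCanon f)) :
    a ∈ Submodule.span k (Set.range (pfFam B d)) := by
  classical
  have hR := isFunctionField_ratFunc (k := k)
  obtain ⟨ha1, ha2⟩ := (asB_mem_L_asCanon_iff hd hpole hint a).mp ha
  obtain ⟨q, hq⟩ : ∃ q : k[X],
      q = ∏ α : ↥B, (Polynomial.X - Polynomial.C (α : k)) ^ pfN B d α := ⟨_, rfl⟩
  have hq0 : q ≠ 0 := by
    rw [hq]
    exact Finset.prod_ne_zero_iff.mpr (fun α _ => pow_ne_zero _ (X_sub_C_ne_zero _))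
  have hιq : algebraMap k[X] (RatFunc k) q =
      ∏ α : ↥B, ((RatFunc.X : RatFunc k) - RatFunc.C (α : k)) ^ pfN B d α := by
    rw [hq, map_prod]
    apply Finset.prod_congr rfl
    intro α _
    rw [map_pow, ← ratFunc_X_sub_C]
  have hιq0 : algebraMap k[X] (RatFunc k) q ≠ 0 :=
    (_root_.map_ne_zero_iff _ (RatFunc.algebraMap_injective k)).mpr hq0
  have h1 : a * algebraMap k[X] (RatFunc k) q ∈
      L ((q.natDegree : ℤ) • polesDiv k (RatFunc.X : RatFunc k)) := by
    intro p
    rw [Finsupp.smul_apply, smul_eq_mul, map_mul]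
    by_cases hX : p.1 (RatFunc.X : RatFunc k) ≤ 1
    · rw [polesDiv_X_apply_of_le p hX, mul_zero, WithZero.exp_zero]
      have hqle : p.1 (algebraMap k[X] (RatFunc k) q) ≤ 1 := Place.val_polynomial_le_one p hX q
      by_cases hex : ∃ α ∈ B, p.1 ((RatFunc.X : RatFunc k) - RatFunc.C α) < 1
      · obtain ⟨α, hα, hlt⟩ := hex
        have h3 := ha2 p hX
        rw [asB_asDiv_of_lt hd hpole p hα hlt] at h3
        have h4 : p.1 (algebraMap k[X] (RatFunc k) q) ≤
            WithZero.exp (-(((d α - 1) / 2 + 1 : ℕ) : ℤ)) := by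
          rw [hιq, map_prod,
            ← Finset.mul_prod_erase Finset.univ _ (Finset.mem_univ (⟨α, hα⟩ : ↥B))]
          calc _ ≤ p.1 (((RatFunc.X : RatFunc k) - RatFunc.C α) ^ pfN B d ⟨α, hα⟩) * 1 := by
                apply mul_le_mul' le_rfl
                apply Finset.prod_le_one'
                intro β _
                rw [map_pow]
                exact pow_le_one' (Place.val_X_sub_C_le_one p hX _) _
            _ = _ := by
                rw [mul_one, map_pow, Place.val_X_sub_C_of_lt p α hlt, ← WithZero.exp_nsmul]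
                congr 1
                simp [pfN]
        calc p.1 a * p.1 (algebraMap k[X] (RatFunc k) q)
            ≤ WithZero.exp (((d α - 1) / 2 + 1 : ℕ) : ℤ) *
                WithZero.exp (-(((d α - 1) / 2 + 1 : ℕ) : ℤ)) := mul_le_mul' h3 h4
          _ = 1 := by rw [← WithZero.exp_add, add_neg_cancel, WithZero.exp_zero]
      · push Not at hex
        have h3 := ha2 p hX
        rw [asB_asDiv_of_le hint p hex, WithZero.exp_zero] at h3
        exact mul_le_one' h3 hqle
    · rw [not_le] at hX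
      rw [polesDiv_X_apply_of_lt p hX, mul_one]
      have hpX : p.ord (RatFunc.X : RatFunc k) < 0 :=
        (Place.ord_neg_iff p RatFunc.X_ne_zero).mpr hX
      rw [Place.val_eq_exp_neg_ord p hιq0, Place.infinity_ord_polynomial p hpX hq0, neg_neg]
      have hle1 : p.1 a ≤ 1 := by
        apply le_trans (ha1 p hX)
        rw [← WithZero.exp_zero, WithZero.exp_le_exp]
        norm_num
      calc p.1 a * WithZero.exp (q.natDegree : ℤ) ≤ 1 * WithZero.exp (q.natDegree : ℤ) :=
            mul_le_mul' hle1 le_rfl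
        _ = _ := one_mul _
  obtain ⟨r, -, hr⟩ := RatFunc.mem_L_polesDiv_X h1
  have ha_eq : a = algebraMap k[X] (RatFunc k) r *
      ∏ α : ↥B, ((RatFunc.X : RatFunc k) - RatFunc.C (α : k))⁻¹ ^ pfN B d α := by
    have : (∏ α : ↥B, ((RatFunc.X : RatFunc k) - RatFunc.C (α : k))⁻¹ ^ pfN B d α) =
        (algebraMap k[X] (RatFunc k) q)⁻¹ := by
      rw [hιq, ← Finset.prod_inv_distrib]
      apply Finset.prod_congr rfl
      intro α _
      rw [inv_pow]
    rw [this, ← hr, mul_inv_cancel_right₀ hιq0]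
  obtain ⟨quo, t, ht⟩ := pf_exists B (pfN B d) r
  rw [← ha_eq] at ht
  have hs := pf_sum_mem_span B d t
  obtain ⟨s, hs, u, hu, hsu⟩ := Submodule.mem_sup.mp hs
  obtain ⟨c, rfl⟩ := Submodule.mem_span_singleton.mp hu
  have hsL : s ∈ L (asCanon f) := by
    have : Submodule.span k (Set.range (pfFam B d)) ≤ L (asCanon f) := by
      rw [Submodule.span_le]
      rintro _ ⟨i, rfl⟩
      exact asB_pfFam_mem_L hd hpole hint h0 i
    exact this hs
  have hdiff : algebraMap k[X] (RatFunc k) quo + c • (RatFunc.X : RatFunc k)⁻¹ ∈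
      L (asCanon f) := by
    have : algebraMap k[X] (RatFunc k) quo + c • (RatFunc.X : RatFunc k)⁻¹ = a - s := by
      rw [ht, ← hsu]
      ring
    rw [this]
    exact sub_mem ha hsL
  have hXc : (RatFunc.X : RatFunc k) ∉ Set.range (algebraMap k (RatFunc k)) :=
    not_mem_range_of_transcendental RatFunc.transcendental_X
  obtain ⟨pinf, hpinf⟩ := exists_pole hR hXc
  have hpgt : 1 < pinf.1 (RatFunc.X : RatFunc k) :=
    (Place.ord_neg_iff pinf RatFunc.X_ne_zero).mp hpinf
  have h5 := ((asB_mem_L_asCanon_iff hd hpole hint _).mp hdiff).1 pinf hpgt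
  obtain ⟨w, hw⟩ : ∃ w : k[X], w = quo * Polynomial.X + Polynomial.C c := ⟨_, rfl⟩
  have hιw : algebraMap k[X] (RatFunc k) w =
      (algebraMap k[X] (RatFunc k) quo + c • (RatFunc.X : RatFunc k)⁻¹) * RatFunc.X := by
    rw [hw, map_add, map_mul, RatFunc.algebraMap_X, RatFunc.algebraMap_C, add_mul,
      Algebra.smul_def, RatFunc.algebraMap_eq_C, mul_assoc,
      inv_mul_cancel₀ RatFunc.X_ne_zero, mul_one]
  have hw0 : w = 0 := by
    by_contra hw0
    have hιw0 : algebraMap k[X] (RatFunc k) w ≠ 0 :=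
      (_root_.map_ne_zero_iff _ (RatFunc.algebraMap_injective k)).mpr hw0
    have h6 : pinf.1 (algebraMap k[X] (RatFunc k) w) ≤ WithZero.exp (-1 : ℤ) := by
      rw [hιw, map_mul, Place.val_X_inf pinf hpgt]
      calc _ ≤ WithZero.exp (-2 : ℤ) * WithZero.exp (1 : ℤ) := mul_le_mul' h5 le_rfl
        _ = WithZero.exp (-1 : ℤ) := by
          rw [← WithZero.exp_add]
          norm_num
    rw [Place.val_eq_exp_neg_ord pinf hιw0, Place.infinity_ord_polynomial pinf hpinf hw0,
      neg_neg, WithZero.exp_le_exp] at h6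
    omega
  have hc0 : c = 0 := by
    have := congrArg (fun w => Polynomial.coeff w 0) hw0
    simpa [hw] using this
  have hquo0 : quo = 0 := by
    rw [hw, hc0, map_zero, add_zero] at hw0
    exact (mul_eq_zero.mp hw0).resolve_right Polynomial.X_ne_zero
  rw [hquo0, map_zero, zero_add] at ht
  rw [ht, ← hsu, hc0, zero_smul, add_zero]
  exact hs

end Main

section Glue

variable {k : Type u} {K : Type v} [Field k] [Field K] [Algebra k K] [Algebra (RatFunc k) K]
  [IsScalarTower k (RatFunc k) K]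

variable {y : K} {f : RatFunc k} (heq : y ^ 2 + y = algebraMap (RatFunc k) K f)

include heq in
theorem as_regular_of_mem_L [PerfectField k] [Algebra.IsSeparable (RatFunc k) K]
    (h2 : ringChar k = 2) (hdeg : Module.finrank (RatFunc k) K = 2)
    (hy : y ∉ Set.range (algebraMap (RatFunc k) K))
    (hodd : ∀ p : Place k (RatFunc k), p.ord f < 0 → Odd (p.ord f))
    {z : RatFunc k} (hz : z ∈ L (asCanon f))
    (P : Place k K) {F : Type w} [Field F] [Algebra k F] (φ : K →ₐ[k] LaurentSeries F)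
    (hφ : LocRes.IsExpansionAt P.1 φ) :
    LocRes.vDiff φ (algebraMap (RatFunc k) K z) (algebraMap (RatFunc k) K RatFunc.X) ≤ 1 := by
  haveI := finiteDimensional_of_finrank_two hdeg
  apply (as_vDiff_le_one_iff heq h2 hdeg hy hodd P φ hφ _).mpr
  have h4 := as_mem_L_of heq hdeg hodd (asCanon f) hz (zero_mem _)
  rw [map_zero, zero_mul, add_zero] at h4
  exact h4 P

include heq in
theorem as_mem_L_of_regular [PerfectField k] [Algebra.IsSeparable (RatFunc k) K]
    (h2 : ringChar k = 2) (hdeg : Module.finrank (RatFunc k) K = 2)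
    (hy : y ∉ Set.range (algebraMap (RatFunc k) K))
    (hodd : ∀ p : Place k (RatFunc k), p.ord f < 0 → Odd (p.ord f))
    (F : Place k K → Type w) [∀ P, Field (F P)] [∀ P, Algebra k (F P)]
    (φ : ∀ P, K →ₐ[k] LaurentSeries (F P)) (hφ : ∀ P, LocRes.IsExpansionAt P.1 (φ P))
    {z : K} (hz : ∀ P, LocRes.vDiff (φ P) z (algebraMap (RatFunc k) K RatFunc.X) ≤ 1) :
    ∃ a ∈ L (asCanon f), z = algebraMap (RatFunc k) K a := by
  haveI := finiteDimensional_of_finrank_two hdeg
  have hR := isFunctionField_ratFunc (k := k)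
  have hzL : z ∈ L (conorm K (asCanon f)) := fun P =>
    (as_vDiff_le_one_iff heq h2 hdeg hy hodd P (φ P) (hφ P) z).mp (hz P)
  obtain ⟨a', b, rfl⟩ := span_of_not_mem_range hdeg hy z
  obtain ⟨ha, hb⟩ := as_mem_L_imp heq h2 hdeg hy hodd (asCanon f) hzL
  have hb0 : b = 0 := by
    have hdegneg : (asCanon f - asDiv f).deg < 0 := by
      unfold asCanon
      rw [sub_sub_cancel_left, deg_neg, deg_zsmul, deg_polesDiv hR RatFunc.transcendental_X,
        RatFunc.adjoin_X, IntermediateField.finrank_top]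
      norm_num
    rw [L_eq_bot_of_deg_neg hR hdegneg, Submodule.mem_bot] at hb
    exact hb
  refine ⟨a', ha, ?_⟩
  rw [hb0, map_zero, zero_mul, add_zero]

end Glue

section S19044

/-- **S19044**: the partial-fraction basis of the regular differentials of an Artin–Schreier
function field in characteristic two. -/
theorem asB_regular_basis (k : Type u) (K : Type v)
    [Field k] [IsAlgClosed k] [CharP k 2] [Field K] [Algebra k K] [Algebra (RatFunc k) K]
    [IsScalarTower k (RatFunc k) K]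
    (hdeg : Module.finrank (RatFunc k) K = 2) [Algebra.IsSeparable (RatFunc k) K]
    (y : K) (hy : y ∉ Set.range (algebraMap (RatFunc k) K)) (f : RatFunc k)
    (heq : y ^ 2 + y = algebraMap (RatFunc k) K f)
    (B : Finset k) (h0 : (0 : k) ∈ B) (d : k → ℕ) (hd : ∀ α ∈ B, Odd (d α))
    (hpole : ∀ (p : FunFld.Place k (RatFunc k)) (α : k), α ∈ B →
      p.1 ((RatFunc.X : RatFunc k) - RatFunc.C α) < 1 → p.ord f = -(d α : ℤ))
    (hint : ∀ p : FunFld.Place k (RatFunc k),
      (∀ α ∈ B, 1 ≤ p.1 ((RatFunc.X : RatFunc k) - RatFunc.C α)) → p.1 f ≤ 1)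
    (F : FunFld.Place k K → Type w) [∀ P, Field (F P)] [∀ P, Algebra k (F P)]
    (φ : ∀ P, K →ₐ[k] LaurentSeries (F P)) (hφ : ∀ P, LocRes.IsExpansionAt P.1 (φ P)) :
    (∀ i P, LocRes.vDiff (φ P) (algebraMap (RatFunc k) K (pfFam B d i))
      (algebraMap (RatFunc k) K RatFunc.X) ≤ 1) ∧
    LinearIndependent k (fun i => algebraMap (RatFunc k) K (pfFam B d i)) ∧
    ∀ z : K, (∀ P, LocRes.vDiff (φ P) z (algebraMap (RatFunc k) K RatFunc.X) ≤ 1) →
      z ∈ Submodule.span k (Set.range (fun i => algebraMap (RatFunc k) K (pfFam B d i))) := by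
  have h2 : ringChar k = 2 := ringChar.eq k 2
  have hodd := asB_odd hd hpole hint
  obtain ⟨ι, hι⟩ : ∃ ι : RatFunc k →ₗ[k] K, ∀ u, ι u = algebraMap (RatFunc k) K u :=
    ⟨(IsScalarTower.toAlgHom k (RatFunc k) K).toLinearMap, fun u => rfl⟩
  have hιinj : Function.Injective ι := by
    intro u v huv
    rw [hι, hι] at huv
    exact (algebraMap (RatFunc k) K).injective huv
  have efam : (fun i => algebraMap (RatFunc k) K (pfFam B d i)) = ι ∘ pfFam B d := by
    funext i
    exact (hι _).symm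
  refine ⟨?_, ?_, ?_⟩
  · intro i P
    exact as_regular_of_mem_L heq h2 hdeg hy hodd (asB_pfFam_mem_L hd hpole hint h0 i) P (φ P)
      (hφ P)
  · rw [efam]
    exact (pfFam_linearIndependent B d h0).map' ι (LinearMap.ker_eq_bot.mpr hιinj)
  · intro z hz
    obtain ⟨a, ha, rfl⟩ := as_mem_L_of_regular heq h2 hdeg hy hodd F φ hφ hz
    have h1 := asB_mem_span hd hpole hint h0 ha
    have h3 : ι a ∈ Submodule.map ι (Submodule.span k (Set.range (pfFam B d))) :=
      Submodule.mem_map_of_mem h1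
    rw [Submodule.map_span, ← Set.range_comp] at h3
    rw [← hι, efam]
    exact h3

end S19044

end FF

end Groth.Agent.Lib.helper10
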