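import Groth.Agent.Lib.Helper10.ASB1

/-!
Artin–Schreier function fields `y² + y = f` with prescribed odd poles at a finite set `B ⊆ k`
(helper10), part 2: repartition classes modulo `A(0) + K` (S19047).
-/

set_option autoImplicit false
set_option linter.unusedSectionVars false
set_option linter.style.haveILetI false

universe u v w

open FunFld Polynomial

namespace Groth.Agent.Lib.helper10

namespace FF

section PP

variable {k : Type u} [Field k]

theorem single_mem_adele {F : Type*} [Field F] [Algebra k F] [DecidableEq (Place k F)]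
    (P : Place k F) (u : F) : (Pi.single P u : Place k F → F) ∈ adele k F := by
  rw [mem_adele_iff]
  apply (Set.finite_singleton P).subset
  intro P' hP'
  by_contra hne
  apply hP'
  rw [Pi.single_eq_of_ne hne, Valuation.map_zero]
  exact zero_le_one

/-- Genus zero: every principal part at one place is the principal part of a function regular
elsewhere. -/
theorem ratFunc_principal_part (p : Place k (RatFunc k)) (u : RatFunc k) :
    ∃ g : RatFunc k, p.1 (u - g) ≤ 1 ∧ ∀ p' : Place k (RatFunc k), p' ≠ p → p'.1 g ≤ 1 := by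
  classical
  have hR := isFunctionField_ratFunc (k := k)
  have hA : AD (0 : Divisor k (RatFunc k)) ⊔ XK k (RatFunc k) = adele k (RatFunc k) :=
    AD_sup_XK_eq_adele hR (by
      unfold delta
      rw [deg_zero, ell_zero hR, genus_ratFunc]
      norm_num)
  have hmem := single_mem_adele p u
  rw [← hA] at hmem
  obtain ⟨a, ha, _, ⟨g, rfl⟩, hag⟩ := Submodule.mem_sup.mp hmem
  refine ⟨g, ?_, ?_⟩
  · have h1 := ha p
    have e := congrFun hag p
    rw [Pi.add_apply, diag_apply, Pi.single_eq_same] at e
    rw [Finsupp.coe_zero, Pi.zero_apply, WithZero.exp_zero] at h1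
    rwa [← e, add_sub_cancel_right]
  · intro p' hne
    have h1 := ha p'
    have e := congrFun hag p'
    rw [Pi.add_apply, diag_apply, Pi.single_eq_of_ne hne] at e
    rw [Finsupp.coe_zero, Pi.zero_apply, WithZero.exp_zero] at h1
    have : g = -a p' := by linear_combination e
    rw [this, Valuation.map_neg]
    exact h1

variable {K : Type v} [Field K] [Algebra k K] [Algebra (RatFunc k) K]
  [IsScalarTower k (RatFunc k) K] [FiniteDimensional (RatFunc k) K]

/-- A repartition supported at the unique place above `p` with value in `k(x)` is trivial modulo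
`A(0) + K`. -/
theorem single_algebraMap_mem [DecidableEq (Place k K)] {P : Place k K}
    {p : Place k (RatFunc k)} {e : ℕ}
    (he : IsOverWith P p e) (huniq : ∀ P' : Place k K, IsOver P' p → P' = P) (u : RatFunc k) :
    (Pi.single P (algebraMap (RatFunc k) K u) : Place k K → K) ∈
      AD (0 : Divisor k K) ⊔ LinearMap.range (diag k K) := by
  have hR := isFunctionField_ratFunc (k := k)
  obtain ⟨g, hg1, hg2⟩ := ratFunc_principal_part p u
  have e1 : (Pi.single P (algebraMap (RatFunc k) K u) : Place k K → K) =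
      (Pi.single P (algebraMap (RatFunc k) K u) - diag k K (algebraMap (RatFunc k) K g)) +
        diag k K (algebraMap (RatFunc k) K g) := by
    rw [sub_add_cancel]
  rw [e1]
  refine add_mem (Submodule.mem_sup_left ?_) (Submodule.mem_sup_right ⟨_, rfl⟩)
  intro P'
  rw [Finsupp.coe_zero, Pi.zero_apply, WithZero.exp_zero, Pi.sub_apply, diag_apply]
  by_cases hP' : P' = P
  · subst hP'
    rw [Pi.single_eq_same, ← map_sub, he]
    exact pow_le_one' hg1 e
  · rw [Pi.single_eq_of_ne hP', zero_sub, Valuation.map_neg]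
    obtain ⟨p', e', he'⟩ := exists_place_under hR P'
    rw [he']
    apply pow_le_one'
    apply hg2
    rintro rfl
    exact hP' (huniq P' ⟨e', he'⟩)

end PP

section Frob

variable {k : Type u} {K : Type v} [Field k] [Field K] [Algebra k K] [Algebra (RatFunc k) K]
  [IsScalarTower k (RatFunc k) K]

/-- **S19047**: Frobenius on the repartition classes of an Artin–Schreier function field. -/
theorem asB_frobenius [Algebra.IsSeparable (RatFunc k) K] [DecidableEq (Place k K)]
    (h2 : ringChar k = 2)
    (hdeg : Module.finrank (RatFunc k) K = 2)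
    (y : K) (hy : y ∉ Set.range (algebraMap (RatFunc k) K)) (f : RatFunc k)
    (heq : y ^ 2 + y = algebraMap (RatFunc k) K f)
    (B : Finset k) (d : k → ℕ) (hd : ∀ β ∈ B, Odd (d β))
    (hpole : ∀ (p : FunFld.Place k (RatFunc k)) (β : k), β ∈ B →
      p.1 ((RatFunc.X : RatFunc k) - RatFunc.C β) < 1 → p.ord f = -(d β : ℤ))
    (P : Place k K) (α : k) (hα : α ∈ B)
    (hP : P.1 ((algebraMap (RatFunc k) K RatFunc.X) - (algebraMap k K α)) < 1) (j : ℕ) :
    ((Pi.single P ((y * ((algebraMap (RatFunc k) K RatFunc.X) - (algebraMap k K α)) ^ j) ^ 2) :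
        FunFld.Place k K → K) -
      (Pi.single P (y * ((algebraMap (RatFunc k) K RatFunc.X) - (algebraMap k K α)) ^ (2 * j)) :
        FunFld.Place k K → K) ∈
        (FunFld.AD (0 : FunFld.Divisor k K) ⊔ LinearMap.range (FunFld.diag k K))) ∧
    (d α < 4 * j + 1 →
      (Pi.single P ((y * ((algebraMap (RatFunc k) K RatFunc.X) - (algebraMap k K α)) ^ j) ^ 2) :
        FunFld.Place k K → K) ∈
        (FunFld.AD (0 : FunFld.Divisor k K) ⊔ LinearMap.range (FunFld.diag k K))) := by
  haveI := finiteDimensional_of_finrank_two hdeg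
  have hR := isFunctionField_ratFunc (k := k)
  obtain ⟨p, e, he⟩ := exists_place_under hR P
  rw [algebraMap_X_sub_C] at hP ⊢
  have hp : p.1 ((RatFunc.X : RatFunc k) - RatFunc.C α) < 1 := (isOverWith_lt_one_iff he _).mp hP
  have hpf := hpole p α hα hp
  obtain ⟨m, hm⟩ := hd α hα
  have hneg : p.ord f < 0 := by rw [hpf]; omega
  have hodd : Odd (p.ord f) := by
    rw [hpf]
    exact ⟨-(m : ℤ) - 1, by rw [hm]; push_cast; ring⟩
  obtain ⟨he2, hy1, hy0⟩ := as_ramified heq hdeg he hneg hodd
  subst he2
  have hplaces := (artin_schreier_places h2 hdeg hy heq p).1 ⟨hneg, hodd⟩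
  have huniq : ∀ P' : Place k K, IsOver P' p → P' = P := by
    intro P' hP'
    obtain ⟨Q, -, hQ⟩ := hplaces.1
    rw [hQ P' hP', hQ P ⟨2, he⟩]
  have h2K : (2 : K) = 0 := by
    haveI : CharP k 2 := ringChar.of_eq h2
    have h2k : (2 : k) = 0 := by
      have := CharP.cast_eq_zero k 2
      exact_mod_cast this
    rw [← map_ofNat (algebraMap k K) 2, h2k, map_zero]
  obtain ⟨xa, hxa⟩ : ∃ xa : K, xa = algebraMap (RatFunc k) K (RatFunc.X - RatFunc.C α) :=
    ⟨_, rfl⟩
  rw [← hxa]
  have hy2 : y ^ 2 = y + algebraMap (RatFunc k) K f := by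
    linear_combination heq - y * h2K
  have key : (y * xa ^ j) ^ 2 =
      y * xa ^ (2 * j) + algebraMap (RatFunc k) K (f * (RatFunc.X - RatFunc.C α) ^ (2 * j)) := by
    rw [mul_pow, hy2, map_mul, map_pow, ← hxa]
    ring
  have hmemf := single_algebraMap_mem he huniq (f * (RatFunc.X - RatFunc.C α) ^ (2 * j))
  constructor
  · rw [← Pi.single_sub, key, add_sub_cancel_left]
    exact hmemf
  · intro hdj
    rw [key, Pi.single_add]
    refine add_mem (Submodule.mem_sup_left ?_) hmemf
    intro P'
    rw [Finsupp.coe_zero, Pi.zero_apply, WithZero.exp_zero]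
    by_cases hP' : P' = P
    · subst hP'
      rw [Pi.single_eq_same]
      have hXα0 := ratFunc_X_sub_C_ne_zero α
      have hxa0 : xa ≠ 0 := by
        rw [hxa]
        exact (_root_.map_ne_zero _).mpr hXα0
      have hne : y * xa ^ (2 * j) ≠ 0 := mul_ne_zero hy0 (pow_ne_zero _ hxa0)
      rw [← Place.ord_nonneg_iff _ hne, Place.ord_mul _ hy0 (pow_ne_zero _ hxa0), hy1, hpf,
        Place.ord_pow', hxa, ord_algebraMap_of_isOverWith he, Place.ord_X_sub_C p α hp]
      push_cast
      omega
    · rw [Pi.single_eq_of_ne hP', Valuation.map_zero]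
      exact zero_le_one

end Frob

end FF

end Groth.Agent.Lib.helper10
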