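import Groth.Agent.Lib.Helper10.FunFld12

/-!
Function fields of one variable (helper10), part 13: repartitions (adeles), the index of
speciality `dim A/(A(D)+K) = g - δ(D)`.
-/

set_option autoImplicit false
set_option linter.unusedSectionVars false
set_option linter.style.haveILetI false

universe u v w

open IntermediateField FunFld

namespace Groth.Agent.Lib.helper10

namespace FF

open RD

variable {k : Type u} {K : Type v} [Field k] [Field K] [Algebra k K]

/-- The diagonal copy of `K` in the repartition space. -/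
abbrev XK (k : Type u) (K : Type v) [Field k] [Field K] [Algebra k K] :
    Submodule k (Place k K → K) := LinearMap.range (diag k K)

theorem diag_apply (x : K) (P : Place k K) : diag k K x P = x := rfl

theorem mem_adele_iff (a : Place k K → K) :
    a ∈ adele k K ↔ {P : Place k K | ¬ P.1 (a P) ≤ 1}.Finite := by
  change (∀ᶠ P : Place k K in Filter.cofinite, P.1 (a P) ≤ 1) ↔ _
  rw [Filter.eventually_cofinite]

theorem AD_le_adele (D : Divisor k K) : AD D ≤ adele k K := by
  intro a ha
  rw [mem_adele_iff]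
  apply (D.support.finite_toSet).subset
  intro P hP
  rw [Finset.mem_coe, Finsupp.mem_support_iff]
  intro h0
  apply hP
  have := ha P
  rwa [h0, WithZero.exp_zero] at this

theorem XK_le_adele (hK : IsFunctionField k K) : XK k K ≤ adele k K := by
  rintro _ ⟨x, rfl⟩
  rw [mem_adele_iff]
  have := poles_finite hK x
  convert this using 2
  ext P
  rw [diag_apply, not_le]

theorem AD_sup_XK_le_adele (hK : IsFunctionField k K) (D : Divisor k K) :
    AD D ⊔ XK k K ≤ adele k K :=
  sup_le (AD_le_adele D) (XK_le_adele hK)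

/-- `δ(D) = deg D + 1 - ℓ(D)`. -/
noncomputable def delta (D : Divisor k K) : ℤ := D.deg + 1 - (ell D : ℤ)

theorem relFin_L' (hK : IsFunctionField k K) {A B : Divisor k K} (hAB : A ≤ B) :
    RelFin (L A) (L B) ∧ (relDim (L A) (L B) : ℤ) = (ell B : ℤ) - ell A := by
  have h1 := relFin_L hK hAB
  have h2 := finite_of_relFin (L_mono hAB) (finiteDimensional_L hK A) h1.1
  refine ⟨h1.1, ?_⟩
  unfold ell
  rw [h2.2]
  push_cast
  ring

/-- `dim (A(B)+K)/(A(A)+K) = δ(B) - δ(A)` for `A ≤ B`. -/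
theorem relFin_AD_sup (hK : IsFunctionField k K) {A B : Divisor k K} (hAB : A ≤ B) :
    RelFin (AD A ⊔ XK k K) (AD B ⊔ XK k K) ∧
      (relDim (AD A ⊔ XK k K) (AD B ⊔ XK k K) : ℤ) = delta B - delta A := by
  have hmid := relFin_AD hK hAB
  have hf1 := relFin_of_injective (LinearMap.id : (Place k K → K) →ₗ[k] (Place k K → K))
    (U := AD A ⊓ XK k K) (W := AD B ⊓ XK k K) (U' := AD A) (W' := AD B)
    (fun x hx => hx.1) (fun x _ hx => hx.1) (fun x hx hxA => ⟨hxA, hx.2⟩) hmid.1
  have hf2 := relFin_of_surjective (LinearMap.id : (Place k K → K) →ₗ[k] (Place k K → K))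
    (U := AD A) (W := AD B) (U' := AD A ⊔ XK k K) (W' := AD B ⊔ XK k K)
    (fun x hx => Submodule.mem_sup_left hx) (fun x _ hx => Submodule.mem_sup_left hx)
    (fun y hy => by
      obtain ⟨w, hw, x, hx, rfl⟩ := Submodule.mem_sup.mp hy
      refine ⟨w, hw, ?_⟩
      simp only [LinearMap.id_coe, id_eq, add_sub_cancel_left]
      exact Submodule.mem_sup_right hx) hmid.1
  have hmod := relFin_modular (XK k K) (AD_mono hAB) hf1.1 hf2.1
  have hL := relFin_L' hK hAB
  have hbij := relFin_of_bijective (diag k K) (U := L A) (W := L B) (U' := AD A ⊓ XK k K)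
    (W' := AD B ⊓ XK k K)
    (fun x hx => ⟨fun P => hx P, ⟨x, rfl⟩⟩)
    (fun x _ hx => ⟨fun P => hx P, ⟨x, rfl⟩⟩)
    (fun x _ hx P => hx.1 P)
    (fun y hy => by
      obtain ⟨hyB, x, rfl⟩ := hy
      refine ⟨x, fun P => hyB P, ?_⟩
      rw [sub_self]
      exact Submodule.zero_mem _)
  refine ⟨hf2.1, ?_⟩
  have e1 : (relDim (AD A) (AD B) : ℤ) =
      relDim (AD A ⊓ XK k K) (AD B ⊓ XK k K) + relDim (AD A ⊔ XK k K) (AD B ⊔ XK k K) := by
    exact_mod_cast hmod.2
  rw [← hbij.2, hL.2, hmid.2] at e1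
  unfold delta
  linarith

theorem delta_le_genus' (hK : IsFunctionField k K) (D : Divisor k K) : delta D ≤ genus k K :=
  delta_le_genus hK D

theorem delta_mono' (hK : IsFunctionField k K) {A B : Divisor k K} (hAB : A ≤ B) :
    delta A ≤ delta B := by
  have := delta_mono hK hAB
  unfold delta
  linarith

/-- Every repartition lies in some `A(B₁)` with `B₁ ≥ B`. -/
theorem exists_AD_ge {a : Place k K → K} (ha : a ∈ adele k K) (B : Divisor k K) :
    ∃ B₁ : Divisor k K, B ≤ B₁ ∧ a ∈ AD B₁ := by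
  classical
  rw [mem_adele_iff] at ha
  set T := ha.toFinset with hT
  set E : Divisor k K := Finsupp.onFinset T
    (fun P => if P ∈ T then ((P.ord (a P)).natAbs : ℤ) else 0)
    (by
      intro P h
      by_contra hn
      simp [hn] at h) with hE
  have hE0 : 0 ≤ E := by
    intro P
    rw [hE, Finsupp.onFinset_apply]
    simp only [Finsupp.coe_zero, Pi.zero_apply]
    split_ifs
    · exact Int.natCast_nonneg _
    · exact le_rfl
  have hB0 : (0 : Divisor k K) ≤ B ⊔ 0 := le_sup_right
  refine ⟨(B ⊔ 0) + E, le_trans le_sup_left (le_add_of_nonneg_right hE0), fun P => ?_⟩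
  rw [Finsupp.add_apply]
  by_cases hP : P ∈ T
  · apply le_trans (Place.val_le_exp_natAbs P (a P))
    rw [WithZero.exp_le_exp, hE, Finsupp.onFinset_apply, if_pos hP]
    have := hB0 P
    simp only [Finsupp.coe_zero, Pi.zero_apply] at this
    linarith
  · have h1 : P.1 (a P) ≤ 1 := by
      by_contra hn
      exact hP (ha.mem_toFinset.mpr hn)
    apply le_trans h1
    rw [← WithZero.exp_zero, WithZero.exp_le_exp]
    have h2 := hB0 P
    have h3 := hE0 P
    simp only [Finsupp.coe_zero, Pi.zero_apply] at h2 h3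
    linarith

theorem exists_place (hK : IsFunctionField k K) : Nonempty (Place k K) := by
  obtain ⟨x, hx, -⟩ := hK.1
  obtain ⟨P, -⟩ := exists_zero hK (not_mem_range_of_transcendental hx)
  exact ⟨P⟩

/-- Above every divisor there is one with `δ = g`. -/
theorem exists_ge_delta_eq_genus (hK : IsFunctionField k K) (A : Divisor k K) :
    ∃ A₁ : Divisor k K, A ≤ A₁ ∧ delta A₁ = genus k K := by
  obtain ⟨N, hN⟩ := riemann hK
  obtain ⟨P⟩ := exists_place hK
  set m : ℕ := (N - A.deg).toNat with hm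
  have hm1 : N - A.deg ≤ m := Int.self_le_toNat _
  have hdP : (1 : ℤ) ≤ P.deg := by exact_mod_cast Place.deg_pos hK P
  refine ⟨A + Finsupp.single P (m : ℤ), ?_, ?_⟩
  · apply le_add_of_nonneg_right
    intro Q
    by_cases hQ : Q = P
    · subst hQ; simp
    · simp [Ne.symm hQ]
  · apply hN
    rw [deg_add, deg_single]
    nlinarith [Int.natCast_nonneg m]

/-- If `δ(B) = g` then `A = A(B) + K`. -/
theorem AD_sup_XK_eq_adele (hK : IsFunctionField k K) {B : Divisor k K}
    (hB : delta B = genus k K) : AD B ⊔ XK k K = adele k K := by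
  apply le_antisymm (AD_sup_XK_le_adele hK B)
  intro a ha
  obtain ⟨B₁, hBB₁, haB₁⟩ := exists_AD_ge ha B
  have h1 := relFin_AD_sup hK hBB₁
  have h2 : delta B₁ = genus k K :=
    le_antisymm (delta_le_genus' hK B₁) (hB ▸ delta_mono' hK hBB₁)
  rw [h2, hB, sub_self] at h1
  have h3 : relDim (AD B ⊔ XK k K) (AD B₁ ⊔ XK k K) = 0 := by exact_mod_cast h1.2
  haveI : FiniteDimensional k (RQ (AD B ⊔ XK k K) (AD B₁ ⊔ XK k K)) := h1.1
  have h4 : Subsingleton (RQ (AD B ⊔ XK k K) (AD B₁ ⊔ XK k K)) :=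
    Module.finrank_zero_iff.mp h3
  rw [Submodule.Quotient.subsingleton_iff, eq_top_iff] at h4
  have h5 : (⟨a, Submodule.mem_sup_left haB₁⟩ : ↥(AD B₁ ⊔ XK k K)) ∈
      (AD B ⊔ XK k K).comap (AD B₁ ⊔ XK k K).subtype := h4 Submodule.mem_top
  exact h5

/-- `dim A/(A(D)+K) = g - δ(D)`. -/
theorem relFin_adele (hK : IsFunctionField k K) (D : Divisor k K) :
    RelFin (AD D ⊔ XK k K) (adele k K) ∧
      (relDim (AD D ⊔ XK k K) (adele k K) : ℤ) = (genus k K : ℤ) - delta D := by
  obtain ⟨D₁, hDD₁, hD₁⟩ := exists_ge_delta_eq_genus hK D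
  have h1 := relFin_AD_sup hK hDD₁
  rw [AD_sup_XK_eq_adele hK hD₁, hD₁] at h1
  exact h1

end FF

end Groth.Agent.Lib.helper10
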