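import Groth.Agent.Lib.Helper10.ASB2
import Groth.Agent.S10983

/-!
Artin–Schreier function fields `y² + y = f` with prescribed odd poles at a finite set `B ⊆ k`
(helper10), part 3: a basis of the repartition classes modulo `A(0) + K` (S19046).
-/

set_option autoImplicit false
set_option linter.unusedSectionVars false
set_option linter.style.haveILetI false

universe u v w

open FunFld Polynomial

namespace Groth.Agent.Lib.helper10

namespace FF

section Aeval

variable {k : Type u} {K : Type v} [Field k] [Field K] [Algebra k K]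
  {Γ₀ : Type w} [LinearOrderedCommGroupWithZero Γ₀]

/-- the value of a nonzero polynomial at an element of the maximal ideal is a power of `v x`
bounded by the degree -/
theorem TrivOn.aeval_eq_pow_le {v : Valuation K Γ₀} (hv : TrivOn k v) {x : K} (hx : v x < 1)
    (p : k[X]) (hp : p ≠ 0) : ∃ m : ℕ, m ≤ p.natDegree ∧ v (aeval x p) = v x ^ m := by
  obtain ⟨q, hq, hnd⟩ := exists_eq_pow_rootMultiplicity_mul_and_not_dvd p hp 0
  refine ⟨p.rootMultiplicity 0, ?_, ?_⟩
  · have hdvd : (X - C (0 : k)) ^ p.rootMultiplicity 0 ∣ p := ⟨q, hq⟩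
    have := natDegree_le_of_dvd hdvd hp
    rwa [natDegree_pow, natDegree_X_sub_C, mul_one] at this
  · have hq0 : q.coeff 0 ≠ 0 := by
      intro h
      apply hnd
      rw [C_0, sub_zero]
      exact X_dvd_iff.mpr h
    conv_lhs => rw [hq]
    rw [C_0, sub_zero, map_mul, map_pow, aeval_X, Valuation.map_mul, Valuation.map_pow,
      hv.aeval_eq_one hx q hq0, mul_one]

end Aeval

section Core

variable {k : Type u} {K : Type v} [Field k] [Field K] [Algebra k K] [Algebra (RatFunc k) K]
  [IsScalarTower k (RatFunc k) K]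

/-- The local facts at the place `Pl α` above `x = α`. -/
theorem asB_place_facts [Algebra.IsSeparable (RatFunc k) K]
    (hdeg : Module.finrank (RatFunc k) K = 2)
    (y : K) (f : RatFunc k)
    (heq : y ^ 2 + y = algebraMap (RatFunc k) K f)
    (B : Finset k) (d : k → ℕ) (hd : ∀ β ∈ B, Odd (d β))
    (hpole : ∀ (p : FunFld.Place k (RatFunc k)) (β : k), β ∈ B →
      p.1 ((RatFunc.X : RatFunc k) - RatFunc.C β) < 1 → p.ord f = -(d β : ℤ))
    (P : Place k K) {α : k} (hα : α ∈ B)
    (hP : P.1 ((algebraMap (RatFunc k) K RatFunc.X) - (algebraMap k K α)) < 1) :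
    P.ord y = -(d α : ℤ) ∧ y ≠ 0 ∧
      P.1 ((algebraMap (RatFunc k) K RatFunc.X) - (algebraMap k K α)) = WithZero.exp (-2 : ℤ) ∧
      (∀ β : k, β ≠ α →
        P.1 ((algebraMap (RatFunc k) K RatFunc.X) - (algebraMap k K β)) = 1) ∧
      ∃ p : Place k (RatFunc k), IsOverWith P p 2 ∧ p.ord f = -(d α : ℤ) := by
  haveI := finiteDimensional_of_finrank_two hdeg
  have hR := isFunctionField_ratFunc (k := k)
  obtain ⟨p, e, he⟩ := exists_place_under hR P
  rw [algebraMap_X_sub_C] at hP ⊢
  have hp : p.1 ((RatFunc.X : RatFunc k) - RatFunc.C α) < 1 := (isOverWith_lt_one_iff he _).mp hP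
  have hpf := hpole p α hα hp
  obtain ⟨m, hm⟩ := hd α hα
  have hneg : p.ord f < 0 := by rw [hpf]; omega
  have hodd : Odd (p.ord f) := by
    rw [hpf]
    exact ⟨-(m : ℤ) - 1, by rw [hm]; push_cast; ring⟩
  obtain ⟨he2, hy1, hy0⟩ := as_ramified heq hdeg he hneg hodd
  subst he2
  refine ⟨by rw [hy1, hpf], hy0, ?_, ?_, p, he, hpf⟩
  · rw [he, Place.val_X_sub_C_of_lt p α hp, ← WithZero.exp_nsmul]
    norm_num
  · intro β hβ
    rw [algebraMap_X_sub_C, he, Place.val_X_sub_C_eq_one p hβ.symm hp, one_pow]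

/-- The index type of the big family. -/
abbrev PfI (B : Finset k) (d : k → ℕ) := Σ α : ↥B, Fin (pfN B d α)

/-- The big family of repartitions `y (x - α)^j` at `Pl α`, `0 ≤ j ≤ c_α`. -/
noncomputable def asE [DecidableEq (Place k K)] (y : K) (B : Finset k) (d : k → ℕ)
    (Pl : k → Place k K) (x : PfI B d) : Place k K → K :=
  Pi.single (Pl (x.1 : k))
    (y * ((algebraMap (RatFunc k) K RatFunc.X) - (algebraMap k K (x.1 : k))) ^ (x.2 : ℕ))

/-- The kernel of the big family modulo `A(0) + K` is spanned by the diagonal class of `y`. -/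
theorem asB_core [Algebra.IsSeparable (RatFunc k) K] [DecidableEq (Place k K)]
    (h2 : ringChar k = 2)
    (hdeg : Module.finrank (RatFunc k) K = 2)
    (y : K) (hy : y ∉ Set.range (algebraMap (RatFunc k) K)) (f : RatFunc k)
    (heq : y ^ 2 + y = algebraMap (RatFunc k) K f)
    (B : Finset k) (d : k → ℕ) (hd : ∀ β ∈ B, Odd (d β))
    (hpole : ∀ (p : FunFld.Place k (RatFunc k)) (β : k), β ∈ B →
      p.1 ((RatFunc.X : RatFunc k) - RatFunc.C β) < 1 → p.ord f = -(d β : ℤ))
    (hint : ∀ p : FunFld.Place k (RatFunc k),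
      (∀ β ∈ B, 1 ≤ p.1 ((RatFunc.X : RatFunc k) - RatFunc.C β)) → p.1 f ≤ 1)
    (Pl : k → FunFld.Place k K)
    (hPl : ∀ β ∈ B, (Pl β).1 ((algebraMap (RatFunc k) K RatFunc.X) - (algebraMap k K β)) < 1)
    (t : PfI B d → k)
    (ht : ∑ x, t x • asE y B d Pl x ∈
      AD (0 : Divisor k K) ⊔ LinearMap.range (diag k K)) :
    ∃ b₀ : k, ∀ (α : ↥B) (j : Fin (pfN B d α)), t ⟨α, j⟩ = if (j : ℕ) = 0 then b₀ else 0 := by
  classical
  haveI := finiteDimensional_of_finrank_two hdeg
  have hR := isFunctionField_ratFunc (k := k)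
  have hodd := asB_odd hd hpole hint
  have hfacts := fun α : ↥B =>
    asB_place_facts hdeg y f heq B d hd hpole (Pl α) α.2 (hPl α α.2)
  have hinj : ∀ α β : ↥B, Pl (α : k) = Pl (β : k) → α = β := by
    intro α β h
    by_contra hne
    have hne' : (β : k) ≠ (α : k) := fun h' => hne (Subtype.ext h'.symm)
    have h1 := (hfacts α).2.2.2.1 β hne'
    have h3 := (hfacts β).2.2.1
    rw [h, h3, ← WithZero.exp_zero, WithZero.exp_inj] at h1
    norm_num at h1
  obtain ⟨a₀, ha₀, _, ⟨g, rfl⟩, hsum⟩ := Submodule.mem_sup.mp ht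
  have ha₀' : ∀ P : Place k K, P.1 (a₀ P) ≤ 1 := by
    intro P
    have := ha₀ P
    rwa [Finsupp.coe_zero, Pi.zero_apply, WithZero.exp_zero] at this
  -- evaluation at `Pl α`
  have hA : ∀ α : ↥B, (∑ x, t x • asE y B d Pl x) (Pl α) =
      y * aeval ((algebraMap (RatFunc k) K RatFunc.X) - (algebraMap k K (α : k)))
        (ofFn (pfN B d α) (fun j => t ⟨α, j⟩)) := by
    intro α
    rw [Finset.sum_apply, Fintype.sum_sigma, Finset.sum_eq_single α]
    · rw [ofFn_eq_sum_monomial, map_sum, Finset.mul_sum]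
      apply Finset.sum_congr rfl
      intro j _
      rw [Pi.smul_apply, asE, Pi.single_eq_same, aeval_monomial, Algebra.smul_def]
      ring
    · intro β _ hβ
      apply Finset.sum_eq_zero
      intro j _
      have hne : Pl (α : k) ≠ Pl (β : k) := fun h => hβ (hinj α β h).symm
      rw [Pi.smul_apply, asE, Pi.single_eq_of_ne hne, smul_zero]
    · intro h
      exact absurd (Finset.mem_univ α) h
  have hBv : ∀ P : Place k K, (∀ β : ↥B, P ≠ Pl β) →
      (∑ x, t x • asE y B d Pl x) P = 0 := by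
    intro P hP
    rw [Finset.sum_apply]
    apply Finset.sum_eq_zero
    intro x _
    rw [Pi.smul_apply, asE, Pi.single_eq_of_ne (hP x.1), smul_zero]
  have hconorm_nonneg : ∀ P : Place k K, 0 ≤ conorm K (asDiv f) P := by
    intro P
    obtain ⟨p, e, he⟩ := exists_place_under hR P
    rw [conorm_apply' hR _ he]
    exact mul_nonneg (Nat.cast_nonneg e) (asDiv_nonneg p)
  have hgL : g ∈ L (conorm K (asDiv f)) := by
    intro P
    by_cases hP : ∃ α : ↥B, P = Pl α
    · obtain ⟨α, rfl⟩ := hP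
      obtain ⟨hy1, hy0, hxa, -, p, he, hpf⟩ := hfacts α
      obtain ⟨m, hm⟩ := hd α α.2
      rw [conorm_apply' hR _ he, asDiv_apply, hpf, if_pos (by omega)]
      have e1 := congrFun hsum (Pl α)
      rw [Pi.add_apply, diag_apply, hA α] at e1
      have hg : g = y * aeval ((algebraMap (RatFunc k) K RatFunc.X) - (algebraMap k K (α : k)))
          (ofFn (pfN B d α) (fun j => t ⟨α, j⟩)) - a₀ (Pl α) := by
        rw [← e1]
        ring
      rw [hg]
      apply le_trans (Valuation.map_sub _ _ _)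
      apply max_le
      · rw [Valuation.map_mul, Place.val_eq_exp_neg_ord _ hy0, hy1, neg_neg]
        have hle : (Pl (α : k)).1 ((algebraMap (RatFunc k) K RatFunc.X) -
            (algebraMap k K (α : k))) ≤ 1 := by
          rw [hxa, ← WithZero.exp_zero, WithZero.exp_le_exp]
          norm_num
        calc _ ≤ WithZero.exp (d (α : k) : ℤ) * 1 :=
              mul_le_mul' le_rfl (TrivOn.aeval_le_one (Place.trivOn _) hle _)
          _ ≤ _ := by
              rw [mul_one, WithZero.exp_le_exp]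
              push_cast
              omega
      · apply le_trans (ha₀' _)
        rw [← WithZero.exp_zero, WithZero.exp_le_exp]
        push_cast
        omega
    · push Not at hP
      have e1 := congrFun hsum P
      rw [Pi.add_apply, diag_apply, hBv P hP] at e1
      have hg : g = -a₀ P := by linear_combination e1
      rw [hg, Valuation.map_neg]
      apply le_trans (ha₀' _)
      rw [← WithZero.exp_zero, WithZero.exp_le_exp]
      exact hconorm_nonneg P
  obtain ⟨a, b, hab⟩ := span_of_not_mem_range hdeg hy g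
  rw [hab] at hgL
  obtain ⟨-, hb⟩ := as_mem_L_imp heq h2 hdeg hy hodd (asDiv f) hgL
  rw [sub_self, L_zero hR, Submodule.mem_one] at hb
  obtain ⟨b₀, rfl⟩ := hb
  refine ⟨b₀, ?_⟩
  intro α j
  obtain ⟨hy1, hy0, hxa, -, p, he, hpf⟩ := hfacts α
  obtain ⟨m', hm'⟩ := hd α α.2
  obtain ⟨V, hV⟩ : ∃ V : k[X], V = ofFn (pfN B d α) (fun j => t ⟨α, j⟩) := ⟨_, rfl⟩
  obtain ⟨xa, hxadef⟩ : ∃ xa : K,
      xa = (algebraMap (RatFunc k) K RatFunc.X) - (algebraMap k K (α : k)) := ⟨_, rfl⟩
  rw [← hxadef] at hxa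
  have hxalt : (Pl (α : k)).1 xa < 1 := by
    rw [hxa, ← WithZero.exp_zero, WithZero.exp_lt_exp]
    norm_num
  have hv : Polynomial.C b₀ - V = 0 := by
    by_contra hv0
    have e1 := congrFun hsum (Pl α)
    rw [Pi.add_apply, diag_apply, hA α, ← hV, ← hxadef] at e1
    have hreg : (Pl (α : k)).1 (algebraMap (RatFunc k) K a +
        y * aeval xa (Polynomial.C b₀ - V)) ≤ 1 := by
      have hcomp : algebraMap (RatFunc k) K (algebraMap k (RatFunc k) b₀) = algebraMap k K b₀ :=
        (IsScalarTower.algebraMap_apply k (RatFunc k) K b₀).symm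
      have : algebraMap (RatFunc k) K a + y * aeval xa (Polynomial.C b₀ - V) =
          -a₀ (Pl α) := by
        rw [map_sub, aeval_C]
        rw [hcomp] at hab
        linear_combination e1 - hab
      rw [this, Valuation.map_neg]
      exact ha₀' _
    obtain ⟨m, hm, hval⟩ := TrivOn.aeval_eq_pow_le (Place.trivOn (Pl (α : k))) hxalt
      (Polynomial.C b₀ - V) hv0
    have hdegV : (Polynomial.C b₀ - V).natDegree < pfN B d α := by
      rw [natDegree_lt_iff_degree_lt hv0]
      apply lt_of_le_of_lt (degree_sub_le _ _)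
      apply max_lt
      · apply lt_of_le_of_lt degree_C_le
        exact_mod_cast Nat.succ_pos _
      · rw [hV]
        exact ofFn_degree_lt _
    have hm2 : 2 * (m : ℤ) < d (α : k) := by
      have : m < (d (α : k) - 1) / 2 + 1 := lt_of_le_of_lt hm hdegV
      omega
    have hvaly : (Pl (α : k)).1 (y * aeval xa (Polynomial.C b₀ - V)) =
        WithZero.exp ((d (α : k) : ℤ) - 2 * m) := by
      rw [Valuation.map_mul, hval, hxa, Place.val_eq_exp_neg_ord _ hy0, hy1, neg_neg,
        ← WithZero.exp_nsmul, ← WithZero.exp_add]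
      congr 1
      simp
      ring
    have hgt : 1 < (Pl (α : k)).1 (y * aeval xa (Polynomial.C b₀ - V)) := by
      rw [hvaly, ← WithZero.exp_zero, WithZero.exp_lt_exp]
      omega
    have hne : (Pl (α : k)).1 (algebraMap (RatFunc k) K a) ≠
        (Pl (α : k)).1 (y * aeval xa (Polynomial.C b₀ - V)) := by
      by_cases ha0 : a = 0
      · rw [ha0, map_zero, Valuation.map_zero, hvaly]
        exact WithZero.exp_ne_zero.symm
      · rw [he, Place.val_eq_exp_neg_ord p ha0, ← WithZero.exp_nsmul, hvaly]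
        intro h
        rw [WithZero.exp_inj] at h
        simp only [nsmul_eq_mul, Nat.cast_ofNat] at h
        omega
    have hmax := Valuation.map_add_of_distinct_val (Pl (α : k)).1 hne
    rw [hmax] at hreg
    exact absurd (lt_of_lt_of_le hgt (le_trans (le_max_right _ _) hreg)) (lt_irrefl _)
  have hcoef := congrArg (fun w => Polynomial.coeff w (j : ℕ)) (sub_eq_zero.mp hv)
  simp only [coeff_C] at hcoef
  rw [hV, ofFn_coeff_eq_val_of_lt _ j.2] at hcoef
  exact hcoef.symm

end Core

section Index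

variable {k : Type u} [Field k] (B : Finset k) (d : k → ℕ)

/-- The index map of the first kind. -/
def pfI1 : {a : ↥B × ℕ // 1 ≤ a.2 ∧ 2 * a.2 + 1 ≤ d (a.1 : k)} → PfI B d :=
  fun a => ⟨a.1.1, ⟨a.1.2, by
    show a.1.2 < (d _ - 1) / 2 + 1
    have := a.2.2
    omega⟩⟩

/-- The index map of the second kind. -/
def pfI2 : {b : ↥B // (b : k) ≠ 0} → PfI B d :=
  fun b => ⟨b.1, ⟨0, Nat.succ_pos _⟩⟩

/-- The omitted index. -/
def pfZ0 (h0 : (0 : k) ∈ B) : PfI B d := ⟨⟨0, h0⟩, ⟨0, Nat.succ_pos _⟩⟩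

/-- Both index maps. -/
def pfI12 : {a : ↥B × ℕ // 1 ≤ a.2 ∧ 2 * a.2 + 1 ≤ d (a.1 : k)} ⊕ {b : ↥B // (b : k) ≠ 0} →
    PfI B d :=
  Sum.elim (pfI1 B d) (pfI2 B d)

theorem pfI12_injective : Function.Injective (pfI12 B d) := by
  intro i i' h
  rcases i with a | b <;> rcases i' with a' | b'
  · have e1 : a.1.1 = a'.1.1 := congrArg (fun x => x.1) h
    have e2 : a.1.2 = a'.1.2 := congrArg (fun x => (x.2 : ℕ)) h
    exact congrArg Sum.inl (Subtype.ext (Prod.ext e1 e2))
  · exfalso
    have e2 : a.1.2 = 0 := congrArg (fun x => (x.2 : ℕ)) h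
    have := a.2.1
    omega
  · exfalso
    have e2 : 0 = a'.1.2 := congrArg (fun x => (x.2 : ℕ)) h
    have := a'.2.1
    omega
  · have e1 : b.1 = b'.1 := congrArg (fun x => x.1) h
    exact congrArg Sum.inr (Subtype.ext e1)

theorem pfI12_ne_Z0 (h0 : (0 : k) ∈ B) (i) : pfI12 B d i ≠ pfZ0 B d h0 := by
  intro h
  rcases i with a | b
  · have e2 : a.1.2 = 0 := congrArg (fun x => (x.2 : ℕ)) h
    have := a.2.1
    omega
  · have e1 : b.1 = (⟨0, h0⟩ : ↥B) := congrArg (fun x => x.1) h
    exact b.2 (congrArg Subtype.val e1)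

theorem exists_pfI12_eq (h0 : (0 : k) ∈ B) (x : PfI B d) (hx : x ≠ pfZ0 B d h0) :
    ∃ i, pfI12 B d i = x := by
  obtain ⟨α, ⟨j, hj⟩⟩ := x
  have hj' : j < (d (α : k) - 1) / 2 + 1 := hj
  by_cases hj0 : j = 0
  · subst hj0
    have hα : (α : k) ≠ 0 := by
      intro h
      apply hx
      have : α = ⟨0, h0⟩ := Subtype.ext h
      subst this
      rfl
    exact ⟨Sum.inr ⟨α, hα⟩, rfl⟩
  · exact ⟨Sum.inl ⟨(α, j), ⟨by show 1 ≤ j; omega, by show 2 * j + 1 ≤ d (α : k); omega⟩⟩, rfl⟩

instance pfS1_finite : Finite {a : ↥B × ℕ // 1 ≤ a.2 ∧ 2 * a.2 + 1 ≤ d (a.1 : k)} :=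
  Finite.of_injective (fun a => pfI12 B d (Sum.inl a))
    (fun _ _ h => Sum.inl_injective (pfI12_injective B d h))

theorem card_pfS (h0 : (0 : k) ∈ B)
    [Fintype ({a : ↥B × ℕ // 1 ≤ a.2 ∧ 2 * a.2 + 1 ≤ d (a.1 : k)} ⊕ {b : ↥B // (b : k) ≠ 0})] :
    Fintype.card ({a : ↥B × ℕ // 1 ≤ a.2 ∧ 2 * a.2 + 1 ≤ d (a.1 : k)} ⊕
      {b : ↥B // (b : k) ≠ 0}) + 1 = ∑ α : ↥B, pfN B d α := by
  classical
  have h1 : Fintype.card (PfI B d) = ∑ α : ↥B, pfN B d α := by
    rw [Fintype.card_sigma]
    simp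
  have h2 : (Finset.univ.image (pfI12 B d)) = Finset.univ.erase (pfZ0 B d h0) := by
    ext x
    rw [Finset.mem_image, Finset.mem_erase]
    constructor
    · rintro ⟨i, -, rfl⟩
      exact ⟨pfI12_ne_Z0 B d h0 i, Finset.mem_univ _⟩
    · rintro ⟨hx, -⟩
      obtain ⟨i, hi⟩ := exists_pfI12_eq B d h0 x hx
      exact ⟨i, Finset.mem_univ _, hi⟩
  have h3 := Finset.card_image_of_injective Finset.univ (pfI12_injective B d)
  rw [h2, Finset.card_erase_of_mem (Finset.mem_univ _), Finset.card_univ, Finset.card_univ,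
    h1] at h3
  have hpos : 0 < ∑ α : ↥B, pfN B d α := by
    rw [← h1]
    exact Fintype.card_pos_iff.mpr ⟨pfZ0 B d h0⟩
  omega

end Index

section Genus

variable {k : Type u} [Field k] {f : RatFunc k} {B : Finset k} {d : k → ℕ}
  (hd : ∀ α ∈ B, Odd (d α))
  (hpole : ∀ (p : Place k (RatFunc k)) (α : k), α ∈ B →
    p.1 ((RatFunc.X : RatFunc k) - RatFunc.C α) < 1 → p.ord f = -(d α : ℤ))
  (hint : ∀ p : Place k (RatFunc k),
    (∀ α ∈ B, 1 ≤ p.1 ((RatFunc.X : RatFunc k) - RatFunc.C α)) → p.1 f ≤ 1)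

include hd hpole hint in
/-- The degree of the different-type divisor `E`. -/
theorem asB_deg_asDiv : (asDiv f).deg = ((∑ α : ↥B, pfN B d α : ℕ) : ℤ) := by
  classical
  have hR := isFunctionField_ratFunc (k := k)
  obtain ⟨q, hq⟩ : ∃ q : k[X],
      q = ∏ α : ↥B, (Polynomial.X - Polynomial.C (α : k)) ^ pfN B d α := ⟨_, rfl⟩
  have hq0 : q ≠ 0 := by
    rw [hq]
    exact Finset.prod_ne_zero_iff.mpr (fun α _ => pow_ne_zero _ (X_sub_C_ne_zero _))
  have hιq : algebraMap k[X] (RatFunc k) q =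
      ∏ α : ↥B, ((RatFunc.X : RatFunc k) - RatFunc.C (α : k)) ^ pfN B d α := by
    rw [hq, map_prod]
    apply Finset.prod_congr rfl
    intro α _
    rw [map_pow, ← ratFunc_X_sub_C]
  have hnat : q.natDegree = ∑ α : ↥B, pfN B d α := by
    rw [hq, natDegree_prod_of_monic _ _ (fun α _ => (monic_X_sub_C _).pow _)]
    apply Finset.sum_congr rfl
    intro α _
    rw [natDegree_pow, natDegree_X_sub_C, mul_one]
  have hΔ : asDiv f = FunFld.div k (algebraMap k[X] (RatFunc k) q) +
      (q.natDegree : ℤ) • polesDiv k (RatFunc.X : RatFunc k) := by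
    apply Finsupp.ext
    intro p
    rw [Finsupp.coe_add, Pi.add_apply, Finsupp.smul_apply, smul_eq_mul, div_apply hR]
    by_cases hX : p.1 (RatFunc.X : RatFunc k) ≤ 1
    · rw [polesDiv_X_apply_of_le p hX, mul_zero, add_zero]
      by_cases hex : ∃ α ∈ B, p.1 ((RatFunc.X : RatFunc k) - RatFunc.C α) < 1
      · obtain ⟨α, hα, hlt⟩ := hex
        rw [asB_asDiv_of_lt hd hpole p hα hlt]
        have hval : p.1 (algebraMap k[X] (RatFunc k) q) =
            WithZero.exp (-((pfN B d ⟨α, hα⟩ : ℕ) : ℤ)) := by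
          rw [hιq, map_prod, Finset.prod_eq_single (⟨α, hα⟩ : ↥B)]
          · rw [map_pow, Place.val_X_sub_C_of_lt p α hlt, ← WithZero.exp_nsmul]
            congr 1
            simp
          · intro β _ hβ
            rw [map_pow, Place.val_X_sub_C_eq_one p
              (fun h => hβ (Subtype.ext h.symm)) hlt, one_pow]
          · intro h
            exact absurd (Finset.mem_univ _) h
        unfold Place.ord
        rw [hval, WithZero.log_exp, neg_neg]
        rfl
      · push Not at hex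
        rw [asB_asDiv_of_le hint p hex]
        symm
        apply Place.ord_of_val_eq_one
        rw [hιq, map_prod]
        apply Finset.prod_eq_one
        intro β _
        rw [map_pow, le_antisymm (Place.val_X_sub_C_le_one p hX _) (hex β β.2), one_pow]
    · rw [not_le] at hX
      have hpX : p.ord (RatFunc.X : RatFunc k) < 0 :=
        (Place.ord_neg_iff p RatFunc.X_ne_zero).mpr hX
      rw [polesDiv_X_apply_of_lt p hX, mul_one, Place.infinity_ord_polynomial p hpX hq0,
        asB_asDiv_of_le hint p (fun α _ => by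
          rw [Place.val_X_sub_C_inf p hX α, ← WithZero.exp_zero, WithZero.exp_le_exp]
          norm_num)]
      ring
  rw [hΔ, deg_add, deg_div hR, deg_zsmul, deg_polesDiv hR RatFunc.transcendental_X,
    RatFunc.adjoin_X, IntermediateField.finrank_top, hnat]
  push_cast
  ring

end Genus

section S19046

/-- **S19046**: a basis of the repartition classes of an Artin–Schreier function field. -/
theorem asB_adele_basis (k : Type u) (K : Type v)
    [Field k] [Field K] [Algebra k K] [Algebra (RatFunc k) K]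
    [IsScalarTower k (RatFunc k) K] [DecidableEq (Place k K)] (h2 : ringChar k = 2)
    (hK : FunFld.IsFunctionField k K) (hdeg : Module.finrank (RatFunc k) K = 2)
    [Algebra.IsSeparable (RatFunc k) K]
    (y : K) (hy : y ∉ Set.range (algebraMap (RatFunc k) K)) (f : RatFunc k)
    (heq : y ^ 2 + y = algebraMap (RatFunc k) K f)
    (B : Finset k) (h0 : (0 : k) ∈ B) (d : k → ℕ) (hd : ∀ β ∈ B, Odd (d β))
    (hpole : ∀ (p : FunFld.Place k (RatFunc k)) (β : k), β ∈ B →
      p.1 ((RatFunc.X : RatFunc k) - RatFunc.C β) < 1 → p.ord f = -(d β : ℤ))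
    (hint : ∀ p : FunFld.Place k (RatFunc k),
      (∀ β ∈ B, 1 ≤ p.1 ((RatFunc.X : RatFunc k) - RatFunc.C β)) → p.1 f ≤ 1)
    (Pl : k → FunFld.Place k K)
    (hPl : ∀ β ∈ B, (Pl β).1 ((algebraMap (RatFunc k) K RatFunc.X) - (algebraMap k K β)) < 1) :
    (∀ i, asE y B d Pl (pfI12 B d i) ∈ FunFld.adele k K) ∧
    LinearIndependent k (fun i => Submodule.mkQ
      (FunFld.AD (0 : FunFld.Divisor k K) ⊔ LinearMap.range (FunFld.diag k K))
      (asE y B d Pl (pfI12 B d i))) ∧
    ∀ a : FunFld.Place k K → K, a ∈ FunFld.adele k K →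
      a ∈ (FunFld.AD (0 : FunFld.Divisor k K) ⊔ LinearMap.range (FunFld.diag k K)) ⊔
        Submodule.span k (Set.range (fun i => asE y B d Pl (pfI12 B d i))) := by
  classical
  haveI := Fintype.ofFinite ({a : ↥B × ℕ // 1 ≤ a.2 ∧ 2 * a.2 + 1 ≤ d (a.1 : k)} ⊕
    {b : ↥B // (b : k) ≠ 0})
  have hodd := asB_odd hd hpole hint
  obtain ⟨W, hW⟩ : ∃ W : Submodule k (Place k K → K),
      W = FunFld.AD (0 : FunFld.Divisor k K) ⊔ LinearMap.range (FunFld.diag k K) := ⟨_, rfl⟩
  rw [← hW]
  have hmem : ∀ i, asE y B d Pl (pfI12 B d i) ∈ FunFld.adele k K :=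
    fun i => single_mem_adele _ _
  -- the key independence statement
  have key : ∀ c : _ → k, ∑ i, c i • asE y B d Pl (pfI12 B d i) ∈ W → ∀ i, c i = 0 := by
    intro c hc
    obtain ⟨t, ht⟩ : ∃ t : PfI B d → k,
        t = fun x => ∑ i, if pfI12 B d i = x then c i else 0 := ⟨_, rfl⟩
    have hsum : ∑ x, t x • asE y B d Pl x = ∑ i, c i • asE y B d Pl (pfI12 B d i) := by
      rw [ht]
      simp only [Finset.sum_smul]
      rw [Finset.sum_comm]
      apply Finset.sum_congr rfl
      intro i _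
      simp only [ite_smul, zero_smul]
      rw [Finset.sum_ite_eq]
      simp
    rw [← hsum, hW] at hc
    obtain ⟨b₀, hb₀⟩ := asB_core h2 hdeg y hy f heq B d hd hpole hint Pl hPl t hc
    have htz : t (pfZ0 B d h0) = 0 := by
      rw [ht]
      apply Finset.sum_eq_zero
      intro i _
      rw [if_neg (pfI12_ne_Z0 B d h0 i)]
    have hb0 : b₀ = 0 := by
      have := hb₀ ⟨0, h0⟩ ⟨0, Nat.succ_pos _⟩
      rw [if_pos rfl] at this
      rw [← this]
      exact htz
    intro i
    have h1 : t (pfI12 B d i) = c i := by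
      rw [ht]
      simp only [(pfI12_injective B d).eq_iff]
      rw [Finset.sum_ite_eq']
      simp
    rw [← h1]
    obtain ⟨α, j⟩ := pfI12 B d i
    rw [hb₀ α j, hb0]
    simp
  refine ⟨hmem, ?_, ?_⟩
  · rw [Fintype.linearIndependent_iff]
    intro c hc
    apply key c
    rw [← Submodule.Quotient.mk_eq_zero, ← Submodule.mkQ_apply, map_sum]
    rw [← hc]
    apply Finset.sum_congr rfl
    intro i _
    rw [map_smul]
  · intro a ha
    -- dimension count
    obtain ⟨hfin, hrank⟩ := Groth.Agent.S10983.result k K hK (0 : Divisor k K)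
    haveI := hfin
    rw [deg_zero, ell_zero hK] at hrank
    have hgenus := as_genus heq hK h2 hdeg hy hodd
    rw [asB_deg_asDiv hd hpole hint] at hgenus
    have hcard := card_pfS B d h0
    obtain ⟨q, hq⟩ : ∃ q : _ → (↥(adele k K) ⧸ ADK (0 : Divisor k K)),
        q = fun i => Submodule.Quotient.mk ⟨asE y B d Pl (pfI12 B d i), hmem i⟩ := ⟨_, rfl⟩
    have hADK : ∀ z : ↥(adele k K), Submodule.Quotient.mk z = (0 : ↥(adele k K) ⧸ ADK (0 : Divisor k K)) ↔
        (z : Place k K → K) ∈ W := by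
      intro z
      rw [Submodule.Quotient.mk_eq_zero, hW]
      rfl
    have hqind : LinearIndependent k q := by
      rw [Fintype.linearIndependent_iff]
      intro c hc
      apply key c
      have : ∑ i, c i • q i = Submodule.Quotient.mk
          (∑ i, c i • (⟨asE y B d Pl (pfI12 B d i), hmem i⟩ : ↥(adele k K))) := by
        rw [hq, ← Submodule.mkQ_apply, map_sum]
        apply Finset.sum_congr rfl
        intro i _
        rw [map_smul, Submodule.mkQ_apply]
      rw [this, hADK] at hc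
      convert hc using 1
      rw [Submodule.coe_sum]
      apply Finset.sum_congr rfl
      intro i _
      rfl
    have hspan := hqind.span_eq_top_of_card_eq_finrank' (by
      have : (Module.finrank k (↥(adele k K) ⧸ ADK (0 : Divisor k K)) : ℤ) =
          (Fintype.card ({a : ↥B × ℕ // 1 ≤ a.2 ∧ 2 * a.2 + 1 ≤ d (a.1 : k)} ⊕
            {b : ↥B // (b : k) ≠ 0}) : ℤ) := by
        rw [hrank, hgenus, ← hcard]
        push_cast
        ring
      exact_mod_cast this.symm)
    have hin : (Submodule.Quotient.mk ⟨a, ha⟩ : ↥(adele k K) ⧸ ADK (0 : Divisor k K)) ∈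
        Submodule.span k (Set.range q) := by
      rw [hspan]
      exact Submodule.mem_top
    obtain ⟨c, hc⟩ := (Submodule.mem_span_range_iff_exists_fun k).mp hin
    have hdiff : (Submodule.Quotient.mk (⟨a, ha⟩ - ∑ i, c i •
        (⟨asE y B d Pl (pfI12 B d i), hmem i⟩ : ↥(adele k K))) :
          ↥(adele k K) ⧸ ADK (0 : Divisor k K)) = 0 := by
      rw [Submodule.Quotient.mk_sub, ← hc, hq, sub_eq_zero, ← Submodule.mkQ_apply, map_sum]
      apply Finset.sum_congr rfl
      intro i _
      rw [map_smul, Submodule.mkQ_apply]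
    rw [hADK] at hdiff
    have hdiff' : a - ∑ i, c i • asE y B d Pl (pfI12 B d i) ∈ W := by
      convert hdiff using 1
      rw [Submodule.coe_sub, Submodule.coe_sum]
      congr 1
    have e1 : a = (a - ∑ i, c i • asE y B d Pl (pfI12 B d i)) +
        ∑ i, c i • asE y B d Pl (pfI12 B d i) := by rw [sub_add_cancel]
    rw [e1]
    refine add_mem (Submodule.mem_sup_left hdiff') (Submodule.mem_sup_right ?_)
    apply Submodule.sum_mem
    intro i _
    exact Submodule.smul_mem _ _ (Submodule.subset_span ⟨i, rfl⟩)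

end S19046

end FF

end Groth.Agent.Lib.helper10
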