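import Mathlib

/-!
Artin–Schreier extensions (helper10): `L = K(z)`, `z ^ p - z = ξ` in characteristic `p`.
-/

set_option autoImplicit false
set_option linter.unusedSectionVars false
set_option linter.style.haveILetI false

universe u

open Polynomial IntermediateField

namespace Groth.Agent.Lib.helper10

namespace ASExt

section Roots

variable {L : Type u} [Field L] (p : ℕ) [hp : Fact p.Prime] [CharP L p]

theorem natCast_pow_char (i : ℕ) : ((i : L)) ^ p = i := by
  rw [← frobenius_def, map_natCast]

/-- the fixed points of Frobenius are the elements of the prime field -/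
theorem exists_natCast_of_pow_eq (d : L) (hd : d ^ p = d) : ∃ i : ℕ, d = (i : L) := by
  classical
  by_contra h
  push Not at h
  have hf0 : (X ^ p - X : L[X]) ≠ 0 := FiniteField.X_pow_card_sub_X_ne_zero L hp.out.one_lt
  have hdeg : (X ^ p - X : L[X]).natDegree = p :=
    FiniteField.X_pow_card_sub_X_natDegree_eq L hp.out.one_lt
  let S : Finset L := (Finset.range p).image (fun i : ℕ => (i : L))
  have hScard : S.card = p := by
    rw [Finset.card_image_of_injOn, Finset.card_range]
    intro i hi j hj hij
    exact CharP.natCast_injOn_Iio L p (by simpa using hi) (by simpa using hj) hij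
  have hdS : d ∉ S := by
    intro hmem
    obtain ⟨i, -, hi⟩ := Finset.mem_image.mp hmem
    exact h i hi.symm
  have hroots : (insert d S).val ≤ (X ^ p - X : L[X]).roots := by
    rw [Multiset.le_iff_subset (insert d S).nodup]
    intro x hx
    rw [Finset.mem_val, Finset.mem_insert] at hx
    rw [mem_roots hf0, IsRoot.def, eval_sub, eval_pow, eval_X, sub_eq_zero]
    rcases hx with rfl | hx
    · exact hd
    · obtain ⟨i, -, rfl⟩ := Finset.mem_image.mp hx
      exact natCast_pow_char p i
  have h1 := Multiset.card_le_card hroots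
  have h2 := card_roots' (X ^ p - X : L[X])
  rw [Finset.card_val, Finset.card_insert_of_notMem hdS, hScard] at h1
  omega

end Roots

section AS

variable {K L : Type u} [Field K] [Field L] [Algebra K L] (p : ℕ) [hp : Fact p.Prime] [CharP K p]

/-- the Artin–Schreier polynomial -/
noncomputable def asPoly (ξ : K) : K[X] := X ^ p - X - C ξ

theorem asPoly_monic (ξ : K) : (asPoly p ξ).Monic := by
  have : asPoly p ξ = X ^ p - (X + C ξ) := by unfold asPoly; ring
  rw [this]
  apply (monic_X_pow p).sub_of_left
  rw [degree_X_add_C, degree_X_pow]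
  exact_mod_cast hp.out.one_lt

theorem asPoly_natDegree (ξ : K) : (asPoly p ξ).natDegree = p := by
  have : asPoly p ξ = X ^ p - (X + C ξ) := by unfold asPoly; ring
  rw [this, natDegree_sub_eq_left_of_natDegree_lt, natDegree_X_pow]
  rw [natDegree_X_add_C, natDegree_X_pow]
  exact hp.out.one_lt

theorem asPoly_separable (ξ : K) : (asPoly p ξ).Separable := by
  rw [separable_def]
  have : derivative (asPoly p ξ) = -1 := by
    unfold asPoly
    rw [derivative_sub, derivative_sub, derivative_C, derivative_X, derivative_X_pow, sub_zero]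
    have : (C (p : K) : K[X]) = 0 := by rw [CharP.cast_eq_zero K p, C_0]
    rw [this, zero_mul, zero_sub]
  rw [this]
  exact isCoprime_one_right.neg_right

variable {p}

theorem aeval_asPoly {ξ : K} {z : L} (hz : z ^ p - z = algebraMap K L ξ) :
    aeval z (asPoly p ξ) = 0 := by
  unfold asPoly
  rw [map_sub, map_sub, map_pow, aeval_X, aeval_C, hz, sub_self]

theorem asPoly_root_add [CharP L p] {ξ : K} {z : L} (hz : z ^ p - z = algebraMap K L ξ) (i : ℕ) :
    aeval (z + (i : L)) (asPoly p ξ) = 0 := by
  unfold asPoly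
  rw [map_sub, map_sub, map_pow, aeval_X, aeval_C, add_pow_char, natCast_pow_char, ← hz]
  ring

theorem asPoly_splits {ξ : K} {z : L} (hz : z ^ p - z = algebraMap K L ξ) :
    ((asPoly p ξ).map (algebraMap K L)).Splits := by
  classical
  haveI : CharP L p := charP_of_injective_algebraMap (algebraMap K L).injective p
  have hm : ((asPoly p ξ).map (algebraMap K L)).Monic := (asPoly_monic p ξ).map _
  have hdeg : ((asPoly p ξ).map (algebraMap K L)).natDegree = p := by
    rw [natDegree_map, asPoly_natDegree]
  rw [splits_iff_card_roots, hdeg]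
  let S : Finset L := (Finset.range p).image (fun i : ℕ => z + (i : L))
  have hScard : S.card = p := by
    rw [Finset.card_image_of_injOn, Finset.card_range]
    intro i hi j hj hij
    exact CharP.natCast_injOn_Iio L p (by simpa using hi) (by simpa using hj)
      (add_left_cancel hij)
  have hroots : S.val ≤ ((asPoly p ξ).map (algebraMap K L)).roots := by
    rw [Multiset.le_iff_subset S.nodup]
    intro x hx
    obtain ⟨i, -, rfl⟩ := Finset.mem_image.mp (Finset.mem_val.mp hx)
    rw [mem_roots hm.ne_zero, IsRoot.def, eval_map, ← aeval_def]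
    exact asPoly_root_add hz i
  have h1 := Multiset.card_le_card hroots
  have h2 := card_roots' ((asPoly p ξ).map (algebraMap K L))
  rw [Finset.card_val, hScard] at h1
  omega

theorem adjoin_eq_top {z : L} (hint : IsIntegral K z) (hgen : K⟮z⟯ = ⊤) :
    Algebra.adjoin K {z} = ⊤ := by
  rw [← IntermediateField.adjoin_simple_toSubalgebra_of_isAlgebraic hint.isAlgebraic, hgen]
  rfl

theorem asPoly_isSplittingField {ξ : K} {z : L} (hz : z ^ p - z = algebraMap K L ξ)
    (hgen : K⟮z⟯ = ⊤) : (asPoly p ξ).IsSplittingField K L := by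
  have hint : IsIntegral K z := ⟨asPoly p ξ, asPoly_monic p ξ, by rw [← aeval_def]; exact aeval_asPoly hz⟩
  refine ⟨asPoly_splits hz, ?_⟩
  rw [eq_top_iff, ← adjoin_eq_top hint hgen]
  apply Algebra.adjoin_mono
  rw [Set.singleton_subset_iff, mem_rootSet]
  exact ⟨(asPoly_monic p ξ).ne_zero, aeval_asPoly hz⟩

theorem as_isGalois {ξ : K} {z : L} (hz : z ^ p - z = algebraMap K L ξ)
    (hgen : K⟮z⟯ = ⊤) : IsGalois K L := by
  haveI := asPoly_isSplittingField hz hgen
  exact IsGalois.of_separable_splitting_field (asPoly_separable p ξ)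

theorem as_finiteDimensional {ξ : K} {z : L} (hz : z ^ p - z = algebraMap K L ξ)
    (hgen : K⟮z⟯ = ⊤) : FiniteDimensional K L := by
  haveI := asPoly_isSplittingField hz hgen
  exact IsSplittingField.finiteDimensional L (asPoly p ξ)

end AS

section Group

variable {K L : Type u} [Field K] [Field L] [Algebra K L] {p : ℕ} [hp : Fact p.Prime] [CharP K p]
  {ξ : K} {z : L}

theorem isIntegral_z (hz : z ^ p - z = algebraMap K L ξ) : IsIntegral K z :=
  ⟨asPoly p ξ, asPoly_monic p ξ, by rw [← aeval_def]; exact aeval_asPoly hz⟩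

theorem eq_one_of_apply_eq (hz : z ^ p - z = algebraMap K L ξ) (hgen : K⟮z⟯ = ⊤)
    (σ : L ≃ₐ[K] L) (h : σ z = z) : σ = 1 := by
  have h1 : (σ : L →ₐ[K] L) = (1 : L ≃ₐ[K] L) := by
    apply AlgHom.ext_of_adjoin_eq_top (adjoin_eq_top (isIntegral_z hz) hgen)
    intro x hx
    rw [Set.mem_singleton_iff] at hx
    subst hx
    simpa using h
  exact AlgEquiv.ext (fun x => DFunLike.congr_fun h1 x)

theorem sigma_sub_pow [CharP L p] (hz : z ^ p - z = algebraMap K L ξ) (σ : L ≃ₐ[K] L) :
    (σ z - z) ^ p = σ z - z := by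
  have h1 : (σ z) ^ p - σ z = algebraMap K L ξ := by
    rw [← map_pow, ← map_sub, hz, σ.commutes]
  rw [sub_pow_char]
  linear_combination h1 - hz

theorem sigma_pow_eq_one (hz : z ^ p - z = algebraMap K L ξ) (hgen : K⟮z⟯ = ⊤)
    (σ : L ≃ₐ[K] L) : σ ^ p = 1 := by
  haveI : CharP L p := charP_of_injective_algebraMap (algebraMap K L).injective p
  obtain ⟨i, hi⟩ := exists_natCast_of_pow_eq p (σ z - z) (sigma_sub_pow hz σ)
  have hk : ∀ k : ℕ, (σ ^ k) z = z + k * (i : L) := by
    intro k
    induction k with
    | zero => simp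
    | succ k ih =>
      rw [pow_succ', AlgEquiv.mul_apply, ih, map_add, map_mul, map_natCast, map_natCast]
      push_cast
      linear_combination hi
  apply eq_one_of_apply_eq hz hgen
  rw [hk p, CharP.cast_eq_zero L p, zero_mul, add_zero]

theorem as_finrank (hz : z ^ p - z = algebraMap K L ξ) (hgen : K⟮z⟯ = ⊤) :
    Module.finrank K L = 1 ∨ Module.finrank K L = p := by
  haveI := as_isGalois hz hgen
  haveI := as_finiteDimensional hz hgen
  have hint := isIntegral_z hz
  have hle : Module.finrank K L ≤ p := by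
    rw [← IntermediateField.finrank_top', ← hgen, IntermediateField.adjoin.finrank hint,
      ← asPoly_natDegree p ξ]
    exact natDegree_le_of_dvd (minpoly.dvd K z (aeval_asPoly hz)) (asPoly_monic p ξ).ne_zero
  have hpg : IsPGroup p (L ≃ₐ[K] L) := fun σ => ⟨1, by rw [pow_one]; exact sigma_pow_eq_one hz hgen σ⟩
  obtain ⟨n, hn⟩ := (IsPGroup.iff_card).mp hpg
  rw [IsGalois.card_aut_eq_finrank] at hn
  rw [hn] at hle ⊢
  rcases n with _ | _ | n
  · left; simp
  · right; simp
  · exfalso
    have : p ^ 2 ≤ p ^ (n + 1 + 1) := Nat.pow_le_pow_right hp.out.pos (by omega)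
    have h2 : p < p ^ 2 := by
      have := hp.out.one_lt
      nlinarith
    omega

theorem exists_sigma_ne (hz : z ^ p - z = algebraMap K L ξ) (hgen : K⟮z⟯ = ⊤)
    (hfr : Module.finrank K L = p) :
    ∃ σ : L ≃ₐ[K] L, σ z - z ≠ 0 ∧ (σ z - z) ^ p = σ z - z := by
  haveI := as_isGalois hz hgen
  haveI := as_finiteDimensional hz hgen
  haveI : CharP L p := charP_of_injective_algebraMap (algebraMap K L).injective p
  have hcard : Nat.card (L ≃ₐ[K] L) = p := by rw [IsGalois.card_aut_eq_finrank, hfr]
  haveI : Nontrivial (L ≃ₐ[K] L) := by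
    rw [← Finite.one_lt_card_iff_nontrivial, hcard]; exact hp.out.one_lt
  obtain ⟨σ, hσ⟩ := exists_ne (1 : L ≃ₐ[K] L)
  refine ⟨σ, fun h => hσ (eq_one_of_apply_eq hz hgen σ (sub_eq_zero.mp h)), sigma_sub_pow hz σ⟩

end Group

end ASExt

end Groth.Agent.Lib.helper10
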