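import Groth.Agent.Lib.Helper10.FunFld38

/-!
Function fields of one variable (helper10), part 39: the rational function field `k(X)` and its
places (finite places attached to irreducible polynomials, the place at infinity).
-/

set_option autoImplicit false
set_option linter.unusedSectionVars false
set_option linter.style.haveILetI false

universe u v w

open IntermediateField FunFld Polynomial

namespace Groth.Agent.Lib.helper10

namespace FF

open RD PA

section RatFuncPlaces

variable {k : Type u} [Field k]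

/-- The rational function field is a function field of one variable. -/
theorem isFunctionField_ratFunc : IsFunctionField k (RatFunc k) := by
  refine ⟨⟨RatFunc.X, RatFunc.transcendental_X, ?_⟩, ?_⟩
  · rw [RatFunc.adjoin_X]
    exact Module.finite_of_finrank_pos (by rw [IntermediateField.finrank_top]; exact one_pos)
  · intro y hy
    by_contra hne
    refine (RatFunc.transcendental_of_ne_C y ?_) hy
    rintro ⟨c, hc⟩
    exact hne ⟨c, by rw [hc, RatFunc.algebraMap_eq_C]⟩

theorem Place.val_aeval_of_one_lt {K : Type v} [Field K] [Algebra k K] (P : Place k K) {x : K}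
    (hx : 1 < P.1 x) (p : k[X]) (hp : p ≠ 0) : P.1 (aeval x p) = P.1 x ^ p.natDegree := by
  have hx0 : x ≠ 0 := by
    rintro rfl
    rw [Valuation.map_zero] at hx
    exact absurd hx (not_lt.mpr zero_le)
  have hx' : P.1 x⁻¹ < 1 := by
    rw [map_inv₀]
    exact inv_lt_one_of_one_lt₀ hx
  have h1 := (Place.trivOn P).aeval_eq_one hx' p.reverse (by
    rw [coeff_zero_reverse]
    exact leadingCoeff_ne_zero.mpr hp)
  letI : Invertible x := invertibleOfNonzero hx0
  have h2 := eval₂_reverse_mul_pow (algebraMap k K) x p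
  rw [invOf_eq_inv] at h2
  rw [aeval_def, ← h2, Valuation.map_mul, Valuation.map_pow, ← aeval_def, h1, one_mul]

theorem Place.val_polynomial_le_one (P₀ : Place k (RatFunc k)) (hX : P₀.1 RatFunc.X ≤ 1)
    (q : k[X]) : P₀.1 (algebraMap k[X] (RatFunc k) q) ≤ 1 := by
  rw [← RatFunc.aeval_X_left_eq_algebraMap]
  exact (Place.trivOn P₀).aeval_le_one hX q

/-- A place at which an irreducible polynomial vanishes is a finite place. -/
theorem Place.val_X_le_one_of_irreducible (P₀ : Place k (RatFunc k)) {p : k[X]}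
    (hp : Irreducible p) (hP₀ : P₀.1 (algebraMap k[X] (RatFunc k) p) < 1) :
    P₀.1 RatFunc.X ≤ 1 := by
  by_contra hgt
  rw [not_le] at hgt
  have h1 := Place.val_aeval_of_one_lt P₀ hgt p hp.ne_zero
  rw [RatFunc.aeval_X_left_eq_algebraMap] at h1
  rw [h1] at hP₀
  exact absurd hP₀ (not_lt.mpr (one_le_pow₀ hgt.le))

theorem Place.val_eq_one_of_not_dvd (P₀ : Place k (RatFunc k)) {p : k[X]}
    (hp : Irreducible p) (hP₀ : P₀.1 (algebraMap k[X] (RatFunc k) p) < 1) {q : k[X]}
    (hq : ¬ p ∣ q) : P₀.1 (algebraMap k[X] (RatFunc k) q) = 1 := by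
  have hX := Place.val_X_le_one_of_irreducible P₀ hp hP₀
  apply le_antisymm (Place.val_polynomial_le_one P₀ hX q)
  by_contra hlt
  rw [not_le] at hlt
  obtain ⟨a, b, hab⟩ := (hp.coprime_iff_not_dvd.mpr hq)
  have h1 : P₀.1 (algebraMap k[X] (RatFunc k) (a * p + b * q)) < 1 := by
    rw [map_add, map_mul, map_mul]
    apply lt_of_le_of_lt (Valuation.map_add _ _ _)
    apply max_lt
    · rw [Valuation.map_mul]
      calc _ ≤ 1 * P₀.1 (algebraMap k[X] (RatFunc k) p) :=
            mul_le_mul' (Place.val_polynomial_le_one P₀ hX a) le_rfl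
        _ < 1 := by rw [one_mul]; exact hP₀
    · rw [Valuation.map_mul]
      calc _ ≤ 1 * P₀.1 (algebraMap k[X] (RatFunc k) q) :=
            mul_le_mul' (Place.val_polynomial_le_one P₀ hX b) le_rfl
        _ < 1 := by rw [one_mul]; exact hlt
  rw [hab, map_one, Valuation.map_one] at h1
  exact lt_irrefl _ h1

/-- The value of a polynomial at the `p`-adic place. -/
theorem Place.val_polynomial_eq_pow (P₀ : Place k (RatFunc k)) {p : k[X]}
    (hp : Irreducible p) (hP₀ : P₀.1 (algebraMap k[X] (RatFunc k) p) < 1) {q : k[X]}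
    (hq : q ≠ 0) : ∃ m : ℕ, P₀.1 (algebraMap k[X] (RatFunc k) q) =
      P₀.1 (algebraMap k[X] (RatFunc k) p) ^ m := by
  have hfin : FiniteMultiplicity p q := FiniteMultiplicity.of_not_isUnit hp.not_isUnit hq
  obtain ⟨c, hc, hnd⟩ := hfin.exists_eq_pow_mul_and_not_dvd
  refine ⟨multiplicity p q, ?_⟩
  conv_lhs => rw [hc]
  rw [map_mul, map_pow, Valuation.map_mul, Valuation.map_pow,
    Place.val_eq_one_of_not_dvd P₀ hp hP₀ hnd, mul_one]

/-- An irreducible polynomial is a uniformizer at its place. -/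
theorem Place.val_irreducible_eq (P₀ : Place k (RatFunc k)) {p : k[X]}
    (hp : Irreducible p) (hP₀ : P₀.1 (algebraMap k[X] (RatFunc k) p) < 1) :
    P₀.1 (algebraMap k[X] (RatFunc k) p) = WithZero.exp (-1 : ℤ) := by
  set γ := P₀.1 (algebraMap k[X] (RatFunc k) p) with hγ
  have hp0 : algebraMap k[X] (RatFunc k) p ≠ 0 :=
    (_root_.map_ne_zero_iff _ (RatFunc.algebraMap_injective k)).mpr hp.ne_zero
  have hγ0 : γ ≠ 0 := (Valuation.ne_zero_iff _).mpr hp0
  obtain ⟨z, hz⟩ := P₀.2.2 (WithZero.exp (-1 : ℤ))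
  have hz0 : z ≠ 0 := by
    rintro rfl
    rw [Valuation.map_zero] at hz
    exact WithZero.exp_ne_zero hz.symm
  have hnum0 : z.num ≠ 0 := RatFunc.num_ne_zero hz0
  have hden0 : z.denom ≠ 0 := RatFunc.denom_ne_zero z
  obtain ⟨a, ha⟩ := Place.val_polynomial_eq_pow P₀ hp hP₀ hnum0
  obtain ⟨b, hb⟩ := Place.val_polynomial_eq_pow P₀ hp hP₀ hden0
  have hz' : P₀.1 z = γ ^ ((a : ℤ) - b) := by
    conv_lhs => rw [← RatFunc.num_div_denom z]
    rw [map_div₀, ha, hb, zpow_sub₀ hγ0, zpow_natCast, zpow_natCast]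
  rw [hz] at hz'
  -- γ = exp (-m) with m ≥ 1, and exp(-1) = γ^(a-b)
  have hm : γ = WithZero.exp (-(P₀.ord (algebraMap k[X] (RatFunc k) p))) :=
    Place.val_eq_exp_neg_ord P₀ hp0
  set m := P₀.ord (algebraMap k[X] (RatFunc k) p) with hm'
  have hmpos : 0 < m := (Place.ord_pos_iff P₀ hp0).mpr hP₀
  rw [hm, ← WithZero.exp_zsmul] at hz'
  have h1 := WithZero.exp_injective hz'
  rw [smul_eq_mul] at h1
  have hm1 : m = 1 := by
    have h1' : m * ((a : ℤ) - b) = 1 := by linarith [mul_neg ((a : ℤ) - b) m, mul_comm m ((a : ℤ) - b)]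
    have hdvd : m ∣ 1 := ⟨(a : ℤ) - b, h1'.symm⟩
    exact Int.eq_one_of_dvd_one hmpos.le hdvd
  rw [hm, hm1]

/-- A squarefree polynomial has a simple zero at each of its irreducible factors. -/
theorem Place.val_squarefree_eq (P₀ : Place k (RatFunc k)) {p f : k[X]}
    (hp : Irreducible p) (hP₀ : P₀.1 (algebraMap k[X] (RatFunc k) p) < 1)
    (hf : Squarefree f) (hpf : p ∣ f) :
    P₀.1 (algebraMap k[X] (RatFunc k) f) = WithZero.exp (-1 : ℤ) := by
  obtain ⟨g, rfl⟩ := hpf
  have hg : ¬ p ∣ g := by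
    rintro ⟨h, rfl⟩
    have := hf p ⟨h, by ring⟩
    exact hp.not_isUnit this
  rw [map_mul, Valuation.map_mul, Place.val_irreducible_eq P₀ hp hP₀,
    Place.val_eq_one_of_not_dvd P₀ hp hP₀ hg, mul_one]

/-- At a finite place where a nonzero polynomial vanishes, some irreducible factor vanishes. -/
theorem Place.exists_irreducible_factor (P₀ : Place k (RatFunc k)) (hX : P₀.1 RatFunc.X ≤ 1)
    {f : k[X]} (hf0 : f ≠ 0) (hf : P₀.1 (algebraMap k[X] (RatFunc k) f) < 1) :
    ∃ p : k[X], Irreducible p ∧ p ∣ f ∧ P₀.1 (algebraMap k[X] (RatFunc k) p) < 1 := by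
  classical
  induction f using UniqueFactorizationMonoid.induction_on_prime with
  | h₁ => exact absurd rfl hf0
  | h₂ u hu =>
    exfalso
    obtain ⟨w, rfl⟩ := hu
    have h1 : P₀.1 (algebraMap k[X] (RatFunc k) ↑w) * P₀.1 (algebraMap k[X] (RatFunc k) ↑w⁻¹)
        = 1 := by
      rw [← Valuation.map_mul, ← map_mul, Units.mul_inv, map_one, Valuation.map_one]
    have h2 := Place.val_polynomial_le_one P₀ hX (↑w⁻¹ : k[X])
    have h3 : P₀.1 (algebraMap k[X] (RatFunc k) ↑w) * P₀.1 (algebraMap k[X] (RatFunc k) ↑w⁻¹)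
        < 1 := by
      calc _ ≤ P₀.1 (algebraMap k[X] (RatFunc k) ↑w) * 1 := mul_le_mul' le_rfl h2
        _ < 1 := by rw [mul_one]; exact hf
    rw [h1] at h3
    exact lt_irrefl _ h3
  | h₃ a p ha0 hp ih =>
    by_cases hpv : P₀.1 (algebraMap k[X] (RatFunc k) p) < 1
    · exact ⟨p, hp.irreducible, dvd_mul_right p a, hpv⟩
    · rw [not_lt] at hpv
      have hpv1 : P₀.1 (algebraMap k[X] (RatFunc k) p) = 1 :=
        le_antisymm (Place.val_polynomial_le_one P₀ hX p) hpv
      rw [map_mul, Valuation.map_mul, hpv1, one_mul] at hf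
      obtain ⟨q, hq, hqa, hqv⟩ := ih ha0 hf
      exact ⟨q, hq, dvd_mul_of_dvd_right hqa p, hqv⟩

/-- The place at infinity has degree one and `X` has a simple pole there. -/
theorem Place.infinity_deg_and_ord (Pinf : Place k (RatFunc k))
    (hinf : Pinf.ord (RatFunc.X : RatFunc k) < 0) :
    Pinf.deg = 1 ∧ Pinf.ord (RatFunc.X : RatFunc k) = -1 := by
  classical
  have hR := isFunctionField_ratFunc (k := k)
  have h1 := deg_polesDiv hR (RatFunc.transcendental_X (K := k))
  rw [RatFunc.adjoin_X, IntermediateField.finrank_top] at h1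
  have h2 : Finsupp.single Pinf (-Pinf.ord (RatFunc.X : RatFunc k)) ≤
      polesDiv k (RatFunc.X : RatFunc k) := by
    intro Q
    rw [polesDiv_apply hR, Finsupp.single_apply]
    split_ifs with h
    · rw [← h]
      exact le_max_left _ _
    · exact le_max_right _ _
  have h3 := deg_mono h2
  rw [deg_single, h1, Nat.cast_one] at h3
  have h4 : (1 : ℤ) ≤ Pinf.deg := by exact_mod_cast Place.deg_pos hR Pinf
  have h5 : (1 : ℤ) ≤ -Pinf.ord (RatFunc.X : RatFunc k) := by omega
  have h8 := mul_nonneg (sub_nonneg.mpr h5) (sub_nonneg.mpr h4)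
  have h6 : (Pinf.deg : ℤ) = 1 := by nlinarith
  have h7 : -Pinf.ord (RatFunc.X : RatFunc k) = 1 := by nlinarith
  exact ⟨by exact_mod_cast h6, by omega⟩

/-- The order of a polynomial at infinity. -/
theorem Place.infinity_ord_polynomial (Pinf : Place k (RatFunc k))
    (hinf : Pinf.ord (RatFunc.X : RatFunc k) < 0) {q : k[X]} (hq : q ≠ 0) :
    Pinf.ord (algebraMap k[X] (RatFunc k) q) = -(q.natDegree : ℤ) := by
  have hX0 : (RatFunc.X : RatFunc k) ≠ 0 := RatFunc.X_ne_zero
  have hgt : 1 < Pinf.1 RatFunc.X := (Place.ord_neg_iff Pinf hX0).mp hinf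
  have h1 := Place.val_aeval_of_one_lt Pinf hgt q hq
  rw [RatFunc.aeval_X_left_eq_algebraMap] at h1
  unfold Place.ord
  rw [h1, WithZero.log_pow]
  have h2 := (Place.infinity_deg_and_ord Pinf hinf).2
  unfold Place.ord at h2
  have h3 : WithZero.log (Pinf.1 RatFunc.X) = 1 := by linarith
  rw [nsmul_eq_mul, h3, mul_one]

end RatFuncPlaces

end FF

end Groth.Agent.Lib.helper10
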