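import Groth.Agent.Lib.Helper10.LocRes3

/-!
Local residues through Laurent expansions (helper10), part 4: the divisor of `dx` in a
hyperelliptic function field `y² = f(x)` (characteristic not two) and its regular differentials.
-/

set_option autoImplicit false
set_option linter.unusedSectionVars false
set_option linter.style.haveILetI false

universe u v w

open FunFld Polynomial

namespace Groth.Agent.Lib.helper10

namespace FF

open LaurentSeries

section Generic

variable {k : Type u} [Field k] {F : Type w} [Field F] [Algebra k F]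

/-- A nonzero constant Laurent series has valuation one. -/
theorem val_algebraMap_laurent {c : F} (hc : c ≠ 0) :
    Valued.v (algebraMap F (LaurentSeries F) c) = 1 := by
  have h1 : Valued.v (algebraMap F (LaurentSeries F) c) ≤ 1 := by
    rw [LaurentSeries.val_le_one_iff_eq_coe]
    exact ⟨PowerSeries.C c, by rw [LaurentSeries.algebraMap_apply, HahnSeries.ofPowerSeries_C]⟩
  have h2 : Valued.v (algebraMap F (LaurentSeries F) c⁻¹) ≤ 1 := by
    rw [LaurentSeries.val_le_one_iff_eq_coe]
    exact ⟨PowerSeries.C c⁻¹, by rw [LaurentSeries.algebraMap_apply, HahnSeries.ofPowerSeries_C]⟩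
  have h3 : Valued.v (algebraMap F (LaurentSeries F) c) *
      Valued.v (algebraMap F (LaurentSeries F) c⁻¹) = 1 := by
    rw [← map_mul, ← map_mul, mul_inv_cancel₀ hc, map_one, map_one]
  apply le_antisymm h1
  calc (1 : WithZero (Multiplicative ℤ)) = Valued.v (algebraMap F (LaurentSeries F) c) *
        Valued.v (algebraMap F (LaurentSeries F) c⁻¹) := h3.symm
    _ ≤ Valued.v (algebraMap F (LaurentSeries F) c) * 1 := mul_le_mul' le_rfl h2
    _ = _ := mul_one _

/-- `dx` has order zero at an unramified expansion over a finite place (no perfectness needed: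
the existence of the expansion forces the uniformizing polynomial to be separable). -/
theorem val_DX_fin_unram' (p : Place k (RatFunc k))
    (hX : p.1 (RatFunc.X : RatFunc k) ≤ 1) (χ : RatFunc k →ₐ[k] LaurentSeries F)
    (hv : ∀ u, Valued.v (χ u) = p.1 u) : Valued.v (LocRes.D F (χ RatFunc.X)) = 1 := by
  obtain ⟨π, hπ, hπv⟩ := Place.exists_irreducible_uniformizer p hX
  have hlt : p.1 (algebraMap k[X] (RatFunc k) π) < 1 := by
    rw [hπv, ← WithZero.exp_zero, WithZero.exp_lt_exp]
    norm_num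
  have h1 : Valued.v (LocRes.D F (χ (algebraMap k[X] (RatFunc k) π))) =
      WithZero.exp (-((1 : ℤ) - 1)) :=
    val_D_eq (by rw [hv, hπv]) (by simp)
  rw [D_ratFunc_polynomial, map_mul, hv, sub_self, neg_zero, WithZero.exp_zero] at h1
  have hπ'0 : derivative π ≠ 0 := by
    intro h0
    rw [h0, map_zero, Valuation.map_zero, zero_mul] at h1
    exact zero_ne_one h1
  have hndvd : ¬ π ∣ derivative π := by
    apply Polynomial.not_dvd_of_natDegree_lt hπ'0
    apply natDegree_derivative_lt
    intro h0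
    exact hπ.not_isUnit (by
      rw [eq_C_of_natDegree_eq_zero h0]
      apply Polynomial.isUnit_C.mpr
      rw [isUnit_iff_ne_zero]
      intro hc
      apply hπ.ne_zero
      rw [eq_C_of_natDegree_eq_zero h0, hc, C_0])
  rw [Place.val_eq_one_of_not_dvd p hπ hlt hndvd, one_mul] at h1
  exact h1

end Generic

section HyperLocal

variable {k : Type u} [Field k] {F : Type w} [Field F] [Algebra k F]

theorem two_ne_zero_of_ringChar {F : Type w} [Field F] [Algebra k F] (h2 : ringChar k ≠ 2) :
    (2 : F) ≠ 0 := by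
  have h2k : (2 : k) ≠ 0 := Ring.two_ne_zero h2
  rw [← map_ofNat (algebraMap k F) 2]
  exact (_root_.map_ne_zero _).mpr h2k

theorem val_two_laurent (h2 : ringChar k ≠ 2) : Valued.v (2 : LaurentSeries F) = 1 := by
  rw [← map_ofNat (algebraMap F (LaurentSeries F)) 2]
  exact val_algebraMap_laurent (two_ne_zero_of_ringChar (k := k) h2)

/-- The valuation of `d(Y²)`. -/
theorem val_D_sq (h2 : ringChar k ≠ 2) (Y : LaurentSeries F) :
    Valued.v (LocRes.D F (Y ^ 2)) = Valued.v Y * Valued.v (LocRes.D F Y) := by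
  rw [Derivation.leibniz_pow, nsmul_eq_mul, smul_eq_mul, map_mul, map_mul, Nat.cast_ofNat,
    val_two_laurent (k := k) h2, one_mul, pow_one]

/-- `dx` at a ramified expansion over a finite zero of a squarefree `f`, for `y² = f`. -/
theorem val_DX_hyper_fin_ram (h2 : ringChar k ≠ 2) (p : Place k (RatFunc k))
    (hX : p.1 (RatFunc.X : RatFunc k) ≤ 1) (χ : RatFunc k →ₐ[k] LaurentSeries F)
    (hv : ∀ u, Valued.v (χ u) = p.1 u ^ 2) {f : k[X]} {Y : LaurentSeries F}
    (hY : Y ^ 2 = χ (algebraMap k[X] (RatFunc k) f))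
    (hvY : Valued.v Y = WithZero.exp (-(1 : ℤ))) :
    Valued.v (LocRes.D F (χ RatFunc.X)) = WithZero.exp (-(1 : ℤ)) := by
  have hDY : Valued.v (LocRes.D F Y) = WithZero.exp (-((1 : ℤ) - 1)) := val_D_eq hvY (by simp)
  have h1 := val_D_sq (k := k) h2 Y
  rw [hY, D_ratFunc_polynomial, map_mul, hv, hvY, hDY, sub_self, neg_zero, WithZero.exp_zero,
    mul_one] at h1
  obtain ⟨δ, hδ⟩ : ∃ δ, δ = LocRes.D F (χ RatFunc.X) := ⟨_, rfl⟩
  rw [← hδ] at h1 ⊢
  have hδle : Valued.v δ ≤ 1 := by
    rw [hδ]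
    apply val_D_le_one
    rw [hv]
    exact pow_le_one' hX 2
  have hf'le : p.1 (algebraMap k[X] (RatFunc k) (derivative f)) ≤ 1 :=
    Place.val_polynomial_le_one p hX _
  have hδ0 : Valued.v δ ≠ 0 := by
    intro h0
    rw [h0, mul_zero] at h1
    exact WithZero.exp_ne_zero h1.symm
  have hf'0 : p.1 (algebraMap k[X] (RatFunc k) (derivative f)) ≠ 0 := by
    intro h0
    rw [h0, zero_pow (by norm_num), zero_mul] at h1
    exact WithZero.exp_ne_zero h1.symm
  obtain ⟨i, hi⟩ : ∃ i : ℤ, p.1 (algebraMap k[X] (RatFunc k) (derivative f)) = WithZero.exp i :=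
    ⟨_, (WithZero.exp_log hf'0).symm⟩
  obtain ⟨j, hj⟩ : ∃ j : ℤ, Valued.v δ = WithZero.exp j := ⟨_, (WithZero.exp_log hδ0).symm⟩
  rw [hi, ← WithZero.exp_zero, WithZero.exp_le_exp] at hf'le
  rw [hj, ← WithZero.exp_zero, WithZero.exp_le_exp] at hδle
  rw [hi, hj, ← WithZero.exp_nsmul, ← WithZero.exp_add] at h1
  have h3 := WithZero.exp_injective h1
  simp only [nsmul_eq_mul, Nat.cast_ofNat] at h3
  rw [hj]
  congr 1
  omega

/-- `dx` at a ramified expansion over infinity for `y² = f`, `deg f = 2g + 1`. -/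
theorem val_DX_hyper_inf_ram (h2 : ringChar k ≠ 2) (p : Place k (RatFunc k))
    (hX : 1 < p.1 (RatFunc.X : RatFunc k)) (χ : RatFunc k →ₐ[k] LaurentSeries F)
    (hv : ∀ u, Valued.v (χ u) = p.1 u ^ 2) {f : k[X]} {g : ℕ} (hfg : f.natDegree = 2 * g + 1)
    {Y : LaurentSeries F} (hY : Y ^ 2 = χ (algebraMap k[X] (RatFunc k) f))
    (hvY : Valued.v Y = WithZero.exp ((2 * g + 1 : ℕ) : ℤ)) :
    Valued.v (LocRes.D F (χ RatFunc.X)) = WithZero.exp (3 : ℤ) := by
  have hpX : p.ord (RatFunc.X : RatFunc k) < 0 := (Place.ord_neg_iff p RatFunc.X_ne_zero).mpr hX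
  have hordX := (Place.infinity_deg_and_ord p hpX).2
  have hf0 : f ≠ 0 := by
    rintro rfl
    rw [natDegree_zero] at hfg
    omega
  have hιf0 : algebraMap k[X] (RatFunc k) f ≠ 0 :=
    (_root_.map_ne_zero_iff _ (RatFunc.algebraMap_injective k)).mpr hf0
  have hordf := Place.infinity_ord_polynomial p hpX hf0
  obtain ⟨r, hr⟩ : ∃ r : RatFunc k, r = RatFunc.X ^ (2 * g) / algebraMap k[X] (RatFunc k) f :=
    ⟨_, rfl⟩
  have hXpow0 : (RatFunc.X : RatFunc k) ^ (2 * g) ≠ 0 := pow_ne_zero _ RatFunc.X_ne_zero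
  have hr0 : r ≠ 0 := by rw [hr]; exact div_ne_zero hXpow0 hιf0
  have hordr : p.ord r = 1 := by
    rw [hr, div_eq_mul_inv, Place.ord_mul p hXpow0 (inv_ne_zero hιf0), Place.ord_inv,
      Place.ord_pow', hordX, hordf, hfg]
    push_cast
    ring
  obtain ⟨hr'0, hordr'⟩ := Place.infinity_ord_ratDeriv p hX hr0 (by rw [hordr]; simp)
  have hY0 : Y ≠ 0 := ne_zero_of_val_eq_exp hvY
  obtain ⟨T, hT⟩ : ∃ T : LaurentSeries F, T = (χ RatFunc.X) ^ g * Y⁻¹ := ⟨_, rfl⟩
  have hvΞ : Valued.v (χ RatFunc.X) = WithZero.exp (2 : ℤ) := by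
    rw [hv, Place.val_eq_exp_neg_ord p RatFunc.X_ne_zero, hordX, ← WithZero.exp_nsmul]
    simp
  have hvT : Valued.v T = WithZero.exp (-(1 : ℤ)) := by
    rw [hT, map_mul, map_pow, map_inv₀, hvΞ, hvY, ← WithZero.exp_nsmul, ← WithZero.exp_neg,
      ← WithZero.exp_add]
    congr 1
    simp only [nsmul_eq_mul]
    push_cast
    ring
  have hT2 : T ^ 2 = χ r := by
    rw [hT, hr, map_div₀, map_pow, mul_pow, inv_pow, hY, ← pow_mul, div_eq_mul_inv]
    congr 2
    ring
  have hDT : Valued.v (LocRes.D F T) = WithZero.exp (-((1 : ℤ) - 1)) := val_D_eq hvT (by simp)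
  have h1 := val_D_sq (k := k) h2 T
  rw [hT2, D_ratFunc, map_mul, hv, hvT, hDT, sub_self, neg_zero, WithZero.exp_zero, mul_one,
    Place.val_eq_exp_neg_ord p hr'0, hordr', hordr, ← WithZero.exp_nsmul] at h1
  obtain ⟨δ, hδ⟩ : ∃ δ, δ = LocRes.D F (χ RatFunc.X) := ⟨_, rfl⟩
  rw [← hδ] at h1 ⊢
  have h6 : Valued.v δ = WithZero.exp (4 : ℤ) *
      (WithZero.exp (2 • -((1 : ℤ) + 1)) * Valued.v δ) := by
    have e : ((4 : ℤ) + 2 • -((1 : ℤ) + 1)) = 0 := by
      simp only [nsmul_eq_mul]
      norm_num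
    rw [← mul_assoc, ← WithZero.exp_add, e, WithZero.exp_zero, one_mul]
  rw [h6, h1, ← WithZero.exp_add]
  congr 1

end HyperLocal

section HyperGlobal

variable {k : Type u} {K : Type v} [Field k] [Field K] [Algebra k K] [Algebra (RatFunc k) K]
  [IsScalarTower k (RatFunc k) K]

variable (h2 : ringChar k ≠ 2)
  (hdeg : Module.finrank (RatFunc k) K = 2) {y : K} {f : k[X]} (hf : Squarefree f)
  (hd : 1 ≤ f.natDegree)
  (heq : y ^ 2 = algebraMap (RatFunc k) K (algebraMap k[X] (RatFunc k) f))

include h2 hdeg hf hd heq in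
/-- Over a place where `f` is a unit the extension `y² = f` is unramified. -/
theorem hyper_unramified_of_unit {P : Place k K} {p : Place k (RatFunc k)} {e : ℕ}
    (he : IsOverWith P p e) (hunit : p.1 (algebraMap k[X] (RatFunc k) f) = 1) : e = 1 := by
  haveI := finiteDimensional_of_finrank_two hdeg
  have hR := isFunctionField_ratFunc (k := k)
  have hf0 : f ≠ 0 := by
    rintro rfl
    simp at hd
  have hy := hyper_not_mem_range hf hd heq
  have hιf0 : algebraMap k[X] (RatFunc k) f ≠ 0 :=
    (_root_.map_ne_zero_iff _ (RatFunc.algebraMap_injective k)).mpr hf0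
  have h2k : (2 : k) ≠ 0 := Ring.two_ne_zero h2
  have h2R : (2 : RatFunc k) ≠ 0 := by
    rw [← map_ofNat (algebraMap k (RatFunc k)) 2]
    exact (_root_.map_ne_zero _).mpr h2k
  haveI : IsGalois (RatFunc k) K := isGalois_of_sq hdeg h2R hιf0 heq hy
  obtain ⟨σ, hσ⟩ := exists_aut_ne_one (F := RatFunc k) (E := K) hdeg
  have hspan := span_of_not_mem_range hdeg hy
  have hσy : σ y = -y := by
    have h1 : σ y ≠ y := aut_apply_ne_of_span hspan hσ
    have h2' : (σ y) ^ 2 = y ^ 2 := by rw [← map_pow, heq, σ.commutes]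
    have h3 : (σ y - y) * (σ y + y) = 0 := by linear_combination h2'
    rcases mul_eq_zero.mp h3 with h | h
    · exact absurd (sub_eq_zero.mp h) h1
    · exact eq_neg_of_add_eq_zero_left h
  have hy0 : y ≠ 0 := by
    rintro rfl
    exact hy ⟨0, map_zero _⟩
  have hordy : P.ord y = 0 := by
    have h1 := two_mul_ord_eq he heq
    rw [Place.ord_of_val_eq_one p hunit, mul_zero] at h1
    omega
  have hy1 : P.1 y = 1 := by
    rw [Place.val_eq_exp_neg_ord P hy0, hordy, neg_zero, WithZero.exp_zero]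
  have hσ1 : P.1 (σ y - y) = 1 := by
    rw [hσy]
    have e1 : -y - y = -(2 * y) := by ring
    rw [e1, Valuation.map_neg, Valuation.map_mul, hy1, mul_one]
    have e2 : (2 : K) = algebraMap k K 2 := (map_ofNat _ 2).symm
    rw [e2]
    exact Place.val_algebraMap_eq_one P h2k
  exact quadratic_unramified hR hdeg he y σ hspan hy1.le hσ1

include h2 hdeg hf hd heq in
/-- The order of `dx` at every place of a hyperelliptic function field, read through an
expansion. -/
theorem hyper_val_DX (hK : IsFunctionField k K) (P : Place k K) {F : Type w} [Field F]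
    [Algebra k F] (φ : K →ₐ[k] LaurentSeries F) (hφ : LocRes.IsExpansionAt P.1 φ) :
    Valued.v (LocRes.D F (φ (algebraMap (RatFunc k) K RatFunc.X))) =
      WithZero.exp (-(P.ord y + ((genus k K : ℤ) - 1) *
        polesDiv k (algebraMap (RatFunc k) K RatFunc.X) P)) := by
  haveI := finiteDimensional_of_finrank_two hdeg
  have hR := isFunctionField_ratFunc (k := k)
  have hf0 : f ≠ 0 := by
    rintro rfl
    simp at hd
  have hy := hyper_not_mem_range hf hd heq
  have hy0 : y ≠ 0 := by
    rintro rfl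
    exact hy ⟨0, map_zero _⟩
  have hg := hyper_genus hK h2 hdeg hf hd heq
  obtain ⟨p, e, he⟩ := exists_place_under hR P
  rw [polesDiv_algebraMap_apply hR hK he]
  obtain ⟨χ, hχ⟩ : ∃ χ : RatFunc k →ₐ[k] LaurentSeries F,
      ∀ u, χ u = φ (algebraMap (RatFunc k) K u) :=
    ⟨φ.comp (IsScalarTower.toAlgHom k (RatFunc k) K), fun u => rfl⟩
  have hv : ∀ u, Valued.v (χ u) = p.1 u ^ e := fun u => by rw [hχ, hφ.1, he u]
  rw [← hχ]
  have h2ord := two_mul_ord_eq he heq
  have hY : (φ y) ^ 2 = χ (algebraMap k[X] (RatFunc k) f) := by rw [hχ, ← heq, map_pow]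
  by_cases hX : p.1 (RatFunc.X : RatFunc k) ≤ 1
  · rw [polesDiv_X_apply_of_le p hX, mul_zero, mul_zero, add_zero]
    by_cases hlt : p.1 (algebraMap k[X] (RatFunc k) f) < 1
    · obtain ⟨π, hπ, hπf, hπv⟩ := Place.exists_irreducible_factor p hX hf0 hlt
      have hram := (hyper_ramified_finite hdeg hf heq hπ hπf p hπv).2 P ⟨e, he⟩
      have he2 := isOverWith_unique_idx he hram.1
      subst he2
      have hordf : p.ord (algebraMap k[X] (RatFunc k) f) = 1 :=
        ord_of_val_eq_exp_neg_one p (Place.val_squarefree_eq p hπ hπv hf hπf)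
      have hordy : P.ord y = 1 := by
        rw [hordf] at h2ord
        push_cast at h2ord
        omega
      have hvY : Valued.v (φ y) = WithZero.exp (-(1 : ℤ)) := by
        rw [hφ.1, Place.val_eq_exp_neg_ord P hy0, hordy]
      rw [val_DX_hyper_fin_ram h2 p hX χ hv hY hvY, hordy]
    · have hunit : p.1 (algebraMap k[X] (RatFunc k) f) = 1 :=
        le_antisymm (Place.val_polynomial_le_one p hX f) (not_lt.mp hlt)
      have he1 := hyper_unramified_of_unit h2 hdeg hf hd heq he hunit
      subst he1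
      have hordy : P.ord y = 0 := by
        rw [Place.ord_of_val_eq_one p hunit] at h2ord
        omega
      rw [val_DX_fin_unram' p hX χ (fun u => by rw [hv, pow_one]), hordy, neg_zero,
        WithZero.exp_zero]
  · rw [not_le] at hX
    have hpX : p.ord (RatFunc.X : RatFunc k) < 0 :=
      (Place.ord_neg_iff p RatFunc.X_ne_zero).mpr hX
    rw [polesDiv_X_apply_of_lt p hX, mul_one]
    have hordf := Place.infinity_ord_polynomial p hpX hf0
    have hinf := hyper_infinity h2 hdeg hf hd heq p hpX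
    rcases Nat.even_or_odd f.natDegree with hev | hod
    · have he1 := isOverWith_unique_idx he ((hinf.2 hev).2 P ⟨e, he⟩)
      subst he1
      obtain ⟨m, hm⟩ := hev
      have hordy : P.ord y = -(m : ℤ) := by
        rw [hordf, hm] at h2ord
        push_cast at h2ord
        omega
      rw [val_DX_inf_unram p hX χ (fun u => by rw [hv, pow_one]), hordy, hg, hm]
      congr 1
      simp only [Nat.cast_one, mul_one]
      omega
    · have he2 := isOverWith_unique_idx he ((hinf.1 hod).2 P ⟨e, he⟩).1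
      subst he2
      obtain ⟨g, hgf⟩ := hod
      have hordy : P.ord y = -((2 * g + 1 : ℕ) : ℤ) := by
        rw [hordf, hgf] at h2ord
        push_cast at h2ord ⊢
        omega
      have hvY : Valued.v (φ y) = WithZero.exp ((2 * g + 1 : ℕ) : ℤ) := by
        rw [hφ.1, Place.val_eq_exp_neg_ord P hy0, hordy, neg_neg]
      rw [val_DX_hyper_inf_ram h2 p hX χ hv hgf hY hvY, hordy, hg, hgf]
      congr 1
      simp only [Nat.cast_ofNat]
      omega

include h2 hdeg hf hd heq in
theorem hyper_vDiff_le_one_iff (hK : IsFunctionField k K) (P : Place k K) {F : Type w} [Field F]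
    [Algebra k F] (φ : K →ₐ[k] LaurentSeries F) (hφ : LocRes.IsExpansionAt P.1 φ) (z : K) :
    LocRes.vDiff φ z (algebraMap (RatFunc k) K RatFunc.X) ≤ 1 ↔
      P.1 (z * y) ≤ WithZero.exp ((((genus k K : ℤ) - 1) •
        polesDiv k (algebraMap (RatFunc k) K RatFunc.X)) P) := by
  have hy := hyper_not_mem_range hf hd heq
  have hy0 : y ≠ 0 := by
    rintro rfl
    exact hy ⟨0, map_zero _⟩
  unfold LocRes.vDiff
  rw [map_mul, hyper_val_DX h2 hdeg hf hd heq hK P φ hφ, hφ.1, neg_add, WithZero.exp_add,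
    ← Place.val_eq_exp_neg_ord P hy0, ← mul_assoc, ← Valuation.map_mul, WithZero.exp_neg,
    mul_inv_le_iff₀ (zero_lt_iff.mpr WithZero.exp_ne_zero), one_mul, Finsupp.smul_apply,
    smul_eq_mul]

include h2 hdeg hf hd heq in
/-- **S12584**: the regular differentials of a hyperelliptic function field. -/
theorem hyper_regular_differentials (hK : IsFunctionField k K)
    (F : Place k K → Type w) [∀ P, Field (F P)] [∀ P, Algebra k (F P)]
    (φ : ∀ P, K →ₐ[k] LaurentSeries (F P)) (hφ : ∀ P, LocRes.IsExpansionAt P.1 (φ P)) :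
    (∀ i : ℕ, i < genus k K → ∀ P,
      LocRes.vDiff (φ P) (algebraMap (RatFunc k) K RatFunc.X ^ i / y)
        (algebraMap (RatFunc k) K RatFunc.X) ≤ 1) ∧
    ∀ z : K, (∀ P, LocRes.vDiff (φ P) z (algebraMap (RatFunc k) K RatFunc.X) ≤ 1) →
      ∃ a : k[X], a.degree < (genus k K : WithBot ℕ) ∧
        z = algebraMap (RatFunc k) K (algebraMap k[X] (RatFunc k) a) / y := by
  haveI := finiteDimensional_of_finrank_two hdeg
  have hy := hyper_not_mem_range hf hd heq
  have hy0 : y ≠ 0 := by
    rintro rfl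
    exact hy ⟨0, map_zero _⟩
  have hg := hyper_genus hK h2 hdeg hf hd heq
  obtain ⟨X', hX'⟩ : ∃ X' : K, X' = algebraMap (RatFunc k) K RatFunc.X := ⟨_, rfl⟩
  have hX'tr : Transcendental k X' := by
    rw [hX']
    exact (transcendental_algebraMap_iff (algebraMap (RatFunc k) K).injective).mpr
      RatFunc.transcendental_X
  have hdegD : (polesDiv k X').deg = 2 := by
    rw [deg_polesDiv hK hX'tr, hX', finrank_adjoin_algebraMap (k := k) (E := K),
      RatFunc.adjoin_X, IntermediateField.finrank_top, hdeg]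
    rfl
  rw [← hX']
  constructor
  · intro i hi P
    rw [hX']
    apply (hyper_vDiff_le_one_iff h2 hdeg hf hd heq hK P (φ P) (hφ P) _).mpr
    rw [div_mul_cancel₀ _ hy0]
    have hcast : ((genus k K : ℤ) - 1) = ((genus k K - 1 : ℕ) : ℤ) := by omega
    rw [hcast]
    have := hyper_poly_mem_L hK hd heq (m := genus k K - 1) (p := Polynomial.X ^ i)
      (by rw [natDegree_X_pow]; omega)
    rw [map_pow, aeval_X] at this
    exact this P
  · intro z hz
    have hzL : z * y ∈ L (((genus k K : ℤ) - 1) • polesDiv k X') := fun P => by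
      rw [hX']
      exact (hyper_vDiff_le_one_iff h2 hdeg hf hd heq hK P (φ P) (hφ P) z).mp (hX' ▸ hz P)
    by_cases hg0 : genus k K = 0
    · have hdegneg : ((((genus k K : ℤ) - 1)) • polesDiv k X').deg < 0 := by
        rw [deg_zsmul, hdegD, hg0]
        norm_num
      rw [L_eq_bot_of_deg_neg hK hdegneg, Submodule.mem_bot] at hzL
      have hz0 : z = 0 := by
        rcases mul_eq_zero.mp hzL with h | h
        · exact h
        · exact absurd h hy0
      refine ⟨0, ?_, ?_⟩
      · rw [degree_zero]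
        exact WithBot.bot_lt_coe _
      · rw [hz0, map_zero, map_zero, zero_div]
    · have hcast : ((genus k K : ℤ) - 1) = ((genus k K - 1 : ℕ) : ℤ) := by omega
      rw [hcast, hX'] at hzL
      obtain ⟨a, q, ha, hq, hzy⟩ := hyper_mem_L_decomp hK h2 hdeg hf hd heq hzL
      have hq0 : q = 0 := by
        rcases hq with h | h
        · exact h
        · exfalso
          omega
      rw [hq0, map_zero, zero_mul, add_zero] at hzy
      refine ⟨a, ?_, ?_⟩
      · apply lt_of_le_of_lt degree_le_natDegree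
        exact_mod_cast (by omega : a.natDegree < genus k K)
      · rw [eq_div_iff hy0, hzy, algebraMap_polynomial_eq_aeval]

end HyperGlobal

end FF

end Groth.Agent.Lib.helper10
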