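import Groth.Agent.Lib.Helper10.FunFld15

/-!
Function fields of one variable (helper10), part 16: `dim_K Ω = 1`, the duality theorem,
Riemann–Roch.
-/

set_option autoImplicit false
set_option linter.unusedSectionVars false
set_option linter.style.haveILetI false

universe u v w

open IntermediateField FunFld

namespace Groth.Agent.Lib.helper10

namespace FF

open RD

variable {k : Type u} {K : Type v} [Field k] [Field K] [Algebra k K]

theorem L_eq_bot_of_deg_neg (hK : IsFunctionField k K) {D : Divisor k K} (h : D.deg < 0) :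
    L D = ⊥ := by
  rw [eq_bot_iff]
  intro x hx
  rw [Submodule.mem_bot]
  by_contra hx0
  have h1 := (mem_L_iff_div hK hx0 D).mp hx
  have h3 := deg_nonneg h1
  rw [deg_add_div hK] at h3
  omega

theorem ell_eq_zero_of_deg_neg (hK : IsFunctionField k K) {D : Divisor k K} (h : D.deg < 0) :
    ell D = 0 := by
  unfold ell
  rw [L_eq_bot_of_deg_neg hK h]
  exact finrank_bot k K

theorem mulWL_zero (hK : IsFunctionField k K) (ω : Module.Dual k (adele k K)) :
    mulWL hK ω 0 = 0 := map_zero _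

/-- `dim_K Ω = 1`. -/
theorem exists_mulWL_eq (hK : IsFunctionField k K) {ω₁ ω₂ : Module.Dual k (adele k K)}
    (h₁ : IsWeil ω₁) (h0 : ω₁ ≠ 0) (h₂ : IsWeil ω₂) : ∃ x : K, mulWL hK ω₁ x = ω₂ := by
  by_cases h20 : ω₂ = 0
  · exact ⟨0, by rw [mulWL_zero, h20]⟩
  obtain ⟨A₁, hA₁⟩ := h₁
  obtain ⟨A₂, hA₂⟩ := h₂
  obtain ⟨P⟩ := exists_place hK
  have hdP : (1 : ℤ) ≤ P.deg := by exact_mod_cast Place.deg_pos hK P
  set g : ℤ := ((genus k K : ℕ) : ℤ) with hg
  set m : ℕ := (3 * g - 3 - A₁.deg - A₂.deg).toNat + 1 with hm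
  have hm1 : 3 * g - 3 - A₁.deg - A₂.deg < m := by
    rw [hm]
    push_cast
    have := Int.self_le_toNat (3 * g - 3 - A₁.deg - A₂.deg)
    omega
  have hm0 : (1 : ℤ) ≤ m := by
    rw [hm]
    push_cast
    omega
  set B : Divisor k K := Finsupp.single P (m : ℤ) with hB
  have hdegB : B.deg = m * P.deg := deg_single P m
  have hdegB1 : (m : ℤ) ≤ B.deg := by
    rw [hdegB]
    nlinarith
  -- the two subspaces of `W(-B)`
  set U₁ : Submodule k (Module.Dual k (adele k K)) := (L (A₁ + B)).map (mulWL hK ω₁) with hU₁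
  set U₂ : Submodule k (Module.Dual k (adele k K)) := (L (A₂ + B)).map (mulWL hK ω₂) with hU₂
  have hU₁le : U₁ ≤ WD (-B) := by
    rintro _ ⟨x, hx, rfl⟩
    have := mulWL_mem_WD hK hx hA₁
    have e : A₁ - (A₁ + B) = -B := by abel
    rwa [e] at this
  have hU₂le : U₂ ≤ WD (-B) := by
    rintro _ ⟨x, hx, rfl⟩
    have := mulWL_mem_WD hK hx hA₂
    have e : A₂ - (A₂ + B) = -B := by abel
    rwa [e] at this
  have hWfin := finrank_WD hK (-B)
  haveI := hWfin.1
  haveI := finiteDimensional_L hK (A₁ + B)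
  haveI := finiteDimensional_L hK (A₂ + B)
  have hd1 : Module.finrank k U₁ = ell (A₁ + B) :=
    (Submodule.equivMapOfInjective _ (mulWL_injective hK h0) (L (A₁ + B))).finrank_eq.symm
  have hd2 : Module.finrank k U₂ = ell (A₂ + B) :=
    (Submodule.equivMapOfInjective _ (mulWL_injective hK h20) (L (A₂ + B))).finrank_eq.symm
  haveI : FiniteDimensional k U₁ := Submodule.finiteDimensional_of_le hU₁le
  haveI : FiniteDimensional k U₂ := Submodule.finiteDimensional_of_le hU₂le
  have hsum := Submodule.finrank_sup_add_finrank_inf_eq U₁ U₂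
  have hsup : Module.finrank k ↥(U₁ ⊔ U₂) ≤ Module.finrank k (WD (-B)) :=
    Submodule.finrank_mono (sup_le hU₁le hU₂le)
  have hr1 := delta_le_genus hK (A₁ + B)
  have hr2 := delta_le_genus hK (A₂ + B)
  rw [deg_add] at hr1 hr2
  have hnegB : (-B).deg < 0 := by
    rw [deg_neg]
    linarith
  have hW : (Module.finrank k (WD (-B)) : ℤ) = g + B.deg - 1 := by
    rw [hWfin.2]
    unfold delta
    rw [ell_eq_zero_of_deg_neg hK hnegB, deg_neg]
    push_cast
    ring
  have hinf : 0 < Module.finrank k ↥(U₁ ⊓ U₂) := by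
    have e1 : (Module.finrank k ↥(U₁ ⊔ U₂) : ℤ) + Module.finrank k ↥(U₁ ⊓ U₂) =
        ell (A₁ + B) + ell (A₂ + B) := by
      rw [← hd1, ← hd2]
      exact_mod_cast hsum
    have e2 : (Module.finrank k ↥(U₁ ⊔ U₂) : ℤ) ≤ g + B.deg - 1 := by
      rw [← hW]
      exact_mod_cast hsup
    have : (0 : ℤ) < Module.finrank k ↥(U₁ ⊓ U₂) := by linarith
    exact_mod_cast this
  haveI : Nontrivial ↥(U₁ ⊓ U₂) := Module.nontrivial_of_finrank_pos hinf
  obtain ⟨η, hη⟩ := exists_ne (0 : ↥(U₁ ⊓ U₂))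
  obtain ⟨x₁, -, hx₁⟩ := η.2.1
  obtain ⟨x₂, -, hx₂⟩ := η.2.2
  have hx₂0 : x₂ ≠ 0 := by
    rintro rfl
    rw [mulWL_zero] at hx₂
    exact hη (Subtype.ext hx₂.symm)
  refine ⟨x₁ * x₂⁻¹, ?_⟩
  rw [← mulWL_mul, hx₁, ← hx₂, mulWL_mul, mul_inv_cancel₀ hx₂0, mulWL_one]

/-- The duality theorem: multiplication by `ω` is a bijection `L(C - D) → W(D)`. -/
theorem duality (hK : IsFunctionField k K) {ω : Module.Dual k (adele k K)} {C : Divisor k K}
    (hω : IsDivOf ω C) (D : Divisor k K) {ω' : Module.Dual k (adele k K)} (hω' : ω' ∈ WD D) :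
    ∃! x : K, x ∈ L (C - D) ∧ mulWL hK ω x = ω' := by
  have hω0 := IsDivOf.ne_zero' hK hω
  obtain ⟨x, hx⟩ := exists_mulWL_eq hK ⟨C, (IsDivOf.mem_WD hω)⟩ hω0 ⟨D, hω'⟩
  refine ⟨x, ⟨?_, hx⟩, fun y hy => mulWL_injective hK hω0 (hy.2.trans hx.symm)⟩
  by_cases hx0 : x = 0
  · rw [hx0]
    exact Submodule.zero_mem _
  · have h1 := isDivOf_mulWL hK hx0 hω
    rw [hx] at h1
    have h2 := (h1 D).mp hω'
    rw [mem_L_iff_div hK hx0]
    have : C - D + FunFld.div k x = C + FunFld.div k x - D := by abel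
    rw [this]
    exact sub_nonneg.mpr h2

/-- **Riemann–Roch.** -/
theorem riemann_roch (hK : IsFunctionField k K) {C : Divisor k K} (hC : IsCanonical k K C)
    (D : Divisor k K) : (ell D : ℤ) = D.deg + 1 - genus k K + ell (C - D) := by
  obtain ⟨ω, hω0, hω⟩ := hC
  let f : L (C - D) →ₗ[k] WD D :=
    LinearMap.codRestrict (WD D) ((mulWL hK ω).domRestrict (L (C - D))) (fun x => by
      have := mulWL_mem_WD hK x.2 (IsDivOf.mem_WD hω)
      have e : C - (C - D) = D := by abel
      rwa [e] at this)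
  have hinj : Function.Injective f := by
    intro x y hxy
    apply Subtype.ext
    apply mulWL_injective hK hω0
    exact congrArg Subtype.val hxy
  have hsurj : Function.Surjective f := by
    intro η
    obtain ⟨x, ⟨hx, hxη⟩, -⟩ := duality hK hω D η.2
    exact ⟨⟨x, hx⟩, Subtype.ext hxη⟩
  have e := (LinearEquiv.ofBijective f ⟨hinj, hsurj⟩).finrank_eq
  have h1 := (finrank_WD hK D).2
  rw [← e] at h1
  change (ell (C - D) : ℤ) = _ at h1
  unfold delta at h1
  linarith

theorem isCanonical_add_div (hK : IsFunctionField k K) {C : Divisor k K} (hC : IsCanonical k K C)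
    {z : K} (hz : z ≠ 0) : IsCanonical k K (C + FunFld.div k z) := by
  obtain ⟨ω, hω0, hω⟩ := hC
  refine ⟨mulWL hK ω z, ?_, isDivOf_mulWL hK hz hω⟩
  intro h
  apply hz
  apply mulWL_injective hK hω0
  rw [h, mulWL_zero]

/-- Any two canonical divisors are linearly equivalent. -/
theorem canonical_equiv (hK : IsFunctionField k K) {C₁ C₂ : Divisor k K}
    (h₁ : IsCanonical k K C₁) (h₂ : IsCanonical k K C₂) :
    ∃ x : K, x ≠ 0 ∧ C₂ = C₁ + FunFld.div k x := by
  obtain ⟨ω₁, hω₁0, hω₁⟩ := h₁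
  obtain ⟨ω₂, hω₂0, hω₂⟩ := h₂
  obtain ⟨x, hx⟩ := exists_mulWL_eq hK ⟨C₁, (IsDivOf.mem_WD hω₁)⟩ hω₁0 ⟨C₂, (IsDivOf.mem_WD hω₂)⟩
  have hx0 : x ≠ 0 := by
    rintro rfl
    rw [mulWL_zero] at hx
    exact hω₂0 hx.symm
  refine ⟨x, hx0, ?_⟩
  have h1 := isDivOf_mulWL hK hx0 hω₁
  rw [hx] at h1
  exact isDivOf_unique hω₂ h1

theorem ell_canonical (hK : IsFunctionField k K) {C : Divisor k K} (hC : IsCanonical k K C) :
    ell C = genus k K ∧ C.deg = 2 * (genus k K : ℤ) - 2 := by
  have h1 := riemann_roch hK hC 0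
  rw [ell_zero hK, deg_zero, sub_zero] at h1
  have h2 := riemann_roch hK hC C
  rw [sub_self, ell_zero hK] at h2
  push_cast at h1 h2
  constructor
  · have : (ell C : ℤ) = genus k K := by linarith
    exact_mod_cast this
  · linarith

theorem exists_canonical (hK : IsFunctionField k K) : ∃ W : Divisor k K, IsCanonical k K W := by
  obtain ⟨P⟩ := exists_place hK
  have hdP : (1 : ℤ) ≤ P.deg := by exact_mod_cast Place.deg_pos hK P
  set D : Divisor k K := -Finsupp.single P 2 with hD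
  have hdeg : D.deg = -(2 * P.deg) := by rw [hD, deg_neg, deg_single]
  have hneg : D.deg < 0 := by
    rw [hdeg]
    linarith
  have h1 := finrank_WD hK D
  unfold delta at h1
  rw [ell_eq_zero_of_deg_neg hK hneg, hdeg] at h1
  haveI := h1.1
  have hpos : 0 < Module.finrank k (WD D) := by
    have : (0 : ℤ) < Module.finrank k (WD D) := by
      rw [h1.2]
      push_cast
      have := Int.natCast_nonneg (genus k K)
      linarith
    exact_mod_cast this
  haveI : Nontrivial (WD D) := Module.nontrivial_of_finrank_pos hpos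
  obtain ⟨η, hη⟩ := exists_ne (0 : WD D)
  have hη0 : (η : Module.Dual k (adele k K)) ≠ 0 := fun h => hη (Subtype.ext h)
  obtain ⟨W, hW⟩ := exists_isDivOf hK ⟨D, η.2⟩ hη0
  exact ⟨W, η, hη0, hW⟩

theorem eq_zero_of_nonneg_of_deg_eq_zero (hK : IsFunctionField k K) {E : Divisor k K} (h0 : 0 ≤ E)
    (hd : E.deg = 0) : E = 0 := by
  ext P
  by_contra hP
  have hPs : P ∈ E.support := Finsupp.mem_support_iff.mpr hP
  have hpos : 0 < E P := lt_of_le_of_ne (h0 P) (Ne.symm hP)
  have hdP : (0 : ℤ) < P.deg := by exact_mod_cast Place.deg_pos hK P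
  have h1 : E P * P.deg ≤ E.deg := by
    unfold Divisor.deg Finsupp.sum
    exact Finset.single_le_sum (f := fun Q => E Q * (Q.deg : ℤ))
      (fun Q _ => mul_nonneg (h0 Q) (Int.natCast_nonneg _)) hPs
  have := mul_pos hpos hdP
  linarith

/-- Characterisation of canonical divisors. -/
theorem isCanonical_iff (hK : IsFunctionField k K) (C : Divisor k K) :
    IsCanonical k K C ↔ (ell C = genus k K ∧ C.deg = 2 * (genus k K : ℤ) - 2) := by
  constructor
  · exact ell_canonical hK
  · rintro ⟨h1, h2⟩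
    obtain ⟨W, hW⟩ := exists_canonical hK
    have hW' := ell_canonical hK hW
    have hrr := riemann_roch hK hW C
    rw [h1, h2] at hrr
    have hell : (ell (W - C) : ℤ) = 1 := by linarith
    have hpos : 0 < ell (W - C) := by
      have : (0 : ℤ) < ell (W - C) := by rw [hell]; exact one_pos
      exact_mod_cast this
    obtain ⟨z, hz0, hz⟩ := exists_ne_zero_mem_L hK hpos
    rw [mem_L_iff_div hK hz0] at hz
    have hdeg : (W - C + FunFld.div k z).deg = 0 := by
      rw [deg_add_div hK, deg_sub, hW'.2, h2, sub_self]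
    have h0 := eq_zero_of_nonneg_of_deg_eq_zero hK hz hdeg
    have hC : C = W + FunFld.div k z := by
      have : W + FunFld.div k z = C + (W - C + FunFld.div k z) := by abel
      rw [this, h0, add_zero]
    rw [hC]
    exact isCanonical_add_div hK hW hz0

/-- Divisors of degree `≥ 2g - 1` are nonspecial. -/
theorem ell_of_deg_ge (hK : IsFunctionField k K) {D : Divisor k K}
    (h : 2 * (genus k K : ℤ) - 1 ≤ D.deg) : (ell D : ℤ) = D.deg + 1 - genus k K := by
  obtain ⟨W, hW⟩ := exists_canonical hK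
  have hW' := ell_canonical hK hW
  have hrr := riemann_roch hK hW D
  have hneg : (W - D).deg < 0 := by
    rw [deg_sub, hW'.2]
    linarith
  rw [ell_eq_zero_of_deg_neg hK hneg] at hrr
  push_cast at hrr
  linarith

end FF

end Groth.Agent.Lib.helper10
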