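import Groth.Agent.Lib.Helper10.LocRes5

/-!
Local residues through Laurent expansions (helper10), part 7: the coefficient field of an expansion
of a geometric function field is separable over the constants; a separating differential has a
nonzero residue against some function (S12590).
-/

set_option autoImplicit false
set_option linter.unusedSectionVars false
set_option linter.style.haveILetI false

universe u v w

open FunFld Polynomial

namespace Groth.Agent.Lib.helper10

namespace FF

open LaurentSeries

section CoeffDer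

variable {k : Type u} [Field k] {F : Type w} [Field F] [Algebra k F]

/-- Coefficientwise application of a derivation of the coefficient field. -/
noncomputable def coeffDer (δ : Derivation k F F) (f : LaurentSeries F) : LaurentSeries F :=
  f.map (δ : F →+ F)

theorem coeffDer_coeff (δ : Derivation k F F) (f : LaurentSeries F) (n : ℤ) :
    (coeffDer δ f).coeff n = δ (f.coeff n) := rfl

theorem coeffDer_add (δ : Derivation k F F) (f g : LaurentSeries F) :
    coeffDer δ (f + g) = coeffDer δ f + coeffDer δ g := by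
  ext n
  rw [HahnSeries.coeff_add, coeffDer_coeff, coeffDer_coeff, coeffDer_coeff, HahnSeries.coeff_add,
    map_add]

theorem coeffDer_mul (δ : Derivation k F F) (f g : LaurentSeries F) :
    coeffDer δ (f * g) = f * coeffDer δ g + g * coeffDer δ f := by
  ext n
  have hs1 : (coeffDer δ f).support ⊆ f.support := by
    intro i hi
    rw [HahnSeries.mem_support, coeffDer_coeff] at hi
    rw [HahnSeries.mem_support]
    intro h0
    exact hi (by rw [h0, map_zero])
  have hs2 : (coeffDer δ g).support ⊆ g.support := by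
    intro i hi
    rw [HahnSeries.mem_support, coeffDer_coeff] at hi
    rw [HahnSeries.mem_support]
    intro h0
    exact hi (by rw [h0, map_zero])
  rw [HahnSeries.coeff_add, coeffDer_coeff, HahnSeries.coeff_mul,
    HahnSeries.coeff_mul_right' g.isPWO_support hs2, mul_comm g,
    HahnSeries.coeff_mul_left' f.isPWO_support hs1, map_sum, ← Finset.sum_add_distrib]
  apply Finset.sum_congr rfl
  intro ij _
  rw [Derivation.leibniz, coeffDer_coeff, coeffDer_coeff, smul_eq_mul, smul_eq_mul]
  ring

theorem coeffDer_C (δ : Derivation k F F) (c : k) :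
    coeffDer δ (HahnSeries.C (algebraMap k F c)) = 0 := by
  ext n
  rw [coeffDer_coeff, HahnSeries.coeff_zero, HahnSeries.C_apply, HahnSeries.coeff_single]
  split_ifs
  · exact Derivation.map_algebraMap δ c
  · exact map_zero δ

theorem val_coeffDer_le (δ : Derivation k F F) {f : LaurentSeries F} {n : ℤ}
    (h : Valued.v f ≤ WithZero.exp (-n)) : Valued.v (coeffDer δ f) ≤ WithZero.exp (-n) := by
  rw [valuation_le_iff_coeff_lt_eq_zero] at h ⊢
  intro m hm
  rw [coeffDer_coeff, h m hm, map_zero]

end CoeffDer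

section DExpCoeff

variable {k : Type u} {K : Type v} [Field k] [Field K] [Algebra k K]
  {F : Type w} [Field F] [Algebra k F]

/-- The `k`-derivation `u ↦ δ̃ (φ u)` of `K` into Laurent series. -/
noncomputable def dExpCoeff (δ : Derivation k F F) (φ : K →ₐ[k] LaurentSeries F) :
    letI := φ.toRingHom.toAlgebra
    Derivation k K (LaurentSeries F) :=
  letI := φ.toRingHom.toAlgebra
  { toFun := fun a => coeffDer δ (φ a)
    map_add' := fun a b => show coeffDer δ (φ (a + b)) = coeffDer δ (φ a) + coeffDer δ (φ b) by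
      rw [map_add, coeffDer_add]
    map_smul' := fun c a => show coeffDer δ (φ (c • a)) = c • coeffDer δ (φ a) by
      rw [Algebra.smul_def, map_mul, coeffDer_mul, LocRes.map_algebraMap, coeffDer_C, mul_zero,
        add_zero, HahnSeries.C_mul_eq_smul, algebraMap_smul]
    map_one_eq_zero' := show coeffDer δ (φ 1) = 0 by
      have h1 : φ 1 = HahnSeries.C (algebraMap k F 1) := by
        have := LocRes.map_algebraMap φ (1 : k)
        rwa [map_one] at this
      rw [h1, coeffDer_C]
    leibniz' := fun a b => show coeffDer δ (φ (a * b)) =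
        φ a * coeffDer δ (φ b) + φ b * coeffDer δ (φ a) by
      rw [map_mul, coeffDer_mul] }

theorem coeffDer_eq_mul_of_kaehler (δ : Derivation k F F) {x x' u : K}
    (h : KaehlerDifferential.D k K x' = u • KaehlerDifferential.D k K x)
    (χ : K →ₐ[k] LaurentSeries F) :
    coeffDer δ (χ x') = χ u * coeffDer δ (χ x) := by
  letI := χ.toRingHom.toAlgebra
  haveI := LocRes.isScalarTower_exp χ
  have h1 := congrArg (dExpCoeff δ χ).liftKaehlerDifferential h
  rw [Derivation.liftKaehlerDifferential_comp_D, map_smul,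
    Derivation.liftKaehlerDifferential_comp_D] at h1
  exact h1

/-- The coefficient field of an expansion of a geometric function field is separable over the
constants. -/
theorem isSeparable_of_isExpansionAt (hK : IsFunctionField k K) (hg : IsGeometric k K)
    {P : Place k K} {φ : K →ₐ[k] LaurentSeries F} (hφ : LocRes.IsExpansionAt P.1 φ)
    [FiniteDimensional k F] : Algebra.IsSeparable k F := by
  obtain ⟨t, ht⟩ := hφ.2.2
  have hvt : Valued.v (φ t) = WithZero.exp (-(1 : ℤ)) := by rw [hφ.1, ht]
  have hDt := val_D_eq hvt (by simp)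
  rw [sub_self, neg_zero, WithZero.exp_zero] at hDt
  have hDt0 : LocRes.D F (φ t) ≠ 0 := by
    intro h
    rw [h, Valuation.map_zero] at hDt
    exact zero_ne_one hDt
  have hdt0 := kaehler_D_ne_zero_of φ hDt0
  have hder : ∀ (δ : Derivation k F F) (a : F), δ a = 0 := by
    intro δ a
    obtain ⟨z, hz1, hz0⟩ := hφ.2.1 a
    obtain ⟨z', hz'⟩ := exists_kaehler_eq_smul hK hg hdt0 z
    have e1 := D_eq_mul_of_kaehler hz' φ
    have e2 := coeffDer_eq_mul_of_kaehler δ hz' φ
    have hcross : coeffDer δ (φ z) * LocRes.D F (φ t) = LocRes.D F (φ z) * coeffDer δ (φ t) := by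
      rw [e1, e2]
      ring
    have h1 : Valued.v (coeffDer δ (φ t)) ≤ WithZero.exp (-(1 : ℤ)) := val_coeffDer_le δ hvt.le
    have h2 : Valued.v (LocRes.D F (φ z)) ≤ 1 := val_D_le_one (by rw [hφ.1]; exact hz1)
    have h3 : Valued.v (coeffDer δ (φ z)) ≤ WithZero.exp (-(1 : ℤ)) := by
      have := congrArg Valued.v hcross
      rw [Valuation.map_mul, hDt, mul_one, Valuation.map_mul] at this
      rw [this]
      calc _ ≤ 1 * WithZero.exp (-(1 : ℤ)) := mul_le_mul' h2 h1
        _ = _ := one_mul _
    rw [valuation_le_iff_coeff_lt_eq_zero] at h3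
    have h4 := h3 0 (by norm_num)
    rwa [coeffDer_coeff, hz0] at h4
  have hΩ : Subsingleton (Ω[F⁄k]) := by
    have hD0 : ∀ a : F, KaehlerDifferential.D k F a = 0 := by
      intro a
      rw [← Module.forall_dual_apply_eq_zero_iff F]
      intro ℓ
      exact hder (ℓ.compDer (KaehlerDifferential.D k F)) a
    have htop := KaehlerDifferential.span_range_derivation k F
    have hbot : Submodule.span F (Set.range (KaehlerDifferential.D k F)) = ⊥ := by
      rw [Submodule.span_eq_bot]
      rintro _ ⟨a, rfl⟩
      exact hD0 a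
    rw [hbot] at htop
    exact (Submodule.subsingleton_iff F).mp (subsingleton_of_bot_eq_top htop)
  haveI : Algebra.FormallyUnramified k F := ⟨hΩ⟩
  exact Algebra.FormallyUnramified.isSeparable k F

end DExpCoeff

section Residue

variable {F : Type w} [Field F]

/-- The residue of `g dτ/τ` for a local parameter `τ` and an integral `g`. -/
theorem res_mul_inv_mul_D {g τ : LaurentSeries F} (hg : Valued.v g ≤ 1)
    (hτ : Valued.v τ = WithZero.exp (-(1 : ℤ))) :
    LocRes.res F (g * τ⁻¹ * LocRes.D F τ) = g.coeff 0 := by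
  obtain ⟨s1, hs1⟩ : ∃ s1 : LaurentSeries F, s1 = HahnSeries.single (1 : ℤ) (1 : F) := ⟨_, rfl⟩
  obtain ⟨sm, hsm⟩ : ∃ sm : LaurentSeries F, sm = HahnSeries.single (-1 : ℤ) (1 : F) := ⟨_, rfl⟩
  have h11 : s1 * sm = 1 := by
    rw [hs1, hsm, HahnSeries.single_mul_single]
    simp
  have hsm0 : sm ≠ 0 := right_ne_zero_of_mul_eq_one h11
  have hs10 : s1 ≠ 0 := left_ne_zero_of_mul_eq_one h11
  obtain ⟨w, hw⟩ : ∃ w : LaurentSeries F, w = sm * τ := ⟨_, rfl⟩
  have hτw : τ = s1 * w := by rw [hw, ← mul_assoc, h11, one_mul]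
  have hvw : Valued.v w = 1 := by
    rw [hw, Valuation.map_mul, hτ, hsm, valuation_single_zpow, ← WithZero.exp_add]
    norm_num
  have hw0 : w ≠ 0 := by
    rintro rfl
    rw [Valuation.map_zero] at hvw
    exact zero_ne_one hvw
  have hDτ : LocRes.D F τ = s1 * LocRes.D F w + w := by
    rw [hτw, LocRes.D_apply, hs1, LocRes.derivative_single_mul, LocRes.D_apply]
    congr 1
    rw [sub_self, one_smul]
    exact one_mul w
  have hinv : τ⁻¹ = sm * w⁻¹ := by
    rw [hτw, mul_inv]
    congr 1
    exact inv_eq_of_mul_eq_one_right h11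
  have hexpr : g * τ⁻¹ * LocRes.D F τ = g * w⁻¹ * LocRes.D F w + g * sm := by
    rw [hinv, hDτ]
    have h2 : sm * s1 = 1 := by rw [mul_comm]; exact h11
    calc g * (sm * w⁻¹) * (s1 * LocRes.D F w + w)
        = g * w⁻¹ * LocRes.D F w * (sm * s1) + g * sm * (w⁻¹ * w) := by ring
      _ = _ := by rw [h2, inv_mul_cancel₀ hw0, mul_one, mul_one]
  rw [hexpr, map_add, LocRes.res_apply, LocRes.res_apply]
  have hpart : Valued.v (g * w⁻¹ * LocRes.D F w) ≤ WithZero.exp (-(0 : ℤ)) := by
    rw [neg_zero, WithZero.exp_zero, Valuation.map_mul, Valuation.map_mul, map_inv₀, hvw, inv_one,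
      mul_one]
    exact mul_le_one' hg (val_D_le_one hvw.le)
  rw [valuation_le_iff_coeff_lt_eq_zero] at hpart
  rw [hpart (-1) (by norm_num), zero_add, hsm, HahnSeries.coeff_mul_single]
  simp

end Residue

section S12590

variable {k : Type u} {K : Type v} [Field k] [Field K] [Algebra k K]
  {F : Type w} [Field F] [Algebra k F]

/-- **S12590**: a nonzero differential has a nonzero residue against some function. -/
theorem exists_locRes_ne_zero (hK : IsFunctionField k K) (hg : IsGeometric k K)
    {P : Place k K} [FiniteDimensional k F]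
    {φ : K →ₐ[k] LaurentSeries F} (hφ : LocRes.IsExpansionAt P.1 φ)
    {x : K} (hx : KaehlerDifferential.D k K x ≠ 0) :
    ∃ y : K, LocRes.locRes φ y x ≠ 0 := by
  haveI := isSeparable_of_isExpansionAt hK hg hφ
  obtain ⟨c, hc⟩ : ∃ c : F, Algebra.trace k F c ≠ 0 := by
    obtain ⟨c, hc⟩ := Algebra.trace_surjective k F 1
    exact ⟨c, by rw [hc]; exact one_ne_zero⟩
  obtain ⟨t, ht⟩ := hφ.2.2
  have hvt : Valued.v (φ t) = WithZero.exp (-(1 : ℤ)) := by rw [hφ.1, ht]
  have ht0 : t ≠ 0 := by
    rintro rfl
    rw [Valuation.map_zero] at ht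
    exact WithZero.exp_ne_zero ht.symm
  obtain ⟨u, hu⟩ := exists_kaehler_eq_smul hK hg hx t
  have hDt := D_eq_mul_of_kaehler hu φ
  obtain ⟨fc, hfc1, hfc0⟩ := hφ.2.1 c
  refine ⟨fc * u * t⁻¹, ?_⟩
  unfold LocRes.locRes LocRes.resExp
  have e1 : φ (fc * u * t⁻¹) * LocRes.D F (φ x) = φ fc * (φ t)⁻¹ * LocRes.D F (φ t) := by
    rw [map_mul, map_mul, map_inv₀, hDt]
    ring
  rw [e1, res_mul_inv_mul_D (by rw [hφ.1]; exact hfc1) hvt, hfc0]
  exact hc

end S12590

end FF

end Groth.Agent.Lib.helper10
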