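import Groth.Agent.Lib.Helper10.FunFld32

/-!
Function fields of one variable (helper10), part 33: general projective maps — the graded
ring of forms, the conductor, finiteness of the singular locus of a birational map.
-/

set_option autoImplicit false
set_option linter.unusedSectionVars false
set_option linter.style.haveILetI false

universe u v w

open IntermediateField FunFld Polynomial

namespace Groth.Agent.Lib.helper10

namespace FF

open RD PA

variable {k : Type u} {K : Type v} [Field k] [Field K] [Algebra k K]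

section General

variable {ι : Type*} [Fintype ι] [Nonempty ι]

theorem val_le_exp_mapDiv (hK : IsFunctionField k K) (φ : ι → K) (Q : Place k K) (i : ι) :
    Q.1 (φ i) ≤ WithZero.exp (mapDiv k φ Q) := by
  refine le_trans (Place.val_le_exp_neg_ord Q (φ i)) ?_
  rw [WithZero.exp_le_exp]
  exact neg_ord_le_mapDiv hK φ Q i

theorem exists_val_eq_exp_mapDiv (hK : IsFunctionField k K) (φ : ι → K) (h0 : ∀ i, φ i ≠ 0)
    (Q : Place k K) : ∃ i, Q.1 (φ i) = WithZero.exp (mapDiv k φ Q) := by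
  obtain ⟨i, hi⟩ := exists_mapDiv_eq hK φ Q
  exact ⟨i, by rw [hi, Place.val_eq_exp_neg_ord Q (h0 i)]⟩

theorem exists_argmax_gen (φ : ι → K) (Q : Place k K) :
    ∃ j : ι, ∀ i, Q.1 (φ i) ≤ Q.1 (φ j) := by
  obtain ⟨j, -, hj⟩ := Finset.exists_max_image Finset.univ (fun i => Q.1 (φ i))
    Finset.univ_nonempty
  exact ⟨j, fun i => hj i (Finset.mem_univ i)⟩

theorem val_argmax_eq_gen (hK : IsFunctionField k K) (φ : ι → K) (h0 : ∀ i, φ i ≠ 0)
    (Q : Place k K) (j : ι) (hj : ∀ i, Q.1 (φ i) ≤ Q.1 (φ j)) :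
    Q.1 (φ j) = WithZero.exp (mapDiv k φ Q) := by
  apply le_antisymm (val_le_exp_mapDiv hK φ Q j)
  obtain ⟨i, hi⟩ := exists_val_eq_exp_mapDiv hK φ h0 Q
  rw [← hi]
  exact hj i

theorem span_le_L_mapDiv (hK : IsFunctionField k K) (φ : ι → K) :
    Submodule.span k (Set.range φ) ≤ L (mapDiv k φ) := by
  rw [Submodule.span_le]
  rintro _ ⟨i, rfl⟩
  exact fun Q => val_le_exp_mapDiv hK φ Q i

/-- The forms of degree `m` in the entries of `φ`. -/
noncomputable def SG (k : Type u) {K : Type v} [Field k] [Field K] [Algebra k K] {ι : Type*}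
    (φ : ι → K) (m : ℕ) : Submodule k K :=
  (Submodule.span k (Set.range φ)) ^ m

theorem phi_mem_SG (φ : ι → K) (i : ι) : φ i ∈ SG k φ 1 := by
  unfold SG
  rw [pow_one]
  exact Submodule.subset_span ⟨i, rfl⟩

theorem mul_mem_SG {φ : ι → K} {m n : ℕ} {a b : K} (ha : a ∈ SG k φ m) (hb : b ∈ SG k φ n) :
    a * b ∈ SG k φ (m + n) := by
  unfold SG at *
  rw [pow_add]
  exact Submodule.mul_mem_mul ha hb

theorem algebraMap_mem_SG (φ : ι → K) (c : k) : algebraMap k K c ∈ SG k φ 0 := by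
  unfold SG
  rw [pow_zero]
  exact Submodule.algebraMap_mem c

theorem one_mem_SG (φ : ι → K) : (1 : K) ∈ SG k φ 0 := by
  have := algebraMap_mem_SG (k := k) φ 1
  rwa [map_one] at this

theorem pow_mem_SG {φ : ι → K} {m : ℕ} {a : K} (ha : a ∈ SG k φ m) (n : ℕ) :
    a ^ n ∈ SG k φ (n * m) := by
  induction n with
  | zero => rw [pow_zero, Nat.zero_mul]; exact one_mem_SG φ
  | succ n ih =>
    rw [pow_succ, Nat.succ_mul]
    exact mul_mem_SG ih ha

theorem phi_pow_mem_SG (φ : ι → K) (j : ι) (n : ℕ) : (φ j) ^ n ∈ SG k φ n := by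
  have := pow_mem_SG (phi_mem_SG (k := k) φ j) n
  rwa [mul_one] at this

theorem SG_succ (φ : ι → K) (m : ℕ) :
    SG k φ (m + 1) = SG k φ m * Submodule.span k (Set.range φ) := by
  unfold SG
  rw [pow_succ]

theorem SG_le_L (hK : IsFunctionField k K) (φ : ι → K) (m : ℕ) :
    SG k φ m ≤ L ((m : ℤ) • mapDiv k φ) := by
  induction m with
  | zero =>
    unfold SG
    rw [pow_zero, Nat.cast_zero, zero_smul, L_zero hK]
  | succ m ih =>
    rw [SG_succ, Submodule.mul_le]
    intro a ha b hb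
    have h1 := ih ha
    have h2 := span_le_L_mapDiv hK φ hb
    have h3 := W4c6gradedringsgw.mul_mem_L h1 h2
    rwa [Nat.cast_succ, add_smul, one_smul]

/-- Forms of degree `m` divided by `φ_j^m` are polynomials in the ratios `φ_i / φ_j`. -/
theorem div_pow_mem_adjoin_gen (φ : ι → K) (j : ι) (hj0 : φ j ≠ 0) {m : ℕ} {s : K}
    (hs : s ∈ SG k φ m) :
    s / (φ j) ^ m ∈ Algebra.adjoin k (Set.range fun i => φ i / φ j) := by
  set A := Algebra.adjoin k (Set.range fun i => φ i / φ j) with hA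
  have hW : ∀ b ∈ Submodule.span k (Set.range φ), b / φ j ∈ A := by
    intro b hb
    induction hb using Submodule.span_induction with
    | mem z hz =>
      obtain ⟨i, rfl⟩ := hz
      exact Algebra.subset_adjoin ⟨i, rfl⟩
    | zero => rw [zero_div]; exact zero_mem _
    | add a b _ _ ha hb => rw [add_div]; exact add_mem ha hb
    | smul c a _ ha => rw [smul_div_assoc]; exact Subalgebra.smul_mem _ ha c
  induction m generalizing s with
  | zero =>
    unfold SG at hs
    rw [pow_zero, Submodule.mem_one] at hs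
    obtain ⟨c, rfl⟩ := hs
    rw [pow_zero, div_one]
    exact Subalgebra.algebraMap_mem _ c
  | succ m ih =>
    rw [SG_succ] at hs
    refine Submodule.mul_induction_on hs (fun a ha b hb => ?_) (fun a b ha hb => ?_)
    · have e : a * b / φ j ^ (m + 1) = (a / φ j ^ m) * (b / φ j) := by
        rw [pow_succ]; field_simp
      rw [e]
      exact mul_mem (ih ha) (hW b hb)
    · rw [add_div]; exact add_mem ha hb

/-- Polynomials in the ratios `φ_i / φ_j` are forms of degree `n` divided by `φ_j^n`. -/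
theorem exists_mul_pow_mem_SG (φ : ι → K) (j : ι) (hj0 : φ j ≠ 0) {a : K}
    (ha : a ∈ Algebra.adjoin k (Set.range fun i => φ i / φ j)) :
    ∃ n₀ : ℕ, ∀ n, n₀ ≤ n → a * (φ j) ^ n ∈ SG k φ n := by
  have hpow : ∀ n : ℕ, (φ j) ^ n ∈ SG k φ n := phi_pow_mem_SG φ j
  induction ha using Algebra.adjoin_induction with
  | mem z hz =>
    obtain ⟨i, rfl⟩ := hz
    refine ⟨1, fun n hn => ?_⟩
    obtain ⟨n', rfl⟩ : ∃ n', n = n' + 1 := ⟨n - 1, by omega⟩
    have e : φ i / φ j * φ j ^ (n' + 1) = φ j ^ n' * φ i := by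
      rw [pow_succ]; field_simp
    show φ i / φ j * φ j ^ (n' + 1) ∈ SG k φ (n' + 1)
    rw [e]
    exact mul_mem_SG (hpow n') (phi_mem_SG φ i)
  | algebraMap r =>
    refine ⟨0, fun n _ => ?_⟩
    have := mul_mem_SG (algebraMap_mem_SG (k := k) φ r) (hpow n)
    rwa [zero_add] at this
  | add z w _ _ hz hw =>
    obtain ⟨n₁, h₁⟩ := hz
    obtain ⟨n₂, h₂⟩ := hw
    refine ⟨max n₁ n₂, fun n hn => ?_⟩
    rw [add_mul]
    exact add_mem (h₁ n (le_trans (le_max_left _ _) hn)) (h₂ n (le_trans (le_max_right _ _) hn))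
  | mul z w _ _ hz hw =>
    obtain ⟨n₁, h₁⟩ := hz
    obtain ⟨n₂, h₂⟩ := hw
    refine ⟨n₁ + n₂, fun n hn => ?_⟩
    have e : z * w * φ j ^ n = (z * φ j ^ n₁) * (w * φ j ^ (n - n₁)) := by
      have : n = n₁ + (n - n₁) := by omega
      conv_lhs => rw [this, pow_add]
      ring
    rw [e]
    have := mul_mem_SG (h₁ n₁ le_rfl) (h₂ (n - n₁) (by omega))
    rwa [show n₁ + (n - n₁) = n by omega] at this

/-! ### Generic sections -/

theorem generic_ne_top (hK : IsFunctionField k K) (φ : ι → K) (h0 : ∀ i, φ i ≠ 0)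
    (Q : Place k K) :
    Submodule.comap (Fintype.linearCombination k φ)
      (Place.ball Q (mapDiv k φ Q - 1)) ≠ ⊤ := by
  classical
  intro htop
  obtain ⟨j, hj⟩ := exists_val_eq_exp_mapDiv hK φ h0 Q
  have : (Pi.single j 1 : ι → k) ∈ Submodule.comap (Fintype.linearCombination k φ)
      (Place.ball Q (mapDiv k φ Q - 1)) := by rw [htop]; trivial
  have h2 : Q.1 (Fintype.linearCombination k φ (Pi.single j 1)) ≤
      WithZero.exp (mapDiv k φ Q - 1) := this
  rw [Fintype.linearCombination_apply_single, one_smul, hj, WithZero.exp_le_exp] at h2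
  omega

theorem linearCombination_mem_L (hK : IsFunctionField k K) (φ : ι → K) (c : ι → k) :
    Fintype.linearCombination k φ c ∈ L (mapDiv k φ) := by
  apply span_le_L_mapDiv hK φ
  rw [Fintype.linearCombination_apply]
  exact Submodule.sum_mem _ fun i _ => Submodule.smul_mem _ _ (Submodule.subset_span ⟨i, rfl⟩)

theorem linearCombination_mem_SG (φ : ι → K) (c : ι → k) :
    Fintype.linearCombination k φ c ∈ SG k φ 1 := by
  unfold SG
  rw [pow_one, Fintype.linearCombination_apply]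
  exact Submodule.sum_mem _ fun i _ => Submodule.smul_mem _ _ (Submodule.subset_span ⟨i, rfl⟩)

theorem val_eq_of_notMem (hK : IsFunctionField k K) (φ : ι → K) (Q : Place k K) (c : ι → k)
    (h : c ∉ Submodule.comap (Fintype.linearCombination k φ)
      (Place.ball Q (mapDiv k φ Q - 1))) :
    Q.1 (Fintype.linearCombination k φ c) = WithZero.exp (mapDiv k φ Q) := by
  have h1 : Fintype.linearCombination k φ c ∉ Place.ball Q (mapDiv k φ Q - 1) := h
  rw [Place.mem_ball, ← lt_exp_iff_le_exp_sub_one, not_lt] at h1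
  exact le_antisymm (linearCombination_mem_L hK φ c Q) h1

theorem exists_generic_section (hK : IsFunctionField k K) [IsAlgClosed k] (φ : ι → K)
    (h0 : ∀ i, φ i ≠ 0) (Z : Finset (Place k K)) :
    ∃ c : ι → k, ∀ Q ∈ Z,
      Q.1 (Fintype.linearCombination k φ c) = WithZero.exp (mapDiv k φ Q) := by
  classical
  let p : ↥(Z : Set (Place k K)) → Submodule k (ι → k) := fun Q =>
    Submodule.comap (Fintype.linearCombination k φ) (Place.ball Q.1 (mapDiv k φ Q.1 - 1))
  haveI : Finite ↥(Z : Set (Place k K)) := (Finset.finite_toSet _).to_subtype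
  obtain ⟨c, hc⟩ := Submodule.exists_forall_notMem_of_forall_ne_top p
    (fun Q => generic_ne_top hK φ h0 Q.1)
  exact ⟨c, fun Q hQ => val_eq_of_notMem hK φ Q c (hc ⟨Q, hQ⟩)⟩

/-- A base-point-free pair of linear forms. -/
theorem exists_bpf_pair_span (hK : IsFunctionField k K) [IsAlgClosed k] (φ : ι → K)
    (h0 : ∀ i, φ i ≠ 0) :
    ∃ s t : K, s ∈ SG k φ 1 ∧ t ∈ SG k φ 1 ∧ IsBpfPair (mapDiv k φ) s t := by
  classical
  set D := mapDiv k φ with hD
  obtain ⟨j₀⟩ := ‹Nonempty ι›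
  obtain ⟨P₀⟩ := exists_place hK
  have hsL : φ j₀ ∈ L D := fun Q => val_le_exp_mapDiv hK φ Q j₀
  set E : Divisor k K := D + FunFld.div k (φ j₀) with hE
  have hE0 : 0 ≤ E := (mem_L_iff_div hK (h0 j₀) _).mp hsL
  obtain ⟨c, hc⟩ := exists_generic_section hK φ h0 (insert P₀ E.support)
  refine ⟨φ j₀, Fintype.linearCombination k φ c, phi_mem_SG φ j₀, linearCombination_mem_SG φ c,
    hsL, linearCombination_mem_L hK φ c, h0 j₀, ?_, ?_⟩
  · intro h
    have := hc P₀ (Finset.mem_insert_self _ _)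
    rw [h, Valuation.map_zero] at this
    exact WithZero.exp_ne_zero this.symm
  · intro Q
    by_cases hQ : Q ∈ E.support
    · exact Or.inr (hc Q (Finset.mem_insert_of_mem hQ))
    · left
      rw [Finsupp.notMem_support_iff, hE, Finsupp.add_apply, div_apply hK] at hQ
      rw [Place.val_eq_exp_neg_ord Q (h0 j₀)]
      congr 1
      omega

/-- A birational projective map has positive degree. -/
theorem deg_mapDiv_pos_of_birational (hK : IsFunctionField k K) (φ : ι → K) (h0 : ∀ i, φ i ≠ 0)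
    (j₀ : ι) (hbir : IntermediateField.adjoin k (Set.range fun i => φ i / φ j₀) = ⊤) :
    1 ≤ (mapDiv k φ).deg := by
  set D := mapDiv k φ with hD
  have hsL : φ j₀ ∈ L D := fun Q => val_le_exp_mapDiv hK φ Q j₀
  set E : Divisor k K := D + FunFld.div k (φ j₀) with hE
  have hE0 : 0 ≤ E := (mem_L_iff_div hK (h0 j₀) _).mp hsL
  have hEdeg : E.deg = D.deg := deg_add_div hK D (φ j₀)
  have hnn := deg_nonneg hE0
  by_contra hlt
  have hE0' : E = 0 := eq_zero_of_nonneg_of_deg_eq_zero hK hE0 (by omega)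
  have hmem : ∀ i, φ i / φ j₀ ∈ L (0 : Divisor k K) := by
    intro i
    rw [← hE0', hE, mem_L_add_div_iff hK D (h0 j₀), div_mul_cancel₀ _ (h0 j₀)]
    exact fun Q => val_le_exp_mapDiv hK φ Q i
  obtain ⟨⟨t, ht, -⟩, -⟩ := id hK
  have htop : t ∈ IntermediateField.adjoin k (Set.range fun i => φ i / φ j₀) := by
    rw [hbir]; trivial
  have hle : IntermediateField.adjoin k (Set.range fun i => φ i / φ j₀) ≤ ⊥ := by
    rw [IntermediateField.adjoin_le_iff]
    rintro z ⟨i, rfl⟩
    have := hmem i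
    rw [L_zero hK, Submodule.mem_one] at this
    obtain ⟨a, ha⟩ := this
    show φ i / φ j₀ ∈ (⊥ : IntermediateField k K)
    rw [← ha]
    exact (⊥ : IntermediateField k K).algebraMap_mem a
  have := hle htop
  rw [IntermediateField.mem_bot] at this
  obtain ⟨c, rfl⟩ := this
  exact ht (isAlgebraic_algebraMap c)

/-! ### Finite generation of the section ring over the ring of forms -/

theorem L_succ_decomp_gen (hK : IsFunctionField k K) {D : Divisor k K} {s t : K}
    (hbp : IsBpfPair D s t) (hdeg : 1 ≤ D.deg) {m : ℕ} (hm : 2 * genus k K + 1 ≤ m) {γ : K}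
    (hγ : γ ∈ L (((m + 1 : ℕ) : ℤ) • D)) :
    ∃ a ∈ L ((m : ℤ) • D), ∃ b ∈ L ((m : ℤ) • D), γ = s * a + t * b := by
  have hg0 : (0 : ℤ) ≤ (genus k K : ℤ) := Int.natCast_nonneg _
  have hm' : 2 * (genus k K : ℤ) + 1 ≤ (m : ℤ) := by exact_mod_cast hm
  have e : ((m + 1 : ℕ) : ℤ) • D = D + (m : ℤ) • D := by
    rw [Nat.cast_succ, add_smul, one_smul, add_comm]
  rw [e] at hγ
  have hmD : ((m : ℤ) • D).deg = (m : ℤ) * D.deg := deg_zsmul _ _
  exact pencil hK hbp (G := (m : ℤ) • D)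
    (by rw [hmD]; nlinarith)
    (by rw [deg_sub, hmD]; nlinarith)
    (by rw [deg_add, hmD]; nlinarith) hγ

theorem mul_mem_SG_of_base (hK : IsFunctionField k K) (φ : ι → K) {s t : K}
    (hbp : IsBpfPair (mapDiv k φ) s t) (hdeg : 1 ≤ (mapDiv k φ).deg)
    (hs : s ∈ SG k φ 1) (ht : t ∈ SG k φ 1)
    {M₀ : ℕ} (hM₀ : 2 * genus k K + 1 ≤ M₀) {N : ℕ} {w : K}
    (hw : ∀ γ ∈ L ((M₀ : ℤ) • mapDiv k φ), w * γ ∈ SG k φ (N + M₀)) :
    ∀ n : ℕ, ∀ γ ∈ L (((M₀ + n : ℕ) : ℤ) • mapDiv k φ), w * γ ∈ SG k φ (N + M₀ + n) := by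
  intro n
  induction n with
  | zero => intro γ hγ; exact hw γ hγ
  | succ n ih =>
    intro γ hγ
    obtain ⟨a, ha, b, hb, rfl⟩ := L_succ_decomp_gen hK hbp hdeg (m := M₀ + n) (by omega) hγ
    have h1 := mul_mem_SG hs (ih a ha)
    have h2 := mul_mem_SG ht (ih b hb)
    rw [show 1 + (N + M₀ + n) = N + M₀ + (n + 1) by omega] at h1 h2
    have e : w * (s * a + t * b) = s * (w * a) + t * (w * b) := by ring
    rw [e]
    exact add_mem h1 h2

/-! ### The conductor of a birational map -/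

theorem conductor_single (φ : ι → K) (h0 : ∀ i, φ i ≠ 0) (j₀ : ι)
    (hbir : IntermediateField.adjoin k (Set.range fun i => φ i / φ j₀) = ⊤) (M : ℕ) (γ : K) :
    ∃ (n : ℕ) (w : K), w ≠ 0 ∧ w ∈ SG k φ n ∧ w * γ ∈ SG k φ (n + M) := by
  have hmem : γ / (φ j₀) ^ M ∈ IntermediateField.adjoin k (Set.range fun i => φ i / φ j₀) := by
    rw [hbir]; trivial
  obtain ⟨r, hr, s', hs', hrs⟩ := IntermediateField.mem_adjoin_iff_div.mp hmem
  by_cases hs0 : s' = 0
  · -- then `γ = 0`
    rw [hs0, div_zero] at hrs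
    have hγ0 : γ = 0 := by
      rcases div_eq_zero_iff.mp hrs with h | h
      · exact h
      · exact absurd h (pow_ne_zero _ (h0 j₀))
    exact ⟨0, 1, one_ne_zero, one_mem_SG φ, by rw [hγ0, mul_zero]; exact zero_mem _⟩
  obtain ⟨n₁, h₁⟩ := exists_mul_pow_mem_SG φ j₀ (h0 j₀) hr
  obtain ⟨n₂, h₂⟩ := exists_mul_pow_mem_SG φ j₀ (h0 j₀) hs'
  set n := max n₁ n₂ with hn
  have hpow0 : (φ j₀) ^ n ≠ 0 := pow_ne_zero _ (h0 j₀)
  have hpowM : (φ j₀) ^ M ≠ 0 := pow_ne_zero _ (h0 j₀)
  refine ⟨n, s' * (φ j₀) ^ n, mul_ne_zero hs0 hpow0, h₂ n (le_max_right _ _), ?_⟩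
  have e : s' * (φ j₀) ^ n * γ = (r * (φ j₀) ^ n) * (φ j₀) ^ M := by
    have h3 : γ = r / s' * (φ j₀) ^ M := by
      rw [← hrs, div_mul_cancel₀ _ hpowM]
    rw [h3]
    field_simp
  rw [e]
  exact mul_mem_SG (h₁ n (le_max_left _ _)) (phi_pow_mem_SG φ j₀ M)

theorem conductor_finset (φ : ι → K) (h0 : ∀ i, φ i ≠ 0) (j₀ : ι)
    (hbir : IntermediateField.adjoin k (Set.range fun i => φ i / φ j₀) = ⊤) (M : ℕ)
    (s : Finset K) :
    ∃ (n : ℕ) (w : K), w ≠ 0 ∧ w ∈ SG k φ n ∧ ∀ γ ∈ s, w * γ ∈ SG k φ (n + M) := by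
  classical
  induction s using Finset.induction_on with
  | empty =>
    exact ⟨0, 1, one_ne_zero, one_mem_SG φ, fun γ hγ => absurd hγ (Finset.notMem_empty γ)⟩
  | insert γ₀ s hγ₀ ih =>
    obtain ⟨n, w, hw0, hw, hws⟩ := ih
    obtain ⟨n', w', hw'0, hw', hw'γ⟩ := conductor_single φ h0 j₀ hbir M γ₀
    refine ⟨n + n', w * w', mul_ne_zero hw0 hw'0, mul_mem_SG hw hw', ?_⟩
    intro γ hγ
    rcases Finset.mem_insert.mp hγ with rfl | hγs
    · have := mul_mem_SG hw hw'γ
      rw [show n + (n' + M) = n + n' + M by omega] at this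
      rwa [mul_assoc]
    · have := mul_mem_SG hw' (hws γ hγs)
      rw [show n' + (n + M) = n + n' + M by omega] at this
      have e : w * w' * γ = w' * (w * γ) := by ring
      rwa [e]

theorem exists_conductor (hK : IsFunctionField k K) (φ : ι → K) (h0 : ∀ i, φ i ≠ 0) (j₀ : ι)
    (hbir : IntermediateField.adjoin k (Set.range fun i => φ i / φ j₀) = ⊤) (M : ℕ) :
    ∃ (n : ℕ) (w : K), w ≠ 0 ∧ w ∈ SG k φ n ∧
      ∀ γ ∈ L ((M : ℤ) • mapDiv k φ), w * γ ∈ SG k φ (n + M) := by
  classical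
  haveI := finiteDimensional_L hK ((M : ℤ) • mapDiv k φ)
  obtain ⟨s, hs⟩ := (Submodule.fg_iff_finiteDimensional
    (L ((M : ℤ) • mapDiv k φ))).mpr inferInstance
  obtain ⟨n, w, hw0, hw, hws⟩ := conductor_finset φ h0 j₀ hbir M s
  refine ⟨n, w, hw0, hw, ?_⟩
  intro γ hγ
  rw [← hs] at hγ
  induction hγ using Submodule.span_induction with
  | mem z hz => exact hws z hz
  | zero => rw [mul_zero]; exact zero_mem _
  | add a b _ _ ha hb => rw [mul_add]; exact add_mem ha hb
  | smul c a _ ha => rw [mul_smul_comm]; exact Submodule.smul_mem _ _ ha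

/-- The global conductor: a nonzero form `w` with `w · L(mD) ⊆ S_{n+m}` for all large `m`. -/
theorem exists_global_conductor (hK : IsFunctionField k K) [IsAlgClosed k] (φ : ι → K)
    (h0 : ∀ i, φ i ≠ 0) (j₀ : ι)
    (hbir : IntermediateField.adjoin k (Set.range fun i => φ i / φ j₀) = ⊤) :
    ∃ (n : ℕ) (w : K), w ≠ 0 ∧ w ∈ SG k φ n ∧
      ∀ m : ℕ, 2 * genus k K + 1 ≤ m → ∀ γ ∈ L ((m : ℤ) • mapDiv k φ),
        w * γ ∈ SG k φ (n + m) := by
  obtain ⟨s, t, hs, ht, hbp⟩ := exists_bpf_pair_span hK φ h0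
  have hdeg := deg_mapDiv_pos_of_birational hK φ h0 j₀ hbir
  set M₀ := 2 * genus k K + 1 with hM₀
  obtain ⟨n, w, hw0, hw, hwγ⟩ := exists_conductor hK φ h0 j₀ hbir M₀
  refine ⟨n, w, hw0, hw, fun m hm γ hγ => ?_⟩
  have := mul_mem_SG_of_base hK φ hbp hdeg hs ht (M₀ := M₀) le_rfl (N := n) hwγ (m - M₀) γ
    (by rwa [show M₀ + (m - M₀) = m by omega])
  rwa [show n + M₀ + (m - M₀) = n + m by omega] at this

/-- Where the conductor form does not vanish, the map is nonsingular. -/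
theorem nonsingular_of_conductor_nonvanishing (hK : IsFunctionField k K) [IsAlgClosed k]
    (φ : ι → K) (h0 : ∀ i, φ i ≠ 0) (hdeg : 1 ≤ (mapDiv k φ).deg) {n : ℕ} {w : K}
    (hcond : ∀ m : ℕ, 2 * genus k K + 1 ≤ m → ∀ γ ∈ L ((m : ℤ) • mapDiv k φ),
      w * γ ∈ SG k φ (n + m))
    (P : Place k K) (hP : P.1 w = WithZero.exp ((n : ℤ) * mapDiv k φ P)) :
    IsNonsingularAt φ P := by
  classical
  set D := mapDiv k φ with hD
  intro z hz
  set B := polesDiv k z with hB
  have hB0 : 0 ≤ B := polesDiv_nonneg z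
  have hBP : B P = 0 := by
    rw [hB, polesDiv_apply hK]
    by_cases hz0 : z = 0
    · rw [hz0, Place.ord_zero]; simp
    · have := (Place.ord_nonneg_iff P hz0).mpr hz
      exact max_eq_right (by omega)
  have hg0 : (0 : ℤ) ≤ (genus k K : ℤ) := Int.natCast_nonneg _
  have hBdeg : 0 ≤ B.deg := deg_nonneg hB0
  set M : ℕ := 2 * genus k K + 1 + B.deg.toNat + 2 * genus k K with hM
  have hMZ : (M : ℤ) = 2 * genus k K + 1 + B.deg + 2 * genus k K := by
    rw [hM]; push_cast; rw [Int.toNat_of_nonneg hBdeg]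
  set F : Divisor k K := (M : ℤ) • D - B with hF
  have hFdeg : 2 * (genus k K : ℤ) ≤ F.deg := by
    rw [hF, deg_sub, deg_zsmul, hMZ]
    nlinarith
  have hlt : L (F - Finsupp.single P 1) < L F :=
    lt_of_le_of_ne (L_sub_single_le F P) (L_sub_single_ne_of_deg hK hFdeg P)
  obtain ⟨γ₂, hγ₂, hγ₂n⟩ := SetLike.exists_of_lt hlt
  have hFP : F P = (M : ℤ) * D P := by
    rw [hF, Finsupp.sub_apply, Finsupp.smul_apply, smul_eq_mul, hBP, sub_zero]
  have hγ₂P : P.1 γ₂ = WithZero.exp ((M : ℤ) * D P) := by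
    rw [mem_L_sub_single_iff hγ₂, not_lt, hFP] at hγ₂n
    have := hγ₂ P
    rw [hFP] at this
    exact le_antisymm this hγ₂n
  have hFle : F ≤ (M : ℤ) • D := by
    rw [hF]
    exact sub_le_self _ hB0
  have hγ₂L : γ₂ ∈ L ((M : ℤ) • D) := L_mono hFle hγ₂
  have hγ₁L : z * γ₂ ∈ L ((M : ℤ) • D) := by
    intro Q
    rw [Valuation.map_mul]
    have h1 := val_le_exp_polesDiv hK z Q
    have h2 := hγ₂ Q
    calc Q.1 z * Q.1 γ₂ ≤ WithZero.exp (B Q) * WithZero.exp (F Q) := mul_le_mul' h1 h2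
      _ = WithZero.exp (((M : ℤ) • D) Q) := by
        rw [← WithZero.exp_add, hF, Finsupp.sub_apply]
        congr 1
        ring
  have hMge : 2 * genus k K + 1 ≤ M := by omega
  have h1 := hcond M hMge _ hγ₁L
  have h2 := hcond M hMge _ hγ₂L
  obtain ⟨j, hj⟩ := exists_argmax_gen φ P
  have hjP := val_argmax_eq_gen hK φ h0 P j hj
  have hpow0 : (φ j) ^ (n + M) ≠ 0 := pow_ne_zero _ (h0 j)
  refine ⟨j, h0 j, hj, _, div_pow_mem_adjoin_gen φ j (h0 j) h1, _,
    div_pow_mem_adjoin_gen φ j (h0 j) h2, ?_, ?_⟩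
  · rw [map_div₀, Valuation.map_mul, Valuation.map_pow, hP, hγ₂P, hjP, ← WithZero.exp_add,
      ← WithZero.exp_nsmul, nsmul_eq_mul]
    have e : (n : ℤ) * D P + (M : ℤ) * D P = ((n + M : ℕ) : ℤ) * D P := by
      push_cast; ring
    rw [e]
    exact div_self WithZero.exp_ne_zero
  · field_simp

/-- **S11058**: a birational projective map is nonsingular at all but finitely many places. -/
theorem finite_singular_places (hK : IsFunctionField k K) [IsAlgClosed k] (φ : ι → K)
    (h0 : ∀ i, φ i ≠ 0) (j₀ : ι)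
    (hbir : IntermediateField.adjoin k (Set.range fun i => φ i / φ j₀) = ⊤) :
    {P : Place k K | ¬ IsNonsingularAt φ P}.Finite := by
  classical
  obtain ⟨n, w, hw0, hw, hcond⟩ := exists_global_conductor hK φ h0 j₀ hbir
  have hdeg := deg_mapDiv_pos_of_birational hK φ h0 j₀ hbir
  set D := mapDiv k φ with hD
  have hwL : w ∈ L ((n : ℤ) • D) := SG_le_L hK φ n hw
  set E : Divisor k K := (n : ℤ) • D + FunFld.div k w with hE
  refine (Finset.finite_toSet E.support).subset ?_
  intro P hP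
  by_contra hPE
  apply hP
  apply nonsingular_of_conductor_nonvanishing hK φ h0 hdeg hcond P
  rw [Finset.mem_coe, Finsupp.notMem_support_iff, hE, Finsupp.add_apply, div_apply hK,
    Finsupp.smul_apply, smul_eq_mul] at hPE
  rw [Place.val_eq_exp_neg_ord P hw0]
  congr 1
  have e : (n : ℤ) * D P = (n : ℤ) * mapDiv k φ P := rfl
  omega

/-! ### The degree of a projective map as a field degree -/

theorem exp_polesDiv (hK : IsFunctionField k K) (x : K) (Q : Place k K) :
    WithZero.exp (polesDiv k x Q) = max (Q.1 x) 1 := by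
  rw [polesDiv_apply hK]
  by_cases hx : x = 0
  · rw [hx, Place.ord_zero, Valuation.map_zero]
    simp
  · rw [Place.val_eq_exp_neg_ord Q hx, ← WithZero.exp_zero]
    rcases le_total (-Q.ord x) 0 with h | h
    · rw [max_eq_right h, max_eq_right (WithZero.exp_le_exp.mpr h)]
    · rw [max_eq_left h, max_eq_left (WithZero.exp_le_exp.mpr h)]

theorem polesDiv_ratio (hK : IsFunctionField k K) (φ : ι → K) (h0 : ∀ i, φ i ≠ 0) (j₀ : ι)
    (c : ι → k)
    (hc : ∀ Q ∈ (mapDiv k φ + FunFld.div k (φ j₀)).support,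
      Q.1 (Fintype.linearCombination k φ c) = WithZero.exp (mapDiv k φ Q)) :
    polesDiv k (Fintype.linearCombination k φ c / φ j₀) = mapDiv k φ + FunFld.div k (φ j₀) := by
  classical
  set D := mapDiv k φ with hD
  set t := Fintype.linearCombination k φ c with ht
  have hsL : φ j₀ ∈ L D := fun Q => val_le_exp_mapDiv hK φ Q j₀
  set E : Divisor k K := D + FunFld.div k (φ j₀) with hE
  have hE0 : 0 ≤ E := (mem_L_iff_div hK (h0 j₀) _).mp hsL
  ext Q
  apply WithZero.exp_injective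
  rw [exp_polesDiv hK, map_div₀]
  have hEQ : WithZero.exp (E Q) = WithZero.exp (D Q) / Q.1 (φ j₀) := by
    rw [hE, Finsupp.add_apply, div_apply hK, Place.val_eq_exp_neg_ord Q (h0 j₀),
      ← WithZero.exp_sub]
    congr 1
    ring
  have hs0 : Q.1 (φ j₀) ≠ 0 := (Valuation.ne_zero_iff _).mpr (h0 j₀)
  by_cases hQ : Q ∈ E.support
  · rw [hc Q hQ, ← hEQ]
    apply max_eq_left
    rw [← WithZero.exp_zero, WithZero.exp_le_exp]
    exact hE0 Q
  · rw [Finsupp.notMem_support_iff] at hQ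
    rw [hQ, WithZero.exp_zero]
    apply max_eq_right
    have h1 : Q.1 (φ j₀) = WithZero.exp (D Q) := by
      rw [hQ, WithZero.exp_zero] at hEQ
      have := (div_eq_one_iff_eq hs0).mp hEQ.symm
      exact this.symm
    rw [h1]
    exact div_le_one_of_le₀ (linearCombination_mem_L hK φ c Q) zero_le

theorem finrank_adjoin_algHom (τ : K →ₐ[k] K) (x : K) :
    Module.finrank k⟮τ x⟯ K = Module.finrank k⟮x⟯ K * Module.finrank τ.fieldRange K := by
  have hmap : (k⟮x⟯).map τ = k⟮τ x⟯ := by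
    rw [IntermediateField.adjoin_map, Set.image_singleton]
  have htop : (⊤ : IntermediateField k K).map τ = τ.fieldRange :=
    (AlgHom.fieldRange_eq_map τ).symm
  have h1 := IntermediateField.relfinrank_map_map k⟮x⟯ (⊤ : IntermediateField k K) τ
  rw [hmap, htop, IntermediateField.relfinrank_top_right] at h1
  have hle : k⟮τ x⟯ ≤ τ.fieldRange := by
    rw [← hmap, ← htop]
    exact IntermediateField.map_mono τ le_top
  have h2 := IntermediateField.relfinrank_mul_finrank_top hle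
  rw [h1] at h2
  exact h2.symm

/-- **S11052**: the degree of the composite of a projective map with a field embedding. -/
theorem deg_mapDiv_comp_algHom (hK : IsFunctionField k K) [IsAlgClosed k] (τ : K →ₐ[k] K)
    (φ : ι → K) (h0 : ∀ i, φ i ≠ 0) :
    (mapDiv k (τ ∘ φ)).deg = Module.finrank τ.fieldRange K * (mapDiv k φ).deg := by
  classical
  obtain ⟨j₀⟩ := ‹Nonempty ι›
  have h0' : ∀ i, (τ ∘ φ) i ≠ 0 := fun i => (map_ne_zero τ).mpr (h0 i)
  set D := mapDiv k φ with hD
  set D' := mapDiv k (τ ∘ φ) with hD'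
  set E : Divisor k K := D + FunFld.div k (φ j₀) with hE
  set E' : Divisor k K := D' + FunFld.div k ((τ ∘ φ) j₀) with hE'
  -- a coefficient vector generic for both tuples
  let p : ↥(E.support : Set (Place k K)) ⊕ ↥(E'.support : Set (Place k K)) →
      Submodule k (ι → k) := fun Q => Sum.elim
    (fun Q => Submodule.comap (Fintype.linearCombination k φ) (Place.ball Q.1 (D Q.1 - 1)))
    (fun Q => Submodule.comap (Fintype.linearCombination k (τ ∘ φ))
      (Place.ball Q.1 (D' Q.1 - 1))) Q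
  have hp : ∀ Q, p Q ≠ ⊤ := by
    rintro (Q | Q)
    · exact generic_ne_top hK φ h0 Q.1
    · exact generic_ne_top hK (τ ∘ φ) h0' Q.1
  haveI : Finite ↥(E.support : Set (Place k K)) := (Finset.finite_toSet _).to_subtype
  haveI : Finite ↥(E'.support : Set (Place k K)) := (Finset.finite_toSet _).to_subtype
  obtain ⟨c, hc⟩ := Submodule.exists_forall_notMem_of_forall_ne_top p hp
  have hc1 : ∀ Q ∈ E.support,
      Q.1 (Fintype.linearCombination k φ c) = WithZero.exp (D Q) :=
    fun Q hQ => val_eq_of_notMem hK φ Q c (hc (Sum.inl ⟨Q, hQ⟩))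
  have hc2 : ∀ Q ∈ E'.support,
      Q.1 (Fintype.linearCombination k (τ ∘ φ) c) = WithZero.exp (D' Q) :=
    fun Q hQ => val_eq_of_notMem hK (τ ∘ φ) Q c (hc (Sum.inr ⟨Q, hQ⟩))
  have hpol1 := polesDiv_ratio hK φ h0 j₀ c hc1
  have hpol2 := polesDiv_ratio hK (τ ∘ φ) h0' j₀ c hc2
  set x' := Fintype.linearCombination k φ c / φ j₀ with hx'
  have hτx' : Fintype.linearCombination k (τ ∘ φ) c / (τ ∘ φ) j₀ = τ x' := by
    rw [hx', map_div₀, Fintype.linearCombination_apply, Fintype.linearCombination_apply,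
      map_sum]
    congr 1
    refine Finset.sum_congr rfl fun i _ => ?_
    rw [map_smul]
    rfl
  rw [hτx'] at hpol2
  have hdeg1 : D.deg = (polesDiv k x').deg := by
    rw [hpol1, deg_add_div hK]
  have hdeg2 : D'.deg = (polesDiv k (τ x')).deg := by
    rw [hpol2, deg_add_div hK]
  rw [hdeg1, hdeg2]
  by_cases htr : Transcendental k x'
  · have htr' : Transcendental k (τ x') := by
      intro halg
      exact htr ((isAlgebraic_algHom_iff τ τ.injective).mp halg)
    rw [deg_polesDiv hK htr, deg_polesDiv hK htr', finrank_adjoin_algHom τ x']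
    push_cast
    ring
  · rw [Transcendental, not_not] at htr
    obtain ⟨a, ha⟩ := hK.2 x' htr
    have hconst : ∀ b : k, polesDiv k (algebraMap k K b) = 0 := by
      intro b
      ext Q
      apply WithZero.exp_injective
      rw [exp_polesDiv hK, Finsupp.zero_apply, WithZero.exp_zero]
      exact max_eq_right (Q.2.1 b)
    rw [← ha, τ.commutes, hconst, deg_zero, mul_zero]

end General

end FF

end Groth.Agent.Lib.helper10
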