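import Groth.Prelude.Def_W4bk4goldsch23FF
import Mathlib

/-!
Function fields of one variable (helper10), part 1: every transcendental element has finite
codegree.
-/

set_option autoImplicit false
set_option linter.unusedSectionVars false

universe u v

open IntermediateField

namespace Groth.Agent.Lib.helper10

namespace FF

variable {k : Type u} {K : Type v} [Field k] [Field K] [Algebra k K]

theorem transcendental_of_not_mem_range (hK : FunFld.IsFunctionField k K) {x : K}
    (hx : x ∉ Set.range (algebraMap k K)) : Transcendental k x :=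
  fun h => hx (hK.2 x h)

theorem not_mem_range_of_transcendental {x : K} (hx : Transcendental k x) :
    x ∉ Set.range (algebraMap k K) := by
  rintro ⟨c, rfl⟩
  exact hx (isAlgebraic_algebraMap c)

open scoped IntermediateField.algebraAdjoinAdjoin in
/-- `K` is algebraic over `k(x)` for every transcendental `x`. -/
theorem isAlgebraic_adjoin (hK : FunFld.IsFunctionField k K) {x : K} (hx : Transcendental k x) :
    Algebra.IsAlgebraic k⟮x⟯ K := by
  obtain ⟨⟨x₀, hx₀, hfin⟩, -⟩ := hK
  have halg₀ : Algebra.IsAlgebraic k⟮x₀⟯ K := Algebra.IsAlgebraic.of_finite _ _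
  have halg₀' : Algebra.IsAlgebraic (Algebra.adjoin k ({x₀} : Set K)) K :=
    (IsFractionRing.comap_isAlgebraic_iff (A := Algebra.adjoin k ({x₀} : Set K)) (K := k⟮x₀⟯)
      (C := K)).mpr halg₀
  have htr : Algebra.trdeg k K ≤ 1 := by
    have := Algebra.IsAlgebraic.trdeg_le_cardinalMk (R := k) (A := K) ({x₀} : Set K)
    simpa using this
  have hind : AlgebraicIndependent k (fun _ : Unit => x) := by
    rw [algebraicIndependent_unique_type_iff]
    exact hx
  have hbasis : IsTranscendenceBasis k (fun _ : Unit => x) := by
    apply hind.isTranscendenceBasis_of_lift_trdeg_le_of_finite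
    simpa using htr
  have h1 := hbasis.isAlgebraic
  have h2 : Set.range (fun _ : Unit => x) = {x} := by
    ext y
    simp [eq_comm]
  rw [h2] at h1
  exact (IsFractionRing.comap_isAlgebraic_iff (A := Algebra.adjoin k ({x} : Set K)) (K := k⟮x⟯)
      (C := K)).mp h1

/-- `K` is finite over `k(x)` for every transcendental `x`. -/
theorem finiteDimensional_adjoin (hK : FunFld.IsFunctionField k K) {x : K} (hx : Transcendental k x) :
    FiniteDimensional k⟮x⟯ K := by
  have halg := isAlgebraic_adjoin hK hx
  obtain ⟨⟨x₀, hx₀, hfin⟩, -⟩ := hK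
  have h1 : Algebra.EssFiniteType k k⟮x₀⟯ := by
    rw [IntermediateField.essFiniteType_iff]
    exact IntermediateField.fg_adjoin_of_finite (Set.finite_singleton x₀)
  have h2 : Algebra.EssFiniteType k K := Algebra.EssFiniteType.comp k k⟮x₀⟯ K
  have h3 : Algebra.EssFiniteType k⟮x⟯ K := Algebra.EssFiniteType.of_comp k k⟮x⟯ K
  exact Algebra.finite_of_essFiniteType_of_isAlgebraic

end FF

end Groth.Agent.Lib.helper10
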