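import Mathlib
import Groth.Agent.Lib.Helper10.FunFld1
import Groth.Agent.S12583
import Groth.Prelude.Def_LocRes

/-!
Uniqueness of power-series valued ring homomorphisms on a function field, and consequences for
Hasse families: the constants of a Hasse family are the constants of the function field
(helper10).
-/

set_option autoImplicit false
set_option linter.unusedSectionVars false
set_option linter.unusedVariables false
set_option linter.style.haveILetI false

universe u v

open FunFld

namespace Groth.Agent.Lib.helper10

namespace HasseExp

variable {k : Type u} {K : Type v} [Field k] [Field K] [Algebra k K]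

/-- Two ring homomorphisms from a function field of one variable into a power series ring over a
domain are equal as soon as they agree on the constants, at one transcendental element, and have the
same constant-coefficient map. -/
theorem ringHom_ext_powerSeries (hK : IsFunctionField k K) {L : Type*} [CommRing L] [IsDomain L]
    (A B : K →+* PowerSeries L)
    (hAk : ∀ c : k, A (algebraMap k K c) = B (algebraMap k K c))
    {t : K} (ht_tr : Transcendental k t) (hAt : A t = B t)
    (hcc : ∀ y, PowerSeries.constantCoeff (A y) = PowerSeries.constantCoeff (B y)) :
    A = B := by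
  classical
  let E : Subfield K :=
    { carrier := {y | A y = B y}
      mul_mem' := fun {a b} ha hb => by
        simp only [Set.mem_ofPred_eq] at ha hb ⊢
        rw [map_mul, map_mul, ha, hb]
      one_mem' := by simp
      add_mem' := fun {a b} ha hb => by
        simp only [Set.mem_ofPred_eq] at ha hb ⊢
        rw [map_add, map_add, ha, hb]
      zero_mem' := by simp
      neg_mem' := fun {a} ha => by
        simp only [Set.mem_ofPred_eq] at ha ⊢
        rw [map_neg, map_neg, ha]
      inv_mem' := fun y hy => by
        simp only [Set.mem_ofPred_eq] at hy ⊢
        by_cases h : y = 0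
        · rw [h, inv_zero, map_zero, map_zero]
        · have h1 : A y⁻¹ * A y = 1 := by rw [← map_mul, inv_mul_cancel₀ h, map_one]
          have h2 : A y * B y⁻¹ = 1 := by rw [hy, ← map_mul, mul_inv_cancel₀ h, map_one]
          exact left_inv_eq_right_inv h1 h2 }
  let E' : IntermediateField k K := E.toIntermediateField (fun c => hAk c)
  have hmemE : ∀ y : K, y ∈ E' ↔ A y = B y := fun y => Iff.rfl
  have htE : t ∈ E' := hAt
  have halg : Algebra.IsAlgebraic (IntermediateField.adjoin k ({t} : Set K)) K :=
    Groth.Agent.Lib.helper10.FF.isAlgebraic_adjoin hK ht_tr
  have hle : IntermediateField.adjoin k ({t} : Set K) ≤ E' :=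
    IntermediateField.adjoin_simple_le_iff.mpr htE
  have hinj : Function.Injective (PowerSeries.constantCoeff.comp A) :=
    (PowerSeries.constantCoeff.comp A).injective
  ext1 y
  have hy : IsAlgebraic E' y :=
    IsAlgebraic.tower_top_of_subalgebra_le
      (A := (IntermediateField.adjoin k ({t} : Set K)).toSubalgebra) (B := E'.toSubalgebra) hle
      (halg.isAlgebraic y)
  have hq : ExpChar E' (ringExpChar k) :=
    expChar_of_injective_ringHom (algebraMap k E').injective (ringExpChar k)
  have hirr : Irreducible (minpoly E' y) := minpoly.irreducible hy.isIntegral
  obtain ⟨g, hgsep, m, hgm⟩ := Irreducible.hasSeparableContraction (ringExpChar k) hirr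
  have hz0 : Polynomial.aeval (y ^ (ringExpChar k) ^ m) g = 0 := by
    rw [← Polynomial.expand_aeval, hgm, minpoly.aeval]
  have hder := hgsep.aeval_derivative_ne_zero hz0
  have hz : A (y ^ (ringExpChar k) ^ m) = B (y ^ (ringExpChar k) ^ m) := by
    apply Groth.Agent.S12583.hensel_unique (S := E') A B (fun s => s.2) _ _ g hz0
    · intro h0
      apply hder
      apply hinj
      rw [RingHom.comp_apply, h0, map_zero]
    · exact hcc _
  rw [map_pow, map_pow] at hz
  have hqR : ExpChar (PowerSeries L) (ringExpChar k) :=
    expChar_of_injective_ringHom (A.comp (algebraMap k K)).injective (ringExpChar k)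
  exact iterateFrobenius_inj (PowerSeries L) (ringExpChar k) m hz

/-- The variable of a Hasse family is transcendental over the constants. -/
theorem transcendental_of_isHasseFamily (hK : IsFunctionField k K) {s : K}
    {H : K →ₐ[k] PowerSeries K} (hH : LocRes.IsHasseFamily s H) : Transcendental k s := by
  intro halg
  obtain ⟨c, hc⟩ := hK.2 s halg
  have h1 := hH.1
  rw [← hc, H.commutes] at h1
  have h2 := congrArg (PowerSeries.coeff 1) h1
  rw [PowerSeries.algebraMap_apply, map_add, PowerSeries.coeff_C,
    PowerSeries.coeff_one_X] at h2
  simp at h2

/-- The constants of a Hasse family are the constants of the function field. -/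
theorem mem_range_of_hasse_const (hK : IsFunctionField k K) {s : K}
    {H : K →ₐ[k] PowerSeries K} (hH : LocRes.IsHasseFamily s H) {z : K}
    (hz : H z = PowerSeries.C z) : z ∈ Set.range (algebraMap k K) := by
  apply hK.2
  by_contra hztr
  have hztr' : Transcendental k z := hztr
  have := ringHom_ext_powerSeries hK (L := K) H.toRingHom (PowerSeries.C : K →+* PowerSeries K)
    (fun c => by
      change H (algebraMap k K c) = PowerSeries.C (algebraMap k K c)
      rw [H.commutes, PowerSeries.algebraMap_apply])
    hztr' hz
    (fun y => by
      change PowerSeries.constantCoeff (H y) = PowerSeries.constantCoeff (PowerSeries.C y)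
      rw [hH.2, PowerSeries.constantCoeff_C])
  have h1 := congrArg (fun f => PowerSeries.coeff 1 (f s)) this
  simp only [AlgHom.toRingHom_eq_coe, RingHom.coe_coe] at h1
  rw [hH.1, map_add, PowerSeries.coeff_C, PowerSeries.coeff_one_X] at h1
  simp at h1

end HasseExp

end Groth.Agent.Lib.helper10
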