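import Mathlib
import Groth.Agent.Lib.Helper10.HasseExp10
import Groth.Agent.Lib.Helper13.LaurentTaylor
import Groth.Prelude.Def_W4bk4goldsch45p2

/-!
Iteration rule for the Hasse derivatives of a Hasse family, and `K`-linear independence of the
rows of the Hasse matrix of a `k`-linearly independent tuple (helper10).
-/

set_option autoImplicit false
set_option linter.unusedSectionVars false
set_option linter.unusedVariables false
set_option linter.style.haveILetI false

universe u v

open FunFld

namespace Groth.Agent.Lib.helper10

namespace HasseExp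

variable {k : Type u} {K : Type v} [Field k] [Field K] [Algebra k K]

section basic

variable (H : K →ₐ[k] PowerSeries K)

theorem hasseD_mul (m : ℕ) (x y : K) :
    LocRes.hasseD H m (x * y) =
      ∑ p ∈ Finset.HasAntidiagonal.antidiagonal m, LocRes.hasseD H p.1 x * LocRes.hasseD H p.2 y := by
  simp only [LocRes.hasseD_apply, map_mul, PowerSeries.coeff_mul]

theorem hasseD_sum {ι : Type*} (m : ℕ) (s : Finset ι) (f : ι → K) :
    LocRes.hasseD H m (∑ i ∈ s, f i) = ∑ i ∈ s, LocRes.hasseD H m (f i) := by
  simp only [LocRes.hasseD_apply, map_sum]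

theorem hasseD_zero_right (m : ℕ) : LocRes.hasseD H m 0 = 0 := by
  simp only [LocRes.hasseD_apply, map_zero]

theorem hasseD_one_right {m : ℕ} (hm : m ≠ 0) : LocRes.hasseD H m 1 = 0 := by
  simp only [LocRes.hasseD_apply, map_one, PowerSeries.coeff_one, if_neg hm]

theorem hasseD_zero_left {s : K} (hH : LocRes.IsHasseFamily s H) (y : K) :
    LocRes.hasseD H 0 y = y := by
  rw [LocRes.hasseD_apply, PowerSeries.coeff_zero_eq_constantCoeff_apply, hH.2]

end basic

/-- Iteration rule: `D^(i) D^(j) = C(i+j, j) D^(i+j)`. -/
theorem hasseD_hasseD (hK : IsFunctionField k K) {s : K} {H : K →ₐ[k] PowerSeries K}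
    (hH : LocRes.IsHasseFamily s H) (i j : ℕ) (y : K) :
    LocRes.hasseD H i (LocRes.hasseD H j y) = ((i + j).choose j : K) * LocRes.hasseD H (i + j) y := by
  classical
  let ι : K →+* LaurentSeries K := (HahnSeries.ofPowerSeries ℤ K).comp H.toRingHom
  let A : K →+* PowerSeries (LaurentSeries K) := (PowerSeries.map ι).comp H.toRingHom
  let B : K →+* PowerSeries (LaurentSeries K) :=
    Groth.Agent.Lib.helper13.LaurentTaylor.taylor.comp ι
  have hιk : ∀ c : k, ι (algebraMap k K c) = HahnSeries.C (algebraMap k K c) := by
    intro c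
    change HahnSeries.ofPowerSeries ℤ K (H (algebraMap k K c)) = _
    rw [H.commutes, PowerSeries.algebraMap_apply, HahnSeries.ofPowerSeries_C]
  have hιs : ι s = HahnSeries.C s + HahnSeries.single 1 1 := by
    change HahnSeries.ofPowerSeries ℤ K (H s) = _
    rw [hH.1, map_add, HahnSeries.ofPowerSeries_C, HahnSeries.ofPowerSeries_X]
  have hAt : A s = B s := by
    change PowerSeries.map ι (H s) = Groth.Agent.Lib.helper13.LaurentTaylor.taylor (ι s)
    rw [hH.1, hιs, map_add, map_add, Groth.Agent.Lib.helper13.LaurentTaylor.taylor_C,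
      Groth.Agent.Lib.helper13.LaurentTaylor.taylor_X, PowerSeries.map_C, PowerSeries.map_X,
      hιs, map_add, add_assoc]
  have hcc : ∀ z, PowerSeries.constantCoeff (A z) = PowerSeries.constantCoeff (B z) := by
    intro z
    change PowerSeries.constantCoeff (PowerSeries.map ι (H z)) =
      PowerSeries.constantCoeff (Groth.Agent.Lib.helper13.LaurentTaylor.taylor (ι z))
    rw [← PowerSeries.coeff_zero_eq_constantCoeff_apply, PowerSeries.coeff_map,
      PowerSeries.coeff_zero_eq_constantCoeff_apply, hH.2,
      ← PowerSeries.coeff_zero_eq_constantCoeff_apply,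
      Groth.Agent.Lib.helper13.LaurentTaylor.coeff_taylor, LaurentSeries.hasseDeriv_zero]
    rfl
  have hAk : ∀ c : k, A (algebraMap k K c) = B (algebraMap k K c) := by
    intro c
    change PowerSeries.map ι (H (algebraMap k K c)) =
      Groth.Agent.Lib.helper13.LaurentTaylor.taylor (ι (algebraMap k K c))
    rw [hιk, Groth.Agent.Lib.helper13.LaurentTaylor.taylor_C, H.commutes,
      PowerSeries.algebraMap_apply, PowerSeries.map_C, hιk]
  have hAB : A = B :=
    ringHom_ext_powerSeries hK A B hAk (transcendental_of_isHasseFamily hK hH) hAt hcc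
  have h1 := congrArg (fun f => PowerSeries.coeff j (f y)) hAB
  change PowerSeries.coeff j (PowerSeries.map ι (H y)) =
    PowerSeries.coeff j (Groth.Agent.Lib.helper13.LaurentTaylor.taylor (ι y)) at h1
  rw [PowerSeries.coeff_map, Groth.Agent.Lib.helper13.LaurentTaylor.coeff_taylor] at h1
  have h2 := congrArg (fun f => HahnSeries.coeff f (i : ℤ)) h1
  change (HahnSeries.ofPowerSeries ℤ K (H (PowerSeries.coeff j (H y)))).coeff (i : ℤ) =
    (LaurentSeries.hasseDeriv K j (HahnSeries.ofPowerSeries ℤ K (H y))).coeff (i : ℤ) at h2
  rw [LaurentSeries.hasseDeriv_coeff] at h2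
  have hc : ((i : ℤ) + (j : ℤ)) = ((i + j : ℕ) : ℤ) := by push_cast; rfl
  rw [hc, HahnSeries.ofPowerSeries_apply_coeff, HahnSeries.ofPowerSeries_apply_coeff,
    Ring.choose_natCast] at h2
  rw [LocRes.hasseD_apply, LocRes.hasseD_apply, LocRes.hasseD_apply, h2]
  simp

section indep

variable (hK : IsFunctionField k K) {s : K} {H : K →ₐ[k] PowerSeries K}
  (hH : LocRes.IsHasseFamily s H) {ι : Type*} [Fintype ι] (φ : ι → K)

include hK hH in
/-- The relation module of the Hasse matrix is stable under the Hasse derivatives. -/
theorem rel_hasseD (l : ι → K) (hl : ∀ j, ∑ i, l i * LocRes.hasseD H j (φ i) = 0) (m : ℕ) :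
    ∀ j, ∑ i, LocRes.hasseD H m (l i) * LocRes.hasseD H j (φ i) = 0 := by
  induction m using Nat.strong_induction_on with
  | _ m ih =>
    intro j
    have h0 := congrArg (LocRes.hasseD H m) (hl j)
    rw [hasseD_zero_right, hasseD_sum] at h0
    simp only [hasseD_mul, hasseD_hasseD hK hH] at h0
    rw [Finset.sum_comm] at h0
    rw [Finset.sum_eq_single (m, 0)] at h0
    · simpa using h0
    · intro p hp hne
      have hp' := Finset.HasAntidiagonal.mem_antidiagonal.mp hp
      have hlt : p.1 < m := by
        rcases Nat.lt_or_ge p.1 m with h | h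
        · exact h
        · exfalso
          apply hne
          have h1 : p.1 = m := by omega
          have h2 : p.2 = 0 := by omega
          exact Prod.ext h1 h2
      have := ih p.1 hlt (p.2 + j)
      calc ∑ x, LocRes.hasseD H p.1 (l x) * (((p.2 + j).choose j : K) * LocRes.hasseD H (p.2 + j) (φ x))
          = ((p.2 + j).choose j : K) *
              ∑ x, LocRes.hasseD H p.1 (l x) * LocRes.hasseD H (p.2 + j) (φ x) := by
            rw [Finset.mul_sum]
            refine Finset.sum_congr rfl fun x _ => ?_
            ring
        _ = 0 := by rw [this, mul_zero]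
    · intro h
      exact absurd (Finset.HasAntidiagonal.mem_antidiagonal.mpr (by simp)) h

include hK hH in
open scoped Classical in
/-- The rows of the Hasse matrix of a `k`-linearly independent tuple are `K`-linearly
independent. -/
theorem rel_eq_zero (hφ : LinearIndependent k φ) :
    ∀ (N : ℕ) (l : ι → K), (Finset.univ.filter fun i => l i ≠ 0).card ≤ N →
      (∀ j, ∑ i, l i * LocRes.hasseD H j (φ i) = 0) → l = 0 := by
  classical
  intro N
  induction N with
  | zero =>
    intro l hcard _
    funext i
    by_contra hi
    have hi' : l i ≠ 0 := hi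
    have : i ∈ Finset.univ.filter fun i => l i ≠ 0 := by simp [hi']
    have := Finset.card_pos.mpr ⟨i, this⟩
    omega
  | succ N ih =>
    intro l hcard hl
    by_contra hne
    obtain ⟨i0, hi0⟩ : ∃ i0, l i0 ≠ 0 := by
      by_contra h
      push Not at h
      exact hne (funext h)
    -- normalize
    set l' : ι → K := fun i => (l i0)⁻¹ * l i with hl'
    have hl'0 : l' i0 = 1 := inv_mul_cancel₀ hi0
    have hsupp : ∀ i, l' i ≠ 0 ↔ l i ≠ 0 := by
      intro i
      simp only [hl', ne_eq, mul_eq_zero, inv_eq_zero, hi0, false_or]
    have hrel' : ∀ j, ∑ i, l' i * LocRes.hasseD H j (φ i) = 0 := by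
      intro j
      have := hl j
      simp only [hl', mul_assoc]
      rw [← Finset.mul_sum, this, mul_zero]
    -- all higher derivatives of `l'` vanish
    have hconst : ∀ m, m ≠ 0 → ∀ i, LocRes.hasseD H m (l' i) = 0 := by
      intro m hm
      have hrelm := rel_hasseD hK hH φ l' hrel' m
      have hz := ih (fun i => LocRes.hasseD H m (l' i)) ?_ hrelm
      · intro i
        exact congrFun hz i
      · have hsub : (Finset.univ.filter fun i => LocRes.hasseD H m (l' i) ≠ 0) ⊆
            (Finset.univ.filter fun i => l i ≠ 0).erase i0 := by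
          intro i hi
          rw [Finset.mem_filter] at hi
          rw [Finset.mem_erase, Finset.mem_filter]
          refine ⟨?_, Finset.mem_univ _, ?_⟩
          · rintro rfl
            apply hi.2
            rw [hl'0, hasseD_one_right H hm]
          · rw [← hsupp]
            intro h0
            apply hi.2
            rw [h0, hasseD_zero_right]
        have h1 := Finset.card_le_card hsub
        have h2 : i0 ∈ Finset.univ.filter fun i => l i ≠ 0 := by simp [hi0]
        rw [Finset.card_erase_of_mem h2] at h1
        omega
    have hk : ∀ i, l' i ∈ Set.range (algebraMap k K) := by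
      intro i
      apply mem_range_of_hasse_const hK hH
      ext m
      rw [PowerSeries.coeff_C]
      split_ifs with hm
      · subst hm
        exact hasseD_zero_left H hH (l' i)
      · exact hconst m hm i
    choose c hc using hk
    have h0 := hrel' 0
    simp only [hasseD_zero_left H hH] at h0
    have h3 : ∑ i, c i • φ i = 0 := by
      rw [← h0]
      refine Finset.sum_congr rfl fun i _ => ?_
      rw [Algebra.smul_def, hc]
    have h4 := Fintype.linearIndependent_iff.mp hφ c h3 i0
    have h5 := hc i0
    rw [h4, map_zero, hl'0] at h5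
    exact zero_ne_one h5

end indep

end HasseExp

end Groth.Agent.Lib.helper10
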