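import Mathlib
import Groth.Prelude.Def_W4bk4goldsch45p2
import Groth.Agent.Lib.Helper19.Jumps

/-!
Linear algebra of jump columns (helper10): jump columns are linearly independent; the Wronskian at
the order sequence is nonzero.
-/

set_option autoImplicit false
set_option linter.unusedSectionVars false
set_option linter.unusedVariables false
set_option linter.style.haveILetI false

open FunFld

namespace Groth.Agent.Lib.helper10

namespace HasseExp

section

variable {K M : Type*} [Field K] [AddCommGroup M] [Module K M]

/-- Jump columns along a strictly increasing index sequence are linearly independent. -/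
theorem jump_li (c : ℕ → M) : ∀ {N : ℕ} (g : Fin N → ℕ), StrictMono g → (∀ i, IsJump K c (g i)) →
    LinearIndependent K (fun i => c (g i)) := by
  intro N
  induction N with
  | zero => intro g _ _; exact linearIndependent_empty_type
  | succ N ih =>
    intro g hg hj
    have e : (fun i => c (g i)) = Fin.snoc (fun i : Fin N => c (g i.castSucc)) (c (g (Fin.last N))) := by
      funext i
      refine Fin.lastCases ?_ (fun i => ?_) i
      · simp
      · simp
    rw [e, linearIndependent_finSnoc]
    refine ⟨ih (fun i => g i.castSucc) (fun a b hab => hg (by simpa using hab)) (fun i => hj _), ?_⟩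
    intro hmem
    apply hj (Fin.last N)
    refine Submodule.span_mono ?_ hmem
    rintro _ ⟨i, rfl⟩
    exact ⟨g i.castSucc, hg (Fin.castSucc_lt_last i), rfl⟩

end

section

variable {k K : Type*} [Field k] [Field K] [Algebra k K]

/-- The index sequence `(0, J 0 + 1, …)` of the columns of `wrMat`. -/
def gidx {n : ℕ} (J : Fin n → ℕ) : Fin (n + 1) → ℕ := Fin.cases 0 (fun l => J l + 1)

theorem gidx_strictMono {n : ℕ} {J : Fin n → ℕ} (hJ : StrictMono J) : StrictMono (gidx J) := by
  intro a b hab
  revert hab
  refine Fin.cases ?_ (fun l => ?_) a <;> refine Fin.cases ?_ (fun l' => ?_) b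
  · intro h; exact absurd h (lt_irrefl _)
  · intro _; simp [gidx]
  · intro h; exact absurd h (Fin.not_lt_zero _)
  · intro h
    simp only [gidx, Fin.cases_succ]
    have := hJ (Fin.succ_lt_succ_iff.mp h)
    omega

theorem wrMat_col {n : ℕ} (τ : K →ₐ[k] K) (H : K →ₐ[k] PowerSeries K) (φ : Fin (n + 1) → K)
    (J : Fin n → ℕ) (c : Fin (n + 1)) :
    (wrMat τ H φ J).col c = hcol τ H φ (gidx J c) := by
  funext i
  refine Fin.cases ?_ (fun l => ?_) c
  · rfl
  · rfl

/-- The Wronskian at the order sequence does not vanish. -/
theorem det_wrMat_ne_zero {n : ℕ} (τ : K →ₐ[k] K) (H : K →ₐ[k] PowerSeries K)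
    (φ : Fin (n + 1) → K) (h0 : hcol τ H φ 0 ≠ 0) (J : Fin n → ℕ)
    (hJ : IsOrders K (hcol τ H φ) J) : (wrMat τ H φ J).det ≠ 0 := by
  have hjump : ∀ i, IsJump K (hcol τ H φ) (gidx J i) := by
    intro i
    refine Fin.cases ?_ (fun l => ?_) i
    · change hcol τ H φ 0 ∉ Submodule.span K (hcol τ H φ '' Set.Iio 0)
      have : Set.Iio (0 : ℕ) = ∅ := by ext; simp
      rw [this, Set.image_empty, Submodule.span_empty, Submodule.mem_bot]
      exact h0
    · exact (hJ.2 (J l)).mp ⟨l, rfl⟩
  have hli := jump_li (K := K) (hcol τ H φ) (gidx J) (gidx_strictMono hJ.1) hjump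
  have hli' : LinearIndependent K (wrMat τ H φ J).col := by
    have : (wrMat τ H φ J).col = fun i => hcol τ H φ (gidx J i) := by
      funext c
      exact wrMat_col τ H φ J c
    rw [this]
    exact hli
  have hu := Matrix.linearIndependent_cols_iff_isUnit.mp hli'
  exact ((Matrix.isUnit_iff_isUnit_det _).mp hu).ne_zero

end

end HasseExp

end Groth.Agent.Lib.helper10
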