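import Mathlib
import Groth.Agent.Lib.Helper10.HasseExp11
import Groth.Agent.Lib.Helper10.HasseExp8
import Groth.Agent.Lib.Helper19.Jumps

/-!
Existence of the order sequence of a `k`-linearly independent tuple (helper10).
-/

set_option autoImplicit false
set_option linter.unusedSectionVars false
set_option linter.unusedVariables false
set_option linter.style.haveILetI false

universe u v

open FunFld

namespace Groth.Agent.Lib.helper10

namespace HasseExp

section linalg

variable {K M : Type*} [Field K] [AddCommGroup M] [Module K M]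

theorem isJump_zero_iff (c : ℕ → M) : IsJump K c 0 ↔ c 0 ≠ 0 := by
  unfold IsJump
  have : Set.Iio (0 : ℕ) = ∅ := by ext; simp
  rw [this, Set.image_empty, Submodule.span_empty, Submodule.mem_bot]

theorem span_Iio_mono (c : ℕ → M) {a b : ℕ} (hab : a ≤ b) :
    Submodule.span K (c '' Set.Iio a) ≤ Submodule.span K (c '' Set.Iio b) := by
  apply Submodule.span_mono
  apply Set.image_mono
  intro x hx
  exact lt_of_lt_of_le hx hab

open scoped Classical in
/-- A spanning sequence in a space of dimension `n + 1` with nonzero first term has exactly `n`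
jumps after the first term. -/
theorem exists_isOrders_of_span_eq_top [FiniteDimensional K M] (c : ℕ → M)
    (hspan : Submodule.span K (Set.range c) = ⊤) (h0 : c 0 ≠ 0) {n : ℕ}
    (hn : Module.finrank K M = n + 1) : ∃ J : Fin n → ℕ, IsOrders K c J := by
  let W : ℕ →o Submodule K M :=
    ⟨fun m => Submodule.span K (c '' Set.Iio m), fun a b hab => span_Iio_mono c hab⟩
  obtain ⟨M0, hM0⟩ := (monotone_stabilizes_iff_noetherian (R := K) (M := M)).mpr inferInstance W
  have hWtop : Submodule.span K (c '' Set.Iio M0) = ⊤ := by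
    rw [eq_top_iff, ← hspan, Submodule.span_le]
    rintro _ ⟨m, rfl⟩
    have h1 : c m ∈ W (m + 1) := Submodule.subset_span ⟨m, Nat.lt_succ_self m, rfl⟩
    have h2 : W (m + 1) ≤ W (max M0 (m + 1)) := W.monotone (le_max_right _ _)
    have h3 : W M0 = W (max M0 (m + 1)) := hM0 _ (le_max_left _ _)
    have h4 := h2 h1
    rw [← h3] at h4
    exact h4
  set S : Finset ℕ := (Finset.range M0).filter (fun m => IsJump K c m) with hS
  have hSmem : ∀ m, m ∈ S ↔ IsJump K c m := by
    intro m
    rw [hS, Finset.mem_filter, Finset.mem_range]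
    constructor
    · exact fun h => h.2
    · intro h
      refine ⟨?_, h⟩
      by_contra hlt
      rw [not_lt] at hlt
      apply h
      have : c m ∈ (⊤ : Submodule K M) := Submodule.mem_top
      rw [← hWtop] at this
      exact span_Iio_mono c hlt this
  have hSspan : Submodule.span K (c '' (S : Set ℕ)) = ⊤ := by
    rw [← hWtop, Groth.Agent.Lib.helper19.Jumps.span_jumps (K := K) c M0]
    congr 2
    ext m
    rw [Finset.mem_coe, hS, Finset.mem_filter, Finset.mem_range]
    rfl
  -- the number of jumps
  have hcard : S.card = n + 1 := by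
    set g := S.orderEmbOfFin rfl with hg
    have hgj : ∀ i, IsJump K c (g i) := fun i => (hSmem _).mp (Finset.orderEmbOfFin_mem S rfl i)
    have hli := jump_li (K := K) c g g.strictMono hgj
    have h1 := hli.fintype_card_le_finrank
    rw [Fintype.card_fin, hn] at h1
    have hrange : Set.range (fun i => c (g i)) = c '' (S : Set ℕ) := by
      rw [← Finset.range_orderEmbOfFin S rfl, ← Set.range_comp]
      rfl
    have h2 := finrank_range_le_card (R := K) (fun i => c (g i))
    unfold Set.finrank at h2
    rw [hrange, hSspan, finrank_top, hn, Fintype.card_fin] at h2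
    omega
  have h0S : 0 ∈ S := (hSmem 0).mpr ((isJump_zero_iff c).mpr h0)
  set S' : Finset ℕ := (Finset.range M0).filter (fun j => IsJump K c (j + 1)) with hS'
  have hS'mem : ∀ j, j ∈ S' ↔ IsJump K c (j + 1) := by
    intro j
    rw [hS', Finset.mem_filter, Finset.mem_range]
    constructor
    · exact fun h => h.2
    · intro h
      refine ⟨?_, h⟩
      have := (hSmem (j + 1)).mpr h
      rw [hS, Finset.mem_filter, Finset.mem_range] at this
      omega
  have hSS' : S = insert 0 (S'.image (· + 1)) := by
    ext m
    rw [Finset.mem_insert, Finset.mem_image]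
    constructor
    · intro hm
      rcases Nat.eq_zero_or_pos m with h | h
      · exact Or.inl h
      · right
        refine ⟨m - 1, ?_, by omega⟩
        rw [hS'mem]
        have : m - 1 + 1 = m := by omega
        rw [this]
        exact (hSmem m).mp hm
    · rintro (rfl | ⟨j, hj, rfl⟩)
      · exact h0S
      · exact (hSmem _).mpr ((hS'mem j).mp hj)
  have hcard' : S'.card = n := by
    have h1 : (0 : ℕ) ∉ S'.image (· + 1) := by
      rw [Finset.mem_image]
      rintro ⟨j, _, hj⟩
      omega
    have h2 := Finset.card_insert_of_notMem h1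
    rw [← hSS', hcard, Finset.card_image_of_injective _ (add_left_injective 1)] at h2
    omega
  refine ⟨S'.orderEmbOfFin hcard', (S'.orderEmbOfFin hcard').strictMono, ?_⟩
  intro j
  rw [← hS'mem, ← Finset.mem_coe, ← Finset.range_orderEmbOfFin S' hcard']

end linalg

section main

variable {k : Type u} {K : Type v} [Field k] [Field K] [Algebra k K]

/-- The columns of the Hasse matrix of a `k`-linearly independent tuple span `K^{n+1}`. -/
theorem span_hcol_eq_top (hK : IsFunctionField k K) {s : K} {H : K →ₐ[k] PowerSeries K}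
    (hH : LocRes.IsHasseFamily s H) {n : ℕ} (φ : Fin (n + 1) → K) (hφ : LinearIndependent k φ)
    (τ : K →ₐ[k] K) : Submodule.span K (Set.range (hcol τ H φ)) = ⊤ := by
  classical
  by_contra hne
  obtain ⟨f, hf0, hf⟩ := Submodule.exists_le_ker_of_lt_top _ (lt_top_iff_ne_top.mpr hne)
  apply hf0
  set l : Fin (n + 1) → K := fun i => f (Pi.single i 1) with hl
  have hfl : ∀ w : Fin (n + 1) → K, f w = ∑ i, l i * w i := by
    intro w
    conv_lhs => rw [← Finset.univ_sum_single w]
    rw [map_sum]
    refine Finset.sum_congr rfl fun i _ => ?_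
    have : (Pi.single i (w i) : Fin (n + 1) → K) = w i • Pi.single i 1 := by
      rw [← Pi.single_smul, smul_eq_mul, mul_one]
    rw [this, map_smul, smul_eq_mul, mul_comm]
  have hrel : ∀ j, ∑ i, l i * LocRes.hasseD H j (φ i) = 0 := by
    intro j
    have h1 : hcol τ H φ (j + 1) ∈ Submodule.span K (Set.range (hcol τ H φ)) :=
      Submodule.subset_span ⟨j + 1, rfl⟩
    have h2 := hf h1
    rw [LinearMap.mem_ker, hfl] at h2
    exact h2
  have hl0 := rel_eq_zero hK hH φ hφ (n + 1) l (by
    refine le_trans (Finset.card_le_univ _) ?_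
    simp) hrel
  apply LinearMap.ext
  intro w
  rw [hfl, hl0]
  simp

/-- Existence of the `τ`-orders, with nonvanishing Wronskian. -/
theorem exists_isOrders (hK : IsFunctionField k K) {s : K} {H : K →ₐ[k] PowerSeries K}
    (hH : LocRes.IsHasseFamily s H) {n : ℕ} (φ : Fin (n + 1) → K) (hφ : LinearIndependent k φ)
    (τ : K →ₐ[k] K) :
    ∃ J : Fin n → ℕ, IsOrders K (hcol τ H φ) J ∧ (wrMat τ H φ J).det ≠ 0 := by
  have h0 : hcol τ H φ 0 ≠ 0 := by
    intro h
    have h1 := congrFun h 0
    change τ (φ 0) = 0 at h1
    exact hφ.ne_zero 0 ((map_eq_zero τ).mp h1)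
  obtain ⟨J, hJ⟩ := exists_isOrders_of_span_eq_top (K := K) (hcol τ H φ)
    (span_hcol_eq_top hK hH φ hφ τ) h0 (n := n) (by simp)
  exact ⟨J, hJ, det_wrMat_ne_zero τ H φ h0 J hJ⟩

end main

end HasseExp

end Groth.Agent.Lib.helper10
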