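import Mathlib
import Groth.Agent.Lib.Helper10.HasseExp12

/-!
Change of the variable of a Hasse family: `H_t = subst (H_t s - s) ∘ H_s`, and existence of the
Hasse family of `t` from that of `s` (helper10).
-/

set_option autoImplicit false
set_option linter.unusedSectionVars false
set_option linter.unusedVariables false
set_option linter.style.haveILetI false

universe u v

open FunFld

namespace Groth.Agent.Lib.helper10

namespace HasseExp

variable {k : Type u} {K : Type v} [Field k] [Field K] [Algebra k K]

section subst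

/-- Coefficients of powers of a power series without constant term. -/
theorem coeff_pow_of_constantCoeff_zero {R : Type*} [CommRing R] (g : PowerSeries R)
    (hg : PowerSeries.constantCoeff g = 0) (e d : ℕ) :
    (e < d → PowerSeries.coeff e (g ^ d) = 0) ∧
      PowerSeries.coeff d (g ^ d) = (PowerSeries.coeff 1 g) ^ d := by
  obtain ⟨g₁, rfl⟩ := PowerSeries.X_dvd_iff.mpr hg
  constructor
  · intro hed
    rw [mul_pow, PowerSeries.coeff_X_pow_mul', if_neg (by omega)]
  · rw [mul_pow, PowerSeries.coeff_X_pow_mul', if_pos le_rfl, Nat.sub_self,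
      PowerSeries.coeff_zero_eq_constantCoeff_apply, map_pow]
    congr 1
    have := PowerSeries.coeff_succ_X_mul 0 g₁
    rw [zero_add] at this
    rw [this, PowerSeries.coeff_zero_eq_constantCoeff_apply]

theorem coeff_subst_eq_sum {R : Type*} [CommRing R] (g : PowerSeries R)
    (hg : PowerSeries.constantCoeff g = 0) (f : PowerSeries R) (e : ℕ) :
    PowerSeries.coeff e (f.subst g) =
      ∑ d ∈ Finset.range (e + 1), PowerSeries.coeff d f * PowerSeries.coeff e (g ^ d) := by
  rw [PowerSeries.coeff_subst' (PowerSeries.HasSubst.of_constantCoeff_zero' hg)]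
  rw [finsum_eq_sum_of_support_subset]
  · rfl
  · intro d hd
    rw [Function.mem_support] at hd
    rw [Finset.coe_range, Set.mem_Iio]
    by_contra hlt
    apply hd
    rw [(coeff_pow_of_constantCoeff_zero g hg e d).1 (by omega), smul_zero]

end subst

section change

variable (hK : IsFunctionField k K) {s t : K} {Hs Ht : K →ₐ[k] PowerSeries K}
  (hHs : LocRes.IsHasseFamily s Hs) (hHt : LocRes.IsHasseFamily t Ht)

include hK hHs hHt in
/-- Change of variable: `H_t y = (H_s y)(H_t s - s)`. -/
theorem hasse_change (y : K) : Ht y = (Hs y).subst (Ht s - PowerSeries.C s) := by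
  set g : PowerSeries K := Ht s - PowerSeries.C s with hg
  have hg0 : PowerSeries.constantCoeff g = 0 := by
    rw [hg, map_sub, hHt.2, PowerSeries.constantCoeff_C, sub_self]
  have hsub : PowerSeries.HasSubst g := PowerSeries.HasSubst.of_constantCoeff_zero' hg0
  let S : PowerSeries K →ₐ[K] PowerSeries K := PowerSeries.substAlgHom hsub
  have hS : ∀ f, S f = f.subst g := fun f => by
    change PowerSeries.substAlgHom hsub f = _
    rw [PowerSeries.coe_substAlgHom]
  let A : K →+* PowerSeries K := Ht.toRingHom
  let B : K →+* PowerSeries K := S.toRingHom.comp Hs.toRingHom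
  have hSC : ∀ z : K, S (PowerSeries.C z) = PowerSeries.C z := fun z => S.commutes z
  have hAk : ∀ c : k, A (algebraMap k K c) = B (algebraMap k K c) := by
    intro c
    change Ht (algebraMap k K c) = S (Hs (algebraMap k K c))
    rw [Ht.commutes, Hs.commutes, PowerSeries.algebraMap_apply, hSC]
  have hAs : A s = B s := by
    change Ht s = S (Hs s)
    rw [hHs.1, map_add, hSC, hS, PowerSeries.subst_X hsub, hg]
    ring
  have hcc : ∀ z, PowerSeries.constantCoeff (A z) = PowerSeries.constantCoeff (B z) := by
    intro z
    change PowerSeries.constantCoeff (Ht z) = PowerSeries.constantCoeff (S (Hs z))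
    have e : Hs z = PowerSeries.C z + (Hs z - PowerSeries.C z) := by ring
    rw [e, map_add, hSC, hHt.2, map_add, PowerSeries.constantCoeff_C, hS]
    have h1 : PowerSeries.constantCoeff ((Hs z - PowerSeries.C z).subst g) = 0 := by
      have := PowerSeries.constantCoeff_subst_eq_zero (a := g) hg0 (Hs z - PowerSeries.C z)
        (by rw [map_sub, hHs.2, PowerSeries.constantCoeff_C, sub_self])
      exact this
    rw [h1, add_zero]
  have hAB := ringHom_ext_powerSeries hK A B hAk (transcendental_of_isHasseFamily hK hHs) hAs hcc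
  have := congrArg (fun f => f y) hAB
  change Ht y = S (Hs y) at this
  rw [this, hS]

include hK hHs hHt in
theorem hasseD_change (y : K) (e : ℕ) :
    LocRes.hasseD Ht e y = ∑ d ∈ Finset.range (e + 1),
      LocRes.hasseD Hs d y * PowerSeries.coeff e ((Ht s - PowerSeries.C s) ^ d) := by
  have hg0 : PowerSeries.constantCoeff (Ht s - PowerSeries.C s) = 0 := by
    rw [map_sub, hHt.2, PowerSeries.constantCoeff_C, sub_self]
  rw [LocRes.hasseD_apply, hasse_change hK hHs hHt y, coeff_subst_eq_sum _ hg0]
  rfl

include hK hHs hHt in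
/-- `ds/dt ≠ 0`. -/
theorem hasseD_one_ne_zero : LocRes.hasseD Ht 1 s ≠ 0 := by
  intro h0
  have hg0 : PowerSeries.constantCoeff (Ht s - PowerSeries.C s) = 0 := by
    rw [map_sub, hHt.2, PowerSeries.constantCoeff_C, sub_self]
  have hc1 : PowerSeries.coeff 1 (Ht s - PowerSeries.C s) = 0 := by
    rw [map_sub, PowerSeries.coeff_C, if_neg one_ne_zero, sub_zero]
    exact h0
  have h1 := hasseD_change hK hHs hHt t 1
  rw [LocRes.hasseD_apply, hHt.1, map_add, PowerSeries.coeff_C, if_neg one_ne_zero,
    PowerSeries.coeff_one_X, zero_add] at h1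
  rw [Finset.sum_range_succ, Finset.sum_range_one, pow_zero, PowerSeries.coeff_one,
    if_neg one_ne_zero, mul_zero, zero_add,
    (coeff_pow_of_constantCoeff_zero _ hg0 1 1).2, hc1, pow_one, mul_zero] at h1
  exact one_ne_zero h1

include hK hHs hHt in
/-- The columns of the Hasse matrix for `t` are triangular combinations of those for `s`. -/
theorem hcol_change_triangular {ι : Type*} (τ : K →ₐ[k] K) (φ : ι → K) (j : ℕ) :
    hcol τ Ht φ j - (Nat.casesOn (motive := fun _ => K) j 1
        (fun e => (LocRes.hasseD Ht 1 s) ^ e)) • hcol τ Hs φ j ∈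
      Submodule.span K (hcol τ Hs φ '' Set.Iio j) := by
  have hg0 : PowerSeries.constantCoeff (Ht s - PowerSeries.C s) = 0 := by
    rw [map_sub, hHt.2, PowerSeries.constantCoeff_C, sub_self]
  have hc1 : PowerSeries.coeff 1 (Ht s - PowerSeries.C s) = LocRes.hasseD Ht 1 s := by
    rw [map_sub, PowerSeries.coeff_C, if_neg one_ne_zero, sub_zero]
    rfl
  cases j with
  | zero =>
    have : hcol τ Ht φ 0 = hcol τ Hs φ 0 := rfl
    simp [this]
  | succ e =>
    have h1 : hcol τ Ht φ (e + 1) = ∑ d ∈ Finset.range (e + 1),
        PowerSeries.coeff e ((Ht s - PowerSeries.C s) ^ d) • hcol τ Hs φ (d + 1) := by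
      funext i
      change LocRes.hasseD Ht e (φ i) = _
      rw [hasseD_change hK hHs hHt, Finset.sum_apply]
      refine Finset.sum_congr rfl fun d _ => ?_
      rw [mul_comm]
      rfl
    rw [h1, Finset.sum_range_succ, (coeff_pow_of_constantCoeff_zero _ hg0 e e).2, hc1]
    simp only
    rw [add_sub_cancel_right]
    refine Submodule.sum_mem _ fun d hd => ?_
    refine Submodule.smul_mem _ _ (Submodule.subset_span ⟨d + 1, ?_, rfl⟩)
    rw [Finset.mem_range] at hd
    rw [Set.mem_Iio]
    omega

end change

end HasseExp

end Groth.Agent.Lib.helper10
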