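import Mathlib

/-!
Order of the determinant of a matrix of Laurent series with prescribed entry orders (helper10).
-/

set_option autoImplicit false
set_option linter.unusedSectionVars false
set_option linter.unusedVariables false
set_option linter.style.haveILetI false

universe u

namespace Groth.Agent.Lib.helper10

namespace HasseExp

open HahnSeries

variable {k : Type u} [Field k]

theorem prod_single {N : Type*} [DecidableEq N] (s : Finset N) (a : N → ℤ) :
    ∏ i ∈ s, (single (a i) (1 : k) : LaurentSeries k) = single (∑ i ∈ s, a i) 1 := by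
  induction s using Finset.induction_on with
  | empty => simp
  | insert i s hi ih =>
    rw [Finset.prod_insert hi, Finset.sum_insert hi, ih, single_mul_single, one_mul]

/-- Shifted power series part of a Laurent series vanishing below `s`. -/
noncomputable def shiftPS (f : LaurentSeries k) (s : ℤ) : PowerSeries k :=
  PowerSeries.mk fun m => f.coeff (m + s)

theorem single_mul_shiftPS (f : LaurentSeries k) (s : ℤ) (hf : ∀ m : ℤ, m < s → f.coeff m = 0) :
    single s (1 : k) * ofPowerSeries ℤ k (shiftPS f s) = f := by
  ext m
  rw [coeff_single_mul, one_mul]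
  by_cases hm : m - s < 0
  · rw [hf m (by omega)]
    have h1 : Valued.v (ofPowerSeries ℤ k (shiftPS f s)) ≤ WithZero.exp (-(0 : ℤ)) := by
      rw [neg_zero, WithZero.exp_zero]
      exact (LaurentSeries.val_le_one_iff_eq_coe k _).mpr ⟨_, rfl⟩
    exact (LaurentSeries.valuation_le_iff_coeff_lt_eq_zero k).mp h1 _ hm
  · obtain ⟨j, hj⟩ := Int.eq_ofNat_of_zero_le (not_lt.mp hm)
    rw [hj, ofPowerSeries_apply_coeff, shiftPS, PowerSeries.coeff_mk]
    congr 1
    omega

theorem coeff_single_mul_ofPowerSeries_neg (g : PowerSeries k) (s m : ℤ) (hm : m < s) :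
    (single s (1 : k) * ofPowerSeries ℤ k g).coeff m = 0 := by
  rw [coeff_single_mul, one_mul]
  have h1 : Valued.v (ofPowerSeries ℤ k g) ≤ WithZero.exp (-(0 : ℤ)) := by
    rw [neg_zero, WithZero.exp_zero]
    exact (LaurentSeries.val_le_one_iff_eq_coe k _).mpr ⟨_, rfl⟩
  exact (LaurentSeries.valuation_le_iff_coeff_lt_eq_zero k).mp h1 _ (by omega)

theorem coeff_single_mul_ofPowerSeries_self (g : PowerSeries k) (s : ℤ) :
    (single s (1 : k) * ofPowerSeries ℤ k g).coeff s = PowerSeries.constantCoeff g := by
  rw [coeff_single_mul, one_mul, sub_self]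
  have := ofPowerSeries_apply_coeff (Γ := ℤ) g 0
  simp only [Nat.cast_zero] at this
  rw [this, PowerSeries.coeff_zero_eq_constantCoeff_apply]

/-- The determinant of a matrix of Laurent series whose `(i, c)` entry has order at least
`a i - b c`: it has order at least `∑ a - ∑ b`, with leading coefficient the determinant of the
matrix of the coefficients at these orders. -/
theorem det_laurent {N : Type*} [Fintype N] [DecidableEq N] (M : Matrix N N (LaurentSeries k))
    (a b : N → ℤ) (hM : ∀ i c, ∀ m : ℤ, m < a i - b c → (M i c).coeff m = 0) :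
    (∀ m : ℤ, m < ∑ i, a i - ∑ c, b c → M.det.coeff m = 0) ∧
      M.det.coeff (∑ i, a i - ∑ c, b c) =
        (Matrix.of fun i c => (M i c).coeff (a i - b c)).det := by
  set N₀ : Matrix N N (PowerSeries k) := Matrix.of fun i c => shiftPS (M i c) (a i - b c) with hN₀
  have hMe : M = Matrix.of fun i c => single (a i) (1 : k) *
      (Matrix.of (fun i c => single (-(b c)) (1 : k) *
        ((ofPowerSeries ℤ k).mapMatrix N₀) i c)) i c := by
    ext1 i c
    simp only [Matrix.of_apply, RingHom.mapMatrix_apply, Matrix.map_apply, hN₀]
    rw [← mul_assoc, single_mul_single, one_mul]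
    have e : a i + -b c = a i - b c := by ring
    rw [e]
    exact (single_mul_shiftPS (M i c) (a i - b c) (hM i c)).symm
  have hdet : M.det = single (∑ i, a i - ∑ c, b c) (1 : k) * ofPowerSeries ℤ k N₀.det := by
    conv_lhs => rw [hMe]
    rw [Matrix.det_mul_column, Matrix.det_mul_row, ← RingHom.map_det, prod_single, prod_single,
      ← mul_assoc, single_mul_single, one_mul]
    congr 2
    rw [Finset.sum_neg_distrib]
    ring_nf
  constructor
  · intro m hm
    rw [hdet]
    exact coeff_single_mul_ofPowerSeries_neg _ _ _ hm
  · rw [hdet, coeff_single_mul_ofPowerSeries_self, RingHom.map_det]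
    congr 1
    ext1 i c
    simp only [RingHom.mapMatrix_apply, Matrix.map_apply, Matrix.of_apply, hN₀, shiftPS]
    rw [← PowerSeries.coeff_zero_eq_constantCoeff_apply, PowerSeries.coeff_mk]
    simp

end HasseExp

end Groth.Agent.Lib.helper10
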