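import Mathlib

/-!
# Bases adapted to a decreasing filtration (helper10)
-/

namespace Groth.Agent.Lib.helper10.Filt

open Module Submodule Finset

variable {k E : Type*} [Field k] [AddCommGroup E] [Module k E] [FiniteDimensional k E]

theorem exists_adapted_finset (d : ℕ) : ∀ (F : ℕ → Submodule k E), Antitone F →
    ∃ (s : Finset E) (m : E → ℕ), LinearIndepOn k id (s : Set E) ∧
      span k (s : Set E) = F 0 ∧ (∀ v ∈ s, v ∈ F (m v)) ∧ (∀ v ∈ s, m v ≤ d) ∧
      ∑ v ∈ s, m v = ∑ j ∈ range d, finrank k (F (j + 1)) := by
  classical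
  induction d with
  | zero =>
    intro F _
    obtain ⟨b, hb1, -, hb2, hb3⟩ :=
      exists_linearIndepOn_id_extension (K := k) (linearIndepOn_empty k id)
        (Set.empty_subset (F 0 : Set E))
    have hfin : b.Finite := LinearIndependent.setFinite hb3
    refine ⟨hfin.toFinset, fun _ => 0, ?_, ?_, ?_, ?_, ?_⟩
    · simpa using hb3
    · rw [Set.Finite.coe_toFinset]
      exact le_antisymm (span_le.2 hb1) hb2
    · intro v hv
      exact hb1 (hfin.mem_toFinset.1 hv)
    · intro v _; exact le_rfl
    · simp
  | succ d ih =>
    intro F hF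
    obtain ⟨s', m', hli', hspan', hmem', hle', hsum'⟩ := ih (fun j => F (j + 1))
      (fun a b hab => hF (by omega))
    have hsub : (s' : Set E) ⊆ (F 0 : Set E) := by
      intro v hv
      have : v ∈ span k (s' : Set E) := subset_span hv
      rw [hspan'] at this
      exact hF (Nat.zero_le _) this
    obtain ⟨b, hb1, hb0, hb2, hb3⟩ := exists_linearIndepOn_id_extension (K := k) hli' hsub
    have hfin : b.Finite := LinearIndependent.setFinite hb3
    have hs'b : s' ⊆ hfin.toFinset := by
      intro v hv
      exact hfin.mem_toFinset.2 (hb0 hv)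
    refine ⟨hfin.toFinset, fun v => if v ∈ s' then m' v + 1 else 0, ?_, ?_, ?_, ?_, ?_⟩
    · simpa using hb3
    · rw [Set.Finite.coe_toFinset]
      exact le_antisymm (span_le.2 hb1) hb2
    · intro v hv
      by_cases hvs : v ∈ s'
      · simp only [hvs, if_true]
        exact hmem' v hvs
      · simp only [hvs, if_false]
        exact hb1 (hfin.mem_toFinset.1 hv)
    · intro v _
      by_cases hvs : v ∈ s'
      · simp only [hvs, if_true]
        have := hle' v hvs
        omega
      · simp only [hvs, if_false]
        omega
    · have hcard : s'.card = finrank k (F 1) := by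
        have h1 := finrank_span_finset_eq_card (R := k) hli'
        rw [hspan'] at h1
        exact h1.symm
      rw [← Finset.sum_subset hs'b (f := fun v => if v ∈ s' then m' v + 1 else 0)
        (fun v _ hv => by simp [hv])]
      rw [Finset.sum_congr rfl (fun v hv => by rw [if_pos hv] : ∀ v ∈ s',
        (if v ∈ s' then m' v + 1 else 0) = m' v + 1)]
      rw [Finset.sum_add_distrib, hsum', Finset.sum_const, smul_eq_mul, mul_one, hcard,
        Finset.sum_range_succ' (fun j => finrank k (F (j + 1)))]

/-- A basis adapted to a decreasing filtration: the sum of the levels of the basis vectors is the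
sum of the dimensions of the steps. -/
theorem exists_adapted (d n : ℕ) (F : ℕ → Submodule k E) (hF : Antitone F) (h0 : F 0 = ⊤)
    (hn : finrank k E = n) :
    ∃ (b : Fin n → E) (m : Fin n → ℕ), LinearIndependent k b ∧
      span k (Set.range b) = ⊤ ∧ (∀ i, b i ∈ F (m i)) ∧ (∀ i, m i ≤ d) ∧
      ∑ i, m i = ∑ j ∈ range d, finrank k (F (j + 1)) := by
  classical
  obtain ⟨s, m, hli, hspan, hmem, hle, hsum⟩ := exists_adapted_finset d F hF
  have hcard : s.card = n := by
    have h1 := finrank_span_finset_eq_card (R := k) hli
    rw [hspan, h0, finrank_top, hn] at h1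
    exact h1.symm
  let e : Fin n ≃ s := (Fintype.equivFinOfCardEq (by simpa using hcard)).symm
  refine ⟨fun i => (e i : E), fun i => m (e i : E), ?_, ?_, ?_, ?_, ?_⟩
  · have : LinearIndependent k (fun x : s => (x : E)) := hli
    exact this.comp e e.injective
  · have : Set.range (fun i => (e i : E)) = (s : Set E) := by
      ext v
      constructor
      · rintro ⟨i, rfl⟩; exact (e i).2
      · intro hv; exact ⟨e.symm ⟨v, hv⟩, by simp⟩
    rw [this, hspan, h0]
  · intro i; exact hmem _ (e i).2
  · intro i; exact hle _ (e i).2
  · rw [← hsum, ← Finset.sum_coe_sort s m]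
    exact Equiv.sum_comp e (fun x : s => m (x : E))

end Groth.Agent.Lib.helper10.Filt
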