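import Mathlib

/-!
# Wronskians of polynomial families (helper10)

Pure Mathlib material used for the Plücker inequality on the projective line.
-/

namespace Groth.Agent.Lib.helper10.Wr

open Polynomial Matrix Finset

variable {k : Type*} [Field k]

/-- Wronskian matrix `(D^j p_i)`. -/
noncomputable def wmat {n : ℕ} (p : Fin n → k[X]) : Matrix (Fin n) (Fin n) k[X] :=
  Matrix.of fun i j => derivative^[(j : ℕ)] (p i)

/-- Wronskian determinant. -/
noncomputable def wr {n : ℕ} (p : Fin n → k[X]) : k[X] := (wmat p).det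

lemma iter_deriv_sum {ι : Type*} (s : Finset ι) (f : ι → k[X]) (c : ι → k) (l : ℕ) :
    derivative^[l] (∑ j ∈ s, c j • f j) = ∑ j ∈ s, C (c j) * derivative^[l] (f j) := by
  have h : ∀ q : k[X], derivative^[l] q = ((derivative : k[X] →ₗ[k] k[X]) ^ l) q := by
    intro q; rw [Module.End.pow_apply]
  rw [h, map_sum]
  refine Finset.sum_congr rfl fun j _ => ?_
  rw [map_smul, ← h, smul_eq_C_mul]

/-- Change of family: if every `q i` lies in the span of the `p j`, the Wronskian of `q` is a
constant multiple of that of `p`. -/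
lemma wr_of_mem_span {n : ℕ} (p q : Fin n → k[X])
    (h : ∀ i, q i ∈ Submodule.span k (Set.range p)) : ∃ c : k, wr q = C c * wr p := by
  have h' : ∀ i, ∃ c : Fin n → k, ∑ j, c j • p j = q i := fun i =>
    (Submodule.mem_span_range_iff_exists_fun k).1 (h i)
  choose cm hcm using h'
  refine ⟨(Matrix.of cm).det, ?_⟩
  have : wmat q = (Matrix.of cm).map C * wmat p := by
    ext i l
    simp only [wmat, Matrix.of_apply, Matrix.mul_apply, Matrix.map_apply]
    rw [← hcm i, iter_deriv_sum]
  rw [wr, this, Matrix.det_mul, wr]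
  congr 1
  rw [← RingHom.mapMatrix_apply, ← RingHom.map_det]

/-- Degree of a determinant with row-wise degree bounds. -/
lemma natDegree_det_le {n : ℕ} (M : Matrix (Fin n) (Fin n) k[X]) (e : Fin n → ℕ)
    (h : ∀ i j, natDegree (M i j) ≤ e i) : natDegree M.det ≤ ∑ i, e i := by
  rw [Matrix.det_apply']
  refine natDegree_sum_le_of_forall_le _ _ fun σ _ => ?_
  have h1 : natDegree (∏ i, M (σ i) i) ≤ ∑ i, e i := by
    refine (natDegree_prod_le _ _).trans ?_
    calc ∑ i, natDegree (M (σ i) i) ≤ ∑ i, e (σ i) := Finset.sum_le_sum fun i _ => h _ _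
      _ = ∑ i, e i := Equiv.sum_comp σ e
  rcases Int.units_eq_one_or (Equiv.Perm.sign σ) with hs | hs
  · simpa [hs] using h1
  · simpa [hs] using h1

lemma coeff_prod_of_le {ι : Type*} (s : Finset ι) (f : ι → k[X]) (e : ι → ℕ)
    (h : ∀ i ∈ s, natDegree (f i) ≤ e i) :
    coeff (∏ i ∈ s, f i) (∑ i ∈ s, e i) = ∏ i ∈ s, coeff (f i) (e i) := by
  classical
  induction s using Finset.induction_on with
  | empty => simp
  | insert a s ha ih =>
    rw [Finset.prod_insert ha, Finset.sum_insert ha, Finset.prod_insert ha,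
      coeff_mul_add_eq_of_natDegree_le (h a (Finset.mem_insert_self _ _))
        ((natDegree_prod_le _ _).trans (Finset.sum_le_sum fun i hi =>
          h i (Finset.mem_insert_of_mem hi))),
      ih fun i hi => h i (Finset.mem_insert_of_mem hi)]

/-- Top coefficient of a determinant with row-wise degree bounds. -/
lemma coeff_det {n : ℕ} (M : Matrix (Fin n) (Fin n) k[X]) (e : Fin n → ℕ)
    (h : ∀ i j, natDegree (M i j) ≤ e i) :
    coeff M.det (∑ i, e i) = (Matrix.of fun i j => coeff (M i j) (e i)).det := by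
  rw [Matrix.det_apply', Matrix.det_apply', finsetSum_coeff]
  refine Finset.sum_congr rfl fun σ _ => ?_
  have h1 : coeff (∏ i, M (σ i) i) (∑ i, e i) = ∏ i, coeff (M (σ i) i) (e (σ i)) := by
    rw [← Equiv.sum_comp σ e]
    exact coeff_prod_of_le _ _ _ fun i _ => h _ _
  have h2 : ((Equiv.Perm.sign σ : ℤ) : k[X]) = C ((Equiv.Perm.sign σ : ℤ) : k) := by
    simp
  rw [h2, coeff_C_mul, h1]
  simp [Matrix.of_apply]


/-- Triangular number `0 + 1 + ⋯ + (n-1)`. -/
def tri (n : ℕ) : ℕ := ∑ j : Fin n, (j : ℕ)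

lemma tri_eq (n : ℕ) : tri n = n * (n - 1) / 2 := by
  rw [tri, Fin.sum_univ_eq_sum_range (fun i => i) n, Finset.sum_range_id]

lemma det_shift {n : ℕ} (t : k[X]) (p : Fin n → k[X]) :
    (Matrix.of fun i j : Fin n => t ^ (j : ℕ) * wmat p i j).det = t ^ tri n * wr p := by
  rw [Matrix.det_mul_row (fun j : Fin n => t ^ (j : ℕ)) (wmat p), Finset.prod_pow_eq_pow_sum, wr,
    tri]

lemma natDegree_X_pow_mul_iter_le (p : k[X]) (j : ℕ) :
    natDegree (X ^ j * derivative^[j] p) ≤ natDegree p := by
  by_cases h0 : derivative^[j] p = 0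
  · simp [h0]
  · have hj : j ≤ natDegree p := by
      by_contra hlt
      exact h0 (iterate_derivative_eq_zero (not_le.1 hlt))
    rw [natDegree_X_pow_mul _ h0]
    have := natDegree_iterate_derivative p j
    omega

lemma coeff_X_pow_mul_iter (p : k[X]) (j e : ℕ) :
    coeff (X ^ j * derivative^[j] p) e = (e.descFactorial j : k) * coeff p e := by
  rw [coeff_X_pow_mul']
  split_ifs with h
  · rw [coeff_iterate_derivative, Nat.sub_add_cancel h, nsmul_eq_mul]
  · rw [(Nat.descFactorial_eq_zero_iff_lt).2 (not_le.1 h)]; simp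

/-- Degree bound for the Wronskian. -/
lemma natDegree_wr_le {n : ℕ} (p : Fin n → k[X]) (e : Fin n → ℕ)
    (he : ∀ i, natDegree (p i) ≤ e i) (h0 : wr p ≠ 0) :
    natDegree (wr p) + tri n ≤ ∑ i, e i := by
  have h1 := natDegree_det_le (Matrix.of fun i j : Fin n => X ^ (j : ℕ) * wmat p i j) e
    (fun i j => by
      simp only [Matrix.of_apply, wmat]
      exact (natDegree_X_pow_mul_iter_le _ _).trans (he i))
  rw [det_shift, natDegree_X_pow_mul _ h0] at h1
  exact h1

/-- Divisibility of the Wronskian by a power of a linear form. -/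
lemma pow_dvd_wr {n : ℕ} (p : Fin n → k[X]) (a : k) (m : Fin n → ℕ)
    (hm : ∀ i, (X - C a) ^ m i ∣ p i) :
    (X - C a) ^ ((∑ i, m i) - tri n) ∣ wr p := by
  have key : ∀ i (j : Fin n), (X - C a) ^ m i ∣ (X - C a) ^ (j : ℕ) * wmat p i j := by
    intro i j
    simp only [wmat, Matrix.of_apply]
    have h1 := pow_sub_dvd_iterate_derivative_of_pow_dvd (j : ℕ) (hm i)
    rcases le_total (m i) (j : ℕ) with h | h
    · exact Dvd.dvd.mul_right (pow_dvd_pow _ h) _
    · have : (X - C a) ^ m i = (X - C a) ^ (j : ℕ) * (X - C a) ^ (m i - (j : ℕ)) := by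
        rw [← pow_add, Nat.add_sub_cancel' h]
      rw [this]
      exact mul_dvd_mul_left _ h1
  choose A hA using key
  have h2 : (Matrix.of fun i j : Fin n => (X - C a) ^ (j : ℕ) * wmat p i j)
      = Matrix.of fun i j : Fin n => (X - C a) ^ m i * A i j := by
    funext i j
    simp only [Matrix.of_apply]
    exact hA i j
  have h3 := det_shift (X - C a) p
  rw [h2, Matrix.det_mul_column (fun i : Fin n => (X - C a) ^ m i) A,
    Finset.prod_pow_eq_pow_sum] at h3
  rcases le_total (∑ i, m i) (tri n) with h | h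
  · rw [Nat.sub_eq_zero_of_le h, pow_zero]; exact one_dvd _
  · have h4 : (X - C a) ^ tri n * (X - C a) ^ ((∑ i, m i) - tri n) ∣ (X - C a) ^ tri n * wr p := by
      rw [← pow_add, Nat.add_sub_cancel' h, ← h3]
      exact dvd_mul_right _ _
    exact (mul_dvd_mul_iff_left (pow_ne_zero _ (X_sub_C_ne_zero a))).1 h4

/-- Nonvanishing of the Wronskian of nonzero polynomials of pairwise distinct degrees. -/
lemma wr_ne_zero_of_injective [CharZero k] {n : ℕ} (b : Fin n → k[X]) (hb : ∀ i, b i ≠ 0)
    (hinj : Function.Injective fun i => natDegree (b i)) : wr b ≠ 0 := by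
  intro hw
  have h1 := coeff_det (Matrix.of fun i j : Fin n => X ^ (j : ℕ) * wmat b i j)
    (fun i => natDegree (b i))
    (fun i j => by
      simp only [Matrix.of_apply, wmat]
      exact natDegree_X_pow_mul_iter_le _ _)
  rw [det_shift, hw, mul_zero, coeff_zero] at h1
  have h2 : (Matrix.of fun i j : Fin n =>
      coeff ((Matrix.of fun i j : Fin n => X ^ (j : ℕ) * wmat b i j) i j) (natDegree (b i)))
      = Matrix.of fun i j : Fin n => leadingCoeff (b i) *
        (Matrix.of fun i j : Fin n => (descPochhammer k (j : ℕ)).eval ((natDegree (b i) : ℕ) : k)) i j := by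
    ext i j
    simp only [Matrix.of_apply, wmat]
    rw [coeff_X_pow_mul_iter, descPochhammer_eval_eq_descFactorial, mul_comm]
    rfl
  rw [h2, Matrix.det_mul_column,
    ← Matrix.det_eval_matrixOfPolynomials_eq_det_vandermonde (fun i => ((natDegree (b i) : ℕ) : k))
      (fun j : Fin n => descPochhammer k (j : ℕ))
      (fun j => descPochhammer_natDegree k _) (fun j => monic_descPochhammer k _)] at h1
  have h3 : (Matrix.vandermonde fun i : Fin n => ((natDegree (b i) : ℕ) : k)).det ≠ 0 :=
    Matrix.det_vandermonde_ne_zero_iff.2 (Nat.cast_injective.comp hinj)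
  have h4 : (∏ i, leadingCoeff (b i)) ≠ 0 :=
    Finset.prod_ne_zero_iff.2 fun i _ => leadingCoeff_ne_zero.2 (hb i)
  exact mul_ne_zero h4 h3 h1.symm


/-- Echelon family: a finite-dimensional space of polynomials of dimension `n` contains `n` nonzero
polynomials of pairwise distinct degrees. -/
lemma exists_echelon (n : ℕ) : ∀ V : Submodule k k[X], FiniteDimensional k V →
    Module.finrank k V = n → ∃ b : Fin n → k[X], (∀ i, b i ∈ V) ∧ (∀ i, b i ≠ 0) ∧
      Function.Injective fun i => natDegree (b i) := by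
  classical
  induction n with
  | zero =>
    intro V _ _
    exact ⟨Fin.elim0, fun i => i.elim0, fun i => i.elim0, fun i => i.elim0⟩
  | succ n ih =>
    intro V hfd hV
    have hex : ∃ m, ∃ v ∈ V, v ≠ 0 ∧ natDegree v = m := by
      have hpos : 0 < Module.finrank k V := by omega
      obtain ⟨v, hv⟩ := Module.finrank_pos_iff_exists_ne_zero.1 hpos
      exact ⟨_, v.1, v.2, fun h => hv (Subtype.ext h), rfl⟩
    obtain ⟨v, hvV, hv0, hvm⟩ := Nat.find_spec hex
    set m := Nat.find hex with hm
    have hmin : ∀ u ∈ V, u ≠ 0 → m ≤ natDegree u := fun u hu hu0 =>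
      Nat.find_min' hex ⟨u, hu, hu0, rfl⟩
    let f : Module.Dual k V := (lcoeff k m).comp V.subtype
    have hf : f ≠ 0 := by
      intro h
      have : f ⟨v, hvV⟩ = 0 := by rw [h]; rfl
      simp only [f, LinearMap.comp_apply, Submodule.subtype_apply, lcoeff_apply] at this
      rw [← hvm] at this
      exact hv0 (leadingCoeff_eq_zero.1 this)
    have hker := Module.Dual.finrank_ker_add_one_of_ne_zero hf
    let V' : Submodule k k[X] := (LinearMap.ker f).map V.subtype
    have hV' : Module.finrank k V' = n := by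
      rw [Submodule.finrank_map_subtype_eq]; omega
    have hV'le : V' ≤ V := by
      rintro _ ⟨u, _, rfl⟩; exact u.2
    have hfd' : FiniteDimensional k V' := Submodule.finiteDimensional_of_le hV'le
    obtain ⟨b', hb'V, hb'0, hb'inj⟩ := ih V' hfd' hV'
    have hcoef : ∀ i, coeff (b' i) m = 0 := by
      intro i
      obtain ⟨u, hu, hu'⟩ := hb'V i
      have : f u = 0 := hu
      simp only [f, LinearMap.comp_apply, Submodule.subtype_apply, lcoeff_apply] at this
      rw [← hu']; exact this
    have hdeg : ∀ i, natDegree (b' i) ≠ m := by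
      intro i h
      have := hcoef i
      rw [← h] at this
      exact hb'0 i (leadingCoeff_eq_zero.1 this)
    refine ⟨Fin.cons v b', ?_, ?_, ?_⟩
    · intro i
      refine Fin.cases ?_ (fun j => ?_) i
      · simpa using hvV
      · simpa using hV'le (hb'V j)
    · intro i
      refine Fin.cases ?_ (fun j => ?_) i
      · simpa using hv0
      · simpa using hb'0 j
    · have : (fun i => natDegree ((Fin.cons v b' : Fin (n + 1) → k[X]) i))
          = Fin.cons (natDegree v) (fun i => natDegree (b' i)) := by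
        funext i
        refine Fin.cases ?_ (fun j => ?_) i <;> simp
      rw [this, Fin.cons_injective_iff]
      refine ⟨?_, hb'inj⟩
      rintro ⟨i, hi⟩
      exact hdeg i (hi.trans hvm)

/-- The Wronskian of linearly independent polynomials is nonzero (characteristic zero). -/
lemma wr_ne_zero [CharZero k] {n : ℕ} (p : Fin n → k[X]) (hp : LinearIndependent k p) :
    wr p ≠ 0 := by
  intro hw
  set V := Submodule.span k (Set.range p) with hV
  have hfd : FiniteDimensional k V := FiniteDimensional.span_of_finite k (Set.finite_range p)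
  have hfr : Module.finrank k V = n := by
    rw [hV, finrank_span_eq_card hp, Fintype.card_fin]
  obtain ⟨b, hbV, hb0, hbinj⟩ := exists_echelon n V hfd hfr
  obtain ⟨c, hc⟩ := wr_of_mem_span p b hbV
  rw [hw, mul_zero] at hc
  exact wr_ne_zero_of_injective b hb0 hbinj hc


/-- Polynomial form of the Plücker inequality. -/
theorem poly_plucker [CharZero k] {n : ℕ} (p : Fin n → k[X]) (hp : LinearIndependent k p)
    (e : Fin n → ℕ) (he : ∀ i, natDegree (p i) ≤ e i)
    {ι : Type*} (S : Finset ι) (a : ι → k) (ha : Set.InjOn a (S : Set ι))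
    (q : ι → Fin n → k[X]) (m : ι → Fin n → ℕ)
    (hq : ∀ s ∈ S, ∀ i, (X - C (a s)) ^ m s i ∣ q s i)
    (hspan : ∀ s ∈ S, ∀ i, p i ∈ Submodule.span k (Set.range (q s))) :
    (∑ s ∈ S, ∑ i, m s i) + tri n ≤ (∑ i, e i) + S.card * tri n := by
  classical
  have hW := wr_ne_zero p hp
  have hdeg := natDegree_wr_le p e he hW
  set w : ι → ℕ := fun s => (∑ i, m s i) - tri n with hw
  have hdvd : ∀ s ∈ S, (X - C (a s)) ^ w s ∣ wr p := by
    intro s hs
    obtain ⟨c, hc⟩ := wr_of_mem_span (q s) p (hspan s hs)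
    rw [hc]
    exact Dvd.dvd.mul_left (pow_dvd_wr (q s) (a s) (m s) (hq s hs)) _
  have hcop : (S : Set ι).Pairwise (Function.onFun IsCoprime fun s => (X - C (a s)) ^ w s) := by
    intro s hs t ht hst
    have hne : a s ≠ a t := fun h => hst (ha hs ht h)
    exact (isCoprime_X_sub_C_of_isUnit_sub (sub_ne_zero_of_ne hne).isUnit).pow
  have hprod := Finset.prod_dvd_of_coprime hcop hdvd
  have h1 : natDegree (∏ s ∈ S, (X - C (a s)) ^ w s) = ∑ s ∈ S, w s := by
    rw [natDegree_prod_of_monic _ _ fun s _ => (monic_X_sub_C (a s)).pow (w s)]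
    refine Finset.sum_congr rfl fun s _ => ?_
    rw [(monic_X_sub_C (a s)).natDegree_pow, natDegree_X_sub_C, mul_one]
  have h2 : ∑ s ∈ S, w s ≤ natDegree (wr p) := by
    rw [← h1]; exact natDegree_le_of_dvd hprod hW
  have h3 : ∑ s ∈ S, ∑ i, m s i ≤ ∑ s ∈ S, (w s + tri n) :=
    Finset.sum_le_sum fun s _ => by simp only [hw]; omega
  rw [Finset.sum_add_distrib, Finset.sum_const, smul_eq_mul] at h3
  omega

end Groth.Agent.Lib.helper10.Wr
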