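import Groth.Agent.Lib.Helper10.FunFld22
import Groth.Agent.Lib.Helper10.Wronski
import Groth.Agent.Lib.Helper10.Filt

/-!
Function fields of one variable (helper10), part 23: the Plücker inequality in genus zero.
-/

set_option autoImplicit false
set_option linter.unusedSectionVars false
set_option linter.style.haveILetI false

universe u v w

open IntermediateField FunFld Polynomial

namespace Groth.Agent.Lib.helper10

namespace FF

open RD

variable {k : Type u} {K : Type v} [Field k] [Field K] [Algebra k K]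

/-- Over an algebraically closed constant field, every element of the valuation ring of a place
is congruent to a constant. -/
theorem Place.exists_const_sub_lt (hK : IsFunctionField k K) [IsAlgClosed k] (P : Place k K)
    {z : K} (hz : P.1 z ≤ 1) : ∃ a : k, P.1 (z - algebraMap k K a) < 1 := by
  have hdeg := Place.deg_eq_one hK P
  unfold Place.deg at hdeg
  have h1 := (finrank_eq_one_iff_of_nonzero' (1 : IsLocalRing.ResidueField P.O) one_ne_zero).1 hdeg
  obtain ⟨c, hc⟩ := h1 (IsLocalRing.residue P.O ⟨z, hz⟩)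
  refine ⟨c, ?_⟩
  have h2 : IsLocalRing.residue P.O (⟨z, hz⟩ - algebraMap k P.O c) = 0 := by
    rw [map_sub, ← hc, sub_eq_zero]
    refine (Algebra.smul_def c (1 : IsLocalRing.ResidueField P.O)).trans ?_
    rw [mul_one]
    rfl
  rw [Place.residue_eq_zero_iff] at h2
  exact h2

/-- A coordinate with a simple pole at a given place on a curve of genus zero. -/
theorem exists_coord (hK : IsFunctionField k K) (hg : genus k K = 0) {P : Place k K}
    (hP : P.deg = 1) :
    ∃ x : K, P.ord x = -1 ∧ ∀ Q : Place k K, Q ≠ P → 0 ≤ Q.ord x := by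
  have hdeg : Divisor.deg (Finsupp.single P 1 : Divisor k K) = 1 := by
    rw [deg_single, hP]
    rfl
  have h1 := ell_of_deg_ge hK (D := (Finsupp.single P 1 : Divisor k K)) (by
    rw [hdeg, hg]
    norm_num)
  rw [hdeg, hg] at h1
  have h2 : ell (Finsupp.single P 1 : Divisor k K) = 2 := by
    have : (ell (Finsupp.single P 1 : Divisor k K) : ℤ) = 2 := by
      rw [h1]
      norm_num
    exact_mod_cast this
  have hex : ∃ x : K, x ∈ L (Finsupp.single P 1 : Divisor k K) ∧
      x ∉ Set.range (algebraMap k K) := by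
    by_contra hno
    push Not at hno
    have hle : L (Finsupp.single P 1 : Divisor k K) ≤ L (0 : Divisor k K) := by
      intro x hx
      obtain ⟨c, rfl⟩ := hno x hx
      rw [L_zero hK, Submodule.one_eq_range]
      exact ⟨c, rfl⟩
    haveI := (finite_L_zero hK).1
    have := Submodule.finrank_mono hle
    rw [(finite_L_zero hK).2] at this
    unfold ell at h2
    omega
  obtain ⟨x, hxL, hxk⟩ := hex
  have hx := transcendental_of_not_mem_range hK hxk
  have hx0 : x ≠ 0 := by
    rintro rfl
    exact hxk ⟨0, map_zero _⟩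
  have hle : polesDiv k x ≤ Finsupp.single P 1 := by
    intro Q
    rw [polesDiv_apply hK]
    have h3 := hxL Q
    rw [Place.val_eq_exp_neg_ord Q hx0, WithZero.exp_le_exp] at h3
    have h4 : (0 : ℤ) ≤ (Finsupp.single P 1 : Divisor k K) Q := single_nonneg' P zero_le_one Q
    exact max_le h3 h4
  have h6 : (1 : ℤ) ≤ (polesDiv k x).deg := by
    rw [deg_polesDiv hK hx]
    haveI : FiniteDimensional k⟮x⟯ K := finiteDimensional_adjoin hK hx
    have : 0 < Module.finrank k⟮x⟯ K := Module.finrank_pos
    exact_mod_cast this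
  have h5 := deg_mono hle
  rw [hdeg] at h5
  have h7 : Finsupp.single P 1 - polesDiv k x = 0 := by
    apply eq_zero_of_nonneg_of_deg_eq_zero hK (sub_nonneg.mpr hle)
    rw [deg_sub, hdeg]
    omega
  have h8 : polesDiv k x = Finsupp.single P 1 := (sub_eq_zero.mp h7).symm
  exact ⟨x, (polesDiv_eq_single_iff hK x P).1 h8⟩


/-- Value of a polynomial in `x` at a simple pole of `x`. -/
theorem val_aeval_pole (P : Place k K) {x : K} (hx : P.ord x = -1) {p : k[X]} (hp : p ≠ 0) :
    P.1 (aeval x p) = WithZero.exp ((natDegree p : ℕ) : ℤ) := by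
  have hx0 : x ≠ 0 := by
    rintro rfl
    rw [Place.ord_zero] at hx
    omega
  have hvx : P.1 x = WithZero.exp (1 : ℤ) := by
    rw [Place.val_eq_exp_neg_ord P hx0, hx]
    rfl
  haveI : Invertible x := invertibleOfNonzero hx0
  have h1 := eval₂_reverse_mul_pow (algebraMap k K) x p
  have hinv : P.1 (⅟x) < 1 := by
    rw [invOf_eq_inv, map_inv₀, hvx, ← WithZero.exp_neg, ← WithZero.exp_zero, WithZero.exp_lt_exp]
    norm_num
  have h2 : P.1 (aeval (⅟x) (reverse p)) = 1 := by
    apply TrivOn.aeval_eq_one (Place.trivOn P) hinv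
    rw [coeff_zero_reverse]
    exact leadingCoeff_ne_zero.mpr hp
  rw [aeval_def, ← h1, map_mul, map_pow, hvx, ← aeval_def, h2, one_mul, ← WithZero.exp_nsmul]
  simp

/-- Value of a polynomial in `x` at a simple zero of `x - a`. -/
theorem dvd_of_val_aeval_le (Q : Place k K) {x : K} {a : k}
    (hxa : Q.1 (x - algebraMap k K a) = WithZero.exp (-1 : ℤ)) {p : k[X]} {n : ℕ}
    (h : Q.1 (aeval x p) ≤ WithZero.exp (-(n : ℤ))) : (X - C a) ^ n ∣ p := by
  by_cases hp : p = 0
  · rw [hp]; exact dvd_zero _
  obtain ⟨q, hq, hnd⟩ := exists_eq_pow_rootMultiplicity_mul_and_not_dvd p hp a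
  set m := p.rootMultiplicity a with hm
  have hlt : Q.1 (x - algebraMap k K a) < 1 := by
    rw [hxa, ← WithZero.exp_zero, WithZero.exp_lt_exp]
    norm_num
  have hqa : q.eval a ≠ 0 := by
    intro h0
    exact hnd (dvd_iff_isRoot.mpr h0)
  have h1 : aeval x q = aeval (x - algebraMap k K a) (q.comp (X + C a)) := by
    rw [aeval_comp]
    simp
  have h2 : Q.1 (aeval x q) = 1 := by
    rw [h1]
    apply TrivOn.aeval_eq_one (Place.trivOn Q) hlt
    rw [coeff_zero_eq_eval_zero, eval_comp]
    simpa using hqa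
  have h3 : Q.1 (aeval x p) = WithZero.exp (-(m : ℤ)) := by
    conv_lhs => rw [hq]
    rw [map_mul, map_pow, map_sub, aeval_X, aeval_C, map_mul, map_pow, hxa, h2, mul_one,
      ← WithZero.exp_nsmul]
    simp
  rw [h3, WithZero.exp_le_exp] at h
  have hnm : n ≤ m := by omega
  rw [hq]
  exact Dvd.dvd.mul_right (pow_dvd_pow _ hnm) _


/-- For a coordinate `x` with a single simple pole, `x - a` has a single simple zero. -/
theorem zero_unique (hK : IsFunctionField k K) {P : Place k K} (hP : P.deg = 1) {x : K}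
    (hx1 : P.ord x = -1) (hx2 : ∀ Q : Place k K, Q ≠ P → 0 ≤ Q.ord x) (a : k) :
    ∃ P' : Place k K, ∀ Q : Place k K, Q.1 (x - algebraMap k K a) < 1 →
      Q = P' ∧ Q.1 (x - algebraMap k K a) = WithZero.exp (-1 : ℤ) := by
  classical
  have hx0 : x ≠ 0 := by
    rintro rfl
    rw [Place.ord_zero] at hx1
    omega
  have hvx : P.1 x = WithZero.exp (1 : ℤ) := by
    rw [Place.val_eq_exp_neg_ord P hx0, hx1]
    rfl
  set y := x - algebraMap k K a with hy
  have hvy : P.1 y = WithZero.exp (1 : ℤ) := by
    rw [hy, Valuation.map_sub_eq_of_lt_left, hvx]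
    rw [hvx]
    refine lt_of_le_of_lt (P.2.1 a) ?_
    rw [← WithZero.exp_zero, WithZero.exp_lt_exp]
    norm_num
  have hy0 : y ≠ 0 := by
    intro h
    rw [h, Valuation.map_zero] at hvy
    exact WithZero.exp_ne_zero hvy.symm
  have hy1 : P.ord y = -1 := by
    unfold Place.ord
    rw [hvy, WithZero.log_exp]
  have hy2 : ∀ Q : Place k K, Q ≠ P → 0 ≤ Q.ord y := by
    intro Q hQ
    rw [Place.ord_nonneg_iff Q hy0]
    apply Valuation.map_sub_le
    · exact (Place.ord_nonneg_iff Q hx0).1 (hx2 Q hQ)
    · exact Q.2.1 a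
  have htop := adjoin_eq_top_of_simple_pole hK hP hy1 hy2
  rw [← adjoin_inv] at htop
  obtain ⟨P', -, hP'⟩ := polesDiv_of_adjoin_eq_top hK htop
  rw [polesDiv_inv hK] at hP'
  refine ⟨P', fun Q hQ => ?_⟩
  have hpos : 0 < Q.ord y := (Place.ord_pos_iff Q hy0).2 hQ
  have h1 : zerosDiv k y Q = Q.ord y := by
    rw [zerosDiv_apply hK]
    exact max_eq_left hpos.le
  rw [hP'] at h1
  by_cases hQP : P' = Q
  · subst hQP
    rw [Finsupp.single_eq_same] at h1
    refine ⟨rfl, ?_⟩
    rw [Place.val_eq_exp_neg_ord _ hy0, ← h1]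
  · rw [Finsupp.single_eq_of_ne (Ne.symm hQP)] at h1
    omega


theorem coord_transcendental (hK : IsFunctionField k K) {P : Place k K} (hP : P.deg = 1) {x : K}
    (hx1 : P.ord x = -1) (hx2 : ∀ Q : Place k K, Q ≠ P → 0 ≤ Q.ord x) : Transcendental k x :=
  transcendental_of_adjoin_eq_top hK (adjoin_eq_top_of_simple_pole hK hP hx1 hx2)

/-- In genus zero, `L(d P)` consists of polynomials in the coordinate `x`. -/
theorem mem_range_aeval (hK : IsFunctionField k K) (hg : genus k K = 0) {P : Place k K}
    (hP : P.deg = 1) {x : K} (hx1 : P.ord x = -1) (hx2 : ∀ Q : Place k K, Q ≠ P → 0 ≤ Q.ord x)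
    (d : ℕ) {u : K} (hu : u ∈ L (Finsupp.single P (d : ℤ) : Divisor k K)) :
    ∃ p : k[X], aeval x p = u := by
  classical
  have hx0 : x ≠ 0 := by
    rintro rfl
    rw [Place.ord_zero] at hx1
    omega
  have htr := coord_transcendental hK hP hx1 hx2
  set lin : k[X] →ₗ[k] K := (aeval x : k[X] →ₐ[k] K).toLinearMap with hlin
  have hinj : Function.Injective lin := transcendental_iff_injective.mp htr
  set M := (degreeLT k (d + 1)).map lin with hM
  have hle : M ≤ L (Finsupp.single P (d : ℤ) : Divisor k K) := by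
    rintro _ ⟨p, hp, rfl⟩
    intro Q
    change Q.1 (aeval x p) ≤ _
    by_cases hQ : Q = P
    · subst hQ
      rw [Finsupp.single_eq_same]
      by_cases hp0 : p = 0
      · rw [hp0, map_zero, Valuation.map_zero]; exact zero_le
      rw [val_aeval_pole Q hx1 hp0, WithZero.exp_le_exp]
      have h1 : degree p < ((d + 1 : ℕ) : WithBot ℕ) := mem_degreeLT.1 hp
      have h2 := (natDegree_lt_iff_degree_lt hp0).2 h1
      have : natDegree p ≤ d := by omega
      exact_mod_cast this
    · rw [Finsupp.single_eq_of_ne hQ, WithZero.exp_zero]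
      apply TrivOn.aeval_le_one (Place.trivOn Q)
      exact (Place.ord_nonneg_iff Q hx0).1 (hx2 Q hQ)
  have hfr : Module.finrank k M = d + 1 := by
    rw [hM, ← (Submodule.equivMapOfInjective lin hinj (degreeLT k (d + 1))).finrank_eq,
      (degreeLTEquiv k (d + 1)).finrank_eq, Module.finrank_fin_fun]
  have hdeg : Divisor.deg (Finsupp.single P (d : ℤ) : Divisor k K) = d := by
    rw [deg_single, hP]
    simp
  have hell := ell_of_deg_ge hK (D := (Finsupp.single P (d : ℤ) : Divisor k K)) (by
    rw [hdeg, hg]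
    have : (0 : ℤ) ≤ d := Int.natCast_nonneg d
    push_cast
    linarith)
  rw [hdeg, hg] at hell
  have hell' : ell (Finsupp.single P (d : ℤ) : Divisor k K) = d + 1 := by
    have : (ell (Finsupp.single P (d : ℤ) : Divisor k K) : ℤ) = ((d + 1 : ℕ) : ℤ) := by
      rw [hell]
      push_cast
      ring
    exact_mod_cast this
  haveI := finiteDimensional_L hK (Finsupp.single P (d : ℤ) : Divisor k K)
  have heq : M = L (Finsupp.single P (d : ℤ) : Divisor k K) :=
    Submodule.eq_of_le_of_finrank_eq hle (by rw [hfr]; exact hell'.symm)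
  rw [← heq] at hu
  obtain ⟨p, -, hp⟩ := hu
  exact ⟨p, hp⟩


theorem finrank_comap_subtype (V W : Submodule k K) :
    Module.finrank k ↥(W.comap V.subtype) = Module.finrank k ↥(V ⊓ W) := by
  have h1 : W.comap V.subtype = (V ⊓ W).comap V.subtype := by
    ext ⟨v, hv⟩
    simp
  rw [h1]
  exact (Submodule.comapSubtypeEquivOfLe (inf_le_left : V ⊓ W ≤ V)).finrank_eq

/-- A basis of `V` adapted to the vanishing filtration at `P`. -/
theorem exists_adapted_basis (hK : IsFunctionField k K) {d r : ℕ} {D : Divisor k K}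
    {V : Submodule k K} (hV : V ≤ L D) (hVr : Module.finrank k ↥V = r + 1) (P : Place k K) :
    ∃ (b : Fin (r + 1) → K) (m : Fin (r + 1) → ℕ), LinearIndependent k b ∧
      Submodule.span k (Set.range b) = V ∧
      (∀ i, b i ∈ L (D - Finsupp.single P ((m i : ℕ) : ℤ))) ∧ (∀ i, m i ≤ d) ∧
      ∑ i, m i = SS V D P d := by
  classical
  haveI : FiniteDimensional k V := Module.finite_of_finrank_pos (by omega)
  set F : ℕ → Submodule k ↥V := fun j =>
    (L (D - Finsupp.single P ((j : ℕ) : ℤ))).comap V.subtype with hF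
  have hanti : Antitone F := by
    intro a b hab
    apply Submodule.comap_mono
    apply L_mono
    apply sub_le_sub_left
    intro Q
    by_cases hQ : Q = P
    · subst hQ
      simpa using hab
    · simp [Ne.symm hQ]
  have h0 : F 0 = ⊤ := by
    rw [eq_top_iff]
    rintro ⟨v, hv⟩ -
    simp only [hF, Submodule.mem_comap, Submodule.subtype_apply]
    simpa using hV hv
  obtain ⟨b, m, hli, hspan, hmem, hle, hsum⟩ := Filt.exists_adapted d (r + 1) F hanti h0 hVr
  refine ⟨fun i => (b i : K), m, ?_, ?_, ?_, hle, ?_⟩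
  · exact hli.map' V.subtype (Submodule.ker_subtype V)
  · have : Set.range (fun i => (b i : K)) = V.subtype '' Set.range b := by
      rw [← Set.range_comp]
      rfl
    rw [this, ← Submodule.map_span, hspan, Submodule.map_subtype_top]
  · intro i
    exact hmem i
  · rw [hsum]
    unfold SS aDim
    refine Finset.sum_congr rfl fun j _ => ?_
    change Module.finrank k ↥((L (D - Finsupp.single P (((j + 1 : ℕ)) : ℤ))).comap V.subtype) = _
    rw [finrank_comap_subtype]
    push_cast
    rfl


/-- Plücker inequality in genus zero, for a finite set of places containing a chosen one. -/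
theorem plucker_of_mem (hK : IsFunctionField k K) [IsAlgClosed k] [CharZero k]
    (hg : genus k K = 0) {d r : ℕ} {D : Divisor k K} (hD : D.deg = d)
    {V : Submodule k K} (hV : V ≤ L D) (hVr : Module.finrank k ↥V = r + 1)
    (S : Finset (Place k K)) {Pi : Place k K} (hPi : Pi ∈ S) :
    ∑ P ∈ S, SS V D P d + r * (r + 1) ≤ (r + 1) * d + S.card * (r * (r + 1) / 2) := by
  classical
  have hP := Place.deg_eq_one hK Pi
  obtain ⟨x, hx1, hx2⟩ := exists_coord hK hg hP
  have hx0 : x ≠ 0 := by
    rintro rfl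
    rw [Place.ord_zero] at hx1
    omega
  have htr := coord_transcendental hK hP hx1 hx2
  set lin : k[X] →ₗ[k] K := (aeval x : k[X] →ₐ[k] K).toLinearMap with hlin
  have hinj : Function.Injective lin := transcendental_iff_injective.mp htr
  -- the twist
  set E : Divisor k K := Finsupp.single Pi (d : ℤ) - D with hE
  have hEdeg : E.deg = 0 := by
    rw [hE, deg_sub, deg_single, hP, hD]
    simp
  have hellE : 0 < ell E := by
    have h1 := ell_of_deg_ge hK (D := E) (by rw [hEdeg, hg]; norm_num)
    rw [hEdeg, hg] at h1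
    have : (0 : ℤ) < ell E := by rw [h1]; norm_num
    exact_mod_cast this
  obtain ⟨h, hh0, hhE⟩ := exists_ne_zero_mem_L hK hellE
  rw [mem_L_iff_div hK hh0] at hhE
  have hdivh0 : E + FunFld.div k h = 0 :=
    eq_zero_of_nonneg_of_deg_eq_zero hK hhE (by rw [deg_add_div hK, hEdeg])
  have hdivh : FunFld.div k h = D - Finsupp.single Pi (d : ℤ) := by
    have := eq_neg_of_add_eq_zero_right hdivh0
    rw [this, hE]
    abel
  have htrans : ∀ (P : Place k K) (n : ℤ) (z : K), z ∈ L (D - Finsupp.single P n) →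
      z * h ∈ L (Finsupp.single Pi (d : ℤ) - Finsupp.single P n) := by
    intro P n z hz
    have e : D - Finsupp.single P n =
        (Finsupp.single Pi (d : ℤ) - Finsupp.single P n) + FunFld.div k h := by
      rw [hdivh]
      abel
    rw [e] at hz
    exact (mem_L_add_div_iff hK _ hh0 z).1 hz
  -- polynomial lifts
  have hlift : ∀ z : K, z ∈ V → ∃ p : k[X], lin p = z * h := by
    intro z hz
    have h1 := htrans Pi 0 z (by simpa using hV hz)
    rw [Finsupp.single_zero, sub_zero] at h1
    exact mem_range_aeval hK hg hP hx1 hx2 d h1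
  -- centres
  have hctr : ∀ P : Place k K, ∃ a : k, P ≠ Pi → P.1 (x - algebraMap k K a) < 1 := by
    intro P
    by_cases hPP : P = Pi
    · exact ⟨0, fun h => absurd hPP h⟩
    · obtain ⟨a, ha⟩ := Place.exists_const_sub_lt hK P
        ((Place.ord_nonneg_iff P hx0).1 (hx2 P hPP))
      exact ⟨a, fun _ => ha⟩
  choose ctr hctr using hctr
  -- adapted bases
  have hbas := fun P : Place k K => exists_adapted_basis hK (d := d) hV hVr P
  choose b m hbli hbspan hbmem hmle hmsum using hbas
  have hbV : ∀ P i, b P i ∈ V := by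
    intro P i
    rw [← hbspan P]
    exact Submodule.subset_span ⟨i, rfl⟩
  have hpb := fun (P : Place k K) (i : Fin (r + 1)) => hlift (b P i) (hbV P i)
  choose pb hpb using hpb
  -- independence of the reference family
  have hmulinj : LinearMap.ker (LinearMap.mulRight k h) = ⊥ :=
    LinearMap.ker_eq_bot.2 (mul_left_injective₀ hh0)
  have hpli : LinearIndependent k (pb Pi) := by
    apply LinearIndependent.of_comp lin
    have : lin ∘ pb Pi = fun i => (LinearMap.mulRight k h) (b Pi i) := by
      funext i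
      simp only [Function.comp_apply, hpb, LinearMap.mulRight_apply]
    rw [this]
    exact (hbli Pi).map' _ hmulinj
  -- degree bounds
  have hdegb : ∀ i, natDegree (pb Pi i) ≤ d - m Pi i := by
    intro i
    by_cases hp0 : pb Pi i = 0
    · rw [hp0, natDegree_zero]; exact Nat.zero_le _
    have h1 := htrans Pi _ _ (hbmem Pi i) Pi
    rw [← hpb, Finsupp.sub_apply, Finsupp.single_eq_same, Finsupp.single_eq_same] at h1
    change Pi.1 (aeval x (pb Pi i)) ≤ _ at h1
    rw [val_aeval_pole Pi hx1 hp0, WithZero.exp_le_exp] at h1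
    omega
  -- divisibility
  have hdvd : ∀ P ∈ S.erase Pi, ∀ i, (X - C (ctr P)) ^ m P i ∣ pb P i := by
    intro P hPS i
    have hne : P ≠ Pi := Finset.ne_of_mem_erase hPS
    obtain ⟨P', hP'⟩ := zero_unique hK hP hx1 hx2 (ctr P)
    have hval := (hP' P (hctr P hne)).2
    apply dvd_of_val_aeval_le P hval
    have h1 := htrans P _ _ (hbmem P i) P
    rw [← hpb, Finsupp.sub_apply, Finsupp.single_eq_same, Finsupp.single_eq_of_ne hne,
      zero_sub] at h1
    exact h1
  -- injectivity of centres
  have hinjS : Set.InjOn ctr (↑(S.erase Pi) : Set (Place k K)) := by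
    intro P hPS Q hQS hPQ
    have hPne : P ≠ Pi := Finset.ne_of_mem_erase hPS
    have hQne : Q ≠ Pi := Finset.ne_of_mem_erase hQS
    obtain ⟨P', hP'⟩ := zero_unique hK hP hx1 hx2 (ctr P)
    have h1 := (hP' P (hctr P hPne)).1
    have h2 := (hP' Q (by rw [hPQ]; exact hctr Q hQne)).1
    rw [h1, h2]
  -- span condition
  have hspan : ∀ P ∈ S.erase Pi, ∀ i, pb Pi i ∈ Submodule.span k (Set.range (pb P)) := by
    intro P _ i
    have h1 : b Pi i ∈ Submodule.span k (Set.range (b P)) := by
      rw [hbspan P]; exact hbV Pi i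
    obtain ⟨c, hc⟩ := (Submodule.mem_span_range_iff_exists_fun k).1 h1
    have h2 : lin (pb Pi i) = lin (∑ j, c j • pb P j) := by
      rw [hpb, map_sum, ← hc, Finset.sum_mul]
      refine Finset.sum_congr rfl fun j _ => ?_
      rw [map_smul, hpb, smul_mul_assoc]
    rw [hinj h2]
    exact Submodule.sum_mem _ fun j _ =>
      Submodule.smul_mem _ _ (Submodule.subset_span ⟨j, rfl⟩)
  have key := Wr.poly_plucker (pb Pi) hpli (fun i => d - m Pi i) hdegb (S.erase Pi) ctr hinjS pb m
    hdvd hspan
  -- arithmetic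
  have hsumS : ∑ P ∈ S, SS V D P d = SS V D Pi d + ∑ P ∈ S.erase Pi, SS V D P d :=
    (Finset.add_sum_erase S (fun P => SS V D P d) hPi).symm
  have hsum1 : ∑ P ∈ S.erase Pi, ∑ i, m P i = ∑ P ∈ S.erase Pi, SS V D P d :=
    Finset.sum_congr rfl fun P _ => hmsum P
  have hsum2 : ∑ i, (d - m Pi i) + SS V D Pi d = (r + 1) * d := by
    rw [← hmsum Pi, ← Finset.sum_add_distrib]
    rw [Finset.sum_congr rfl (fun i _ => Nat.sub_add_cancel (hmle Pi i))]
    simp
  have hcard : (S.erase Pi).card + 1 = S.card := Finset.card_erase_add_one hPi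
  have htri : 2 * Wr.tri (r + 1) = r * (r + 1) := by
    rw [Wr.tri_eq]
    have : (r + 1) * (r + 1 - 1) / 2 = r * (r + 1) / 2 := by
      rw [Nat.add_sub_cancel, mul_comm]
    rw [this]
    exact Nat.mul_div_cancel' (even_iff_two_dvd.mp (Nat.even_mul_succ_self r))
  have htri2 : r * (r + 1) / 2 = Wr.tri (r + 1) := by omega
  rw [hsum1] at key
  have e1 : ((S.erase Pi).card + 1) * Wr.tri (r + 1) =
      (S.erase Pi).card * Wr.tri (r + 1) + Wr.tri (r + 1) := by ring
  rw [hsumS, htri2, ← hcard, ← htri, e1]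
  omega

end FF

end Groth.Agent.Lib.helper10
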