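import Mathlib
import Groth.Prelude.Def_LocRes

/-!
Expansions at a discrete valuation with a coefficient field (helper10).

Let `v` be a valuation of a field `K` onto `ℤ ∪ {0}`, `k ⊆ K` a subfield mapping onto the residue
field, and `t` a uniformizer. We construct the `k`-algebra embedding `K → k((X))` with `t ↦ X`
carrying `v` to the `X`-adic valuation (`exists_expansion`).
-/

set_option autoImplicit false
set_option linter.unusedSectionVars false
set_option linter.unusedVariables false
set_option linter.style.haveILetI false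

universe u v

open WithZero

namespace Groth.Agent.Lib.helper10

namespace HasseExp

variable {k : Type u} {K : Type v} [Field k] [Field K] [Algebra k K]

/-- The data: valuation, trivial on `k`, `k` onto the residue field, uniformizer. -/
structure Data (k : Type u) (K : Type v) [Field k] [Field K] [Algebra k K] where
  v : Valuation K (WithZero (Multiplicative ℤ))
  hk : ∀ c : k, v (algebraMap k K c) ≤ 1
  hres : ∀ z : K, v z ≤ 1 → ∃ a : k, v (z - algebraMap k K a) < 1
  t : K
  ht : v t = exp (-1 : ℤ)

variable (d : Data k K)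

theorem Data.val_algebraMap {c : k} (hc : c ≠ 0) : d.v (algebraMap k K c) = 1 := by
  apply le_antisymm (d.hk c)
  have h1 := d.hk c⁻¹
  rw [map_inv₀, map_inv₀] at h1
  have h0 : d.v (algebraMap k K c) ≠ 0 := by
    rw [Ne, map_eq_zero, map_eq_zero_iff _ (algebraMap k K).injective]
    exact hc
  have := (inv_le_one₀ (zero_lt_iff.mpr h0)).mp h1
  exact this

theorem Data.t_ne_zero : d.t ≠ 0 := by
  intro h
  have := d.ht
  rw [h, map_zero] at this
  exact (exp_ne_zero).symm this

theorem Data.val_t_pow (n : ℕ) : d.v (d.t ^ n) = exp (-(n : ℤ)) := by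
  rw [map_pow, d.ht, ← exp_nsmul]
  congr 1
  simp

theorem lt_one_iff_le_exp {x : WithZero (Multiplicative ℤ)} : x < 1 ↔ x ≤ exp (-1 : ℤ) := by
  rcases eq_or_ne x 0 with rfl | hx
  · simp
  · obtain ⟨n, rfl⟩ : ∃ n : ℤ, x = exp n := ⟨log x, (exp_log hx).symm⟩
    rw [← exp_zero, exp_lt_exp, exp_le_exp]
    omega

/-- The valuation ring. -/
abbrev Data.O : ValuationSubring K := d.v.valuationSubring

theorem Data.mem_O (z : K) : z ∈ d.O ↔ d.v z ≤ 1 := Iff.rfl

/-- The residue constant. -/
noncomputable def Data.r (z : d.O) : k := Classical.choose (d.hres z z.2)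

theorem Data.r_spec (z : d.O) : d.v ((z : K) - algebraMap k K (d.r z)) < 1 :=
  Classical.choose_spec (d.hres z z.2)

theorem Data.r_unique (z : d.O) (c : k) (hc : d.v ((z : K) - algebraMap k K c) < 1) :
    c = d.r z := by
  by_contra hne
  have h1 : d.v (algebraMap k K (c - d.r z)) < 1 := by
    have e : algebraMap k K (c - d.r z)
        = ((z : K) - algebraMap k K (d.r z)) - ((z : K) - algebraMap k K c) := by
      rw [map_sub]; ring
    rw [e]
    exact lt_of_le_of_lt (Valuation.map_sub _ _ _) (max_lt (d.r_spec z) hc)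
  rw [d.val_algebraMap (sub_ne_zero.mpr hne)] at h1
  exact lt_irrefl _ h1

/-- The next term `(z - r z) / t`. -/
noncomputable def Data.nxt (z : d.O) : d.O :=
  ⟨((z : K) - algebraMap k K (d.r z)) / d.t, by
    rw [d.mem_O, map_div₀, d.ht]
    have := lt_one_iff_le_exp.mp (d.r_spec z)
    exact div_le_one_of_le₀ this zero_le⟩

theorem Data.eq_r_add (z : d.O) : (z : K) = algebraMap k K (d.r z) + d.t * (d.nxt z : K) := by
  change (z : K) = _ + d.t * (((z : K) - algebraMap k K (d.r z)) / d.t)
  rw [mul_div_cancel₀ _ d.t_ne_zero]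
  ring

/-- The coefficients of the expansion. -/
noncomputable def Data.a (z : d.O) (n : ℕ) : k := d.r (d.nxt^[n] z)

/-- Evaluation at `t` of the truncation of a power series. -/
noncomputable def Data.S (f : PowerSeries k) (n : ℕ) : K :=
  ∑ j ∈ Finset.range n, algebraMap k K (PowerSeries.coeff j f) * d.t ^ j

theorem Data.S_succ (f : PowerSeries k) (n : ℕ) :
    d.S f (n + 1) = d.S f n + algebraMap k K (PowerSeries.coeff n f) * d.t ^ n := by
  unfold Data.S
  rw [Finset.sum_range_succ]

theorem Data.expand (z : d.O) (n : ℕ) :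
    (z : K) = d.S (PowerSeries.mk (d.a z)) n + d.t ^ n * (d.nxt^[n] z : K) := by
  induction n with
  | zero => simp [Data.S]
  | succ n ih =>
    rw [d.S_succ, PowerSeries.coeff_mk, Function.iterate_succ_apply']
    conv_lhs => rw [ih, d.eq_r_add (d.nxt^[n] z)]
    unfold Data.a
    ring

/-- `f` approximates `z`. -/
def Data.App (z : K) (f : PowerSeries k) : Prop :=
  ∀ n : ℕ, d.v (z - d.S f n) ≤ exp (-(n : ℤ))

theorem Data.app_mk (z : d.O) : d.App (z : K) (PowerSeries.mk (d.a z)) := by
  intro n
  have := d.expand z n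
  have e : (z : K) - d.S (PowerSeries.mk (d.a z)) n = d.t ^ n * (d.nxt^[n] z : K) := by
    rw [sub_eq_iff_eq_add']; exact this
  rw [e, map_mul, d.val_t_pow]
  calc _ ≤ exp (-(n : ℤ)) * 1 := mul_le_mul' le_rfl (d.nxt^[n] z).2
    _ = _ := mul_one _

theorem Data.val_term_le (c : k) (j : ℕ) : d.v (algebraMap k K c * d.t ^ j) ≤ exp (-(j : ℤ)) := by
  rw [map_mul, d.val_t_pow]
  calc _ ≤ 1 * exp (-(j : ℤ)) := mul_le_mul' (d.hk c) le_rfl
    _ = _ := one_mul _

theorem Data.val_S_le_one (f : PowerSeries k) (n : ℕ) : d.v (d.S f n) ≤ 1 := by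
  unfold Data.S
  apply Valuation.map_sum_le
  intro j _
  refine le_trans (d.val_term_le _ j) ?_
  rw [← exp_zero, exp_le_exp]
  omega

/-- A polynomial in `t` of degree `< n` with small valuation vanishes. -/
theorem Data.coeff_eq_zero_of_val_S_le (f : PowerSeries k) (n : ℕ)
    (h : d.v (d.S f n) ≤ exp (-(n : ℤ))) : ∀ j < n, PowerSeries.coeff j f = 0 := by
  intro j
  induction j using Nat.strong_induction_on with
  | _ j ih =>
    intro hj
    by_contra hne
    -- S f n = (terms < j, zero) + c_j t^j + (terms > j)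
    have hsplit : d.S f n = algebraMap k K (PowerSeries.coeff j f) * d.t ^ j +
        ∑ i ∈ (Finset.range n).filter (fun i => j < i),
          algebraMap k K (PowerSeries.coeff i f) * d.t ^ i := by
      unfold Data.S
      rw [← Finset.sum_filter_add_sum_filter_not (Finset.range n) (fun i => j < i), add_comm]
      congr 1
      rw [Finset.sum_eq_single j]
      · intro i hi hij
        rw [Finset.mem_filter, Finset.mem_range] at hi
        have : i < j := by omega
        rw [ih i this (by omega), map_zero, zero_mul]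
      · intro hj'
        exfalso
        apply hj'
        rw [Finset.mem_filter, Finset.mem_range]
        exact ⟨hj, lt_irrefl _⟩
    have h1 : d.v (∑ i ∈ (Finset.range n).filter (fun i => j < i),
        algebraMap k K (PowerSeries.coeff i f) * d.t ^ i) ≤ exp (-((j + 1 : ℕ) : ℤ)) := by
      apply Valuation.map_sum_le
      intro i hi
      rw [Finset.mem_filter] at hi
      refine le_trans (d.val_term_le _ i) ?_
      rw [exp_le_exp]
      have := hi.2
      omega
    have h2 : d.v (algebraMap k K (PowerSeries.coeff j f) * d.t ^ j) = exp (-(j : ℤ)) := by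
      rw [map_mul, d.val_algebraMap hne, one_mul, d.val_t_pow]
    have h3 : d.v (algebraMap k K (PowerSeries.coeff j f) * d.t ^ j) ≤ exp (-((j + 1 : ℕ) : ℤ)) := by
      have e : algebraMap k K (PowerSeries.coeff j f) * d.t ^ j = d.S f n -
          ∑ i ∈ (Finset.range n).filter (fun i => j < i),
            algebraMap k K (PowerSeries.coeff i f) * d.t ^ i := by
        rw [hsplit]; ring
      rw [e]
      refine le_trans (Valuation.map_sub _ _ _) (max_le (le_trans h ?_) h1)
      rw [exp_le_exp]
      push_cast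
      omega
    rw [h2, exp_le_exp] at h3
    push_cast at h3
    omega

theorem Data.S_sub (f g : PowerSeries k) (n : ℕ) : d.S (f - g) n = d.S f n - d.S g n := by
  unfold Data.S
  rw [← Finset.sum_sub_distrib]
  refine Finset.sum_congr rfl fun j _ => ?_
  rw [map_sub, map_sub, sub_mul]

theorem Data.S_add (f g : PowerSeries k) (n : ℕ) : d.S (f + g) n = d.S f n + d.S g n := by
  unfold Data.S
  rw [← Finset.sum_add_distrib]
  refine Finset.sum_congr rfl fun j _ => ?_
  rw [map_add, map_add, add_mul]

theorem Data.app_unique {z : K} {f g : PowerSeries k} (hf : d.App z f) (hg : d.App z g) :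
    f = g := by
  rw [← sub_eq_zero]
  ext j
  rw [map_zero]
  apply d.coeff_eq_zero_of_val_S_le (f - g) (j + 1) _ j (by omega)
  rw [d.S_sub]
  have e : d.S f (j + 1) - d.S g (j + 1) = (z - d.S g (j + 1)) - (z - d.S f (j + 1)) := by ring
  rw [e]
  exact le_trans (Valuation.map_sub _ _ _) (max_le (hg _) (hf _))

theorem Data.app_add {z w : K} {f g : PowerSeries k} (hf : d.App z f) (hg : d.App w g) :
    d.App (z + w) (f + g) := by
  intro n
  rw [d.S_add]
  have e : z + w - (d.S f n + d.S g n) = (z - d.S f n) + (w - d.S g n) := by ring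
  rw [e]
  exact le_trans (Valuation.map_add _ _ _) (max_le (hf n) (hg n))

theorem Data.S_eq_aeval (f : PowerSeries k) (n : ℕ) :
    d.S f n = Polynomial.aeval d.t (PowerSeries.trunc n f) := by
  rw [Polynomial.aeval_def, PowerSeries.eval₂_trunc_eq_sum_range]
  rfl

theorem Data.val_aeval_sub_trunc (p : Polynomial k) (n : ℕ) :
    d.v (Polynomial.aeval d.t p - Polynomial.aeval d.t (PowerSeries.trunc n (p : PowerSeries k)))
      ≤ exp (-(n : ℤ)) := by
  rw [← map_sub]
  set q := p - PowerSeries.trunc n (p : PowerSeries k) with hq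
  have hqc : ∀ j < n, q.coeff j = 0 := by
    intro j hj
    rw [hq, Polynomial.coeff_sub, PowerSeries.coeff_trunc, if_pos hj, Polynomial.coeff_coe, sub_self]
  rw [Polynomial.aeval_eq_sum_range]
  apply Valuation.map_sum_le
  intro j _
  rw [Algebra.smul_def]
  by_cases hj : j < n
  · rw [hqc j hj, map_zero, zero_mul, map_zero]
    exact zero_le
  · refine le_trans (d.val_term_le _ j) ?_
    rw [exp_le_exp]
    omega

theorem Data.app_mul {z w : K} {f g : PowerSeries k} (hz : d.v z ≤ 1) (hw : d.v w ≤ 1)
    (hf : d.App z f) (hg : d.App w g) : d.App (z * w) (f * g) := by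
  intro n
  have h1 : d.v (d.S f n * d.S g n - d.S (f * g) n) ≤ exp (-(n : ℤ)) := by
    rw [d.S_eq_aeval, d.S_eq_aeval, d.S_eq_aeval, ← map_mul, ← PowerSeries.trunc_trunc_mul_trunc]
    have := d.val_aeval_sub_trunc (PowerSeries.trunc n f * PowerSeries.trunc n g) n
    rw [Polynomial.coe_mul] at this
    exact this
  have e : z * w - d.S (f * g) n = (z - d.S f n) * w + d.S f n * (w - d.S g n)
      + (d.S f n * d.S g n - d.S (f * g) n) := by ring
  rw [e]
  refine le_trans (Valuation.map_add _ _ _) (max_le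
    (le_trans (Valuation.map_add _ _ _) (max_le ?_ ?_)) h1)
  · rw [map_mul]
    calc _ ≤ exp (-(n : ℤ)) * 1 := mul_le_mul' (hf n) hw
      _ = _ := mul_one _
  · rw [map_mul]
    calc _ ≤ 1 * exp (-(n : ℤ)) := mul_le_mul' (d.val_S_le_one f n) (hg n)
      _ = _ := one_mul _

theorem Data.app_C (c : k) : d.App (algebraMap k K c) (PowerSeries.C c) := by
  intro n
  rcases n with _ | n
  · simp only [Data.S, Finset.range_zero, Finset.sum_empty, sub_zero, CharP.cast_eq_zero,
      neg_zero, exp_zero]
    exact d.hk c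
  · have : d.S (PowerSeries.C c) (n + 1) = algebraMap k K c := by
      unfold Data.S
      rw [Finset.sum_eq_single 0]
      · simp
      · intro j _ hj
        rw [PowerSeries.coeff_C, if_neg hj, map_zero, zero_mul]
      · intro h; simp at h
    rw [this, sub_self, map_zero]
    exact zero_le

theorem Data.app_X : d.App d.t (PowerSeries.X : PowerSeries k) := by
  intro n
  rcases n with _ | _ | n
  · simp only [Data.S, Finset.range_zero, Finset.sum_empty, sub_zero, CharP.cast_eq_zero,
      neg_zero, exp_zero, d.ht]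
    rw [← exp_zero, exp_le_exp]; omega
  · have h0 : d.S (PowerSeries.X : PowerSeries k) (0 + 1) = 0 := by
      unfold Data.S
      simp
    rw [h0, sub_zero, d.ht, exp_le_exp]
    push_cast
  · have : d.S (PowerSeries.X : PowerSeries k) (n + 2) = d.t := by
      unfold Data.S
      rw [Finset.sum_eq_single 1]
      · simp
      · intro j _ hj
        rw [PowerSeries.coeff_X, if_neg hj, map_zero, zero_mul]
      · intro h; simp at h
    rw [this, sub_self, map_zero]
    exact zero_le

/-- The expansion on the valuation ring. -/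
noncomputable def Data.phi0 : d.O →+* PowerSeries k where
  toFun z := PowerSeries.mk (d.a z)
  map_one' := by
    apply d.app_unique (d.app_mk 1)
    have := d.app_C 1
    rw [map_one, map_one] at this
    exact this
  map_mul' z w := by
    apply d.app_unique (d.app_mk (z * w))
    exact d.app_mul z.2 w.2 (d.app_mk z) (d.app_mk w)
  map_zero' := by
    apply d.app_unique (d.app_mk 0)
    have := d.app_C 0
    rw [map_zero, map_zero] at this
    exact this
  map_add' z w := by
    apply d.app_unique (d.app_mk (z + w))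
    exact d.app_add (d.app_mk z) (d.app_mk w)

theorem Data.app_phi0 (z : d.O) : d.App (z : K) (d.phi0 z) := d.app_mk z

theorem Data.phi0_eq_of_app (z : d.O) {f : PowerSeries k} (hf : d.App (z : K) f) :
    d.phi0 z = f := d.app_unique (d.app_phi0 z) hf

/-- Orders: the first `n` coefficients vanish iff the valuation is at most `exp (-n)`. -/
theorem Data.coeff_phi0_eq_zero_iff (z : d.O) (n : ℕ) :
    (∀ j < n, PowerSeries.coeff j (d.phi0 z) = 0) ↔ d.v (z : K) ≤ exp (-(n : ℤ)) := by
  constructor
  · intro h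
    have h1 := d.app_phi0 z n
    have h2 : d.S (d.phi0 z) n = 0 := by
      unfold Data.S
      apply Finset.sum_eq_zero
      intro j hj
      rw [h j (Finset.mem_range.mp hj), map_zero, zero_mul]
    rwa [h2, sub_zero] at h1
  · intro h
    apply d.coeff_eq_zero_of_val_S_le
    have e : d.S (d.phi0 z) n = (z : K) - ((z : K) - d.S (d.phi0 z) n) := by ring
    rw [e]
    exact le_trans (Valuation.map_sub _ _ _) (max_le h (d.app_phi0 z n))

theorem Data.phi0_injective : Function.Injective d.phi0 := by
  rw [injective_iff_map_eq_zero]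
  intro z hz
  by_contra hne
  have hz0 : (z : K) ≠ 0 := fun h => hne (Subtype.ext h)
  have hv0 : d.v (z : K) ≠ 0 := (Valuation.ne_zero_iff _).mpr hz0
  obtain ⟨m, hm⟩ : ∃ m : ℤ, d.v (z : K) = exp m := ⟨log _, (exp_log hv0).symm⟩
  have h1 := (d.coeff_phi0_eq_zero_iff z ((-m).toNat + 1)).mp (by
    intro j _; rw [hz, map_zero])
  rw [hm, exp_le_exp] at h1
  omega

theorem Data.val_phi0 (z : d.O) :
    Valued.v (HahnSeries.ofPowerSeries ℤ k (d.phi0 z)) = d.v (z : K) := by
  rcases eq_or_ne z 0 with rfl | hne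
  · simp
  have hz0 : (z : K) ≠ 0 := fun h => hne (Subtype.ext h)
  have hv0 : d.v (z : K) ≠ 0 := (Valuation.ne_zero_iff _).mpr hz0
  obtain ⟨m, hm⟩ : ∃ m : ℤ, d.v (z : K) = exp m := ⟨log _, (exp_log hv0).symm⟩
  have hm0 : m ≤ 0 := by
    have := z.2
    rw [d.mem_O, hm, ← exp_zero, exp_le_exp] at this
    exact this
  obtain ⟨n, rfl⟩ : ∃ n : ℕ, m = -(n : ℤ) := ⟨m.natAbs, by omega⟩
  rw [hm]
  have hf0 : HahnSeries.ofPowerSeries ℤ k (d.phi0 z) ≠ 0 := by
    intro h
    apply hne
    apply d.phi0_injective
    rw [map_zero]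
    exact HahnSeries.ofPowerSeries_injective (by rw [h, map_zero])
  have hw0 : Valued.v (HahnSeries.ofPowerSeries ℤ k (d.phi0 z)) ≠ 0 :=
    (Valuation.ne_zero_iff _).mpr hf0
  obtain ⟨m', hm'⟩ : ∃ m' : ℤ, Valued.v (HahnSeries.ofPowerSeries ℤ k (d.phi0 z)) = exp m' :=
    ⟨log _, (exp_log hw0).symm⟩
  have key : ∀ e : ℕ, Valued.v (HahnSeries.ofPowerSeries ℤ k (d.phi0 z)) ≤ exp (-(e : ℤ)) ↔
      d.v (z : K) ≤ exp (-(e : ℤ)) := by
    intro e
    rw [LaurentSeries.intValuation_le_iff_coeff_lt_eq_zero, d.coeff_phi0_eq_zero_iff]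
  have k1 := (key n).mpr (le_of_eq hm)
  have k2 := (key (n + 1))
  rw [hm, hm'] at k2
  rw [hm'] at k1 ⊢
  rw [exp_le_exp] at k1
  rw [exp_le_exp, exp_le_exp] at k2
  congr 1
  by_contra hne'
  have : m' ≤ -((n + 1 : ℕ) : ℤ) := by push_cast; omega
  have := k2.mp this
  push_cast at this
  omega

/-- The expansion `K → k((X))`. -/
noncomputable def Data.phi : K →+* LaurentSeries k :=
  IsFractionRing.lift (A := d.O) (K := K)
    (g := (HahnSeries.ofPowerSeries ℤ k).comp d.phi0)
    (HahnSeries.ofPowerSeries_injective.comp d.phi0_injective)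

theorem Data.phi_coe (z : d.O) : d.phi (z : K) = HahnSeries.ofPowerSeries ℤ k (d.phi0 z) :=
  IsFractionRing.lift_algebraMap _ z

theorem Data.val_phi (z : K) : Valued.v (d.phi z) = d.v z := by
  obtain ⟨x, y, hy, rfl⟩ := IsFractionRing.div_surjective (A := d.O) z
  rw [map_div₀, map_div₀, map_div₀]
  change Valued.v (d.phi (x : K)) / Valued.v (d.phi (y : K)) = d.v (x : K) / d.v (y : K)
  rw [d.phi_coe, d.phi_coe, d.val_phi0, d.val_phi0]

theorem Data.phi_algebraMap (c : k) : d.phi (algebraMap k K c) = HahnSeries.C c := by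
  have h1 : d.v (algebraMap k K c) ≤ 1 := d.hk c
  have := d.phi_coe ⟨algebraMap k K c, h1⟩
  change d.phi (algebraMap k K c) = _ at this
  rw [this, d.phi0_eq_of_app ⟨algebraMap k K c, h1⟩ (d.app_C c), HahnSeries.ofPowerSeries_C]

theorem Data.phi_t : d.phi d.t = HahnSeries.single 1 1 := by
  have h1 : d.v d.t ≤ 1 := by
    rw [d.ht, ← exp_zero, exp_le_exp]; omega
  have := d.phi_coe ⟨d.t, h1⟩
  change d.phi d.t = _ at this
  rw [this, d.phi0_eq_of_app ⟨d.t, h1⟩ d.app_X, HahnSeries.ofPowerSeries_X]

/-- The expansion as a `k`-algebra homomorphism. -/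
noncomputable def Data.phiAlg : K →ₐ[k] LaurentSeries k :=
  { d.phi with
    commutes' := fun c => by
      change d.phi (algebraMap k K c) = _
      rw [d.phi_algebraMap, HahnSeries.algebraMap_apply', PowerSeries.algebraMap_apply,
        HahnSeries.ofPowerSeries_C]
      rfl }

theorem Data.phiAlg_apply (z : K) : d.phiAlg z = d.phi z := rfl

theorem Data.isExpansionAt : LocRes.IsExpansionAt d.v d.phiAlg := by
  refine ⟨fun f => d.val_phi f, fun a => ⟨algebraMap k K a, d.hk a, ?_⟩, ⟨d.t, d.ht⟩⟩
  rw [d.phiAlg_apply, d.phi_algebraMap]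
  simp

end HasseExp

end Groth.Agent.Lib.helper10
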