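import Groth.Agent.Lib.Helper10.FunFld43

/-!
Function fields of one variable (helper10), part 44: the divisor of poles of `y (x - α)^j` in an
Artin–Schreier function field `y² + y = f(x)` in characteristic two.
-/

set_option autoImplicit false
set_option linter.unusedSectionVars false
set_option linter.style.haveILetI false

universe u v w

open IntermediateField FunFld Polynomial

namespace Groth.Agent.Lib.helper10

namespace FF

open RD PA

section ASPoles

variable {k : Type u} {K : Type v} [Field k] [Field K] [Algebra k K] [Algebra (RatFunc k) K]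
  [IsScalarTower k (RatFunc k) K]

theorem Place.ord_zpow' {F : Type*} [Field F] [Algebra k F] (P : Place k F) (z : F) (n : ℤ) :
    P.ord (z ^ n) = n * P.ord z := by
  unfold Place.ord
  rw [map_zpow₀, WithZero.log_zpow, smul_eq_mul]
  ring

theorem algebraMap_X_sub_C (α : k) :
    algebraMap (RatFunc k) K RatFunc.X - algebraMap k K α =
      algebraMap (RatFunc k) K (RatFunc.X - RatFunc.C α) := by
  rw [map_sub, IsScalarTower.algebraMap_apply k (RatFunc k) K, RatFunc.algebraMap_eq_C]

theorem ratFunc_X_sub_C (α : k) :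
    (RatFunc.X - RatFunc.C α : RatFunc k) =
      algebraMap k[X] (RatFunc k) (Polynomial.X - Polynomial.C α) := by
  rw [map_sub, RatFunc.algebraMap_X, RatFunc.algebraMap_C]

/-- `X - α` is a uniformizer at its zero. -/
theorem Place.ord_X_sub_C (p : Place k (RatFunc k)) (α : k)
    (h : p.1 ((RatFunc.X : RatFunc k) - RatFunc.C α) < 1) :
    p.ord ((RatFunc.X : RatFunc k) - RatFunc.C α) = 1 := by
  rw [ratFunc_X_sub_C] at h ⊢
  have := Place.val_irreducible_eq p (irreducible_X_sub_C α) h
  unfold Place.ord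
  rw [this, WithZero.log_exp]
  ring

/-- At a zero of `X - β` the function `X - α` is a unit, for `α ≠ β`. -/
theorem Place.val_X_sub_C_eq_one (p : Place k (RatFunc k)) {α β : k} (hαβ : β ≠ α)
    (h : p.1 ((RatFunc.X : RatFunc k) - RatFunc.C β) < 1) :
    p.1 ((RatFunc.X : RatFunc k) - RatFunc.C α) = 1 := by
  have e1 : (RatFunc.X : RatFunc k) - RatFunc.C α =
      (RatFunc.X - RatFunc.C β) + algebraMap k (RatFunc k) (β - α) := by
    rw [RatFunc.algebraMap_eq_C, map_sub]
    ring
  have h1 : p.1 (algebraMap k (RatFunc k) (β - α)) = 1 :=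
    Place.val_algebraMap_eq_one p (sub_ne_zero.mpr hαβ)
  rw [e1, Valuation.map_add_eq_of_lt_right _ (by rw [h1]; exact h), h1]

end ASPoles

section OverIff

variable {k : Type u} {F : Type v} {E : Type w} [Field k] [Field F] [Field E]
  [Algebra k F] [Algebra F E] [Algebra k E] [IsScalarTower k F E]

theorem isOverWith_lt_one_iff {Q : Place k E} {P : Place k F} {e : ℕ} (he : IsOverWith Q P e)
    (u : F) : Q.1 (algebraMap F E u) < 1 ↔ P.1 u < 1 := by
  have hepos := isOverWith_pos he
  rw [he u]
  exact pow_lt_one_iff_of_nonneg zero_le (by omega)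

theorem isOverWith_le_one_iff {Q : Place k E} {P : Place k F} {e : ℕ} (he : IsOverWith Q P e)
    (u : F) : Q.1 (algebraMap F E u) ≤ 1 ↔ P.1 u ≤ 1 := by
  have hepos := isOverWith_pos he
  rw [he u]
  exact pow_le_one_iff_of_nonneg zero_le (by omega)

theorem isOverWith_one_lt_iff {Q : Place k E} {P : Place k F} {e : ℕ} (he : IsOverWith Q P e)
    (u : F) : 1 < Q.1 (algebraMap F E u) ↔ 1 < P.1 u := by
  rw [← not_le, ← not_le, isOverWith_le_one_iff he]

theorem isOverWith_one_le_iff {Q : Place k E} {P : Place k F} {e : ℕ} (he : IsOverWith Q P e)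
    (u : F) : 1 ≤ Q.1 (algebraMap F E u) ↔ 1 ≤ P.1 u := by
  rw [← not_lt, ← not_lt, isOverWith_lt_one_iff he]

end OverIff

section ASPoles2

variable {k : Type u} {K : Type v} [Field k] [Field K] [Algebra k K] [Algebra (RatFunc k) K]
  [IsScalarTower k (RatFunc k) K]

theorem Place.ord_of_val_eq_one {F : Type*} [Field F] [Algebra k F] (P : Place k F) {z : F}
    (h : P.1 z = 1) : P.ord z = 0 := by
  unfold Place.ord
  rw [h, WithZero.log_one, neg_zero]

theorem Place.ord_nonneg_of_val_le_one {F : Type*} [Field F] [Algebra k F] (P : Place k F) {z : F}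
    (h : P.1 z ≤ 1) : 0 ≤ P.ord z := by
  by_cases hz : z = 0
  · rw [hz, Place.ord_zero]
  · exact (Place.ord_nonneg_iff P hz).mpr h

/-- **S19045**: the divisor of poles of `y (x - α)^j` in an Artin–Schreier function field. -/
theorem as_poleDivisor [Algebra.IsSeparable (RatFunc k) K] (h2 : ringChar k = 2)
    (hdeg : Module.finrank (RatFunc k) K = 2)
    (y : K) (hy : y ∉ Set.range (algebraMap (RatFunc k) K)) (f : RatFunc k)
    (heq : y ^ 2 + y = algebraMap (RatFunc k) K f)
    (B : Finset k) (d : k → ℕ) (hd : ∀ β ∈ B, Odd (d β))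
    (hpole : ∀ (p : FunFld.Place k (RatFunc k)) (β : k), β ∈ B →
      p.1 ((RatFunc.X : RatFunc k) - RatFunc.C β) < 1 → p.ord f = -(d β : ℤ))
    (hint : ∀ p : FunFld.Place k (RatFunc k),
      (∀ β ∈ B, 1 ≤ p.1 ((RatFunc.X : RatFunc k) - RatFunc.C β)) → p.1 f ≤ 1) :
    (∀ P : FunFld.Place k K, 1 < P.1 (algebraMap (RatFunc k) K RatFunc.X) → 0 ≤ P.ord y) ∧
    (∃ P : FunFld.Place k K, 1 < P.1 (algebraMap (RatFunc k) K RatFunc.X) ∧ P.ord y = 0) ∧
    ∀ (α : k), α ∈ B → ∀ (j : ℤ) (P : FunFld.Place k K),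
      (P.1 ((algebraMap (RatFunc k) K RatFunc.X) - (algebraMap k K α)) < 1 →
        max (-(P.ord (y * ((algebraMap (RatFunc k) K RatFunc.X) - (algebraMap k K α)) ^ j))) 0 =
          max ((d α : ℤ) - 2 * j) 0) ∧
      (∀ β : k, β ∈ B → β ≠ α →
        P.1 ((algebraMap (RatFunc k) K RatFunc.X) - (algebraMap k K β)) < 1 →
        P.ord (y * ((algebraMap (RatFunc k) K RatFunc.X) - (algebraMap k K α)) ^ j) =
          -(d β : ℤ)) ∧
      (1 < P.1 (algebraMap (RatFunc k) K RatFunc.X) →
        max (-(P.ord (y * ((algebraMap (RatFunc k) K RatFunc.X) - (algebraMap k K α)) ^ j))) 0 =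
          max (j - P.ord y) 0) ∧
      (P.1 (algebraMap (RatFunc k) K RatFunc.X) ≤ 1 →
        (∀ β : k, β ∈ B → 1 ≤ P.1 ((algebraMap (RatFunc k) K RatFunc.X) - (algebraMap k K β))) →
        0 ≤ P.ord (y * ((algebraMap (RatFunc k) K RatFunc.X) - (algebraMap k K α)) ^ j)) := by
  haveI := finiteDimensional_of_finrank_two hdeg
  have hR := isFunctionField_ratFunc (k := k)
  have hy0 : y ≠ 0 := fun h => hy ⟨0, by rw [map_zero, h]⟩
  -- places over infinity
  have hinfB : ∀ p : Place k (RatFunc k), 1 < p.1 (RatFunc.X : RatFunc k) →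
      ∀ β : k, p.1 ((RatFunc.X : RatFunc k) - RatFunc.C β) = p.1 (RatFunc.X : RatFunc k) := by
    intro p hp β
    apply Valuation.map_sub_eq_of_lt_left
    rw [← RatFunc.algebraMap_eq_C]
    exact lt_of_le_of_lt (p.2.1 β) hp
  have hinf_f : ∀ p : Place k (RatFunc k), 1 < p.1 (RatFunc.X : RatFunc k) → p.1 f ≤ 1 := by
    intro p hp
    apply hint p
    intro β _
    rw [hinfB p hp β]
    exact hp.le
  have hinf_y : ∀ (P : Place k K) (p : Place k (RatFunc k)) (e : ℕ), IsOverWith P p e →
      1 < p.1 (RatFunc.X : RatFunc k) → P.1 y ≤ 1 := by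
    intro P p e he hp
    exact as_integral heq he (Place.ord_nonneg_of_val_le_one p (hinf_f p hp))
  refine ⟨?_, ?_, ?_⟩
  · intro P hP
    obtain ⟨p, e, he⟩ := exists_place_under hR P
    have hp := (isOverWith_one_lt_iff he _).mp hP
    exact Place.ord_nonneg_of_val_le_one P (hinf_y P p e he hp)
  · have hXc : (RatFunc.X : RatFunc k) ∉ Set.range (algebraMap k (RatFunc k)) :=
      not_mem_range_of_transcendental RatFunc.transcendental_X
    obtain ⟨pinf, hpinf⟩ := exists_pole hR hXc
    have hpgt : 1 < pinf.1 (RatFunc.X : RatFunc k) :=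
      (Place.ord_neg_iff pinf RatFunc.X_ne_zero).mp hpinf
    obtain ⟨Q, e, he⟩ := exists_place_over (E := K) hR pinf
    have hQx := (isOverWith_one_lt_iff he _).mpr hpgt
    have hQy := hinf_y Q pinf e he hpgt
    rcases hQy.lt_or_eq with hlt | heq1
    · obtain ⟨σ, hσ⟩ := as_aut heq h2 hdeg hy
      refine ⟨Place.comapAut Q σ, ?_, ?_⟩
      · rw [Place.comapAut_apply, σ.commutes]
        exact hQx
      · apply Place.ord_of_val_eq_one
        rw [Place.comapAut_apply, hσ]
        have := Valuation.map_add_eq_of_lt_left Q.1 (x := 1) (y := y) (by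
          rw [Valuation.map_one]; exact hlt)
        rw [add_comm, this, Valuation.map_one]
    · exact ⟨Q, hQx, Place.ord_of_val_eq_one Q heq1⟩
  · intro α hα j P
    obtain ⟨p, e, he⟩ := exists_place_under hR P
    have hepos := isOverWith_pos he
    set xa := algebraMap (RatFunc k) K RatFunc.X - algebraMap k K α with hxa
    have hxa' : xa = algebraMap (RatFunc k) K (RatFunc.X - RatFunc.C α) := algebraMap_X_sub_C α
    have hXα0 : (RatFunc.X - RatFunc.C α : RatFunc k) ≠ 0 := by
      rw [ratFunc_X_sub_C]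
      exact (_root_.map_ne_zero_iff _ (RatFunc.algebraMap_injective k)).mpr (X_sub_C_ne_zero α)
    have hxa0 : xa ≠ 0 := by
      rw [hxa']
      exact (_root_.map_ne_zero _).mpr hXα0
    have hordw : P.ord (y * xa ^ j) =
        P.ord y + j * ((e : ℤ) * p.ord (RatFunc.X - RatFunc.C α : RatFunc k)) := by
      rw [Place.ord_mul P hy0 (zpow_ne_zero j hxa0), Place.ord_zpow', hxa',
        ord_algebraMap_of_isOverWith he]
    -- ramified over a pole
    have hram : ∀ β ∈ B, p.1 ((RatFunc.X : RatFunc k) - RatFunc.C β) < 1 →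
        e = 2 ∧ P.ord y = -(d β : ℤ) := by
      intro β hβ hlt
      have h1 := hpole p β hβ hlt
      obtain ⟨j', hj'⟩ := hd β hβ
      have hneg : p.ord f < 0 := by rw [h1]; omega
      have hodd : Odd (p.ord f) := by
        rw [h1]
        exact ⟨-(j' : ℤ) - 1, by rw [hj']; push_cast; ring⟩
      obtain ⟨he2, hy1, -⟩ := as_ramified heq hdeg he hneg hodd
      exact ⟨he2, by rw [hy1, h1]⟩
    refine ⟨?_, ?_, ?_, ?_⟩
    · intro hlt
      rw [hxa'] at hlt
      have hlt' := (isOverWith_lt_one_iff he _).mp hlt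
      obtain ⟨he2, hy1⟩ := hram α hα hlt'
      rw [hordw, Place.ord_X_sub_C p α hlt', he2, hy1]
      congr 1
      push_cast
      ring
    · intro β hβ hβα hlt
      rw [algebraMap_X_sub_C] at hlt
      have hlt' := (isOverWith_lt_one_iff he _).mp hlt
      obtain ⟨he2, hy1⟩ := hram β hβ hlt'
      rw [hordw, Place.ord_of_val_eq_one p (Place.val_X_sub_C_eq_one p hβα hlt'), hy1]
      ring
    · intro hgt
      have hp := (isOverWith_one_lt_iff he _).mp hgt
      have hf0 := Place.ord_nonneg_of_val_le_one p (hinf_f p hp)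
      have he1 := isOverWith_unique_idx he
        ((artin_schreier_places h2 hdeg hy heq p).2 hf0 P ⟨e, he⟩)
      have hpX : p.ord (RatFunc.X : RatFunc k) < 0 :=
        (Place.ord_neg_iff p RatFunc.X_ne_zero).mpr hp
      have h3 := Place.infinity_ord_polynomial p hpX (X_sub_C_ne_zero α)
      rw [← ratFunc_X_sub_C, natDegree_X_sub_C] at h3
      rw [hordw, h3, he1]
      congr 1
      push_cast
      ring
    · intro hle hB
      have hpX := (isOverWith_le_one_iff he _).mp hle
      have hB' : ∀ β ∈ B, 1 ≤ p.1 ((RatFunc.X : RatFunc k) - RatFunc.C β) := by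
        intro β hβ
        have := hB β hβ
        rw [algebraMap_X_sub_C] at this
        exact (isOverWith_one_le_iff he _).mp this
      have hf1 := hint p hB'
      have hy1 := as_integral heq he (Place.ord_nonneg_of_val_le_one p hf1)
      have h4 : p.1 ((RatFunc.X : RatFunc k) - RatFunc.C α) = 1 := by
        apply le_antisymm _ (hB' α hα)
        apply le_trans (Valuation.map_sub _ _ _)
        apply max_le hpX
        rw [← RatFunc.algebraMap_eq_C]
        exact p.2.1 α
      rw [hordw, Place.ord_of_val_eq_one p h4, mul_zero, mul_zero, add_zero]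
      exact Place.ord_nonneg_of_val_le_one P hy1

end ASPoles2

end FF

end Groth.Agent.Lib.helper10
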