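import Groth.Prelude.Def_LocRes
import Groth.Agent.Lib.Helper10.FunFld44

/-!
Local residues through Laurent expansions (helper10), part 1: the valuation of the derivative of a
Laurent series, and the chain rule for rational functions.
-/

set_option autoImplicit false
set_option linter.unusedSectionVars false
set_option linter.style.haveILetI false

universe u v w

open FunFld Polynomial

namespace Groth.Agent.Lib.helper10

namespace FF

open LaurentSeries

section LaurentD

variable {F : Type w} [Field F]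

/-- A value in `ℤᵐ⁰` strictly below `exp a` is at most `exp (a - 1)`. -/
theorem le_exp_pred_of_lt_exp {x : WithZero (Multiplicative ℤ)} {a : ℤ}
    (h : x < WithZero.exp a) : x ≤ WithZero.exp (a - 1) := by
  by_cases hx : x = 0
  · rw [hx]; exact zero_le
  · obtain ⟨b, rfl⟩ : ∃ b : ℤ, x = WithZero.exp b := ⟨WithZero.log x, (WithZero.exp_log hx).symm⟩
    rw [WithZero.exp_lt_exp] at h
    rw [WithZero.exp_le_exp]
    omega

/-- The derivative lowers the order by at most one. -/
theorem val_D_le {g : LaurentSeries F} {n : ℤ} (h : Valued.v g ≤ WithZero.exp (-n)) :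
    Valued.v (LocRes.D F g) ≤ WithZero.exp (-(n - 1)) := by
  rw [valuation_le_iff_coeff_lt_eq_zero] at h ⊢
  intro m hm
  rw [LocRes.D_coeff, h (m + 1) (by omega), smul_zero]

/-- The derivative does not lower the order when the order vanishes in the coefficient field. -/
theorem val_D_le_of_cast_eq_zero {g : LaurentSeries F} {n : ℤ}
    (h : Valued.v g ≤ WithZero.exp (-n)) (hn : (n : F) = 0) :
    Valued.v (LocRes.D F g) ≤ WithZero.exp (-n) := by
  have h' := h
  rw [valuation_le_iff_coeff_lt_eq_zero] at h ⊢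
  intro m hm
  rw [LocRes.D_coeff]
  by_cases hm' : m + 1 < n
  · rw [h (m + 1) hm', smul_zero]
  · have : m + 1 = n := by omega
    rw [this, zsmul_eq_mul, hn, zero_mul]

/-- The derivative of a power series is a power series. -/
theorem val_D_le_one {g : LaurentSeries F} (h : Valued.v g ≤ 1) : Valued.v (LocRes.D F g) ≤ 1 := by
  have h0 : (1 : WithZero (Multiplicative ℤ)) = WithZero.exp (-(0 : ℤ)) := by
    rw [neg_zero, WithZero.exp_zero]
  rw [h0] at h ⊢
  exact val_D_le_of_cast_eq_zero h (by simp)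

/-- The derivative lowers the order by exactly one when the order is nonzero in the coefficient
field. -/
theorem val_D_eq {g : LaurentSeries F} {n : ℤ} (h : Valued.v g = WithZero.exp (-n))
    (hn : (n : F) ≠ 0) : Valued.v (LocRes.D F g) = WithZero.exp (-(n - 1)) := by
  apply le_antisymm (val_D_le h.le)
  by_contra hlt
  rw [not_le] at hlt
  have h1 := le_exp_pred_of_lt_exp hlt
  have e1 : -(n - 1) - 1 = -n := by ring
  rw [e1, valuation_le_iff_coeff_lt_eq_zero] at h1
  have h2 := h1 (n - 1) (by omega)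
  rw [LocRes.D_coeff, sub_add_cancel, zsmul_eq_mul] at h2
  have h3 : g.coeff n = 0 := by
    rcases mul_eq_zero.mp h2 with h | h
    · exact absurd h hn
    · exact h
  have h4 : Valued.v g ≤ WithZero.exp (-(n + 1)) := by
    rw [valuation_le_iff_coeff_lt_eq_zero]
    intro m hm
    by_cases hm' : m < n
    · exact (valuation_le_iff_coeff_lt_eq_zero (K := F)).mp h.le m hm'
    · have : m = n := by omega
      rw [this, h3]
  rw [h, WithZero.exp_le_exp] at h4
  omega

end LaurentD

section ChainRule

variable {k : Type u} [Field k]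

/-- The formal derivative of a rational function. -/
noncomputable def ratDeriv (u : RatFunc k) : RatFunc k :=
  (algebraMap k[X] (RatFunc k) u.denom)⁻¹ ^ 2 *
    (algebraMap k[X] (RatFunc k) u.denom * algebraMap k[X] (RatFunc k) (derivative u.num) -
      algebraMap k[X] (RatFunc k) u.num * algebraMap k[X] (RatFunc k) (derivative u.denom))

variable {F : Type w} [Field F] [Algebra k F]

/-- The chain rule: the derivative of the expansion of a rational function. -/
theorem D_ratFunc (χ : RatFunc k →ₐ[k] LaurentSeries F) (u : RatFunc k) :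
    LocRes.D F (χ u) = χ (ratDeriv u) * LocRes.D F (χ RatFunc.X) := by
  letI := χ.toRingHom.toAlgebra
  set d := LocRes.dExp χ with hd
  have hdapp : ∀ v : RatFunc k, d v = LocRes.D F (χ v) := fun v => rfl
  have hsmul : ∀ (r : RatFunc k) (m : LaurentSeries F), r • m = χ r * m := fun r m => rfl
  have hpoly : ∀ a : k[X], d (algebraMap k[X] (RatFunc k) a) =
      algebraMap k[X] (RatFunc k) (derivative a) • d RatFunc.X := by
    intro a
    rw [← RatFunc.aeval_X_left_eq_algebraMap, Derivation.map_aeval,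
      RatFunc.aeval_X_left_eq_algebraMap]
  rw [← hdapp, ← hdapp]
  conv_lhs => rw [← RatFunc.num_div_denom u]
  rw [Derivation.leibniz_div, hpoly, hpoly, ← hsmul, ratDeriv, smul_smul, smul_smul, ← sub_smul,
    smul_smul]

end ChainRule

section OrdL

variable {F : Type w} [Field F]

/-- The additive order of a Laurent series (junk value `0` at `0`). -/
noncomputable def ordL (g : LaurentSeries F) : ℤ := -WithZero.log (Valued.v g)

theorem ordL_mul {g h : LaurentSeries F} (hg : g ≠ 0) (hh : h ≠ 0) :
    ordL (g * h) = ordL g + ordL h := by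
  unfold ordL
  rw [map_mul, WithZero.log_mul ((Valuation.ne_zero_iff _).mpr hg)
    ((Valuation.ne_zero_iff _).mpr hh)]
  ring

theorem val_eq_exp_neg_ordL {g : LaurentSeries F} (hg : g ≠ 0) :
    Valued.v g = WithZero.exp (-ordL g) := by
  unfold ordL
  rw [neg_neg, WithZero.exp_log ((Valuation.ne_zero_iff _).mpr hg)]

theorem ordL_of_val_eq {g : LaurentSeries F} {n : ℤ} (h : Valued.v g = WithZero.exp (-n)) :
    ordL g = n := by
  unfold ordL
  rw [h, WithZero.log_exp, neg_neg]

theorem ne_zero_of_val_eq_exp {g : LaurentSeries F} {n : ℤ} (h : Valued.v g = WithZero.exp n) :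
    g ≠ 0 := by
  rintro rfl
  rw [Valuation.map_zero] at h
  exact WithZero.exp_ne_zero h.symm

variable {k : Type u} {K : Type v} [CommRing k] [CommRing K] [Algebra k K] [Algebra k F]

theorem ordDiff_one (χ : K →ₐ[k] LaurentSeries F) (v : K) :
    LocRes.ordDiff χ 1 v = ordL (LocRes.D F (χ v)) := by
  unfold LocRes.ordDiff LocRes.vDiff ordL
  rw [map_one, one_mul]

theorem vDiff_one (χ : K →ₐ[k] LaurentSeries F) (v : K) :
    LocRes.vDiff χ 1 v = Valued.v (LocRes.D F (χ v)) := by
  unfold LocRes.vDiff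
  rw [map_one, one_mul]

theorem D_ne_zero_of_vDiff_one_ne_zero {χ : K →ₐ[k] LaurentSeries F} {v : K}
    (h : LocRes.vDiff χ 1 v ≠ 0) : LocRes.D F (χ v) ≠ 0 := by
  rw [vDiff_one] at h
  exact (Valuation.ne_zero_iff _).mp h

end OrdL

section Char2

variable {k : Type u} [Field k]

theorem two_eq_zero_of_ringChar' {F : Type w} [Field F] [Algebra k F] (h2 : ringChar k = 2) :
    (2 : F) = 0 := by
  haveI : CharP k 2 := ringChar.of_eq h2
  have h2k : (2 : k) = 0 := by
    have := CharP.cast_eq_zero k 2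
    exact_mod_cast this
  rw [← map_ofNat (algebraMap k F) 2, h2k, map_zero]

theorem two_eq_zero_laurent {F : Type w} [Field F] [Algebra k F] (h2 : ringChar k = 2) :
    (2 : LaurentSeries F) = 0 := by
  have h2F : (2 : F) = 0 := two_eq_zero_of_ringChar' h2
  rw [← map_ofNat (algebraMap F (LaurentSeries F)) 2, h2F, map_zero]

theorem odd_cast_ne_zero {F : Type w} [Field F] [Algebra k F] (h2 : ringChar k = 2) {n : ℤ}
    (hn : Odd n) : ((n : ℤ) : F) ≠ 0 := by
  have h2F : (2 : F) = 0 := two_eq_zero_of_ringChar' h2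
  obtain ⟨j, hj⟩ := hn
  rw [hj]
  push_cast
  rw [h2F, zero_mul, zero_add]
  exact one_ne_zero

end Char2

section ASDiffExp

variable {k : Type u} {K : Type v} [Field k] [Field K] [Algebra k K] [Algebra (RatFunc k) K]
  [IsScalarTower k (RatFunc k) K]

/-- **S12588**: the different exponent of an Artin–Schreier extension at an odd pole. -/
theorem as_diffExp {F : Type w} {F' : Type w} [Field F] [Algebra k F] [Field F'] [Algebra k F']
    (hdeg : Module.finrank (RatFunc k) K = 2) (h2 : ringChar k = 2)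
    (y : K) (f : RatFunc k) (heq : y ^ 2 + y = algebraMap (RatFunc k) K f)
    (p : FunFld.Place k (RatFunc k)) (hp : 1 < p.1 f) (hodd : Odd (p.ord f))
    (P : FunFld.Place k K) (e : ℕ) (he : FunFld.IsOverWith P p e)
    (φ : RatFunc k →ₐ[k] LaurentSeries F) (hφ : LocRes.IsExpansionAt p.1 φ)
    (ψ : K →ₐ[k] LaurentSeries F') (hψ : LocRes.IsExpansionAt P.1 ψ)
    (z : RatFunc k) (hz : LocRes.vDiff φ 1 z ≠ 0)
    (hz' : LocRes.vDiff ψ 1 (algebraMap (RatFunc k) K z) ≠ 0) :
    LocRes.diffExp φ ψ e z = 1 - p.ord f := by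
  haveI := finiteDimensional_of_finrank_two hdeg
  set n := p.ord f with hn
  have hf0 : f ≠ 0 := by
    rintro rfl
    rw [Valuation.map_zero] at hp
    exact absurd hp (not_lt.mpr zero_le)
  have hneg : n < 0 := (Place.ord_neg_iff p hf0).mpr hp
  obtain ⟨he2, hy1, hy0⟩ := as_ramified heq hdeg he hneg hodd
  subst he2
  set χ : RatFunc k →ₐ[k] LaurentSeries F' :=
    ψ.comp (IsScalarTower.toAlgHom k (RatFunc k) K) with hχdef
  have hχ : ∀ u, χ u = ψ (algebraMap (RatFunc k) K u) := fun u => rfl
  have hordφ : ∀ u, ordL (φ u) = p.ord u := fun u => by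
    unfold ordL Place.ord
    rw [hφ.1]
  have hordχ : ∀ u, ordL (χ u) = 2 * p.ord u := fun u => by
    unfold ordL Place.ord
    rw [hχ, hψ.1, he u, WithZero.log_pow]
    simp only [nsmul_eq_mul, Nat.cast_ofNat]
    ring
  -- the derivative of `f` downstairs
  have h1 : Valued.v (LocRes.D F (φ f)) = WithZero.exp (-(n - 1)) :=
    val_D_eq (by rw [hφ.1, Place.val_eq_exp_neg_ord p hf0]) (odd_cast_ne_zero h2 hodd)
  -- the derivative of `y` upstairs
  have h2' : Valued.v (LocRes.D F' (ψ y)) = WithZero.exp (-(n - 1)) :=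
    val_D_eq (by rw [hψ.1, Place.val_eq_exp_neg_ord P hy0, hy1]) (odd_cast_ne_zero h2 hodd)
  have h3 : LocRes.D F' (χ f) = LocRes.D F' (ψ y) := by
    rw [hχ, ← heq, map_add, map_pow, map_add, Derivation.leibniz_pow, two_nsmul, ← two_mul,
      two_eq_zero_laurent h2, zero_mul, zero_add]
  have c1 := D_ratFunc φ f
  have c2 := D_ratFunc χ f
  have c3 := D_ratFunc φ z
  have c4 := D_ratFunc χ z
  have hDφf : LocRes.D F (φ f) ≠ 0 := ne_zero_of_val_eq_exp h1
  have hDχf : LocRes.D F' (χ f) ≠ 0 := by rw [h3]; exact ne_zero_of_val_eq_exp h2'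
  have hDφz : LocRes.D F (φ z) ≠ 0 := D_ne_zero_of_vDiff_one_ne_zero hz
  have hDχz : LocRes.D F' (χ z) ≠ 0 := by
    rw [vDiff_one] at hz'
    exact (Valuation.ne_zero_iff _).mp hz'
  have hA : LocRes.D F (φ RatFunc.X) ≠ 0 := by
    intro h
    rw [h, mul_zero] at c1
    exact hDφf c1
  have hB : LocRes.D F' (χ RatFunc.X) ≠ 0 := by
    intro h
    rw [h, mul_zero] at c2
    exact hDχf c2
  have hφf' : φ (ratDeriv f) ≠ 0 := by
    intro h
    rw [h, zero_mul] at c1
    exact hDφf c1
  have hχf' : χ (ratDeriv f) ≠ 0 := by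
    intro h
    rw [h, zero_mul] at c2
    exact hDχf c2
  have hφz' : φ (ratDeriv z) ≠ 0 := by
    intro h
    rw [h, zero_mul] at c3
    exact hDφz c3
  have hχz' : χ (ratDeriv z) ≠ 0 := by
    intro h
    rw [h, zero_mul] at c4
    exact hDχz c4
  have o1 : ordL (LocRes.D F (φ f)) = n - 1 := ordL_of_val_eq h1
  have o2 : ordL (LocRes.D F' (χ f)) = n - 1 := by rw [h3]; exact ordL_of_val_eq h2'
  rw [c1, ordL_mul hφf' hA, hordφ] at o1
  rw [c2, ordL_mul hχf' hB, hordχ] at o2
  unfold LocRes.diffExp
  rw [ordDiff_one, ordDiff_one, ← hχ, c3, c4, ordL_mul hφz' hA, ordL_mul hχz' hB, hordφ, hordχ]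
  push_cast
  linarith

end ASDiffExp

end FF

end Groth.Agent.Lib.helper10
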