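import Mathlib
import Groth.Agent.Lib.Helper10.HasseExp1
import Groth.Agent.Lib.Helper10.FunFld23
import Groth.Agent.Lib.Helper10.LocRes1
import Groth.Agent.S12583
import Groth.Prelude.Def_W4bk4goldsch45p2

/-!
Expansions at places of a function field over an algebraically closed field, and the values of
Hasse derivatives at a place (helper10).
-/

set_option autoImplicit false
set_option linter.unusedSectionVars false
set_option linter.unusedVariables false
set_option linter.style.haveILetI false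

universe u v

open WithZero FunFld

namespace Groth.Agent.Lib.helper10

namespace HasseExp

variable {k : Type u} {K : Type v} [Field k] [Field K] [Algebra k K]

/-- The expansion data of a place with a chosen uniformizer. -/
noncomputable def placeData (hK : IsFunctionField k K) [IsAlgClosed k] (P : Place k K) (t : K)
    (ht : P.1 t = exp (-1 : ℤ)) : Data k K where
  v := P.1
  hk := P.2.1
  hres := fun z hz => FF.Place.exists_const_sub_lt hK P hz
  t := t
  ht := ht

/-- Existence of an expansion at a place with prescribed local parameter. -/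
theorem exists_expansion (hK : IsFunctionField k K) [IsAlgClosed k] (P : Place k K) (t : K)
    (ht : P.1 t = exp (-1 : ℤ)) :
    ∃ φ : K →ₐ[k] LaurentSeries k, LocRes.IsExpansionAt P.1 φ ∧ φ t = HahnSeries.single 1 1 :=
  ⟨(placeData hK P t ht).phiAlg, (placeData hK P t ht).isExpansionAt, (placeData hK P t ht).phi_t⟩

theorem exists_expansion' (hK : IsFunctionField k K) [IsAlgClosed k] (P : Place k K) :
    ∃ φ : K →ₐ[k] LaurentSeries k, LocRes.IsExpansionAt P.1 φ := by
  obtain ⟨t, ht⟩ := FF.Place.exists_uniformizer P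
  obtain ⟨φ, hφ, -⟩ := exists_expansion hK P t ht
  exact ⟨φ, hφ⟩

section Exp

variable {P : Place k K} {φ : K →ₐ[k] LaurentSeries k} (hφ : LocRes.IsExpansionAt P.1 φ)

include hφ

theorem coeff_neg_eq_zero {z : K} (hz : P.1 z ≤ 1) {n : ℤ} (hn : n < 0) : (φ z).coeff n = 0 := by
  have h1 : Valued.v (φ z) ≤ exp (-(0 : ℤ)) := by
    rw [hφ.1, neg_zero, exp_zero]; exact hz
  exact (LaurentSeries.valuation_le_iff_coeff_lt_eq_zero k).mp h1 n hn

theorem val_le_exp_iff (z : K) (D : ℤ) :
    P.1 z ≤ exp (-D) ↔ ∀ n : ℤ, n < D → (φ z).coeff n = 0 := by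
  rw [← hφ.1, LaurentSeries.valuation_le_iff_coeff_lt_eq_zero]

theorem val_sub_coeff_zero_lt {z : K} (hz : P.1 z ≤ 1) :
    P.1 (z - algebraMap k K ((φ z).coeff 0)) < 1 := by
  rw [lt_one_iff_le_exp, val_le_exp_iff hφ]
  intro n hn
  rw [map_sub, LocRes.map_algebraMap, HahnSeries.coeff_sub]
  rcases lt_or_eq_of_le (show n ≤ 0 by omega) with h | rfl
  · rw [coeff_neg_eq_zero hφ hz h, HahnSeries.C_apply, HahnSeries.coeff_single_of_ne (by omega),
      sub_zero]
  · simp

theorem evalP_eq {z : K} (hz : P.1 z ≤ 1) :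
    evalP P z = algebraMap k (IsLocalRing.ResidueField P.O) ((φ z).coeff 0) := by
  have e : evalP P z = IsLocalRing.residue P.O ⟨z, hz⟩ := by
    unfold evalP
    exact dif_pos hz
  rw [e]
  have h1 := val_sub_coeff_zero_lt hφ hz
  have h2 : IsLocalRing.residue P.O ((⟨z, hz⟩ : P.O) - algebraMap k P.O ((φ z).coeff 0)) = 0 := by
    rw [FF.Place.residue_eq_zero_iff]; exact h1
  rw [map_sub, sub_eq_zero] at h2
  exact h2

end Exp

section Hasse

variable (hK : IsFunctionField k K) [IsAlgClosed k] {P : Place k K}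
  {φ : K →ₐ[k] LaurentSeries k} (hφ : LocRes.IsExpansionAt P.1 φ)
  {t : K} (ht : φ t = HahnSeries.single 1 1)
  {H : K →ₐ[k] PowerSeries K} (hH : LocRes.IsHasseFamily t H)

theorem isGeometric_of_isAlgClosed : IsGeometric k K := by
  intro k' _ _ hfin
  haveI := hfin
  haveI : Algebra.IsIntegral k k' := Algebra.IsIntegral.of_finite _ _
  have hb := IsAlgClosed.algebraMap_bijective_of_isIntegral (k := k) (K := k')
  -- k' ≅ k
  let e : k ≃ₐ[k] k' := AlgEquiv.ofBijective (Algebra.ofId k k') hb
  have e2 : TensorProduct k k' K ≃+* K :=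
    ((Algebra.TensorProduct.congr e.symm (AlgEquiv.refl (R := k) (A₁ := K))).trans
      (Algebra.TensorProduct.lid k K)).toRingEquiv
  exact e2.toMulEquiv.isField (Field.toIsField K)

include hK hφ ht hH

theorem phi_hasseD {x : K} (hx : P.1 x ≤ 1) (n : ℕ) :
    φ (LocRes.hasseD H n x) = LaurentSeries.hasseDeriv k n (φ x) :=
  Groth.Agent.S12583.result k K hK isGeometric_of_isAlgClosed P k φ hφ t ht H hH x hx n

theorem coeff_phi_hasseD {x : K} (hx : P.1 x ≤ 1) (n : ℕ) (m : ℕ) :
    (φ (LocRes.hasseD H n x)).coeff (m : ℤ) = ((m + n).choose n : k) * (φ x).coeff ((m + n : ℕ) : ℤ) := by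
  rw [phi_hasseD hK hφ ht hH hx, LaurentSeries.hasseDeriv_coeff]
  have h1 : Ring.choose ((m : ℤ) + (n : ℤ)) n = ((m + n).choose n : ℤ) := by
    have := Ring.choose_natCast (R := ℤ) (m + n) n
    push_cast at this
    exact this
  rw [h1]
  push_cast
  rw [zsmul_eq_mul]
  push_cast
  rfl

theorem val_hasseD_le_one {x : K} (hx : P.1 x ≤ 1) (n : ℕ) : P.1 (LocRes.hasseD H n x) ≤ 1 := by
  have := (val_le_exp_iff hφ (LocRes.hasseD H n x) 0)
  rw [neg_zero, exp_zero] at this
  rw [this]
  intro m hm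
  rw [phi_hasseD hK hφ ht hH hx, LaurentSeries.hasseDeriv_coeff]
  by_cases h : m + (n : ℤ) < 0
  · rw [coeff_neg_eq_zero hφ hx h, smul_zero]
  · obtain ⟨j, hj⟩ := Int.eq_ofNat_of_zero_le (not_lt.mp h)
    rw [hj]
    have h1 : Ring.choose ((j : ℕ) : ℤ) n = (j.choose n : ℤ) := Ring.choose_natCast (R := ℤ) j n
    rw [h1, Nat.choose_eq_zero_of_lt (by omega)]
    simp

theorem evalP_hasseD {x : K} (hx : P.1 x ≤ 1) (n : ℕ) :
    evalP P (LocRes.hasseD H n x) =
      algebraMap k (IsLocalRing.ResidueField P.O) ((φ x).coeff (n : ℤ)) := by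
  rw [evalP_eq hφ (val_hasseD_le_one hK hφ ht hH hx n)]
  congr 1
  have := coeff_phi_hasseD hK hφ ht hH hx n 0
  simp only [Nat.cast_zero, zero_add, Nat.choose_self, Nat.cast_one, one_mul] at this
  exact this

end Hasse

theorem algebraMap_residue_bijective (hK : IsFunctionField k K) [IsAlgClosed k] (P : Place k K) :
    Function.Bijective (algebraMap k (IsLocalRing.ResidueField P.O)) := by
  refine ⟨(algebraMap k (IsLocalRing.ResidueField P.O)).injective, ?_⟩
  intro w
  obtain ⟨⟨z, hz⟩, rfl⟩ := IsLocalRing.residue_surjective (R := P.O) w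
  obtain ⟨φ, hφ⟩ := exists_expansion' hK P
  refine ⟨(φ z).coeff 0, ?_⟩
  have := evalP_eq hφ (z := z) hz
  have e : evalP P z = IsLocalRing.residue P.O ⟨z, hz⟩ := by
    unfold evalP
    exact dif_pos hz
  rw [e] at this
  exact this.symm

end HasseExp

end Groth.Agent.Lib.helper10
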