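import Mathlib
import Groth.Agent.Lib.Helper10.HasseExp2

/-!
Orders at a place: jumps of the matrix of values of Hasse derivatives are the vanishing orders of
the functions in the span (helper10).
-/

set_option autoImplicit false
set_option linter.unusedSectionVars false
set_option linter.unusedVariables false
set_option linter.style.haveILetI false

universe u v

open WithZero FunFld

namespace Groth.Agent.Lib.helper10

namespace HasseExp

variable {k : Type u} {K : Type v} [Field k] [Field K] [Algebra k K]

section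

variable (hK : IsFunctionField k K) [IsAlgClosed k] {P : Place k K}
  {Φ : K →ₐ[k] LaurentSeries k} (hΦ : LocRes.IsExpansionAt P.1 Φ)
  {t : K} (hΦt : Φ t = HahnSeries.single 1 1)
  {H : K →ₐ[k] PowerSeries K} (hH : LocRes.IsHasseFamily t H)
  {ι : Type*} [Fintype ι] (φ : ι → K) (hint : ∀ i, P.1 (φ i) ≤ 1)

theorem coeff_smul' (Φ : K →ₐ[k] LaurentSeries k) (c : k) (x : K) (m : ℤ) :
    (Φ (c • x)).coeff m = c * (Φ x).coeff m := by
  rw [Algebra.smul_def, map_mul, LocRes.map_algebraMap, HahnSeries.C_mul_eq_smul,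
    HahnSeries.coeff_smul, smul_eq_mul]
  rfl

theorem coeff_sum_smul (Φ : K →ₐ[k] LaurentSeries k) (c : ι → k) (m : ℤ) :
    (Φ (∑ i, c i • φ i)).coeff m = ∑ i, c i * (Φ (φ i)).coeff m := by
  rw [map_sum, HahnSeries.coeff_sum]
  exact Finset.sum_congr rfl fun i _ => coeff_smul' Φ (c i) (φ i) m

include hint in
theorem val_sum_smul_le_one (c : ι → k) : P.1 (∑ i, c i • φ i) ≤ 1 := by
  apply Valuation.map_sum_le
  intro i _
  rw [Algebra.smul_def, map_mul]
  calc _ ≤ 1 * 1 := mul_le_mul' (P.2.1 (c i)) (hint i)
    _ = 1 := one_mul 1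

include hK hΦ hΦt hH hint

theorem hcolAt_succ (j : ℕ) (i : ι) :
    hcolAt P H φ (j + 1) i = algebraMap k (IsLocalRing.ResidueField P.O) ((Φ (φ i)).coeff (j : ℤ)) :=
  evalP_hasseD hK hΦ hΦt hH (hint i) j

theorem hcolAt_zero (i : ι) :
    hcolAt P H φ 0 i = algebraMap k (IsLocalRing.ResidueField P.O) ((Φ (φ i)).coeff 0) :=
  evalP_eq hΦ (hint i)

/-- Pairing a constant vector with a column. -/
theorem pair_hcolAt_succ (c : ι → k) (j : ℕ) :
    ∑ i, algebraMap k (IsLocalRing.ResidueField P.O) (c i) * hcolAt P H φ (j + 1) i =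
      algebraMap k (IsLocalRing.ResidueField P.O) ((Φ (∑ i, c i • φ i)).coeff (j : ℤ)) := by
  rw [coeff_sum_smul, map_sum]
  refine Finset.sum_congr rfl fun i _ => ?_
  rw [hcolAt_succ hK hΦ hΦt hH φ hint, map_mul]

theorem pair_hcolAt_zero (c : ι → k) :
    ∑ i, algebraMap k (IsLocalRing.ResidueField P.O) (c i) * hcolAt P H φ 0 i =
      algebraMap k (IsLocalRing.ResidueField P.O) ((Φ (∑ i, c i • φ i)).coeff 0) := by
  rw [coeff_sum_smul, map_sum]
  refine Finset.sum_congr rfl fun i _ => ?_
  rw [hcolAt_zero hK hΦ hΦt hH φ hint, map_mul]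

/-- The jumps of the matrix of values at `P` are the positive vanishing orders of the functions in
the span. -/
theorem isJump_succ_iff (j : ℕ) :
    IsJump (IsLocalRing.ResidueField P.O) (hcolAt P H φ) (j + 1) ↔
      1 ≤ j ∧ ∃ f ∈ Submodule.span k (Set.range φ), P.1 f = exp (-(j : ℤ)) := by
  classical
  set κ := IsLocalRing.ResidueField P.O with hκ
  constructor
  · intro hjump
    unfold IsJump at hjump
    obtain ⟨L, hL1, hL2⟩ := Submodule.exists_dual_map_eq_bot_of_notMem hjump inferInstance
    have hLz : ∀ m, m < j + 1 → L (hcolAt P H φ m) = 0 := by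
      intro m hm
      have : L (hcolAt P H φ m) ∈ Submodule.map L (Submodule.span κ (hcolAt P H φ '' Set.Iio (j + 1))) :=
        Submodule.mem_map_of_mem (Submodule.subset_span ⟨m, hm, rfl⟩)
      rw [hL2] at this
      exact (Submodule.mem_bot κ).mp this
    -- the coefficients of L, lifted to k
    have hsurj := (algebraMap_residue_bijective hK P).2
    choose c hc using fun i : ι => hsurj (L (Pi.single i 1))
    have hLc : ∀ w : ι → κ, L w = ∑ i, algebraMap k κ (c i) * w i := by
      intro w
      conv_lhs => rw [← Finset.univ_sum_single w]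
      rw [map_sum]
      refine Finset.sum_congr rfl fun i _ => ?_
      have : (Pi.single i (w i) : ι → κ) = w i • Pi.single i 1 := by
        rw [← Pi.single_smul, smul_eq_mul, mul_one]
      rw [this, map_smul, smul_eq_mul, hc, mul_comm]
    set f := ∑ i, c i • φ i with hf
    have hfm : ∀ m : ℕ, algebraMap k κ ((Φ f).coeff (m : ℤ)) = L (hcolAt P H φ (m + 1)) := by
      intro m
      rw [hLc, pair_hcolAt_succ hK hΦ hΦt hH φ hint]
    have hj1 : 1 ≤ j := by
      by_contra h
      obtain rfl : j = 0 := by omega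
      apply hL1
      have e : hcolAt P H φ (0 + 1) = hcolAt P H φ 0 := by
        funext i
        rw [hcolAt_succ hK hΦ hΦt hH φ hint, hcolAt_zero hK hΦ hΦt hH φ hint]
        rfl
      rw [e]
      exact hLz 0 (by omega)
    refine ⟨hj1, f, ?_, ?_⟩
    · exact Submodule.sum_mem _ fun i _ => Submodule.smul_mem _ _ (Submodule.subset_span ⟨i, rfl⟩)
    · have hfint := val_sum_smul_le_one φ hint c
      have h1 : P.1 f ≤ exp (-(j : ℤ)) := by
        rw [val_le_exp_iff hΦ]
        intro m hm
        by_cases hm0 : m < 0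
        · exact coeff_neg_eq_zero hΦ hfint hm0
        · obtain ⟨m', rfl⟩ := Int.eq_ofNat_of_zero_le (not_lt.mp hm0)
          apply (algebraMap k κ).injective
          rw [map_zero, hfm]
          exact hLz (m' + 1) (by omega)
      have h2 : ¬ P.1 f ≤ exp (-((j + 1 : ℕ) : ℤ)) := by
        rw [val_le_exp_iff hΦ]
        intro h
        apply hL1
        rw [← hfm, h (j : ℤ) (by push_cast; omega), map_zero]
      -- discreteness
      have hf0 : P.1 f ≠ 0 := by
        intro h0
        apply h2
        rw [h0]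
        exact zero_le
      obtain ⟨m, hm⟩ : ∃ m : ℤ, P.1 f = exp m := ⟨log _, (exp_log hf0).symm⟩
      rw [hm] at h1 h2 ⊢
      rw [exp_le_exp] at h1 h2
      congr 1
      push_cast at h2
      omega
  · rintro ⟨hj1, f, hfmem, hfv⟩
    obtain ⟨c, rfl⟩ := (Submodule.mem_span_range_iff_exists_fun k).mp hfmem
    unfold IsJump
    intro hmem
    -- the functional
    let L : (ι → κ) →ₗ[κ] κ :=
      { toFun := fun w => ∑ i, algebraMap k κ (c i) * w i
        map_add' := fun w w' => by
          simp only [Pi.add_apply, mul_add, Finset.sum_add_distrib]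
        map_smul' := fun a w => by
          simp only [Pi.smul_apply, smul_eq_mul, RingHom.id_apply]
          rw [Finset.mul_sum]
          refine Finset.sum_congr rfl fun i _ => ?_
          ring }
    have hLz : ∀ w ∈ Submodule.span κ (hcolAt P H φ '' Set.Iio (j + 1)), L w = 0 := by
      intro w hw
      refine Submodule.span_induction ?_ ?_ ?_ ?_ hw
      · rintro _ ⟨m, hm, rfl⟩
        have hfc : ∀ m' : ℤ, m' < j → (Φ (∑ i, c i • φ i)).coeff m' = 0 :=
          (val_le_exp_iff hΦ _ _).mp (le_of_eq hfv)
        rcases m with _ | m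
        · change ∑ i, algebraMap k κ (c i) * hcolAt P H φ 0 i = 0
          rw [pair_hcolAt_zero hK hΦ hΦt hH φ hint, hfc 0 (by omega), map_zero]
        · change ∑ i, algebraMap k κ (c i) * hcolAt P H φ (m + 1) i = 0
          have hm' : m < j := by
            have : m + 1 < j + 1 := hm
            omega
          rw [pair_hcolAt_succ hK hΦ hΦt hH φ hint, hfc m (by omega), map_zero]
      · exact map_zero L
      · intro x y _ _ hx hy
        rw [map_add, hx, hy, add_zero]
      · intro a x _ hx
        rw [map_smul, hx, smul_zero]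
    have h1 := hLz _ hmem
    change ∑ i, algebraMap k κ (c i) * hcolAt P H φ (j + 1) i = 0 at h1
    rw [pair_hcolAt_succ hK hΦ hΦt hH φ hint] at h1
    have h2 : (Φ (∑ i, c i • φ i)).coeff (j : ℤ) = 0 :=
      (algebraMap k κ).injective (by rw [h1, map_zero])
    -- then the valuation would be smaller
    have h3 : P.1 (∑ i, c i • φ i) ≤ exp (-((j + 1 : ℕ) : ℤ)) := by
      rw [val_le_exp_iff hΦ]
      intro m hm
      rcases lt_or_eq_of_le (show m ≤ (j : ℤ) by push_cast at hm; omega) with h | rfl
      · exact (val_le_exp_iff hΦ _ _).mp (le_of_eq hfv) m h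
      · exact h2
    rw [hfv, exp_le_exp] at h3
    push_cast at h3
    omega

end

end HasseExp

end Groth.Agent.Lib.helper10
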