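import Mathlib
import Groth.Agent.Lib.Helper10.HasseExp3

/-!
Adapted bases at a place (helper10): a basis of the span of `φ` whose members have the orders of
`φ` at `P` with leading coefficient one, together with the constant change-of-basis matrix.
-/

set_option autoImplicit false
set_option linter.unusedSectionVars false
set_option linter.unusedVariables false
set_option linter.style.haveILetI false

universe u v

open WithZero FunFld

namespace Groth.Agent.Lib.helper10

namespace HasseExp

variable {k : Type u} {K : Type v} [Field k] [Field K] [Algebra k K]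

theorem linearIndependent_of_val_injective
    (P : Place k K) {ι : Type*} [Fintype ι] (z : ι → K) (hz0 : ∀ i, z i ≠ 0)
    (hinj : Function.Injective (fun i => P.1 (z i))) : LinearIndependent k z := by
  classical
  rw [Fintype.linearIndependent_iff]
  intro g hsum i
  by_contra hgi
  have hv : ∀ i, g i ≠ 0 → P.1 (g i • z i) = P.1 (z i) := by
    intro i hi
    rw [Algebra.smul_def, map_mul, FF.trivOn_of_le_one P.2.1 (g i) hi, one_mul]
  apply FF.sum_ne_zero_of_injOn P.1 Finset.univ (fun i => g i • z i) _ ⟨i, Finset.mem_univ _, ?_⟩ hsum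
  · intro i _ j _ hfi hfj heq
    have hgi0 : g i ≠ 0 := by
      intro h; apply hfi; rw [h, zero_smul]
    have hgj0 : g j ≠ 0 := by
      intro h; apply hfj; rw [h, zero_smul]
    rw [hv i hgi0, hv j hgj0] at heq
    exact hinj heq
  · exact smul_ne_zero hgi (hz0 i)

/-- The order exponents `(0, J 0, …, J (n-1))`. -/
def alpha {n : ℕ} (J : Fin n → ℕ) : Fin (n + 1) → ℕ := Fin.cases 0 J

@[simp] theorem alpha_zero {n : ℕ} (J : Fin n → ℕ) : alpha J 0 = 0 := rfl
@[simp] theorem alpha_succ {n : ℕ} (J : Fin n → ℕ) (l : Fin n) : alpha J l.succ = J l := rfl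

theorem val_of_sub_one_lt (P : Place k K) {z : K} (hz : P.1 (z - 1) < 1) : P.1 z = 1 := by
  have e : z = 1 + (z - 1) := by ring
  rw [e]
  have := Valuation.map_add_eq_of_lt_left P.1 (x := 1) (y := z - 1) (by rw [map_one]; exact hz)
  rw [this, map_one]

/-- Existence of an adapted basis with its constant transition matrix. -/
theorem exists_adapted (hK : IsFunctionField k K) [IsAlgClosed k] (P : Place k K) {n : ℕ}
    (φ : Fin (n + 1) → K) (hφ : LinearIndependent k φ)
    (heff : (1 : K) ∈ Submodule.span k (Set.range φ)) (hnorm : ∀ i, P.1 (φ i) ≤ 1)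
    (t : K) (ht : P.1 t = exp (-1 : ℤ))
    (Ht : K →ₐ[k] PowerSeries K) (hHt : LocRes.IsHasseFamily t Ht)
    (J' : Fin n → ℕ) (hJ' : IsOrders (IsLocalRing.ResidueField P.O) (hcolAt P Ht φ) J') :
    ∃ (φ' : Fin (n + 1) → K) (A : Matrix (Fin (n + 1)) (Fin (n + 1)) k), A.det ≠ 0 ∧
      (∀ i, φ' i = ∑ j, A i j • φ j) ∧ LinearIndependent k φ' ∧
      (∀ i, P.1 (φ' i / t ^ alpha J' i - 1) < 1) ∧ ∀ l, 1 ≤ J' l := by
  classical
  obtain ⟨Φ, hΦ, hΦt⟩ := exists_expansion hK P t ht
  have hjump := fun j => isJump_succ_iff hK hΦ hΦt hHt φ hnorm j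
  have hex : ∀ l : Fin n, 1 ≤ J' l ∧ ∃ f ∈ Submodule.span k (Set.range φ),
      P.1 f = exp (-(J' l : ℤ)) :=
    fun l => (hjump (J' l)).mp ((hJ'.2 (J' l)).mp ⟨l, rfl⟩)
  choose h1 f hfmem hfv using hex
  have hu : ∀ l, P.1 (f l / t ^ J' l) = 1 := by
    intro l
    rw [map_div₀, map_pow, hfv, ht, ← exp_nsmul, ← exp_sub]
    simp
  have hc : ∀ l, ∃ a : k, P.1 (f l / t ^ J' l - algebraMap k K a) < 1 :=
    fun l => FF.Place.exists_const_sub_lt hK P (hu l).le
  choose a ha using hc
  have ha0 : ∀ l, a l ≠ 0 := by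
    intro l h
    have := ha l
    rw [h, map_zero, sub_zero, hu] at this
    exact lt_irrefl _ this
  set φ' : Fin (n + 1) → K := Fin.cons 1 (fun l => (a l)⁻¹ • f l) with hφ'
  have hmem : ∀ i, φ' i ∈ Submodule.span k (Set.range φ) := by
    intro i
    refine Fin.cases ?_ (fun l => ?_) i
    · simpa [hφ'] using heff
    · simp only [hφ', Fin.cons_succ]
      exact Submodule.smul_mem _ _ (hfmem l)
  have hclose : ∀ i, P.1 (φ' i / t ^ alpha J' i - 1) < 1 := by
    intro i
    refine Fin.cases ?_ (fun l => ?_) i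
    · simp [hφ']
    · simp only [hφ', Fin.cons_succ, alpha_succ]
      have e : (a l)⁻¹ • f l / t ^ J' l - 1
          = algebraMap k K (a l)⁻¹ * (f l / t ^ J' l - algebraMap k K (a l)) := by
        rw [Algebra.smul_def, mul_sub, ← map_mul, inv_mul_cancel₀ (ha0 l), map_one]
        ring
      rw [e, map_mul, FF.trivOn_of_le_one P.2.1 _ (inv_ne_zero (ha0 l)), one_mul]
      exact ha l
  have hvals : ∀ i, P.1 (φ' i) = exp (-(alpha J' i : ℤ)) := by
    intro i
    have h2 := val_of_sub_one_lt P (hclose i)
    rw [map_div₀, map_pow, ht, ← exp_nsmul] at h2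
    have h3 : P.1 (φ' i) = exp ((alpha J' i) • (-1 : ℤ)) := by
      have hne : exp ((alpha J' i) • (-1 : ℤ)) ≠ 0 := exp_ne_zero
      field_simp at h2
      exact h2
    rw [h3]
    congr 1
    simp
  have hli : LinearIndependent k φ' := by
    apply linearIndependent_of_val_injective P
    · intro i h
      have := hvals i
      rw [h, map_zero] at this
      exact exp_ne_zero this.symm
    · intro i j hij
      simp only at hij
      rw [hvals, hvals, exp_inj] at hij
      have hα : alpha J' i = alpha J' j := by omega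
      revert hα
      refine Fin.cases ?_ (fun l => ?_) i <;> refine Fin.cases ?_ (fun l' => ?_) j
      · intro _; rfl
      · simp only [alpha_zero, alpha_succ]
        intro h
        have := h1 l'
        omega
      · simp only [alpha_zero, alpha_succ]
        intro h
        have := h1 l
        omega
      · simp only [alpha_succ]
        intro h
        rw [hJ'.1.injective h]
  have hA : ∀ i, ∃ c : Fin (n + 1) → k, ∑ j, c j • φ j = φ' i :=
    fun i => (Submodule.mem_span_range_iff_exists_fun k).mp (hmem i)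
  choose A hA using hA
  refine ⟨φ', Matrix.of A, ?_, fun i => (hA i).symm, hli, hclose, h1⟩
  intro hdet
  obtain ⟨w, hw0, hw⟩ := Matrix.exists_vecMul_eq_zero_iff.mpr hdet
  have hzero : ∑ i, w i • φ' i = 0 := by
    have : ∑ i, w i • φ' i = ∑ j, (Matrix.vecMul w (Matrix.of A)) j • φ j := by
      simp only [← hA, Finset.smul_sum, smul_smul]
      rw [Finset.sum_comm]
      refine Finset.sum_congr rfl fun j _ => ?_
      rw [← Finset.sum_smul]
      congr 1
    rw [this, hw]
    simp
  apply hw0
  funext i
  exact (Fintype.linearIndependent_iff.mp hli) w hzero i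

end HasseExp

end Groth.Agent.Lib.helper10
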