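import Mathlib
import Groth.Agent.Lib.Helper10.HasseExp4
import Groth.Agent.Lib.Helper10.HasseExp5

/-!
The order at a fixed place of a generalized Wronskian of an adapted basis (helper10).
-/

set_option autoImplicit false
set_option linter.unusedSectionVars false
set_option linter.unusedVariables false
set_option linter.style.haveILetI false

universe u v

open WithZero FunFld

namespace Groth.Agent.Lib.helper10

namespace HasseExp

variable {k : Type u} {K : Type v} [Field k] [Field K] [Algebra k K]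

section

variable {P : Place k K} {Φ : K →ₐ[k] LaurentSeries k} (hΦ : LocRes.IsExpansionAt P.1 Φ)

include hΦ

theorem coeff_eq_zero_of_val_le {z : K} {D : ℤ} (hz : P.1 z ≤ exp (-D)) {m : ℤ} (hm : m < D) :
    (Φ z).coeff m = 0 := (val_le_exp_iff hΦ z D).mp hz m hm

/-- `P.1 z = exp (-D)` iff the coefficient at `D` is the first nonzero one. -/
theorem val_eq_exp_iff {z : K} {D : ℤ} (hz : P.1 z ≤ exp (-D)) :
    P.1 z = exp (-D) ↔ (Φ z).coeff D ≠ 0 := by
  constructor
  · intro h hc
    have h1 : P.1 z ≤ exp (-(D + 1)) := by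
      rw [val_le_exp_iff hΦ]
      intro m hm
      rcases lt_or_eq_of_le (show m ≤ D by omega) with h' | rfl
      · exact coeff_eq_zero_of_val_le hΦ hz h'
      · exact hc
    rw [h, exp_le_exp] at h1
    omega
  · intro hc
    apply le_antisymm hz
    by_contra hlt
    have h1 := FF.le_exp_pred_of_lt_exp (not_le.mp hlt)
    apply hc
    apply coeff_eq_zero_of_val_le hΦ (D := D + 1)
    · have e : -(D + 1) = -D - 1 := by ring
      rw [e]; exact h1
    · omega

/-- An element close to `t ^ α`: its expansion starts with `X ^ α`. -/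
theorem coeff_of_close {t : K} (hΦt : Φ t = HahnSeries.single 1 1) (ht : P.1 t = exp (-1 : ℤ))
    {z : K} {α : ℕ} (hz : P.1 (z / t ^ α - 1) < 1) :
    P.1 z = exp (-(α : ℤ)) ∧ (Φ z).coeff (α : ℤ) = 1 ∧ ∀ m : ℤ, m < α → (Φ z).coeff m = 0 := by
  have ht0 : t ≠ 0 := by
    intro h
    rw [h, map_zero] at ht
    exact exp_ne_zero.symm ht
  have htα : P.1 (t ^ α) = exp (-(α : ℤ)) := by
    rw [map_pow, ht, ← exp_nsmul]
    congr 1
    simp
  have hv : P.1 z = exp (-(α : ℤ)) := by
    have h2 := val_of_sub_one_lt P hz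
    rw [map_div₀, htα] at h2
    have hne : exp (-(α : ℤ)) ≠ 0 := exp_ne_zero
    field_simp at h2
    exact h2
  have hd : P.1 (z - t ^ α) ≤ exp (-((α : ℤ) + 1)) := by
    have e : z - t ^ α = t ^ α * (z / t ^ α - 1) := by
      field_simp
    rw [e, map_mul, htα]
    have h3 : P.1 (z / t ^ α - 1) ≤ exp (-1 : ℤ) := lt_one_iff_le_exp.mp hz
    calc _ ≤ exp (-(α : ℤ)) * exp (-1 : ℤ) := mul_le_mul' le_rfl h3
      _ = _ := by rw [← exp_add]; congr 1; ring
  have hX : Φ (t ^ α) = HahnSeries.single (α : ℤ) 1 := by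
    rw [map_pow, hΦt, HahnSeries.single_pow, one_pow]
    congr 1
    simp
  have hcm : ∀ m : ℤ, m < (α : ℤ) + 1 → (Φ z).coeff m = (HahnSeries.single (α : ℤ) (1 : k)).coeff m := by
    intro m hm
    have := coeff_eq_zero_of_val_le hΦ hd hm
    rw [map_sub, HahnSeries.coeff_sub, hX, sub_eq_zero] at this
    exact this
  refine ⟨hv, ?_, ?_⟩
  · rw [hcm _ (by omega), HahnSeries.coeff_single_same]
  · intro m hm
    rw [hcm _ (by omega), HahnSeries.coeff_single_of_ne (by omega)]

end

section Fixed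

variable {P : Place k K} {τ : K →ₐ[k] K}

theorem val_tau_sub_one_lt (hP : IsFixedPt τ P) {u : K} (hu : P.1 (u - 1) < 1) :
    P.1 (τ u - 1) < 1 := by
  have := hP (u - 1) hu
  rwa [map_sub, map_one] at this

theorem val_tau_le_of_close (hP : IsFixedPt τ P) {t : K} (ht : P.1 t = exp (-1 : ℤ))
    {z : K} {α : ℕ} (hz : P.1 (z / t ^ α - 1) < 1) {e : ℕ} (he : P.1 (τ t) ≤ exp (-(e : ℤ))) :
    P.1 (τ z) ≤ exp (-((e * α : ℕ) : ℤ)) := by
  have ht0 : t ≠ 0 := by
    intro h
    rw [h, map_zero] at ht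
    exact exp_ne_zero.symm ht
  have e1 : z = t ^ α * (z / t ^ α) := by field_simp
  have h1 := val_of_sub_one_lt P (val_tau_sub_one_lt hP hz)
  rw [e1, map_mul, map_mul, h1, mul_one, map_pow, map_pow]
  calc P.1 (τ t) ^ α ≤ (exp (-(e : ℤ))) ^ α := pow_le_pow_left₀ zero_le he α
    _ = _ := by
      rw [← exp_nsmul]
      congr 1
      simp
      ring

end Fixed

end HasseExp

end Groth.Agent.Lib.helper10
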