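import Mathlib
import Groth.Agent.Lib.Helper10.HasseExp6

/-!
The order at a fixed place of a generalized Wronskian of an adapted basis (helper10), main lemma.
-/

set_option autoImplicit false
set_option linter.unusedSectionVars false
set_option linter.unusedVariables false
set_option linter.style.haveILetI false

universe u v

open WithZero FunFld

namespace Groth.Agent.Lib.helper10

namespace HasseExp

variable {k : Type u} {K : Type v} [Field k] [Field K] [Algebra k K]

theorem sum_alpha {n : ℕ} (J I : Fin n → ℕ) :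
    (∑ i, (alpha J i : ℤ)) - ∑ c, (alpha I c : ℤ) = ∑ l, ((J l : ℤ) - I l) := by
  rw [Fin.sum_univ_succ, Fin.sum_univ_succ, Finset.sum_sub_distrib]
  simp

/-- The leading matrix has determinant the binomial determinant if its first row or its first
column is `(1, 0, …, 0)`. -/
theorem det_lead {n : ℕ} (m : Matrix (Fin (n + 1)) (Fin (n + 1)) k) (h00 : m 0 0 = 1)
    (h : (∀ l : Fin n, m 0 l.succ = 0) ∨ (∀ r : Fin n, m r.succ 0 = 0)) :
    m.det = (m.submatrix Fin.succ Fin.succ).det := by
  rcases h with h | h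
  · rw [Matrix.det_succ_row_zero, Fin.sum_univ_succ]
    simp only [Fin.val_zero, pow_zero, one_mul, h00, Fin.succAbove_zero]
    rw [Finset.sum_eq_zero, add_zero]
    intro l _
    rw [h l, mul_zero, zero_mul]
  · rw [Matrix.det_succ_column_zero, Fin.sum_univ_succ]
    simp only [Fin.val_zero, pow_zero, one_mul, h00, Fin.succAbove_zero]
    rw [Finset.sum_eq_zero, add_zero]
    intro r _
    rw [h r, mul_zero, zero_mul]

/-- Local computation of the order of a generalized Wronskian for an adapted tuple. -/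
theorem val_det_wrMat_adapted (hK : IsFunctionField k K) [IsAlgClosed k] (τ : K →ₐ[k] K)
    (P : Place k K) (hP : IsFixedPt τ P) {n : ℕ} (φ' : Fin (n + 1) → K)
    (t : K) (ht : P.1 t = exp (-1 : ℤ))
    (Ht : K →ₐ[k] PowerSeries K) (hHt : LocRes.IsHasseFamily t Ht)
    (J : Fin n → ℕ) (hJ1 : ∀ l, 1 ≤ J l)
    (hclose : ∀ i, P.1 (φ' i / t ^ alpha J i - 1) < 1) (I : Fin n → ℕ) :
    P.1 (wrMat τ Ht φ' I).det ≤ exp (-(∑ l, ((J l : ℤ) - I l))) ∧
    (((∀ l, 0 < I l) ∨ IsStrongFixedPt τ P) →
      (P.1 (wrMat τ Ht φ' I).det = exp (-(∑ l, ((J l : ℤ) - I l))) ↔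
        (binomMat k J I).det ≠ 0)) := by
  classical
  obtain ⟨Φ, hΦ, hΦt⟩ := exists_expansion hK P t ht
  set W := wrMat τ Ht φ' I with hW
  set M : Matrix (Fin (n + 1)) (Fin (n + 1)) (LaurentSeries k) := Φ.toRingHom.mapMatrix W with hM
  have hdetM : Φ W.det = M.det := RingHom.map_det Φ.toRingHom W
  have hcl := fun i => coeff_of_close hΦ hΦt ht (hclose i)
  have hint : ∀ i, P.1 (φ' i) ≤ 1 := by
    intro i
    rw [(hcl i).1, ← exp_zero, exp_le_exp]
    omega
  have htlt : P.1 t < 1 := by
    rw [ht, ← exp_zero, exp_lt_exp]; omega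
  have hτt1 : P.1 (τ t) ≤ exp (-((1 : ℕ) : ℤ)) := lt_one_iff_le_exp.mp (hP t htlt)
  -- entries
  have hM0 : ∀ i, M i 0 = Φ (τ (φ' i)) := fun i => rfl
  have hMs : ∀ i (l : Fin n), M i l.succ = LaurentSeries.hasseDeriv k (I l) (Φ (φ' i)) := by
    intro i l
    change Φ (LocRes.hasseD Ht (I l) (φ' i)) = _
    exact phi_hasseD hK hΦ hΦt hHt (hint i) (I l)
  set a : Fin (n + 1) → ℤ := fun i => (alpha J i : ℤ) with ha
  set b : Fin (n + 1) → ℤ := fun c => (alpha I c : ℤ) with hb
  have hvan : ∀ i c, ∀ m : ℤ, m < a i - b c → (M i c).coeff m = 0 := by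
    intro i c
    refine Fin.cases ?_ (fun l => ?_) c
    · intro m hm
      rw [hM0]
      have h1 := val_tau_le_of_close hP ht (hclose i) hτt1
      rw [one_mul] at h1
      apply coeff_eq_zero_of_val_le hΦ h1
      simpa [ha, hb] using hm
    · intro m hm
      rw [hMs, LaurentSeries.hasseDeriv_coeff, (hcl i).2.2, smul_zero]
      simp only [ha, hb, alpha_succ] at hm
      omega
  obtain ⟨hdet1, hdet2⟩ := det_laurent M a b hvan
  have hsum : ∑ i, a i - ∑ c, b c = ∑ l, ((J l : ℤ) - I l) := sum_alpha J I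
  rw [hsum] at hdet1 hdet2
  have hle : P.1 W.det ≤ exp (-(∑ l, ((J l : ℤ) - I l))) := by
    rw [val_le_exp_iff hΦ]
    intro m hm
    rw [hdetM]
    exact hdet1 m hm
  refine ⟨hle, fun hcase => ?_⟩
  rw [val_eq_exp_iff hΦ hle, hdetM, hdet2]
  -- the leading matrix
  set mm : Matrix (Fin (n + 1)) (Fin (n + 1)) k :=
    Matrix.of fun i c => (M i c).coeff (a i - b c) with hmm
  have hmms : ∀ i (l : Fin n), mm i l.succ = ((alpha J i).choose (I l) : k) := by
    intro i l
    simp only [hmm, Matrix.of_apply, ha, hb, alpha_succ]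
    rw [hMs, LaurentSeries.hasseDeriv_coeff]
    have e : ((alpha J i : ℤ) - (I l : ℤ) + (I l : ℤ)) = (alpha J i : ℤ) := by ring
    rw [e, (hcl i).2.1]
    have h1 : Ring.choose ((alpha J i : ℕ) : ℤ) (I l) = ((alpha J i).choose (I l) : ℤ) :=
      Ring.choose_natCast (R := ℤ) (alpha J i) (I l)
    rw [h1, zsmul_eq_mul, mul_one]
    push_cast
    rfl
  have hmm00 : mm 0 0 = 1 := by
    simp only [hmm, Matrix.of_apply, ha, hb, alpha_zero, Nat.cast_zero, sub_zero]
    rw [hM0]
    have h1 : P.1 (τ (φ' 0) / t ^ 0 - 1) < 1 := by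
      have := hclose 0
      simp only [alpha_zero, pow_zero, div_one] at this ⊢
      exact val_tau_sub_one_lt hP this
    have := (coeff_of_close hΦ hΦt ht h1).2.1
    simpa using this
  have hsub : mm.submatrix Fin.succ Fin.succ = binomMat k J I := by
    ext r l
    simp only [Matrix.submatrix_apply, hmms, alpha_succ, binomMat, Matrix.of_apply]
  have hdetmm : mm.det = (binomMat k J I).det := by
    rw [← hsub]
    apply det_lead mm hmm00
    rcases hcase with hI | hS
    · left
      intro l
      rw [hmms, alpha_zero, Nat.choose_eq_zero_of_lt (hI l), Nat.cast_zero]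
    · right
      intro r
      simp only [hmm, Matrix.of_apply, ha, hb, alpha_zero, alpha_succ, Nat.cast_zero, sub_zero]
      rw [hM0]
      have hτt2 : P.1 (τ t) ≤ exp (-((2 : ℕ) : ℤ)) := by
        have := hS t htlt
        simpa using this
      have h1 := val_tau_le_of_close hP ht (hclose r.succ) hτt2
      apply coeff_eq_zero_of_val_le hΦ h1
      simp only [alpha_succ]
      have := hJ1 r
      push_cast
      omega
  rw [hdetmm]

end HasseExp

end Groth.Agent.Lib.helper10
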