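import Mathlib
import Groth.Agent.Lib.Helper10.HasseExp7
import Groth.Agent.Lib.Helper10.HasseExp8
import Groth.Agent.Lib.Helper10.FunFld33

/-!
Auxiliary facts for the Weierstrass divisor at a place (helper10).
-/

set_option autoImplicit false
set_option linter.unusedSectionVars false
set_option linter.unusedVariables false
set_option linter.style.haveILetI false

universe u v

open WithZero FunFld

namespace Groth.Agent.Lib.helper10

namespace HasseExp

variable {k : Type u} {K : Type v} [Field k] [Field K] [Algebra k K]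

theorem det_binomMat_self {n : ℕ} (J : Fin n → ℕ) (hJ : StrictMono J) :
    (binomMat k J J).det = 1 := by
  rw [Matrix.det_of_isLowerTriangular]
  · apply Finset.prod_eq_one
    intro i _
    simp [binomMat]
  · intro i j hij
    have hij' : i < j := hij
    simp only [binomMat, Matrix.of_apply]
    rw [Nat.choose_eq_zero_of_lt (hJ hij'), Nat.cast_zero]

theorem evalP_ne_zero_iff (P : Place k K) {z : K} (hz : P.1 z ≤ 1) :
    evalP P z ≠ 0 ↔ P.1 z = 1 := by
  have e : evalP P z = IsLocalRing.residue P.O ⟨z, hz⟩ := by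
    unfold evalP
    exact dif_pos hz
  rw [e, Ne, FF.Place.residue_eq_zero_iff]
  constructor
  · intro h
    exact le_antisymm hz (not_lt.mp h)
  · intro h
    rw [h]
    exact lt_irrefl _

theorem evalP_eq_zero_of_not_le (P : Place k K) {z : K} (hz : ¬ P.1 z ≤ 1) : evalP P z = 0 := by
  unfold evalP
  exact dif_neg hz

/-- For `τ = id` the first column after the leading one is not a jump. -/
theorem not_isJump_one_id {ι : Type*} {s : K} {H : K →ₐ[k] PowerSeries K}
    (hH : LocRes.IsHasseFamily s H) (φ : ι → K) :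
    ¬ IsJump K (hcol (AlgHom.id k K) H φ) 1 := by
  unfold IsJump
  rw [not_not]
  apply Submodule.subset_span
  refine ⟨0, by simp, ?_⟩
  funext i
  change (AlgHom.id k K) (φ i) = LocRes.hasseD H 0 (φ i)
  rw [LocRes.hasseD_apply, PowerSeries.coeff_zero_eq_constantCoeff_apply, hH.2]
  rfl

theorem one_le_of_isOrders_id {n : ℕ} {s : K} {H : K →ₐ[k] PowerSeries K}
    (hH : LocRes.IsHasseFamily s H) (φ : Fin (n + 1) → K) (J : Fin n → ℕ)
    (hJ : IsOrders K (hcol (AlgHom.id k K) H φ) J) (l : Fin n) : 1 ≤ J l := by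
  by_contra h
  have h0 : J l = 0 := by omega
  have := (hJ.2 0).mp ⟨l, h0⟩
  exact not_isJump_one_id hH φ this

/-- A normalized effective tuple has divisor coefficient `0` at the place. -/
theorem mapDiv_eq_zero (hK : IsFunctionField k K) (P : Place k K) {ι : Type*} [Fintype ι]
    [Nonempty ι] (φ : ι → K) (h0 : ∀ i, φ i ≠ 0) (hnorm : ∀ i, P.1 (φ i) ≤ 1)
    (hunit : ∃ i, P.1 (φ i) = 1) : mapDiv k φ P = 0 := by
  obtain ⟨j, hj⟩ := FF.exists_argmax_gen φ P
  have h1 := FF.val_argmax_eq_gen hK φ h0 P j hj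
  obtain ⟨i, hi⟩ := hunit
  have h2 : P.1 (φ j) = 1 := le_antisymm (hnorm j) (le_of_eq_of_le hi.symm (hj i))
  rw [h2, ← exp_zero, exp_inj] at h1
  exact h1.symm

theorem exists_unit_of_one_mem (P : Place k K) {ι : Type*} [Fintype ι] (φ : ι → K)
    (heff : (1 : K) ∈ Submodule.span k (Set.range φ)) (hnorm : ∀ i, P.1 (φ i) ≤ 1) :
    ∃ i, P.1 (φ i) = 1 := by
  by_contra hcon
  push Not at hcon
  obtain ⟨c, hc⟩ := (Submodule.mem_span_range_iff_exists_fun k).mp heff
  have : P.1 (∑ i, c i • φ i) < 1 := by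
    apply Valuation.map_sum_lt P.1 one_ne_zero
    intro i _
    rw [Algebra.smul_def, map_mul]
    calc _ ≤ 1 * P.1 (φ i) := mul_le_mul' (P.2.1 (c i)) le_rfl
      _ = P.1 (φ i) := one_mul _
      _ < 1 := lt_of_le_of_ne (hnorm i) (hcon i)
  rw [hc, map_one] at this
  exact lt_irrefl _ this

/-- The differential of a local parameter has order zero, whatever expansion is used. -/
theorem divDiff_apply_uniformizer (Φ : Place k K → (K →ₐ[k] LaurentSeries k))
    (hΦ : ∀ P : Place k K, LocRes.IsExpansionAt P.1 (Φ P)) (P : Place k K) {t : K}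
    (ht : P.1 t = exp (-1 : ℤ)) : divDiff Φ 1 t P = 0 := by
  classical
  unfold divDiff
  split_ifs with hfin
  · change LocRes.ordDiff (Φ P) 1 t = 0
    unfold LocRes.ordDiff LocRes.vDiff
    rw [map_one, one_mul]
    have h1 : Valued.v (Φ P t) = exp (-(1 : ℤ)) := by rw [(hΦ P).1, ht]
    have h2 := FF.val_D_eq h1 (by simp)
    rw [h2]
    simp
  · rfl

end HasseExp

end Groth.Agent.Lib.helper10
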