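import Groth.Agent.Lib.Helper10.LocRes1
import Groth.Agent.S11003

/-!
Local residues through Laurent expansions (helper10), part 5: change of differential through the
one-dimensionality of the Kähler differentials; independence of the different exponent of the
differential (S12571), tame and wild different exponents (S12570).
-/

set_option autoImplicit false
set_option linter.unusedSectionVars false
set_option linter.style.haveILetI false

universe u v w

open FunFld Polynomial

namespace Groth.Agent.Lib.helper10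

namespace FF

open LaurentSeries

section Kaehler

variable {k : Type u} {K : Type v} [Field k] [Field K] [Algebra k K]

/-- A relation between Kähler differentials is seen by every expansion. -/
theorem D_eq_mul_of_kaehler {F : Type w} [Field F] [Algebra k F] {x x' u : K}
    (h : KaehlerDifferential.D k K x' = u • KaehlerDifferential.D k K x)
    (χ : K →ₐ[k] LaurentSeries F) :
    LocRes.D F (χ x') = χ u * LocRes.D F (χ x) := by
  letI := χ.toRingHom.toAlgebra
  haveI := LocRes.isScalarTower_exp χ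
  have h1 := congrArg (LocRes.dExp χ).liftKaehlerDifferential h
  rw [Derivation.liftKaehlerDifferential_comp_D, map_smul,
    Derivation.liftKaehlerDifferential_comp_D] at h1
  exact h1

theorem kaehler_D_ne_zero_of {F : Type w} [Field F] [Algebra k F] {x : K}
    (χ : K →ₐ[k] LaurentSeries F) (h : LocRes.D F (χ x) ≠ 0) :
    KaehlerDifferential.D k K x ≠ 0 := by
  intro h0
  apply h
  have := D_eq_mul_of_kaehler (x := x) (x' := x) (u := 0) (by rw [h0, zero_smul]) χ
  rw [this, map_zero, zero_mul]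

theorem exists_kaehler_eq_smul (hK : IsFunctionField k K) (hg : IsGeometric k K) {x : K}
    (hx : KaehlerDifferential.D k K x ≠ 0) (x' : K) :
    ∃ u : K, KaehlerDifferential.D k K x' = u • KaehlerDifferential.D k K x := by
  have h1 := Groth.Agent.S11003.result k K hK hg
  obtain ⟨u, hu⟩ := (finrank_eq_one_iff_of_nonzero' _ hx).mp h1 (KaehlerDifferential.D k K x')
  exact ⟨u, hu.symm⟩

end Kaehler

section CharCast

theorem natCast_eq_zero_iff_ringChar_dvd (k : Type u) (K : Type v) [Field k] [Field K]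
    [Algebra k K] {F' : Type w} [Field F'] [Algebra k F'] (e : ℕ) :
    ((e : ℤ) : F') = 0 ↔ ringChar K ∣ e := by
  rw [Int.cast_natCast, ← ringChar.spec K e, ← map_natCast (algebraMap k F') e,
    ← map_natCast (algebraMap k K) e, _root_.map_eq_zero_iff _ (algebraMap k F').injective,
    _root_.map_eq_zero_iff _ (algebraMap k K).injective]

end CharCast

section Different

variable {k : Type u} {K K' : Type v} [Field k] [Field K] [Field K'] [Algebra k K]
  [Algebra K K'] [Algebra k K'] [IsScalarTower k K K']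
  {F F' : Type w} [Field F] [Algebra k F] [Field F'] [Algebra k F']

theorem ordL_eq_of_isOverWith {P : Place k K} {Q : Place k K'} {e : ℕ} (he : IsOverWith Q P e)
    {φ : K →ₐ[k] LaurentSeries F} (hφ : LocRes.IsExpansionAt P.1 φ)
    {ψ : K' →ₐ[k] LaurentSeries F'} (hψ : LocRes.IsExpansionAt Q.1 ψ) (u : K) :
    ordL (ψ (algebraMap K K' u)) = e * ordL (φ u) := by
  unfold ordL
  rw [hψ.1, he u, hφ.1, WithZero.log_pow, nsmul_eq_mul]
  ring

/-- The different exponent does not depend on the differential, given a Kähler relation. -/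
theorem diffExp_eq_of_kaehler {P : Place k K} {Q : Place k K'} {e : ℕ} (he : IsOverWith Q P e)
    {φ : K →ₐ[k] LaurentSeries F} (hφ : LocRes.IsExpansionAt P.1 φ)
    {ψ : K' →ₐ[k] LaurentSeries F'} (hψ : LocRes.IsExpansionAt Q.1 ψ)
    {x x' u : K} (h : KaehlerDifferential.D k K x' = u • KaehlerDifferential.D k K x)
    (hx : LocRes.vDiff φ 1 x ≠ 0) (hx' : LocRes.vDiff ψ 1 (algebraMap K K' x) ≠ 0)
    (hx2 : LocRes.vDiff φ 1 x' ≠ 0) :
    LocRes.diffExp φ ψ e x = LocRes.diffExp φ ψ e x' := by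
  have hD := D_ne_zero_of_vDiff_one_ne_zero hx
  have hD' := D_ne_zero_of_vDiff_one_ne_zero hx'
  have hD2 := D_ne_zero_of_vDiff_one_ne_zero hx2
  have h1 := D_eq_mul_of_kaehler h φ
  have h2 := D_eq_mul_of_kaehler h (ψ.comp (IsScalarTower.toAlgHom k K K'))
  have h2' : LocRes.D F' (ψ (algebraMap K K' x')) =
      ψ (algebraMap K K' u) * LocRes.D F' (ψ (algebraMap K K' x)) := h2
  have hu : u ≠ 0 := by
    rintro rfl
    rw [map_zero, zero_mul] at h1
    exact hD2 h1
  have hφu : φ u ≠ 0 := (_root_.map_ne_zero φ).mpr hu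
  have hψu : ψ (algebraMap K K' u) ≠ 0 :=
    (_root_.map_ne_zero ψ).mpr ((_root_.map_ne_zero (algebraMap K K')).mpr hu)
  unfold LocRes.diffExp
  rw [ordDiff_one, ordDiff_one, ordDiff_one, ordDiff_one, h1, h2', ordL_mul hφu hD,
    ordL_mul hψu hD', ordL_eq_of_isOverWith he hφ hψ u]
  ring

/-- **S12571**: the different exponent does not depend on the differential. -/
theorem diffExp_eq_diffExp (hK : IsFunctionField k K) (hg : IsGeometric k K)
    {P : Place k K} {Q : Place k K'} {e : ℕ} (he : IsOverWith Q P e)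
    {φ : K →ₐ[k] LaurentSeries F} (hφ : LocRes.IsExpansionAt P.1 φ)
    {ψ : K' →ₐ[k] LaurentSeries F'} (hψ : LocRes.IsExpansionAt Q.1 ψ)
    {x x' : K}
    (hx : LocRes.vDiff φ 1 x ≠ 0) (hx' : LocRes.vDiff ψ 1 (algebraMap K K' x) ≠ 0)
    (hx2 : LocRes.vDiff φ 1 x' ≠ 0) :
    LocRes.diffExp φ ψ e x = LocRes.diffExp φ ψ e x' := by
  have hD := D_ne_zero_of_vDiff_one_ne_zero hx
  obtain ⟨u, hu⟩ := exists_kaehler_eq_smul hK hg (kaehler_D_ne_zero_of φ hD) x'
  exact diffExp_eq_of_kaehler he hφ hψ hu hx hx' hx2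

/-- **S12570**: tame and wild different exponents. -/
theorem diffExp_tame_wild (hK : IsFunctionField k K) (hg : IsGeometric k K)
    {P : Place k K} {Q : Place k K'} {e : ℕ} (he : IsOverWith Q P e)
    {φ : K →ₐ[k] LaurentSeries F} (hφ : LocRes.IsExpansionAt P.1 φ)
    {ψ : K' →ₐ[k] LaurentSeries F'} (hψ : LocRes.IsExpansionAt Q.1 ψ)
    {x : K}
    (hx : LocRes.vDiff φ 1 x ≠ 0) (hx' : LocRes.vDiff ψ 1 (algebraMap K K' x) ≠ 0) :
    (¬ (ringChar K ∣ e) → LocRes.diffExp φ ψ e x = (e : ℤ) - 1) ∧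
    (ringChar K ∣ e → (e : ℤ) ≤ LocRes.diffExp φ ψ e x) := by
  have hD := D_ne_zero_of_vDiff_one_ne_zero hx
  have hD' := D_ne_zero_of_vDiff_one_ne_zero hx'
  obtain ⟨t, ht⟩ := hφ.2.2
  have hvt : Valued.v (φ t) = WithZero.exp (-(1 : ℤ)) := by rw [hφ.1, ht]
  have hDt := val_D_eq hvt (by simp)
  rw [sub_self, neg_zero, WithZero.exp_zero] at hDt
  have hDt0 : LocRes.D F (φ t) ≠ 0 := by
    intro h
    rw [h, Valuation.map_zero] at hDt
    exact zero_ne_one hDt
  obtain ⟨u, hu⟩ := exists_kaehler_eq_smul hK hg (kaehler_D_ne_zero_of φ hDt0) x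
  have h2 := D_eq_mul_of_kaehler hu (ψ.comp (IsScalarTower.toAlgHom k K K'))
  have h2' : LocRes.D F' (ψ (algebraMap K K' x)) =
      ψ (algebraMap K K' u) * LocRes.D F' (ψ (algebraMap K K' t)) := h2
  have hDt' : LocRes.D F' (ψ (algebraMap K K' t)) ≠ 0 := by
    intro h
    rw [h, mul_zero] at h2'
    exact hD' h2'
  have hvt1 : LocRes.vDiff φ 1 t ≠ 0 := by
    rw [vDiff_one, hDt]
    exact one_ne_zero
  have hvt2 : LocRes.vDiff ψ 1 (algebraMap K K' t) ≠ 0 := by
    rw [vDiff_one]
    exact (Valuation.ne_zero_iff _).mpr hDt'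
  have hkey := diffExp_eq_of_kaehler he hφ hψ hu hvt1 hvt2 hx
  rw [← hkey]
  have hval : Valued.v (ψ (algebraMap K K' t)) = WithZero.exp (-(e : ℤ)) := by
    rw [hψ.1, he t, ht, ← WithZero.exp_nsmul]
    congr 1
    simp
  have hdt : LocRes.diffExp φ ψ e t = ordL (LocRes.D F' (ψ (algebraMap K K' t))) := by
    have h0 : ordL (LocRes.D F (φ t)) = 0 :=
      ordL_of_val_eq (by rw [hDt, neg_zero, WithZero.exp_zero])
    unfold LocRes.diffExp
    rw [ordDiff_one, ordDiff_one, h0]
    ring
  rw [hdt]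
  constructor
  · intro hnd
    have hne : ((e : ℤ) : F') ≠ 0 := fun h =>
      hnd ((natCast_eq_zero_iff_ringChar_dvd k K e).mp h)
    exact ordL_of_val_eq (val_D_eq hval hne)
  · intro hdvd
    have h0 : ((e : ℤ) : F') = 0 := (natCast_eq_zero_iff_ringChar_dvd k K e).mpr hdvd
    have hle := val_D_le_of_cast_eq_zero hval.le h0
    rw [val_eq_exp_neg_ordL hDt', WithZero.exp_le_exp] at hle
    omega

end Different

end FF

end Groth.Agent.Lib.helper10
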