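import Mathlib
import Groth.Agent.Lib.Helper10.HasseExp14
import Groth.Agent.Lib.Helper10.HasseExp9
import Groth.Agent.Lib.Helper10.LocRes5
import Groth.Agent.Lib.Helper10.FunFld33

/-!
The first Hasse derivative as a derivation, the chain rule for orders of differentials read
through Laurent expansions, and finiteness of the divisor of `dt` (helper10).
-/

set_option autoImplicit false
set_option linter.unusedSectionVars false
set_option linter.unusedVariables false
set_option linter.style.haveILetI false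

universe u v

open FunFld WithZero

namespace Groth.Agent.Lib.helper10

namespace HasseExp

variable {k : Type u} {K : Type v} [Field k] [Field K] [Algebra k K]

section deriv

/-- The first Hasse derivative as a derivation. -/
noncomputable def hasseDer {t : K} (Ht : K →ₐ[k] PowerSeries K) (hHt : LocRes.IsHasseFamily t Ht) :
    Derivation k K K where
  toFun := LocRes.hasseD Ht 1
  map_add' a b := by simp only [LocRes.hasseD_apply, map_add]
  map_smul' c a := by
    simp only [LocRes.hasseD_apply, map_smul, RingHom.id_apply]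
    exact LinearMap.map_smul_of_tower _ c (Ht a)
  map_one_eq_zero' := by
    change LocRes.hasseD Ht 1 1 = 0
    exact hasseD_one_right Ht one_ne_zero
  leibniz' a b := by
    change LocRes.hasseD Ht 1 (a * b) = a • LocRes.hasseD Ht 1 b + b • LocRes.hasseD Ht 1 a
    rw [hasseD_mul, Finset.Nat.antidiagonal_succ, Finset.sum_cons, Finset.Nat.antidiagonal_zero]
    simp only [Finset.map_singleton, Function.Embedding.coe_prodMap, Function.Embedding.coeFn_mk,
      Prod.map_apply, Nat.succ_eq_add_one, zero_add, Function.Embedding.refl_apply,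
      Finset.sum_singleton, hasseD_zero_left Ht hHt, smul_eq_mul]
    ring

theorem hasseDer_apply {t : K} {Ht : K →ₐ[k] PowerSeries K} (hHt : LocRes.IsHasseFamily t Ht)
    (y : K) : hasseDer Ht hHt y = LocRes.hasseD Ht 1 y := rfl

theorem hasseD_one_self {t : K} {Ht : K →ₐ[k] PowerSeries K} (hHt : LocRes.IsHasseFamily t Ht) :
    LocRes.hasseD Ht 1 t = 1 := by
  rw [LocRes.hasseD_apply, hHt.1, map_add, PowerSeries.coeff_C, if_neg one_ne_zero,
    PowerSeries.coeff_one_X, zero_add]

theorem kaehler_D_ne_zero {t : K} {Ht : K →ₐ[k] PowerSeries K} (hHt : LocRes.IsHasseFamily t Ht) :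
    KaehlerDifferential.D k K t ≠ 0 := by
  intro h0
  have h1 := congrArg (hasseDer Ht hHt).liftKaehlerDifferential h0
  rw [Derivation.liftKaehlerDifferential_comp_D, map_zero, hasseDer_apply,
    hasseD_one_self hHt] at h1
  exact one_ne_zero h1

theorem kaehler_eq_smul {t : K} {Ht : K →ₐ[k] PowerSeries K} (hHt : LocRes.IsHasseFamily t Ht)
    (hK : IsFunctionField k K) [IsAlgClosed k] (y : K) :
    KaehlerDifferential.D k K y = LocRes.hasseD Ht 1 y • KaehlerDifferential.D k K t := by
  obtain ⟨u, hu⟩ := FF.exists_kaehler_eq_smul hK (isGeometric_of_isAlgClosed (k := k) (K := K))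
    (kaehler_D_ne_zero hHt) y
  have h1 := congrArg (hasseDer Ht hHt).liftKaehlerDifferential hu
  rw [Derivation.liftKaehlerDifferential_comp_D, map_smul,
    Derivation.liftKaehlerDifferential_comp_D, hasseDer_apply, hasseDer_apply,
    hasseD_one_self hHt, smul_eq_mul, mul_one] at h1
  rw [h1]
  exact hu

/-- Chain rule through an expansion. -/
theorem D_expansion_chain {t : K} {Ht : K →ₐ[k] PowerSeries K} (hHt : LocRes.IsHasseFamily t Ht)
    (hK : IsFunctionField k K) [IsAlgClosed k]
    (χ : K →ₐ[k] LaurentSeries k) (y : K) :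
    LocRes.D k (χ y) = χ (LocRes.hasseD Ht 1 y) * LocRes.D k (χ t) :=
  FF.D_eq_mul_of_kaehler (kaehler_eq_smul hHt hK y) χ

end deriv

section nonsing

/-- The subalgebra `k + m_P^2`. -/
def R2 (P : FunFld.Place k K) : Subalgebra k K where
  carrier := {z | ∃ c : k, P.1 (z - algebraMap k K c) ≤ exp (-2 : ℤ)}
  mul_mem' := by
    rintro a b ⟨c, hc⟩ ⟨d, hd⟩
    refine ⟨c * d, ?_⟩
    have e : a * b - algebraMap k K (c * d) =
        (a - algebraMap k K c) * (b - algebraMap k K d) + algebraMap k K c * (b - algebraMap k K d)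
          + (a - algebraMap k K c) * algebraMap k K d := by
      rw [map_mul]; ring
    have h1 : (exp (-2 : ℤ) : WithZero (Multiplicative ℤ)) ≤ 1 := by
      rw [← exp_zero, exp_le_exp]; norm_num
    rw [e]
    refine le_trans (P.1.map_add _ _) (max_le (le_trans (P.1.map_add _ _) (max_le ?_ ?_)) ?_)
    · rw [map_mul]
      calc _ ≤ exp (-2 : ℤ) * 1 := mul_le_mul' hc (le_trans hd h1)
        _ = _ := mul_one _
    · rw [map_mul]
      calc _ ≤ 1 * exp (-2 : ℤ) := mul_le_mul' (P.2.1 c) hd
        _ = _ := one_mul _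
    · rw [map_mul]
      calc _ ≤ exp (-2 : ℤ) * 1 := mul_le_mul' hc (P.2.1 d)
        _ = _ := mul_one _
  add_mem' := by
    rintro a b ⟨c, hc⟩ ⟨d, hd⟩
    refine ⟨c + d, ?_⟩
    have e : a + b - algebraMap k K (c + d) = (a - algebraMap k K c) + (b - algebraMap k K d) := by
      rw [map_add]; ring
    rw [e]
    exact le_trans (P.1.map_add _ _) (max_le hc hd)
  algebraMap_mem' := by
    intro c
    exact ⟨c, by simp⟩

/-- At a nonsingular place of an effective normalized map, some function in the span is a local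
parameter. -/
theorem exists_val_eq_exp_neg_one (hK : IsFunctionField k K) [IsAlgClosed k] (P : Place k K)
    {ι : Type*} [Fintype ι] (φ : ι → K)
    (heff : (1 : K) ∈ Submodule.span k (Set.range φ)) (hnorm : ∀ i, P.1 (φ i) ≤ 1)
    (hns : IsNonsingularAt φ P) :
    ∃ f ∈ Submodule.span k (Set.range φ), P.1 f = exp (-1 : ℤ) := by
  classical
  by_contra hno
  push Not at hno
  obtain ⟨t, ht⟩ := FF.Place.exists_uniformizer P
  have ht1 : P.1 t ≤ 1 := by
    rw [ht, ← exp_zero, exp_le_exp]; norm_num
  obtain ⟨j, hj0, hjmax, u, hu, w, hw, hw1, htw⟩ := hns t ht1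
  obtain ⟨i₀, hi₀⟩ := exists_unit_of_one_mem P φ heff hnorm
  have hj1 : P.1 (φ j) = 1 := le_antisymm (hnorm j) (le_of_eq_of_le hi₀.symm (hjmax i₀))
  have hgen : Set.range (fun i => φ i / φ j) ⊆ (R2 P : Set K) := by
    rintro _ ⟨i, rfl⟩
    have hx1 : P.1 (φ i / φ j) ≤ 1 := by
      rw [map_div₀, hj1, div_one]
      exact hnorm i
    obtain ⟨c, hc⟩ := FF.Place.exists_const_sub_lt hK P hx1
    refine ⟨c, ?_⟩
    have hmem : φ i - c • φ j ∈ Submodule.span k (Set.range φ) :=
      Submodule.sub_mem _ (Submodule.subset_span ⟨i, rfl⟩)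
        (Submodule.smul_mem _ _ (Submodule.subset_span ⟨j, rfl⟩))
    have hval : P.1 (φ i - c • φ j) = P.1 (φ i / φ j - algebraMap k K c) := by
      have e : φ i - c • φ j = (φ i / φ j - algebraMap k K c) * φ j := by
        rw [Algebra.smul_def]
        field_simp
      rw [e, map_mul, hj1, mul_one]
    have h1 := hno _ hmem
    rw [hval] at h1
    have h2 : P.1 (φ i / φ j - algebraMap k K c) ≤ exp (-1 : ℤ) := lt_one_iff_le_exp.mp hc
    have h3 : P.1 (φ i / φ j - algebraMap k K c) < exp (-1 : ℤ) := lt_of_le_of_ne h2 h1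
    have := FF.le_exp_pred_of_lt_exp h3
    convert this using 2
    norm_num
  have hle : Algebra.adjoin k (Set.range fun i => φ i / φ j) ≤ R2 P := Algebra.adjoin_le hgen
  obtain ⟨c, hc⟩ := hle hu
  have hu1 : P.1 u = exp (-1 : ℤ) := by
    rw [← htw, map_mul, hw1, mul_one, ht]
  have hc0 : c = 0 := by
    by_contra hc0
    have h1 : P.1 (algebraMap k K c) = 1 := FF.trivOn_of_le_one P.2.1 c hc0
    have h2 : P.1 (u - algebraMap k K c) = 1 := by
      rw [sub_eq_add_neg]
      have : P.1 u < P.1 (-algebraMap k K c) := by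
        rw [Valuation.map_neg, h1, hu1, ← exp_zero, exp_lt_exp]; norm_num
      rw [Valuation.map_add_eq_of_lt_right _ this, Valuation.map_neg, h1]
    rw [h2, ← exp_zero, exp_le_exp] at hc
    omega
  rw [hc0, map_zero, sub_zero, hu1, exp_le_exp] at hc
  omega

/-- A function field is generated by a finite tuple starting with `1`, without zero entries. -/
theorem exists_gens (hK : IsFunctionField k K) :
    ∃ (r : ℕ) (z : Fin (r + 1) → K), z 0 = 1 ∧ (∀ i, z i ≠ 0) ∧
      IntermediateField.adjoin k (Set.range fun i => z i / z 0) = ⊤ := by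
  classical
  obtain ⟨⟨x₀, hx₀, hfin⟩, -⟩ := hK
  haveI := hfin
  let b := Module.finBasis (IntermediateField.adjoin k ({x₀} : Set K)) K
  set d := Module.finrank (IntermediateField.adjoin k ({x₀} : Set K)) K with hd
  let z : Fin (d + 1 + 1) → K := Fin.cases 1 (Fin.cases x₀ (fun i => b i))
  refine ⟨d + 1, z, rfl, ?_, ?_⟩
  · intro i
    refine Fin.cases ?_ (fun i' => ?_) i
    · exact one_ne_zero
    · refine Fin.cases ?_ (fun i'' => ?_) i'
      · intro h
        apply hx₀
        have : x₀ = 0 := h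
        rw [this]
        exact isAlgebraic_zero
      · exact b.ne_zero i''
  · have hz : (fun i => z i / z 0) = z := by
      funext i
      change z i / 1 = z i
      rw [div_one]
    rw [hz, eq_top_iff]
    set E := IntermediateField.adjoin k (Set.range z) with hE
    have hx₀E : x₀ ∈ E := IntermediateField.subset_adjoin k _ ⟨(0 : Fin (d + 1)).succ, rfl⟩
    have hbE : ∀ i, (b i : K) ∈ E := fun i =>
      IntermediateField.subset_adjoin k _ ⟨(Fin.succ i).succ, rfl⟩
    have hle : IntermediateField.adjoin k ({x₀} : Set K) ≤ E :=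
      IntermediateField.adjoin_simple_le_iff.mpr hx₀E
    intro y _
    rw [← b.sum_repr y]
    refine sum_mem fun i _ => ?_
    rw [Algebra.smul_def]
    exact E.mul_mem (hle (b.repr y i).2) (hbE i)

end nonsing

section finite

/-- `D(χ t) ≠ 0` for the variable of a Hasse family and any expansion. -/
theorem D_expansion_ne_zero {t : K} {Ht : K →ₐ[k] PowerSeries K} (hHt : LocRes.IsHasseFamily t Ht)
    (hK : IsFunctionField k K) [IsAlgClosed k] {P : Place k K} {χ : K →ₐ[k] LaurentSeries k}
    (hχ : LocRes.IsExpansionAt P.1 χ) : LocRes.D k (χ t) ≠ 0 := by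
  obtain ⟨π, hπ⟩ := hχ.2.2
  have hv : Valued.v (χ π) = exp (-(1 : ℤ)) := by rw [hχ.1, hπ]
  have hD := FF.val_D_eq hv (by simp)
  intro h0
  have := D_expansion_chain hHt hK χ π
  rw [h0, mul_zero] at this
  rw [this, map_zero] at hD
  exact exp_ne_zero hD.symm

/-- Where some local parameter has integral first Hasse derivative and `t` is integral, the
differential `dt` has order zero. -/
theorem val_D_expansion_eq_one {t : K} {Ht : K →ₐ[k] PowerSeries K}
    (hHt : LocRes.IsHasseFamily t Ht)
    (hK : IsFunctionField k K) [IsAlgClosed k] {P : Place k K} {χ : K →ₐ[k] LaurentSeries k}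
    (hχ : LocRes.IsExpansionAt P.1 χ) (ht1 : P.1 t ≤ 1) {π : K} (hπ : P.1 π = exp (-1 : ℤ))
    (hDπ : P.1 (LocRes.hasseD Ht 1 π) ≤ 1) : Valued.v (LocRes.D k (χ t)) = 1 := by
  have hv : Valued.v (χ π) = exp (-(1 : ℤ)) := by rw [hχ.1, hπ]
  have hD := FF.val_D_eq hv (by simp)
  rw [sub_self, neg_zero, exp_zero] at hD
  have hchain := D_expansion_chain hHt hK χ π
  rw [hchain, map_mul, hχ.1] at hD
  have h1 : Valued.v (LocRes.D k (χ t)) ≤ 1 := FF.val_D_le_one (by rw [hχ.1]; exact ht1)
  apply le_antisymm h1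
  by_contra hlt
  rw [not_le] at hlt
  have : P.1 (LocRes.hasseD Ht 1 π) * Valued.v (LocRes.D k (χ t)) < 1 := by
    calc _ ≤ 1 * Valued.v (LocRes.D k (χ t)) := mul_le_mul' hDπ le_rfl
      _ = _ := one_mul _
      _ < 1 := hlt
  rw [hD] at this
  exact lt_irrefl _ this

theorem finite_poles (hK : IsFunctionField k K) (x : K) : {P : Place k K | ¬ P.1 x ≤ 1}.Finite := by
  refine (FF.support_ord_finite hK x).subset ?_
  intro P hP
  rw [Set.mem_ofPred_eq] at hP
  rw [Function.mem_support]
  intro h0
  apply hP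
  by_cases hx : x = 0
  · rw [hx, map_zero]; exact zero_le
  · rw [FF.Place.val_eq_exp_neg_ord P hx, h0, neg_zero, exp_zero]

/-- The divisor of `dt`, read through any family of expansions, has finite support. -/
theorem finite_support_ordDiff {t : K} {Ht : K →ₐ[k] PowerSeries K}
    (hHt : LocRes.IsHasseFamily t Ht) (hK : IsFunctionField k K) [IsAlgClosed k]
    (Φ : Place k K → (K →ₐ[k] LaurentSeries k))
    (hΦ : ∀ P : Place k K, LocRes.IsExpansionAt P.1 (Φ P)) :
    (Function.support fun P : Place k K => LocRes.ordDiff (Φ P) 1 t).Finite := by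
  classical
  obtain ⟨r, z, hz0, hzne, hbir⟩ := exists_gens hK
  have hsing := FF.finite_singular_places hK z hzne 0 hbir
  have hbad : ({P : Place k K | ¬ IsNonsingularAt z P} ∪ {P | ¬ P.1 t ≤ 1} ∪
      (⋃ i, {P : Place k K | ¬ P.1 (z i) ≤ 1}) ∪
      (⋃ i, {P : Place k K | ¬ P.1 (LocRes.hasseD Ht 1 (z i)) ≤ 1})).Finite := by
    refine Set.Finite.union (Set.Finite.union (Set.Finite.union hsing (finite_poles hK t)) ?_) ?_
    · exact Set.finite_iUnion fun i => finite_poles hK (z i)
    · exact Set.finite_iUnion fun i => finite_poles hK _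
  refine hbad.subset ?_
  intro P hP
  by_contra hnot
  simp only [Set.mem_union, Set.mem_ofPred_eq, Set.mem_iUnion, not_or, not_exists, not_not] at hnot
  obtain ⟨⟨⟨hns, ht1⟩, hz1⟩, hDz1⟩ := hnot
  have heff : (1 : K) ∈ Submodule.span k (Set.range z) := Submodule.subset_span ⟨0, hz0⟩
  obtain ⟨f, hf, hfv⟩ := exists_val_eq_exp_neg_one hK P z heff hz1 hns
  obtain ⟨c, rfl⟩ := (Submodule.mem_span_range_iff_exists_fun k).mp hf
  have hDf : P.1 (LocRes.hasseD Ht 1 (∑ i, c i • z i)) ≤ 1 := by
    rw [hasseD_sum]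
    apply Valuation.map_sum_le
    intro i _
    have : LocRes.hasseD Ht 1 (c i • z i) = c i • LocRes.hasseD Ht 1 (z i) :=
      (hasseDer Ht hHt).map_smul (c i) (z i)
    rw [this, Algebra.smul_def, map_mul]
    calc _ ≤ 1 * 1 := mul_le_mul' (P.2.1 (c i)) (hDz1 i)
      _ = 1 := one_mul 1
  have h1 := val_D_expansion_eq_one hHt hK (hΦ P) ht1 hfv hDf
  apply hP
  change LocRes.ordDiff (Φ P) 1 t = 0
  unfold LocRes.ordDiff LocRes.vDiff
  rw [map_one, one_mul, h1]
  simp

end finite

end HasseExp

end Groth.Agent.Lib.helper10
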