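import Mathlib
import Groth.Agent.Lib.Helper10.HasseExp15

/-!
The divisor of `ds` versus that of `dt`, and behaviour of the divisor of a projective map under
scaling and linear change (helper10).
-/

set_option autoImplicit false
set_option linter.unusedSectionVars false
set_option linter.unusedVariables false
set_option linter.style.haveILetI false

universe u v

open FunFld WithZero

namespace Groth.Agent.Lib.helper10

namespace HasseExp

variable {k : Type u} {K : Type v} [Field k] [Field K] [Algebra k K]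

section divDiff

variable {t : K} {Ht : K →ₐ[k] PowerSeries K} (hHt : LocRes.IsHasseFamily t Ht)
  (hK : IsFunctionField k K) [IsAlgClosed k]
  (Φ : Place k K → (K →ₐ[k] LaurentSeries k))
  (hΦ : ∀ P : Place k K, LocRes.IsExpansionAt P.1 (Φ P))

include hHt hK hΦ in
theorem divDiff_apply (P : Place k K) : divDiff Φ 1 t P = LocRes.ordDiff (Φ P) 1 t := by
  unfold divDiff
  rw [dif_pos (finite_support_ordDiff hHt hK Φ hΦ)]
  rfl

include hHt hK hΦ in
/-- `[ds] = [dt] + [ds/dt]`. -/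
theorem divDiff_change {s : K} {Hs : K →ₐ[k] PowerSeries K} (hHs : LocRes.IsHasseFamily s Hs) :
    divDiff Φ 1 s = divDiff Φ 1 t + FunFld.div k (LocRes.hasseD Ht 1 s) := by
  ext P
  rw [Finsupp.add_apply, divDiff_apply hHs hK Φ hΦ, divDiff_apply hHt hK Φ hΦ, FF.div_apply hK]
  unfold LocRes.ordDiff LocRes.vDiff FunFld.Place.ord
  rw [map_one, one_mul, one_mul, D_expansion_chain hHt hK (Φ P) s, map_mul, (hΦ P).1]
  have h1 : P.1 (LocRes.hasseD Ht 1 s) ≠ 0 :=
    (Valuation.ne_zero_iff _).mpr (hasseD_one_ne_zero hK hHs hHt)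
  have h2 : Valued.v (LocRes.D k ((Φ P) t)) ≠ 0 :=
    (Valuation.ne_zero_iff _).mpr (D_expansion_ne_zero hHt hK (hΦ P))
  rw [WithZero.log_mul h1 h2]
  ring

end divDiff

section mapDiv

variable (hK : IsFunctionField k K) {ι : Type*} [Fintype ι] [Nonempty ι]

include hK in
theorem mapDiv_eq_iff (φ : ι → K) (h0 : ∀ i, φ i ≠ 0) (Q : Place k K) (m : ℤ) :
    mapDiv k φ Q = m ↔ (∀ i, Q.1 (φ i) ≤ exp m) ∧ ∃ i, Q.1 (φ i) = exp m := by
  constructor
  · rintro rfl
    exact ⟨fun i => FF.val_le_exp_mapDiv hK φ Q i, FF.exists_val_eq_exp_mapDiv hK φ h0 Q⟩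
  · rintro ⟨h1, j, hj⟩
    have hmax : ∀ i, Q.1 (φ i) ≤ Q.1 (φ j) := fun i => by rw [hj]; exact h1 i
    have := FF.val_argmax_eq_gen hK φ h0 Q j hmax
    rw [hj, exp_inj] at this
    exact this.symm

include hK in
theorem mapDiv_smul (φ : ι → K) (h0 : ∀ i, φ i ≠ 0) {y : K} (hy : y ≠ 0) :
    mapDiv k (y • φ) = mapDiv k φ - FunFld.div k y := by
  ext Q
  rw [Finsupp.sub_apply, FF.div_apply hK]
  have h0' : ∀ i, (y • φ) i ≠ 0 := fun i => mul_ne_zero hy (h0 i)
  rw [mapDiv_eq_iff hK (y • φ) h0']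
  have hyv : Q.1 y = exp (-Q.ord y) := FF.Place.val_eq_exp_neg_ord Q hy
  have he : exp (mapDiv k φ Q - Q.ord y) = Q.1 y * exp (mapDiv k φ Q) := by
    rw [hyv, ← exp_add]
    congr 1
    ring
  constructor
  · intro i
    change Q.1 (y * φ i) ≤ _
    rw [map_mul, he]
    exact mul_le_mul' le_rfl (FF.val_le_exp_mapDiv hK φ Q i)
  · obtain ⟨i, hi⟩ := FF.exists_val_eq_exp_mapDiv hK φ h0 Q
    refine ⟨i, ?_⟩
    change Q.1 (y * φ i) = _
    rw [map_mul, he, hi]

include hK in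
theorem mapDiv_le_of_linear {κ : Type*} [Fintype κ] [Nonempty κ] (φ : ι → K) (h0 : ∀ i, φ i ≠ 0)
    (ψ : κ → K) (hψ0 : ∀ i, ψ i ≠ 0) (A : κ → ι → k) (hψ : ∀ i, ψ i = ∑ j, A i j • φ j)
    (Q : Place k K) : mapDiv k ψ Q ≤ mapDiv k φ Q := by
  obtain ⟨i, hi⟩ := FF.exists_val_eq_exp_mapDiv hK ψ hψ0 Q
  rw [← exp_le_exp, ← hi, hψ]
  apply Valuation.map_sum_le
  intro j _
  rw [Algebra.smul_def, map_mul]
  calc _ ≤ 1 * exp (mapDiv k φ Q) := mul_le_mul' (Q.2.1 _) (FF.val_le_exp_mapDiv hK φ Q j)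
    _ = _ := one_mul _

theorem linearIndependent_linear {n : ℕ} (φ : Fin (n + 1) → K) (hφ : LinearIndependent k φ)
    (A : Matrix (Fin (n + 1)) (Fin (n + 1)) k) (hA : A.det ≠ 0)
    (ψ : Fin (n + 1) → K) (hψ : ∀ i, ψ i = ∑ j, A i j • φ j) : LinearIndependent k ψ := by
  classical
  have hAu : IsUnit A.det := isUnit_iff_ne_zero.mpr hA
  have hψ' : ψ = fun i => ∑ j, A i j • φ j := funext hψ
  rw [hψ']
  have hli := (Matrix.linearIndependent_rows_iff_isUnit (A := A)).mpr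
    ((Matrix.isUnit_iff_isUnit_det A).mpr hAu)
  rw [Fintype.linearIndependent_iff] at hli hφ ⊢
  intro g hg i
  have h1 : ∑ j, (∑ i, g i * A i j) • φ j = 0 := by
    rw [← hg]
    simp only [Finset.smul_sum, smul_smul, Finset.sum_smul]
    rw [Finset.sum_comm]
  have h2 := hφ _ h1
  apply hli g
  funext j
  have := h2 j
  simp only [Finset.sum_apply, Pi.smul_apply, Pi.zero_apply, smul_eq_mul]
  exact this

theorem div_pow (hK : IsFunctionField k K) (x : K) (m : ℕ) :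
    FunFld.div k (x ^ m) = (m : ℤ) • FunFld.div k x := by
  ext P
  rw [Finsupp.smul_apply, FF.div_apply hK, FF.div_apply hK, FF.Place.ord_pow', smul_eq_mul]

include hK in
theorem mapDiv_linear {n : ℕ} (φ : Fin (n + 1) → K) (hφ : LinearIndependent k φ)
    (A : Matrix (Fin (n + 1)) (Fin (n + 1)) k) (hA : A.det ≠ 0)
    (ψ : Fin (n + 1) → K) (hψ : ∀ i, ψ i = ∑ j, A i j • φ j) :
    mapDiv k ψ = mapDiv k φ := by
  classical
  have hAu : IsUnit A.det := isUnit_iff_ne_zero.mpr hA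
  have hinv : ∀ i, φ i = ∑ j, A⁻¹ i j • ψ j := by
    intro i
    simp only [hψ, Finset.smul_sum, smul_smul]
    rw [Finset.sum_comm]
    simp only [← Finset.sum_smul]
    have : ∀ l, ∑ j, A⁻¹ i j * A j l = (1 : Matrix (Fin (n + 1)) (Fin (n + 1)) k) i l := by
      intro l
      rw [← Matrix.mul_apply, Matrix.nonsing_inv_mul A hAu]
    simp only [this, Matrix.one_apply, ite_smul, one_smul, zero_smul, Finset.sum_ite_eq,
      Finset.mem_univ, if_true]
  have hφ0 : ∀ i, φ i ≠ 0 := fun i => hφ.ne_zero i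
  have hψli : LinearIndependent k ψ := linearIndependent_linear φ hφ A hA ψ hψ
  have hψ0 : ∀ i, ψ i ≠ 0 := fun i => hψli.ne_zero i
  ext Q
  apply le_antisymm
  · exact mapDiv_le_of_linear hK φ hφ0 ψ hψ0 (fun i j => A i j) hψ Q
  · exact mapDiv_le_of_linear hK ψ hψ0 φ hφ0 (fun i j => A⁻¹ i j) hinv Q

end mapDiv

end HasseExp

end Groth.Agent.Lib.helper10
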