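import Groth.Agent.Lib.Helper10.Tate4
import Groth.Agent.Lib.Helper10.HasseExp16

/-!
# The residue functional of `ds` is a Weil differential with divisor `(ds)`; `deg (ds) = 2g - 2`
(algebraically closed constant field)
-/

set_option autoImplicit false
set_option linter.unusedSectionVars false
set_option linter.style.haveILetI false

universe u v

open FunFld LaurentSeries

namespace Groth.Agent.Lib.helper10.Tate

open FF RD

variable {k : Type u} {K : Type v} [Field k] [Field K] [Algebra k K]

theorem res_eq_zero_of_val_le_one {F : Type*} [Field F] {f : LaurentSeries F}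
    (h : Valued.v f ≤ 1) : LocRes.res F f = 0 := by
  rw [← WithZero.exp_zero, ← neg_zero, valuation_le_iff_coeff_lt_eq_zero] at h
  rw [LocRes.res_apply]
  exact h (-1) (by norm_num)

theorem coeff_ne_zero_of_val_eq {F : Type*} [Field F] {f : LaurentSeries F} {n : ℤ}
    (h : Valued.v f = WithZero.exp (-n)) : f.coeff n ≠ 0 := by
  intro h0
  have h4 : Valued.v f ≤ WithZero.exp (-(n + 1)) := by
    rw [valuation_le_iff_coeff_lt_eq_zero]
    intro m hm
    by_cases hm' : m < n
    · exact (valuation_le_iff_coeff_lt_eq_zero (K := F)).mp h.le m hm'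
    · have : m = n := by omega
      rw [this, h0]
  rw [h, WithZero.exp_le_exp] at h4
  omega

theorem resExp_add_left (χ : K →ₐ[k] LaurentSeries k) (a b s : K) :
    LocRes.resExp χ (a + b) s = LocRes.resExp χ a s + LocRes.resExp χ b s := by
  unfold LocRes.resExp
  rw [map_add, add_mul, map_add]

theorem resExp_smul_left (χ : K →ₐ[k] LaurentSeries k) (c : k) (a s : K) :
    LocRes.resExp χ (c • a) s = c * LocRes.resExp χ a s := by
  unfold LocRes.resExp
  rw [Algebra.smul_def, map_mul χ, LocRes.map_algebraMap, mul_assoc, HahnSeries.C_mul_eq_smul,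
    map_smul, smul_eq_mul]
  rfl

variable (Φ : Place k K → (K →ₐ[k] LaurentSeries k))
  (hΦ : ∀ P : Place k K, LocRes.IsExpansionAt P.1 (Φ P))

include hΦ in
theorem support_resExp_subset (x : Place k K → K) (s : K) :
    (Function.support fun P => LocRes.resExp (Φ P) (x P) s) ⊆
      {P | ¬ P.1 (x P) ≤ 1} ∪ {P | ¬ P.1 s ≤ 1} := by
  intro P hP
  by_contra hn
  rw [Set.mem_union, not_or] at hn
  exact hP (Groth.Agent.S12622.result P.1 (Φ P) (hΦ P) (x P) s (not_not.1 hn.1) (not_not.1 hn.2))

include hΦ in
theorem finite_support_resExp (hK : IsFunctionField k K) {x : Place k K → K}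
    (hx : x ∈ adele k K) (s : K) :
    (Function.support fun P => LocRes.resExp (Φ P) (x P) s).Finite :=
  (((mem_adele_iff x).1 hx).union (HasseExp.finite_poles hK s)).subset (support_resExp_subset Φ hΦ x s)

/-- The residue functional of the differential `ds` on the repartition space. -/
noncomputable def resW (hK : IsFunctionField k K) (s : K) : Module.Dual k (adele k K) where
  toFun a := ∑ᶠ P, LocRes.resExp (Φ P) ((a : Place k K → K) P) s
  map_add' a b := by
    rw [← finsum_add_distrib (finite_support_resExp Φ hΦ hK a.2 s)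
      (finite_support_resExp Φ hΦ hK b.2 s)]
    refine finsum_congr fun P => ?_
    rw [Submodule.coe_add, Pi.add_apply, resExp_add_left]
  map_smul' c a := by
    rw [RingHom.id_apply, smul_eq_mul, mul_finsum _ _]
    refine finsum_congr fun P => ?_
    rw [Submodule.coe_smul, Pi.smul_apply, resExp_smul_left]

theorem resW_apply (hK : IsFunctionField k K) (s : K) (a : adele k K) :
    resW Φ hΦ hK s a = ∑ᶠ P, LocRes.resExp (Φ P) ((a : Place k K → K) P) s := rfl

/-- The residue theorem: the residue functional vanishes on the diagonal. -/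
theorem resW_diagA (hK : IsFunctionField k K) [IsAlgClosed k] (s z : K) :
    resW Φ hΦ hK s (diagA hK z) = 0 := by
  rw [resW_apply]
  obtain ⟨S, hS⟩ := finite_poles hK z s
  have hsub : (Function.support fun P =>
      LocRes.resExp (Φ P) (((diagA hK z : adele k K) : Place k K → K) P) s) ⊆ ↑S := by
    intro P hP
    by_contra hn
    have := hS P (by simpa using hn)
    exact hP (Groth.Agent.S12622.result P.1 (Φ P) (hΦ P) _ s this.1 this.2)
  rw [finsum_eq_sum_of_support_subset _ hsub]
  exact sum_resExp_eq_zero hK Φ hΦ z s S hS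

theorem resW_inA (hK : IsFunctionField k K) (s x : K) (P : Place k K) :
    resW Φ hΦ hK s (inA P x) = LocRes.resExp (Φ P) x s := by
  classical
  rw [resW_apply]
  have hsub : (Function.support fun Q =>
      LocRes.resExp (Φ Q) (((inA P x : adele k K) : Place k K → K) Q) s) ⊆
      ↑({P} : Finset (Place k K)) := by
    intro Q hQ
    by_contra hn
    have hne : Q ≠ P := by simpa using hn
    apply hQ
    show LocRes.resExp (Φ Q) (((inA P x : adele k K) : Place k K → K) Q) s = 0
    rw [inA_apply, if_neg hne]
    unfold LocRes.resExp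
    rw [map_zero, zero_mul, map_zero]
  rw [finsum_eq_sum_of_support_subset _ hsub, Finset.sum_singleton, inA_apply, if_pos rfl]

/-- The residue functional of `ds` is a Weil differential whose divisor is the divisor of `ds`. -/
theorem isDivOf_resW (hK : IsFunctionField k K) [IsAlgClosed k] {s : K}
    {H : K →ₐ[k] PowerSeries K} (hH : LocRes.IsHasseFamily s H) :
    IsDivOf (resW Φ hΦ hK s) (divDiff Φ 1 s) := by
  have hC : ∀ P, Valued.v (LocRes.D k (Φ P s)) = WithZero.exp (-(divDiff Φ 1 s P)) := by
    intro P
    have hne : LocRes.D k (Φ P s) ≠ 0 := HasseExp.D_expansion_ne_zero hH hK (hΦ P)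
    rw [HasseExp.divDiff_apply hH hK Φ hΦ P, FF.ordDiff_one]
    exact FF.val_eq_exp_neg_ordL hne
  intro E
  rw [mem_WD_iff]
  constructor
  · intro h
    by_contra hle
    obtain ⟨P, hP⟩ : ∃ P, ¬ E P ≤ divDiff Φ 1 s P := by
      by_contra hcon
      push Not at hcon
      exact hle hcon
    rw [not_le] at hP
    obtain ⟨t, ht⟩ := Place.exists_uniformizer P
    set m : ℤ := divDiff Φ 1 s P + 1 with hm
    set x : K := t ^ (-m) with hx
    have hxv : P.1 x = WithZero.exp m := by
      rw [hx, Place.val_zpow_uniformizer P ht, neg_neg]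
    have hmem : ((inA P x : adele k K) : Place k K → K) ∈ AD E ⊔ XK k K := by
      classical
      apply Submodule.mem_sup_left
      rw [mem_AD_iff]
      intro Q
      rw [inA_apply]
      split_ifs with hQ
      · rw [hQ, hxv, WithZero.exp_le_exp]; omega
      · rw [Valuation.map_zero]; exact zero_le
    have h0 := h (inA P x) hmem
    rw [resW_inA] at h0
    have hval : Valued.v (Φ P x * LocRes.D k (Φ P s)) = WithZero.exp (-(-1 : ℤ)) := by
      rw [map_mul, (hΦ P).1, hxv, hC P, ← WithZero.exp_add]
      congr 1; rw [hm]; ring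
    have := coeff_ne_zero_of_val_eq hval
    exact this h0
  · intro hE a ha
    obtain ⟨b, hb, c, ⟨z, rfl⟩, hbc⟩ := Submodule.mem_sup.1 ha
    have e : a = ⟨b, AD_le_adele E hb⟩ + diagA hK z := by
      apply Subtype.ext
      rw [Submodule.coe_add, ← hbc]
      rfl
    rw [e, map_add, resW_diagA, add_zero, resW_apply]
    rw [mem_AD_iff] at hb
    have : ∀ P, LocRes.resExp (Φ P) (b P) s = 0 := by
      intro P
      unfold LocRes.resExp
      apply res_eq_zero_of_val_le_one
      rw [map_mul, (hΦ P).1, hC P]
      calc P.1 (b P) * WithZero.exp (-(divDiff Φ 1 s P))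
          ≤ WithZero.exp (E P) * WithZero.exp (-(divDiff Φ 1 s P)) := mul_le_mul' (hb P) le_rfl
        _ ≤ 1 := by
            rw [← WithZero.exp_add, ← WithZero.exp_zero, WithZero.exp_le_exp]
            have := hE P
            omega
    simp only [this, finsum_zero]

include hΦ in
/-- The divisor of `ds` is canonical; in particular `deg (ds) = 2g - 2`. -/
theorem isCanonical_divDiff (hK : IsFunctionField k K) [IsAlgClosed k] {s : K}
    {H : K →ₐ[k] PowerSeries K} (hH : LocRes.IsHasseFamily s H) :
    IsCanonical k K (divDiff Φ 1 s) :=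
  ⟨resW Φ hΦ hK s, IsDivOf.ne_zero' hK (isDivOf_resW Φ hΦ hK hH), isDivOf_resW Φ hΦ hK hH⟩

include hΦ in
theorem deg_divDiff (hK : IsFunctionField k K) [IsAlgClosed k] {s : K}
    {H : K →ₐ[k] PowerSeries K} (hH : LocRes.IsHasseFamily s H) :
    (divDiff Φ 1 s).deg = 2 * (genus k K : ℤ) - 2 :=
  ((isCanonical_iff hK _).1 (isCanonical_divDiff Φ hΦ hK hH)).2

end Groth.Agent.Lib.helper10.Tate
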