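import Groth.Agent.Lib.Helper10.Tate1
import Groth.Agent.Lib.Helper10.FunFld16

/-!
# Tate residues on a function field of one variable: local-global decomposition and the
vanishing of the global residue
-/

set_option autoImplicit false
set_option linter.unusedSectionVars false
set_option linter.style.haveILetI false

universe u v

open FunFld

namespace Groth.Agent.Lib.helper10.Tate

open FF RD

variable {k : Type u} {K : Type v} [Field k] [Field K] [Algebra k K]

/-- Multiplication by `x` as a `k`-endomorphism of `K`. -/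
noncomputable def mK (x : K) : Module.End k K := Algebra.lmul k K x

@[simp] theorem mK_apply (x y : K) : (mK x : Module.End k K) y = x * y := by
  unfold mK; rw [Algebra.coe_lmul_eq_mul, LinearMap.mul_apply']

theorem mK_mul (x y : K) : (mK (x * y) : Module.End k K) = mK x * mK y := map_mul _ x y
theorem mK_add (x y : K) : (mK (x + y) : Module.End k K) = mK x + mK y := map_add _ x y
theorem mK_sub (x y : K) : (mK (x - y) : Module.End k K) = mK x - mK y := map_sub _ x y
theorem mK_one : (mK (1 : K) : Module.End k K) = 1 := map_one _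
theorem mK_pow (x : K) (n : ℕ) : (mK (x ^ n) : Module.End k K) = mK x ^ n := map_pow _ x n
theorem mK_smul (c : k) (x : K) : (mK (c • x) : Module.End k K) = c • mK x := map_smul _ c x
theorem mK_algebraMap (c : k) : (mK (algebraMap k K c) : Module.End k K) = c • 1 := by
  rw [Algebra.algebraMap_eq_smul_one, mK_smul, mK_one]
theorem mK_commute (x y : K) : Commute (mK x : Module.End k K) (mK y) := by
  unfold Commute SemiconjBy
  rw [← mK_mul, ← mK_mul, mul_comm]

/-- A finite relative quotient gives a finite-dimensional complement. -/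
theorem exists_fd_of_relFin {V : Type*} [AddCommGroup V] [Module k V] {U W : Submodule k V}
    (h : RelFin U W) : ∃ Z : Submodule k V, FiniteDimensional k Z ∧ W ≤ U ⊔ Z := by
  obtain ⟨C, hC⟩ := Submodule.exists_isCompl (U.comap W.subtype)
  haveI : FiniteDimensional k (RQ U W) := h
  haveI : FiniteDimensional k C :=
    LinearEquiv.finiteDimensional (Submodule.quotientEquivOfIsCompl (U.comap W.subtype) C hC)
  refine ⟨C.map W.subtype, inferInstance, ?_⟩
  intro w hw
  have : (⟨w, hw⟩ : W) ∈ (U.comap W.subtype) ⊔ C := by rw [hC.sup_eq_top]; trivial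
  obtain ⟨a, ha, c, hc, hac⟩ := Submodule.mem_sup.1 this
  have e : w = (a : V) + (c : V) := by
    have := congrArg Subtype.val hac
    simpa using this.symm
  rw [e]
  exact Submodule.add_mem_sup ha ⟨c, hc, rfl⟩

theorem relFin_ball_add (hK : IsFunctionField k K) (P : Place k K) (n : ℤ) (m : ℕ) :
    RelFin (Place.ball P n) (Place.ball P (n + m)) := by
  induction m with
  | zero => simpa using (relFin_self (Place.ball P n)).1
  | succ m ih =>
    have h1 := (Place.relFin_ball hK P (n + (m + 1 : ℕ))).1
    have e : n + ((m + 1 : ℕ) : ℤ) - 1 = n + m := by push_cast; ring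
    rw [e] at h1
    exact (relFin_chain (Place.ball_mono P (by omega)) (Place.ball_mono P (by push_cast; omega))
      ih h1).1

/-- Multiplication by any `x : K` almost preserves a ball. -/
theorem off_mK (hK : IsFunctionField k K) (P : Place k K) (n : ℤ) {ρ : Module.End k K}
    (hρ : ρ * ρ = ρ) (hr : LinearMap.range ρ = Place.ball P n) (x : K) : Off ρ (mK x) := by
  obtain ⟨m, hm⟩ : ∃ m : ℕ, P.1 x ≤ WithZero.exp (m : ℤ) := by
    refine ⟨(polesDiv k x P).toNat, ?_⟩
    have := val_le_exp_polesDiv hK x P
    rwa [Int.toNat_of_nonneg (polesDiv_nonneg x P)]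
  obtain ⟨Z, hZ, hle⟩ := exists_fd_of_relFin (relFin_ball_add hK P n m)
  refine off_of_map_le hρ Z ?_
  intro y hy
  rw [hr] at hy ⊢
  apply hle
  rw [Place.mem_ball] at hy ⊢
  rw [mK_apply, map_mul, WithZero.exp_add, mul_comm]
  exact mul_le_mul' hy hm

/-! ### The repartition space: evaluation, inclusion, componentwise projection -/

/-- Evaluation of a repartition at a place. -/
def prA (P : Place k K) : adele k K →ₗ[k] K := (LinearMap.proj P) ∘ₗ (adele k K).subtype

@[simp] theorem prA_apply (P : Place k K) (a : adele k K) : prA P a = (a : Place k K → K) P := rfl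

open scoped Classical in
/-- The repartition supported at `P` with component `x`. -/
noncomputable def inA (P : Place k K) : K →ₗ[k] adele k K :=
  (LinearMap.single k (fun _ : Place k K => K) P).codRestrict (adele k K) (by
    intro x
    rw [mem_adele_iff]
    apply (Set.finite_singleton P).subset
    intro Q hQ
    by_contra hne
    apply hQ
    rw [LinearMap.single_apply, Pi.single_eq_of_ne hne, Valuation.map_zero]
    exact zero_le)

open scoped Classical in
theorem inA_apply (P Q : Place k K) (x : K) :
    ((inA P x : adele k K) : Place k K → K) Q = if Q = P then x else 0 := by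
  unfold inA
  rw [LinearMap.codRestrict_apply, LinearMap.single_apply, Pi.single_apply]

theorem prA_inA (P : Place k K) : prA P ∘ₗ inA (k := k) P = LinearMap.id := by
  ext x
  rw [LinearMap.comp_apply, prA_apply, inA_apply, if_pos rfl, LinearMap.id_apply]

theorem mulA_inA (hK : IsFunctionField k K) (P : Place k K) (y : K) :
    mulA hK y ∘ₗ inA P = inA P ∘ₗ (mK y : Module.End k K) := by
  classical
  ext x Q
  rw [LinearMap.comp_apply, LinearMap.comp_apply, mulA_coe, Pi.smul_apply, inA_apply, inA_apply,
    mK_apply, smul_eq_mul]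
  split_ifs <;> simp

variable (D : Divisor k K) (ρ : Place k K → Module.End k K)
  (hr : ∀ P, LinearMap.range (ρ P) = Place.ball P (D P))

/-- The componentwise projection of the repartition space onto `A(D)`. -/
noncomputable def piProj : Module.End k (adele k K) :=
  LinearMap.codRestrict (adele k K)
    (LinearMap.pi fun P => (ρ P) ∘ₗ (LinearMap.proj P) ∘ₗ (adele k K).subtype) (by
    intro a
    apply AD_le_adele D
    rw [mem_AD_iff]
    intro P
    have : ρ P ((a : Place k K → K) P) ∈ Place.ball P (D P) := by
      rw [← hr P]; exact LinearMap.mem_range_self _ _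
    exact this)

theorem piProj_apply (a : adele k K) (P : Place k K) :
    ((piProj D ρ hr a : adele k K) : Place k K → K) P = ρ P ((a : Place k K → K) P) := rfl

theorem piProj_idem (hρ : ∀ P, ρ P * ρ P = ρ P) : piProj D ρ hr * piProj D ρ hr = piProj D ρ hr := by
  ext a P
  rw [Module.End.mul_apply, piProj_apply, piProj_apply, ← Module.End.mul_apply, hρ]

theorem range_piProj (hρ : ∀ P, ρ P * ρ P = ρ P) :
    LinearMap.range (piProj D ρ hr) = (AD D).comap (adele k K).subtype := by
  ext a
  constructor
  · rintro ⟨b, rfl⟩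
    rw [Submodule.mem_comap, Submodule.subtype_apply, mem_AD_iff]
    intro P
    have : ρ P ((b : Place k K → K) P) ∈ Place.ball P (D P) := by
      rw [← hr P]; exact LinearMap.mem_range_self _ _
    exact this
  · intro ha
    rw [Submodule.mem_comap, Submodule.subtype_apply, mem_AD_iff] at ha
    refine ⟨a, ?_⟩
    apply Subtype.ext
    funext P
    rw [piProj_apply]
    have : (a : Place k K → K) P ∈ LinearMap.range (ρ P) := by rw [hr P]; exact ha P
    exact idem_apply_of_mem (hρ P) this

/-- The off-diagonal block of multiplication by `x` is a finite sum of local blocks. -/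
theorem off_block_piProj (hK : IsFunctionField k K) (hρ : ∀ P, ρ P * ρ P = ρ P) (x : K)
    (S : Finset (Place k K)) (hS : ∀ P ∉ S, P.1 x ≤ 1) :
    (1 - piProj D ρ hr) * mulA hK x * piProj D ρ hr =
      ∑ P ∈ S, inA P ∘ₗ ((1 - ρ P) * mK x * ρ P) ∘ₗ prA P := by
  classical
  ext a Q
  rw [LinearMap.coe_sum, Finset.sum_apply, Submodule.coe_sum, Finset.sum_apply]
  simp only [LinearMap.comp_apply, inA_apply, prA_apply]
  rw [Finset.sum_ite_eq S Q]
  have hL : (((1 - piProj D ρ hr) * mulA hK x * piProj D ρ hr) a : Place k K → K) Q =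
      ((1 - ρ Q) * mK x * ρ Q : Module.End k K) ((a : Place k K → K) Q) := by
    simp only [Module.End.mul_apply, LinearMap.sub_apply, Module.End.one_apply,
      Submodule.coe_sub, Pi.sub_apply, piProj_apply, mulA_coe, Pi.smul_apply, smul_eq_mul,
      mK_apply]
  rw [hL]
  split_ifs with hQ
  · rfl
  · have h2 : x * ρ Q ((a : Place k K → K) Q) ∈ LinearMap.range (ρ Q) := by
      rw [hr Q, Place.mem_ball, map_mul]
      have : ρ Q ((a : Place k K → K) Q) ∈ Place.ball Q (D Q) := by
        rw [← hr Q]; exact LinearMap.mem_range_self _ _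
      calc Q.1 x * Q.1 (ρ Q ((a : Place k K → K) Q)) ≤ 1 * WithZero.exp (D Q) :=
            mul_le_mul' (hS Q hQ) this
        _ = WithZero.exp (D Q) := one_mul _
    simp only [Module.End.mul_apply, LinearMap.sub_apply, Module.End.one_apply, mK_apply]
    rw [idem_apply_of_mem (hρ Q) h2, sub_self]

theorem finite_poles (hK : IsFunctionField k K) (x y : K) :
    ∃ S : Finset (Place k K), ∀ P ∉ S, P.1 x ≤ 1 ∧ P.1 y ≤ 1 := by
  classical
  refine ⟨(poles_finite hK x).toFinset ∪ (poles_finite hK y).toFinset, ?_⟩
  intro P hP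
  rw [Finset.mem_union, not_or, Set.Finite.mem_toFinset, Set.Finite.mem_toFinset] at hP
  exact ⟨not_lt.1 hP.1, not_lt.1 hP.2⟩

theorem off_piProj (hK : IsFunctionField k K) (hρ : ∀ P, ρ P * ρ P = ρ P) (x : K) :
    Off (piProj D ρ hr) (mulA hK x) := by
  obtain ⟨S, hS⟩ := finite_poles hK x x
  unfold Off
  rw [off_block_piProj D ρ hr hK hρ x S fun P hP => (hS P hP).1]
  refine finRank_sum S _ fun P _ => ?_
  exact FinRank.comp_left (FinRank.comp_right (off_mK hK P (D P) (hρ P) (hr P) x) _) _

theorem trF_inA_comp_prA (P : Place k K) {X : Module.End k K} (hX : FinRank X) :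
    trF (inA P ∘ₗ X ∘ₗ prA P : Module.End k (adele k K)) = trF X := by
  rw [trF_comm' (R := X ∘ₗ prA P) (hX.comp_right _) (inA P), LinearMap.comp_assoc, prA_inA,
    LinearMap.comp_id]

/-- The global pairing is the sum of the local pairings over any finite set of places containing
the poles. -/
theorem psi_piProj_eq_sum (hK : IsFunctionField k K) (hρ : ∀ P, ρ P * ρ P = ρ P) (x y : K)
    (S : Finset (Place k K)) (hS : ∀ P ∉ S, P.1 x ≤ 1 ∧ P.1 y ≤ 1) :
    psi (piProj D ρ hr) (mulA hK x) (mulA hK y) = ∑ P ∈ S, psi (ρ P) (mK x) (mK y) := by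
  have key : ∀ a b : K, (∀ P ∉ S, P.1 a ≤ 1) →
      trF (mulA hK b * (1 - piProj D ρ hr) * mulA hK a * piProj D ρ hr) =
        ∑ P ∈ S, trF (mK b * (1 - ρ P) * mK a * ρ P : Module.End k K) := by
    intro a b ha
    have e : mulA hK b * (1 - piProj D ρ hr) * mulA hK a * piProj D ρ hr =
        ∑ P ∈ S, inA P ∘ₗ (mK b * (1 - ρ P) * mK a * ρ P : Module.End k K) ∘ₗ prA P := by
      have : mulA hK b * (1 - piProj D ρ hr) * mulA hK a * piProj D ρ hr =
          mulA hK b * ((1 - piProj D ρ hr) * mulA hK a * piProj D ρ hr) := by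
        simp only [mul_assoc]
      rw [this, off_block_piProj D ρ hr hK hρ a S ha, Finset.mul_sum]
      refine Finset.sum_congr rfl fun P _ => ?_
      rw [Module.End.mul_eq_comp, ← LinearMap.comp_assoc, mulA_inA, LinearMap.comp_assoc]
      congr 1
    rw [e, trF_sum]
    · refine Finset.sum_congr rfl fun P _ => ?_
      exact trF_inA_comp_prA P ((off_mK hK P (D P) (hρ P) (hr P) a).fin _)
    · intro P _
      exact FinRank.comp_left (FinRank.comp_right
        ((off_mK hK P (D P) (hρ P) (hr P) a).fin _) _) _
  unfold psi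
  rw [key x y fun P hP => (hS P hP).1, key y x fun P hP => (hS P hP).2, ← Finset.sum_sub_distrib]

/-- The diagonal embedding of `K` into the repartition space. -/
noncomputable def diagA (hK : IsFunctionField k K) : K →ₗ[k] adele k K :=
  (diag k K).codRestrict (adele k K) fun x => XK_le_adele hK ⟨x, rfl⟩

theorem diagA_apply (hK : IsFunctionField k K) (x : K) (P : Place k K) :
    ((diagA hK x : adele k K) : Place k K → K) P = x := rfl

theorem mulA_diagA (hK : IsFunctionField k K) (x y : K) :
    mulA hK x (diagA hK y) = diagA hK (x * y) := by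
  apply Subtype.ext
  funext P
  rw [mulA_coe, Pi.smul_apply, diagA_apply, diagA_apply, smul_eq_mul]

theorem mulA_commute (hK : IsFunctionField k K) (x y : K) :
    Commute (mulA hK x : Module.End k (adele k K)) (mulA hK y) := by
  unfold Commute SemiconjBy
  ext a P
  simp only [Module.End.mul_apply, mulA_coe, Pi.smul_apply, smul_eq_mul]
  ring

/-- Vanishing of the global residue pairing (for a divisor `D` with `L(D) = 0`). -/
theorem psi_piProj_eq_zero (hK : IsFunctionField k K) (hρ : ∀ P, ρ P * ρ P = ρ P)
    (hL : L D = ⊥) (x y : K) :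
    psi (piProj D ρ hr) (mulA hK x) (mulA hK y) = 0 := by
  have hπ := piProj_idem D ρ hr hρ
  have hrange := range_piProj D ρ hr hρ
  set B : Submodule k (adele k K) := LinearMap.range (diagA hK) with hB
  refine psi_eq_zero_of_disjoint hπ B ?_ ?_ (off_piProj D ρ hr hK hρ x)
    (off_piProj D ρ hr hK hρ y) (mulA_commute hK x y) ?_ ?_
  · rw [Submodule.disjoint_def, hrange]
    rintro a ha ⟨z, rfl⟩
    rw [Submodule.mem_comap, Submodule.subtype_apply, mem_AD_iff] at ha
    have hz : z ∈ L D := by
      rw [mem_L_iff]; intro P; exact ha P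
    rw [hL, Submodule.mem_bot] at hz
    rw [hz, map_zero]
  · rw [hrange]
    have h1 := (relFin_adele hK D).1
    have e : (AD D ⊔ XK k K).comap (adele k K).subtype =
        (AD D).comap (adele k K).subtype ⊔ B := by
      apply le_antisymm
      · intro a ha
        rw [Submodule.mem_comap, Submodule.subtype_apply] at ha
        obtain ⟨b, hb, c, ⟨z, rfl⟩, hbc⟩ := Submodule.mem_sup.1 ha
        have : a = ⟨b, AD_le_adele D hb⟩ + diagA hK z := by
          apply Subtype.ext
          rw [Submodule.coe_add, ← hbc]
          rfl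
        rw [this]
        exact Submodule.add_mem_sup (by simpa using hb) ⟨z, rfl⟩
      · apply sup_le
        · exact Submodule.comap_mono le_sup_left
        · rintro _ ⟨z, rfl⟩
          rw [Submodule.mem_comap]
          exact Submodule.mem_sup_right ⟨z, rfl⟩
    unfold RelFin RQ at h1
    rw [e] at h1
    exact h1
  · rintro _ ⟨z, rfl⟩
    rw [mulA_diagA]; exact ⟨_, rfl⟩
  · rintro _ ⟨z, rfl⟩
    rw [mulA_diagA]; exact ⟨_, rfl⟩

end Groth.Agent.Lib.helper10.Tate
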