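import Mathlib

/-!
# Finite-rank traces and the Tate cocycle (abstract part)

`trF R` is the trace of a finite-rank endomorphism of a (possibly infinite-dimensional) vector
space.  For an idempotent `π` (projection onto a subspace `A`) and endomorphisms `f g` that almost
preserve `A`, `psi π f g = trF (g (1-π) f π) - trF (f (1-π) g π)` is Tate's residue pairing.
-/

set_option autoImplicit false
set_option linter.style.haveILetI false

namespace Groth.Agent.Lib.helper10.Tate

open LinearMap Module

section trF

variable {k : Type*} [Field k] {V : Type*} [AddCommGroup V] [Module k V]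
  {W : Type*} [AddCommGroup W] [Module k W] {U : Type*} [AddCommGroup U] [Module k U]

/-- A linear map of finite rank. -/
def FinRank (R : V →ₗ[k] W) : Prop := FiniteDimensional k (LinearMap.range R)

theorem FinRank.of_range_le {R : V →ₗ[k] W} {Z : Submodule k W} [FiniteDimensional k Z]
    (h : LinearMap.range R ≤ Z) : FinRank R := Submodule.finiteDimensional_of_le h

theorem finRank_zero : FinRank (0 : V →ₗ[k] W) := by
  unfold FinRank; rw [LinearMap.range_zero]; infer_instance

theorem FinRank.add {R S : V →ₗ[k] W} (hR : FinRank R) (hS : FinRank S) : FinRank (R + S) := by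
  haveI : FiniteDimensional k (LinearMap.range R) := hR
  haveI : FiniteDimensional k (LinearMap.range S) := hS
  refine FinRank.of_range_le (Z := LinearMap.range R ⊔ LinearMap.range S) ?_
  rintro _ ⟨x, rfl⟩
  exact Submodule.add_mem_sup (LinearMap.mem_range_self R x) (LinearMap.mem_range_self S x)

theorem FinRank.smul {R : V →ₗ[k] W} (hR : FinRank R) (c : k) : FinRank (c • R) := by
  haveI : FiniteDimensional k (LinearMap.range R) := hR
  refine FinRank.of_range_le (Z := LinearMap.range R) ?_
  rintro _ ⟨x, rfl⟩
  exact Submodule.smul_mem _ c (LinearMap.mem_range_self R x)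

theorem FinRank.neg {R : V →ₗ[k] W} (hR : FinRank R) : FinRank (-R) := by
  have := hR.smul (-1 : k); rwa [neg_one_smul] at this

theorem FinRank.sub {R S : V →ₗ[k] W} (hR : FinRank R) (hS : FinRank S) : FinRank (R - S) := by
  rw [sub_eq_add_neg]; exact hR.add hS.neg

theorem FinRank.comp_left {R : V →ₗ[k] W} (hR : FinRank R) (T : W →ₗ[k] U) :
    FinRank (T ∘ₗ R) := by
  haveI : FiniteDimensional k (LinearMap.range R) := hR
  unfold FinRank; rw [LinearMap.range_comp]; infer_instance

theorem FinRank.comp_right {R : V →ₗ[k] W} (hR : FinRank R) (T : U →ₗ[k] V) :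
    FinRank (R ∘ₗ T) := by
  haveI : FiniteDimensional k (LinearMap.range R) := hR
  exact FinRank.of_range_le (LinearMap.range_comp_le_range T R)

theorem FinRank.mul_left {R : Module.End k V} (hR : FinRank R) (T : Module.End k V) :
    FinRank (T * R) := hR.comp_left T

theorem FinRank.mul_right {R : Module.End k V} (hR : FinRank R) (T : Module.End k V) :
    FinRank (R * T) := hR.comp_right T

theorem finRank_sum {ι : Type*} (s : Finset ι) (R : ι → V →ₗ[k] W) (h : ∀ i ∈ s, FinRank (R i)) :
    FinRank (∑ i ∈ s, R i) := by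
  classical
  induction s using Finset.induction_on with
  | empty => simpa using finRank_zero
  | insert a s ha ih =>
    rw [Finset.sum_insert ha]
    exact (h a (Finset.mem_insert_self a s)).add (ih fun i hi => h i (Finset.mem_insert_of_mem hi))

/-- The trace of a finite-rank endomorphism (junk value for infinite rank). -/
noncomputable def trF (R : Module.End k V) : k :=
  LinearMap.trace k (LinearMap.range R)
    (R.restrict (p := LinearMap.range R) (q := LinearMap.range R)
      (fun x _ => LinearMap.mem_range_self R x))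

theorem trF_eq_trace (R : Module.End k V) (Z : Submodule k V) [FiniteDimensional k Z]
    (hZ : LinearMap.range R ≤ Z) :
    trF R = LinearMap.trace k Z
      (R.restrict (p := Z) (q := Z) (fun x _ => hZ (LinearMap.mem_range_self R x))) := by
  haveI : FiniteDimensional k (LinearMap.range R) := Submodule.finiteDimensional_of_le hZ
  set ι : LinearMap.range R →ₗ[k] Z := Submodule.inclusion hZ
  set ρ : Z →ₗ[k] LinearMap.range R := R.rangeRestrict ∘ₗ Z.subtype
  have h1 : ι ∘ₗ ρ = R.restrict (p := Z) (q := Z)
      (fun x _ => hZ (LinearMap.mem_range_self R x)) := by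
    ext x; rfl
  have h2 : ρ ∘ₗ ι = R.restrict (p := LinearMap.range R) (q := LinearMap.range R)
      (fun x _ => LinearMap.mem_range_self R x) := by
    ext x; rfl
  unfold trF
  rw [← h1, ← h2]
  exact LinearMap.trace_comp_comm' ι ρ

theorem trF_zero : trF (0 : Module.End k V) = 0 := by
  rw [trF_eq_trace 0 ⊥ (by simp)]
  have : ((0 : Module.End k V).restrict (p := (⊥ : Submodule k V)) (q := ⊥)
      (fun x _ => (by simp : LinearMap.range (0 : Module.End k V) ≤ ⊥)
        (LinearMap.mem_range_self (0 : Module.End k V) x))) = 0 := by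
    ext x
  rw [this, map_zero]

theorem trF_add {R S : Module.End k V} (hR : FinRank R) (hS : FinRank S) :
    trF (R + S) = trF R + trF S := by
  haveI : FiniteDimensional k (LinearMap.range R) := hR
  haveI : FiniteDimensional k (LinearMap.range S) := hS
  set Z := LinearMap.range R ⊔ LinearMap.range S
  have hRZ : LinearMap.range R ≤ Z := le_sup_left
  have hSZ : LinearMap.range S ≤ Z := le_sup_right
  have hRSZ : LinearMap.range (R + S) ≤ Z := by
    rintro _ ⟨x, rfl⟩
    exact Submodule.add_mem_sup (LinearMap.mem_range_self R x) (LinearMap.mem_range_self S x)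
  rw [trF_eq_trace R Z hRZ, trF_eq_trace S Z hSZ, trF_eq_trace (R + S) Z hRSZ, ← map_add]
  congr 1

theorem trF_of_not_finRank {R : Module.End k V} (h : ¬ FinRank R) : trF R = 0 := by
  unfold trF
  rw [LinearMap.trace, dif_neg]
  · rfl
  · rintro ⟨s, ⟨b⟩⟩
    exact h (Module.Finite.of_basis b)

theorem trF_smul (c : k) (R : Module.End k V) : trF (c • R) = c * trF R := by
  by_cases hR : FinRank R
  · haveI : FiniteDimensional k (LinearMap.range R) := hR
    have hZ : LinearMap.range (c • R) ≤ LinearMap.range R := by
      rintro _ ⟨x, rfl⟩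
      exact Submodule.smul_mem _ c (LinearMap.mem_range_self R x)
    rw [trF_eq_trace (c • R) _ hZ, trF_eq_trace R _ le_rfl, ← smul_eq_mul, ← map_smul]
    congr 1
  · by_cases hc : c = 0
    · subst hc; simp [trF_zero]
    · have h1 : ¬ FiniteDimensional k (LinearMap.range R) := hR
      have h2 : ¬ FiniteDimensional k (LinearMap.range (c • R)) := by
        intro h
        apply hR
        have := FinRank.smul (R := c • R) h c⁻¹
        rwa [smul_smul, inv_mul_cancel₀ hc, one_smul] at this
      rw [trF_of_not_finRank hR, trF_of_not_finRank h2, mul_zero]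

theorem trF_neg (R : Module.End k V) : trF (-R) = - trF R := by
  rw [← neg_one_smul k R, trF_smul, neg_one_mul]

theorem trF_sub {R S : Module.End k V} (hR : FinRank R) (hS : FinRank S) :
    trF (R - S) = trF R - trF S := by
  rw [sub_eq_add_neg, trF_add hR hS.neg, trF_neg, sub_eq_add_neg]

theorem trF_sum {ι : Type*} (s : Finset ι) (R : ι → Module.End k V) (h : ∀ i ∈ s, FinRank (R i)) :
    trF (∑ i ∈ s, R i) = ∑ i ∈ s, trF (R i) := by
  classical
  induction s using Finset.induction_on with
  | empty => simpa using trF_zero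
  | insert a s ha ih =>
    rw [Finset.sum_insert ha, Finset.sum_insert ha,
      trF_add (h a (Finset.mem_insert_self a s))
        (finRank_sum s R fun i hi => h i (Finset.mem_insert_of_mem hi)),
      ih fun i hi => h i (Finset.mem_insert_of_mem hi)]

/-- Cyclicity of the finite-rank trace, between two spaces. -/
theorem trF_comm' {R : V →ₗ[k] W} (hR : FinRank R) (T : W →ₗ[k] V) :
    trF (T ∘ₗ R : Module.End k V) = trF (R ∘ₗ T : Module.End k W) := by
  haveI : FiniteDimensional k (LinearMap.range R) := hR
  -- Z = range R ⊆ W, Z' = T(Z) = range (T ∘ R) ⊆ V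
  set Z : Submodule k W := LinearMap.range R
  set Z' : Submodule k V := LinearMap.range (T ∘ₗ R)
  haveI : FiniteDimensional k Z' := hR.comp_left T
  have hZ : LinearMap.range (R ∘ₗ T) ≤ Z := LinearMap.range_comp_le_range T R
  let α : Z →ₗ[k] Z' := T.restrict (p := Z) (q := Z') (by
    rintro _ ⟨x, rfl⟩; exact ⟨x, rfl⟩)
  let β : Z' →ₗ[k] Z := R.restrict (p := Z') (q := Z) (fun x _ => LinearMap.mem_range_self R x)
  have h1 : β ∘ₗ α = (R ∘ₗ T).restrict (p := Z) (q := Z)
      (fun x _ => hZ (LinearMap.mem_range_self (R ∘ₗ T) x)) := by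
    ext x; rfl
  have h2 : α ∘ₗ β = (T ∘ₗ R).restrict (p := Z') (q := Z')
      (fun x _ => LinearMap.mem_range_self (T ∘ₗ R) x) := by
    ext x; rfl
  rw [trF_eq_trace (R ∘ₗ T) Z hZ, ← h1]
  unfold trF
  rw [← h2]
  exact LinearMap.trace_comp_comm' β α

theorem trF_comm {R : Module.End k V} (hR : FinRank R) (T : Module.End k V) :
    trF (R * T) = trF (T * R) := (trF_comm' hR T).symm

/-- The trace of a finite-rank idempotent is the dimension of its range. -/
theorem trF_idem {e : Module.End k V} (he : e * e = e) :
    trF e = (Module.finrank k (LinearMap.range e) : k) := by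
  by_cases hR : FinRank e
  · haveI : FiniteDimensional k (LinearMap.range e) := hR
    have : e.restrict (p := LinearMap.range e) (q := LinearMap.range e)
        (fun x _ => LinearMap.mem_range_self e x) = LinearMap.id := by
      ext ⟨_, y, rfl⟩
      show e (e y) = e y
      rw [← Module.End.mul_apply, he]
    unfold trF
    rw [this, LinearMap.trace_id]
  · have h1 : ¬ FiniteDimensional k (LinearMap.range e) := hR
    rw [trF_of_not_finRank hR, Module.finrank_of_not_finite h1, Nat.cast_zero]

end trF

section cocycle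

variable {k : Type*} [Field k] {V : Type*} [AddCommGroup V] [Module k V]

/-- `h` almost preserves the range of the idempotent `π`: the lower-left block is of finite rank. -/
def Off (π h : Module.End k V) : Prop := FinRank ((1 - π) * h * π)

/-- Tate's residue pairing with respect to the idempotent `π`. -/
noncomputable def psi (π f g : Module.End k V) : k :=
  trF (g * (1 - π) * f * π) - trF (f * (1 - π) * g * π)

variable {π f f' g g' h : Module.End k V}

theorem Off.fin (hf : Off π f) (a : Module.End k V) : FinRank (a * (1 - π) * f * π) := by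
  have : a * (1 - π) * f * π = a * ((1 - π) * f * π) := by simp only [mul_assoc]
  rw [this]; exact FinRank.mul_left hf a

theorem Off.add (hf : Off π f) (hg : Off π g) : Off π (f + g) := by
  unfold Off
  have : (1 - π) * (f + g) * π = (1 - π) * f * π + (1 - π) * g * π := by
    rw [mul_add, add_mul]
  rw [this]; exact FinRank.add hf hg

theorem Off.smul (hf : Off π f) (c : k) : Off π (c • f) := by
  unfold Off
  have : (1 - π) * (c • f) * π = c • ((1 - π) * f * π) := by
    rw [mul_smul_comm, smul_mul_assoc]
  rw [this]; exact FinRank.smul hf c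

theorem Off.neg (hf : Off π f) : Off π (-f) := by
  have := hf.smul (-1 : k); rwa [neg_one_smul] at this

theorem Off.sub (hf : Off π f) (hg : Off π g) : Off π (f - g) := by
  rw [sub_eq_add_neg]; exact hf.add hg.neg

theorem Off.mul (hf : Off π f) (hg : Off π g) : Off π (f * g) := by
  unfold Off
  have : (1 - π) * (f * g) * π =
      ((1 - π) * f * π) * (g * π) + ((1 - π) * f) * ((1 - π) * g * π) := by
    simp only [mul_sub, sub_mul, mul_one, one_mul, mul_assoc]
    abel
  rw [this]
  exact FinRank.add (FinRank.mul_right hf _) (FinRank.mul_left hg _)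

theorem off_smul_one (hπ : π * π = π) (c : k) : Off π (c • (1 : Module.End k V)) := by
  unfold Off
  have : (1 - π) * (c • (1 : Module.End k V)) * π = 0 := by
    rw [mul_smul_comm, mul_one, smul_mul_assoc, sub_mul, one_mul, hπ, sub_self, smul_zero]
  rw [this]; exact finRank_zero

theorem off_one (hπ : π * π = π) : Off π (1 : Module.End k V) := by
  have := off_smul_one hπ (1 : k); rwa [one_smul] at this

theorem Off.pow (hπ : π * π = π) (hf : Off π f) (n : ℕ) : Off π (f ^ n) := by
  induction n with
  | zero => rw [pow_zero]; exact off_one hπ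
  | succ n ih => rw [pow_succ]; exact ih.mul hf

theorem off_of_stable (hf : (1 - π) * f * π = 0) : Off π f := by
  unfold Off; rw [hf]; exact finRank_zero

theorem psi_add_left (hf : Off π f) (hf' : Off π f') (hg : Off π g) :
    psi π (f + f') g = psi π f g + psi π f' g := by
  unfold psi
  have e1 : g * (1 - π) * (f + f') * π = g * (1 - π) * f * π + g * (1 - π) * f' * π := by
    rw [mul_add, add_mul]
  have e2 : (f + f') * (1 - π) * g * π = f * (1 - π) * g * π + f' * (1 - π) * g * π := by
    simp only [add_mul]
  rw [e1, e2, trF_add (hf.fin g) (hf'.fin g), trF_add (hg.fin f) (hg.fin f')]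
  ring

theorem psi_add_right (hf : Off π f) (hg : Off π g) (hg' : Off π g') :
    psi π f (g + g') = psi π f g + psi π f g' := by
  unfold psi
  have e1 : (g + g') * (1 - π) * f * π = g * (1 - π) * f * π + g' * (1 - π) * f * π := by
    simp only [add_mul]
  have e2 : f * (1 - π) * (g + g') * π = f * (1 - π) * g * π + f * (1 - π) * g' * π := by
    rw [mul_add, add_mul]
  rw [e1, e2, trF_add (hf.fin g) (hf.fin g'), trF_add (hg.fin f) (hg'.fin f)]
  ring

theorem psi_smul_left (c : k) : psi π (c • f) g = c * psi π f g := by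
  unfold psi
  have e1 : g * (1 - π) * (c • f) * π = c • (g * (1 - π) * f * π) := by
    rw [mul_smul_comm, smul_mul_assoc]
  have e2 : (c • f) * (1 - π) * g * π = c • (f * (1 - π) * g * π) := by
    simp only [smul_mul_assoc]
  rw [e1, e2, trF_smul, trF_smul]
  ring

theorem psi_smul_right (c : k) : psi π f (c • g) = c * psi π f g := by
  unfold psi
  have e1 : (c • g) * (1 - π) * f * π = c • (g * (1 - π) * f * π) := by
    simp only [smul_mul_assoc]
  have e2 : f * (1 - π) * (c • g) * π = c • (f * (1 - π) * g * π) := by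
    rw [mul_smul_comm, smul_mul_assoc]
  rw [e1, e2, trF_smul, trF_smul]
  ring

theorem psi_zero_left : psi π 0 g = 0 := by
  have := psi_smul_left (π := π) (f := 0) (g := g) (0 : k)
  rwa [zero_smul, zero_mul] at this

theorem psi_zero_right : psi π f 0 = 0 := by
  have := psi_smul_right (π := π) (f := f) (g := 0) (0 : k)
  rwa [zero_smul, zero_mul] at this

theorem psi_neg_left : psi π (-f) g = - psi π f g := by
  rw [← neg_one_smul k f, psi_smul_left, neg_one_mul]

theorem psi_neg_right : psi π f (-g) = - psi π f g := by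
  rw [← neg_one_smul k g, psi_smul_right, neg_one_mul]

theorem psi_sub_left (hf : Off π f) (hf' : Off π f') (hg : Off π g) :
    psi π (f - f') g = psi π f g - psi π f' g := by
  rw [sub_eq_add_neg, psi_add_left hf hf'.neg hg, psi_neg_left, sub_eq_add_neg]

theorem psi_sub_right (hf : Off π f) (hg : Off π g) (hg' : Off π g') :
    psi π f (g - g') = psi π f g - psi π f g' := by
  rw [sub_eq_add_neg, psi_add_right hf hg hg'.neg, psi_neg_right, sub_eq_add_neg]

theorem psi_sum_left {ι : Type*} (s : Finset ι) (F : ι → Module.End k V)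
    (hF : ∀ i ∈ s, Off π (F i)) (hg : Off π g) :
    psi π (∑ i ∈ s, F i) g = ∑ i ∈ s, psi π (F i) g := by
  classical
  induction s using Finset.induction_on with
  | empty => simpa using psi_zero_left
  | insert a s ha ih =>
    have hs : Off π (∑ i ∈ s, F i) := by
      clear ih
      induction s using Finset.induction_on with
      | empty =>
        rw [Finset.sum_empty]
        have := (off_of_stable (π := π) (f := 0) (by simp))
        exact this
      | insert b s hb ih =>
        rw [Finset.sum_insert hb]
        refine Off.add (hF b (by simp)) (ih ?_ ?_)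
        · intro h; exact ha (Finset.mem_insert_of_mem h)
        · intro i hi
          rcases Finset.mem_insert.1 hi with h | h
          · exact hF i (by simp [h])
          · exact hF i (by simp [h])
    rw [Finset.sum_insert ha, Finset.sum_insert ha,
      psi_add_left (hF a (Finset.mem_insert_self a s)) hs hg,
      ih fun i hi => hF i (Finset.mem_insert_of_mem hi)]

/-- The pairing vanishes when both endomorphisms preserve the range of `π`. -/
theorem psi_eq_zero_of_stable (hf : (1 - π) * f * π = 0) (hg : (1 - π) * g * π = 0) :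
    psi π f g = 0 := by
  unfold psi
  have e1 : g * (1 - π) * f * π = 0 := by
    have : g * (1 - π) * f * π = g * ((1 - π) * f * π) := by simp only [mul_assoc]
    rw [this, hf, mul_zero]
  have e2 : f * (1 - π) * g * π = 0 := by
    have : f * (1 - π) * g * π = f * ((1 - π) * g * π) := by simp only [mul_assoc]
    rw [this, hg, mul_zero]
  rw [e1, e2, trF_zero, sub_zero]

/-- The derivation property of the pairing in its second argument. -/
theorem psi_leibniz (hf : Off π f) (hg : Off π g) (hh : Off π h) (hfh : Commute f h) :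
    psi π f (g * h) = psi π (f * g) h + psi π (f * h) g := by
  -- C a b := a (1-π) b π
  have key : ∀ a b c : Module.End k V, Off π b → Off π c →
      trF (a * (1 - π) * (b * c) * π) - trF (a * b * (1 - π) * c * π) =
        trF (a * (1 - π) * b * π * (c * π)) - trF (a * π * (b * (1 - π) * c * π)) := by
    intro a b c hb hc
    have e : a * (1 - π) * (b * c) * π - a * b * (1 - π) * c * π =
        a * (1 - π) * b * π * (c * π) - a * π * (b * (1 - π) * c * π) := by
      simp only [mul_sub, sub_mul, mul_one, mul_assoc]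
      abel
    rw [← trF_sub ((hb.mul hc).fin a) (hc.fin (a * b)), e,
      trF_sub (FinRank.mul_right (hb.fin a) _) (FinRank.mul_left (hc.fin b) _)]
  have k1 := key f g h hg hh
  have k2 := key h f g hf hg
  have k3 := key g h f hh hf
  have c1 : trF (f * (1 - π) * g * π * (h * π)) = trF (h * π * (f * (1 - π) * g * π)) :=
    trF_comm (hg.fin f) _
  have c2 : trF (h * (1 - π) * f * π * (g * π)) = trF (g * π * (h * (1 - π) * f * π)) :=
    trF_comm (hf.fin h) _
  have c3 : trF (g * (1 - π) * h * π * (f * π)) = trF (f * π * (g * (1 - π) * h * π)) :=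
    trF_comm (hh.fin g) _
  rw [← hfh.eq] at k2 k3
  unfold psi
  linear_combination (-1 : k) * k1 - k2 - k3 - c1 - c2 - c3

theorem trF_off_eq_zero (hπ : π * π = π) (hf : Off π f) : trF ((1 - π) * f * π) = 0 := by
  have e1 : (1 - π) * f * π = ((1 - π) * f * π) * π := by rw [mul_assoc _ π π, hπ]
  have e2 : π * ((1 - π) * f * π) = 0 := by
    simp only [mul_sub, sub_mul, mul_one, one_mul, ← mul_assoc, hπ, sub_self]
  rw [e1, trF_comm hf, e2, trF_zero]

/-- Scalars (constants) pair to zero on the right. -/
theorem psi_smul_one_right (hπ : π * π = π) (hf : Off π f) (c : k) :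
    psi π f (c • (1 : Module.End k V)) = 0 := by
  unfold psi
  have e1 : (c • (1 : Module.End k V)) * (1 - π) * f * π = c • ((1 - π) * f * π) := by
    simp only [smul_mul_assoc, one_mul]
  have e2 : f * (1 - π) * (c • (1 : Module.End k V)) * π = 0 := by
    rw [mul_smul_comm, mul_one, smul_mul_assoc, mul_assoc, sub_mul, one_mul, hπ, sub_self,
      mul_zero, smul_zero]
  rw [e1, e2, trF_smul, trF_off_eq_zero hπ hf, trF_zero, mul_zero, sub_zero]

theorem psi_smul_one_left (hπ : π * π = π) (hg : Off π g) (c : k) :
    psi π (c • (1 : Module.End k V)) g = 0 := by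
  unfold psi
  have e1 : (c • (1 : Module.End k V)) * (1 - π) * g * π = c • ((1 - π) * g * π) := by
    simp only [smul_mul_assoc, one_mul]
  have e2 : g * (1 - π) * (c • (1 : Module.End k V)) * π = 0 := by
    rw [mul_smul_comm, mul_one, smul_mul_assoc, mul_assoc, sub_mul, one_mul, hπ, sub_self,
      mul_zero, smul_zero]
  rw [e1, e2, trF_smul, trF_off_eq_zero hπ hg, trF_zero, mul_zero, sub_zero]

/-- Commutator form of the pairing for commuting endomorphisms. -/
theorem psi_eq_trF_comm (hπ : π * π = π) (hf : Off π f) (hg : Off π g) (hfg : Commute f g) :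
    psi π f g = trF (π * f * π * (π * g * π) - π * g * π * (π * f * π)) := by
  have hπ' : ∀ x, π * (π * x) = π * x := fun x => by rw [← mul_assoc, hπ]
  have e : π * f * π * (π * g * π) - π * g * π * (π * f * π) =
      π * (g * (1 - π) * f * π) - π * (f * (1 - π) * g * π) := by
    have h1 : π * (g * f * π) = π * (f * g * π) := by rw [hfg.eq]
    simp only [mul_sub, sub_mul, mul_one, mul_assoc, hπ'] at h1 ⊢
    rw [h1]; abel
  have c1 : trF (π * (g * (1 - π) * f * π)) = trF (g * (1 - π) * f * π) := by
    rw [← trF_comm (hf.fin g), mul_assoc _ π π, hπ]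
  have c2 : trF (π * (f * (1 - π) * g * π)) = trF (f * (1 - π) * g * π) := by
    rw [← trF_comm (hg.fin f), mul_assoc _ π π, hπ]
  rw [e, trF_sub (FinRank.mul_left (hf.fin g) _) (FinRank.mul_left (hg.fin f) _), c1, c2]
  rfl

/-- Power rule: `g ^ n dg` has residue zero for `n ≥ 0`. -/
theorem psi_pow_self (hπ : π * π = π) (hg : Off π g) (n : ℕ) : psi π (g ^ n) g = 0 := by
  have hπ' : ∀ x, π * (π * x) = π * x := fun x => by rw [← mul_assoc, hπ]
  rcases n with _ | n
  · rw [pow_zero]
    have := psi_smul_one_left hπ hg (1 : k)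
    rwa [one_smul] at this
  -- R_m = π g^(m+1) π - (π g π)^(m+1) is of finite rank
  have hR : ∀ m : ℕ, FinRank (π * g ^ (m + 1) * π - (π * g * π) ^ (m + 1)) := by
    intro m
    induction m with
    | zero => simp only [zero_add, pow_one, sub_self]; exact finRank_zero
    | succ m ih =>
      have e : π * g ^ (m + 1 + 1) * π - (π * g * π) ^ (m + 1 + 1) =
          (π * g ^ (m + 1) * π - (π * g * π) ^ (m + 1)) * (π * g * π) +
            π * g ^ (m + 1) * ((1 - π) * g * π) := by
        rw [pow_succ g (m + 1), pow_succ (π * g * π) (m + 1)]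
        simp only [mul_sub, sub_mul, one_mul, mul_assoc, hπ']
        abel
      rw [e]
      exact FinRank.add (FinRank.mul_right ih _) (FinRank.mul_left hg _)
  rw [psi_eq_trF_comm hπ (hg.pow hπ _) hg ((Commute.refl g).pow_left _)]
  set R := π * g ^ (n + 1) * π - (π * g * π) ^ (n + 1) with hRdef
  have e : π * g ^ (n + 1) * π * (π * g * π) - π * g * π * (π * g ^ (n + 1) * π) =
      R * (π * g * π) - (π * g * π) * R := by
    have : π * g ^ (n + 1) * π = R + (π * g * π) ^ (n + 1) := by rw [hRdef]; abel
    rw [this, add_mul, mul_add, ← pow_succ, ← pow_succ']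
    abel
  rw [e, trF_sub (FinRank.mul_right (hR n) _) (FinRank.mul_left (hR n) _), trF_comm (hR n),
    sub_self]

/-- Logarithmic rule: if `g` is invertible with inverse `g'` and preserves the range of `π`, then
the residue of `g⁻¹ dg` is the trace of the idempotent `(1 - g π g') π`, whose range is isomorphic
to `A / gA`. -/
theorem psi_inv_self (hπ : π * π = π) (hgg' : g * g' = 1) (hg'g : g' * g = 1)
    (hg : (1 - π) * g * π = 0) :
    psi π g' g = trF ((1 - g * π * g') * π) ∧
      ((1 - g * π * g') * π) * ((1 - g * π * g') * π) = (1 - g * π * g') * π := by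
  have hπ' : ∀ x, π * (π * x) = π * x := fun x => by rw [← mul_assoc, hπ]
  have hgπ : g * π = π * g * π := by
    have : (1 - π) * g * π = g * π - π * g * π := by
      simp only [sub_mul, one_mul]
    rw [this, sub_eq_zero] at hg; exact hg
  have hgπ' : ∀ x, π * (g * (π * x)) = g * (π * x) := fun x => by
    have := congrArg (· * x) hgπ
    simp only [mul_assoc] at this
    rw [this, hπ']
  have hg'g' : ∀ x, g' * (g * x) = x := fun x => by rw [← mul_assoc, hg'g, one_mul]
  have hgg'' : ∀ x, g * (g' * x) = x := fun x => by rw [← mul_assoc, hgg', one_mul]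
  constructor
  · unfold psi
    have e2 : g' * (1 - π) * g * π = 0 := by
      have : g' * (1 - π) * g * π = g' * ((1 - π) * g * π) := by simp only [mul_assoc]
      rw [this, hg, mul_zero]
    have e1 : g * (1 - π) * g' * π = (1 - g * π * g') * π := by
      simp only [mul_sub, sub_mul, mul_one, one_mul, mul_assoc, hgg'']
    rw [e1, e2, trF_zero, sub_zero]
  · simp only [mul_sub, sub_mul, mul_one, one_mul, mul_assoc, hπ', hπ, hgπ', hg'g']
    abel

theorem finRank_comm_form (hπ : π * π = π) (hf : Off π f) (hg : Off π g) (hfg : Commute f g) :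
    FinRank (π * f * π * (π * g * π) - π * g * π * (π * f * π)) := by
  have hπ' : ∀ x, π * (π * x) = π * x := fun x => by rw [← mul_assoc, hπ]
  have e : π * f * π * (π * g * π) - π * g * π * (π * f * π) =
      π * (g * (1 - π) * f * π) - π * (f * (1 - π) * g * π) := by
    have h1 : π * (g * f * π) = π * (f * g * π) := by rw [hfg.eq]
    simp only [mul_sub, sub_mul, mul_one, mul_assoc, hπ'] at h1 ⊢
    rw [h1]; abel
  rw [e]
  exact FinRank.sub (FinRank.mul_left (hf.fin g) _) (FinRank.mul_left (hg.fin f) _)

/-- `Off` only depends on the range of the idempotent. -/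
theorem Off.of_same_range {π₁ π₂ : Module.End k V} (h12 : π₁ * π₂ = π₂) (h21 : π₂ * π₁ = π₁)
    (hf : Off π₁ f) : Off π₂ f := by
  unfold Off
  have e : (1 - π₂) * f * π₂ = (1 - π₂) * ((1 - π₁) * f * π₁) * π₂ := by
    have a1 : (1 - π₂) * (1 - π₁) = 1 - π₂ := by
      simp only [mul_sub, sub_mul, mul_one, one_mul, h21]; abel
    calc (1 - π₂) * f * π₂ = (1 - π₂) * f * (π₁ * π₂) := by rw [h12]
      _ = ((1 - π₂) * (1 - π₁)) * f * π₁ * π₂ := by rw [a1]; simp only [mul_assoc]
      _ = (1 - π₂) * ((1 - π₁) * f * π₁) * π₂ := by simp only [mul_assoc]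
  rw [e]
  exact FinRank.mul_right (FinRank.mul_left hf _) _

/-- The pairing only depends on the range of the idempotent. -/
theorem psi_eq_of_same_range {π₁ π₂ : Module.End k V} (hπ1 : π₁ * π₁ = π₁) (hπ2 : π₂ * π₂ = π₂)
    (h12 : π₁ * π₂ = π₂) (h21 : π₂ * π₁ = π₁) (hf : Off π₁ f) (hg : Off π₁ g)
    (hfg : Commute f g) : psi π₂ f g = psi π₁ f g := by
  have hf2 : Off π₂ f := hf.of_same_range h12 h21
  have hg2 : Off π₂ g := hg.of_same_range h12 h21
  rw [psi_eq_trF_comm hπ1 hf hg hfg, psi_eq_trF_comm hπ2 hf2 hg2 hfg]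
  set Y₂ := π₂ * f * π₂ * (π₂ * g * π₂) - π₂ * g * π₂ * (π₂ * f * π₂) with hY₂
  have hY₂fr : FinRank Y₂ := finRank_comm_form hπ2 hf2 hg2 hfg
  have h12' : ∀ x, π₁ * (π₂ * x) = π₂ * x := fun x => by rw [← mul_assoc, h12]
  have h21' : ∀ x, π₂ * (π₁ * x) = π₁ * x := fun x => by rw [← mul_assoc, h21]
  have hπ1' : ∀ x, π₁ * (π₁ * x) = π₁ * x := fun x => by rw [← mul_assoc, hπ1]
  have hπ2' : ∀ x, π₂ * (π₂ * x) = π₂ * x := fun x => by rw [← mul_assoc, hπ2]
  have eY : Y₂ = π₁ * Y₂ := by
    rw [hY₂]; simp only [mul_sub, mul_assoc, h12']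
  set F₁ := π₁ * f * π₁ with hF₁
  set G₁ := π₁ * g * π₁ with hG₁
  set Sf := π₂ * ((1 - π₁) * f * π₁) with hSf
  set Sg := π₂ * ((1 - π₁) * g * π₁) with hSg
  have hSffr : FinRank Sf := FinRank.mul_left hf _
  have hSgfr : FinRank Sg := FinRank.mul_left hg _
  have eF : π₂ * f * π₁ = F₁ + Sf := by
    rw [hF₁, hSf]
    simp only [mul_sub, sub_mul, mul_one, one_mul, mul_assoc, h21']
    abel
  have eG : π₂ * g * π₁ = G₁ + Sg := by
    rw [hG₁, hSg]
    simp only [mul_sub, sub_mul, mul_one, one_mul, mul_assoc, h21']
    abel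
  have eYπ : Y₂ * π₁ = (π₂ * f * π₁) * (π₂ * g * π₁) - (π₂ * g * π₁) * (π₂ * f * π₁) := by
    have a1 : ∀ x, π₂ * (f * (π₁ * (π₂ * x))) = π₂ * (f * (π₂ * x)) := fun x => by rw [h12']
    have a2 : ∀ x, π₂ * (g * (π₁ * (π₂ * x))) = π₂ * (g * (π₂ * x)) := fun x => by rw [h12']
    rw [hY₂]
    simp only [sub_mul, mul_assoc, h21, a1, a2, hπ2']
  have c0 : trF Y₂ = trF (Y₂ * π₁) := by
    conv_lhs => rw [eY]
    rw [← trF_comm hY₂fr]
  have hFG : FinRank (F₁ * G₁ - G₁ * F₁) := finRank_comm_form hπ1 hf hg hfg
  rw [c0, eYπ, eF, eG]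
  have e : (F₁ + Sf) * (G₁ + Sg) - (G₁ + Sg) * (F₁ + Sf) =
      (F₁ * G₁ - G₁ * F₁) + (F₁ * Sg - Sg * F₁) + (Sf * G₁ - G₁ * Sf) + (Sf * Sg - Sg * Sf) := by
    simp only [mul_add, add_mul]; abel
  rw [e, trF_add ((hFG.add ((hSgfr.mul_left _).sub (hSgfr.mul_right _))).add
      ((hSffr.mul_right _).sub (hSffr.mul_left _))) ((hSffr.mul_right _).sub (hSffr.mul_left _)),
    trF_add (hFG.add ((hSgfr.mul_left _).sub (hSgfr.mul_right _)))
      ((hSffr.mul_right _).sub (hSffr.mul_left _)),
    trF_add hFG ((hSgfr.mul_left _).sub (hSgfr.mul_right _)),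
    trF_sub (hSgfr.mul_left _) (hSgfr.mul_right _), trF_sub (hSffr.mul_right _) (hSffr.mul_left _),
    trF_sub (hSffr.mul_right _) (hSffr.mul_left _), trF_comm hSgfr F₁, trF_comm hSffr G₁,
    trF_comm hSffr Sg]
  ring

/-- Global vanishing, operator form: if the kernel of `π` is `range q ⊕ range p` with `p` of finite
rank and `range q` stable under `f` and `g`, the pairing vanishes. -/
theorem psi_eq_zero_of_kernel_stable {p : Module.End k V} (hπ : π * π = π) (hp : p * p = p)
    (hπp : π * p = 0) (hpπ : p * π = 0) (hpfr : FinRank p)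
    (hf : Off π f) (hg : Off π g) (hfg : Commute f g)
    (hf1 : π * f * (1 - π - p) = 0) (hf2 : p * f * (1 - π - p) = 0)
    (hg1 : π * g * (1 - π - p) = 0) (hg2 : p * g * (1 - π - p) = 0) :
    psi π f g = 0 := by
  have key : ∀ a b : Module.End k V, Off π a → π * b * (1 - π - p) = 0 →
      p * a * (1 - π - p) = 0 →
      trF (b * (1 - π) * a * π) = trF (p * a * b * p) - trF (p * a * p * (p * b * p)) := by
    intro a b ha hb1 ha2
    have e0 : b * (1 - π) * a * π = b * (1 - π - p) * a * π + b * p * a * π := by
      simp only [mul_sub, sub_mul, mul_one]; abel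
    have fr2 : FinRank (b * p * a * π) := by
      have : b * p * a * π = b * (p * (a * π)) := by simp only [mul_assoc]
      rw [this]; exact FinRank.mul_left (hpfr.mul_right _) _
    have fr1 : FinRank (b * (1 - π - p) * a * π) := by
      have : b * (1 - π - p) * a * π = b * (1 - π) * a * π - b * p * a * π := by
        rw [e0]; abel
      rw [this]; exact (ha.fin b).sub fr2
    have t1 : trF (b * (1 - π - p) * a * π) = 0 := by
      have e1 : b * (1 - π - p) * a * π = (b * (1 - π - p) * a * π) * π := by
        rw [mul_assoc _ π π, hπ]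
      have e2 : π * (b * (1 - π - p) * a * π) = 0 := by
        have : π * (b * (1 - π - p) * a * π) = (π * b * (1 - π - p)) * (a * π) := by
          simp only [mul_assoc]
        rw [this, hb1, zero_mul]
      rw [e1, trF_comm fr1, e2, trF_zero]
    have t2 : trF (b * p * a * π) = trF (p * a * π * b * p) := by
      have e1 : b * p * a * π = (b * p) * (p * a * π) := by
        simp only [mul_assoc]; rw [← mul_assoc p p, hp]
      have fr : FinRank (p * a * π) := by
        have : p * a * π = p * (a * π) := by simp only [mul_assoc]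
        rw [this]; exact hpfr.mul_right _
      rw [e1, ← trF_comm fr]
      simp only [mul_assoc]
    have e3 : p * a * π * b * p = p * a * b * p - p * a * p * (p * b * p) := by
      have : p * a * π * b * p = p * a * b * p - (p * a * (1 - π - p)) * (b * p) - p * a * p * b * p := by
        simp only [mul_sub, sub_mul, mul_one, mul_assoc]; abel
      rw [this, ha2, zero_mul, sub_zero]
      simp only [mul_assoc]; rw [← mul_assoc p p, hp]
    have fr3 : FinRank (p * a * b * p) := by
      have : p * a * b * p = p * (a * b * p) := by simp only [mul_assoc]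
      rw [this]; exact hpfr.mul_right _
    have fr4 : FinRank (p * a * p * (p * b * p)) := by
      have : p * a * p * (p * b * p) = p * (a * p * (p * b * p)) := by simp only [mul_assoc]
      rw [this]; exact hpfr.mul_right _
    rw [e0, trF_add fr1 fr2, t1, zero_add, t2, e3, trF_sub fr3 fr4]
  unfold psi
  rw [key f g hf hg1 hf2, key g f hg hf1 hg2]
  have c1 : p * f * g * p = p * g * f * p := by
    rw [mul_assoc p f g, hfg.eq, ← mul_assoc]
  have frp : FinRank (p * f * p) := by
    have : p * f * p = p * (f * p) := by simp only [mul_assoc]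
    rw [this]; exact hpfr.mul_right _
  rw [c1, trF_comm frp]
  ring

end cocycle

section subspace

variable {k : Type*} [Field k] {V : Type*} [AddCommGroup V] [Module k V]
variable {π f g g' : Module.End k V}

theorem idem_apply_of_mem (hπ : π * π = π) {x : V} (hx : x ∈ LinearMap.range π) : π x = x := by
  obtain ⟨y, rfl⟩ := hx
  rw [← Module.End.mul_apply, hπ]

theorem off_block_eq_zero_of_stable (hπ : π * π = π)
    (hf : ∀ x ∈ LinearMap.range π, f x ∈ LinearMap.range π) : (1 - π) * f * π = 0 := by
  ext x
  have h1 := hf (π x) (LinearMap.mem_range_self π x)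
  simp only [Module.End.mul_apply, LinearMap.sub_apply, Module.End.one_apply,
    LinearMap.zero_apply]
  rw [idem_apply_of_mem hπ h1, sub_self]

/-- If `f` maps the range `A` of `π` into `A + W` with `W` finite-dimensional then `f` almost
preserves `A`. -/
theorem off_of_map_le (hπ : π * π = π) (W : Submodule k V) [FiniteDimensional k W]
    (hf : ∀ x ∈ LinearMap.range π, f x ∈ LinearMap.range π ⊔ W) : Off π f := by
  unfold Off
  refine FinRank.of_range_le (Z := W.map (1 - π)) ?_
  rintro _ ⟨x, rfl⟩
  obtain ⟨a, ha, w, hw, hx⟩ := Submodule.mem_sup.1 (hf (π x) (LinearMap.mem_range_self π x))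
  refine ⟨w, hw, ?_⟩
  simp only [Module.End.mul_apply, LinearMap.sub_apply, Module.End.one_apply]
  rw [← hx, map_add, idem_apply_of_mem hπ ha]
  abel

theorem mul_eq_of_range_eq {π₁ π₂ : Module.End k V} (hπ1 : π₁ * π₁ = π₁)
    (hr : LinearMap.range π₂ ≤ LinearMap.range π₁) : π₁ * π₂ = π₂ := by
  ext x
  exact idem_apply_of_mem hπ1 (hr (LinearMap.mem_range_self π₂ x))

/-- Global vanishing: if `B` is stable under `f` and `g`, meets the range `A` of `π` trivially and
`A + B` has finite codimension, then the pairing vanishes. -/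
theorem psi_eq_zero_of_disjoint (hπ : π * π = π) (B : Submodule k V)
    (hAB : Disjoint (LinearMap.range π) B)
    (hfin : FiniteDimensional k (V ⧸ (LinearMap.range π ⊔ B)))
    (hf : Off π f) (hg : Off π g) (hfg : Commute f g)
    (hfB : ∀ x ∈ B, f x ∈ B) (hgB : ∀ x ∈ B, g x ∈ B) : psi π f g = 0 := by
  set A := LinearMap.range π with hA
  obtain ⟨F, hF⟩ := Submodule.exists_isCompl (A ⊔ B)
  haveI : FiniteDimensional k F :=
    LinearEquiv.finiteDimensional (Submodule.quotientEquivOfIsCompl (A ⊔ B) F hF)
  have h1 : IsCompl A (B ⊔ F) := by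
    constructor
    · rw [Submodule.disjoint_def]
      intro x hxA hxBF
      obtain ⟨b, hb, y, hy, rfl⟩ := Submodule.mem_sup.1 hxBF
      have hy0 : y = 0 := by
        have : y ∈ (A ⊔ B) ⊓ F := by
          refine ⟨?_, hy⟩
          have : y = (b + y) - b := by abel
          rw [this]
          exact Submodule.sub_mem _ (Submodule.mem_sup_left hxA) (Submodule.mem_sup_right hb)
        rw [hF.inf_eq_bot] at this
        exact (Submodule.mem_bot k).1 this
      subst hy0
      rw [add_zero] at hxA ⊢
      exact (Submodule.disjoint_def.1 hAB) b hxA hb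
    · rw [codisjoint_iff, ← sup_assoc]
      exact hF.sup_eq_top
  set π₁ : Module.End k V := A.projection (B ⊔ F) h1 with hπ₁
  set p : Module.End k V := F.projection (A ⊔ B) hF.symm with hp
  have hπ₁i : π₁ * π₁ = π₁ := (Submodule.isIdempotentElem_projection h1)
  have hpi : p * p = p := (Submodule.isIdempotentElem_projection hF.symm)
  have hrπ₁ : LinearMap.range π₁ = A := Submodule.range_projection h1
  have hrp : LinearMap.range p = F := Submodule.range_projection hF.symm
  have hkπ₁ : ∀ x ∈ B ⊔ F, π₁ x = 0 := fun x hx =>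
    (Submodule.projection_apply_eq_zero_iff h1).2 hx
  have hkp : ∀ x ∈ A ⊔ B, p x = 0 := fun x hx =>
    (Submodule.projection_apply_eq_zero_iff hF.symm).2 hx
  have hπp : π₁ * p = 0 := by
    ext x
    exact hkπ₁ _ (Submodule.mem_sup_right (hrp ▸ LinearMap.mem_range_self p x))
  have hpπ : p * π₁ = 0 := by
    ext x
    exact hkp _ (Submodule.mem_sup_left (hrπ₁ ▸ LinearMap.mem_range_self π₁ x))
  have hpfr : FinRank p := by
    unfold FinRank; rw [hrp]; infer_instance
  have hq : ∀ x, (1 - π₁ - p) x ∈ B := by
    intro x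
    have hc : x - π₁ x ∈ B ⊔ F := Submodule.sub_projection_mem h1 x
    obtain ⟨b, hb, y, hy, hby⟩ := Submodule.mem_sup.1 hc
    have hpx : p x = y := by
      have hx : x = π₁ x + b + y := by rw [add_assoc, hby]; abel
      have h3 : π₁ x ∈ A := hrπ₁ ▸ LinearMap.mem_range_self π₁ x
      conv_lhs => rw [hx]
      rw [map_add, map_add, hkp _ (Submodule.mem_sup_left h3), hkp _ (Submodule.mem_sup_right hb),
        zero_add, zero_add]
      exact Submodule.projection_apply_of_mem_left hF.symm hy
    have : (1 - π₁ - p) x = b := by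
      simp only [LinearMap.sub_apply, Module.End.one_apply]
      rw [hpx, ← hby]; abel
    rw [this]; exact hb
  have stab : ∀ a : Module.End k V, (∀ x ∈ B, a x ∈ B) →
      π₁ * a * (1 - π₁ - p) = 0 ∧ p * a * (1 - π₁ - p) = 0 := by
    intro a ha
    constructor
    · ext x
      exact hkπ₁ _ (Submodule.mem_sup_left (ha _ (hq x)))
    · ext x
      exact hkp _ (Submodule.mem_sup_right (ha _ (hq x)))
  have h12 : π * π₁ = π₁ := mul_eq_of_range_eq hπ (by rw [hrπ₁])
  have h21 : π₁ * π = π := mul_eq_of_range_eq hπ₁i (by rw [hrπ₁])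
  have e := psi_eq_of_same_range hπ hπ₁i h12 h21 hf hg hfg
  have hf1 : Off π₁ f := hf.of_same_range h12 h21
  have hg1 : Off π₁ g := hg.of_same_range h12 h21
  have := psi_eq_zero_of_kernel_stable hπ₁i hpi hπp hpπ hpfr hf1 hg1 hfg
    (stab f hfB).1 (stab f hfB).2 (stab g hgB).1 (stab g hgB).2
  rw [← e, this]

/-- Logarithmic rule, subspace form: if `g` is invertible, maps `A` into `A` and `A = gA ⊕ k a`
then the residue of `g⁻¹ dg` is `1`. -/
theorem psi_inv_self_eq_one (hπ : π * π = π) (hgg' : g * g' = 1) (hg'g : g' * g = 1)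
    (hg : ∀ x ∈ LinearMap.range π, g x ∈ LinearMap.range π) (a : V)
    (ha : a ∈ LinearMap.range π) (ha' : a ∉ (LinearMap.range π).map g)
    (hspan : ∀ x ∈ LinearMap.range π, ∃ c : k, x - c • a ∈ (LinearMap.range π).map g) :
    psi π g' g = 1 := by
  obtain ⟨h1, h2⟩ := psi_inv_self hπ hgg' hg'g (off_block_eq_zero_of_stable hπ hg)
  rw [h1, trF_idem h2]
  set e := (1 - g * π * g') * π with he
  have hev : ∀ v, e v = (1 - g * π * g') (π v) := fun v => rfl
  have hgy : ∀ y ∈ LinearMap.range π, (1 - g * π * g') (g y) = 0 := by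
    intro y hy
    simp only [LinearMap.sub_apply, Module.End.one_apply, Module.End.mul_apply]
    have : g' (g y) = y := by rw [← Module.End.mul_apply, hg'g, Module.End.one_apply]
    rw [this, idem_apply_of_mem hπ hy, sub_self]
  have hea : e a ≠ 0 := by
    intro h0
    rw [hev, idem_apply_of_mem hπ ha] at h0
    simp only [LinearMap.sub_apply, Module.End.one_apply, Module.End.mul_apply] at h0
    apply ha'
    refine ⟨π (g' a), LinearMap.mem_range_self π _, ?_⟩
    rw [sub_eq_zero] at h0
    exact h0.symm
  have hr : LinearMap.range e = Submodule.span k {e a} := by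
    apply le_antisymm
    · rintro _ ⟨v, rfl⟩
      obtain ⟨c, hc⟩ := hspan (π v) (LinearMap.mem_range_self π v)
      obtain ⟨y, hy, hyc⟩ := hc
      have : e v = c • e a := by
        rw [hev, hev, idem_apply_of_mem hπ ha]
        have : π v = g y + c • a := by rw [hyc]; abel
        rw [this, map_add, hgy y hy, zero_add, map_smul]
      rw [this]
      exact Submodule.smul_mem _ c (Submodule.mem_span_singleton_self _)
    · rw [Submodule.span_singleton_le_iff_mem]
      exact LinearMap.mem_range_self e a
  rw [hr, finrank_span_singleton hea, Nat.cast_one]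

end subspace

end Groth.Agent.Lib.helper10.Tate
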