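import Mathlib
import Groth.Agent.Lib.Helper10.Tate1

/-!
# The Tate cocycle: twisted rules and transfer along a dense embedding (helper10)
-/

set_option autoImplicit false
set_option linter.style.haveILetI false
set_option linter.unusedSectionVars false
set_option linter.unusedVariables false

namespace Groth.Agent.Lib.helper10.Tate

open LinearMap Module

section twisted

variable {k : Type*} [Field k] {V : Type*} [AddCommGroup V] [Module k V]
variable {π f g g' z : Module.End k V}

theorem psi_antisymm : psi π f g = - psi π g f := by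
  unfold psi
  ring

/-- An endomorphism commuting with the projection pairs to zero on the right. -/
theorem psi_eq_zero_of_commute_proj (hπ : π * π = π) (hf : Off π f) (hgπ : Commute g π) :
    psi π f g = 0 := by
  unfold psi
  have hgπ' : g * π = π * g := hgπ.eq
  have e2 : f * (1 - π) * g * π = 0 := by
    have : f * (1 - π) * g * π = f * ((1 - π) * (g * π)) := by simp only [mul_assoc]
    rw [this, hgπ', ← mul_assoc (1 - π) π g, sub_mul, one_mul, hπ, sub_self, zero_mul, mul_zero]
  set X := g * (1 - π) * f * π with hX
  have hXfr : FinRank X := hf.fin g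
  have h1 : X = (1 - π) * X := by
    rw [hX]
    have : g * (1 - π) = (1 - π) * g := by simp only [mul_sub, sub_mul, mul_one, one_mul, hgπ']
    have h2 : (1 - π) * (1 - π) = 1 - π := by
      simp only [mul_sub, sub_mul, mul_one, one_mul, hπ]; abel
    rw [this]
    simp only [← mul_assoc]
    rw [h2]
  have h3 : X * (1 - π) = 0 := by
    have h4 : π * (1 - π) = 0 := by rw [mul_sub, mul_one, hπ, sub_self]
    rw [hX, mul_assoc, h4, mul_zero]
  rw [e2, trF_zero, sub_zero, h1, ← trF_comm hXfr, h3, trF_zero]

theorem off_of_commute_proj (hπ : π * π = π) (hzπ : Commute z π) : Off π z := by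
  apply off_of_stable
  rw [mul_assoc, hzπ.eq, ← mul_assoc, sub_mul, one_mul, hπ, sub_self, zero_mul]

/-- Twisted power rule. -/
theorem psi_twist_pow_self (hπ : π * π = π) (hg : Off π g) (hzg : Commute z g)
    (hzπ : Commute z π) (n : ℕ) : psi π (z * g ^ n) g = 0 := by
  have hπ' : ∀ x, π * (π * x) = π * x := fun x => by rw [← mul_assoc, hπ]
  have hz : Off π z := off_of_commute_proj hπ hzπ
  rcases n with _ | n
  · rw [pow_zero, mul_one, psi_antisymm, psi_eq_zero_of_commute_proj hπ hg hzπ, neg_zero]
  have hR : ∀ m : ℕ, FinRank (π * g ^ (m + 1) * π - (π * g * π) ^ (m + 1)) := by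
    intro m
    induction m with
    | zero => simp only [zero_add, pow_one, sub_self]; exact finRank_zero
    | succ m ih =>
      have e : π * g ^ (m + 1 + 1) * π - (π * g * π) ^ (m + 1 + 1) =
          (π * g ^ (m + 1) * π - (π * g * π) ^ (m + 1)) * (π * g * π) +
            π * g ^ (m + 1) * ((1 - π) * g * π) := by
        rw [pow_succ g (m + 1), pow_succ (π * g * π) (m + 1)]
        simp only [mul_sub, sub_mul, one_mul, mul_assoc, hπ']
        abel
      rw [e]
      exact FinRank.add (FinRank.mul_right ih _) (FinRank.mul_left hg _)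
  have hcomm : Commute (z * g ^ (n + 1)) g :=
    (hzg.mul_left ((Commute.refl g).pow_left _))
  rw [psi_eq_trF_comm hπ (hz.mul (hg.pow hπ _)) hg hcomm]
  set R := π * g ^ (n + 1) * π - (π * g * π) ^ (n + 1) with hRdef
  set P := π * g * π with hP
  have hzP : z * P = P * z := by
    rw [hP]
    calc z * (π * g * π) = (z * π) * g * π := by simp only [mul_assoc]
      _ = π * (z * g) * π := by rw [hzπ.eq]; simp only [mul_assoc]
      _ = π * g * (z * π) := by rw [hzg.eq]; simp only [mul_assoc]
      _ = π * g * π * z := by rw [hzπ.eq]; simp only [mul_assoc]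
  have e0 : π * (z * g ^ (n + 1)) * π = z * (R + P ^ (n + 1)) := by
    have : R + P ^ (n + 1) = π * g ^ (n + 1) * π := by rw [hRdef]; abel
    rw [this]
    calc π * (z * g ^ (n + 1)) * π = (π * z) * g ^ (n + 1) * π := by simp only [mul_assoc]
      _ = z * (π * g ^ (n + 1) * π) := by rw [← hzπ.eq]; simp only [mul_assoc]
  have hzPn : z * P ^ (n + 1) * P = P * (z * P ^ (n + 1)) := by
    have h1 : Commute z P := hzP
    have h2 : Commute (z * P ^ (n + 1)) P := h1.mul_left ((Commute.refl P).pow_left _)
    exact h2.eq
  have e : π * (z * g ^ (n + 1)) * π * P - P * (π * (z * g ^ (n + 1)) * π) =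
      (z * R) * P - P * (z * R) := by
    rw [e0, mul_add, add_mul, mul_add, hzPn]
    abel
  have hzR : FinRank (z * R) := FinRank.mul_left (hR n) z
  rw [e, trF_sub (FinRank.mul_right hzR _) (FinRank.mul_left hzR _), trF_comm hzR, sub_self]

/-- Twisted logarithmic rule. -/
theorem psi_twist_inv_self (hπ : π * π = π) (hgg' : g * g' = 1) (hg'g : g' * g = 1)
    (hg : (1 - π) * g * π = 0) (hzg : Commute z g) (hzπ : Commute z π) :
    psi π (z * g') g = trF (z * ((1 - g * π * g') * π)) := by
  have hgg'' : ∀ x, g * (g' * x) = x := fun x => by rw [← mul_assoc, hgg', one_mul]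
  unfold psi
  have e2 : z * g' * (1 - π) * g * π = 0 := by
    have : z * g' * (1 - π) * g * π = z * g' * ((1 - π) * g * π) := by simp only [mul_assoc]
    rw [this, hg, mul_zero]
  have e1 : g * (1 - π) * (z * g') * π = z * ((1 - g * π * g') * π) := by
    have a1 : g * z = z * g := hzg.eq.symm
    have a2 : π * z = z * π := hzπ.eq.symm
    have h1 : g * (1 - π) * z = z * (g * (1 - π)) := by
      calc g * (1 - π) * z = g * z - g * (π * z) := by
            simp only [mul_sub, sub_mul, mul_one, mul_assoc]
        _ = z * g - z * (g * π) := by rw [a2, ← mul_assoc g z π, a1, mul_assoc]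
        _ = z * (g * (1 - π)) := by simp only [mul_sub, mul_one]
    calc g * (1 - π) * (z * g') * π = (g * (1 - π) * z) * g' * π := by simp only [mul_assoc]
      _ = z * (g * (1 - π) * g' * π) := by rw [h1]; simp only [mul_assoc]
      _ = z * ((1 - g * π * g') * π) := by
          congr 1
          simp only [mul_sub, sub_mul, mul_one, one_mul, mul_assoc, hgg'']
  rw [e1, e2, trF_zero, sub_zero]

end twisted

end Groth.Agent.Lib.helper10.Tate
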