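import Mathlib
import Groth.Agent.Lib.Helper10.Tate6

/-!
# The Tate cocycle: transfer along a dense embedding (helper10)
-/

set_option autoImplicit false
set_option linter.style.haveILetI false
set_option linter.unusedSectionVars false
set_option linter.unusedVariables false

namespace Groth.Agent.Lib.helper10.Tate

open LinearMap Module

section transfer

variable {k : Type*} [Field k] {V V' : Type*} [AddCommGroup V] [Module k V]
  [AddCommGroup V'] [Module k V']

/-- The finite-rank trace is invariant under an injective intertwiner whose range contains the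
range of the target operator. -/
theorem trF_intertwine (ι : V →ₗ[k] V') (hι : Function.Injective ι)
    {T : Module.End k V} {T' : Module.End k V'} (hT : ∀ x, T' (ι x) = ι (T x))
    (hr : LinearMap.range T' ≤ LinearMap.range ι) (hfr : FinRank T') : trF T' = trF T := by
  set e := LinearEquiv.ofInjective ι hι with he
  set S : V' →ₗ[k] V := e.symm.toLinearMap ∘ₗ
    (LinearMap.codRestrict (LinearMap.range ι) T' fun y => hr (LinearMap.mem_range_self T' y))
    with hS
  have hιS : ∀ y, ι (S y) = T' y := by
    intro y
    rw [hS, LinearMap.comp_apply]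
    have : ι (e.symm (LinearMap.codRestrict (LinearMap.range ι) T'
        (fun y => hr (LinearMap.mem_range_self T' y)) y)) =
        ((LinearMap.codRestrict (LinearMap.range ι) T'
          (fun y => hr (LinearMap.mem_range_self T' y)) y : LinearMap.range ι) : V') := by
      have h1 := LinearEquiv.apply_symm_apply e (LinearMap.codRestrict (LinearMap.range ι) T'
        (fun y => hr (LinearMap.mem_range_self T' y)) y)
      have h2 := congrArg Subtype.val h1
      rwa [he, LinearEquiv.ofInjective_apply] at h2
    exact this
  have e1 : (ι ∘ₗ S : Module.End k V') = T' := by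
    ext y; exact hιS y
  have e2 : (S ∘ₗ ι : Module.End k V) = T := by
    ext x
    apply hι
    rw [LinearMap.comp_apply, hιS, hT]
  have hSfr : FinRank S := by
    unfold FinRank at hfr ⊢
    haveI := hfr
    have : LinearMap.range S ≤ (LinearMap.range T').comap ι := by
      rintro _ ⟨y, rfl⟩
      rw [Submodule.mem_comap, hιS]
      exact LinearMap.mem_range_self T' y
    have hfd : FiniteDimensional k ((LinearMap.range T').comap ι) := by
      have hinj : Function.Injective
          (ι.restrict (p := (LinearMap.range T').comap ι) (q := LinearMap.range T')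
            (fun x hx => hx)) := by
        intro a b hab
        apply Subtype.ext
        apply hι
        exact congrArg Subtype.val hab
      exact FiniteDimensional.of_injective _ hinj
    exact Submodule.finiteDimensional_of_le this
  rw [← e1, ← e2]
  exact trF_comm' hSfr ι

/-- Transfer of the Tate pairing along an injective map with dense image (relative to the
lattice). -/
theorem psi_transfer (ι : V →ₗ[k] V') (hι : Function.Injective ι)
    {ρ f g : Module.End k V} {π' f' g' : Module.End k V'}
    (hρ : ρ * ρ = ρ) (hπ' : π' * π' = π')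
    (hrange : ∀ x, x ∈ LinearMap.range ρ ↔ ι x ∈ LinearMap.range π')
    (hdense : ∀ y, ∃ x, y - ι x ∈ LinearMap.range π')
    (hf : ∀ x, f' (ι x) = ι (f x)) (hg : ∀ x, g' (ι x) = ι (g x))
    (hf' : Off π' f') (hg' : Off π' g') (hfg' : Commute f' g') :
    psi ρ f g = psi π' f' g' := by
  set A' := LinearMap.range π' with hA'
  set C' : Submodule k V' := (LinearMap.ker ρ).map ι with hC'
  have hρmem : ∀ x, ρ x ∈ LinearMap.range ρ := fun x => LinearMap.mem_range_self ρ x
  have hker : ∀ x, x - ρ x ∈ LinearMap.ker ρ := by
    intro x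
    rw [LinearMap.mem_ker, map_sub, ← Module.End.mul_apply, hρ, sub_self]
  have hcompl : IsCompl A' C' := by
    constructor
    · rw [Submodule.disjoint_def]
      rintro y hyA ⟨c, hc, rfl⟩
      have hcA : c ∈ LinearMap.range ρ := (hrange c).2 hyA
      have : c = 0 := by
        rw [← idem_apply_of_mem hρ hcA]
        exact hc
      rw [this, map_zero]
    · rw [codisjoint_iff, eq_top_iff]
      intro y _
      obtain ⟨x, hx⟩ := hdense y
      have e : y = (y - ι x + ι (ρ x)) + ι (x - ρ x) := by
        rw [map_sub]; abel
      rw [e]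
      exact Submodule.add_mem_sup
        (Submodule.add_mem _ hx ((hrange _).1 (hρmem x))) ⟨_, hker x, rfl⟩
  set π₀ : Module.End k V' := A'.projection C' hcompl with hπ₀
  have hπ₀i : π₀ * π₀ = π₀ := Submodule.isIdempotentElem_projection hcompl
  have hrπ₀ : LinearMap.range π₀ = A' := Submodule.range_projection hcompl
  have hπ₀ι : ∀ x, π₀ (ι x) = ι (ρ x) := by
    intro x
    have e : ι x = ι (ρ x) + ι (x - ρ x) := by rw [map_sub]; abel
    have h1 : π₀ (ι (x - ρ x)) = 0 :=
      (Submodule.projection_apply_eq_zero_iff hcompl).2 ⟨_, hker x, rfl⟩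
    have h2 : π₀ (ι (ρ x)) = ι (ρ x) :=
      Submodule.projection_apply_of_mem_left hcompl ((hrange _).1 (hρmem x))
    conv_lhs => rw [e]
    rw [map_add, h1, h2, add_zero]
  have h12 : π' * π₀ = π₀ := mul_eq_of_range_eq hπ' (by rw [hrπ₀])
  have h21 : π₀ * π' = π' := mul_eq_of_range_eq hπ₀i (by rw [hrπ₀])
  rw [← psi_eq_of_same_range hπ' hπ₀i h12 h21 hf' hg' hfg']
  have hf0 : Off π₀ f' := hf'.of_same_range h12 h21
  have hg0 : Off π₀ g' := hg'.of_same_range h12 h21
  have hcomp : ∀ y, (1 - π₀) y ∈ LinearMap.range ι := by
    intro y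
    have : y - π₀ y ∈ C' := Submodule.sub_projection_mem hcompl y
    obtain ⟨c, _, hc⟩ := this
    exact ⟨c, hc⟩
  have key : ∀ {a b : Module.End k V} {a' b' : Module.End k V'},
      (∀ x, a' (ι x) = ι (a x)) → (∀ x, b' (ι x) = ι (b x)) → Off π₀ a' →
      trF (b' * (1 - π₀) * a' * π₀) = trF (b * (1 - ρ) * a * ρ) := by
    intro a b a' b' ha hb hoff
    apply trF_intertwine ι hι
    · intro x
      simp only [Module.End.mul_apply, LinearMap.sub_apply, Module.End.one_apply]
      rw [hπ₀ι, ha, hπ₀ι, ← map_sub, hb]
    · rintro _ ⟨y, rfl⟩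
      simp only [Module.End.mul_apply]
      obtain ⟨c, hc⟩ := hcomp (a' (π₀ y))
      rw [← hc, hb]
      exact ⟨_, rfl⟩
    · exact hoff.fin b'
  unfold psi
  rw [key hf hg hf0, key hg hf hg0]

end transfer

end Groth.Agent.Lib.helper10.Tate
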