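import Mathlib
import Groth.Agent.Lib.Helper10.Tate7
import Groth.Prelude.Def_LocRes

/-!
# The Tate pairing on a field of Laurent series is the traced residue (helper10)
-/

set_option autoImplicit false
set_option linter.style.haveILetI false
set_option linter.unusedSectionVars false
set_option linter.unusedVariables false

namespace Groth.Agent.Lib.helper10.Tate

open LinearMap Module LaurentSeries HahnSeries

section laurent

variable {k F : Type*} [Field k] [Field F] [Algebra k F]

theorem smul_eq_C_mul (c : k) (x : F⸨X⸩) : c • x = HahnSeries.C (algebraMap k F c) * x := by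
  rw [HahnSeries.C_mul_eq_smul, algebraMap_smul]

/-- Multiplication by a Laurent series, linear over the base field acting coefficientwise. -/
noncomputable def mL (a : F⸨X⸩) : Module.End k F⸨X⸩ where
  toFun x := a * x
  map_add' := mul_add a
  map_smul' c x := by
    show a * (c • x) = c • (a * x)
    rw [smul_eq_C_mul, smul_eq_C_mul]; ring

@[simp] theorem mL_apply (a x : F⸨X⸩) : (mL a : Module.End k F⸨X⸩) x = a * x := rfl

theorem mL_mul (a b : F⸨X⸩) : (mL (a * b) : Module.End k F⸨X⸩) = mL a * mL b := by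
  ext x; simp [mul_assoc]
theorem mL_add (a b : F⸨X⸩) : (mL (a + b) : Module.End k F⸨X⸩) = mL a + mL b := by
  ext x; simp [add_mul]
theorem mL_neg (a : F⸨X⸩) : (mL (-a) : Module.End k F⸨X⸩) = - mL a := by
  ext x; simp
theorem mL_one : (mL (1 : F⸨X⸩) : Module.End k F⸨X⸩) = 1 := by
  ext x; simp
theorem mL_pow (a : F⸨X⸩) (n : ℕ) : (mL (a ^ n) : Module.End k F⸨X⸩) = mL a ^ n := by
  induction n with
  | zero => rw [pow_zero, pow_zero, mL_one]
  | succ n ih => rw [pow_succ, pow_succ, mL_mul, ih]
theorem mL_commute (a b : F⸨X⸩) : Commute (mL a : Module.End k F⸨X⸩) (mL b) := by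
  unfold Commute SemiconjBy
  rw [← mL_mul, ← mL_mul, mul_comm]

theorem vanish_mul {a x : F⸨X⸩} {p q : ℤ} (ha : ∀ j < p, a.coeff j = 0)
    (hx : ∀ j < q, x.coeff j = 0) : ∀ j < p + q, (a * x).coeff j = 0 := by
  have h1 := (valuation_le_iff_coeff_lt_eq_zero F).2 ha
  have h2 := (valuation_le_iff_coeff_lt_eq_zero F).2 hx
  apply (valuation_le_iff_coeff_lt_eq_zero F).1
  rw [map_mul, neg_add, WithZero.exp_add]
  exact mul_le_mul' h1 h2

/-- The projection onto the series of order at least `M`. -/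
noncomputable def tGE (M : ℤ) : Module.End k F⸨X⸩ := 1 - HahnSeries.truncLTLinearMap k M

theorem tGE_coeff (M : ℤ) (x : F⸨X⸩) (j : ℤ) :
    ((tGE M : Module.End k F⸨X⸩) x).coeff j = if j < M then 0 else x.coeff j := by
  unfold tGE
  rw [LinearMap.sub_apply, Module.End.one_apply, HahnSeries.coeff_sub, coe_truncLTLinearMap,
    HahnSeries.coeff_truncLT]
  split_ifs <;> simp

theorem one_sub_tGE_coeff (M : ℤ) (x : F⸨X⸩) (j : ℤ) :
    (((1 - tGE M : Module.End k F⸨X⸩)) x).coeff j = if j < M then x.coeff j else 0 := by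
  rw [LinearMap.sub_apply, Module.End.one_apply, HahnSeries.coeff_sub, tGE_coeff]
  split_ifs <;> simp

theorem tGE_idem (M : ℤ) : (tGE M : Module.End k F⸨X⸩) * tGE M = tGE M := by
  ext x j
  rw [Module.End.mul_apply, tGE_coeff, tGE_coeff]
  split_ifs <;> rfl

theorem mem_range_tGE {M : ℤ} {x : F⸨X⸩} :
    x ∈ LinearMap.range (tGE M : Module.End k F⸨X⸩) ↔ ∀ j < M, x.coeff j = 0 := by
  constructor
  · rintro ⟨y, rfl⟩ j hj
    rw [tGE_coeff, if_pos hj]
  · intro h
    refine ⟨x, ?_⟩
    ext j
    rw [tGE_coeff]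
    split_ifs with hj
    · exact (h j hj).symm
    · rfl

theorem mem_range_tGE_iff_val {M : ℤ} {x : F⸨X⸩} :
    x ∈ LinearMap.range (tGE M : Module.End k F⸨X⸩) ↔ Valued.v x ≤ WithZero.exp (-M) := by
  rw [mem_range_tGE, valuation_le_iff_coeff_lt_eq_zero]

/-- Series supported in a finite set of exponents. -/
def Wfin (k : Type*) {F : Type*} [Field k] [Field F] [Algebra k F] (s : Finset ℤ) :
    Submodule k F⸨X⸩ where
  carrier := {y | ∀ j ∉ s, y.coeff j = 0}
  add_mem' := by
    intro a b ha hb j hj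
    rw [HahnSeries.coeff_add, ha j hj, hb j hj, add_zero]
  zero_mem' := fun j _ => rfl
  smul_mem' := by
    intro c a ha j hj
    rw [HahnSeries.coeff_smul, ha j hj, smul_zero]

theorem finiteDimensional_Wfin [FiniteDimensional k F] (s : Finset ℤ) :
    FiniteDimensional k (Wfin k (F := F) s) := by
  let φ : Wfin k (F := F) s →ₗ[k] (s → F) :=
    { toFun := fun y j => (y : F⸨X⸩).coeff j
      map_add' := fun a b => by ext j; simp
      map_smul' := fun c a => by ext j; simp }
  have hinj : Function.Injective φ := by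
    intro a b hab
    apply Subtype.ext
    ext j
    by_cases hj : j ∈ s
    · exact congrFun hab ⟨j, hj⟩
    · rw [a.2 j hj, b.2 j hj]
  exact FiniteDimensional.of_injective φ hinj

theorem exists_vanish (a : F⸨X⸩) : ∃ p : ℤ, ∀ j < p, a.coeff j = 0 :=
  ⟨a.order, fun j hj => HahnSeries.coeff_eq_zero_of_lt_order hj⟩

theorem off_mL [FiniteDimensional k F] (M : ℤ) (a : F⸨X⸩) :
    Off (tGE M : Module.End k F⸨X⸩) (mL a) := by
  obtain ⟨p, hp⟩ := exists_vanish a
  unfold Off
  haveI := finiteDimensional_Wfin (k := k) (F := F) (Finset.Ico (p + M) M)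
  refine FinRank.of_range_le (Z := Wfin k (Finset.Ico (p + M) M)) ?_
  rintro _ ⟨x, rfl⟩
  intro j hj
  rw [Module.End.mul_apply, Module.End.mul_apply, one_sub_tGE_coeff]
  split_ifs with hjM
  · have hj' : j < p + M := by
      by_contra hcon
      exact hj (Finset.mem_Ico.2 ⟨not_lt.1 hcon, hjM⟩)
    rw [mL_apply]
    exact vanish_mul hp (mem_range_tGE.1 (LinearMap.mem_range_self _ x)) j hj'
  · rfl

theorem stable_mL {M : ℤ} {a : F⸨X⸩} (ha : ∀ j < 0, a.coeff j = 0) :
    ∀ x ∈ LinearMap.range (tGE M : Module.End k F⸨X⸩),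
      (mL a : Module.End k F⸨X⸩) x ∈ LinearMap.range (tGE M : Module.End k F⸨X⸩) := by
  intro x hx
  rw [mem_range_tGE] at hx ⊢
  intro j hj
  rw [mL_apply]
  exact vanish_mul ha hx j (by omega)

end laurent

/-! ### Formal consequences of the Leibniz rule -/

section leibniz

variable {L A : Type*} [Field L] [AddCommGroup A] (Δ : L → L → A)
  (hleib : ∀ a b c, Δ a (b * c) = Δ (a * b) c + Δ (a * c) b)

include hleib

theorem leib_one (a : L) : Δ a 1 = 0 := by
  have h := hleib a 1 1
  rw [mul_one, mul_one] at h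
  have : Δ a 1 + 0 = Δ a 1 + Δ a 1 := by rw [add_zero]; exact h
  exact (add_left_cancel this).symm

theorem leib_mul {b c : L} (hb : ∀ a, Δ a b = 0) (hc : ∀ a, Δ a c = 0) : ∀ a, Δ a (b * c) = 0 := by
  intro a
  rw [hleib, hb, hc, add_zero]

theorem leib_inv {b : L} (hb : ∀ a, Δ a b = 0) : ∀ a, Δ a b⁻¹ = 0 := by
  intro a
  by_cases hb0 : b = 0
  · rw [hb0, inv_zero, ← hb0]; exact hb a
  have h := hleib (a * b⁻¹) b b⁻¹
  rw [mul_inv_cancel₀ hb0, leib_one Δ hleib, hb, add_zero, mul_assoc, inv_mul_cancel₀ hb0,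
    mul_one] at h
  exact h.symm

theorem leib_pow {b : L} (hb : ∀ a, Δ a b = 0) (n : ℕ) : ∀ a, Δ a (b ^ n) = 0 := by
  induction n with
  | zero => intro a; rw [pow_zero]; exact leib_one Δ hleib a
  | succ n ih => rw [pow_succ]; exact leib_mul Δ hleib ih hb

theorem leib_zpow {b : L} (hb : ∀ a, Δ a b = 0) (n : ℤ) : ∀ a, Δ a (b ^ n) = 0 := by
  rcases n with n | n
  · rw [Int.ofNat_eq_natCast, zpow_natCast]; exact leib_pow Δ hleib hb n
  · rw [zpow_negSucc]; exact leib_inv Δ hleib (leib_pow Δ hleib hb (n + 1))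

end leibniz

/-! ### The two pairings on Laurent series -/

section pairing

variable (k : Type*) {F : Type*} [Field k] [Field F] [Algebra k F] [FiniteDimensional k F]

/-- Tate's pairing on Laurent series with respect to the lattice of series of order `≥ M`. -/
noncomputable def BL (M : ℤ) (a b : F⸨X⸩) : k := psi (tGE M : Module.End k F⸨X⸩) (mL a) (mL b)

/-- The traced residue pairing. -/
noncomputable def TL (a b : F⸨X⸩) : k := Algebra.trace k F (LocRes.res F (a * LocRes.D F b))

/-- The difference of the two pairings. -/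
noncomputable def DL (M : ℤ) (a b : F⸨X⸩) : k := BL k M a b - TL k a b

variable {k}

theorem BL_add_left (M : ℤ) (a a' b : F⸨X⸩) : BL k M (a + a') b = BL k M a b + BL k M a' b := by
  unfold BL
  rw [mL_add]
  exact psi_add_left (off_mL M a) (off_mL M a') (off_mL M b)

theorem BL_add_right (M : ℤ) (a b b' : F⸨X⸩) : BL k M a (b + b') = BL k M a b + BL k M a b' := by
  unfold BL
  rw [mL_add]
  exact psi_add_right (off_mL M a) (off_mL M b) (off_mL M b')

theorem BL_leibniz (M : ℤ) (a b c : F⸨X⸩) :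
    BL k M a (b * c) = BL k M (a * b) c + BL k M (a * c) b := by
  unfold BL
  rw [mL_mul, mL_mul, mL_mul]
  exact psi_leibniz (off_mL M a) (off_mL M b) (off_mL M c) (mL_commute a c)

theorem TL_add_left (a a' b : F⸨X⸩) : TL k (a + a') b = TL k a b + TL k a' b := by
  unfold TL
  rw [add_mul, map_add, map_add]

theorem TL_add_right (a b b' : F⸨X⸩) : TL k a (b + b') = TL k a b + TL k a b' := by
  unfold TL
  rw [map_add, mul_add, map_add, map_add]

theorem TL_leibniz (a b c : F⸨X⸩) : TL k a (b * c) = TL k (a * b) c + TL k (a * c) b := by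
  unfold TL
  rw [Derivation.leibniz, smul_eq_mul, smul_eq_mul, ← map_add, ← map_add]
  congr 2
  ring

theorem DL_add_left (M : ℤ) (a a' b : F⸨X⸩) : DL k M (a + a') b = DL k M a b + DL k M a' b := by
  unfold DL
  rw [BL_add_left, TL_add_left]; ring

theorem DL_add_right (M : ℤ) (a b b' : F⸨X⸩) : DL k M a (b + b') = DL k M a b + DL k M a b' := by
  unfold DL
  rw [BL_add_right, TL_add_right]; ring

theorem DL_leibniz (M : ℤ) (a b c : F⸨X⸩) :
    DL k M a (b * c) = DL k M (a * b) c + DL k M (a * c) b := by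
  unfold DL
  rw [BL_leibniz, TL_leibniz]; ring

/-! #### Regular arguments -/

theorem BL_regular (M : ℤ) {a b : F⸨X⸩} (ha : ∀ j < 0, a.coeff j = 0)
    (hb : ∀ j < 0, b.coeff j = 0) : BL k M a b = 0 :=
  psi_eq_zero_of_stable (off_block_eq_zero_of_stable (tGE_idem M) (stable_mL ha))
    (off_block_eq_zero_of_stable (tGE_idem M) (stable_mL hb))

theorem D_regular {b : F⸨X⸩} (hb : ∀ j < 0, b.coeff j = 0) :
    ∀ j < 0, (LocRes.D F b).coeff j = 0 := by
  intro j hj
  rw [LocRes.D_coeff]
  by_cases h : j + 1 < 0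
  · rw [hb _ h, smul_zero]
  · have : j + 1 = 0 := by omega
    rw [this, zero_smul]

theorem TL_regular {a b : F⸨X⸩} (ha : ∀ j < 0, a.coeff j = 0)
    (hb : ∀ j < 0, b.coeff j = 0) : TL k a b = 0 := by
  unfold TL
  rw [LocRes.res_apply, vanish_mul ha (D_regular hb) (-1) (by norm_num), map_zero]

theorem DL_regular (M : ℤ) {a b : F⸨X⸩} (ha : ∀ j < 0, a.coeff j = 0)
    (hb : ∀ j < 0, b.coeff j = 0) : DL k M a b = 0 := by
  unfold DL
  rw [BL_regular M ha hb, TL_regular ha hb, sub_zero]

/-! #### Constants -/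

theorem commute_mL_C_tGE (M : ℤ) (c : F) :
    Commute (mL (HahnSeries.C c) : Module.End k F⸨X⸩) (tGE M) := by
  unfold Commute SemiconjBy
  ext x j
  rw [Module.End.mul_apply, Module.End.mul_apply, mL_apply, mL_apply, HahnSeries.C_mul_eq_smul,
    HahnSeries.C_mul_eq_smul, HahnSeries.coeff_smul, tGE_coeff, tGE_coeff, HahnSeries.coeff_smul]
  split_ifs
  · rw [smul_zero]
  · rfl

theorem DL_C (M : ℤ) (a : F⸨X⸩) (c : F) : DL k M a (HahnSeries.C c) = 0 := by
  unfold DL BL TL
  rw [psi_eq_zero_of_commute_proj (tGE_idem M) (off_mL M a) (commute_mL_C_tGE M c),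
    LocRes.D_apply, LocRes.derivative_C, mul_zero, map_zero, map_zero, sub_zero]

end pairing

/-! #### The variable -/

section variable_X

variable {k : Type*} {F : Type*} [Field k] [Field F] [Algebra k F] [FiniteDimensional k F]

theorem trF_eq_trace_of_finite {V : Type*} [AddCommGroup V] [Module k V] [FiniteDimensional k V]
    (R : Module.End k V) : trF R = LinearMap.trace k V R := by
  unfold trF
  exact LinearMap.trace_restrict_eq_of_forall_mem (LinearMap.range R) R
    (fun x => LinearMap.mem_range_self R x)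

theorem Xs_mul_Xi : (single (1 : ℤ) (1 : F) : F⸨X⸩) * single (-1 : ℤ) (1 : F) = 1 := by
  rw [HahnSeries.single_mul_single, mul_one]
  norm_num

theorem Xi_mul_Xs : (single (-1 : ℤ) (1 : F) : F⸨X⸩) * single (1 : ℤ) (1 : F) = 1 := by
  rw [mul_comm, Xs_mul_Xi]

theorem C_mul_single (c : F) (j : ℤ) : (HahnSeries.C c : F⸨X⸩) * single j (1 : F) = single j c := by
  rw [HahnSeries.C_mul_eq_smul]
  ext i
  rw [HahnSeries.coeff_smul, HahnSeries.coeff_single, HahnSeries.coeff_single]
  split_ifs
  · rw [smul_eq_mul, mul_one]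
  · rw [smul_zero]

theorem D_Xs : LocRes.D F (single (1 : ℤ) (1 : F) : F⸨X⸩) = 1 := by
  ext n
  rw [LocRes.D_coeff, HahnSeries.coeff_single, HahnSeries.coeff_one]
  by_cases hn : n = 0
  · subst hn; simp
  · rw [if_neg hn, if_neg (by omega), smul_zero]

theorem TL_Xs (a : F⸨X⸩) :
    TL k a (single (1 : ℤ) (1 : F)) = Algebra.trace k F (a.coeff (-1)) := by
  unfold TL
  rw [D_Xs, mul_one, LocRes.res_apply]

/-- The key local computation: the residue of `c X⁻¹ dX` is the trace of `c`. -/
theorem BL_single_neg_one (M : ℤ) (c : F) :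
    BL k M (single (-1 : ℤ) c) (single (1 : ℤ) (1 : F)) = Algebra.trace k F c := by
  unfold BL
  rw [← C_mul_single c (-1), mL_mul]
  have hg : (1 - (tGE M : Module.End k F⸨X⸩)) * mL (single (1 : ℤ) (1 : F)) * tGE M = 0 := by
    apply off_block_eq_zero_of_stable (tGE_idem M)
    apply stable_mL
    intro j hj
    rw [HahnSeries.coeff_single, if_neg (by omega)]
  rw [psi_twist_inv_self (tGE_idem M)
    (by rw [← mL_mul, Xs_mul_Xi, mL_one]) (by rw [← mL_mul, Xi_mul_Xs, mL_one]) hg
    (mL_commute _ _) (commute_mL_C_tGE M c)]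
  -- identify the operator
  let Rm : F⸨X⸩ →ₗ[k] F :=
    { toFun := fun x => x.coeff M
      map_add' := fun x y => HahnSeries.coeff_add
      map_smul' := fun r x => HahnSeries.coeff_smul }
  let Tm : F →ₗ[k] F⸨X⸩ :=
    { toFun := fun c' => single M (c * c')
      map_add' := fun x y => by
        ext j
        rw [HahnSeries.coeff_add, HahnSeries.coeff_single, HahnSeries.coeff_single,
          HahnSeries.coeff_single, mul_add]
        split_ifs
        · rfl
        · rw [add_zero]
      map_smul' := fun r x => by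
        rw [RingHom.id_apply, mul_smul_comm]
        ext j
        rw [HahnSeries.coeff_smul, HahnSeries.coeff_single, HahnSeries.coeff_single]
        split_ifs
        · rfl
        · rw [smul_zero] }
  have e : mL (HahnSeries.C c) * ((1 - mL (single (1 : ℤ) (1 : F)) * tGE M *
      mL (single (-1 : ℤ) (1 : F))) * tGE M) = (Tm ∘ₗ Rm : Module.End k F⸨X⸩) := by
    ext x j
    have hT : (Tm ∘ₗ Rm) x = single M (c * x.coeff M) := rfl
    rw [hT]
    simp only [Module.End.mul_apply, LinearMap.sub_apply, Module.End.one_apply, mL_apply]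
    rw [HahnSeries.C_mul_eq_smul, HahnSeries.coeff_smul, HahnSeries.coeff_sub,
      HahnSeries.coeff_single_mul, tGE_coeff, tGE_coeff, HahnSeries.coeff_single_mul, tGE_coeff,
      HahnSeries.coeff_single, smul_eq_mul, one_mul, one_mul]
    have e1 : j - 1 - -1 = j := by ring
    rw [e1]
    by_cases h1 : j < M
    · rw [if_pos h1, if_pos (by omega), if_neg (by omega), sub_zero, mul_zero]
    · by_cases h2 : j = M
      · rw [if_neg h1, if_pos (by omega), if_pos h2, sub_zero, h2]
      · rw [if_neg h1, if_neg (by omega), if_neg h2, sub_self, mul_zero]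
  rw [e]
  have hRfr : FinRank Rm := by
    unfold FinRank; infer_instance
  rw [trF_comm' hRfr Tm, trF_eq_trace_of_finite, Algebra.trace_apply]
  congr 1
  ext c'
  show (single M (c * c')).coeff M = c * c'
  rw [HahnSeries.coeff_single_same]


theorem BL_one_right (M : ℤ) (a : F⸨X⸩) : BL k M a 1 = 0 :=
  leib_one (BL k M) (BL_leibniz M) a

/-- Higher-order poles have no residue. -/
theorem BL_single_neg_succ_succ (M : ℤ) (m : ℕ) (c : F) :
    BL k M (single (-((m : ℤ) + 2)) c) (single (1 : ℤ) (1 : F)) = 0 := by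
  set Xs : F⸨X⸩ := single (1 : ℤ) (1 : F) with hXs
  set Xi : F⸨X⸩ := single (-1 : ℤ) (1 : F) with hXi
  have h1 : BL k M (HahnSeries.C c * Xi ^ m) Xi = 0 := by
    unfold BL
    rw [mL_mul, mL_pow]
    exact psi_twist_pow_self (tGE_idem M) (off_mL M Xi) (mL_commute _ _)
      (commute_mL_C_tGE M c) m
  have e1 : HahnSeries.C c * Xi ^ m * Xi * Xs = HahnSeries.C c * Xi ^ m := by
    rw [mul_assoc, Xi_mul_Xs, mul_one]
  have e3 : Xi ^ m * Xi * Xi = (HahnSeries.single (-((m : ℤ) + 2)) (1 : F) : F⸨X⸩) := by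
    rw [hXi, HahnSeries.single_pow, HahnSeries.single_mul_single,
      HahnSeries.single_mul_single, one_pow, mul_one, mul_one]
    congr 1
    simp only [smul_eq_mul, nsmul_eq_mul]
    ring
  have e2 : HahnSeries.C c * Xi ^ m * Xi * Xi =
      (HahnSeries.single (-((m : ℤ) + 2)) c : F⸨X⸩) := by
    rw [← C_mul_single c (-((m : ℤ) + 2)), ← e3]; ring
  have h2 : BL k M (HahnSeries.C c * Xi ^ m * Xi) (Xs * Xi) =
      BL k M (HahnSeries.C c * Xi ^ m * Xi * Xs) Xi +
        BL k M (HahnSeries.C c * Xi ^ m * Xi * Xi) Xs :=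
    BL_leibniz (k := k) M (HahnSeries.C c * Xi ^ m * Xi) Xs Xi
  rw [Xs_mul_Xi, BL_one_right, e1, e2, h1, zero_add] at h2
  exact h2.symm

theorem BL_single_Xs (M : ℤ) (j : ℤ) (hj : j < 0) (c : F) :
    BL k M (single j c) (single (1 : ℤ) (1 : F)) =
      Algebra.trace k F ((single j c : F⸨X⸩).coeff (-1)) := by
  by_cases h1 : j = -1
  · subst h1
    rw [BL_single_neg_one, HahnSeries.coeff_single_same]
  · obtain ⟨m, hm⟩ : ∃ m : ℕ, j = -((m : ℤ) + 2) := ⟨(-j - 2).toNat, by omega⟩
    rw [hm, BL_single_neg_succ_succ, HahnSeries.coeff_single_of_ne (by omega), map_zero]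

theorem BL_Xs (M : ℤ) (a : F⸨X⸩) :
    BL k M a (single (1 : ℤ) (1 : F)) = Algebra.trace k F (a.coeff (-1)) := by
  have key : ∀ r : ℕ, ∀ a : F⸨X⸩, (∀ j < -(r : ℤ), a.coeff j = 0) →
      BL k M a (single (1 : ℤ) (1 : F)) = Algebra.trace k F (a.coeff (-1)) := by
    intro r
    induction r with
    | zero =>
      intro a ha
      rw [Nat.cast_zero, neg_zero] at ha
      rw [BL_regular M ha (fun j hj => by rw [HahnSeries.coeff_single, if_neg (by omega)]),
        ha (-1) (by norm_num), map_zero]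
    | succ r ih =>
      intro a ha
      set j₀ : ℤ := -((r : ℤ) + 1) with hj₀
      set a' := a - single j₀ (a.coeff j₀) with ha'
      have hvan : ∀ j < -(r : ℤ), a'.coeff j = 0 := by
        intro j hj
        rw [ha', HahnSeries.coeff_sub, HahnSeries.coeff_single]
        by_cases h : j = j₀
        · rw [if_pos h, h, sub_self]
        · rw [if_neg h, sub_zero]
          apply ha
          push_cast
          omega
      have e : a = a' + single j₀ (a.coeff j₀) := by rw [ha']; abel
      have h1 := ih a' hvan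
      have h2 := BL_single_Xs (k := k) M j₀ (by omega) (a.coeff j₀)
      have h3 : a.coeff (-1) = a'.coeff (-1) + (single j₀ (a.coeff j₀) : F⸨X⸩).coeff (-1) := by
        conv_lhs => rw [e]
        rw [HahnSeries.coeff_add]
      conv_lhs => rw [e]
      rw [BL_add_left, h1, h2, h3, map_add]
  obtain ⟨p, hp⟩ := exists_vanish a
  exact key (-p).toNat a fun j hj => hp j (by omega)

theorem DL_Xs (M : ℤ) (a : F⸨X⸩) : DL k M a (single (1 : ℤ) (1 : F)) = 0 := by
  unfold DL
  rw [BL_Xs, TL_Xs, sub_self]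

theorem DL_single (M : ℤ) (a : F⸨X⸩) (j : ℤ) (c : F) : DL k M a (single j c) = 0 := by
  rw [← C_mul_single c j, RatFunc.single_zpow]
  exact leib_mul (DL k M) (DL_leibniz M) (fun a => DL_C M a c)
    (leib_zpow (DL k M) (DL_leibniz M) (fun a => DL_Xs M a) j) a

/-- **Local comparison on Laurent series**: Tate's pairing with respect to any lattice of the form
`X^M F⟦X⟧` is the traced residue pairing. -/
theorem BL_eq_TL (M : ℤ) (a b : F⸨X⸩) : BL k M a b = TL k a b := by
  rw [← sub_eq_zero]
  show DL k M a b = 0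
  obtain ⟨p, hp⟩ := exists_vanish a
  set N : ℤ := -p with hN
  -- `b` of order at least `N`
  have hbase : ∀ b : F⸨X⸩, (∀ j < N, b.coeff j = 0) → DL k M a b = 0 := by
    intro b hb
    set b₂ : F⸨X⸩ := single (-N) (1 : F) * b with hb₂
    have hb₂reg : ∀ j < 0, b₂.coeff j = 0 := by
      intro j hj
      rw [hb₂, HahnSeries.coeff_single_mul, one_mul]
      exact hb _ (by omega)
    have hbe : b = single N (1 : F) * b₂ := by
      rw [hb₂, ← mul_assoc, HahnSeries.single_mul_single, add_neg_cancel, mul_one,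
        HahnSeries.single_zero_one, one_mul]
    have hareg : ∀ j < 0, (a * single N (1 : F)).coeff j = 0 := by
      intro j hj
      rw [mul_comm, HahnSeries.coeff_single_mul, one_mul]
      exact hp _ (by omega)
    rw [hbe, DL_leibniz, DL_regular M hareg hb₂reg, DL_single, add_zero]
  have key : ∀ r : ℕ, ∀ b : F⸨X⸩, (∀ j < N - (r : ℤ), b.coeff j = 0) → DL k M a b = 0 := by
    intro r
    induction r with
    | zero =>
      intro b hb
      rw [Nat.cast_zero, sub_zero] at hb
      exact hbase b hb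
    | succ r ih =>
      intro b hb
      set j₀ : ℤ := N - ((r : ℤ) + 1) with hj₀
      set b' := b - single j₀ (b.coeff j₀) with hb'
      have hvan : ∀ j < N - (r : ℤ), b'.coeff j = 0 := by
        intro j hj
        rw [hb', HahnSeries.coeff_sub, HahnSeries.coeff_single]
        by_cases h : j = j₀
        · rw [if_pos h, h, sub_self]
        · rw [if_neg h, sub_zero]
          apply hb
          push_cast
          omega
      have e : b = b' + single j₀ (b.coeff j₀) := by rw [hb']; abel
      conv_lhs => rw [e]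
      rw [DL_add_right, ih b' hvan, DL_single, add_zero]
  obtain ⟨q, hq⟩ := exists_vanish b
  exact key (N - q).toNat b fun j hj => hq j (by omega)

end variable_X

end Groth.Agent.Lib.helper10.Tate
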