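import Mathlib
import Groth.Agent.Lib.Helper10.Tate8
import Groth.Agent.Lib.Helper10.Tate2
import Groth.Prelude.Def_LocRes

/-!
# Comparison of the local Tate pairing at a place of a function field with the traced residue read
through a Laurent expansion, and the residue theorem over an arbitrary constant field (helper10)
-/

set_option autoImplicit false
set_option linter.style.haveILetI false
set_option linter.unusedSectionVars false
set_option linter.unusedVariables false

universe u v w

open FunFld

namespace Groth.Agent.Lib.helper10.Tate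

open FF RD LaurentSeries HahnSeries

variable {k : Type u} {K : Type v} [Field k] [Field K] [Algebra k K]
variable {F : Type w} [Field F] [Algebra k F]

/-- The expansion as a linear map for the coefficientwise action of the base field. -/
noncomputable def expLin (Φ : K →ₐ[k] F⸨X⸩) : K →ₗ[k] F⸨X⸩ where
  toFun := Φ
  map_add' := map_add Φ
  map_smul' c x := by
    show Φ (c • x) = c • Φ x
    rw [Algebra.smul_def, map_mul, LocRes.map_algebraMap, smul_eq_C_mul]

@[simp] theorem expLin_apply (Φ : K →ₐ[k] F⸨X⸩) (x : K) : expLin Φ x = Φ x := rfl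

theorem coeff_mul_of_vanish {a b : F⸨X⸩} {p q : ℤ} (ha : ∀ j < p, a.coeff j = 0)
    (hb : ∀ j < q, b.coeff j = 0) : (a * b).coeff (p + q) = a.coeff p * b.coeff q := by
  set a' := a - HahnSeries.single p (a.coeff p) with ha'
  have hvan : ∀ j < p + 1, a'.coeff j = 0 := by
    intro j hj
    rw [ha', HahnSeries.coeff_sub, HahnSeries.coeff_single]
    by_cases h : j = p
    · rw [if_pos h, h, sub_self]
    · rw [if_neg h, sub_zero]
      exact ha j (by omega)
  have e : a = HahnSeries.single p (a.coeff p) + a' := by rw [ha']; abel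
  conv_lhs => rw [e]
  rw [add_mul, HahnSeries.coeff_add, HahnSeries.coeff_single_mul,
    vanish_mul hvan hb (p + q) (by omega), add_zero, add_sub_cancel_left]

/-- Density of the function field in the Laurent series, relative to the lattices. -/
theorem dense_exp {w : Valuation K (WithZero (Multiplicative ℤ))} {Φ : K →ₐ[k] F⸨X⸩}
    (hΦ : LocRes.IsExpansionAt w Φ) (M : ℤ) (y : F⸨X⸩) :
    ∃ x : K, ∀ j < M, (y - Φ x).coeff j = 0 := by
  obtain ⟨hval, hsurj, t, ht⟩ := hΦ
  have ht0 : t ≠ 0 := by
    intro h
    rw [h, Valuation.map_zero] at ht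
    exact WithZero.exp_ne_zero ht.symm
  have key : ∀ r : ℕ, ∀ y : F⸨X⸩, (∀ j < M - (r : ℤ), y.coeff j = 0) →
      ∃ x : K, ∀ j < M, (y - Φ x).coeff j = 0 := by
    intro r
    induction r with
    | zero =>
      intro y hy
      refine ⟨0, fun j hj => ?_⟩
      rw [map_zero, sub_zero]
      exact hy j (by simpa using hj)
    | succ r ih =>
      intro y hy
      set j₀ : ℤ := M - ((r : ℤ) + 1) with hj₀
      set τ := Φ (t ^ j₀) with hτ
      have hvτ : Valued.v τ = WithZero.exp (-j₀) := by
        rw [hτ, hval, map_zpow₀, ht, ← WithZero.exp_zsmul]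
        congr 1
        simp
      have hτvan : ∀ j < j₀, τ.coeff j = 0 :=
        (valuation_le_iff_coeff_lt_eq_zero F).1 hvτ.le
      have hu₀ : τ.coeff j₀ ≠ 0 := by
        intro h0
        have h4 : Valued.v τ ≤ WithZero.exp (-(j₀ + 1)) := by
          rw [valuation_le_iff_coeff_lt_eq_zero]
          intro m hm
          by_cases hm' : m < j₀
          · exact hτvan m hm'
          · have : m = j₀ := by omega
            rw [this, h0]
        rw [hvτ, WithZero.exp_le_exp] at h4
        omega
      obtain ⟨f, hf1, hf2⟩ := hsurj (y.coeff j₀ / τ.coeff j₀)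
      have hfvan : ∀ j < 0, (Φ f).coeff j = 0 := by
        apply (valuation_le_iff_coeff_lt_eq_zero F).1
        rw [neg_zero, WithZero.exp_zero, hval]
        exact hf1
      set x₁ := f * t ^ j₀ with hx₁
      have hΦx₁ : Φ x₁ = Φ f * τ := by rw [hx₁, map_mul]
      have hx₁van : ∀ j < j₀, (Φ x₁).coeff j = 0 := by
        intro j hj
        rw [hΦx₁]
        exact vanish_mul hfvan hτvan j (by omega)
      have hx₁c : (Φ x₁).coeff j₀ = y.coeff j₀ := by
        have := coeff_mul_of_vanish hfvan hτvan
        rw [zero_add] at this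
        rw [hΦx₁, this, hf2, div_mul_cancel₀ _ hu₀]
      have hy' : ∀ j < M - (r : ℤ), (y - Φ x₁).coeff j = 0 := by
        intro j hj
        rw [HahnSeries.coeff_sub]
        by_cases h : j = j₀
        · rw [h, hx₁c, sub_self]
        · have hj' : j < j₀ := by omega
          rw [hy j (by push_cast; omega), hx₁van j hj', sub_zero]
      obtain ⟨x₂, hx₂⟩ := ih (y - Φ x₁) hy'
      refine ⟨x₁ + x₂, fun j hj => ?_⟩
      have := hx₂ j hj
      rwa [sub_sub, ← map_add] at this
  obtain ⟨q, hq⟩ := exists_vanish y
  exact key (M - q).toNat y fun j hj => hq j (by omega)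

/-- **Local comparison**: at a place of a function field with a Laurent expansion over a finite
extension `F` of the constant field, Tate's local pairing is the trace of the residue read through
the expansion. -/
theorem psi_eq_locRes [FiniteDimensional k F] (P : Place k K) (n : ℤ) {ρ : Module.End k K}
    (hρ : ρ * ρ = ρ) (hr : LinearMap.range ρ = Place.ball P n)
    (Φ : K →ₐ[k] F⸨X⸩) (hΦ : LocRes.IsExpansionAt P.1 Φ) (u v : K) :
    psi ρ (mK u) (mK v) = LocRes.locRes Φ u v := by
  have h := psi_transfer (expLin Φ) (f := mK u) (g := mK v)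
    (π' := (tGE (-n) : Module.End k F⸨X⸩)) (f' := mL (Φ u)) (g' := mL (Φ v))
    (by
      intro a b hab
      exact Φ.toRingHom.injective hab) hρ (tGE_idem (-n))
    (by
      intro x
      rw [hr, Place.mem_ball, mem_range_tGE_iff_val, neg_neg, expLin_apply, hΦ.1])
    (by
      intro y
      obtain ⟨x, hx⟩ := dense_exp hΦ (-n) y
      exact ⟨x, mem_range_tGE.2 hx⟩)
    (by
      intro x
      rw [expLin_apply, mL_apply, mK_apply, expLin_apply, map_mul])
    (by
      intro x
      rw [expLin_apply, mL_apply, mK_apply, expLin_apply, map_mul])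
    (off_mL (-n) _) (off_mL (-n) _) (mL_commute _ _)
  rw [h]
  exact BL_eq_TL (k := k) (-n) (Φ u) (Φ v)

/-- The traced residue vanishes where both functions are regular. -/
theorem locRes_eq_zero_of_regular [FiniteDimensional k F]
    {w : Valuation K (WithZero (Multiplicative ℤ))}
    {Φ : K →ₐ[k] F⸨X⸩} (hΦ : LocRes.IsExpansionAt w Φ) {u v : K} (hu : w u ≤ 1) (hv : w v ≤ 1) :
    LocRes.locRes Φ u v = 0 := by
  have h1 : ∀ {x : K}, w x ≤ 1 → ∀ j < 0, (Φ x).coeff j = 0 := by
    intro x hx
    apply (valuation_le_iff_coeff_lt_eq_zero F).1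
    rw [neg_zero, WithZero.exp_zero, hΦ.1]
    exact hx
  exact TL_regular (k := k) (h1 hu) (h1 hv)


theorem exists_idem_range' {V : Type*} [AddCommGroup V] [Module k V] (A : Submodule k V) :
    ∃ ρ : Module.End k V, ρ * ρ = ρ ∧ LinearMap.range ρ = A := by
  obtain ⟨C, hC⟩ := Submodule.exists_isCompl A
  exact ⟨A.projection C hC, Submodule.isIdempotentElem_projection hC, Submodule.range_projection hC⟩

/-- **The residue theorem** over an arbitrary constant field, for a family of expansions over
finite extensions of the constant field: finite-sum form. -/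
theorem sum_locRes_eq_zero (hK : IsFunctionField k K)
    (F : Place k K → Type w) [∀ P, Field (F P)] [∀ P, Algebra k (F P)]
    [∀ P, FiniteDimensional k (F P)]
    (Φ : ∀ P, K →ₐ[k] LaurentSeries (F P)) (hΦ : ∀ P, LocRes.IsExpansionAt P.1 (Φ P))
    (u v : K) (S : Finset (Place k K)) (hS : ∀ P ∉ S, P.1 u ≤ 1 ∧ P.1 v ≤ 1) :
    ∑ P ∈ S, LocRes.locRes (Φ P) u v = 0 := by
  obtain ⟨P₀⟩ := exists_place hK
  set D : Divisor k K := Finsupp.single P₀ (-1) with hD
  have hdeg : D.deg < 0 := by
    rw [hD, deg_single]
    have := Place.deg_pos hK P₀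
    have h2 : (0 : ℤ) < (P₀.deg : ℤ) := by exact_mod_cast this
    linarith
  have hL : L D = ⊥ := L_eq_bot_of_deg_neg hK hdeg
  choose ρ hρ hr using fun P : Place k K => exists_idem_range' (k := k) (Place.ball P (D P))
  have h0 := psi_piProj_eq_zero D ρ hr hK hρ hL u v
  rw [psi_piProj_eq_sum D ρ hr hK hρ u v S hS] at h0
  rw [← h0]
  refine Finset.sum_congr rfl fun P _ => ?_
  exact (psi_eq_locRes P (D P) (hρ P) (hr P) (Φ P) (hΦ P) u v).symm

end Groth.Agent.Lib.helper10.Tate
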