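import Mathlib
import Groth.Agent.Lib.Helper10.Tate9
import Groth.Agent.Lib.Helper10.Tate5
import Groth.Agent.Lib.Helper10.LocRes7
import Groth.Agent.Lib.Helper10.FunFld16

/-!
# The residue functional of `u dv` as a Weil differential with divisor `(u dv)`, over an arbitrary
constant field with separable places (helper10)
-/

set_option autoImplicit false
set_option linter.style.haveILetI false
set_option linter.unusedSectionVars false
set_option linter.unusedVariables false

universe u v w

open FunFld LaurentSeries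

namespace Groth.Agent.Lib.helper10.Tate

open FF RD

variable {k : Type u} {K : Type v} [Field k] [Field K] [Algebra k K]

section single

variable {F : Type w} [Field F] [Algebra k F]

theorem locRes_add_left (χ : K →ₐ[k] LaurentSeries F) (a b s : K) :
    LocRes.locRes χ (a + b) s = LocRes.locRes χ a s + LocRes.locRes χ b s := by
  unfold LocRes.locRes LocRes.resExp
  rw [map_add, add_mul, map_add, map_add]

theorem locRes_smul_left (χ : K →ₐ[k] LaurentSeries F) (c : k) (a s : K) :
    LocRes.locRes χ (c • a) s = c * LocRes.locRes χ a s := by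
  unfold LocRes.locRes LocRes.resExp
  rw [Algebra.smul_def, map_mul χ, LocRes.map_algebraMap, mul_assoc, HahnSeries.C_mul_eq_smul,
    map_smul, algebraMap_smul, map_smul, smul_eq_mul]

theorem locRes_zero_left (χ : K →ₐ[k] LaurentSeries F) (s : K) : LocRes.locRes χ 0 s = 0 := by
  unfold LocRes.locRes LocRes.resExp
  rw [map_zero, zero_mul, map_zero, map_zero]

/-- The derivative of the expansion of a separating element does not vanish. -/
theorem D_exp_ne_zero (hK : IsFunctionField k K) (hg : IsGeometric k K)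
    {w : Valuation K (WithZero (Multiplicative ℤ))} {χ : K →ₐ[k] LaurentSeries F}
    (hχ : LocRes.IsExpansionAt w χ) {v : K} (hv : KaehlerDifferential.D k K v ≠ 0) :
    LocRes.D F (χ v) ≠ 0 := by
  obtain ⟨t, ht⟩ := hχ.2.2
  have hvt : Valued.v (χ t) = WithZero.exp (-(1 : ℤ)) := by rw [hχ.1, ht]
  have hDt := val_D_eq hvt (by simp)
  have hDt0 : LocRes.D F (χ t) ≠ 0 := by
    intro h
    rw [h, Valuation.map_zero] at hDt
    exact WithZero.exp_ne_zero hDt.symm
  obtain ⟨z, hz⟩ := exists_kaehler_eq_smul hK hg hv t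
  have e := D_eq_mul_of_kaehler hz χ
  intro h0
  apply hDt0
  rw [e, h0, mul_zero]

/-- At a place where the differential `u dv` has order `C`, and for any bound `m > C`, there is a
function of pole order at most `m` against which the differential has a nonzero residue. -/
theorem exists_locRes_mul_ne_zero (hK : IsFunctionField k K) (hg : IsGeometric k K)
    [FiniteDimensional k F] {P : Place k K} {χ : K →ₐ[k] LaurentSeries F}
    (hχ : LocRes.IsExpansionAt P.1 χ) {u v : K} (hne : χ u * LocRes.D F (χ v) ≠ 0) :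
    ∃ x : K, P.1 x ≤ WithZero.exp (LocRes.ordDiff χ u v + 1) ∧ LocRes.locRes χ (x * u) v ≠ 0 := by
  haveI := isSeparable_of_isExpansionAt hK hg hχ
  obtain ⟨c, hc⟩ : ∃ c : F, Algebra.trace k F c ≠ 0 := by
    obtain ⟨c, hc⟩ := Algebra.trace_surjective k F 1
    exact ⟨c, by rw [hc]; exact one_ne_zero⟩
  set g := χ u * LocRes.D F (χ v) with hg'
  set C : ℤ := LocRes.ordDiff χ u v with hC
  have hval : Valued.v g = WithZero.exp (-C) := val_eq_exp_neg_ordL hne
  have hgC : g.coeff C ≠ 0 := coeff_ne_zero_of_val_eq hval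
  have hgvan : ∀ j < C, g.coeff j = 0 := (valuation_le_iff_coeff_lt_eq_zero F).1 hval.le
  set y : LaurentSeries F := HahnSeries.single (-(C + 1)) (c / g.coeff C) with hy
  obtain ⟨x, hx⟩ := dense_exp hχ (-C) y
  have hxvan : ∀ j < -(C + 1), (χ x).coeff j = 0 := by
    intro j hj
    have h1 := hx j (by omega)
    rw [HahnSeries.coeff_sub, hy, HahnSeries.coeff_single_of_ne (by omega), zero_sub,
      neg_eq_zero] at h1
    exact h1
  have hxc : (χ x).coeff (-(C + 1)) = c / g.coeff C := by
    have h1 := hx (-(C + 1)) (by omega)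
    rw [HahnSeries.coeff_sub, hy, HahnSeries.coeff_single_same, sub_eq_zero] at h1
    exact h1.symm
  refine ⟨x, ?_, ?_⟩
  · rw [← hχ.1]
    have := (valuation_le_iff_coeff_lt_eq_zero F).2 hxvan
    rwa [neg_neg] at this
  · unfold LocRes.locRes LocRes.resExp
    rw [map_mul χ, mul_assoc, ← hg', LocRes.res_apply]
    have h2 := coeff_mul_of_vanish hxvan hgvan
    have e : -(C + 1) + C = -1 := by ring
    rw [e] at h2
    rw [h2, hxc, div_mul_cancel₀ _ hgC]
    exact hc

end single

section family

variable (F : Place k K → Type w) [∀ P, Field (F P)] [∀ P, Algebra k (F P)]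
  [∀ P, FiniteDimensional k (F P)]
  (Φ : ∀ P, K →ₐ[k] LaurentSeries (F P)) (hΦ : ∀ P, LocRes.IsExpansionAt P.1 (Φ P))

include hΦ in
theorem support_locRes_subset (x : Place k K → K) (u s : K) :
    (Function.support fun P => LocRes.locRes (Φ P) (x P * u) s) ⊆
      {P | ¬ P.1 (x P) ≤ 1} ∪ ({P | ¬ P.1 u ≤ 1} ∪ {P | ¬ P.1 s ≤ 1}) := by
  intro P hP
  by_contra hn
  rw [Set.mem_union, not_or, Set.mem_union, not_or] at hn
  apply hP
  apply locRes_eq_zero_of_regular (hΦ P) _ (not_not.1 hn.2.2)
  rw [map_mul]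
  exact mul_le_one' (not_not.1 hn.1) (not_not.1 hn.2.1)

include hΦ in
theorem finite_support_locRes (hK : IsFunctionField k K) {x : Place k K → K}
    (hx : x ∈ adele k K) (u s : K) :
    (Function.support fun P => LocRes.locRes (Φ P) (x P * u) s).Finite :=
  (((mem_adele_iff x).1 hx).union ((HasseExp.finite_poles hK u).union
    (HasseExp.finite_poles hK s))).subset (support_locRes_subset F Φ hΦ x u s)

/-- The residue functional of the differential `u ds` on the repartition space. -/
noncomputable def resWg (hK : IsFunctionField k K) (u s : K) : Module.Dual k (adele k K) where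
  toFun a := ∑ᶠ P, LocRes.locRes (Φ P) ((a : Place k K → K) P * u) s
  map_add' a b := by
    rw [← finsum_add_distrib (finite_support_locRes F Φ hΦ hK a.2 u s)
      (finite_support_locRes F Φ hΦ hK b.2 u s)]
    refine finsum_congr fun P => ?_
    rw [Submodule.coe_add, Pi.add_apply, add_mul, locRes_add_left]
  map_smul' c a := by
    rw [RingHom.id_apply, smul_eq_mul, mul_finsum _ _]
    refine finsum_congr fun P => ?_
    rw [Submodule.coe_smul, Pi.smul_apply, smul_mul_assoc, locRes_smul_left]

theorem resWg_apply (hK : IsFunctionField k K) (u s : K) (a : adele k K) :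
    resWg F Φ hΦ hK u s a = ∑ᶠ P, LocRes.locRes (Φ P) ((a : Place k K → K) P * u) s := rfl

/-- The residue theorem: the residue functional vanishes on the diagonal. -/
theorem resWg_diagA (hK : IsFunctionField k K) (u s z : K) :
    resWg F Φ hΦ hK u s (diagA hK z) = 0 := by
  rw [resWg_apply]
  obtain ⟨S, hS⟩ := finite_poles hK (z * u) s
  have hsub : (Function.support fun P =>
      LocRes.locRes (Φ P) (((diagA hK z : adele k K) : Place k K → K) P * u) s) ⊆ ↑S := by
    intro P hP
    by_contra hn
    have := hS P (by simpa using hn)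
    exact hP (locRes_eq_zero_of_regular (hΦ P) this.1 this.2)
  rw [finsum_eq_sum_of_support_subset _ hsub]
  exact sum_locRes_eq_zero hK F Φ hΦ (z * u) s S hS

theorem resWg_inA (hK : IsFunctionField k K) (u s x : K) (P : Place k K) :
    resWg F Φ hΦ hK u s (inA P x) = LocRes.locRes (Φ P) (x * u) s := by
  classical
  rw [resWg_apply]
  have hsub : (Function.support fun Q =>
      LocRes.locRes (Φ Q) (((inA P x : adele k K) : Place k K → K) Q * u) s) ⊆
      ↑({P} : Finset (Place k K)) := by
    intro Q hQ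
    by_contra hn
    have hne : Q ≠ P := by simpa using hn
    apply hQ
    show LocRes.locRes (Φ Q) (((inA P x : adele k K) : Place k K → K) Q * u) s = 0
    rw [inA_apply, if_neg hne, zero_mul, locRes_zero_left]
  rw [finsum_eq_sum_of_support_subset _ hsub, Finset.sum_singleton, inA_apply, if_pos rfl]

/-- Pointwise criterion for the residue functional to vanish on `A(E) + K`. -/
theorem resWg_mem_WD_iff (hK : IsFunctionField k K) (hg : IsGeometric k K) {u s : K}
    (hu : u ≠ 0) (hs : KaehlerDifferential.D k K s ≠ 0) (E : Divisor k K) :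
    resWg F Φ hΦ hK u s ∈ WD E ↔ ∀ P, E P ≤ LocRes.ordDiff (Φ P) u s := by
  have hne : ∀ P, Φ P u * LocRes.D (F P) (Φ P s) ≠ 0 := fun P =>
    mul_ne_zero ((map_ne_zero (Φ P)).2 hu) (D_exp_ne_zero hK hg (hΦ P) hs)
  have hC : ∀ P, Valued.v (Φ P u * LocRes.D (F P) (Φ P s)) =
      WithZero.exp (-(LocRes.ordDiff (Φ P) u s)) := fun P => val_eq_exp_neg_ordL (hne P)
  rw [mem_WD_iff]
  constructor
  · intro h P
    by_contra hP
    rw [not_le] at hP
    obtain ⟨x, hx1, hx2⟩ := exists_locRes_mul_ne_zero hK hg (hΦ P) (hne P)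
    have hmem : ((inA P x : adele k K) : Place k K → K) ∈ AD E ⊔ XK k K := by
      classical
      apply Submodule.mem_sup_left
      rw [mem_AD_iff]
      intro Q
      rw [inA_apply]
      split_ifs with hQ
      · rw [hQ]
        refine hx1.trans ?_
        rw [WithZero.exp_le_exp]; omega
      · rw [Valuation.map_zero]; exact zero_le
    have h0 := h (inA P x) hmem
    rw [resWg_inA] at h0
    exact hx2 h0
  · intro hE a ha
    obtain ⟨b, hb, c, ⟨z, rfl⟩, hbc⟩ := Submodule.mem_sup.1 ha
    have e : a = ⟨b, AD_le_adele E hb⟩ + diagA hK z := by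
      apply Subtype.ext
      rw [Submodule.coe_add, ← hbc]
      rfl
    rw [e, map_add, resWg_diagA, add_zero, resWg_apply]
    rw [mem_AD_iff] at hb
    have : ∀ P, LocRes.locRes (Φ P) (b P * u) s = 0 := by
      intro P
      unfold LocRes.locRes LocRes.resExp
      rw [res_eq_zero_of_val_le_one, map_zero]
      rw [map_mul (Φ P), mul_assoc, map_mul, (hΦ P).1, hC P]
      calc P.1 (b P) * WithZero.exp (-(LocRes.ordDiff (Φ P) u s))
          ≤ WithZero.exp (E P) * WithZero.exp (-(LocRes.ordDiff (Φ P) u s)) :=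
            mul_le_mul' (hb P) le_rfl
        _ ≤ 1 := by
            rw [← WithZero.exp_add, ← WithZero.exp_zero, WithZero.exp_le_exp]
            have := hE P
            omega
    simp only [this, finsum_zero]

theorem resWg_ne_zero (hK : IsFunctionField k K) (hg : IsGeometric k K) {u s : K}
    (hu : u ≠ 0) (hs : KaehlerDifferential.D k K s ≠ 0) : resWg F Φ hΦ hK u s ≠ 0 := by
  obtain ⟨P⟩ := exists_place hK
  have hne : Φ P u * LocRes.D (F P) (Φ P s) ≠ 0 :=
    mul_ne_zero ((map_ne_zero (Φ P)).2 hu) (D_exp_ne_zero hK hg (hΦ P) hs)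
  obtain ⟨x, hx1, hx2⟩ := exists_locRes_mul_ne_zero hK hg (hΦ P) hne
  intro h0
  apply hx2
  rw [← resWg_inA F Φ hΦ hK u s x P, h0, LinearMap.zero_apply]

include hΦ in
/-- The order of `u ds` is non-negative at almost all places. -/
theorem finite_neg_ordDiff (hK : IsFunctionField k K) (u s : K) :
    {P : Place k K | LocRes.ordDiff (Φ P) u s < 0}.Finite := by
  refine ((HasseExp.finite_poles hK u).union (HasseExp.finite_poles hK s)).subset ?_
  intro P hP
  by_contra hn
  rw [Set.mem_union, not_or] at hn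
  have hu1 : P.1 u ≤ 1 := not_not.1 hn.1
  have hs1 : P.1 s ≤ 1 := not_not.1 hn.2
  have hle : Valued.v (Φ P u * LocRes.D (F P) (Φ P s)) ≤ 1 := by
    rw [map_mul]
    refine mul_le_one' (by rw [(hΦ P).1]; exact hu1) (val_D_le_one (by rw [(hΦ P).1]; exact hs1))
  rw [Set.mem_ofPred_eq] at hP
  unfold LocRes.ordDiff LocRes.vDiff at hP
  by_cases h0 : Valued.v (Φ P u * LocRes.D (F P) (Φ P s)) = 0
  · rw [h0, WithZero.log_zero] at hP
    omega
  · have := (WithZero.log_le_log h0 one_ne_zero).2 hle
    rw [WithZero.log_one] at this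
    omega

theorem isWeil_resWg (hK : IsFunctionField k K) (hg : IsGeometric k K) {u s : K}
    (hu : u ≠ 0) (hs : KaehlerDifferential.D k K s ≠ 0) : IsWeil (resWg F Φ hΦ hK u s) := by
  classical
  set E : Divisor k K := Finsupp.onFinset (finite_neg_ordDiff F Φ hΦ hK u s).toFinset
    (fun P => min 0 (LocRes.ordDiff (Φ P) u s)) (by
      intro P hP
      rw [Set.Finite.mem_toFinset, Set.mem_ofPred_eq]
      by_contra hn
      exact hP (min_eq_left (not_lt.1 hn))) with hE
  refine ⟨E, (resWg_mem_WD_iff F Φ hΦ hK hg hu hs E).2 fun P => ?_⟩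
  rw [hE, Finsupp.onFinset_apply]
  exact min_le_right _ _

/-- The divisor of the residue functional of `u ds` is the pointwise order of `u ds`. -/
theorem exists_divisor_eq_ordDiff (hK : IsFunctionField k K) (hg : IsGeometric k K) {u s : K}
    (hu : u ≠ 0) (hs : KaehlerDifferential.D k K s ≠ 0) :
    ∃ W : Divisor k K, IsDivOf (resWg F Φ hΦ hK u s) W ∧
      ∀ P, W P = LocRes.ordDiff (Φ P) u s := by
  classical
  obtain ⟨W, hW⟩ := exists_isDivOf hK (isWeil_resWg F Φ hΦ hK hg hu hs)
    (resWg_ne_zero F Φ hΦ hK hg hu hs)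
  refine ⟨W, hW, ?_⟩
  have h1 : ∀ P, W P ≤ LocRes.ordDiff (Φ P) u s :=
    (resWg_mem_WD_iff F Φ hΦ hK hg hu hs W).1 (IsDivOf.mem_WD hW)
  intro P₀
  apply le_antisymm (h1 P₀)
  set E : Divisor k K := W + Finsupp.single P₀ (LocRes.ordDiff (Φ P₀) u s - W P₀) with hE
  have hEle : ∀ P, E P ≤ LocRes.ordDiff (Φ P) u s := by
    intro P
    rw [hE, Finsupp.add_apply]
    by_cases hP : P = P₀
    · subst hP
      rw [Finsupp.single_eq_same]; omega
    · rw [Finsupp.single_eq_of_ne hP, add_zero]
      exact h1 P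
  have h2 := (hW E).1 ((resWg_mem_WD_iff F Φ hΦ hK hg hu hs E).2 hEle) P₀
  rw [hE, Finsupp.add_apply, Finsupp.single_eq_same] at h2
  omega

end family

end Groth.Agent.Lib.helper10.Tate
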