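import Groth.Agent.Lib.Helper10.FunFld39

/-!
Function fields of one variable (helper10), part 40: residue degrees in extensions and quadratic
extensions (total ramification and unramifiedness criteria).
-/

set_option autoImplicit false
set_option linter.unusedSectionVars false
set_option linter.style.haveILetI false

universe u v w

open IntermediateField FunFld Polynomial

namespace Groth.Agent.Lib.helper10

namespace FF

open RD PA

section Quadratic

variable {k : Type u} {F : Type v} {E : Type w} [Field k] [Field F] [Field E]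
  [Algebra k F] [Algebra F E] [Algebra k E] [IsScalarTower k F E]

theorem Place.deg_pos' [FiniteDimensional F E] (hF : IsFunctionField k F) (Q : Place k E) :
    0 < Q.deg := by
  have hE := isFunctionField_algebraicClosure' (E := E) hF
  obtain ⟨⟨x, hx, hfin⟩, -⟩ := hF
  have hx'tr : Transcendental k (algebraMap F E x) :=
    (transcendental_algebraMap_iff (algebraMap F E).injective).mpr hx
  haveI : FiniteDimensional k⟮algebraMap F E x⟯ E := by
    apply Module.finite_of_finrank_pos
    rw [finrank_adjoin_algebraMap (k := k) (E := E) x]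
    haveI := hfin
    exact Nat.mul_pos Module.finrank_pos Module.finrank_pos
  haveI := finiteDimensional_algebraicClosure hx'tr
  have h1 := Place.deg_down (k := k) (Place.up Q : Place (algebraicClosure k E) E)
  rw [Place.down_up] at h1
  rw [h1]
  exact Nat.mul_pos Module.finrank_pos (Place.deg_pos hE _)

theorem Place.finiteDimensional_residueField' [FiniteDimensional F E]
    (hF : IsFunctionField k F) (Q : Place k E) :
    FiniteDimensional k (IsLocalRing.ResidueField Q.O) :=
  Module.finite_of_finrank_pos (Place.deg_pos' hF Q)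

/-- The residue degree is at least one: `deg P ≤ deg Q` for `Q` over `P`. -/
theorem Place.deg_le_of_isOver [FiniteDimensional F E] (hF : IsFunctionField k F)
    {Q : Place k E} {P : Place k F} (h : IsOver Q P) : P.deg ≤ Q.deg := by
  obtain ⟨e, he⟩ := h
  have hepos := isOverWith_pos he
  let φ : ↥P.O →+* ↥Q.O :=
    { toFun := fun z => ⟨algebraMap F E z.1, by
        show Q.1 (algebraMap F E z.1) ≤ 1
        rw [he]
        exact pow_le_one' z.2 e⟩
      map_one' := Subtype.ext (map_one _)
      map_mul' := fun a b => Subtype.ext (map_mul _ _ _)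
      map_zero' := Subtype.ext (map_zero _)
      map_add' := fun a b => Subtype.ext (map_add _ _ _) }
  let ψ : ↥P.O →+* IsLocalRing.ResidueField Q.O := (IsLocalRing.residue Q.O).comp φ
  have hker : ∀ z ∈ IsLocalRing.maximalIdeal P.O, ψ z = 0 := by
    intro z hz
    have hz' : P.1 (z : F) < 1 := by
      rw [← Place.residue_eq_zero_iff, IsLocalRing.residue_eq_zero_iff]
      exact hz
    show IsLocalRing.residue Q.O (φ z) = 0
    rw [Place.residue_eq_zero_iff]
    show Q.1 (algebraMap F E z.1) < 1
    rw [he]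
    exact pow_lt_one₀ zero_le hz' (by omega)
  let χ : IsLocalRing.ResidueField P.O →+* IsLocalRing.ResidueField Q.O :=
    Ideal.Quotient.lift (IsLocalRing.maximalIdeal P.O) ψ hker
  letI iP : Algebra k (IsLocalRing.ResidueField P.O) := Place.algRes P
  letI iQ : Algebra k (IsLocalRing.ResidueField Q.O) := Place.algRes Q
  have hχ : ∀ c : k, χ (algebraMap k _ c) = algebraMap k _ c := by
    intro c
    show χ (IsLocalRing.residue _ (algebraMap k P.O c)) = IsLocalRing.residue _ (algebraMap k Q.O c)
    show ψ (algebraMap k P.O c) = _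
    show IsLocalRing.residue _ (φ (algebraMap k P.O c)) = _
    congr 1
    apply Subtype.ext
    show algebraMap F E (algebraMap k F c) = algebraMap k E c
    rw [← IsScalarTower.algebraMap_apply]
  letI mP : Module k (IsLocalRing.ResidueField P.O) := iP.toModule
  letI mQ : Module k (IsLocalRing.ResidueField Q.O) := iQ.toModule
  let L : IsLocalRing.ResidueField P.O →ₗ[k] IsLocalRing.ResidueField Q.O :=
    { toFun := χ
      map_add' := map_add χ
      map_smul' := fun c x => by
        show χ (algebraMap k _ c * x) = algebraMap k _ c * χ x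
        rw [map_mul, hχ] }
  haveI hfin : Module.Finite k (IsLocalRing.ResidueField Q.O) :=
    Place.finiteDimensional_residueField' hF Q
  have := LinearMap.finrank_le_finrank_of_injective (f := L) χ.injective
  exact this

/-- Bookkeeping in a quadratic extension: `e ≤ 2`, and `e = 2` forces a unique place above of the
same degree. -/
theorem quadratic_cases [FiniteDimensional F E] (hF : IsFunctionField k F)
    (hn : Module.finrank F E = 2) {Q : Place k E} {P : Place k F} {e : ℕ}
    (he : IsOverWith Q P e) :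
    e ≤ 2 ∧ (e = 2 → (∀ Q' : Place k E, IsOver Q' P → Q' = Q) ∧ Q.deg = P.deg) := by
  classical
  have hfin := finite_places_over' (E := E) hF P
  set Qs := hfin.toFinset with hQs
  have hmem : ∀ Q', Q' ∈ Qs ↔ IsOver Q' P := fun Q' => Set.Finite.mem_toFinset hfin
  have hsum := sum_ramIdx_mul_deg hF P Qs hmem
  rw [hn] at hsum
  have hQmem : Q ∈ Qs := (hmem Q).mpr ⟨e, he⟩
  have hdQ := Place.deg_le_of_isOver hF (⟨e, he⟩ : IsOver Q P)
  have hdQpos := Place.deg_pos' hF Q
  have hterm : e * Q.deg ≤ 2 * P.deg := by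
    rw [← hsum, ← ramIdx_eq he]
    exact Finset.single_le_sum (f := fun Q' => ramIdx Q' P * Q'.deg) (fun _ _ => Nat.zero_le _) hQmem
  have he2 : e ≤ 2 := by
    by_contra hgt
    rw [not_le] at hgt
    have : 3 * Q.deg ≤ e * Q.deg := Nat.mul_le_mul_right _ hgt
    omega
  refine ⟨he2, ?_⟩
  intro he2'
  subst he2'
  have hdeg : Q.deg = P.deg := by omega
  refine ⟨?_, hdeg⟩
  intro Q' hQ'
  by_contra hne
  have hQ'mem : Q' ∈ Qs := (hmem Q').mpr hQ'
  obtain ⟨e', he'⟩ := hQ'
  have hsub : ({Q, Q'} : Finset (Place k E)) ⊆ Qs := by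
    intro R hR
    rcases Finset.mem_insert.mp hR with rfl | hR
    · exact hQmem
    · rw [Finset.mem_singleton.mp hR]; exact hQ'mem
  have h1 := Finset.sum_le_sum_of_subset (f := fun Q' => ramIdx Q' P * Q'.deg) hsub
  rw [Finset.sum_pair (Ne.symm hne), hsum, ramIdx_eq he, ramIdx_eq he'] at h1
  have h2 := isOverWith_pos he'
  have h3 := Place.deg_pos' hF Q'
  have h4 : 1 * 1 ≤ e' * Q'.deg := Nat.mul_le_mul h2 h3
  omega

/-- Total ramification criterion in a quadratic extension. -/
theorem quadratic_totally_ramified [FiniteDimensional F E] (hF : IsFunctionField k F)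
    (hn : Module.finrank F E = 2) (P : Place k F)
    (heven : ∀ (Q : Place k E) (e : ℕ), IsOverWith Q P e → Even e) :
    (∃! Q : Place k E, IsOver Q P) ∧
      ∀ Q : Place k E, IsOver Q P → IsOverWith Q P 2 ∧ Q.deg = P.deg := by
  classical
  have key : ∀ Q : Place k E, IsOver Q P →
      IsOverWith Q P 2 ∧ (∀ Q' : Place k E, IsOver Q' P → Q' = Q) ∧ Q.deg = P.deg := by
    rintro Q ⟨e, he⟩
    have h1 := quadratic_cases hF hn he
    have h2 := isOverWith_pos he
    obtain ⟨m, hm⟩ := heven Q e he
    have he2 : e = 2 := by omega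
    subst he2
    exact ⟨he, h1.2 rfl⟩
  have hfin := finite_places_over' (E := E) hF P
  have hsum := sum_ramIdx_mul_deg hF P hfin.toFinset (fun Q' => Set.Finite.mem_toFinset hfin)
  have hne : hfin.toFinset.Nonempty := by
    by_contra hempty
    rw [Finset.not_nonempty_iff_eq_empty] at hempty
    rw [hempty, Finset.sum_empty, hn] at hsum
    have := Place.deg_pos hF P
    omega
  obtain ⟨Q₀, hQ₀⟩ := hne
  have hQ₀' : IsOver Q₀ P := (Set.Finite.mem_toFinset hfin).mp hQ₀
  refine ⟨⟨Q₀, hQ₀', fun Q' hQ' => (key Q₀ hQ₀').2.1 Q' hQ'⟩, fun Q hQ => ⟨(key Q hQ).1, (key Q hQ).2.2⟩⟩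

/-- Unramifiedness criterion in a quadratic Galois extension. -/
theorem quadratic_unramified [FiniteDimensional F E] (hF : IsFunctionField k F)
    (hn : Module.finrank F E = 2) {Q : Place k E} {P : Place k F} {e : ℕ}
    (he : IsOverWith Q P e) (w : E) (σ : E ≃ₐ[F] E)
    (hspan : ∀ z : E, ∃ α β : F, z = algebraMap F E α + algebraMap F E β * w)
    (hw : Q.1 w ≤ 1) (hσ : Q.1 (σ w - w) = 1) : e = 1 := by
  have h1 := quadratic_cases hF hn he
  have h2 := isOverWith_pos he
  by_contra hne
  have he2 : e = 2 := by omega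
  subst he2
  obtain ⟨huniq, -⟩ := h1.2 rfl
  have hσQ : Place.comapAut Q σ = Q := huniq _ ⟨2, Place.comapAut_isOverWith he σ⟩
  have hσv : ∀ z : E, Q.1 (σ z) = Q.1 z := by
    intro z
    have := congrArg (fun R : Place k E => R.1 z) hσQ
    exact this
  obtain ⟨t, ht⟩ := Place.exists_uniformizer Q
  obtain ⟨α, β, hαβ⟩ := hspan t
  have hdiff : σ t - t = algebraMap F E β * (σ w - w) := by
    rw [hαβ, map_add, map_mul, σ.commutes, σ.commutes]
    ring
  have h3 : Q.1 (σ t - t) ≤ WithZero.exp (-1 : ℤ) := by
    apply le_trans (Valuation.map_sub _ _ _)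
    rw [hσv, ht, max_self]
  rw [hdiff, Valuation.map_mul, hσ, mul_one, he β] at h3
  have hβ : P.1 β < 1 := by
    by_contra hge
    rw [not_lt] at hge
    have h4 : (1 : WithZero (Multiplicative ℤ)) ≤ P.1 β ^ 2 := one_le_pow₀ hge
    have h5 := le_trans h4 h3
    rw [← WithZero.exp_zero, WithZero.exp_le_exp] at h5
    omega
  have hβ' : P.1 β ≤ WithZero.exp (-1 : ℤ) := (lt_one_iff_le_exp_neg_one _).mp hβ
  have hβ2 : Q.1 (algebraMap F E β * w) ≤ WithZero.exp (-2 : ℤ) := by
    rw [Valuation.map_mul, he β]
    calc P.1 β ^ 2 * Q.1 w ≤ WithZero.exp (-1 : ℤ) ^ 2 * 1 :=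
          mul_le_mul' (pow_le_pow_left' hβ' 2) hw
      _ = WithZero.exp (-2 : ℤ) := by
          rw [mul_one, ← WithZero.exp_nsmul]
          rfl
  have hα : algebraMap F E α = t - algebraMap F E β * w := by
    rw [hαβ]; ring
  have hlt : Q.1 (algebraMap F E β * w) < Q.1 t := by
    rw [ht]
    apply lt_of_le_of_lt hβ2
    rw [WithZero.exp_lt_exp]
    omega
  have h6 : Q.1 (algebraMap F E α) = WithZero.exp (-1 : ℤ) := by
    rw [hα, Valuation.map_sub_eq_of_lt_left _ hlt, ht]
  rw [he α] at h6
  have hα0 : α ≠ 0 := by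
    rintro rfl
    rw [Valuation.map_zero, zero_pow (by omega)] at h6
    exact WithZero.exp_ne_zero h6.symm
  rw [Place.val_eq_exp_neg_ord P hα0, ← WithZero.exp_nsmul] at h6
  have h7 := WithZero.exp_injective h6
  simp only [nsmul_eq_mul, Nat.cast_ofNat] at h7
  omega

end Quadratic

end FF

end Groth.Agent.Lib.helper10
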