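import Groth.Agent.Lib.Helper10.FunFld9

/-!
Function fields of one variable (helper10), part 48: semilocal dimension counts.  For a finite set
`Qs` of places (with residue fields finite over `k`) the subspaces
`{z | v_Q(z) ≤ exp (A Q) for Q ∈ Qs}` have relative dimension `∑ m_Q deg Q` over the one with `A`
lowered by `m`.
-/

set_option autoImplicit false
set_option linter.unusedSectionVars false
set_option linter.style.haveILetI false

universe u v w

open IntermediateField FunFld

namespace Groth.Agent.Lib.helper10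

namespace FF

open RD

variable {k : Type u} {K : Type v} [Field k] [Field K] [Algebra k K]

/-- The graded pieces of the filtration by balls are copies of the residue field (version with
the finiteness of the residue field as a hypothesis). -/
theorem Place.relFin_ball' (P : Place k K) [FiniteDimensional k (IsLocalRing.ResidueField P.O)]
    (n : ℤ) :
    RelFin (Place.ball P (n - 1)) (Place.ball P n) ∧
      relDim (Place.ball P (n - 1)) (Place.ball P n) = P.deg := by
  obtain ⟨t, ht⟩ := Place.exists_uniformizer P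
  have ht0 : t ≠ 0 := by
    intro h
    rw [h, Valuation.map_zero] at ht
    exact WithZero.exp_ne_zero ht.symm
  have htn : P.1 (t ^ n) = WithZero.exp (-n) := Place.val_zpow_uniformizer P ht n
  have htn0 : t ^ n ≠ 0 := zpow_ne_zero n ht0
  have hmem : ∀ x ∈ Place.ball P n, x * t ^ n ∈ P.O := by
    intro x hx
    rw [Place.mem_O_iff, map_mul, htn]
    calc P.1 x * WithZero.exp (-n) ≤ WithZero.exp n * WithZero.exp (-n) := mul_le_mul_left hx _
      _ = 1 := by rw [← WithZero.exp_add, add_neg_cancel, WithZero.exp_zero]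
  let θ : Place.ball P n →ₗ[k] IsLocalRing.ResidueField P.O :=
    { toFun := fun x => IsLocalRing.residue P.O ⟨x.1 * t ^ n, hmem x.1 x.2⟩
      map_add' := fun x y => by
        rw [← map_add]
        congr 1
        apply Subtype.ext
        simp [add_mul]
      map_smul' := fun c x => by
        simp only [RingHom.id_apply]
        change _ = IsLocalRing.residue P.O (c • ⟨x.1 * t ^ n, hmem x.1 x.2⟩)
        congr 1
        apply Subtype.ext
        change (c • x.1) * t ^ n = algebraMap k K c * (x.1 * t ^ n)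
        rw [Algebra.smul_def, mul_assoc] }
  have hθ : ∀ x : Place.ball P n, θ x = IsLocalRing.residue P.O ⟨x.1 * t ^ n, hmem x.1 x.2⟩ :=
    fun _ => rfl
  have hsurj : Function.Surjective θ := by
    intro r
    obtain ⟨w, rfl⟩ := IsLocalRing.residue_surjective r
    have hw : (w : K) * (t ^ n)⁻¹ ∈ Place.ball P n := by
      rw [Place.mem_ball, map_mul, map_inv₀, htn, ← WithZero.exp_neg, neg_neg]
      calc P.1 (w : K) * WithZero.exp n ≤ 1 * WithZero.exp n := mul_le_mul_left w.2 _
        _ = WithZero.exp n := one_mul _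
    refine ⟨⟨_, hw⟩, ?_⟩
    rw [hθ]
    congr 1
    apply Subtype.ext
    simp only
    rw [mul_assoc, inv_mul_cancel₀ htn0, mul_one]
  have hker : LinearMap.ker θ = (Place.ball P (n - 1)).comap (Place.ball P n).subtype := by
    ext x
    rw [LinearMap.mem_ker, hθ, Place.residue_eq_zero_iff, Submodule.mem_comap, Place.mem_ball]
    simp only [Submodule.subtype_apply]
    rw [map_mul, htn, ← lt_exp_iff_le_exp_sub_one]
    constructor
    · intro h
      have h1 : P.1 x.1 = (P.1 x.1 * WithZero.exp (-n)) * WithZero.exp n := by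
        rw [mul_assoc, ← WithZero.exp_add, neg_add_cancel, WithZero.exp_zero, mul_one]
      rw [h1]
      calc P.1 x.1 * WithZero.exp (-n) * WithZero.exp n < 1 * WithZero.exp n :=
            mul_lt_mul_of_pos_right h WithZero.exp_pos
        _ = WithZero.exp n := one_mul _
    · intro h
      calc P.1 x.1 * WithZero.exp (-n) < WithZero.exp n * WithZero.exp (-n) :=
            mul_lt_mul_of_pos_right h WithZero.exp_pos
        _ = 1 := by rw [← WithZero.exp_add, add_neg_cancel, WithZero.exp_zero]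
  have e : RQ (Place.ball P (n - 1)) (Place.ball P n) ≃ₗ[k] IsLocalRing.ResidueField P.O :=
    (Submodule.quotEquivOfEq _ _ hker.symm).trans (θ.quotKerEquivOfSurjective hsurj)
  exact ⟨Module.Finite.equiv e.symm, e.finrank_eq⟩

/-- The `k`-subspace `{z | v_Q(z) ≤ exp (A Q) for all Q ∈ Qs}`. -/
def semiBall (Qs : Finset (Place k K)) (A : Place k K → ℤ) : Submodule k K where
  carrier := {z | ∀ Q ∈ Qs, Q.1 z ≤ WithZero.exp (A Q)}
  add_mem' {x y} hx hy Q hQ := (Q.1.map_add x y).trans (max_le (hx Q hQ) (hy Q hQ))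
  zero_mem' Q _ := by simp
  smul_mem' c x hx Q hQ := by
    change Q.1 (c • x) ≤ _
    rw [Algebra.smul_def, map_mul]
    exact (mul_le_mul' (Q.2.1 c) (hx Q hQ)).trans_eq (one_mul _)

theorem mem_semiBall {Qs : Finset (Place k K)} {A : Place k K → ℤ} {z : K} :
    z ∈ semiBall Qs A ↔ ∀ Q ∈ Qs, Q.1 z ≤ WithZero.exp (A Q) := Iff.rfl

theorem semiBall_congr {Qs : Finset (Place k K)} {A B : Place k K → ℤ}
    (h : ∀ Q ∈ Qs, A Q = B Q) : semiBall Qs A = semiBall Qs B := by
  ext z
  simp only [mem_semiBall]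
  constructor <;> intro hz Q hQ
  · rw [← h Q hQ]; exact hz Q hQ
  · rw [h Q hQ]; exact hz Q hQ

theorem semiBall_mono {Qs : Finset (Place k K)} {A B : Place k K → ℤ}
    (h : ∀ Q ∈ Qs, A Q ≤ B Q) : semiBall Qs A ≤ semiBall Qs B :=
  fun _ hz Q hQ => (hz Q hQ).trans (WithZero.exp_le_exp.2 (h Q hQ))

theorem relFin_semiBall_step [DecidableEq (Place k K)] (Qs : Finset (Place k K))
    (A : Place k K → ℤ) {Q₀ : Place k K}
    (hQ₀ : Q₀ ∈ Qs) [FiniteDimensional k (IsLocalRing.ResidueField Q₀.O)] :
    RelFin (semiBall Qs (Function.update A Q₀ (A Q₀ - 1))) (semiBall Qs A) ∧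
      relDim (semiBall Qs (Function.update A Q₀ (A Q₀ - 1))) (semiBall Qs A) = Q₀.deg := by
  have hb := Place.relFin_ball' Q₀ (A Q₀)
  have h := relFin_of_bijective (LinearMap.id : K →ₗ[k] K)
    (U := semiBall Qs (Function.update A Q₀ (A Q₀ - 1))) (W := semiBall Qs A)
    (U' := Place.ball Q₀ (A Q₀ - 1)) (W' := Place.ball Q₀ (A Q₀))
    (fun x hx => hx Q₀ hQ₀)
    (fun x _ hx => by
      have := hx Q₀ hQ₀
      rwa [Function.update_self] at this)
    (fun x hx hxU Q hQ => by
      by_cases hQQ : Q = Q₀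
      · subst hQQ
        rw [Function.update_self]
        exact hxU
      · rw [Function.update_of_ne hQQ]
        exact hx Q hQ)
    (fun y hy => ?_)
  · exact ⟨h.1.2 hb.1, h.2.trans hb.2⟩
  · obtain ⟨N, hN⟩ : ∃ N : ℕ, ∀ Q ∈ Qs, -(N : ℤ) ≤ A Q - 1 := by
      refine ⟨∑ Q ∈ Qs, (A Q - 1).natAbs, fun Q hQ => ?_⟩
      have := Finset.single_le_sum (f := fun Q' : Place k K => (A Q' - 1).natAbs)
        (fun i _ => Nat.zero_le _) hQ
      omega
    obtain ⟨z, hz⟩ := weak_approx Qs (fun Q => if Q = Q₀ then y else 0) N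
    have hz₀ : Q₀.1 (z - y) ≤ WithZero.exp (A Q₀ - 1) := by
      have := hz Q₀ hQ₀
      rw [if_pos rfl] at this
      exact this.trans (WithZero.exp_le_exp.2 (hN Q₀ hQ₀))
    refine ⟨z, fun Q hQ => ?_, ?_⟩
    · by_cases hQQ : Q = Q₀
      · subst hQQ
        have e : z = (z - y) + y := by ring
        rw [e]
        refine (Q.1.map_add _ _).trans (max_le ?_ hy)
        exact hz₀.trans (WithZero.exp_le_exp.2 (by omega))
      · have := hz Q hQ
        rw [if_neg hQQ, sub_zero] at this
        exact this.trans (WithZero.exp_le_exp.2 (by have := hN Q hQ; omega))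
    · simp only [LinearMap.id_coe, id_eq]
      rw [Place.mem_ball, Valuation.map_sub_swap]
      exact hz₀

/-- Semilocal dimension count. -/
theorem relFin_semiBall (Qs : Finset (Place k K))
    (hfd : ∀ Q ∈ Qs, FiniteDimensional k (IsLocalRing.ResidueField Q.O))
    (A : Place k K → ℤ) (m : Place k K → ℕ) :
    RelFin (semiBall Qs (fun Q => A Q - m Q)) (semiBall Qs A) ∧
      relDim (semiBall Qs (fun Q => A Q - m Q)) (semiBall Qs A) = ∑ Q ∈ Qs, m Q * Q.deg := by
  classical
  suffices H : ∀ N : ℕ, ∀ m : Place k K → ℕ, ∑ Q ∈ Qs, m Q = N →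
      (RelFin (semiBall Qs (fun Q => A Q - m Q)) (semiBall Qs A) ∧
        relDim (semiBall Qs (fun Q => A Q - m Q)) (semiBall Qs A) = ∑ Q ∈ Qs, m Q * Q.deg) from
    H _ m rfl
  intro N
  induction N with
  | zero =>
    intro m hm
    have h0 : ∀ Q ∈ Qs, m Q = 0 := fun Q hQ => (Finset.sum_eq_zero_iff.1 hm) Q hQ
    have e : semiBall Qs (fun Q => A Q - m Q) = semiBall Qs A :=
      semiBall_congr fun Q hQ => by simp [h0 Q hQ]
    rw [e]
    have := relFin_self (semiBall Qs A)
    refine ⟨this.1, this.2.trans ?_⟩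
    symm
    apply Finset.sum_eq_zero
    intro Q hQ
    rw [h0 Q hQ, zero_mul]
  | succ N ih =>
    intro m hm
    have hex : ∃ Q₀ ∈ Qs, 0 < m Q₀ := by
      by_contra hcon
      push Not at hcon
      have : ∑ Q ∈ Qs, m Q = 0 := Finset.sum_eq_zero fun Q hQ => Nat.le_zero.1 (hcon Q hQ)
      omega
    obtain ⟨Q₀, hQ₀, hpos⟩ := hex
    obtain ⟨j, hj⟩ : ∃ j, m Q₀ = j + 1 := Nat.exists_eq_succ_of_ne_zero hpos.ne'
    obtain ⟨m', hm'def⟩ : ∃ m' : Place k K → ℕ, m' = Function.update m Q₀ j := ⟨_, rfl⟩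
    have hm'Q₀ : m' Q₀ = j := by rw [hm'def, Function.update_self]
    have hm'ne : ∀ Q, Q ≠ Q₀ → m' Q = m Q := fun Q hQ => by
      rw [hm'def, Function.update_of_ne hQ]
    have hsum : ∀ f : Place k K → ℕ, ∑ Q ∈ Qs, m Q * f Q = f Q₀ + ∑ Q ∈ Qs, m' Q * f Q := by
      intro f
      rw [← Finset.add_sum_erase Qs _ hQ₀, ← Finset.add_sum_erase Qs (fun Q => m' Q * f Q) hQ₀,
        hm'Q₀, hj]
      have : ∑ Q ∈ Qs.erase Q₀, m Q * f Q = ∑ Q ∈ Qs.erase Q₀, m' Q * f Q :=
        Finset.sum_congr rfl fun Q hQ => by rw [hm'ne Q (Finset.ne_of_mem_erase hQ)]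
      rw [this]
      ring
    have hm' : ∑ Q ∈ Qs, m' Q = N := by
      have := hsum (fun _ => 1)
      simp only [mul_one] at this
      omega
    have ih' := ih m' hm'
    haveI := hfd Q₀ hQ₀
    have hstep := relFin_semiBall_step Qs (fun Q => A Q - m' Q) hQ₀
    have e : semiBall Qs (Function.update (fun Q => A Q - (m' Q : ℤ)) Q₀
        (A Q₀ - (m' Q₀ : ℤ) - 1)) = semiBall Qs (fun Q => A Q - m Q) := by
      apply semiBall_congr
      intro Q _
      by_cases hQQ : Q = Q₀
      · subst hQQ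
        rw [Function.update_self, hm'Q₀, hj]
        push_cast
        ring
      · rw [Function.update_of_ne hQQ, hm'ne Q hQQ]
    rw [e] at hstep
    have hle1 : semiBall Qs (fun Q => A Q - (m Q : ℤ)) ≤ semiBall Qs (fun Q => A Q - (m' Q : ℤ)) := by
      apply semiBall_mono
      intro Q _
      by_cases hQQ : Q = Q₀
      · subst hQQ
        rw [hm'Q₀, hj]
        push_cast
        omega
      · rw [hm'ne Q hQQ]
    have hle2 : semiBall Qs (fun Q => A Q - (m' Q : ℤ)) ≤ semiBall Qs A := by
      apply semiBall_mono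
      intro Q _
      have : (0 : ℤ) ≤ m' Q := Int.natCast_nonneg _
      omega
    have hc := relFin_chain hle1 hle2 hstep.1 ih'.1
    refine ⟨hc.1, ?_⟩
    rw [hc.2, hstep.2, ih'.2]
    exact (hsum fun Q => Q.deg).symm

end FF

end Groth.Agent.Lib.helper10
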