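import Groth.Agent.Lib.Helper10.FunFld37

/-!
Function fields of one variable (helper10), part 38: change of constant field. A finite extension
`E` of a function field `F/k` is a function field over the algebraic closure `kc` of `k` in `E`;
places of `E/k` and of `E/kc` coincide, and degrees differ by the factor `[kc : k]`.
-/

set_option autoImplicit false
set_option linter.unusedSectionVars false
set_option linter.style.haveILetI false

universe u u' v w

open IntermediateField FunFld Polynomial

namespace Groth.Agent.Lib.helper10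

namespace FF

open RD PA

section Transfer

variable {k : Type u} {k₁ : Type u'} {E : Type w} [Field k] [Field k₁] [Field E]
  [Algebra k k₁] [Algebra k₁ E] [Algebra k E] [IsScalarTower k k₁ E]

/-- A place is trivial on every element algebraic over the constant field. -/
theorem Place.val_le_one_of_isAlgebraic (Q : Place k E) {c : E} (hc : IsAlgebraic k c) :
    Q.1 c ≤ 1 := by
  by_contra hgt
  rw [not_le] at hgt
  have hc0 : c ≠ 0 := by
    rintro rfl
    rw [Valuation.map_zero] at hgt
    exact absurd hgt (not_lt.mpr zero_le)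
  have ht : Q.1 c⁻¹ < 1 := by
    rw [map_inv₀]
    exact inv_lt_one_of_one_lt₀ hgt
  have hint : IsIntegral k c⁻¹ := hc.inv.isIntegral
  have h0 := minpoly.coeff_zero_ne_zero hint (inv_ne_zero hc0)
  have h1 := (Place.trivOn Q).aeval_eq_one ht (minpoly k c⁻¹) h0
  rw [minpoly.aeval, Valuation.map_zero] at h1
  exact zero_ne_one h1

/-- Restrict the constant field of a place. -/
def Place.down (Q : Place k₁ E) : Place k E :=
  ⟨Q.1, fun c => by
    rw [IsScalarTower.algebraMap_apply k k₁ E]
    exact Q.2.1 _, Q.2.2⟩

/-- Enlarge the constant field of a place along an algebraic extension. -/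
def Place.up [Algebra.IsAlgebraic k k₁] (Q : Place k E) : Place k₁ E :=
  ⟨Q.1, fun c => Place.val_le_one_of_isAlgebraic Q
    ((Algebra.IsAlgebraic.isAlgebraic (R := k) c).algebraMap), Q.2.2⟩

theorem Place.down_val (Q : Place k₁ E) : (Place.down (k := k) Q).1 = Q.1 := rfl

theorem Place.up_val [Algebra.IsAlgebraic k k₁] (Q : Place k E) :
    (Place.up (k₁ := k₁) Q).1 = Q.1 := rfl

theorem Place.down_up [Algebra.IsAlgebraic k k₁] (Q : Place k E) :
    Place.down (Place.up (k₁ := k₁) Q) = Q := rfl

theorem Place.up_down [Algebra.IsAlgebraic k k₁] (Q : Place k₁ E) :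
    Place.up (Place.down (k := k) Q) = Q := rfl

theorem Place.up_injective [Algebra.IsAlgebraic k k₁] :
    Function.Injective (Place.up (k := k) (k₁ := k₁) (E := E)) := by
  intro Q₁ Q₂ h
  have := congrArg (Place.down (k := k)) h
  rwa [Place.down_up, Place.down_up] at this

theorem Place.down_injective :
    Function.Injective (Place.down (k := k) (k₁ := k₁) (E := E)) := by
  intro Q₁ Q₂ h
  apply Subtype.ext
  have := congrArg Subtype.val h
  exact this

theorem Place.ord_down (Q : Place k₁ E) (z : E) : (Place.down (k := k) Q).ord z = Q.ord z := rfl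

theorem Place.ord_up [Algebra.IsAlgebraic k k₁] (Q : Place k E) (z : E) :
    (Place.up (k₁ := k₁) Q).ord z = Q.ord z := rfl

/-- Degrees over the small constant field are `[k₁ : k]` times degrees over the big one. -/
theorem Place.deg_down (Q : Place k₁ E) :
    (Place.down (k := k) Q).deg = Module.finrank k k₁ * Q.deg := by
  letI : Algebra k (IsLocalRing.ResidueField Q.O) := Place.algRes (Place.down (k := k) Q)
  letI : Algebra k₁ (IsLocalRing.ResidueField Q.O) := Place.algRes Q
  have h2 : IsScalarTower k k₁ (IsLocalRing.ResidueField Q.O) :=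
    IsScalarTower.of_algebraMap_eq (fun c => by
      show IsLocalRing.residue _ (algebraMap k (Place.down (k := k) Q).O c) =
        IsLocalRing.residue _ (algebraMap k₁ Q.O (algebraMap k k₁ c))
      congr 1
      apply Subtype.ext
      exact IsScalarTower.algebraMap_apply k k₁ E c)
  have := @Module.finrank_mul_finrank k k₁ (IsLocalRing.ResidueField Q.O) _ _ _ _ _ _ h2 _ _ _ _
  exact this.symm

end Transfer

section T1

variable {k : Type u} {k₀ : Type u'} {F : Type v} {E : Type w} [Field k] [Field k₀] [Field F]
  [Field E] [Algebra k k₀] [Algebra k₀ F] [Algebra k F] [IsScalarTower k k₀ F]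
  [Algebra F E] [Algebra k E] [IsScalarTower k F E]

/-- Finiteness over a larger coefficient field. -/
theorem finite_of_ringHom {M₁ M₂ : Type*} [Field M₁] [Field M₂] [Algebra M₁ E] [Algebra M₂ E]
    (j : M₁ →+* M₂) (hj : ∀ a, algebraMap M₂ E (j a) = algebraMap M₁ E a) [Module.Finite M₁ E] :
    Module.Finite M₂ E := by
  letI := j.toAlgebra
  haveI : IsScalarTower M₁ M₂ E := IsScalarTower.of_algebraMap_eq (fun a => (hj a).symm)
  exact Module.Finite.of_restrictScalars_finite M₁ M₂ E

/-- A finite extension of a function field is a function field over its full constant field. -/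
theorem isFunctionField_algebraicClosure [Algebra.IsAlgebraic k k₀] [FiniteDimensional F E]
    (hF : IsFunctionField k₀ F) : IsFunctionField (algebraicClosure k E) E := by
  obtain ⟨⟨x, hx, hfin⟩, -⟩ := hF
  have halgkc : ∀ y : E, IsAlgebraic (algebraicClosure k E) y → IsAlgebraic k y := fun y hy =>
    hy.restrictScalars k
  refine ⟨⟨algebraMap F E x, ?_, ?_⟩, ?_⟩
  · intro halg
    have h1 : IsAlgebraic k (algebraMap F E x) := halgkc _ halg
    have h2 : IsAlgebraic k x := (isAlgebraic_algebraMap_iff (algebraMap F E).injective).mp h1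
    exact hx (h2.extendScalars (FaithfulSMul.algebraMap_injective k k₀))
  · haveI : Module.Finite k₀⟮x⟯ F := hfin
    haveI : Module.Finite k₀⟮x⟯ E := Module.Finite.trans F E
    have hmem : ∀ a ∈ k₀⟮x⟯, algebraMap F E a ∈ (algebraicClosure k E)⟮algebraMap F E x⟯ := by
      intro a ha
      induction ha using IntermediateField.adjoin_induction with
      | mem y hy =>
        rw [Set.mem_singleton_iff.mp hy]
        exact mem_adjoin_simple_self _ _
      | algebraMap c =>
        have h3 : IsAlgebraic k (algebraMap F E (algebraMap k₀ F c)) :=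
          ((Algebra.IsAlgebraic.isAlgebraic (R := k) c).algebraMap (A := F)).algebraMap
        exact IntermediateField.algebraMap_mem _ (⟨_, mem_algebraicClosure_iff.mpr h3⟩ : algebraicClosure k E)
      | add a b _ _ ha hb => rw [map_add]; exact add_mem ha hb
      | inv a _ ha => rw [map_inv₀]; exact inv_mem ha
      | mul a b _ _ ha hb => rw [map_mul]; exact mul_mem ha hb
    let j : k₀⟮x⟯ →+* (algebraicClosure k E)⟮algebraMap F E x⟯ :=
      ((algebraMap F E).comp (algebraMap k₀⟮x⟯ F)).codRestrict _ (fun a => hmem a.1 a.2)
    exact finite_of_ringHom j (fun a => rfl)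
  · intro y hy
    have h4 : IsAlgebraic k y := halgkc y hy
    exact ⟨⟨y, mem_algebraicClosure_iff.mpr h4⟩, rfl⟩

end T1

section T4

variable {k : Type u} {E : Type w} [Field k] [Field E] [Algebra k E]

theorem transcendental_algebraicClosure {x : E} (hx : Transcendental k x) :
    Transcendental (algebraicClosure k E) x := fun halg => hx (halg.restrictScalars k)

open scoped IntermediateField.algebraAdjoinAdjoin in
/-- Constants that are linearly independent over `k` stay linearly independent over `k(x)`. -/
theorem linearIndependent_adjoin_of_transcendental {x : E} (hx : Transcendental k x)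
    {ι : Type*} {a : ι → algebraicClosure k E} (ha : LinearIndependent k a) :
    LinearIndependent k⟮x⟯ (fun i => (a i : E)) := by
  classical
  rw [← LinearIndependent.iff_fractionRing (Algebra.adjoin k {x}) k⟮x⟯, linearIndependent_iff']
  intro s g hg i hi
  have hgp : ∀ j, ∃ p : k[X], aeval x p = (g j : E) := by
    intro j
    have : (g j : E) ∈ (aeval (R := k) x).range := by
      rw [← Algebra.adjoin_singleton_eq_range_aeval]
      exact (g j).2
    exact this
  choose p hp using hgp
  have hx' := transcendental_iff.mp (transcendental_algebraicClosure hx)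
  set q : (algebraicClosure k E)[X] :=
    ∑ j ∈ s, C (a j) * (p j).map (algebraMap k (algebraicClosure k E)) with hq
  have hq0 : q = 0 := by
    apply hx'
    rw [hq, map_sum, ← hg]
    refine Finset.sum_congr rfl fun j _ => ?_
    rw [map_mul, aeval_C, aeval_map_algebraMap, hp j, mul_comm]
    rfl
  have hcoef : ∀ n : ℕ, ∑ j ∈ s, (p j).coeff n • a j = 0 := by
    intro n
    have := congrArg (fun r : (algebraicClosure k E)[X] => r.coeff n) hq0
    simp only [hq, finsetSum_coeff, coeff_C_mul, coeff_map, coeff_zero] at this
    rw [← this]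
    refine Finset.sum_congr rfl fun j _ => ?_
    rw [Algebra.smul_def, mul_comm]
  have hp0 : p i = 0 := by
    ext n
    rw [coeff_zero]
    exact linearIndependent_iff'.mp ha s (fun j => (p j).coeff n) (hcoef n) i hi
  apply Subtype.ext
  rw [← hp i, hp0, map_zero]
  rfl

theorem finiteDimensional_algebraicClosure {x : E} (hx : Transcendental k x)
    [FiniteDimensional k⟮x⟯ E] : FiniteDimensional k (algebraicClosure k E) := by
  set b := Module.Basis.ofVectorSpace k (algebraicClosure k E) with hb
  have hli := linearIndependent_adjoin_of_transcendental hx b.linearIndependent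
  haveI := hli.finite_of_isNoetherian
  exact Module.Finite.of_basis b

/-- `[E : k(x)] = [kc : k] [E : kc(x)]` for the algebraic closure `kc` of `k` in `E`. -/
theorem finrank_adjoin_algebraicClosure {x : E} (hx : Transcendental k x) :
    Module.finrank k⟮x⟯ E =
      Module.finrank k (algebraicClosure k E) * Module.finrank (algebraicClosure k E)⟮x⟯ E := by
  set A := algebraicClosure k E with hA
  set b := Module.Basis.ofVectorSpace k A with hb
  have hli := linearIndependent_adjoin_of_transcendental hx b.linearIndependent
  have H : A.LinearDisjoint ↥k⟮x⟯ := IntermediateField.LinearDisjoint.of_basis_left b hli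
  have h1 := H.adjoin_rank_eq_rank_left_of_isAlgebraic_left
  set M : IntermediateField ↥k⟮x⟯ E := IntermediateField.adjoin ↥k⟮x⟯ (A : Set E) with hM
  have h2 : Module.finrank ↥k⟮x⟯ M = Module.finrank k A := congrArg Cardinal.toNat h1
  have h3 : Module.finrank M E = Module.finrank A⟮x⟯ E := by
    have hsub : ∀ c ∈ k⟮x⟯, c ∈ A⟮x⟯ := by
      intro c hc
      induction hc using IntermediateField.adjoin_induction with
      | mem y hy =>
        rw [Set.mem_singleton_iff.mp hy]
        exact mem_adjoin_simple_self _ _
      | algebraMap d =>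
        exact IntermediateField.algebraMap_mem _ (algebraMap k A d)
      | add a b _ _ ha hb => exact add_mem ha hb
      | inv a _ ha => exact inv_mem ha
      | mul a b _ _ ha hb => exact mul_mem ha hb
    have hset : ∀ z : E, z ∈ M ↔ z ∈ A⟮x⟯ := by
      intro z
      constructor
      · intro hz
        induction hz using IntermediateField.adjoin_induction with
        | mem y hy => exact IntermediateField.algebraMap_mem _ (⟨y, hy⟩ : A)
        | algebraMap c => exact hsub c.1 c.2
        | add a b _ _ ha hb => exact add_mem ha hb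
        | inv a _ ha => exact inv_mem ha
        | mul a b _ _ ha hb => exact mul_mem ha hb
      · intro hz
        induction hz using IntermediateField.adjoin_induction with
        | mem y hy =>
          rw [Set.mem_singleton_iff.mp hy]
          exact IntermediateField.algebraMap_mem M (AdjoinSimple.gen k x)
        | algebraMap c => exact IntermediateField.subset_adjoin _ _ c.2
        | add a b _ _ ha hb => exact add_mem ha hb
        | inv a _ ha => exact inv_mem ha
        | mul a b _ _ ha hb => exact mul_mem ha hb
    let i : M ≃+* A⟮x⟯ :=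
      { toFun := fun z => ⟨z.1, (hset z.1).mp z.2⟩
        invFun := fun z => ⟨z.1, (hset z.1).mpr z.2⟩
        left_inv := fun z => rfl
        right_inv := fun z => rfl
        map_mul' := fun _ _ => rfl
        map_add' := fun _ _ => rfl }
    exact Algebra.finrank_eq_of_equiv_equiv i (RingEquiv.refl E) rfl
  rw [← Module.finrank_mul_finrank ↥k⟮x⟯ M E, h2, h3]

end T4

section Main

variable {k : Type u} {F : Type v} {E : Type w} [Field k] [Field F] [Field E]
  [Algebra k F] [Algebra F E] [Algebra k E] [IsScalarTower k F E]

theorem support_ord_finite' (hE : IsFunctionField (algebraicClosure k E) E) (z : E) :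
    (Function.support fun Q : Place k E => Q.ord z).Finite := by
  have h := support_ord_finite hE z
  exact (h.preimage (Place.up_injective (k := k)).injOn).subset (fun Q hQ => hQ)

theorem div_apply' (hE : IsFunctionField (algebraicClosure k E) E) (z : E) (Q : Place k E) :
    FunFld.div k z Q = Q.ord z := by
  unfold FunFld.div
  rw [dif_pos (support_ord_finite' hE z)]
  rfl

theorem finite_zeros' (hE : IsFunctionField (algebraicClosure k E) E) {z : E} (hz : z ≠ 0) :
    {Q : Place k E | Q.1 z < 1}.Finite := by
  have h := finite_zeros hE hz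
  exact (h.preimage (Place.up_injective (k := k)).injOn).subset (fun Q hQ => hQ)

/-- A nonconstant function whose only zero is `P`. -/
theorem exists_unique_zero (hF : IsFunctionField k F) (P : Place k F) :
    ∃ x : F, Transcendental k x ∧ P.1 x < 1 ∧ ∀ P' : Place k F, P'.1 x < 1 → P' = P := by
  classical
  set g : ℤ := (genus k F : ℤ) with hg
  have hg0 : (0 : ℤ) ≤ g := Int.natCast_nonneg _
  set D : Divisor k F := Finsupp.single P (g + 1) with hD
  have hdeg : g + 1 ≤ D.deg := by
    rw [hD, deg_single]
    have h1 : (1 : ℤ) ≤ P.deg := by exact_mod_cast Place.deg_pos hF P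
    nlinarith
  have hell : (2 : ℤ) ≤ ell D := by
    have := delta_le_genus hF D
    linarith
  have hex : ∃ y ∈ L D, y ∉ Set.range (algebraMap k F) := by
    by_contra hcon
    push Not at hcon
    have hle : L D ≤ L (0 : Divisor k F) := by
      intro y hy
      rw [L_zero hF, Submodule.one_eq_range]
      obtain ⟨c, hc⟩ := hcon y hy
      exact ⟨c, hc⟩
    haveI := (finite_L_zero hF).1
    have h1 := Submodule.finrank_mono hle
    rw [(finite_L_zero hF).2] at h1
    have : (ell D : ℤ) ≤ 1 := by
      unfold ell
      exact_mod_cast h1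
    omega
  obtain ⟨y, hyD, hyc⟩ := hex
  have hy0 : y ≠ 0 := by
    rintro rfl
    exact hyc ⟨0, map_zero _⟩
  have hytr := transcendental_of_not_mem_range hF hyc
  obtain ⟨Q, hQ⟩ := exists_pole hF hyc
  have hpole : ∀ P' : Place k F, 1 < P'.1 y → P' = P := by
    intro P' hP'
    by_contra hne
    have := hyD P'
    rw [hD, Finsupp.single_apply, if_neg (Ne.symm hne), WithZero.exp_zero] at this
    exact absurd this (not_le.mpr hP')
  have hQ' : 1 < Q.1 y := (Place.ord_neg_iff Q hy0).mp hQ
  have hQP : Q = P := hpole Q hQ'
  refine ⟨y⁻¹, transcendental_inv hytr, ?_, ?_⟩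
  · rw [map_inv₀, ← hQP]
    exact inv_lt_one_of_one_lt₀ hQ'
  · intro P' hP'
    apply hpole
    rw [map_inv₀] at hP'
    have hpos : 0 < P'.1 y := zero_lt_iff.mpr ((Valuation.ne_zero_iff _).mpr hy0)
    exact (inv_lt_one₀ hpos).mp hP'

theorem finrank_adjoin_algebraMap (x : F) :
    Module.finrank k⟮algebraMap F E x⟯ E = Module.finrank k⟮x⟯ F * Module.finrank F E := by
  set τ : F →ₐ[k] E := IsScalarTower.toAlgHom k F E with hτ
  have hτx : τ x = algebraMap F E x := rfl
  rw [← hτx]
  have hmap : (k⟮x⟯).map τ = k⟮τ x⟯ := by
    rw [IntermediateField.adjoin_map, Set.image_singleton]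
  have htop : (⊤ : IntermediateField k F).map τ = τ.fieldRange :=
    (AlgHom.fieldRange_eq_map τ).symm
  have h1 := IntermediateField.relfinrank_map_map k⟮x⟯ (⊤ : IntermediateField k F) τ
  rw [hmap, htop, IntermediateField.relfinrank_top_right] at h1
  have hle : k⟮τ x⟯ ≤ τ.fieldRange := by
    rw [← hmap, ← htop]
    exact IntermediateField.map_mono τ le_top
  have h2 := IntermediateField.relfinrank_mul_finrank_top hle
  rw [h1] at h2
  have h3 : Module.finrank τ.fieldRange E = Module.finrank F E := by
    symm
    exact Algebra.finrank_eq_of_equiv_equiv (AlgEquiv.ofInjectiveField τ).toRingEquiv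
      (RingEquiv.refl E) rfl
  rw [← h2, h3]

theorem isOver_iff_of_unique_zero [Algebra.IsAlgebraic F E] (hF : IsFunctionField k F)
    {P : Place k F} {x : F} (hxP : P.1 x < 1) (hxu : ∀ P' : Place k F, P'.1 x < 1 → P' = P)
    (Q : Place k E) : IsOver Q P ↔ Q.1 (algebraMap F E x) < 1 := by
  constructor
  · rintro ⟨e, he⟩
    rw [he x]
    exact pow_lt_one₀ zero_le hxP (by have := isOverWith_pos he; omega)
  · intro hQ
    obtain ⟨P', e, he⟩ := exists_place_under hF Q
    rw [he x] at hQ
    have hP' : P'.1 x < 1 := by
      by_contra hge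
      rw [not_lt] at hge
      exact absurd hQ (not_lt.mpr (one_le_pow₀ hge))
    rw [hxu P' hP'] at he
    exact ⟨e, he⟩

/-- A finite extension of a function field is a function field over its own constants. -/
theorem isFunctionField_algebraicClosure' [FiniteDimensional F E] (hF : IsFunctionField k F) :
    IsFunctionField (algebraicClosure k E) E :=
  isFunctionField_algebraicClosure (k := k) (k₀ := k) hF

theorem finite_places_over' [FiniteDimensional F E] (hF : IsFunctionField k F) (P : Place k F) :
    {Q : Place k E | IsOver Q P}.Finite := by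
  have hE := isFunctionField_algebraicClosure' (E := E) hF
  obtain ⟨t, ht⟩ := Place.exists_uniformizer P
  have ht0 : t ≠ 0 := by
    rintro rfl
    rw [Valuation.map_zero] at ht
    exact WithZero.exp_ne_zero ht.symm
  have hιt0 : algebraMap F E t ≠ 0 := (_root_.map_ne_zero _).mpr ht0
  refine (finite_zeros' hE hιt0).subset ?_
  rintro Q ⟨e, he⟩
  have hpos := isOverWith_pos he
  show Q.1 (algebraMap F E t) < 1
  rw [he t, ht, ← WithZero.exp_nsmul, ← WithZero.exp_zero, WithZero.exp_lt_exp]
  simp only [nsmul_eq_mul, mul_neg, mul_one, Left.neg_neg_iff]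
  exact_mod_cast hpos

/-- **S11009**: `∑_{Q | P} e(Q|P) deg Q = [E : F] deg P`. -/
theorem sum_ramIdx_mul_deg [FiniteDimensional F E] (hF : IsFunctionField k F) (P : Place k F)
    (Qs : Finset (Place k E)) (hQs : ∀ Q, Q ∈ Qs ↔ IsOver Q P) :
    ∑ Q ∈ Qs, ramIdx Q P * Q.deg = Module.finrank F E * P.deg := by
  classical
  obtain ⟨x, hxtr, hxP, hxu⟩ := exists_unique_zero hF P
  have hE := isFunctionField_algebraicClosure' (E := E) hF
  set x' : E := algebraMap F E x with hx'
  have hx0 : x ≠ 0 := by
    rintro rfl
    exact hxtr isAlgebraic_zero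
  have hx'0 : x' ≠ 0 := (_root_.map_ne_zero _).mpr hx0
  have hx'tr : Transcendental k x' :=
    (transcendental_algebraMap_iff (algebraMap F E).injective).mpr hxtr
  have hx'trc := transcendental_algebraicClosure hx'tr
  set r : ℤ := P.ord x with hr
  have hrpos : 0 < r := (Place.ord_pos_iff P hx0).mpr hxP
  have hover := isOver_iff_of_unique_zero hF hxP hxu (E := E)
  -- the divisor of zeros of `x'` over the full constant field
  have hzd : zerosDiv (algebraicClosure k E) x' =
      ∑ Q ∈ Qs, ((ramIdx Q P : ℤ) * r) • Finsupp.single (Place.up Q) (1 : ℤ) := by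
    ext Q'
    rw [zerosDiv_apply hE, Finsupp.finsetSum_apply]
    simp only [Finsupp.smul_apply, Finsupp.single_apply, smul_eq_mul, mul_ite, mul_one, mul_zero]
    by_cases hQ' : Q'.1 x' < 1
    · set Q₀ : Place k E := Place.down Q' with hQ₀
      have hQ₀mem : Q₀ ∈ Qs := (hQs Q₀).mpr ((hover Q₀).mpr hQ')
      obtain ⟨e, he⟩ := (hover Q₀).mpr hQ'
      rw [Finset.sum_eq_single_of_mem Q₀ hQ₀mem]
      · rw [if_pos (Place.up_down Q'), ramIdx_eq he]
        have h1 : Q'.ord x' = e * r := ord_algebraMap_of_isOverWith he x
        rw [h1]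
        have hepos : (0 : ℤ) ≤ e := Int.natCast_nonneg _
        exact max_eq_left (mul_nonneg hepos hrpos.le)
      · intro Q _ hne
        rw [if_neg]
        intro h
        apply hne
        rw [hQ₀, ← h, Place.down_up]
    · rw [Finset.sum_eq_zero]
      · apply max_eq_right
        rw [not_lt] at hQ'
        by_contra hpos
        rw [not_le] at hpos
        exact absurd ((Place.ord_pos_iff Q' hx'0).mp hpos) (not_lt.mpr hQ')
      · intro Q hQ
        rw [if_neg]
        intro h
        apply hQ'
        rw [← h]
        exact (hover Q).mp ((hQs Q).mp hQ)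
  have h1 := deg_zerosDiv hE hx'trc
  rw [hzd, deg_sum] at h1
  simp only [deg_zsmul, deg_single, one_mul] at h1
  -- degrees over `k`
  have h2 : ∀ Q : Place k E, (Q.deg : ℤ) =
      (Module.finrank k (algebraicClosure k E) : ℤ) * ((Place.up Q :
        Place (algebraicClosure k E) E).deg : ℤ) := by
    intro Q
    have := Place.deg_down (k := k) (Place.up Q : Place (algebraicClosure k E) E)
    rw [Place.down_up] at this
    exact_mod_cast this
  have h3 := finrank_adjoin_algebraicClosure hx'tr
  have h4 := finrank_adjoin_algebraMap (k := k) (E := E) x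
  have h5 := deg_zerosDiv hF hxtr
  have h6 : zerosDiv k x = Finsupp.single P r := by
    ext P'
    rw [zerosDiv_apply hF, Finsupp.single_apply]
    by_cases hP' : P = P'
    · rw [if_pos hP', ← hP']
      exact max_eq_left hrpos.le
    · rw [if_neg hP']
      apply max_eq_right
      by_contra hpos
      rw [not_le] at hpos
      exact hP' (hxu P' ((Place.ord_pos_iff P' hx0).mp hpos)).symm
  rw [h6, deg_single] at h5
  -- combine
  have hmain : r * (∑ Q ∈ Qs, ((ramIdx Q P * Q.deg : ℕ) : ℤ)) =
      r * ((Module.finrank F E * P.deg : ℕ) : ℤ) := by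
    have e1 : r * (∑ Q ∈ Qs, ((ramIdx Q P * Q.deg : ℕ) : ℤ)) =
        (Module.finrank k (algebraicClosure k E) : ℤ) *
          ∑ Q ∈ Qs, ((ramIdx Q P : ℤ) * r) * ((Place.up Q :
            Place (algebraicClosure k E) E).deg : ℤ) := by
      rw [Finset.mul_sum, Finset.mul_sum]
      refine Finset.sum_congr rfl fun Q _ => ?_
      push_cast
      rw [h2 Q]
      ring
    rw [e1, h1]
    have e2 : (Module.finrank k (algebraicClosure k E) : ℤ) *
        (Module.finrank (algebraicClosure k E)⟮x'⟯ E : ℤ) = (Module.finrank k⟮x'⟯ E : ℤ) := by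
      exact_mod_cast h3.symm
    rw [e2, h4]
    push_cast
    rw [← h5]
    ring
  have := mul_left_cancel₀ hrpos.ne' hmain
  have h7 : ((∑ Q ∈ Qs, ramIdx Q P * Q.deg : ℕ) : ℤ) = ((Module.finrank F E * P.deg : ℕ) : ℤ) := by
    rw [Nat.cast_sum]
    exact this
  exact_mod_cast h7

/-- **S11021**: `|G_Z| deg P = e deg Q` in a Galois extension. -/
theorem card_decomposition_mul_deg [FiniteDimensional F E] [IsGalois F E]
    (hF : IsFunctionField k F) {Q : Place k E} {P : Place k F} {e : ℕ} (he : IsOverWith Q P e) :
    Nat.card ((Q.O).decompositionSubgroup F) * P.deg = e * Q.deg := by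
  classical
  have hfin := finite_places_over' (E := E) hF P
  set Qs := hfin.toFinset with hQs
  have hmem : ∀ Q', Q' ∈ Qs ↔ IsOver Q' P := fun Q' => Set.Finite.mem_toFinset hfin
  have h1 := sum_ramIdx_mul_deg hF P Qs hmem
  have h2 : ∑ Q' ∈ Qs, ramIdx Q' P * Q'.deg = Qs.card * (e * Q.deg) := by
    rw [Finset.sum_congr rfl (fun Q' hQ' => by
      obtain ⟨h3, h4⟩ := isOverWith_and_deg_eq he ((hmem Q').mp hQ')
      rw [ramIdx_eq h3, h4]), Finset.sum_const, smul_eq_mul]
  have h5 := card_places_mul_card_decomposition (k := k) (Q := Q) (P := P) ⟨e, he⟩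
  have h6 : Nat.card {Q' : Place k E // IsOver Q' P} = Qs.card := by
    have : Nat.card {Q' : Place k E // IsOver Q' P} =
        Nat.card ↥{Q' : Place k E | IsOver Q' P} := rfl
    rw [this, Nat.card_coe_set_eq, Set.ncard_eq_toFinset_card _ hfin]
  rw [h6] at h5
  have hpos : 0 < Qs.card := Finset.card_pos.mpr ⟨Q, (hmem Q).mpr ⟨e, he⟩⟩
  have h7 : Qs.card * (Nat.card ((Q.O).decompositionSubgroup F) * P.deg) =
      Qs.card * (e * Q.deg) := by
    rw [← h2, h1, ← h5]
    ring
  exact Nat.eq_of_mul_eq_mul_left hpos h7

/-- The coefficient of the conorm at a place of the extension (no assumption on the constant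
field of the extension). -/
theorem conorm_apply_of_finite (hfin : ∀ P' : Place k F, {Q' : Place k E | IsOver Q' P'}.Finite)
    (D : Divisor k F) {Q : Place k E} {P : Place k F} {e : ℕ} (h : IsOverWith Q P e) :
    conorm E D Q = e * D P := by
  classical
  unfold conorm
  rw [Finsupp.sum_apply]
  have hterm : ∀ (P' : Place k F) (n : ℤ),
      (n • if hfin' : {Q' : Place k E | IsOver Q' P'}.Finite then
        hfin'.toFinset.sum (fun Q' => (ramIdx Q' P' : ℤ) • Finsupp.single Q' (1 : ℤ)) else 0) Q =
      if P' = P then n * e else 0 := by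
    intro P' n
    rw [dif_pos (hfin P'), Finsupp.smul_apply, Finsupp.finsetSum_apply]
    by_cases hP' : P' = P
    · subst hP'
      rw [if_pos rfl]
      have hQmem : Q ∈ (hfin P').toFinset :=
        (Set.Finite.mem_toFinset _).mpr ⟨e, h⟩
      rw [Finset.sum_eq_single_of_mem Q hQmem]
      · rw [Finsupp.smul_apply, Finsupp.single_eq_same, ramIdx_eq h]
        simp
      · intro Q' _ hne
        rw [Finsupp.smul_apply, Finsupp.single_eq_of_ne (Ne.symm hne), smul_zero]
    · rw [if_neg hP']
      have : ∑ Q' ∈ (hfin P').toFinset,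
          ((ramIdx Q' P' : ℤ) • Finsupp.single Q' (1 : ℤ)) Q = 0 := by
        apply Finset.sum_eq_zero
        intro Q' hQ'
        rw [Finsupp.smul_apply]
        by_cases hQQ : Q' = Q
        · exfalso
          subst hQQ
          obtain ⟨e'', he''⟩ := (Set.Finite.mem_toFinset _).mp hQ'
          exact hP' (isOverWith_unique_place he'' h)
        · rw [Finsupp.single_eq_of_ne (Ne.symm hQQ), smul_zero]
      rw [this, smul_zero]
  simp only [hterm]
  rw [Finsupp.sum, Finset.sum_ite_eq']
  by_cases hPD : P ∈ D.support
  · rw [if_pos hPD]; ring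
  · rw [if_neg hPD, Finsupp.notMem_support_iff.mp hPD, mul_zero]

theorem conorm_apply' [FiniteDimensional F E] (hF : IsFunctionField k F)
    (D : Divisor k F) {Q : Place k E} {P : Place k F} {e : ℕ} (h : IsOverWith Q P e) :
    conorm E D Q = e * D P :=
  conorm_apply_of_finite (finite_places_over' hF) D h

/-- **S11032**, first half: `deg N*(D) = [E : F] deg D`. -/
theorem deg_conorm [FiniteDimensional F E] (hF : IsFunctionField k F) (D : Divisor k F) :
    (conorm E D).deg = Module.finrank F E * D.deg := by
  classical
  unfold conorm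
  rw [Finsupp.sum, deg_sum]
  have hterm : ∀ P : Place k F, Divisor.deg ((D P) • (if hfin : {Q : Place k E | IsOver Q P}.Finite
        then hfin.toFinset.sum (fun Q => (ramIdx Q P : ℤ) • Finsupp.single Q (1 : ℤ)) else 0 :
          Divisor k E)) = Module.finrank F E * (D P * P.deg) := by
    intro P
    rw [dif_pos (finite_places_over' hF P), deg_zsmul, deg_sum]
    simp only [deg_zsmul, deg_single, one_mul]
    have h1 := sum_ramIdx_mul_deg hF P (finite_places_over' (E := E) hF P).toFinset
      (fun Q => Set.Finite.mem_toFinset _)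
    have h2 : ∑ Q ∈ (finite_places_over' (E := E) hF P).toFinset, (ramIdx Q P : ℤ) * (Q.deg : ℤ) =
        (Module.finrank F E : ℤ) * P.deg := by
      exact_mod_cast h1
    rw [h2]
    ring
  rw [Finset.sum_congr rfl (fun P _ => hterm P), ← Finset.mul_sum]
  rfl

/-- **S11032**, second half: the principal divisor of an element of the small field. -/
theorem div_algebraMap_eq_conorm [FiniteDimensional F E] (hF : IsFunctionField k F) (x : F) :
    FunFld.div k (algebraMap F E x) = conorm E (FunFld.div k x) := by
  have hE := isFunctionField_algebraicClosure' (E := E) hF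
  ext Q
  obtain ⟨P, e, he⟩ := exists_place_under hF Q
  rw [div_apply' hE, conorm_apply' hF _ he, div_apply hF, ord_algebraMap_of_isOverWith he]

/-- The place below, when the base field is only a function field over its own constants. -/
theorem exists_place_under' [Algebra.IsAlgebraic F E]
    (hF : IsFunctionField (algebraicClosure k F) F) (Q : Place k E) :
    ∃ (P : Place k F) (e : ℕ), IsOverWith Q P e := by
  obtain ⟨P₁, e, he⟩ := exists_place_under (k := algebraicClosure k F) hF
    (Place.up (k₁ := algebraicClosure k F) Q)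
  exact ⟨Place.down P₁, e, fun z => he z⟩

theorem finite_places_over_of (hE : IsFunctionField (algebraicClosure k E) E) (P : Place k F) :
    {Q : Place k E | IsOver Q P}.Finite := by
  obtain ⟨t, ht⟩ := Place.exists_uniformizer P
  have ht0 : t ≠ 0 := by
    rintro rfl
    rw [Valuation.map_zero] at ht
    exact WithZero.exp_ne_zero ht.symm
  have hιt0 : algebraMap F E t ≠ 0 := (_root_.map_ne_zero _).mpr ht0
  refine (finite_zeros' hE hιt0).subset ?_
  rintro Q ⟨e, he⟩
  have hpos := isOverWith_pos he
  show Q.1 (algebraMap F E t) < 1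
  rw [he t, ht, ← WithZero.exp_nsmul, ← WithZero.exp_zero, WithZero.exp_lt_exp]
  simp only [nsmul_eq_mul, mul_neg, mul_one, Left.neg_neg_iff]
  exact_mod_cast hpos

theorem finite_places_over'' [FiniteDimensional F E]
    (hF : IsFunctionField (algebraicClosure k F) F) (P : Place k F) :
    {Q : Place k E | IsOver Q P}.Finite :=
  finite_places_over_of
    (isFunctionField_algebraicClosure (k := k) (k₀ := algebraicClosure k F) (E := E) hF) P

end Main

section Tower

variable {k : Type u} {K : Type v} {K' : Type w} {K'' : Type u'} [Field k] [Field K] [Field K']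
  [Field K''] [Algebra k K] [Algebra k K'] [Algebra k K''] [Algebra K K'] [Algebra K' K'']
  [Algebra K K''] [IsScalarTower k K K'] [IsScalarTower k K' K''] [IsScalarTower k K K'']
  [IsScalarTower K K' K'']

/-- **S12514**: transitivity of the conorm. -/
theorem conorm_conorm [FiniteDimensional K K'] [FiniteDimensional K' K'']
    (hK : IsFunctionField k K) (D : Divisor k K) :
    conorm K'' (conorm K' D) = conorm K'' D := by
  haveI : FiniteDimensional K K'' := Module.Finite.trans K' K''
  have hK' := isFunctionField_algebraicClosure' (E := K') hK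
  ext Q''
  obtain ⟨Q', e₂, h₂⟩ := exists_place_under' hK' Q''
  obtain ⟨P, e₁, h₁⟩ := exists_place_under hK Q'
  have h₁₂ : IsOverWith Q'' P (e₁ * e₂) := by
    intro z
    rw [IsScalarTower.algebraMap_apply K K' K'', h₂, h₁, pow_mul]
  rw [conorm_apply_of_finite (finite_places_over'' hK') _ h₂, conorm_apply' hK D h₁,
    conorm_apply' hK D h₁₂]
  push_cast
  ring

end Tower

section Main'

variable {k : Type u} {F : Type v} {E : Type w} [Field k] [Field F] [Field E]
  [Algebra k F] [Algebra F E] [Algebra k E] [IsScalarTower k F E]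


end Main'

end FF

end Groth.Agent.Lib.helper10
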