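import Mathlib
import Groth.Agent.Lib.Helper10.Tate7

/-!
# The Tate pairing on a finite power of a space; commensurable lattices (helper10)
-/

set_option autoImplicit false
set_option linter.style.haveILetI false
set_option linter.unusedSectionVars false
set_option linter.unusedVariables false

namespace Groth.Agent.Lib.helper10.Tate

open LinearMap Module

section pi

variable {k : Type*} [Field k] {V : Type*} [AddCommGroup V] [Module k V]
  {ι : Type*} [Fintype ι] [DecidableEq ι]

/-- The diagonal operator on a finite power. -/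
def Dg (a : ι → Module.End k V) : Module.End k (ι → V) :=
  LinearMap.pi fun i => a i ∘ₗ LinearMap.proj i

@[simp] theorem Dg_apply (a : ι → Module.End k V) (w : ι → V) (i : ι) : Dg a w i = a i (w i) := rfl

theorem Dg_mul (a b : ι → Module.End k V) : Dg a * Dg b = Dg fun i => a i * b i := by
  ext w i; rfl

theorem Dg_one : Dg (fun _ : ι => (1 : Module.End k V)) = 1 := by
  ext w i; rfl

theorem Dg_sub (a b : ι → Module.End k V) : Dg a - Dg b = Dg fun i => a i - b i := by
  ext w i; rfl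

theorem one_sub_Dg (a : ι → Module.End k V) : 1 - Dg a = Dg fun i => 1 - a i := by
  rw [← Dg_one, Dg_sub]

/-- The blocks of an operator on a finite power. -/
def blk (T : Module.End k (ι → V)) (i j : ι) : Module.End k V :=
  LinearMap.proj i ∘ₗ T ∘ₗ LinearMap.single k (fun _ : ι => V) j

theorem blk_apply (T : Module.End k (ι → V)) (i j : ι) (v : V) :
    blk T i j v = T (Pi.single j v) i := rfl

theorem Dg_single (b : ι → Module.End k V) (j : ι) (v : V) :
    Dg b (Pi.single j v) = Pi.single j (b j v) := by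
  funext l
  rw [Dg_apply]
  by_cases h : l = j
  · subst h; rw [Pi.single_eq_same, Pi.single_eq_same]
  · rw [Pi.single_eq_of_ne h, Pi.single_eq_of_ne h, map_zero]

theorem blk_Dg_mul_mul (a b : ι → Module.End k V) (T : Module.End k (ι → V)) (i j : ι) :
    blk (Dg a * T * Dg b) i j = a i * blk T i j * b j := by
  ext v
  simp only [blk_apply, Module.End.mul_apply, Dg_apply, Dg_single]

theorem blk_Dg (a : ι → Module.End k V) (i : ι) : blk (Dg a) i i = a i := by
  ext v
  simp [blk_apply]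

theorem blk_mul_Dg (b : ι → Module.End k V) (T : Module.End k (ι → V)) (i j : ι) :
    blk (T * Dg b) i j = blk T i j * b j := by
  have := blk_Dg_mul_mul (fun _ => (1 : Module.End k V)) b T i j
  rwa [Dg_one, one_mul, one_mul] at this

theorem FinRank.blk {T : Module.End k (ι → V)} (hT : FinRank T) (i j : ι) : FinRank (blk T i j) :=
  FinRank.comp_left (FinRank.comp_right hT _) _

theorem finRank_Dg {a : ι → Module.End k V} (h : ∀ i, FinRank (a i)) : FinRank (Dg a) := by
  have e : Dg a = ∑ i, (LinearMap.single k (fun _ : ι => V) i ∘ₗ a i ∘ₗ LinearMap.proj i :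
      Module.End k (ι → V)) := by
    refine LinearMap.ext fun w => funext fun j => ?_
    simp only [Dg_apply, LinearMap.coe_sum, Finset.sum_apply, LinearMap.comp_apply,
      LinearMap.proj_apply, LinearMap.coe_single]
    rw [Finset.sum_eq_single j]
    · rw [Pi.single_eq_same]
    · intro l _ hl
      rw [Pi.single_eq_of_ne (Ne.symm hl)]
    · intro h; exact absurd (Finset.mem_univ j) h
  rw [e]
  exact finRank_sum _ _ fun i _ => FinRank.comp_left (FinRank.comp_right (h i) _) _

/-- The trace of a finite-rank operator on a finite power is the sum of the traces of its diagonal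
blocks. -/
theorem trF_pi {T : Module.End k (ι → V)} (hT : FinRank T) : trF T = ∑ i, trF (blk T i i) := by
  have e : T = ∑ i, (LinearMap.single k (fun _ : ι => V) i ∘ₗ (LinearMap.proj i ∘ₗ T) :
      Module.End k (ι → V)) := by
    refine LinearMap.ext fun w => funext fun j => ?_
    simp only [LinearMap.coe_sum, Finset.sum_apply, LinearMap.comp_apply,
      LinearMap.proj_apply, LinearMap.coe_single]
    rw [Finset.sum_eq_single j]
    · rw [Pi.single_eq_same]
    · intro l _ hl
      rw [Pi.single_eq_of_ne (Ne.symm hl)]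
    · intro h; exact absurd (Finset.mem_univ j) h
  conv_lhs => rw [e]
  rw [trF_sum]
  · refine Finset.sum_congr rfl fun i _ => ?_
    exact trF_comm' (R := LinearMap.proj i ∘ₗ T) (FinRank.comp_left hT _)
      (LinearMap.single k (fun _ : ι => V) i)
  · intro i _
    exact FinRank.comp_left (FinRank.comp_left hT _) _

theorem Dg_idem {π : ι → Module.End k V} (hπ : ∀ i, π i * π i = π i) : Dg π * Dg π = Dg π := by
  rw [Dg_mul]; congr 1; funext i; exact hπ i

theorem mem_range_Dg {π : ι → Module.End k V} (hπ : ∀ i, π i * π i = π i) (w : ι → V) :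
    w ∈ LinearMap.range (Dg π) ↔ ∀ i, w i ∈ LinearMap.range (π i) := by
  constructor
  · rintro ⟨u, rfl⟩ i
    exact ⟨u i, rfl⟩
  · intro h
    refine ⟨w, ?_⟩
    funext i
    rw [Dg_apply]
    exact idem_apply_of_mem (hπ i) (h i)

theorem off_Dg {π a : ι → Module.End k V} (h : ∀ i, Off (π i) (a i)) : Off (Dg π) (Dg a) := by
  unfold Off
  rw [one_sub_Dg, Dg_mul, Dg_mul]
  exact finRank_Dg h

/-- The pairing of an arbitrary operator with a diagonal one, with respect to a diagonal projection,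
only sees the diagonal blocks. -/
theorem psi_pi_diag {π x : ι → Module.End k V} {A : Module.End k (ι → V)}
    (hA : Off (Dg π) A) (hx : ∀ i, Off (π i) (x i)) :
    psi (Dg π) A (Dg x) = ∑ i, psi (π i) (blk A i i) (x i) := by
  unfold psi
  have h1 : FinRank (Dg x * (1 - Dg π) * A * Dg π) := hA.fin _
  have h2 : FinRank (A * (1 - Dg π) * Dg x * Dg π) := (off_Dg hx).fin _
  rw [trF_pi h1, trF_pi h2, ← Finset.sum_sub_distrib]
  refine Finset.sum_congr rfl fun i _ => ?_
  have e1 : blk (Dg x * (1 - Dg π) * A * Dg π) i i = x i * (1 - π i) * blk A i i * π i := by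
    rw [one_sub_Dg, Dg_mul, blk_Dg_mul_mul]
  have e2 : blk (A * (1 - Dg π) * Dg x * Dg π) i i = blk A i i * (1 - π i) * x i * π i := by
    rw [one_sub_Dg, mul_assoc, mul_assoc, Dg_mul, Dg_mul, blk_mul_Dg]
    simp only [mul_assoc]
  rw [e1, e2]

end pi

section commensurable

variable {k : Type*} [Field k] {V : Type*} [AddCommGroup V] [Module k V]
variable {f g : Module.End k V}

/-- The pairing does not change when the projection is changed by a finite-rank operator. -/
theorem psi_eq_of_sub_finRank {π₁ π₂ : Module.End k V} (hπ1 : π₁ * π₁ = π₁) (hπ2 : π₂ * π₂ = π₂)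
    (hp : FinRank (π₂ - π₁)) (hf : Off π₁ f) (hg : Off π₁ g) (hfg : Commute f g) :
    Off π₂ f ∧ Off π₂ g ∧ psi π₂ f g = psi π₁ f g := by
  set p := π₂ - π₁ with hpdef
  have e2 : π₂ = π₁ + p := by rw [hpdef]; abel
  have hoff : ∀ a : Module.End k V, Off π₁ a → Off π₂ a := by
    intro a ha
    unfold Off at ha ⊢
    have e : (1 - π₂) * a * π₂ = (1 - π₁) * a * π₁ + ((1 - π₁) * a * p - p * a * π₂) := by
      rw [e2]
      simp only [mul_add, add_mul, mul_sub, sub_mul, one_mul]
      abel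
    rw [e]
    exact ha.add ((FinRank.mul_left hp _).sub (FinRank.mul_right (FinRank.mul_right hp _) _))
  have hf2 := hoff f hf
  have hg2 := hoff g hg
  refine ⟨hf2, hg2, ?_⟩
  rw [psi_eq_trF_comm hπ1 hf hg hfg, psi_eq_trF_comm hπ2 hf2 hg2 hfg]
  set F₁ := π₁ * f * π₁ with hF₁
  set G₁ := π₁ * g * π₁ with hG₁
  set Rf := π₂ * f * π₂ - F₁ with hRf
  set Rg := π₂ * g * π₂ - G₁ with hRg
  have hR : ∀ a : Module.End k V, FinRank (π₂ * a * π₂ - π₁ * a * π₁) := by
    intro a
    have e : π₂ * a * π₂ - π₁ * a * π₁ = p * a * π₂ + π₁ * a * p := by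
      rw [e2]
      simp only [mul_add, add_mul]
      abel
    rw [e]
    exact (FinRank.mul_right (FinRank.mul_right hp _) _).add (FinRank.mul_left hp _)
  have hRffr : FinRank Rf := hR f
  have hRgfr : FinRank Rg := hR g
  have eF : π₂ * f * π₂ = F₁ + Rf := by rw [hRf]; abel
  have eG : π₂ * g * π₂ = G₁ + Rg := by rw [hRg]; abel
  have hFG : FinRank (F₁ * G₁ - G₁ * F₁) := finRank_comm_form hπ1 hf hg hfg
  rw [eF, eG]
  have e : (F₁ + Rf) * (G₁ + Rg) - (G₁ + Rg) * (F₁ + Rf) =
      (F₁ * G₁ - G₁ * F₁) + (F₁ * Rg - Rg * F₁) + (Rf * G₁ - G₁ * Rf) + (Rf * Rg - Rg * Rf) := by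
    simp only [mul_add, add_mul]; abel
  rw [e, trF_add ((hFG.add ((hRgfr.mul_left _).sub (hRgfr.mul_right _))).add
      ((hRffr.mul_right _).sub (hRffr.mul_left _))) ((hRffr.mul_right _).sub (hRffr.mul_left _)),
    trF_add (hFG.add ((hRgfr.mul_left _).sub (hRgfr.mul_right _)))
      ((hRffr.mul_right _).sub (hRffr.mul_left _)),
    trF_add hFG ((hRgfr.mul_left _).sub (hRgfr.mul_right _)),
    trF_sub (hRgfr.mul_left _) (hRgfr.mul_right _), trF_sub (hRffr.mul_right _) (hRffr.mul_left _),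
    trF_sub (hRffr.mul_right _) (hRffr.mul_left _), trF_comm hRgfr F₁, trF_comm hRffr G₁,
    trF_comm hRffr Rg]
  ring

/-- The pairing only depends on the commensurability class of the lattice: nested case. -/
theorem psi_eq_of_le_of_fd {π₁ π₂ : Module.End k V} (hπ1 : π₁ * π₁ = π₁) (hπ2 : π₂ * π₂ = π₂)
    (hle : LinearMap.range π₁ ≤ LinearMap.range π₂) (Z : Submodule k V) [FiniteDimensional k Z]
    (hfd : LinearMap.range π₂ ≤ LinearMap.range π₁ ⊔ Z)
    (hf : Off π₁ f) (hg : Off π₁ g) (hfg : Commute f g) :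
    Off π₂ f ∧ Off π₂ g ∧ psi π₂ f g = psi π₁ f g := by
  set A₁ := LinearMap.range π₁ with hA₁
  set A₂ := LinearMap.range π₂ with hA₂
  -- complement of `A₁` in `A₂`
  obtain ⟨Z', hZ'⟩ := Submodule.exists_isCompl (A₁.comap A₂.subtype)
  set Z₁ : Submodule k V := Z'.map A₂.subtype with hZ₁
  have hZ₁le : Z₁ ≤ A₂ := by
    rintro _ ⟨z, _, rfl⟩; exact z.2
  have hdisj1 : Disjoint A₁ Z₁ := by
    rw [Submodule.disjoint_def]
    rintro x hx ⟨z, hz, rfl⟩
    have : z ∈ A₁.comap A₂.subtype ⊓ Z' := ⟨hx, hz⟩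
    rw [hZ'.inf_eq_bot] at this
    rw [(Submodule.mem_bot k).1 this, map_zero]
  have hsup1 : A₁ ⊔ Z₁ = A₂ := by
    apply le_antisymm (sup_le hle hZ₁le)
    intro x hx
    have : (⟨x, hx⟩ : A₂) ∈ A₁.comap A₂.subtype ⊔ Z' := by rw [hZ'.sup_eq_top]; trivial
    obtain ⟨a, ha, z, hz, haz⟩ := Submodule.mem_sup.1 this
    have e : x = (a : V) + (z : V) := by
      have := congrArg Subtype.val haz
      simpa using this.symm
    rw [e]
    exact Submodule.add_mem_sup ha ⟨z, hz, rfl⟩
  haveI hZ₁fd : FiniteDimensional k Z₁ := by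
    -- `Z₁` injects into `(A₁ ⊔ Z) / A₁`, a quotient of `Z`
    let q : V →ₗ[k] V ⧸ A₁ := A₁.mkQ
    have hmem : ∀ x : Z₁, q (x : V) ∈ Z.map q := by
      rintro ⟨x, hx⟩
      obtain ⟨a, ha, z, hz, haz⟩ := Submodule.mem_sup.1 (hfd (hZ₁le hx))
      refine ⟨z, hz, ?_⟩
      show q z = q x
      rw [← haz, map_add]
      have : q a = 0 := by
        rw [Submodule.mkQ_apply, Submodule.Quotient.mk_eq_zero]; exact ha
      rw [this, zero_add]
    let φ : Z₁ →ₗ[k] Z.map q := LinearMap.codRestrict (Z.map q) (q.domRestrict Z₁) hmem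
    have hinj : Function.Injective φ := by
      intro x y hxy
      have h1 : q (x : V) = q (y : V) := congrArg Subtype.val hxy
      have h2 : (x : V) - (y : V) ∈ A₁ := by
        rw [← Submodule.Quotient.mk_eq_zero, Submodule.Quotient.mk_sub]
        exact sub_eq_zero.2 h1
      have h3 : (x : V) - (y : V) ∈ A₁ ⊓ Z₁ := ⟨h2, Submodule.sub_mem _ x.2 y.2⟩
      rw [hdisj1.eq_bot] at h3
      exact Subtype.ext (sub_eq_zero.1 ((Submodule.mem_bot k).1 h3))
    exact FiniteDimensional.of_injective φ hinj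
  obtain ⟨C, hC⟩ := Submodule.exists_isCompl A₂
  have hc1 : IsCompl A₁ (Z₁ ⊔ C) := by
    constructor
    · rw [Submodule.disjoint_def]
      intro x hx hx'
      obtain ⟨z, hz, c, hc, rfl⟩ := Submodule.mem_sup.1 hx'
      have hc0 : c = 0 := by
        have : c ∈ A₂ ⊓ C := by
          refine ⟨?_, hc⟩
          have : c = (z + c) - z := by abel
          rw [this]
          exact Submodule.sub_mem _ (hle hx) (hZ₁le hz)
        rw [hC.inf_eq_bot] at this
        exact (Submodule.mem_bot k).1 this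
      subst hc0
      rw [add_zero] at hx ⊢
      exact (Submodule.disjoint_def.1 hdisj1) z hx hz
    · rw [codisjoint_iff, ← sup_assoc, hsup1]
      exact hC.sup_eq_top
  set ρ₁ : Module.End k V := A₁.projection (Z₁ ⊔ C) hc1 with hρ₁
  set ρ₂ : Module.End k V := A₂.projection C hC with hρ₂
  have hρ₁i : ρ₁ * ρ₁ = ρ₁ := Submodule.isIdempotentElem_projection hc1
  have hρ₂i : ρ₂ * ρ₂ = ρ₂ := Submodule.isIdempotentElem_projection hC
  have hrρ₁ : LinearMap.range ρ₁ = A₁ := Submodule.range_projection hc1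
  have hrρ₂ : LinearMap.range ρ₂ = A₂ := Submodule.range_projection hC
  -- the difference has range in `Z₁`
  have hdiff : LinearMap.range (ρ₂ - ρ₁) ≤ Z₁ := by
    rintro _ ⟨x, rfl⟩
    have hx1 : x - ρ₁ x ∈ Z₁ ⊔ C := Submodule.sub_projection_mem hc1 x
    obtain ⟨z, hz, c, hc, hzc⟩ := Submodule.mem_sup.1 hx1
    have hx : x = ρ₁ x + z + c := by rw [add_assoc, hzc]; abel
    have h1 : ρ₁ x ∈ A₂ := hle (hrρ₁ ▸ LinearMap.mem_range_self ρ₁ x)
    have h2 : ρ₂ x = ρ₁ x + z := by
      conv_lhs => rw [hx]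
      rw [map_add, map_add, Submodule.projection_apply_of_mem_left hC h1,
        Submodule.projection_apply_of_mem_left hC (hZ₁le hz),
        (Submodule.projection_apply_eq_zero_iff hC).2 hc, add_zero]
    rw [LinearMap.sub_apply, h2, add_sub_cancel_left]
    exact hz
  have hpfr : FinRank (ρ₂ - ρ₁) := FinRank.of_range_le (Z := Z₁) hdiff
  -- switch to the compatible projections
  have a12 : π₁ * ρ₁ = ρ₁ := mul_eq_of_range_eq hπ1 (by rw [hrρ₁])
  have a21 : ρ₁ * π₁ = π₁ := mul_eq_of_range_eq hρ₁i (by rw [hrρ₁])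
  have b12 : ρ₂ * π₂ = π₂ := mul_eq_of_range_eq hρ₂i (by rw [hrρ₂])
  have b21 : π₂ * ρ₂ = ρ₂ := mul_eq_of_range_eq hπ2 (by rw [hrρ₂])
  have hfρ₁ : Off ρ₁ f := hf.of_same_range a12 a21
  have hgρ₁ : Off ρ₁ g := hg.of_same_range a12 a21
  obtain ⟨hfρ₂, hgρ₂, hψ⟩ := psi_eq_of_sub_finRank hρ₁i hρ₂i hpfr hfρ₁ hgρ₁ hfg
  refine ⟨hfρ₂.of_same_range b12 b21, hgρ₂.of_same_range b12 b21, ?_⟩
  rw [psi_eq_of_same_range hρ₂i hπ2 b12 b21 hfρ₂ hgρ₂ hfg, hψ,
    ← psi_eq_of_same_range hπ1 hρ₁i a12 a21 hf hg hfg]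

end commensurable

end Groth.Agent.Lib.helper10.Tate
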