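import Mathlib
import Groth.Agent.Lib.Helper10.Tate12
import Groth.Agent.Lib.Helper10.Tate2
import Groth.Agent.Lib.Helper10.FunFld38

/-!
# Residues and the trace: the semilocal Tate pairing of a finite separable extension (helper10)
-/

set_option autoImplicit false
set_option linter.style.haveILetI false
set_option linter.unusedSectionVars false
set_option linter.unusedVariables false

universe u v

open FunFld

namespace Groth.Agent.Lib.helper10.Tate

open FF RD

variable {k : Type u} {K K' : Type v} [Field k] [Field K] [Field K'] [Algebra k K] [Algebra K K']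
  [Algebra k K'] [IsScalarTower k K K'] [FiniteDimensional K K']


theorem exists_idem_range'' {V : Type*} [AddCommGroup V] [Module k V] (A : Submodule k V) :
    ∃ ρ : Module.End k V, ρ * ρ = ρ ∧ LinearMap.range ρ = A := by
  obtain ⟨C, hC⟩ := Submodule.exists_isCompl A
  exact ⟨A.projection C hC, Submodule.isIdempotentElem_projection hC, Submodule.range_projection hC⟩

/-- Elements integral at all places over `P` have trace integral at `P`. -/
theorem trace_val_le_one (hK : IsFunctionField k K) (hK' : IsFunctionField k K')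
    (P : Place k K) (Qs : Finset (Place k K')) (hQs : ∀ Q, Q ∈ Qs ↔ IsOver Q P)
    {w : K'} (hw : ∀ Q ∈ Qs, Q.1 w ≤ 1) : P.1 (Algebra.trace K K' w) ≤ 1 := by
  letI : Algebra P.O K' := ((algebraMap K K').comp (algebraMap P.O K)).toAlgebra
  haveI : IsScalarTower P.O K K' := IsScalarTower.of_algebraMap_eq fun _ => rfl
  have hint : IsIntegral P.O w := by
    by_contra hni
    have hwC : w ∉ (integralClosure P.O K').toSubring := hni
    obtain ⟨V, hCV, hwV⟩ :=
      Subring.exists_le_valuationSubring_of_isIntegrallyClosedIn hwC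
    have himg : ∀ a : K, P.1 a ≤ 1 → algebraMap K K' a ∈ V := by
      intro a ha
      apply hCV
      exact (integralClosure P.O K').algebraMap_mem (⟨a, ha⟩ : P.O)
    have hkV : ∀ c : k, algebraMap k K' c ∈ V := by
      intro c
      rw [IsScalarTower.algebraMap_apply k K K']
      exact himg _ (P.2.1 c)
    have hV : V ≠ ⊤ := by
      intro h
      apply hwV
      rw [h]; trivial
    set Q' : Place k K' := placeOf V hK' hkV hV with hQ'
    have hQ'O : Q'.O = V := placeOf_O V hK' hkV hV
    obtain ⟨P', e', he'⟩ := exists_place_under hK Q'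
    have hpos := isOverWith_pos he'
    have hle : P.O ≤ P'.O := by
      intro a ha
      have h1 : algebraMap K K' a ∈ Q'.O := by rw [hQ'O]; exact himg a ha
      rw [Place.mem_O_iff, he' a] at h1
      rw [Place.mem_O_iff]
      exact (pow_le_one_iff (by omega)).1 h1
    have hPP' : P = P' := Place.eq_of_O_le P P' hle
    have hmem : Q' ∈ Qs := (hQs Q').2 ⟨e', hPP' ▸ he'⟩
    have : w ∈ Q'.O := hw Q' hmem
    rw [hQ'O] at this
    exact hwV this
  have htr : IsIntegral P.O (Algebra.trace K K' w) := Algebra.isIntegral_trace hint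
  obtain ⟨a, ha⟩ := IsIntegrallyClosed.isIntegral_iff.1 htr
  rw [← ha]
  exact a.2

/-- A basis of the extension consisting of elements integral at all places over `P`. -/
theorem exists_basis_integral (P : Place k K) (Qs : Finset (Place k K'))
    (hQs : ∀ Q, Q ∈ Qs ↔ IsOver Q P) :
    ∃ b : Module.Basis (Fin (Module.finrank K K')) K K', ∀ i, ∀ Q ∈ Qs, Q.1 (b i) ≤ 1 := by
  classical
  set b₀ := Module.finBasis K K' with hb₀
  obtain ⟨t, ht⟩ := Place.exists_uniformizer P
  have ht0 : t ≠ 0 := by
    intro h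
    rw [h, Valuation.map_zero] at ht
    exact WithZero.exp_ne_zero ht.symm
  set M : ℕ := ∑ Q ∈ Qs, ∑ i, (Q.ord (b₀ i)).natAbs with hM
  have hMb : ∀ Q ∈ Qs, ∀ i, Q.1 (b₀ i) ≤ WithZero.exp (M : ℤ) := by
    intro Q hQ i
    apply le_trans (Place.val_le_exp_natAbs Q (b₀ i))
    rw [WithZero.exp_le_exp]
    have h1 := Finset.single_le_sum (f := fun i' => (Q.ord (b₀ i')).natAbs)
      (fun i _ => Nat.zero_le _) (Finset.mem_univ i)
    have h2 := Finset.single_le_sum
      (f := fun Q' : Place k K' => ∑ i', (Q'.ord (b₀ i')).natAbs) (fun i _ => Nat.zero_le _) hQ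
    have : (Q.ord (b₀ i)).natAbs ≤ M := le_trans h1 h2
    exact_mod_cast this
  refine ⟨b₀.unitsSMul fun _ => Units.mk0 (t ^ M) (pow_ne_zero _ ht0), ?_⟩
  intro i Q hQ
  obtain ⟨e, he⟩ := (hQs Q).1 hQ
  have hpos := isOverWith_pos he
  rw [Module.Basis.unitsSMul_apply, Units.smul_def, Units.val_mk0, Algebra.smul_def, map_mul,
    he (t ^ M), map_pow, ht]
  have h1 : (WithZero.exp (-1 : ℤ) ^ M) ^ e ≤ WithZero.exp (-(M : ℤ)) := by
    rw [← pow_mul, ← WithZero.exp_nsmul, WithZero.exp_le_exp]
    simp only [nsmul_eq_mul, mul_neg, mul_one, neg_le_neg_iff]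
    have : M ≤ M * e := Nat.le_mul_of_pos_right M (by omega)
    exact_mod_cast this
  calc (WithZero.exp (-1 : ℤ) ^ M) ^ e * Q.1 (b₀ i)
      ≤ WithZero.exp (-(M : ℤ)) * WithZero.exp (M : ℤ) := mul_le_mul' h1 (hMb Q hQ i)
    _ = 1 := by rw [← WithZero.exp_add, neg_add_cancel, WithZero.exp_zero]


/-! ### Matrix operators on `Kⁿ` -/

section matOp

variable {n : ℕ}

/-- Multiplication by a matrix over `K`, as a `k`-linear operator on `Kⁿ`. -/
noncomputable def matOp (M : Matrix (Fin n) (Fin n) K) : Module.End k (Fin n → K) :=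
  LinearMap.pi fun i => ∑ j, (mK (M i j) : Module.End k K) ∘ₗ LinearMap.proj j

theorem matOp_apply (M : Matrix (Fin n) (Fin n) K) (w : Fin n → K) (i : Fin n) :
    (matOp M : Module.End k (Fin n → K)) w i = ∑ j, M i j * w j := by
  unfold matOp
  simp only [LinearMap.pi_apply, LinearMap.coe_sum, Finset.sum_apply, LinearMap.comp_apply,
    LinearMap.proj_apply, mK_apply]

theorem blk_matOp (M : Matrix (Fin n) (Fin n) K) (i j : Fin n) :
    blk (matOp M : Module.End k (Fin n → K)) i j = mK (M i j) := by
  ext v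
  rw [blk_apply, matOp_apply, mK_apply, Finset.sum_eq_single j]
  · rw [Pi.single_eq_same]
  · intro l _ hl
    rw [Pi.single_eq_of_ne hl, mul_zero]
  · intro h; exact absurd (Finset.mem_univ j) h

theorem off_matOp (hK : IsFunctionField k K) (P : Place k K) (m : ℤ) {ρ : Module.End k K}
    (hρ : ρ * ρ = ρ) (hr : LinearMap.range ρ = Place.ball P m) (M : Matrix (Fin n) (Fin n) K) :
    Off (Dg fun _ : Fin n => ρ) (matOp M : Module.End k (Fin n → K)) := by
  unfold Off
  have e : (1 - Dg fun _ : Fin n => ρ) * matOp M * (Dg fun _ : Fin n => ρ) =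
      ∑ i, ∑ j, (LinearMap.single k (fun _ : Fin n => K) i ∘ₗ
        ((1 - ρ) * mK (M i j) * ρ : Module.End k K) ∘ₗ LinearMap.proj j :
          Module.End k (Fin n → K)) := by
    refine LinearMap.ext fun w => funext fun l => ?_
    rw [one_sub_Dg]
    simp only [Module.End.mul_apply, Dg_apply, matOp_apply, LinearMap.coe_sum, Finset.sum_apply,
      LinearMap.comp_apply, LinearMap.proj_apply, LinearMap.coe_single, LinearMap.sub_apply,
      Module.End.one_apply, mK_apply]
    have hR : ∀ c : Fin n → Fin n → K,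
        ∑ i, ∑ j, (Pi.single i (c i j) : Fin n → K) l = ∑ j, c l j := by
      intro c
      rw [Finset.sum_eq_single l]
      · refine Finset.sum_congr rfl fun j _ => ?_
        rw [Pi.single_eq_same]
      · intro i _ hi
        refine Finset.sum_eq_zero fun j _ => ?_
        rw [Pi.single_eq_of_ne (Ne.symm hi)]
      · intro h; exact absurd (Finset.mem_univ l) h
    rw [hR fun i j => M i j * ρ (w j) - ρ (M i j * ρ (w j)), map_sum, ← Finset.sum_sub_distrib]
  rw [e]
  refine finRank_sum _ _ fun i _ => finRank_sum _ _ fun j _ => ?_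
  exact FinRank.comp_left (FinRank.comp_right (off_mK hK P m hρ hr (M i j)) _) _

theorem commute_matOp_Dg (M : Matrix (Fin n) (Fin n) K) (x : K) :
    Commute (matOp M : Module.End k (Fin n → K)) (Dg fun _ : Fin n => (mK x : Module.End k K)) := by
  unfold Commute SemiconjBy
  refine LinearMap.ext fun w => funext fun i => ?_
  simp only [Module.End.mul_apply, Dg_apply, matOp_apply, mK_apply]
  rw [Finset.mul_sum]
  refine Finset.sum_congr rfl fun j _ => ?_
  ring

end matOp


/-! ### The lattice of a basis and the trace -/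

section lattice

variable {n : ℕ}

theorem mK_sum {ι : Type*} (s : Finset ι) (f : ι → K) :
    (mK (∑ i ∈ s, f i) : Module.End k K) = ∑ i ∈ s, mK (f i) := by
  unfold mK
  rw [map_sum]

/-- The coordinate isomorphism of a basis, over the constant field. -/
noncomputable def coordL (b : Module.Basis (Fin n) K K') : K' ≃ₗ[k] (Fin n → K) :=
  b.equivFun.restrictScalars k

theorem coordL_apply (b : Module.Basis (Fin n) K K') (z : K') (i : Fin n) :
    (coordL (k := k) b) z i = b.repr z i := rfl

theorem coordL_symm_apply (b : Module.Basis (Fin n) K K') (w : Fin n → K) :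
    (coordL (k := k) b).symm w = ∑ i, w i • b i := by
  show b.equivFun.symm w = _
  rw [Module.Basis.equivFun_symm_apply]

/-- The projection of `K'` onto the lattice spanned by a basis. -/
noncomputable def piLat (b : Module.Basis (Fin n) K K') (ρ : Module.End k K) : Module.End k K' :=
  (coordL (k := k) b).symm.toLinearMap ∘ₗ (Dg fun _ : Fin n => ρ) ∘ₗ
    (coordL (k := k) b).toLinearMap

theorem coordL_piLat (b : Module.Basis (Fin n) K K') (ρ : Module.End k K) (z : K') :
    (coordL (k := k) b) (piLat b ρ z) = Dg (fun _ : Fin n => ρ) (coordL (k := k) b z) := by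
  unfold piLat
  simp only [LinearMap.comp_apply, LinearEquiv.coe_coe, LinearEquiv.apply_symm_apply]

theorem piLat_idem (b : Module.Basis (Fin n) K K') {ρ : Module.End k K} (hρ : ρ * ρ = ρ) :
    piLat b ρ * piLat b ρ = piLat b ρ := by
  ext z
  apply (coordL (k := k) b).injective
  rw [Module.End.mul_apply, coordL_piLat, coordL_piLat, ← Module.End.mul_apply,
    Dg_idem fun _ => hρ]

theorem mem_range_piLat (b : Module.Basis (Fin n) K K') {ρ : Module.End k K} (hρ : ρ * ρ = ρ)
    (z : K') : z ∈ LinearMap.range (piLat b ρ) ↔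
      ∀ i, b.repr z i ∈ LinearMap.range ρ := by
  constructor
  · rintro ⟨u, rfl⟩ i
    rw [← coordL_apply (k := k), coordL_piLat]
    exact ⟨_, rfl⟩
  · intro h
    refine ⟨z, ?_⟩
    apply (coordL (k := k) b).injective
    rw [coordL_piLat]
    funext i
    rw [Dg_apply]
    exact idem_apply_of_mem hρ (h i)

theorem matOp_coordL (b : Module.Basis (Fin n) K K') (y z : K') :
    (matOp (Algebra.leftMulMatrix b y) : Module.End k (Fin n → K)) (coordL (k := k) b z) =
      coordL (k := k) b (y * z) := by
  funext i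
  rw [matOp_apply, coordL_apply, ← Algebra.leftMulMatrix_mulVec_repr b y z]
  rfl

theorem Dg_coordL (b : Module.Basis (Fin n) K K') (x : K) (z : K') :
    (Dg fun _ : Fin n => (mK x : Module.End k K)) (coordL (k := k) b z) =
      coordL (k := k) b (algebraMap K K' x * z) := by
  funext i
  rw [Dg_apply, mK_apply, coordL_apply, coordL_apply, ← Algebra.smul_def, map_smul,
    Finsupp.smul_apply, smul_eq_mul]

/-- **Residue and trace, lattice form**: the Tate pairing of `K'` with respect to the `O_P`-lattice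
spanned by a `K`-basis computes the pairing of `K` on traces. -/
theorem psi_piLat (hK : IsFunctionField k K) (P : Place k K) (m : ℤ) {ρ : Module.End k K}
    (hρ : ρ * ρ = ρ) (hr : LinearMap.range ρ = Place.ball P m)
    (b : Module.Basis (Fin n) K K') (y : K') (x : K) :
    Off (piLat b ρ) (mK y) ∧ Off (piLat b ρ) (mK (algebraMap K K' x)) ∧
      psi (piLat b ρ) (mK y) (mK (algebraMap K K' x)) =
        psi ρ (mK (Algebra.trace K K' y)) (mK x) := by
  classical
  set ι : K' ≃ₗ[k] (Fin n → K) := coordL (k := k) b with hι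
  set M := Algebra.leftMulMatrix b y with hM
  set PiR : Module.End k (Fin n → K) := Dg fun _ : Fin n => ρ with hPiR
  have hPiRi : PiR * PiR = PiR := Dg_idem fun _ => hρ
  have hoffM : Off PiR (matOp M) := off_matOp hK P m hρ hr M
  have hoffX : Off PiR (Dg fun _ : Fin n => (mK x : Module.End k K)) :=
    off_Dg fun _ => off_mK hK P m hρ hr x
  -- conjugation of the off-diagonal blocks
  have hconj : ∀ (a : Module.End k K') (A : Module.End k (Fin n → K)),
      (∀ z, A (ι z) = ι (a z)) → Off PiR A → Off (piLat b ρ) a := by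
    intro a A haA hA
    unfold Off at hA ⊢
    have e : (1 - piLat b ρ) * a * piLat b ρ =
        ι.symm.toLinearMap ∘ₗ ((1 - PiR) * A * PiR) ∘ₗ ι.toLinearMap := by
      ext z
      apply ι.injective
      simp only [Module.End.mul_apply, LinearMap.sub_apply, Module.End.one_apply,
        LinearMap.comp_apply, LinearEquiv.coe_coe, LinearEquiv.apply_symm_apply, map_sub]
      rw [coordL_piLat, ← haA, coordL_piLat]
    rw [e]
    exact FinRank.comp_left (FinRank.comp_right hA _) _
  have hy := hconj (mK y) (matOp M) (fun z => by rw [mK_apply]; exact matOp_coordL b y z) hoffM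
  have hx := hconj (mK (algebraMap K K' x)) (Dg fun _ : Fin n => (mK x : Module.End k K))
    (fun z => by rw [mK_apply]; exact Dg_coordL b x z) hoffX
  refine ⟨hy, hx, ?_⟩
  have h := psi_transfer ι.toLinearMap ι.injective (ρ := piLat b ρ) (π' := PiR)
    (f := mK y) (g := mK (algebraMap K K' x)) (f' := matOp M)
    (g' := Dg fun _ : Fin n => (mK x : Module.End k K)) (piLat_idem b hρ) hPiRi
    (by
      intro z
      rw [mem_range_piLat b hρ, hPiR, LinearEquiv.coe_coe, mem_range_Dg fun _ => hρ]
      rfl)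
    (by
      intro w
      refine ⟨ι.symm w, ?_⟩
      rw [LinearEquiv.coe_coe, LinearEquiv.apply_symm_apply, sub_self]
      exact Submodule.zero_mem _)
    (fun z => by rw [LinearEquiv.coe_coe, mK_apply]; exact matOp_coordL b y z)
    (fun z => by rw [LinearEquiv.coe_coe, mK_apply]; exact Dg_coordL b x z)
    hoffM hoffX (commute_matOp_Dg M x)
  rw [h, hPiR, psi_pi_diag hoffM fun _ => off_mK hK P m hρ hr x]
  simp only [blk_matOp]
  rw [← psi_sum_left _ _ (fun i _ => off_mK hK P m hρ hr (M i i)) (off_mK hK P m hρ hr x),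
    ← mK_sum, Algebra.trace_eq_matrix_trace b y]
  rfl

end lattice


/-! ### The semilocal lattice -/

section semilocal

/-- The semilocal lattice of a finite set of places. -/
def semiBall (Qs : Finset (Place k K')) : Submodule k K' := ⨅ Q ∈ Qs, Place.ball Q 0

theorem mem_semiBall (Qs : Finset (Place k K')) (z : K') :
    z ∈ semiBall Qs ↔ ∀ Q ∈ Qs, Q.1 z ≤ 1 := by
  unfold semiBall
  simp only [Submodule.mem_iInf, Place.mem_ball, WithZero.exp_zero]

/-- **Semilocal decomposition**: the Tate pairing with respect to the semilocal lattice is the sum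
of the local pairings. -/
theorem psi_semiBall (hK' : IsFunctionField k K') (Qs : Finset (Place k K')) (hne : Qs.Nonempty)
    {πB : Module.End k K'} (hπB : πB * πB = πB) (hrB : LinearMap.range πB = semiBall Qs)
    (ρ' : Place k K' → Module.End k K') (hρ' : ∀ Q, ρ' Q * ρ' Q = ρ' Q)
    (hr' : ∀ Q, LinearMap.range (ρ' Q) = Place.ball Q 0) (y x : K') :
    psi πB (mK y) (mK x) = ∑ Q ∈ Qs, psi (ρ' Q) (mK y) (mK x) := by
  classical
  set ι : K' →ₗ[k] (Qs → K') := LinearMap.pi fun _ => LinearMap.id with hι
  have hιapp : ∀ z (Q : Qs), ι z Q = z := fun z Q => rfl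
  have hinj : Function.Injective ι := by
    intro a b hab
    obtain ⟨Q, hQ⟩ := hne
    have := congrFun hab ⟨Q, hQ⟩
    rwa [hιapp, hιapp] at this
  set PiR : Module.End k (Qs → K') := Dg fun Q : Qs => ρ' Q with hPiR
  have hoffy : Off PiR (Dg fun _ : Qs => (mK y : Module.End k K')) :=
    off_Dg fun Q => off_mK hK' Q 0 (hρ' Q) (hr' Q) y
  have hoffx : Off PiR (Dg fun _ : Qs => (mK x : Module.End k K')) :=
    off_Dg fun Q => off_mK hK' Q 0 (hρ' Q) (hr' Q) x
  have h := psi_transfer ι hinj (ρ := πB) (π' := PiR) (f := mK y) (g := mK x)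
    (f' := Dg fun _ : Qs => (mK y : Module.End k K'))
    (g' := Dg fun _ : Qs => (mK x : Module.End k K')) hπB (Dg_idem fun Q => hρ' Q)
    (by
      intro z
      rw [hrB, mem_semiBall, hPiR, mem_range_Dg fun Q : Qs => hρ' Q]
      constructor
      · intro hz Q
        rw [hιapp, hr', Place.mem_ball, WithZero.exp_zero]
        exact hz Q Q.2
      · intro hz Q hQ
        have := hz ⟨Q, hQ⟩
        rwa [hιapp, hr', Place.mem_ball, WithZero.exp_zero] at this)
    (by
      intro w
      obtain ⟨z, hz⟩ := weak_approx Qs (fun Q => if h : Q ∈ Qs then w ⟨Q, h⟩ else 0) 0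
      refine ⟨z, ?_⟩
      rw [hPiR, mem_range_Dg fun Q : Qs => hρ' Q]
      intro Q
      rw [Pi.sub_apply, hιapp, hr', Place.mem_ball, WithZero.exp_zero]
      have := hz Q Q.2
      rw [dif_pos Q.2, Nat.cast_zero, neg_zero, WithZero.exp_zero] at this
      rw [← Valuation.map_neg, neg_sub]
      exact this)
    (fun z => by funext Q; rfl) (fun z => by funext Q; rfl) hoffy hoffx
    (by
      unfold Commute SemiconjBy
      rw [Dg_mul, Dg_mul]
      congr 1
      funext Q
      exact (mK_commute y x).eq)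
  rw [h, hPiR, psi_pi_diag hoffy fun Q => off_mK hK' Q 0 (hρ' Q) (hr' Q) x]
  simp only [blk_Dg]
  exact Finset.sum_coe_sort Qs fun Q => psi (ρ' Q) (mK y) (mK x)

end semilocal


/-! ### The trace formula for the Tate pairing -/

section traceFormula

variable [Algebra.IsSeparable K K']

/-- **Residues and the trace** (abstract form): the local Tate pairing of `K` at `P`, evaluated at
the trace, is the sum of the local Tate pairings of `K'` at the places over `P`. -/
theorem sum_psi_eq_psi_trace (hK : IsFunctionField k K) (hK' : IsFunctionField k K')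
    (P : Place k K) (Qs : Finset (Place k K')) (hQs : ∀ Q, Q ∈ Qs ↔ IsOver Q P)
    {ρ : Module.End k K} (hρ : ρ * ρ = ρ) (hr : LinearMap.range ρ = Place.ball P 0)
    (ρ' : Place k K' → Module.End k K') (hρ' : ∀ Q, ρ' Q * ρ' Q = ρ' Q)
    (hr' : ∀ Q, LinearMap.range (ρ' Q) = Place.ball Q 0) (y : K') (x : K) :
    ∑ Q ∈ Qs, psi (ρ' Q) (mK y) (mK (algebraMap K K' x)) =
      psi ρ (mK (Algebra.trace K K' y)) (mK x) := by
  classical
  have hne : Qs.Nonempty := by
    by_contra hemp
    rw [Finset.not_nonempty_iff_eq_empty] at hemp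
    have h1 := sum_ramIdx_mul_deg hK P Qs hQs
    rw [hemp, Finset.sum_empty] at h1
    have h2 : 0 < Module.finrank K K' * P.deg :=
      Nat.mul_pos Module.finrank_pos (Place.deg_pos hK P)
    omega
  obtain ⟨b, hb⟩ := exists_basis_integral P Qs hQs
  obtain ⟨hy, hx, hψ⟩ := psi_piLat hK P 0 hρ hr b y x
  obtain ⟨πB, hπB, hrB⟩ := exists_idem_range'' (k := k) (semiBall Qs)
  have hmemρ : ∀ c : K, c ∈ LinearMap.range ρ ↔ P.1 c ≤ 1 := by
    intro c
    rw [hr, Place.mem_ball, WithZero.exp_zero]
  have hvalQ : ∀ Q ∈ Qs, ∀ c : K, P.1 c ≤ 1 → Q.1 (algebraMap K K' c) ≤ 1 := by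
    intro Q hQ c hc
    obtain ⟨e, he⟩ := (hQs Q).1 hQ
    rw [he c]
    exact pow_le_one₀ zero_le hc
  -- the lattice of the integral basis lies in the semilocal lattice
  have hle : LinearMap.range (piLat b ρ) ≤ LinearMap.range πB := by
    intro z hz
    rw [hrB, mem_semiBall]
    rw [mem_range_piLat b hρ] at hz
    intro Q hQ
    rw [← b.sum_repr z]
    apply Valuation.map_sum_le
    intro i _
    rw [Algebra.smul_def, map_mul]
    exact mul_le_one' (hvalQ Q hQ _ ((hmemρ _).1 (hz i))) (hb i Q hQ)
  -- the dual basis bounds the semilocal lattice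
  set b' := (Algebra.traceForm K K').dualBasis (traceForm_nondegenerate K K') b with hb'
  set N : ℕ := ∑ i, ∑ j, (P.ord (b.repr (b' i) j)).natAbs with hN
  have hNb : ∀ i j, P.1 (b.repr (b' i) j) ≤ WithZero.exp (N : ℤ) := by
    intro i j
    apply le_trans (Place.val_le_exp_natAbs P _)
    rw [WithZero.exp_le_exp]
    have h1 := Finset.single_le_sum (f := fun j' => (P.ord (b.repr (b' i) j')).natAbs)
      (fun i _ => Nat.zero_le _) (Finset.mem_univ j)
    have h2 := Finset.single_le_sum
      (f := fun i' => ∑ j', (P.ord (b.repr (b' i') j')).natAbs) (fun i _ => Nat.zero_le _)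
      (Finset.mem_univ i)
    have : (P.ord (b.repr (b' i) j)).natAbs ≤ N := le_trans h1 h2
    exact_mod_cast this
  have hcoord : ∀ z ∈ semiBall Qs, ∀ j, P.1 (b.repr z j) ≤ WithZero.exp (N : ℤ) := by
    intro z hz j
    rw [mem_semiBall] at hz
    have hc : ∀ i, P.1 (b'.repr z i) ≤ 1 := by
      intro i
      rw [hb', LinearMap.BilinForm.dualBasis_repr_apply, Algebra.traceForm_apply]
      apply trace_val_le_one hK hK' P Qs hQs
      intro Q hQ
      rw [map_mul]
      exact mul_le_one' (hz Q hQ) (hb i Q hQ)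
    have e : b.repr z j = ∑ i, b'.repr z i * b.repr (b' i) j := by
      conv_lhs => rw [← b'.sum_repr z]
      rw [map_sum, Finsupp.coe_finset_sum, Finset.sum_apply]
      refine Finset.sum_congr rfl fun i _ => ?_
      rw [map_smul, Finsupp.smul_apply, smul_eq_mul]
    rw [e]
    apply Valuation.map_sum_le
    intro i _
    rw [map_mul]
    calc P.1 (b'.repr z i) * P.1 (b.repr (b' i) j) ≤ 1 * WithZero.exp (N : ℤ) :=
          mul_le_mul' (hc i) (hNb i j)
      _ = WithZero.exp (N : ℤ) := one_mul _
  obtain ⟨Z₀, hZ₀fd, hZ₀⟩ := exists_fd_of_relFin (relFin_ball_add hK P 0 N)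
  haveI := hZ₀fd
  set Ψ : (Fin (Module.finrank K K') → Z₀) →ₗ[k] K' :=
    (coordL (k := k) b).symm.toLinearMap ∘ₗ
      (LinearMap.pi fun j => Z₀.subtype ∘ₗ LinearMap.proj j) with hΨ
  have hfd : LinearMap.range πB ≤ LinearMap.range (piLat b ρ) ⊔ LinearMap.range Ψ := by
    intro z hz
    rw [hrB] at hz
    have h1 : ∀ j, b.repr z j ∈ Place.ball P 0 ⊔ Z₀ := by
      intro j
      apply hZ₀
      rw [Place.mem_ball, zero_add]
      exact hcoord z hz j
    choose a ha zz hzz hsum using fun j => Submodule.mem_sup.1 (h1 j)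
    have e : z = (coordL (k := k) b).symm a + Ψ fun j => ⟨zz j, hzz j⟩ := by
      apply (coordL (k := k) b).injective
      rw [map_add, LinearEquiv.apply_symm_apply, hΨ, LinearMap.comp_apply, LinearEquiv.coe_coe,
        LinearEquiv.apply_symm_apply]
      funext j
      rw [coordL_apply, Pi.add_apply, ← hsum j]
      rfl
    rw [e]
    refine Submodule.add_mem_sup ?_ ⟨_, rfl⟩
    rw [mem_range_piLat b hρ]
    intro i
    rw [← coordL_apply (k := k), LinearEquiv.apply_symm_apply, hr]
    exact ha i
  obtain ⟨-, -, hBΛ⟩ := psi_eq_of_le_of_fd (piLat_idem b hρ) hπB hle (LinearMap.range Ψ) hfd hy hx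
    (mK_commute _ _)
  rw [← psi_semiBall hK' Qs hne hπB hrB ρ' hρ' hr' y (algebraMap K K' x), hBΛ, hψ]

end traceFormula

end Groth.Agent.Lib.helper10.Tate
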