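import Groth.Agent.Lib.Helper10.Tate2
import Groth.Prelude.Def_LocRes
import Groth.Agent.S12620
import Groth.Agent.S12621
import Groth.Agent.S12622

/-!
# Tate residues: factorisation through Kähler differentials and comparison with the residue
read through a Laurent expansion (degree-one places)
-/

set_option autoImplicit false
set_option linter.unusedSectionVars false
set_option linter.style.haveILetI false

universe u v

open FunFld

namespace Groth.Agent.Lib.helper10.Tate

open FF RD

variable {k : Type u} {K : Type v} [Field k] [Field K] [Algebra k K]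

/-- `Hom_k(K, k)` with `K` acting through the source. -/
def DualK (k : Type u) (K : Type v) [Field k] [Field K] [Algebra k K] : Type (max u v) := K →ₗ[k] k

namespace DualK

instance : AddCommGroup (DualK k K) := inferInstanceAs (AddCommGroup (K →ₗ[k] k))
instance : Module k (DualK k K) := inferInstanceAs (Module k (K →ₗ[k] k))

/-- The underlying linear form. -/
def toLin (l : DualK k K) : K →ₗ[k] k := l
/-- A linear form as an element of `DualK`. -/
def ofLin (l : K →ₗ[k] k) : DualK k K := l

@[simp] theorem toLin_add (l m : DualK k K) : (l + m).toLin = l.toLin + m.toLin := rfl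
@[simp] theorem toLin_smul (c : k) (l : DualK k K) : (c • l).toLin = c • l.toLin := rfl
@[simp] theorem toLin_zero : (0 : DualK k K).toLin = 0 := rfl
@[simp] theorem toLin_ofLin (l : K →ₗ[k] k) : (ofLin l).toLin = l := rfl

theorem ext' {l m : DualK k K} (h : ∀ u, l.toLin u = m.toLin u) : l = m :=
  LinearMap.ext h

instance : SMul K (DualK k K) := ⟨fun x l => ofLin (l.toLin ∘ₗ LinearMap.mulLeft k x)⟩

@[simp] theorem smulK_apply (x : K) (l : DualK k K) (u : K) : (x • l).toLin u = l.toLin (x * u) := rfl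

instance : Module K (DualK k K) where
  one_smul l := ext' fun u => by rw [smulK_apply, one_mul]
  mul_smul x y l := ext' fun u => by
    rw [smulK_apply, smulK_apply, smulK_apply, mul_comm x y, mul_assoc]
  smul_zero x := ext' fun u => by
    rw [smulK_apply, toLin_zero, LinearMap.zero_apply, LinearMap.zero_apply]
  smul_add x l m := ext' fun u => by
    rw [smulK_apply, toLin_add, toLin_add, LinearMap.add_apply, LinearMap.add_apply, smulK_apply,
      smulK_apply]
  add_smul x y l := ext' fun u => by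
    rw [smulK_apply, toLin_add, LinearMap.add_apply, smulK_apply, smulK_apply, add_mul, map_add]
  zero_smul l := ext' fun u => by
    rw [smulK_apply, zero_mul, map_zero, toLin_zero, LinearMap.zero_apply]

instance : IsScalarTower k K (DualK k K) where
  smul_assoc c x l := ext' fun u => by
    rw [smulK_apply, toLin_smul, LinearMap.smul_apply, smulK_apply, Algebra.smul_mul_assoc,
      map_smul]

end DualK

/-- A `k`-bilinear pairing on `K` satisfying the Leibniz rule in the second variable and killing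
constants factors through the Kähler differentials. -/
theorem exists_kaehler_lift (B : K → K → k)
    (hadd_l : ∀ u u' v, B (u + u') v = B u v + B u' v)
    (hsmul_l : ∀ (c : k) u v, B (c • u) v = c * B u v)
    (hadd_r : ∀ u v v', B u (v + v') = B u v + B u v')
    (hsmul_r : ∀ (c : k) u v, B u (c • v) = c * B u v)
    (hleib : ∀ u v w, B u (v * w) = B (u * v) w + B (u * w) v)
    (hone : ∀ u, B u 1 = 0) :
    ∃ Ψ : Ω[K⁄k] →ₗ[k] k, ∀ u v, Ψ (u • KaehlerDifferential.D k K v) = B u v := by
  let lin : K → DualK k K := fun v => DualK.ofLin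
    { toFun := fun u => B u v
      map_add' := fun u u' => hadd_l u u' v
      map_smul' := fun c u => by rw [hsmul_l]; rfl }
  have lin_apply : ∀ v u, (lin v).toLin u = B u v := fun v u => rfl
  let linL : K →ₗ[k] DualK k K :=
    { toFun := lin
      map_add' := fun v v' => DualK.ext' fun u => by
        rw [DualK.toLin_add, LinearMap.add_apply, lin_apply, lin_apply, lin_apply, hadd_r]
      map_smul' := fun c v => DualK.ext' fun u => by
        rw [RingHom.id_apply, DualK.toLin_smul, LinearMap.smul_apply, lin_apply, lin_apply, hsmul_r]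
        rfl }
  have linL_apply : ∀ v, linL v = lin v := fun v => rfl
  let d : Derivation k K (DualK k K) := Derivation.mk' linL (fun v w => DualK.ext' fun u => by
    rw [linL_apply, linL_apply, linL_apply, DualK.toLin_add, LinearMap.add_apply,
      DualK.smulK_apply, DualK.smulK_apply, lin_apply,
      lin_apply, lin_apply, hleib, mul_comm v u, mul_comm w u])
  have d_apply : ∀ v, d v = lin v := fun v => rfl
  let ev : DualK k K →ₗ[k] k :=
    { toFun := fun l => l.toLin 1
      map_add' := fun l m => rfl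
      map_smul' := fun c l => rfl }
  refine ⟨ev ∘ₗ (d.liftKaehlerDifferential).restrictScalars k, ?_⟩
  intro u v
  rw [LinearMap.comp_apply, LinearMap.restrictScalars_apply, map_smul,
    Derivation.liftKaehlerDifferential_comp_D, d_apply]
  show (u • lin v).toLin 1 = _
  rw [DualK.smulK_apply, mul_one, lin_apply]

/-! ### The local pairing at a place -/

/-- The local Tate pairing with respect to a projection `ρ` of `K`. -/
noncomputable def lpsi (ρ : Module.End k K) (u v : K) : k := psi ρ (mK u) (mK v)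

section local_pairing

variable (hK : IsFunctionField k K) (P : Place k K) (n : ℤ) {ρ : Module.End k K}
  (hρ : ρ * ρ = ρ) (hr : LinearMap.range ρ = Place.ball P n)

include hK hρ hr

theorem lpsi_add_left (u u' v : K) : lpsi ρ (u + u') v = lpsi ρ u v + lpsi ρ u' v := by
  unfold lpsi
  rw [mK_add]
  exact psi_add_left (off_mK hK P n hρ hr u) (off_mK hK P n hρ hr u') (off_mK hK P n hρ hr v)

theorem lpsi_add_right (u v v' : K) : lpsi ρ u (v + v') = lpsi ρ u v + lpsi ρ u v' := by
  unfold lpsi
  rw [mK_add]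
  exact psi_add_right (off_mK hK P n hρ hr u) (off_mK hK P n hρ hr v) (off_mK hK P n hρ hr v')

omit hK hρ hr in
theorem lpsi_smul_left (c : k) (u v : K) : lpsi ρ (c • u) v = c * lpsi ρ u v := by
  unfold lpsi
  rw [mK_smul]
  exact psi_smul_left c

omit hK hρ hr in
theorem lpsi_smul_right (c : k) (u v : K) : lpsi ρ u (c • v) = c * lpsi ρ u v := by
  unfold lpsi
  rw [mK_smul]
  exact psi_smul_right c

theorem lpsi_leibniz (u v w : K) : lpsi ρ u (v * w) = lpsi ρ (u * v) w + lpsi ρ (u * w) v := by
  unfold lpsi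
  rw [mK_mul, mK_mul, mK_mul]
  exact psi_leibniz (off_mK hK P n hρ hr u) (off_mK hK P n hρ hr v) (off_mK hK P n hρ hr w)
    (mK_commute u w)

theorem lpsi_one_right (u : K) : lpsi ρ u 1 = 0 := by
  unfold lpsi
  have := psi_smul_one_right hρ (off_mK hK P n hρ hr u) (1 : k)
  rwa [one_smul, ← mK_one (k := k) (K := K)] at this

/-- The local pairing factors through the Kähler differentials. -/
theorem exists_lpsi_lift :
    ∃ Ψ : Ω[K⁄k] →ₗ[k] k, ∀ u v, Ψ (u • KaehlerDifferential.D k K v) = lpsi ρ u v :=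
  exists_kaehler_lift (lpsi ρ) (lpsi_add_left hK P n hρ hr) lpsi_smul_left
    (lpsi_add_right hK P n hρ hr) lpsi_smul_right (lpsi_leibniz hK P n hρ hr)
    (lpsi_one_right hK P n hρ hr)

omit hK hρ in
theorem stable_of_val_le_one {u : K} (hu : P.1 u ≤ 1) :
    ∀ x ∈ LinearMap.range ρ, (mK u : Module.End k K) x ∈ LinearMap.range ρ := by
  intro x hx
  rw [hr, Place.mem_ball] at hx ⊢
  rw [mK_apply, map_mul]
  calc P.1 u * P.1 x ≤ 1 * WithZero.exp n := mul_le_mul' hu hx
    _ = WithZero.exp n := one_mul _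

omit hK in
theorem lpsi_eq_zero_of_integral {u v : K} (hu : P.1 u ≤ 1) (hv : P.1 v ≤ 1) : lpsi ρ u v = 0 :=
  psi_eq_zero_of_stable (off_block_eq_zero_of_stable hρ (stable_of_val_le_one P n hr hu))
    (off_block_eq_zero_of_stable hρ (stable_of_val_le_one P n hr hv))

theorem lpsi_pow_self (v : K) (m : ℕ) : lpsi ρ (v ^ m) v = 0 := by
  unfold lpsi
  rw [mK_pow]
  exact psi_pow_self hρ (off_mK hK P n hρ hr v) m

omit hK in
/-- At a place of degree one, the residue of `dt/t` is `1` for a uniformizer `t`. -/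
theorem lpsi_inv_uniformizer
    (hres : ∀ z : K, P.1 z ≤ 1 → ∃ a : k, P.1 (z - algebraMap k K a) < 1)
    {t : K} (ht : P.1 t = WithZero.exp (-1 : ℤ)) : lpsi ρ t⁻¹ t = 1 := by
  have ht0 : t ≠ 0 := by
    intro h
    rw [h, Valuation.map_zero] at ht
    exact WithZero.exp_ne_zero ht.symm
  have htn : ∀ m : ℤ, P.1 (t ^ m) = WithZero.exp (-m) := fun m => Place.val_zpow_uniformizer P ht m
  have h1 : (mK t : Module.End k K) * mK t⁻¹ = 1 := by
    rw [← mK_mul, mul_inv_cancel₀ ht0, mK_one]
  have h2 : (mK t⁻¹ : Module.End k K) * mK t = 1 := by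
    rw [← mK_mul, inv_mul_cancel₀ ht0, mK_one]
  have hle : P.1 t ≤ 1 := by
    rw [ht, ← WithZero.exp_zero, WithZero.exp_le_exp]; norm_num
  unfold lpsi
  refine psi_inv_self_eq_one hρ h1 h2 (stable_of_val_le_one P n hr hle) (t ^ (-n)) ?_ ?_ ?_
  · rw [hr, Place.mem_ball, htn, neg_neg]
  · rintro ⟨y, hy, hyt⟩
    rw [SetLike.mem_coe, hr, Place.mem_ball] at hy
    have := congrArg P.1 hyt
    rw [mK_apply, map_mul, ht, htn, neg_neg] at this
    have h3 : WithZero.exp (-1 : ℤ) * P.1 y ≤ WithZero.exp (-1 : ℤ) * WithZero.exp n :=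
      mul_le_mul' le_rfl hy
    rw [this, ← WithZero.exp_add, WithZero.exp_le_exp] at h3
    omega
  · intro x hx
    rw [hr, Place.mem_ball] at hx
    have hz : P.1 (x * t ^ n) ≤ 1 := by
      rw [map_mul, htn]
      calc P.1 x * WithZero.exp (-n) ≤ WithZero.exp n * WithZero.exp (-n) := mul_le_mul' hx le_rfl
        _ = 1 := by rw [← WithZero.exp_add, add_neg_cancel, WithZero.exp_zero]
    obtain ⟨a, ha⟩ := hres _ hz
    refine ⟨a, (x - a • t ^ (-n)) * t⁻¹, ?_, ?_⟩
    · have e : x - a • t ^ (-n) = (x * t ^ n - algebraMap k K a) * t ^ (-n) := by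
        rw [sub_mul, mul_assoc, ← zpow_add₀ ht0, add_neg_cancel, zpow_zero, mul_one,
          Algebra.smul_def]
      rw [SetLike.mem_coe, hr, Place.mem_ball, e, map_mul, map_mul, map_inv₀, ht, htn, neg_neg,
        ← WithZero.exp_neg, neg_neg]
      have ha' : P.1 (x * t ^ n - algebraMap k K a) ≤ WithZero.exp (-1 : ℤ) := by
        have := (lt_exp_iff_le_exp_sub_one (P.1 (x * t ^ n - algebraMap k K a)) 0).1
          (by rw [WithZero.exp_zero]; exact ha)
        rwa [zero_sub] at this
      calc P.1 (x * t ^ n - algebraMap k K a) * WithZero.exp n * WithZero.exp 1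
          ≤ WithZero.exp (-1) * WithZero.exp n * WithZero.exp 1 :=
            mul_le_mul' (mul_le_mul' ha' le_rfl) le_rfl
        _ = WithZero.exp n := by
            rw [← WithZero.exp_add, ← WithZero.exp_add]; congr 1; ring
    · rw [mK_apply, mul_comm, mul_assoc, inv_mul_cancel₀ ht0, mul_one]

/-- Comparison of the local Tate pairing with the residue read through an expansion, at a place
of degree one with a separating uniformizer. -/
theorem lpsi_eq_resExp
    (hres : ∀ z : K, P.1 z ≤ 1 → ∃ a : k, P.1 (z - algebraMap k K a) < 1)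
    (Φ : K →ₐ[k] LaurentSeries k) (hΦ : LocRes.IsExpansionAt P.1 Φ)
    {t : K} (ht : P.1 t = WithZero.exp (-1 : ℤ))
    (hgen : ∀ ω : Ω[K⁄k], ∃ w : K, ω = w • KaehlerDifferential.D k K t) (u v : K) :
    lpsi ρ u v = LocRes.resExp Φ u v := by
  have ht0 : t ≠ 0 := by
    intro h
    rw [h, Valuation.map_zero] at ht
    exact WithZero.exp_ne_zero ht.symm
  have htn : ∀ m : ℤ, P.1 (t ^ m) = WithZero.exp (-m) := fun m => Place.val_zpow_uniformizer P ht m
  have hle : P.1 t ≤ 1 := by
    rw [ht, ← WithZero.exp_zero, WithZero.exp_le_exp]; norm_num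
  obtain ⟨Ψ, hΨ⟩ := exists_lpsi_lift hK P n hρ hr
  set Ψ₂ := LocRes.resOmega Φ with hΨ₂
  have hΨ₂' : ∀ a b, Ψ₂ (a • KaehlerDifferential.D k K b) = LocRes.resExp Φ a b :=
    fun a b => LocRes.resOmega_smul_D Φ a b
  -- monomials
  have hmono : ∀ j : ℕ, Ψ ((t⁻¹) ^ (j + 1) • KaehlerDifferential.D k K t) =
      Ψ₂ ((t⁻¹) ^ (j + 1) • KaehlerDifferential.D k K t) := by
    intro j
    rcases j with _ | j
    · rw [zero_add, pow_one, hΨ, hΨ₂', lpsi_inv_uniformizer P n hρ hr hres ht,
        Groth.Agent.S12620.result P.1 Φ hΦ t ht0, ht, WithZero.log_exp]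
      norm_num
    · have h1 : lpsi ρ ((t⁻¹) ^ j) t⁻¹ = 0 := lpsi_pow_self hK P n hρ hr t⁻¹ j
      have e : (t⁻¹) ^ (j + 1 + 1) • KaehlerDifferential.D k K t =
          -((t⁻¹) ^ j • KaehlerDifferential.D k K t⁻¹) := by
        rw [Derivation.leibniz_inv, neg_smul, smul_neg, neg_neg, smul_smul, ← pow_add]
      have h2 : LocRes.resExp Φ ((t⁻¹) ^ (j + 1 + 1)) t = 0 := by
        have := Groth.Agent.S12621.result Φ t (-((j : ℤ) + 1)) (by omega)
        have e2 : t ^ (-((j : ℤ) + 1) - 1) = (t⁻¹) ^ (j + 1 + 1) := by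
          rw [show (-((j : ℤ) + 1) - 1) = -((j + 1 + 1 : ℕ) : ℤ) by push_cast; ring, zpow_neg,
            zpow_natCast, inv_pow]
        rwa [e2] at this
      rw [hΨ₂', h2, e, map_neg, hΨ, h1, neg_zero]
  have key : ∀ N : ℕ, ∀ w : K, P.1 w ≤ WithZero.exp (N : ℤ) →
      Ψ (w • KaehlerDifferential.D k K t) = Ψ₂ (w • KaehlerDifferential.D k K t) := by
    intro N
    induction N with
    | zero =>
      intro w hw
      rw [Nat.cast_zero, WithZero.exp_zero] at hw
      rw [hΨ, hΨ₂', lpsi_eq_zero_of_integral P n hρ hr hw hle,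
        Groth.Agent.S12622.result P.1 Φ hΦ w t hw hle]
    | succ N ih =>
      intro w hw
      have hz : P.1 (w * t ^ ((N + 1 : ℕ) : ℤ)) ≤ 1 := by
        rw [map_mul, htn]
        calc P.1 w * WithZero.exp (-((N + 1 : ℕ) : ℤ))
            ≤ WithZero.exp ((N + 1 : ℕ) : ℤ) * WithZero.exp (-((N + 1 : ℕ) : ℤ)) :=
              mul_le_mul' hw le_rfl
          _ = 1 := by rw [← WithZero.exp_add, add_neg_cancel, WithZero.exp_zero]
      obtain ⟨a, ha⟩ := hres _ hz
      set w' := w - a • (t⁻¹) ^ (N + 1) with hw'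
      have e : w' = (w * t ^ ((N + 1 : ℕ) : ℤ) - algebraMap k K a) * (t⁻¹) ^ (N + 1) := by
        rw [hw', sub_mul, mul_assoc, zpow_natCast, inv_pow, mul_inv_cancel₀ (pow_ne_zero _ ht0),
          mul_one, Algebra.smul_def]
      have hw'le : P.1 w' ≤ WithZero.exp (N : ℤ) := by
        have ha' : P.1 (w * t ^ ((N + 1 : ℕ) : ℤ) - algebraMap k K a) ≤ WithZero.exp (-1 : ℤ) := by
          have := (lt_exp_iff_le_exp_sub_one
            (P.1 (w * t ^ ((N + 1 : ℕ) : ℤ) - algebraMap k K a)) 0).1
            (by rw [WithZero.exp_zero]; exact ha)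
          rwa [zero_sub] at this
        rw [e, map_mul, map_pow, map_inv₀, ht, ← WithZero.exp_neg, neg_neg, ← WithZero.exp_nsmul]
        calc P.1 (w * t ^ ((N + 1 : ℕ) : ℤ) - algebraMap k K a) * WithZero.exp ((N + 1) • (1 : ℤ))
            ≤ WithZero.exp (-1 : ℤ) * WithZero.exp ((N + 1) • (1 : ℤ)) := mul_le_mul' ha' le_rfl
          _ = WithZero.exp (N : ℤ) := by
              rw [← WithZero.exp_add]; congr 1; simp
      have e2 : w • KaehlerDifferential.D k K t = w' • KaehlerDifferential.D k K t +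
          a • ((t⁻¹) ^ (N + 1) • KaehlerDifferential.D k K t) := by
        rw [hw', sub_smul, smul_assoc]; abel
      rw [e2, map_add, map_add, map_smul Ψ a, map_smul Ψ₂ a, ih w' hw'le, hmono N]
  obtain ⟨w, hw⟩ := hgen (u • KaehlerDifferential.D k K v)
  obtain ⟨N, hN⟩ : ∃ N : ℕ, P.1 w ≤ WithZero.exp (N : ℤ) := by
    refine ⟨(polesDiv k w P).toNat, ?_⟩
    have := val_le_exp_polesDiv hK w P
    rwa [Int.toNat_of_nonneg (polesDiv_nonneg w P)]
  rw [← hΨ, ← hΨ₂', hw, key N w hN]

end local_pairing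

end Groth.Agent.Lib.helper10.Tate
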