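import Mathlib
import Groth.Agent.Lib.Helper10.Tate13
import Groth.Agent.Lib.Helper10.Tate3
import Groth.Agent.Lib.Helper10.FunFld40
import Groth.Agent.Lib.Helper10.FunFld48

/-!
# The trace formula for the Tate pairing without hypotheses on the constant field of the
extension (helper10)
-/

set_option autoImplicit false
set_option linter.style.haveILetI false
set_option linter.unusedSectionVars false
set_option linter.unusedVariables false

universe u v

open FunFld

namespace Groth.Agent.Lib.helper10.Tate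

open FF RD

section general

variable {k : Type u} {K : Type v} [Field k] [Field K] [Algebra k K]

theorem relFin_ball_add' (P : Place k K) [FiniteDimensional k (IsLocalRing.ResidueField P.O)]
    (n : ℤ) (m : ℕ) : RelFin (Place.ball P n) (Place.ball P (n + m)) := by
  induction m with
  | zero => simpa using (relFin_self (Place.ball P n)).1
  | succ m ih =>
    have h1 := (Place.relFin_ball' P (n + (m + 1 : ℕ))).1
    have e : n + ((m + 1 : ℕ) : ℤ) - 1 = n + m := by push_cast; ring
    rw [e] at h1
    exact (relFin_chain (Place.ball_mono P (by omega)) (Place.ball_mono P (by push_cast; omega))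
      ih h1).1

/-- Multiplication by any `x : K` almost preserves a ball (finite residue field version). -/
theorem off_mK' (P : Place k K) [FiniteDimensional k (IsLocalRing.ResidueField P.O)] (n : ℤ)
    {ρ : Module.End k K} (hρ : ρ * ρ = ρ) (hr : LinearMap.range ρ = Place.ball P n) (x : K) :
    Off ρ (mK x) := by
  obtain ⟨m, hm⟩ : ∃ m : ℕ, P.1 x ≤ WithZero.exp (m : ℤ) := ⟨_, Place.val_le_exp_natAbs P x⟩
  obtain ⟨Z, hZ, hle⟩ := exists_fd_of_relFin (relFin_ball_add' P n m)
  refine off_of_map_le hρ Z ?_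
  intro y hy
  rw [hr] at hy ⊢
  apply hle
  rw [Place.mem_ball] at hy ⊢
  rw [mK_apply, map_mul, WithZero.exp_add, mul_comm]
  exact mul_le_mul' hy hm

section lp

variable {ρ : Module.End k K} (hρ : ρ * ρ = ρ) (hoff : ∀ x : K, Off ρ (mK x))

include hoff in
theorem lpsi_add_left' (u u' v : K) : lpsi ρ (u + u') v = lpsi ρ u v + lpsi ρ u' v := by
  unfold lpsi
  rw [mK_add]
  exact psi_add_left (hoff u) (hoff u') (hoff v)

include hoff in
theorem lpsi_add_right' (u v v' : K) : lpsi ρ u (v + v') = lpsi ρ u v + lpsi ρ u v' := by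
  unfold lpsi
  rw [mK_add]
  exact psi_add_right (hoff u) (hoff v) (hoff v')

include hoff in
theorem lpsi_leibniz' (u v w : K) : lpsi ρ u (v * w) = lpsi ρ (u * v) w + lpsi ρ (u * w) v := by
  unfold lpsi
  rw [mK_mul, mK_mul, mK_mul]
  exact psi_leibniz (hoff u) (hoff v) (hoff w) (mK_commute u w)

include hρ hoff in
theorem lpsi_one_right' (u : K) : lpsi ρ u 1 = 0 := by
  unfold lpsi
  have := psi_smul_one_right hρ (hoff u) (1 : k)
  rwa [one_smul, ← mK_one (k := k) (K := K)] at this

include hρ hoff in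
/-- `u dv = -(u v²) d(v⁻¹)`. -/
theorem lpsi_inv_right' (u : K) {v : K} (hv : v ≠ 0) :
    lpsi ρ u v = - lpsi ρ (u * v ^ 2) v⁻¹ := by
  have h1 := lpsi_leibniz' hoff (u * v) v v⁻¹
  rw [mul_inv_cancel₀ hv, lpsi_one_right' hρ hoff] at h1
  have e1 : u * v * v = u * v ^ 2 := by ring
  have e2 : u * v * v⁻¹ = u := by field_simp
  rw [e1, e2] at h1
  rw [eq_neg_iff_add_eq_zero, add_comm]
  exact h1.symm

end lp

/-- Abstract regularity: the local pairing of `u` and `v` vanishes when `u` and `u v²` are
integral. -/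
theorem lpsi_eq_zero_of_small (P : Place k K) [FiniteDimensional k (IsLocalRing.ResidueField P.O)]
    {ρ : Module.End k K} (hρ : ρ * ρ = ρ) (hr : LinearMap.range ρ = Place.ball P 0) {u v : K}
    (hu : P.1 u ≤ 1) (huv : P.1 (u * v ^ 2) ≤ 1) : lpsi ρ u v = 0 := by
  by_cases hv : P.1 v ≤ 1
  · exact lpsi_eq_zero_of_integral P 0 hρ hr hu hv
  · have hv0 : v ≠ 0 := by
      rintro rfl
      apply hv
      rw [Valuation.map_zero]
      exact zero_le
    rw [lpsi_inv_right' hρ (off_mK' P 0 hρ hr) u hv0, neg_eq_zero]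
    refine lpsi_eq_zero_of_integral P 0 hρ hr huv ?_
    rw [map_inv₀]
    exact inv_le_one_of_one_le₀ (le_of_lt (not_le.1 hv))

end general

section ext

variable {k : Type u} {K K' : Type v} [Field k] [Field K] [Field K'] [Algebra k K] [Algebra K K']
  [Algebra k K'] [IsScalarTower k K K']

/-- A valuation ring contains every element integral over a ring whose image it contains. -/
theorem mem_valuationSubring_of_isIntegral (V : ValuationSubring K') {A : Type*} [CommRing A]
    [Algebra A K'] (hA : ∀ a : A, algebraMap A K' a ∈ V) {c : K'} (hc : IsIntegral A c) :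
    c ∈ V := by
  obtain ⟨p, hmonic, hp⟩ := hc
  set σ : A →+* V := (algebraMap A K').codRestrict V.toSubring hA with hσ
  have hint : IsIntegral V c := by
    refine ⟨p.map σ, hmonic.map σ, ?_⟩
    rw [Polynomial.eval₂_map]
    exact hp
  obtain ⟨y, hy⟩ := IsIntegrallyClosed.isIntegral_iff.1 hint
  rw [← hy]
  exact y.2

/-- Integral elements over `O_P` are integral at every place over `P`. -/
theorem val_le_one_of_isIntegral (P : Place k K) [Algebra P.O K'] [IsScalarTower P.O K K']
    {w : K'} (hw : IsIntegral P.O w) {Q : Place k K'} (hQ : IsOver Q P) : Q.1 w ≤ 1 := by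
  obtain ⟨e, he⟩ := hQ
  refine mem_valuationSubring_of_isIntegral Q.O ?_ hw
  intro a
  rw [IsScalarTower.algebraMap_apply P.O K K']
  show Q.1 _ ≤ 1
  rw [he]
  exact pow_le_one₀ zero_le a.2

variable [FiniteDimensional K K']

/-- A place of the extension with a prescribed valuation ring. -/
theorem exists_place_of_valuationSubring (hK : IsFunctionField k K) (V : ValuationSubring K')
    (hkV : ∀ c : k, algebraMap k K' c ∈ V) (hV : V ≠ ⊤) : ∃ Q : Place k K', Q.O = V := by
  have hE := isFunctionField_algebraicClosure' (E := K') hK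
  have hk'V : ∀ c : algebraicClosure k K', algebraMap (algebraicClosure k K') K' c ∈ V := by
    intro c
    have hc : IsIntegral k (c : K') := ((mem_algebraicClosure_iff).1 c.2).isIntegral
    exact mem_valuationSubring_of_isIntegral V hkV hc
  refine ⟨Place.down (placeOf V hE hk'V hV), ?_⟩
  exact placeOf_O V hE hk'V hV

/-- Elements integral at all places over `P` are integral over `O_P`. -/
theorem isIntegral_of_val_le_one (hK : IsFunctionField k K) (P : Place k K)
    [Algebra P.O K'] [IsScalarTower P.O K K'] {w : K'}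
    (hw : ∀ Q : Place k K', IsOver Q P → Q.1 w ≤ 1) : IsIntegral P.O w := by
  by_contra hni
  have hwC : w ∉ (integralClosure P.O K').toSubring := hni
  obtain ⟨V, hCV, hwV⟩ :=
    Subring.exists_le_valuationSubring_of_isIntegrallyClosedIn hwC
  have himg : ∀ a : K, P.1 a ≤ 1 → algebraMap K K' a ∈ V := by
    intro a ha
    apply hCV
    have := (integralClosure P.O K').algebraMap_mem (⟨a, ha⟩ : P.O)
    rwa [IsScalarTower.algebraMap_apply P.O K K'] at this
  have hkV : ∀ c : k, algebraMap k K' c ∈ V := by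
    intro c
    rw [IsScalarTower.algebraMap_apply k K K']
    exact himg _ (P.2.1 c)
  have hV : V ≠ ⊤ := by
    intro h
    apply hwV
    rw [h]; trivial
  obtain ⟨Q', hQ'O⟩ := exists_place_of_valuationSubring hK V hkV hV
  obtain ⟨P', e', he'⟩ := exists_place_under hK Q'
  have hpos := isOverWith_pos he'
  have hle : P.O ≤ P'.O := by
    intro a ha
    have h1 : algebraMap K K' a ∈ Q'.O := by rw [hQ'O]; exact himg a ha
    rw [Place.mem_O_iff, he' a] at h1
    rw [Place.mem_O_iff]
    exact (pow_le_one_iff (by omega)).1 h1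
  have hPP' : P = P' := Place.eq_of_O_le P P' hle
  have : w ∈ Q'.O := hw Q' ⟨e', hPP' ▸ he'⟩
  rw [hQ'O] at this
  exact hwV this

/-- Elements integral at all places over `P` have trace integral at `P` (no hypothesis on the
constants of the extension). -/
theorem trace_val_le_one' (hK : IsFunctionField k K) (P : Place k K)
    {w : K'} (hw : ∀ Q : Place k K', IsOver Q P → Q.1 w ≤ 1) :
    P.1 (Algebra.trace K K' w) ≤ 1 := by
  letI : Algebra P.O K' := ((algebraMap K K').comp (algebraMap P.O K)).toAlgebra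
  haveI : IsScalarTower P.O K K' := IsScalarTower.of_algebraMap_eq fun _ => rfl
  have hint : IsIntegral P.O w := isIntegral_of_val_le_one hK P hw
  have htr : IsIntegral P.O (Algebra.trace K K' w) := Algebra.isIntegral_trace hint
  obtain ⟨a, ha⟩ := IsIntegrallyClosed.isIntegral_iff.1 htr
  rw [← ha]
  exact a.2

/-! ### Semilocal decomposition and the trace formula -/

/-- **Semilocal decomposition**: the Tate pairing with respect to the semilocal lattice is the sum
of the local pairings. -/
theorem psi_semiBall' (Qs : Finset (Place k K')) (hne : Qs.Nonempty)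
    (hfd : ∀ Q ∈ Qs, FiniteDimensional k (IsLocalRing.ResidueField Q.O))
    {πB : Module.End k K'} (hπB : πB * πB = πB) (hrB : LinearMap.range πB = semiBall Qs)
    (ρ' : Place k K' → Module.End k K') (hρ' : ∀ Q, ρ' Q * ρ' Q = ρ' Q)
    (hr' : ∀ Q, LinearMap.range (ρ' Q) = Place.ball Q 0) (y x : K') :
    psi πB (mK y) (mK x) = ∑ Q ∈ Qs, psi (ρ' Q) (mK y) (mK x) := by
  classical
  set ι : K' →ₗ[k] (Qs → K') := LinearMap.pi fun _ => LinearMap.id with hι
  have hιapp : ∀ z (Q : Qs), ι z Q = z := fun z Q => rfl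
  have hinj : Function.Injective ι := by
    intro a b hab
    obtain ⟨Q, hQ⟩ := hne
    have := congrFun hab ⟨Q, hQ⟩
    rwa [hιapp, hιapp] at this
  set PiR : Module.End k (Qs → K') := Dg fun Q : Qs => ρ' Q with hPiR
  have hoffy : Off PiR (Dg fun _ : Qs => (mK y : Module.End k K')) :=
    off_Dg fun Q => (haveI := hfd Q.1 Q.2; off_mK' Q.1 0 (hρ' Q) (hr' Q) y)
  have hoffx : Off PiR (Dg fun _ : Qs => (mK x : Module.End k K')) :=
    off_Dg fun Q => (haveI := hfd Q.1 Q.2; off_mK' Q.1 0 (hρ' Q) (hr' Q) x)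
  have h := psi_transfer ι hinj (ρ := πB) (π' := PiR) (f := mK y) (g := mK x)
    (f' := Dg fun _ : Qs => (mK y : Module.End k K'))
    (g' := Dg fun _ : Qs => (mK x : Module.End k K')) hπB (Dg_idem fun Q => hρ' Q)
    (by
      intro z
      rw [hrB, mem_semiBall, hPiR, mem_range_Dg fun Q : Qs => hρ' Q]
      constructor
      · intro hz Q
        rw [hιapp, hr', Place.mem_ball, WithZero.exp_zero]
        exact hz Q Q.2
      · intro hz Q hQ
        have := hz ⟨Q, hQ⟩
        rwa [hιapp, hr', Place.mem_ball, WithZero.exp_zero] at this)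
    (by
      intro w
      obtain ⟨z, hz⟩ := weak_approx Qs (fun Q => if h : Q ∈ Qs then w ⟨Q, h⟩ else 0) 0
      refine ⟨z, ?_⟩
      rw [hPiR, mem_range_Dg fun Q : Qs => hρ' Q]
      intro Q
      rw [Pi.sub_apply, hιapp, hr', Place.mem_ball, WithZero.exp_zero]
      have := hz Q Q.2
      rw [dif_pos Q.2, Nat.cast_zero, neg_zero, WithZero.exp_zero] at this
      rw [← Valuation.map_neg, neg_sub]
      exact this)
    (fun z => by funext Q; rfl) (fun z => by funext Q; rfl) hoffy hoffx
    (by
      unfold Commute SemiconjBy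
      rw [Dg_mul, Dg_mul]
      congr 1
      funext Q
      exact (mK_commute y x).eq)
  rw [h, hPiR, psi_pi_diag hoffy fun Q => (haveI := hfd Q.1 Q.2; off_mK' Q.1 0 (hρ' Q) (hr' Q) x)]
  simp only [blk_Dg]
  exact Finset.sum_coe_sort Qs fun Q => psi (ρ' Q) (mK y) (mK x)


section traceFormula

variable [Algebra.IsSeparable K K']

/-- **Residues and the trace** (abstract form): the local Tate pairing of `K` at `P`, evaluated at
the trace, is the sum of the local Tate pairings of `K'` at the places over `P`. -/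
theorem sum_psi_eq_psi_trace' (hK : IsFunctionField k K)
    (P : Place k K) (Qs : Finset (Place k K')) (hQs : ∀ Q, Q ∈ Qs ↔ IsOver Q P)
    {ρ : Module.End k K} (hρ : ρ * ρ = ρ) (hr : LinearMap.range ρ = Place.ball P 0)
    (ρ' : Place k K' → Module.End k K') (hρ' : ∀ Q, ρ' Q * ρ' Q = ρ' Q)
    (hr' : ∀ Q, LinearMap.range (ρ' Q) = Place.ball Q 0) (y : K') (x : K) :
    ∑ Q ∈ Qs, psi (ρ' Q) (mK y) (mK (algebraMap K K' x)) =
      psi ρ (mK (Algebra.trace K K' y)) (mK x) := by
  classical
  have hne : Qs.Nonempty := by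
    by_contra hemp
    rw [Finset.not_nonempty_iff_eq_empty] at hemp
    have h1 := sum_ramIdx_mul_deg hK P Qs hQs
    rw [hemp, Finset.sum_empty] at h1
    have h2 : 0 < Module.finrank K K' * P.deg :=
      Nat.mul_pos Module.finrank_pos (Place.deg_pos hK P)
    omega
  obtain ⟨b, hb⟩ := exists_basis_integral P Qs hQs
  obtain ⟨hy, hx, hψ⟩ := psi_piLat hK P 0 hρ hr b y x
  obtain ⟨πB, hπB, hrB⟩ := exists_idem_range'' (k := k) (semiBall Qs)
  have hmemρ : ∀ c : K, c ∈ LinearMap.range ρ ↔ P.1 c ≤ 1 := by
    intro c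
    rw [hr, Place.mem_ball, WithZero.exp_zero]
  have hvalQ : ∀ Q ∈ Qs, ∀ c : K, P.1 c ≤ 1 → Q.1 (algebraMap K K' c) ≤ 1 := by
    intro Q hQ c hc
    obtain ⟨e, he⟩ := (hQs Q).1 hQ
    rw [he c]
    exact pow_le_one₀ zero_le hc
  -- the lattice of the integral basis lies in the semilocal lattice
  have hle : LinearMap.range (piLat b ρ) ≤ LinearMap.range πB := by
    intro z hz
    rw [hrB, mem_semiBall]
    rw [mem_range_piLat b hρ] at hz
    intro Q hQ
    rw [← b.sum_repr z]
    apply Valuation.map_sum_le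
    intro i _
    rw [Algebra.smul_def, map_mul]
    exact mul_le_one' (hvalQ Q hQ _ ((hmemρ _).1 (hz i))) (hb i Q hQ)
  -- the dual basis bounds the semilocal lattice
  set b' := (Algebra.traceForm K K').dualBasis (traceForm_nondegenerate K K') b with hb'
  set N : ℕ := ∑ i, ∑ j, (P.ord (b.repr (b' i) j)).natAbs with hN
  have hNb : ∀ i j, P.1 (b.repr (b' i) j) ≤ WithZero.exp (N : ℤ) := by
    intro i j
    apply le_trans (Place.val_le_exp_natAbs P _)
    rw [WithZero.exp_le_exp]
    have h1 := Finset.single_le_sum (f := fun j' => (P.ord (b.repr (b' i) j')).natAbs)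
      (fun i _ => Nat.zero_le _) (Finset.mem_univ j)
    have h2 := Finset.single_le_sum
      (f := fun i' => ∑ j', (P.ord (b.repr (b' i') j')).natAbs) (fun i _ => Nat.zero_le _)
      (Finset.mem_univ i)
    have : (P.ord (b.repr (b' i) j)).natAbs ≤ N := le_trans h1 h2
    exact_mod_cast this
  have hcoord : ∀ z ∈ semiBall Qs, ∀ j, P.1 (b.repr z j) ≤ WithZero.exp (N : ℤ) := by
    intro z hz j
    rw [mem_semiBall] at hz
    have hc : ∀ i, P.1 (b'.repr z i) ≤ 1 := by
      intro i
      rw [hb', LinearMap.BilinForm.dualBasis_repr_apply, Algebra.traceForm_apply]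
      apply trace_val_le_one' hK P
      intro Q hQ'
      have hQ := (hQs Q).2 hQ'
      rw [map_mul]
      exact mul_le_one' (hz Q hQ) (hb i Q hQ)
    have e : b.repr z j = ∑ i, b'.repr z i * b.repr (b' i) j := by
      conv_lhs => rw [← b'.sum_repr z]
      rw [map_sum, Finsupp.coe_finset_sum, Finset.sum_apply]
      refine Finset.sum_congr rfl fun i _ => ?_
      rw [map_smul, Finsupp.smul_apply, smul_eq_mul]
    rw [e]
    apply Valuation.map_sum_le
    intro i _
    rw [map_mul]
    calc P.1 (b'.repr z i) * P.1 (b.repr (b' i) j) ≤ 1 * WithZero.exp (N : ℤ) :=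
          mul_le_mul' (hc i) (hNb i j)
      _ = WithZero.exp (N : ℤ) := one_mul _
  obtain ⟨Z₀, hZ₀fd, hZ₀⟩ := exists_fd_of_relFin (relFin_ball_add hK P 0 N)
  haveI := hZ₀fd
  set Ψ : (Fin (Module.finrank K K') → Z₀) →ₗ[k] K' :=
    (coordL (k := k) b).symm.toLinearMap ∘ₗ
      (LinearMap.pi fun j => Z₀.subtype ∘ₗ LinearMap.proj j) with hΨ
  have hfd : LinearMap.range πB ≤ LinearMap.range (piLat b ρ) ⊔ LinearMap.range Ψ := by
    intro z hz
    rw [hrB] at hz
    have h1 : ∀ j, b.repr z j ∈ Place.ball P 0 ⊔ Z₀ := by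
      intro j
      apply hZ₀
      rw [Place.mem_ball, zero_add]
      exact hcoord z hz j
    choose a ha zz hzz hsum using fun j => Submodule.mem_sup.1 (h1 j)
    have e : z = (coordL (k := k) b).symm a + Ψ fun j => ⟨zz j, hzz j⟩ := by
      apply (coordL (k := k) b).injective
      rw [map_add, LinearEquiv.apply_symm_apply, hΨ, LinearMap.comp_apply, LinearEquiv.coe_coe,
        LinearEquiv.apply_symm_apply]
      funext j
      rw [coordL_apply, Pi.add_apply, ← hsum j]
      rfl
    rw [e]
    refine Submodule.add_mem_sup ?_ ⟨_, rfl⟩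
    rw [mem_range_piLat b hρ]
    intro i
    rw [← coordL_apply (k := k), LinearEquiv.apply_symm_apply, hr]
    exact ha i
  obtain ⟨-, -, hBΛ⟩ := psi_eq_of_le_of_fd (piLat_idem b hρ) hπB hle (LinearMap.range Ψ) hfd hy hx
    (mK_commute _ _)
  rw [← psi_semiBall' Qs hne (fun Q _ => Place.finiteDimensional_residueField' hK Q) hπB hrB ρ' hρ' hr' y
    (algebraMap K K' x), hBΛ, hψ]

end traceFormula

end ext

end Groth.Agent.Lib.helper10.Tate
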