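import Mathlib
import Groth.Agent.Lib.Helper10.Tate14
import Groth.Agent.Lib.Helper10.Tate10

/-!
# Expansions identify the coefficient field with the residue field; local duality (helper10)
-/

set_option autoImplicit false
set_option linter.style.haveILetI false
set_option linter.unusedSectionVars false
set_option linter.unusedVariables false

universe u v w

open FunFld LaurentSeries

namespace Groth.Agent.Lib.helper10.Tate

open FF RD

section single

variable {k : Type u} {K : Type v} [Field k] [Field K] [Algebra k K]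
variable {F : Type w} [Field F] [Algebra k F]

theorem coeff_lt_zero_of_val_le_one {f : F⸨X⸩} (hf : Valued.v f ≤ 1) : ∀ j < 0, f.coeff j = 0 := by
  apply (valuation_le_iff_coeff_lt_eq_zero F).1
  rw [neg_zero, WithZero.exp_zero]
  exact hf

/-- The constant coefficient of the expansion, as a ring homomorphism on the valuation ring. -/
noncomputable def c0Hom (P : Place k K) (φ : K →ₐ[k] F⸨X⸩) (hφ : ∀ f : K, Valued.v (φ f) = P.1 f) :
    P.O →+* F where
  toFun f := (φ f.1).coeff 0
  map_one' := by
    show (φ ((1 : P.O) : K)).coeff 0 = 1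
    rw [OneMemClass.coe_one, map_one, HahnSeries.coeff_one, if_pos rfl]
  map_mul' f g := by
    show (φ ((f * g : P.O) : K)).coeff 0 = (φ f.1).coeff 0 * (φ g.1).coeff 0
    rw [MulMemClass.coe_mul, map_mul]
    have h := coeff_mul_of_vanish (a := φ f.1) (b := φ g.1) (p := 0) (q := 0)
      (coeff_lt_zero_of_val_le_one (by rw [hφ]; exact f.2))
      (coeff_lt_zero_of_val_le_one (by rw [hφ]; exact g.2))
    rwa [add_zero] at h
  map_zero' := by
    show (φ ((0 : P.O) : K)).coeff 0 = 0
    rw [ZeroMemClass.coe_zero, map_zero, HahnSeries.coeff_zero]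
  map_add' f g := by
    show (φ ((f + g : P.O) : K)).coeff 0 = (φ f.1).coeff 0 + (φ g.1).coeff 0
    rw [AddMemClass.coe_add, map_add, HahnSeries.coeff_add]

theorem c0Hom_apply (P : Place k K) (φ : K →ₐ[k] F⸨X⸩) (hφ : ∀ f : K, Valued.v (φ f) = P.1 f)
    (f : P.O) : c0Hom P φ hφ f = (φ f.1).coeff 0 := rfl

theorem c0Hom_eq_zero_iff (P : Place k K) (φ : K →ₐ[k] F⸨X⸩)
    (hφ : ∀ f : K, Valued.v (φ f) = P.1 f) (f : P.O) : c0Hom P φ hφ f = 0 ↔ P.1 (f : K) < 1 := by
  rw [c0Hom_apply]
  constructor
  · intro h0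
    have h1 : Valued.v (φ f.1) ≤ WithZero.exp (-(1 : ℤ)) := by
      rw [valuation_le_iff_coeff_lt_eq_zero]
      intro j hj
      by_cases hj0 : j = 0
      · rw [hj0]; exact h0
      · exact coeff_lt_zero_of_val_le_one (by rw [hφ]; exact f.2) j (by omega)
    rw [hφ] at h1
    apply lt_of_le_of_lt h1
    rw [← WithZero.exp_zero, WithZero.exp_lt_exp]
    norm_num
  · intro hlt
    have h1 : Valued.v (φ f.1) ≤ WithZero.exp (-(1 : ℤ)) := by
      rw [hφ]
      have := (lt_exp_iff_le_exp_sub_one (P.1 (f : K)) 0).1 (by rw [WithZero.exp_zero]; exact hlt)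
      rwa [zero_sub] at this
    exact (valuation_le_iff_coeff_lt_eq_zero F).1 h1 0 (by norm_num)

/-- An expansion identifies the coefficient field with the residue field. -/
theorem exists_resEquiv (P : Place k K) (φ : K →ₐ[k] F⸨X⸩) (hφ : LocRes.IsExpansionAt P.1 φ) :
    ∃ τ : IsLocalRing.ResidueField P.O ≃ₐ[k] F,
      ∀ f : P.O, τ (IsLocalRing.residue P.O f) = (φ f.1).coeff 0 := by
  have hker : ∀ a ∈ IsLocalRing.maximalIdeal P.O, c0Hom P φ hφ.1 a = 0 := by
    intro a ha
    rw [c0Hom_eq_zero_iff, ← Place.residue_eq_zero_iff, IsLocalRing.residue_eq_zero_iff]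
    exact ha
  set θ : IsLocalRing.ResidueField P.O →+* F :=
    Ideal.Quotient.lift (IsLocalRing.maximalIdeal P.O) (c0Hom P φ hφ.1) hker with hθ
  have hθr : ∀ f : P.O, θ (IsLocalRing.residue P.O f) = (φ f.1).coeff 0 := fun f => rfl
  let θA : IsLocalRing.ResidueField P.O →ₐ[k] F :=
    { θ with
      commutes' := by
        intro c
        show θ (IsLocalRing.residue P.O (algebraMap k P.O c)) = algebraMap k F c
        rw [hθr]
        show (φ (algebraMap k K c)).coeff 0 = _
        rw [LocRes.map_algebraMap]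
        show (HahnSeries.single 0 _).coeff 0 = _
        rw [HahnSeries.coeff_single_same] }
  have hbij : Function.Bijective θA := by
    refine ⟨θ.injective, ?_⟩
    intro a
    obtain ⟨f, hf, hfa⟩ := hφ.2.1 a
    exact ⟨IsLocalRing.residue P.O ⟨f, hf⟩, hfa⟩
  exact ⟨AlgEquiv.ofBijective θA hbij, fun f => rfl⟩

/-- The coefficient field of an expansion at a place of a function field is finite over the
constants (version for an extension of a function field). -/
theorem finiteDimensional_of_isExpansionAt' {K₀ : Type v} [Field K₀] [Algebra k K₀] [Algebra K₀ K]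
    [IsScalarTower k K₀ K] [FiniteDimensional K₀ K] (hK₀ : IsFunctionField k K₀)
    {P : Place k K} {φ : K →ₐ[k] F⸨X⸩} (hφ : LocRes.IsExpansionAt P.1 φ) :
    FiniteDimensional k F := by
  obtain ⟨τ, -⟩ := exists_resEquiv P φ hφ
  have h2 := Place.finiteDimensional_residueField' hK₀ P
  exact @Module.Finite.equiv k _ _ _ _ _ _ _ h2 τ.toLinearEquiv

theorem finiteDimensional_of_isExpansionAt (hK : IsFunctionField k K)
    {P : Place k K} {φ : K →ₐ[k] F⸨X⸩} (hφ : LocRes.IsExpansionAt P.1 φ) :
    FiniteDimensional k F := by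
  obtain ⟨τ, -⟩ := exists_resEquiv P φ hφ
  have h2 := Place.finiteDimensional_residueField hK P
  exact @Module.Finite.equiv k _ _ _ _ _ _ _ h2 τ.toLinearEquiv

/-- At a place with a separable coefficient field, where the differential `u dv` has order `C`:
there is a function of pole order at most `C + 1` against which the differential has a nonzero
residue. -/
theorem exists_locRes_mul_ne_zero' [FiniteDimensional k F] [Algebra.IsSeparable k F]
    {P : Place k K} {χ : K →ₐ[k] LaurentSeries F}
    (hχ : LocRes.IsExpansionAt P.1 χ) {u v : K} (hne : χ u * LocRes.D F (χ v) ≠ 0) :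
    ∃ x : K, P.1 x ≤ WithZero.exp (LocRes.ordDiff χ u v + 1) ∧ LocRes.locRes χ (x * u) v ≠ 0 := by
  obtain ⟨c, hc⟩ : ∃ c : F, Algebra.trace k F c ≠ 0 := by
    obtain ⟨c, hc⟩ := Algebra.trace_surjective k F 1
    exact ⟨c, by rw [hc]; exact one_ne_zero⟩
  set g := χ u * LocRes.D F (χ v) with hg'
  set C : ℤ := LocRes.ordDiff χ u v with hC
  have hval : Valued.v g = WithZero.exp (-C) := val_eq_exp_neg_ordL hne
  have hgC : g.coeff C ≠ 0 := coeff_ne_zero_of_val_eq hval
  have hgvan : ∀ j < C, g.coeff j = 0 := (valuation_le_iff_coeff_lt_eq_zero F).1 hval.le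
  set y : LaurentSeries F := HahnSeries.single (-(C + 1)) (c / g.coeff C) with hy
  obtain ⟨x, hx⟩ := dense_exp hχ (-C) y
  have hxvan : ∀ j < -(C + 1), (χ x).coeff j = 0 := by
    intro j hj
    have h1 := hx j (by omega)
    rw [HahnSeries.coeff_sub, hy, HahnSeries.coeff_single_of_ne (by omega), zero_sub,
      neg_eq_zero] at h1
    exact h1
  have hxc : (χ x).coeff (-(C + 1)) = c / g.coeff C := by
    have h1 := hx (-(C + 1)) (by omega)
    rw [HahnSeries.coeff_sub, hy, HahnSeries.coeff_single_same, sub_eq_zero] at h1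
    exact h1.symm
  refine ⟨x, ?_, ?_⟩
  · rw [← hχ.1]
    have := (valuation_le_iff_coeff_lt_eq_zero F).2 hxvan
    rwa [neg_neg] at this
  · unfold LocRes.locRes LocRes.resExp
    rw [map_mul χ, mul_assoc, ← hg', LocRes.res_apply]
    have h2 := coeff_mul_of_vanish hxvan hgvan
    have e : -(C + 1) + C = -1 := by ring
    rw [e] at h2
    rw [h2, hxc, div_mul_cancel₀ _ hgC]
    exact hc

theorem vDiff_eq_mul {P : Place k K} {χ : K →ₐ[k] LaurentSeries F}
    (hχ : LocRes.IsExpansionAt P.1 χ) (u v : K) :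
    LocRes.vDiff χ u v = P.1 u * LocRes.vDiff χ 1 v := by
  unfold LocRes.vDiff
  rw [map_mul, map_mul, hχ.1, hχ.1, map_one, one_mul]

theorem ordDiff_eq_add {P : Place k K} {χ : K →ₐ[k] LaurentSeries F}
    (hχ : LocRes.IsExpansionAt P.1 χ) {u v : K} (hu : u ≠ 0) (hv : LocRes.vDiff χ 1 v ≠ 0) :
    LocRes.ordDiff χ u v = P.ord u + LocRes.ordDiff χ 1 v := by
  unfold LocRes.ordDiff Place.ord
  rw [vDiff_eq_mul hχ, WithZero.log_mul ((Valuation.ne_zero_iff _).2 hu) hv]
  ring

theorem vDiff_one_eq_exp {χ : K →ₐ[k] LaurentSeries F} {v : K} (hv : LocRes.vDiff χ 1 v ≠ 0) :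
    LocRes.vDiff χ 1 v = WithZero.exp (-LocRes.ordDiff χ 1 v) := by
  unfold LocRes.ordDiff
  rw [neg_neg, WithZero.exp_log hv]

/-- The traced residue of `u dv` vanishes when `u dv` is regular. -/
theorem locRes_eq_zero_of_vDiff_le_one (χ : K →ₐ[k] LaurentSeries F) {u v : K}
    (h : LocRes.vDiff χ u v ≤ 1) : LocRes.locRes χ u v = 0 := by
  unfold LocRes.locRes LocRes.resExp
  rw [res_eq_zero_of_val_le_one h, map_zero]

/-- **Local duality**: an element whose products with all `a` with `a dv` regular have residue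
zero against `dv` is integral. -/
theorem val_le_one_of_locRes_eq_zero [FiniteDimensional k F] [Algebra.IsSeparable k F]
    {P : Place k K} {χ : K →ₐ[k] LaurentSeries F} (hχ : LocRes.IsExpansionAt P.1 χ)
    {v : K} (hv : LocRes.vDiff χ 1 v ≠ 0) {u : K}
    (h : ∀ a : K, P.1 a ≤ WithZero.exp (LocRes.ordDiff χ 1 v) → LocRes.locRes χ (a * u) v = 0) :
    P.1 u ≤ 1 := by
  by_contra hu
  rw [not_le] at hu
  have hu0 : u ≠ 0 := by
    rintro rfl
    rw [Valuation.map_zero] at hu
    exact not_lt_zero hu
  have hne : χ u * LocRes.D F (χ v) ≠ 0 := by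
    intro h0
    have h1 : LocRes.vDiff χ u v = 0 := by
      unfold LocRes.vDiff
      rw [h0, Valuation.map_zero]
    rw [vDiff_eq_mul hχ, mul_eq_zero] at h1
    rcases h1 with h1 | h1
    · exact hu0 ((Valuation.zero_iff _).1 h1)
    · exact hv h1
  obtain ⟨a, ha, hres⟩ := exists_locRes_mul_ne_zero' hχ hne
  apply hres
  apply h
  apply le_trans ha
  rw [WithZero.exp_le_exp, ordDiff_eq_add hχ hu0 hv]
  have : P.ord u < 0 := by
    have hu1 : P.1 u ≠ 0 := (Valuation.ne_zero_iff _).2 hu0
    have hu2 : WithZero.exp (0 : ℤ) < WithZero.exp (WithZero.log (P.1 u)) := by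
      rw [WithZero.exp_log hu1, WithZero.exp_zero]; exact hu
    have hu3 := WithZero.exp_lt_exp.1 hu2
    show -WithZero.log (P.1 u) < 0
    omega
  omega

end single

section ext

variable {k : Type u} {K K' : Type v} [Field k] [Field K] [Field K'] [Algebra k K] [Algebra K K']
  [Algebra k K'] [IsScalarTower k K K']
variable {F F' : Type w} [Field F] [Algebra k F] [Field F'] [Algebra k F']

/-- For a place of residue degree one over `P`, the coefficient fields of expansions below and
above are isomorphic over the constants. -/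
theorem exists_coeffEquiv {P : Place k K} {Q : Place k K'} [P.1.HasExtension Q.1]
    (hf : Function.Surjective
      (algebraMap (IsLocalRing.ResidueField P.O) (IsLocalRing.ResidueField Q.O)))
    {φ : K →ₐ[k] LaurentSeries F} (hφ : LocRes.IsExpansionAt P.1 φ)
    {ψ : K' →ₐ[k] LaurentSeries F'} (hψ : LocRes.IsExpansionAt Q.1 ψ) :
    Nonempty (F ≃ₐ[k] F') := by
  obtain ⟨τP, -⟩ := exists_resEquiv P φ hφ
  obtain ⟨τQ, -⟩ := exists_resEquiv Q ψ hψ
  let mid : IsLocalRing.ResidueField P.O →ₐ[k] IsLocalRing.ResidueField Q.O :=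
    { algebraMap (IsLocalRing.ResidueField P.O) (IsLocalRing.ResidueField Q.O) with
      commutes' := by
        intro c
        show algebraMap (IsLocalRing.ResidueField P.O) (IsLocalRing.ResidueField Q.O)
          (IsLocalRing.residue P.O (algebraMap k P.O c)) =
            IsLocalRing.residue Q.O (algebraMap k Q.O c)
        rw [Valuation.HasExtension.algebraMap_residue_eq_residue_algebraMap]
        congr 1
        apply Subtype.ext
        rw [Valuation.HasExtension.coe_algebraMap_valuationSubring_eq]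
        show algebraMap K K' (algebraMap k K c) = algebraMap k K' c
        rw [← IsScalarTower.algebraMap_apply] }
  have hbij : Function.Bijective mid :=
    ⟨(algebraMap (IsLocalRing.ResidueField P.O) (IsLocalRing.ResidueField Q.O)).injective, hf⟩
  exact ⟨(τP.symm.trans (AlgEquiv.ofBijective mid hbij)).trans τQ⟩

end ext

end Groth.Agent.Lib.helper10.Tate
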