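import Mathlib
import Groth.Agent.Lib.Helper10.FunFld39
import Groth.Agent.Lib.Helper10.LocRes4
import Groth.Agent.Lib.Helper10.Tate15

/-!
# The expansion of the rational function field at the origin (helper10)
-/

set_option autoImplicit false
set_option linter.style.haveILetI false
set_option linter.unusedSectionVars false
set_option linter.unusedVariables false

universe u v w

open FunFld LaurentSeries Polynomial

namespace Groth.Agent.Lib.helper10.Adj

open FF RD Tate
open scoped RatFunc

variable {k : Type u} [Field k]

/-- The value of a polynomial at a place of `k(X)` where `X` vanishes. -/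
theorem val_polynomial_of_X_lt_one (P : Place k (RatFunc k)) (h : P.1 RatFunc.X < 1)
    {q : k[X]} (hq : q ≠ 0) :
    P.1 (algebraMap k[X] (RatFunc k) q) = WithZero.exp (-(multiplicity (X : k[X]) q : ℤ)) := by
  have hirr : Irreducible (X : k[X]) := Polynomial.irreducible_X
  have hX : P.1 (algebraMap k[X] (RatFunc k) X) < 1 := by rwa [RatFunc.algebraMap_X]
  have hfin : FiniteMultiplicity (X : k[X]) q :=
    FiniteMultiplicity.of_not_isUnit hirr.not_isUnit hq
  obtain ⟨c, hc, hnd⟩ := hfin.exists_eq_pow_mul_and_not_dvd
  conv_lhs => rw [hc]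
  rw [map_mul, map_pow, Valuation.map_mul, Valuation.map_pow,
    Place.val_eq_one_of_not_dvd P hirr hX hnd, mul_one, Place.val_irreducible_eq P hirr hX,
    ← WithZero.exp_nsmul]
  congr 1
  simp

/-- Two places of `k(X)` at which `X` vanishes coincide. -/
theorem place_eq_of_val_X_lt_one (P₁ P₂ : Place k (RatFunc k)) (h₁ : P₁.1 RatFunc.X < 1)
    (h₂ : P₂.1 RatFunc.X < 1) : P₁ = P₂ := by
  apply Subtype.ext
  apply Valuation.ext
  intro f
  by_cases hf : f = 0
  · rw [hf, Valuation.map_zero, Valuation.map_zero]
  rw [← RatFunc.num_div_denom f, map_div₀, map_div₀,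
    val_polynomial_of_X_lt_one P₁ h₁ (RatFunc.num_ne_zero hf),
    val_polynomial_of_X_lt_one P₁ h₁ (RatFunc.denom_ne_zero f),
    val_polynomial_of_X_lt_one P₂ h₂ (RatFunc.num_ne_zero hf),
    val_polynomial_of_X_lt_one P₂ h₂ (RatFunc.denom_ne_zero f)]

/-- The coercion of rational functions to Laurent series, as an algebra homomorphism. -/
noncomputable def coeHom : RatFunc k →ₐ[k] LaurentSeries k :=
  { algebraMap (RatFunc k) (LaurentSeries k) with
    commutes' := fun c => by
      show algebraMap (RatFunc k) (LaurentSeries k) (algebraMap k (RatFunc k) c) =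
        algebraMap k (LaurentSeries k) c
      rw [RatFunc.algebraMap_eq_C, ← RatFunc.algebraMap_C,
        ← IsScalarTower.algebraMap_apply k[X] (RatFunc k) (LaurentSeries k)]
      simp
      rw [HahnSeries.algebraMap_apply', PowerSeries.algebraMap_apply, HahnSeries.ofPowerSeries_C]
      rfl }

theorem coeHom_apply (f : RatFunc k) : coeHom f = (f : LaurentSeries k) := rfl

theorem val_coeHom_X : Valued.v (coeHom (RatFunc.X : RatFunc k)) = WithZero.exp (-(1 : ℤ)) := by
  rw [coeHom_apply, RatFunc.coe_X, LaurentSeries.valuation_single_zpow]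

/-- The valuation of `k(X)` at the origin, defined through the coercion to Laurent series. -/
noncomputable def valZero : Valuation (RatFunc k) (WithZero (Multiplicative ℤ)) :=
  (Valued.v : Valuation (LaurentSeries k) _).comap (coeHom (k := k)).toRingHom

theorem valZero_apply (f : RatFunc k) : valZero f = Valued.v (coeHom f) := rfl

/-- The place of `k(X)` at the origin, defined through the coercion to Laurent series. -/
noncomputable def placeZero : Place k (RatFunc k) :=
  ⟨valZero,
    by
      intro c
      rw [valZero_apply, AlgHom.commutes]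
      by_cases hc : c = 0
      · rw [hc, map_zero, Valuation.map_zero]
        exact zero_le
      · exact le_of_eq (val_algebraMap_laurent hc),
    by
      intro γ
      by_cases hγ : γ = 0
      · exact ⟨0, by rw [hγ]; exact Valuation.map_zero _⟩
      · refine ⟨RatFunc.X ^ (-(WithZero.log γ)), ?_⟩
        rw [valZero_apply, map_zpow₀, map_zpow₀, val_coeHom_X, ← WithZero.exp_zsmul]
        conv_rhs => rw [← WithZero.exp_log hγ]
        congr 1
        simp⟩

theorem placeZero_val (f : RatFunc k) : (placeZero (k := k)).1 f = Valued.v (coeHom f) := rfl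

/-- The coercion to Laurent series is an expansion at any place of `k(X)` where `X` vanishes. -/
theorem isExpansionAt_coeHom (P : Place k (RatFunc k)) (h : P.1 RatFunc.X < 1) :
    LocRes.IsExpansionAt P.1 (coeHom (k := k)) := by
  have h0 : (placeZero (k := k)).1 RatFunc.X < 1 := by
    rw [placeZero_val, val_coeHom_X, ← WithZero.exp_zero, WithZero.exp_lt_exp]
    norm_num
  have hP : P = placeZero := place_eq_of_val_X_lt_one P placeZero h h0
  refine ⟨fun f => ?_, fun a => ?_, Place.exists_uniformizer P⟩
  · rw [hP, placeZero_val]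
  · refine ⟨algebraMap k (RatFunc k) a, P.2.1 a, ?_⟩
    rw [AlgHom.commutes, HahnSeries.algebraMap_apply', PowerSeries.algebraMap_apply,
      HahnSeries.ofPowerSeries_C]
    show (HahnSeries.single 0 _).coeff 0 = _
    rw [HahnSeries.coeff_single_same]
    rfl

theorem vDiff_coeHom_X (P : Place k (RatFunc k)) (h : P.1 RatFunc.X < 1) :
    LocRes.vDiff (coeHom (k := k)) 1 RatFunc.X = 1 := by
  unfold LocRes.vDiff
  rw [map_one, one_mul]
  exact val_DX_fin_unram' P h.le coeHom (isExpansionAt_coeHom P h).1

theorem ordDiff_coeHom_X (P : Place k (RatFunc k)) (h : P.1 RatFunc.X < 1) :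
    LocRes.ordDiff (coeHom (k := k)) 1 RatFunc.X = 0 := by
  unfold LocRes.ordDiff
  rw [vDiff_coeHom_X P h, WithZero.log_one, neg_zero]

end Groth.Agent.Lib.helper10.Adj
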