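import Mathlib

/-!
Plane curves, algebraic part (helper10): the kernel of `k[X, Y] → K`, `X ↦ x`, `Y ↦ y` is
principal when `x` is transcendental and `y` algebraic over `k(x)`; the Hilbert function of the
image filtration by total degree.
-/

set_option autoImplicit false
set_option linter.unusedSectionVars false
set_option linter.style.haveILetI false

universe u v

open IntermediateField Polynomial
open scoped Polynomial.Bivariate

namespace Groth.Agent.Lib.helper10

namespace PA

variable {k : Type u} {K : Type v} [Field k] [Field K] [Algebra k K]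

/-- The kernel of the evaluation `k[X][Y] → K` at `(x, y)` is principal. -/
theorem ker_aevalAeval_principal (x y : K) (hx : Transcendental k x)
    (hy : IsAlgebraic k⟮x⟯ y) :
    ∃ F₀ : k[X][Y], F₀ ≠ 0 ∧ ∀ G : k[X][Y], aevalAeval x y G = 0 ↔ F₀ ∣ G := by
  classical
  set gen : k⟮x⟯ := AdjoinSimple.gen k x with hgen
  have hinj : Function.Injective (Polynomial.aeval (R := k) gen) := by
    intro p q hpq
    have h1 : Polynomial.aeval x p = Polynomial.aeval x q := by
      have := congrArg (algebraMap ↥k⟮x⟯ K) hpq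
      rw [← Polynomial.aeval_algebraMap_apply, ← Polynomial.aeval_algebraMap_apply] at this
      exact this
    exact (transcendental_iff_injective.mp hx) h1
  letI alg : Algebra k[X] k⟮x⟯ := (Polynomial.aeval (R := k) gen).toRingHom.toAlgebra
  have halg : ∀ p : k[X], algebraMap k[X] k⟮x⟯ p = Polynomial.aeval gen p := fun p => rfl
  haveI : FaithfulSMul k[X] k⟮x⟯ := (faithfulSMul_iff_algebraMap_injective _ _).mpr hinj
  haveI : IsFractionRing k[X] k⟮x⟯ := by
    refine IsFractionRing.of_field _ _ ?_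
    intro z
    obtain ⟨r, s, hrs⟩ := (IntermediateField.mem_adjoin_simple_iff k z.1).mp z.2
    refine ⟨r, s, ?_⟩
    apply Subtype.ext
    rw [halg, halg]
    push_cast
    rw [hrs]
    congr 1
    · exact Polynomial.aeval_algebraMap_apply K gen r
    · exact Polynomial.aeval_algebraMap_apply K gen s
  letI : NormalizedGCDMonoid k[X] := UniqueFactorizationMonoid.toNormalizedGCDMonoid _
  -- the comparison of the two evaluations
  let ψ : k[X][Y] →ₐ[k] K :=
    ((Polynomial.aeval (R := ↥k⟮x⟯) y).restrictScalars k).comp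
      (Polynomial.mapAlgHom (Polynomial.aeval (R := k) gen))
  have hψ : ∀ G : k[X][Y], aevalAeval x y G =
      Polynomial.aeval y (G.map (algebraMap k[X] ↥k⟮x⟯)) := by
    intro G
    have h1 := (aevalAevalEquiv k K).right_inv ψ
    have h2 : ψ (C X) = x := by
      simp [ψ, gen]
    have h3 : ψ Y = y := by
      simp [ψ]
    have h4 : aevalAeval x y = ψ := by
      rw [← h1]
      show aevalAeval x y = aevalAeval (ψ (C X)) (ψ Y)
      rw [h2, h3]
    rw [h4]
    rfl
  have hyint : IsIntegral ↥k⟮x⟯ y := hy.isIntegral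
  set μ := minpoly ↥k⟮x⟯ y with hμ
  have hμ0 : μ ≠ 0 := minpoly.ne_zero hyint
  set p := IsLocalization.integerNormalization (nonZeroDivisors k[X]) μ with hp
  obtain ⟨b, hb, hbp⟩ := IsLocalization.integerNormalization_spec (nonZeroDivisors k[X]) μ
  have hp0 : p ≠ 0 := mt IsFractionRing.integerNormalization_eq_zero_iff.mp hμ0
  have hbp' : p.map (algebraMap k[X] ↥k⟮x⟯) = C (algebraMap k[X] ↥k⟮x⟯ b) * μ := by
    rw [hbp, Algebra.smul_def]; rfl
  have hb0 : b ≠ 0 := nonZeroDivisors.ne_zero hb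
  set F₀ := p.primPart with hF₀
  have hprim : F₀.IsPrimitive := Polynomial.isPrimitive_primPart p
  have hpF : p = C p.content * F₀ := Polynomial.eq_C_content_mul_primPart p
  have hc0 : p.content ≠ 0 := Polynomial.content_eq_zero_iff.not.mpr hp0
  have hF0 : F₀ ≠ 0 := Polynomial.primPart_ne_zero p
  -- `F₀` vanishes at `(x, y)`
  have hevp : aevalAeval x y p = 0 := by
    rw [hψ, hbp', map_mul, minpoly.aeval, mul_zero]
  have hevF : aevalAeval x y F₀ = 0 := by
    rw [hpF, map_mul] at hevp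
    rcases mul_eq_zero.mp hevp with h | h
    · exfalso
      rw [aevalAeval_C] at h
      exact hc0 ((transcendental_iff_injective.mp hx) (by rw [h, map_zero]))
    · exact h
  refine ⟨F₀, hF0, fun G => ⟨fun hG => ?_, fun hG => ?_⟩⟩
  · rw [hψ] at hG
    have h1 : μ ∣ G.map (algebraMap k[X] ↥k⟮x⟯) := minpoly.dvd _ _ hG
    have h2 : F₀.map (algebraMap k[X] ↥k⟮x⟯) ∣ p.map (algebraMap k[X] ↥k⟮x⟯) := by
      rw [hpF, Polynomial.map_mul]
      exact Dvd.intro_left _ rfl
    rw [hbp'] at h2
    have hbu : IsUnit (C (algebraMap k[X] ↥k⟮x⟯ b) : (↥k⟮x⟯)[X]) := by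
      apply Polynomial.isUnit_C.mpr
      apply IsUnit.mk0
      intro h0
      exact hb0 (hinj (by rw [← halg, h0, map_zero]))
    have h3 : F₀.map (algebraMap k[X] ↥k⟮x⟯) ∣ μ := (IsUnit.dvd_mul_left hbu).mp h2
    exact hprim.dvd_of_fraction_map_dvd_fraction_map (h3.trans h1)
  · obtain ⟨H, rfl⟩ := hG
    rw [map_mul, hevF, zero_mul]

/-- The kernel of the evaluation `k[X, Y] → K` at `(x, y)` is principal, in `MvPolynomial`. -/
theorem ker_aeval_fin2_principal (x y : K) (hx : Transcendental k x)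
    (hy : IsAlgebraic k⟮x⟯ y) :
    ∃ f : MvPolynomial (Fin 2) k, f ≠ 0 ∧
      ∀ G : MvPolynomial (Fin 2) k, MvPolynomial.aeval ![x, y] G = 0 ↔ f ∣ G := by
  obtain ⟨F₀, hF0, hF⟩ := ker_aevalAeval_principal x y hx hy
  set e := Polynomial.Bivariate.equivMvPolynomial k with he
  have hcomp : ∀ H : k[X][Y], MvPolynomial.aeval ![x, y] (e H) = aevalAeval x y H := by
    intro H
    let ψ : k[X][Y] →ₐ[k] K := (MvPolynomial.aeval ![x, y]).comp e.toAlgHom
    have h1 := (aevalAevalEquiv k K).right_inv ψ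
    have h2 : ψ (C X) = x := by
      simp [ψ, e]
    have h3 : ψ Y = y := by
      simp [ψ, e]
    have h4 : aevalAeval x y = ψ := by
      rw [← h1]
      show aevalAeval x y = aevalAeval (ψ (C X)) (ψ Y)
      rw [h2, h3]
    rw [h4]
    rfl
  refine ⟨e F₀, fun h => hF0 (by simpa using h), fun G => ?_⟩
  have hG : G = e (e.symm G) := (e.apply_symm_apply G).symm
  rw [hG, hcomp, hF]
  constructor
  · rintro ⟨H, hH⟩
    exact ⟨e H, by rw [hH, map_mul]⟩
  · rintro ⟨H, hH⟩
    refine ⟨e.symm H, ?_⟩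
    apply e.injective
    rw [hH, map_mul, e.apply_symm_apply]

/-! ### Counting monomials of bounded total degree in two variables -/

theorem two_mul_sum_range_succ (m : ℕ) :
    2 * ∑ s ∈ Finset.range (m + 1), (s + 1) = (m + 1) * (m + 2) := by
  induction m with
  | zero => simp
  | succ n ih =>
    rw [Finset.sum_range_succ, mul_add, ih]
    ring

theorem card_pairs_le (m : ℕ) :
    2 * Nat.card {p : ℕ × ℕ // p.1 + p.2 ≤ m} = (m + 1) * (m + 2) := by
  classical
  let T : Finset (ℕ × ℕ) := (Finset.range (m + 1)).biUnion fun s => Finset.HasAntidiagonal.antidiagonal s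
  have hT : ∀ p : ℕ × ℕ, p ∈ T ↔ p.1 + p.2 ≤ m := by
    intro p
    simp only [T, Finset.mem_biUnion, Finset.mem_range, Finset.HasAntidiagonal.mem_antidiagonal]
    constructor
    · rintro ⟨s, hs, h⟩; omega
    · intro h; exact ⟨p.1 + p.2, by omega, rfl⟩
  have hcard : T.card = ∑ s ∈ Finset.range (m + 1), (s + 1) := by
    rw [Finset.card_biUnion]
    · refine Finset.sum_congr rfl fun s _ => ?_
      exact Finset.Nat.card_antidiagonal s
    · intro a _ b _ hab
      rw [Function.onFun, Finset.disjoint_left]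
      intro p hp hq
      rw [Finset.HasAntidiagonal.mem_antidiagonal] at hp hq
      exact hab (hp.symm.trans hq)
  have : Nat.card {p : ℕ × ℕ // p.1 + p.2 ≤ m} = T.card := by
    rw [← Nat.card_eq_finsetCard]
    apply Nat.card_congr
    exact Equiv.subtypeEquivRight fun p => (hT p).symm
  rw [this, hcard, two_mul_sum_range_succ]

theorem two_mul_finrank_restrictTotalDegree (m : ℕ) :
    2 * Module.finrank k (MvPolynomial.restrictTotalDegree (Fin 2) k m) = (m + 1) * (m + 2) := by
  classical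
  have h1 := Module.finrank_eq_nat_card_basis
    (MvPolynomial.basisRestrictSupport k {n : Fin 2 →₀ ℕ | (n.sum fun _ e => e) ≤ m})
  have h2 : Module.finrank k (MvPolynomial.restrictTotalDegree (Fin 2) k m) =
      Nat.card ↥{n : Fin 2 →₀ ℕ | (n.sum fun _ e => e) ≤ m} := h1
  rw [h2, ← card_pairs_le m]
  congr 1
  apply Nat.card_congr
  let Φ : (Fin 2 →₀ ℕ) ≃ ℕ × ℕ := Finsupp.equivFunOnFinite.trans (finTwoArrowEquiv ℕ)
  refine Equiv.subtypeEquiv Φ ?_
  intro n
  have : (n.sum fun _ e => e) = n 0 + n 1 := by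
    rw [Finsupp.sum_fintype _ _ (fun _ => rfl), Fin.sum_univ_two]
  simp only [Set.mem_ofPred_eq, this]
  rfl

/-! ### The image filtration -/

/-- The image in `K` of the polynomials of total degree at most `m` under `X ↦ x`, `Y ↦ y`. -/
noncomputable def Sm (k : Type u) {K : Type v} [Field k] [Field K] [Algebra k K] (x y : K)
    (m : ℕ) : Submodule k K :=
  (MvPolynomial.restrictTotalDegree (Fin 2) k m).map (MvPolynomial.aeval ![x, y]).toLinearMap

theorem mem_Sm {x y : K} {m : ℕ} {z : K} :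
    z ∈ Sm k x y m ↔ ∃ p : MvPolynomial (Fin 2) k, p.totalDegree ≤ m ∧
      MvPolynomial.aeval ![x, y] p = z := by
  unfold Sm
  rw [Submodule.mem_map]
  constructor
  · rintro ⟨p, hp, rfl⟩
    exact ⟨p, (MvPolynomial.mem_restrictTotalDegree _ _ _).mp hp, rfl⟩
  · rintro ⟨p, hp, rfl⟩
    exact ⟨p, (MvPolynomial.mem_restrictTotalDegree _ _ _).mpr hp, rfl⟩

theorem Sm_mono (x y : K) {m n : ℕ} (h : m ≤ n) : Sm k x y m ≤ Sm k x y n := by
  intro z hz
  rw [mem_Sm] at hz ⊢
  obtain ⟨p, hp, rfl⟩ := hz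
  exact ⟨p, hp.trans h, rfl⟩

theorem algebraMap_mem_Sm (x y : K) (m : ℕ) (c : k) : algebraMap k K c ∈ Sm k x y m := by
  rw [mem_Sm]
  exact ⟨MvPolynomial.C c, by rw [MvPolynomial.totalDegree_C]; exact Nat.zero_le _, by simp⟩

theorem one_mem_Sm (x y : K) (m : ℕ) : (1 : K) ∈ Sm k x y m := by
  have := algebraMap_mem_Sm (k := k) x y m 1
  rwa [map_one] at this

theorem x_mem_Sm (x y : K) : x ∈ Sm k x y 1 := by
  rw [mem_Sm]
  exact ⟨MvPolynomial.X 0, by rw [MvPolynomial.totalDegree_X], by simp⟩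

theorem y_mem_Sm (x y : K) : y ∈ Sm k x y 1 := by
  rw [mem_Sm]
  exact ⟨MvPolynomial.X 1, by rw [MvPolynomial.totalDegree_X], by simp⟩

theorem mul_mem_Sm {x y : K} {m n : ℕ} {a b : K} (ha : a ∈ Sm k x y m) (hb : b ∈ Sm k x y n) :
    a * b ∈ Sm k x y (m + n) := by
  rw [mem_Sm] at ha hb ⊢
  obtain ⟨p, hp, rfl⟩ := ha
  obtain ⟨q, hq, rfl⟩ := hb
  exact ⟨p * q, (MvPolynomial.totalDegree_mul p q).trans (add_le_add hp hq), by
    rw [map_mul]⟩

theorem pow_mem_Sm {x y : K} {m : ℕ} {a : K} (ha : a ∈ Sm k x y m) (n : ℕ) :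
    a ^ n ∈ Sm k x y (n * m) := by
  induction n with
  | zero => rw [pow_zero]; exact one_mem_Sm x y _
  | succ n ih =>
    rw [pow_succ, Nat.succ_mul]
    exact mul_mem_Sm ih ha

theorem aeval_monomial_fin2 (x y : K) (n : Fin 2 →₀ ℕ) (c : k) :
    MvPolynomial.aeval ![x, y] (MvPolynomial.monomial n c) =
      algebraMap k K c * (x ^ n 0 * y ^ n 1) := by
  rw [MvPolynomial.aeval_monomial, Finsupp.prod_fintype _ _ (fun i => pow_zero _),
    Fin.prod_univ_two]
  rfl

theorem Sm_le_of_monomials (x y : K) (m : ℕ) (V : Submodule k K)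
    (h : ∀ a b : ℕ, a + b ≤ m → x ^ a * y ^ b ∈ V) : Sm k x y m ≤ V := by
  unfold Sm MvPolynomial.restrictTotalDegree
  rw [MvPolynomial.restrictSupport_eq_span, Submodule.map_span, Submodule.span_le]
  rintro _ ⟨_, ⟨n, hn, rfl⟩, rfl⟩
  have hn' : n 0 + n 1 ≤ m := by
    have : (n.sum fun _ e => e) = n 0 + n 1 := by
      rw [Finsupp.sum_fintype _ _ (fun _ => rfl), Fin.sum_univ_two]
    rw [← this]
    exact hn
  show MvPolynomial.aeval ![x, y] (MvPolynomial.monomial n 1) ∈ V
  rw [aeval_monomial_fin2, map_one, one_mul]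
  exact h _ _ hn'

theorem monomial_mem_Sm (x y : K) {a b m : ℕ} (h : a + b ≤ m) : x ^ a * y ^ b ∈ Sm k x y m := by
  have h1 := pow_mem_Sm (x_mem_Sm (k := k) x y) a
  have h2 := pow_mem_Sm (y_mem_Sm (k := k) x y) b
  have h3 := mul_mem_Sm h1 h2
  exact Sm_mono x y (by omega) h3

instance (x y : K) (m : ℕ) : Module.Finite k (Sm k x y m) := by
  unfold Sm
  exact Module.Finite.map _ _

/-- The Hilbert function of the image filtration. -/
theorem finrank_Sm (x y : K) (f : MvPolynomial (Fin 2) k) (hf0 : f ≠ 0)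
    (hf : ∀ G : MvPolynomial (Fin 2) k, MvPolynomial.aeval ![x, y] G = 0 ↔ f ∣ G)
    {m : ℕ} (hm : f.totalDegree ≤ m) :
    Module.finrank k (Sm k x y m) +
        Module.finrank k (MvPolynomial.restrictTotalDegree (Fin 2) k (m - f.totalDegree)) =
      Module.finrank k (MvPolynomial.restrictTotalDegree (Fin 2) k m) := by
  classical
  set e := f.totalDegree with he
  set ev : MvPolynomial (Fin 2) k →ₗ[k] K := (MvPolynomial.aeval ![x, y]).toLinearMap with hev
  set Pm := MvPolynomial.restrictTotalDegree (Fin 2) k m with hPm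
  set Pe := MvPolynomial.restrictTotalDegree (Fin 2) k (m - e) with hPe
  have h1 := LinearMap.finrank_range_add_finrank_ker (ev.domRestrict Pm)
  rw [LinearMap.range_domRestrict] at h1
  have hmulmem : ∀ G ∈ Pe, LinearMap.mulLeft k f G ∈ Pm := by
    intro G hG
    rw [hPe, MvPolynomial.mem_restrictTotalDegree] at hG
    rw [hPm, MvPolynomial.mem_restrictTotalDegree, LinearMap.mulLeft_apply]
    refine (MvPolynomial.totalDegree_mul f G).trans ?_
    omega
  let g : ↥Pe →ₗ[k] ↥Pm := (LinearMap.mulLeft k f).restrict hmulmem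
  have hginj : Function.Injective g := by
    intro a b hab
    have h2 : f * (a : MvPolynomial (Fin 2) k) = f * b := congrArg Subtype.val hab
    exact Subtype.ext (mul_left_cancel₀ hf0 h2)
  have hrange : LinearMap.range g = LinearMap.ker (ev.domRestrict Pm) := by
    ext ⟨H, hH⟩
    rw [LinearMap.mem_range, LinearMap.mem_ker, LinearMap.domRestrict_apply]
    show _ ↔ MvPolynomial.aeval ![x, y] H = 0
    rw [hf]
    constructor
    · rintro ⟨⟨G, hG⟩, hGH⟩
      have : f * G = H := congrArg Subtype.val hGH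
      exact ⟨G, this.symm⟩
    · rintro ⟨G, rfl⟩
      have hG : G ∈ Pe := by
        rw [hPe, MvPolynomial.mem_restrictTotalDegree]
        by_cases hG0 : G = 0
        · rw [hG0, MvPolynomial.totalDegree_zero]; exact Nat.zero_le _
        · rw [hPm, MvPolynomial.mem_restrictTotalDegree,
            MvPolynomial.totalDegree_mul_of_isDomain hf0 hG0] at hH
          omega
      exact ⟨⟨G, hG⟩, Subtype.ext rfl⟩
  have h2 := LinearMap.finrank_range_of_inj hginj
  rw [hrange] at h2
  rw [← h1, h2]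
  rfl

/-- The Hilbert function, numerically. -/
theorem two_mul_finrank_Sm (x y : K) (f : MvPolynomial (Fin 2) k) (hf0 : f ≠ 0)
    (hf : ∀ G : MvPolynomial (Fin 2) k, MvPolynomial.aeval ![x, y] G = 0 ↔ f ∣ G)
    {m : ℕ} (hm : f.totalDegree ≤ m) :
    (2 : ℤ) * Module.finrank k (Sm k x y m) =
      2 * f.totalDegree * m + 3 * f.totalDegree - (f.totalDegree : ℤ) ^ 2 := by
  have h1 := finrank_Sm x y f hf0 hf hm
  have h2 := two_mul_finrank_restrictTotalDegree (k := k) m
  have h3 := two_mul_finrank_restrictTotalDegree (k := k) (m - f.totalDegree)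
  have h1' : ((Module.finrank k (Sm k x y m) : ℕ) : ℤ) +
        Module.finrank k (MvPolynomial.restrictTotalDegree (Fin 2) k (m - f.totalDegree)) =
      Module.finrank k (MvPolynomial.restrictTotalDegree (Fin 2) k m) := by exact_mod_cast h1
  have h2' : (2 : ℤ) * Module.finrank k (MvPolynomial.restrictTotalDegree (Fin 2) k m) =
      ((m : ℤ) + 1) * (m + 2) := by exact_mod_cast h2
  have h3' : (2 : ℤ) * Module.finrank k
      (MvPolynomial.restrictTotalDegree (Fin 2) k (m - f.totalDegree)) =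
      ((m : ℤ) - f.totalDegree + 1) * ((m : ℤ) - f.totalDegree + 2) := by
    have : ((m - f.totalDegree : ℕ) : ℤ) = (m : ℤ) - f.totalDegree := by
      rw [Nat.cast_sub hm]
    rw [← this]
    exact_mod_cast h3
  nlinarith

end PA

end Groth.Agent.Lib.helper10
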