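import Groth.Agent.Lib.Helper10.FunFld31
import Groth.Agent.Lib.Helper10.PlaneAlg

/-!
Function fields of one variable (helper10), part 32: plane models — the genus formula
`2g = (d - 1)(d - 2)` holds exactly for nonsingular plane models.
-/

set_option autoImplicit false
set_option linter.unusedSectionVars false
set_option linter.style.haveILetI false

universe u v w

open IntermediateField FunFld Polynomial

namespace Groth.Agent.Lib.helper10

namespace FF

open RD PA

variable {k : Type u} {K : Type v} [Field k] [Field K] [Algebra k K]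

theorem exists_generic_form' (hK : IsFunctionField k K) [IsAlgClosed k] (x y : K)
    (hxy : IntermediateField.adjoin k ({x, y} : Set K) = ⊤) :
    ∃ x' y' : K, x' ∈ L (mapDiv k ![(1 : K), x, y]) ∧ y' ∈ L (mapDiv k ![(1 : K), x, y]) ∧
      Transcendental k x' ∧ polesDiv k x' = mapDiv k ![(1 : K), x, y] ∧
      IntermediateField.adjoin k ({x', y'} : Set K) = ⊤ ∧
      (∃ b c : k, x' = b • x + c • y) ∧ (y' = y ∨ y' = x) := by
  classical
  set D : Divisor k K := mapDiv k ![(1 : K), x, y] with hD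
  have hexp : ∀ Q : Place k K, WithZero.exp (D Q) = max 1 (max (Q.1 x) (Q.1 y)) :=
    fun Q => exp_mapDiv_plane hK x y Q
  have hD0 : 0 ≤ D := by
    intro Q
    have : (1 : WithZero (Multiplicative ℤ)) ≤ WithZero.exp (D Q) := by
      rw [hexp]; exact le_max_left _ _
    rwa [← WithZero.exp_zero, WithZero.exp_le_exp] at this
  have hxL : x ∈ L D := fun Q => by
    rw [hexp]; exact le_trans (le_max_left _ _) (le_max_right _ _)
  have hyL : y ∈ L D := fun Q => by
    rw [hexp]; exact le_trans (le_max_right _ _) (le_max_right _ _)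
  -- the support is nonempty
  have hsupp : D.support.Nonempty := by
    by_contra hemp
    rw [Finset.not_nonempty_iff_eq_empty, Finsupp.support_eq_empty] at hemp
    have hx0 : x ∈ L (0 : Divisor k K) := hemp ▸ hxL
    have hy0 : y ∈ L (0 : Divisor k K) := hemp ▸ hyL
    rw [L_zero hK, Submodule.one_eq_range] at hx0 hy0
    obtain ⟨a, ha⟩ := hx0
    obtain ⟨b, hb⟩ := hy0
    obtain ⟨⟨t, ht, -⟩, -⟩ := id hK
    have htop : t ∈ IntermediateField.adjoin k ({x, y} : Set K) := by rw [hxy]; trivial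
    have hle : IntermediateField.adjoin k ({x, y} : Set K) ≤ ⊥ := by
      rw [IntermediateField.adjoin_le_iff]
      rintro z (rfl | hz)
      · rw [← ha]; exact (⊥ : IntermediateField k K).algebraMap_mem a
      · rw [Set.mem_singleton_iff.mp hz, ← hb]
        exact (⊥ : IntermediateField k K).algebraMap_mem b
    have := hle htop
    rw [IntermediateField.mem_bot] at this
    obtain ⟨c, rfl⟩ := this
    exact ht (isAlgebraic_algebraMap c)
  let T : (k × k) →ₗ[k] K :=
    (LinearMap.toSpanSingleton k K x).coprod (LinearMap.toSpanSingleton k K y)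
  have hT : ∀ p : k × k, T p = p.1 • x + p.2 • y := fun p => by simp [T]
  let p : ↥(D.support : Set (Place k K)) → Submodule k (k × k) :=
    fun Q => Submodule.comap T (Place.ball Q.1 (D Q.1 - 1))
  have hDpos : ∀ Q ∈ D.support, WithZero.exp (D Q) = max (Q.1 x) (Q.1 y) := by
    intro Q hQ
    rw [Finsupp.mem_support_iff] at hQ
    have h1 : (1 : WithZero (Multiplicative ℤ)) < WithZero.exp (D Q) := by
      rw [← WithZero.exp_zero, WithZero.exp_lt_exp]
      have := hD0 Q
      simp only [Finsupp.coe_zero, Pi.zero_apply] at this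
      omega
    rw [hexp] at h1 ⊢
    rcases max_choice 1 (max (Q.1 x) (Q.1 y)) with h | h
    · rw [h] at h1; exact absurd h1 (lt_irrefl _)
    · exact h
  have hp : ∀ Q, p Q ≠ ⊤ := by
    intro Q htop
    have hQ := hDpos Q.1 Q.2
    have hlt : WithZero.exp (D Q.1 - 1) < WithZero.exp (D Q.1) := by
      rw [WithZero.exp_lt_exp]; omega
    rcases max_choice (Q.1.1 x) (Q.1.1 y) with h | h
    · have : ((1, 0) : k × k) ∈ p Q := by rw [htop]; trivial
      have h2 : Q.1.1 (T (1, 0)) ≤ WithZero.exp (D Q.1 - 1) := this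
      rw [hT] at h2
      simp only [one_smul, zero_smul, add_zero] at h2
      rw [← h, ← hQ] at h2
      exact absurd h2 (not_le.mpr hlt)
    · have : ((0, 1) : k × k) ∈ p Q := by rw [htop]; trivial
      have h2 : Q.1.1 (T (0, 1)) ≤ WithZero.exp (D Q.1 - 1) := this
      rw [hT] at h2
      simp only [one_smul, zero_smul, zero_add] at h2
      rw [← h, ← hQ] at h2
      exact absurd h2 (not_le.mpr hlt)
  haveI : Finite ↥(D.support : Set (Place k K)) := (Finset.finite_toSet _).to_subtype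
  obtain ⟨bc, hbc⟩ := Submodule.exists_forall_notMem_of_forall_ne_top p hp
  set x' : K := T bc with hx'
  have hx'L : x' ∈ L D := by
    rw [hx', hT]
    exact add_mem (Submodule.smul_mem _ _ hxL) (Submodule.smul_mem _ _ hyL)
  have hx'val : ∀ Q ∈ D.support, Q.1 x' = WithZero.exp (D Q) := by
    intro Q hQ
    have h1 : x' ∉ Place.ball Q (D Q - 1) := hbc ⟨Q, hQ⟩
    rw [Place.mem_ball, ← lt_exp_iff_le_exp_sub_one, not_lt] at h1
    exact le_antisymm (hx'L Q) h1
  obtain ⟨Q₀, hQ₀⟩ := hsupp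
  have hx'tr : Transcendental k x' := by
    apply transcendental_of_not_mem_range hK
    rintro ⟨c, hc⟩
    have h1 := hx'val Q₀ hQ₀
    rw [← hc] at h1
    have h2 := Q₀.2.1 c
    rw [h1, ← WithZero.exp_zero, WithZero.exp_le_exp] at h2
    rw [Finsupp.mem_support_iff] at hQ₀
    have := hD0 Q₀
    simp only [Finsupp.coe_zero, Pi.zero_apply] at this
    omega
  have hx'0 : x' ≠ 0 := by
    rintro h
    rw [h] at hx'tr
    exact hx'tr (isAlgebraic_zero)
  have hpoles : polesDiv k x' = D := by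
    ext Q
    rw [polesDiv_apply hK]
    by_cases hQ : Q ∈ D.support
    · have h1 := hx'val Q hQ
      rw [Place.val_eq_exp_neg_ord Q hx'0] at h1
      have h2 := WithZero.exp_injective h1
      have := hD0 Q
      simp only [Finsupp.coe_zero, Pi.zero_apply] at this
      rw [h2]
      exact max_eq_left this
    · rw [Finsupp.notMem_support_iff] at hQ
      rw [hQ]
      have h1 := hx'L Q
      rw [hQ, WithZero.exp_zero] at h1
      have := (Place.ord_nonneg_iff Q hx'0).mpr h1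
      exact max_eq_right (by omega)
  by_cases hc : bc.2 = 0
  · -- then `bc.1 ≠ 0` and `y' = y`
    have hb : bc.1 ≠ 0 := by
      intro hb
      apply hx'0
      rw [hx', hT, hb, hc, zero_smul, zero_smul, add_zero]
    refine ⟨x', y, hx'L, hyL, hx'tr, hpoles, ?_, ⟨bc.1, bc.2, hT bc⟩, Or.inl rfl⟩
    rw [eq_top_iff, ← hxy, IntermediateField.adjoin_le_iff]
    rintro z (rfl | hz)
    · have : z = bc.1⁻¹ • x' := by
        rw [hx', hT, hc, zero_smul, add_zero, smul_smul, inv_mul_cancel₀ hb, one_smul]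
      rw [this]
      exact (IntermediateField.adjoin k ({x', y} : Set K)).smul_mem
        (IntermediateField.subset_adjoin k _ (by simp))
    · rw [Set.mem_singleton_iff.mp hz]
      exact IntermediateField.subset_adjoin k _ (by simp)
  · refine ⟨x', x, hx'L, hxL, hx'tr, hpoles, ?_, ⟨bc.1, bc.2, hT bc⟩, Or.inr rfl⟩
    rw [eq_top_iff, ← hxy, IntermediateField.adjoin_le_iff]
    rintro z (rfl | hz)
    · exact IntermediateField.subset_adjoin k _ (by simp)
    · rw [Set.mem_singleton_iff.mp hz]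
      have : y = bc.2⁻¹ • (x' - bc.1 • x) := by
        rw [hx', hT, add_sub_cancel_left, smul_smul, inv_mul_cancel₀ hc, one_smul]
      rw [this]
      refine (IntermediateField.adjoin k ({x', x} : Set K)).smul_mem (sub_mem ?_ ?_)
      · exact IntermediateField.subset_adjoin k _ (by simp)
      · exact (IntermediateField.adjoin k ({x', x} : Set K)).smul_mem
          (IntermediateField.subset_adjoin k _ (by simp))
/-- The monomials `x'^i y'^j`, `j < d`, `i + j ≤ m`, are linearly independent. -/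
theorem monomial_card_le (hK : IsFunctionField k K) {x' y' : K} (htr : Transcendental k x')
    (hgen : IntermediateField.adjoin k ({x', y'} : Set K) = ⊤) (m : ℕ)
    (hdm : Module.finrank k⟮x'⟯ K ≤ m + 1)
    (V : Submodule k K) [FiniteDimensional k V]
    (hV : ∀ i j : ℕ, j < Module.finrank k⟮x'⟯ K → i + j ≤ m → x' ^ i * y' ^ j ∈ V) :
    ∑ j ∈ Finset.range (Module.finrank k⟮x'⟯ K), (m - j + 1) ≤ Module.finrank k V := by
  classical
  haveI := finiteDimensional_adjoin hK htr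
  set d : ℕ := Module.finrank k⟮x'⟯ K with hd
  have hFtop : k⟮x'⟯⟮y'⟯ = ⊤ := by
    have h1 := IntermediateField.adjoin_adjoin_left k ({x'} : Set K) ({y'} : Set K)
    rw [Set.singleton_union, hgen] at h1
    rw [eq_top_iff]
    intro z _
    have : z ∈ (k⟮x'⟯⟮y'⟯).restrictScalars k := by rw [h1]; trivial
    exact this
  have hint : IsIntegral ↥k⟮x'⟯ y' := Algebra.IsIntegral.isIntegral y'
  have hnat : (minpoly ↥k⟮x'⟯ y').natDegree = d := by
    rw [← IntermediateField.adjoin.finrank hint, hFtop, IntermediateField.finrank_top']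
  have hpowK : LinearIndependent ↥k⟮x'⟯ (fun j : Fin d => y' ^ (j : ℕ)) := by
    have h1 := (linearIndependent_pow (K := ↥k⟮x'⟯) y').comp (Fin.cast hnat.symm)
      (Fin.cast_injective _)
    exact h1
  set gen : ↥k⟮x'⟯ := AdjoinSimple.gen k x' with hgen'
  have hpowF : LinearIndependent k (fun i : ℕ => gen ^ i) := by
    have hinj : Function.Injective (Polynomial.aeval (R := k) gen) := by
      intro p q hpq
      have h1 : Polynomial.aeval x' p = Polynomial.aeval x' q := by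
        have := congrArg (algebraMap ↥k⟮x'⟯ K) hpq
        rw [← Polynomial.aeval_algebraMap_apply, ← Polynomial.aeval_algebraMap_apply] at this
        exact this
      exact (transcendental_iff_injective.mp htr) h1
    have h2 := (Polynomial.basisMonomials k).linearIndependent.map'
      (Polynomial.aeval (R := k) gen).toLinearMap (LinearMap.ker_eq_bot.mpr hinj)
    rw [Polynomial.coe_basisMonomials] at h2
    have e : (fun i : ℕ => gen ^ i) =
        (Polynomial.aeval (R := k) gen).toLinearMap ∘ (fun s => Polynomial.monomial s (1 : k)) := by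
      funext i
      simp [Polynomial.aeval_monomial]
    rw [e]
    exact h2
  have hprod := linearIndependent_smul hpowF hpowK
  let ι : (Σ j : Fin d, Fin (m - (j : ℕ) + 1)) → ℕ × Fin d := fun p => ((p.2 : ℕ), p.1)
  have hι : Function.Injective ι := by
    rintro ⟨j, i⟩ ⟨j', i'⟩ h
    simp only [ι, Prod.mk.injEq] at h
    obtain ⟨h1, rfl⟩ := h
    congr 1
    exact Fin.ext h1
  have hli := hprod.comp ι hι
  have hmem : ∀ p : (Σ j : Fin d, Fin (m - (j : ℕ) + 1)),
      gen ^ (ι p).1 • y' ^ ((ι p).2 : ℕ) ∈ V := by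
    rintro ⟨j, i⟩
    show gen ^ (i : ℕ) • y' ^ (j : ℕ) ∈ V
    have e : gen ^ (i : ℕ) • y' ^ (j : ℕ) = x' ^ (i : ℕ) * y' ^ (j : ℕ) := by
      rw [Algebra.smul_def, map_pow]
      rfl
    rw [e]
    have hi := i.2
    have hj := j.2
    exact hV _ _ hj (by omega)
  let μ' : (Σ j : Fin d, Fin (m - (j : ℕ) + 1)) → ↥V := fun p => ⟨_, hmem p⟩
  have hli' : LinearIndependent k μ' :=
    LinearIndependent.of_comp V.subtype hli
  have hcard := hli'.fintype_card_le_finrank
  rw [Fintype.card_sigma] at hcard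
  simp only [Fintype.card_fin] at hcard
  rw [Fin.sum_univ_eq_sum_range (fun j => m - j + 1) d] at hcard
  exact hcard

/-! ### The plane model `(1 : x : y)` -/

theorem phi_mem_Sm (x y : K) (i : Fin 3) : ![(1 : K), x, y] i ∈ Sm k x y 1 := by
  fin_cases i
  · exact one_mem_Sm x y 1
  · exact x_mem_Sm x y
  · exact y_mem_Sm x y

theorem x_mem_L_mapDiv (hK : IsFunctionField k K) (x y : K) :
    x ∈ L (mapDiv k ![(1 : K), x, y]) := fun Q => by
  rw [exp_mapDiv_plane hK]; exact le_trans (le_max_left _ _) (le_max_right _ _)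

theorem y_mem_L_mapDiv (hK : IsFunctionField k K) (x y : K) :
    y ∈ L (mapDiv k ![(1 : K), x, y]) := fun Q => by
  rw [exp_mapDiv_plane hK]; exact le_trans (le_max_right _ _) (le_max_right _ _)

theorem mapDiv_plane_nonneg (hK : IsFunctionField k K) (x y : K) :
    0 ≤ mapDiv k ![(1 : K), x, y] := by
  intro Q
  have : (1 : WithZero (Multiplicative ℤ)) ≤ WithZero.exp (mapDiv k ![(1 : K), x, y] Q) := by
    rw [exp_mapDiv_plane hK]; exact le_max_left _ _
  rwa [← WithZero.exp_zero, WithZero.exp_le_exp] at this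

theorem phi_mem_L (hK : IsFunctionField k K) (x y : K) (i : Fin 3) :
    ![(1 : K), x, y] i ∈ L (mapDiv k ![(1 : K), x, y]) := by
  fin_cases i
  · intro Q
    simp only [Fin.zero_eta, Matrix.cons_val_zero, Valuation.map_one]
    rw [exp_mapDiv_plane hK]; exact le_max_left _ _
  · exact x_mem_L_mapDiv hK x y
  · exact y_mem_L_mapDiv hK x y

theorem val_argmax_eq (hK : IsFunctionField k K) (x y : K) (P : Place k K) (j : Fin 3)
    (hj : ∀ i, P.1 (![(1 : K), x, y] i) ≤ P.1 (![(1 : K), x, y] j)) :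
    P.1 (![(1 : K), x, y] j) = WithZero.exp (mapDiv k ![(1 : K), x, y] P) := by
  apply le_antisymm (phi_mem_L hK x y j P)
  rw [exp_mapDiv_plane hK]
  refine max_le ?_ (max_le ?_ ?_)
  · have := hj 0
    simpa using this
  · exact hj 1
  · exact hj 2

theorem phi_argmax_ne_zero (x y : K) (P : Place k K) (j : Fin 3)
    (hj : ∀ i, P.1 (![(1 : K), x, y] i) ≤ P.1 (![(1 : K), x, y] j)) :
    ![(1 : K), x, y] j ≠ 0 := by
  intro h
  have := hj 0
  rw [h, Valuation.map_zero] at this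
  simp at this

theorem exists_argmax (x y : K) (P : Place k K) :
    ∃ j : Fin 3, ∀ i, P.1 (![(1 : K), x, y] i) ≤ P.1 (![(1 : K), x, y] j) := by
  obtain ⟨j, -, hj⟩ := Finset.exists_max_image Finset.univ (fun i => P.1 (![(1 : K), x, y] i))
    Finset.univ_nonempty
  exact ⟨j, fun i => hj i (Finset.mem_univ i)⟩

theorem Sm_le_L (hK : IsFunctionField k K) (x y : K) (m : ℕ) :
    Sm k x y m ≤ L ((m : ℤ) • mapDiv k ![(1 : K), x, y]) := by
  apply Sm_le_of_monomials
  intro a b hab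
  have h1 := pow_mem_L (x_mem_L_mapDiv hK x y) a
  have h2 := pow_mem_L (y_mem_L_mapDiv hK x y) b
  have h3 := W4c6gradedringsgw.mul_mem_L h1 h2
  rw [← add_smul] at h3
  refine L_mono ?_ h3
  intro Q
  rw [Finsupp.smul_apply, Finsupp.smul_apply, smul_eq_mul, smul_eq_mul]
  have hQ : (0 : ℤ) ≤ mapDiv k ![(1 : K), x, y] Q := mapDiv_plane_nonneg hK x y Q
  have : ((a : ℕ) : ℤ) + ((b : ℕ) : ℤ) ≤ (m : ℤ) := by exact_mod_cast hab
  exact mul_le_mul_of_nonneg_right this hQ

/-- Elements of `S_m` divided by `φ_j^m` are polynomials in the ratios `φ_i / φ_j`. -/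
theorem div_pow_mem_adjoin (x y : K) (j : Fin 3) (hj0 : ![(1 : K), x, y] j ≠ 0) {m : ℕ} {s : K}
    (hs : s ∈ Sm k x y m) :
    s / (![(1 : K), x, y] j) ^ m ∈
      Algebra.adjoin k (Set.range fun i => ![(1 : K), x, y] i / ![(1 : K), x, y] j) := by
  set φ : Fin 3 → K := ![(1 : K), x, y] with hφ
  set A := Algebra.adjoin k (Set.range fun i => φ i / φ j) with hA
  let V : Submodule k K :=
    (Subalgebra.toSubmodule A).comap (LinearMap.mulRight k ((φ j) ^ m)⁻¹)
  have hV : Sm k x y m ≤ V := by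
    apply Sm_le_of_monomials
    intro a b hab
    show x ^ a * y ^ b * ((φ j) ^ m)⁻¹ ∈ A
    have h0 : φ 0 / φ j ∈ A := Algebra.subset_adjoin ⟨0, rfl⟩
    have h1 : φ 1 / φ j ∈ A := Algebra.subset_adjoin ⟨1, rfl⟩
    have h2 : φ 2 / φ j ∈ A := Algebra.subset_adjoin ⟨2, rfl⟩
    have e : x ^ a * y ^ b * ((φ j) ^ m)⁻¹ =
        (φ 1 / φ j) ^ a * (φ 2 / φ j) ^ b * (φ 0 / φ j) ^ (m - a - b) := by
      have hm : m = a + b + (m - a - b) := by omega
      have e1 : φ 1 = x := rfl
      have e2 : φ 2 = y := rfl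
      have e0 : φ 0 = 1 := rfl
      rw [e1, e2, e0]
      conv_lhs => rw [hm]
      rw [div_pow, div_pow, div_pow, one_pow, pow_add, pow_add]
      field_simp
    rw [e]
    exact mul_mem (mul_mem (pow_mem h1 _) (pow_mem h2 _)) (pow_mem h0 _)
  have := hV hs
  rw [div_eq_mul_inv]
  exact this

/-- Polynomials in the ratios `φ_i / φ_j` are elements of `S_n` divided by `φ_j^n`. -/
theorem exists_mul_pow_mem_Sm (x y : K) (j : Fin 3) (hj0 : ![(1 : K), x, y] j ≠ 0) {a : K}
    (ha : a ∈ Algebra.adjoin k (Set.range fun i => ![(1 : K), x, y] i / ![(1 : K), x, y] j)) :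
    ∃ n₀ : ℕ, ∀ n, n₀ ≤ n → a * (![(1 : K), x, y] j) ^ n ∈ Sm k x y n := by
  set φ : Fin 3 → K := ![(1 : K), x, y] with hφ
  have hpow : ∀ n : ℕ, (φ j) ^ n ∈ Sm k x y n := by
    intro n
    have := pow_mem_Sm (phi_mem_Sm (k := k) x y j) n
    rwa [mul_one] at this
  induction ha using Algebra.adjoin_induction with
  | mem z hz =>
    obtain ⟨i, rfl⟩ := hz
    refine ⟨1, fun n hn => ?_⟩
    obtain ⟨n', rfl⟩ : ∃ n', n = n' + 1 := ⟨n - 1, by omega⟩
    have e : φ i / φ j * φ j ^ (n' + 1) = φ j ^ n' * φ i := by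
      rw [pow_succ]; field_simp
    show φ i / φ j * φ j ^ (n' + 1) ∈ Sm k x y (n' + 1)
    rw [e]
    exact mul_mem_Sm (hpow n') (phi_mem_Sm x y i)
  | algebraMap r =>
    refine ⟨0, fun n _ => ?_⟩
    have := mul_mem_Sm (algebraMap_mem_Sm (k := k) x y 0 r) (hpow n)
    rwa [zero_add] at this
  | add z w _ _ hz hw =>
    obtain ⟨n₁, h₁⟩ := hz
    obtain ⟨n₂, h₂⟩ := hw
    refine ⟨max n₁ n₂, fun n hn => ?_⟩
    rw [add_mul]
    exact add_mem (h₁ n (le_trans (le_max_left _ _) hn)) (h₂ n (le_trans (le_max_right _ _) hn))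
  | mul z w _ _ hz hw =>
    obtain ⟨n₁, h₁⟩ := hz
    obtain ⟨n₂, h₂⟩ := hw
    refine ⟨n₁ + n₂, fun n hn => ?_⟩
    have e : z * w * φ j ^ n = (z * φ j ^ n₁) * (w * φ j ^ (n - n₁)) := by
      have : n = n₁ + (n - n₁) := by omega
      conv_lhs => rw [this, pow_add]
      ring
    rw [e]
    have := mul_mem_Sm (h₁ n₁ le_rfl) (h₂ (n - n₁) (by omega))
    rwa [show n₁ + (n - n₁) = n by omega] at this

/-- If `L(mD) ⊆ S_m` for some `m` with `md ≥ 2g + 1`, the plane model is nonsingular. -/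
theorem nonsingular_of_L_le_Sm (hK : IsFunctionField k K) [IsAlgClosed k] (x y : K) {m : ℕ}
    (hm : 2 * (genus k K : ℤ) + 1 ≤ (m : ℤ) * (mapDiv k ![(1 : K), x, y]).deg)
    (hL : L ((m : ℤ) • mapDiv k ![(1 : K), x, y]) ≤ Sm k x y m) (P : Place k K) :
    IsNonsingularAt ![(1 : K), x, y] P := by
  classical
  set φ : Fin 3 → K := ![(1 : K), x, y] with hφ
  set D : Divisor k K := mapDiv k φ with hD
  obtain ⟨j, hj'⟩ := exists_argmax x y P
  have hj0 : φ j ≠ 0 := phi_argmax_ne_zero x y P j hj'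
  have hjP : P.1 (φ j) = WithZero.exp (D P) := val_argmax_eq hK x y P j hj'
  have hpow0 : (φ j) ^ m ≠ 0 := pow_ne_zero _ hj0
  have hpowL : (φ j) ^ m ∈ L ((m : ℤ) • D) := pow_mem_L (phi_mem_L hK x y j) m
  set E : Divisor k K := (m : ℤ) • D + FunFld.div k ((φ j) ^ m) with hE
  have hE0 : 0 ≤ E := (mem_L_iff_div hK hpow0 _).mp hpowL
  have hEP : E P = 0 := by
    rw [hE, Finsupp.add_apply, div_apply hK, Finsupp.smul_apply, smul_eq_mul]
    have h1 : P.1 ((φ j) ^ m) = WithZero.exp ((m : ℤ) * D P) := by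
      rw [Valuation.map_pow, hjP, ← WithZero.exp_nsmul, nsmul_eq_mul]
    rw [Place.val_eq_exp_neg_ord P hpow0] at h1
    have := WithZero.exp_injective h1
    omega
  have hEdeg : E.deg = (m : ℤ) * D.deg := by
    rw [hE, deg_add_div hK, deg_zsmul]
  have hg0 : (0 : ℤ) ≤ (genus k K : ℤ) := Int.natCast_nonneg _
  have hmdeg : ((m : ℤ) • D).deg = (m : ℤ) * D.deg := deg_zsmul _ _
  have hbpf : ∀ Q : Place k K, L (E - Finsupp.single Q 1) ≠ L E := by
    intro Q
    have e : E - Finsupp.single Q 1 =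
        ((m : ℤ) • D - Finsupp.single Q 1) + FunFld.div k ((φ j) ^ m) := by
      rw [hE]; abel
    rw [e]
    exact L_add_div_ne hK hpow0 (L_sub_single_ne_of_deg hK (by rw [hmdeg]; omega) Q)
  have hdegP : Divisor.deg (Finsupp.single P 1 : Divisor k K) = 1 := by
    rw [deg_single, Place.deg_eq_one hK P]; rfl
  have hbpf' : ∀ Q : Place k K,
      L (E - Finsupp.single P 1 - Finsupp.single Q 1) ≠ L (E - Finsupp.single P 1) := by
    intro Q
    have e : E - Finsupp.single P 1 - Finsupp.single Q 1 =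
        ((m : ℤ) • D - Finsupp.single P 1 - Finsupp.single Q 1) +
          FunFld.div k ((φ j) ^ m) := by
      rw [hE]; abel
    have e' : E - Finsupp.single P 1 =
        ((m : ℤ) • D - Finsupp.single P 1) + FunFld.div k ((φ j) ^ m) := by
      rw [hE]; abel
    rw [e, e']
    exact L_add_div_ne hK hpow0
      (L_sub_single_ne_of_deg hK (by rw [deg_sub, hdegP, hmdeg]; omega) Q)
  set A : Subalgebra k K := Algebra.adjoin k (Set.range fun i => φ i / φ j) with hAdef
  have hA : ∀ f ∈ L E, f ∈ A := by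
    intro f hf
    rw [hE, mem_L_add_div_iff hK _ hpow0] at hf
    have h1 := div_pow_mem_adjoin x y j hj0 (hL hf)
    rwa [mul_div_assoc, div_self hpow0, mul_one] at h1
  have hAP : ∀ a ∈ A, P.1 a ≤ 1 := by
    intro a ha
    induction ha using Algebra.adjoin_induction with
    | mem x hx =>
      obtain ⟨i, rfl⟩ := hx
      rw [map_div₀]
      exact div_le_one_of_le₀ (hj' i) zero_le
    | algebraMap r => exact P.2.1 r
    | add x y _ _ hx hy => exact le_trans (Valuation.map_add P.1 _ _) (max_le hx hy)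
    | mul x y _ _ hx hy => rw [Valuation.map_mul]; exact mul_le_one' hx hy
  intro z hz
  obtain ⟨u, hu, w, hw, hwP, hzw⟩ := embed_main hK E hE0 P hEP (by rw [hEdeg]; omega)
    (by rw [hEdeg]; omega) hbpf hbpf' A hA hAP z hz
  exact ⟨j, hj0, hj', u, hu, w, hw, hwP, hzw⟩

/-- The generic coordinates lie in `S_1`. -/
theorem generic_mem_Sm (x y : K) {x' : K} (h : ∃ b c : k, x' = b • x + c • y) :
    x' ∈ Sm k x y 1 := by
  obtain ⟨b, c, rfl⟩ := h
  exact add_mem (Submodule.smul_mem _ _ (x_mem_Sm x y)) (Submodule.smul_mem _ _ (y_mem_Sm x y))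

/-- **Equality in the genus bound forces nonsingularity.** -/
theorem nonsingular_of_genus_eq (hK : IsFunctionField k K) [IsAlgClosed k] (x y : K)
    (hxy : IntermediateField.adjoin k ({x, y} : Set K) = ⊤)
    (hg : 2 * (genus k K : ℤ) =
      ((mapDiv k ![(1 : K), x, y]).deg - 1) * ((mapDiv k ![(1 : K), x, y]).deg - 2))
    (P : Place k K) : IsNonsingularAt ![(1 : K), x, y] P := by
  classical
  obtain ⟨x', y', hx'L, hy'L, htr, hpoles, hgen, hx', hy'⟩ := exists_generic_form' hK x y hxy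
  set D : Divisor k K := mapDiv k ![(1 : K), x, y] with hD
  have hD0 : 0 ≤ D := mapDiv_plane_nonneg hK x y
  haveI := finiteDimensional_adjoin hK htr
  set d : ℕ := Module.finrank k⟮x'⟯ K with hd
  have hdeg : D.deg = d := by rw [← hpoles, deg_polesDiv hK htr]
  have hdpos : 0 < d := Module.finrank_pos
  have hx'S : x' ∈ Sm k x y 1 := generic_mem_Sm x y hx'
  have hy'S : y' ∈ Sm k x y 1 := by
    rcases hy' with h | h
    · rw [h]; exact y_mem_Sm x y
    · rw [h]; exact x_mem_Sm x y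
  set m : ℕ := d + 2 * genus k K + 1 with hm
  haveI := finiteDimensional_L hK ((m : ℤ) • D)
  have hmono : ∀ i j : ℕ, j < d → i + j ≤ m →
      x' ^ i * y' ^ j ∈ L ((m : ℤ) • D) ⊓ Sm k x y m := by
    intro i j _ hij
    constructor
    · have h1 := pow_mem_L hx'L i
      have h2 := pow_mem_L hy'L j
      have h3 := W4c6gradedringsgw.mul_mem_L h1 h2
      rw [← add_smul] at h3
      refine L_mono ?_ h3
      intro Q
      rw [Finsupp.smul_apply, Finsupp.smul_apply, smul_eq_mul, smul_eq_mul]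
      have hQ : (0 : ℤ) ≤ D Q := hD0 Q
      have : ((i : ℕ) : ℤ) + ((j : ℕ) : ℤ) ≤ (m : ℤ) := by exact_mod_cast hij
      exact mul_le_mul_of_nonneg_right this hQ
    · have h1 := pow_mem_Sm hx'S i
      have h2 := pow_mem_Sm hy'S j
      have h3 := mul_mem_Sm h1 h2
      exact Sm_mono x y (by omega) h3
  have hcard := monomial_card_le hK htr hgen m (by omega) (L ((m : ℤ) • D) ⊓ Sm k x y m) hmono
  have hsum := sum_range_sub m d (by omega)
  have hmd : 2 * (genus k K : ℤ) + 1 ≤ (m : ℤ) * D.deg := by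
    rw [hdeg, hm]
    push_cast
    have : (1 : ℤ) ≤ d := by exact_mod_cast hdpos
    nlinarith [Int.natCast_nonneg (genus k K)]
  have hell := ell_of_deg_ge hK (D := (m : ℤ) • D) (by rw [deg_zsmul]; omega)
  rw [deg_zsmul, hdeg] at hell
  unfold ell at hell
  have hle : Module.finrank k ↥(L ((m : ℤ) • D) ⊓ Sm k x y m) ≤
      Module.finrank k ↥(L ((m : ℤ) • D)) := Submodule.finrank_mono inf_le_left
  have hfin : Module.finrank k ↥(L ((m : ℤ) • D)) ≤
      Module.finrank k ↥(L ((m : ℤ) • D) ⊓ Sm k x y m) := by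
    have hcard' : ((∑ j ∈ Finset.range d, (m - j + 1) : ℕ) : ℤ) ≤
        (Module.finrank k ↥(L ((m : ℤ) • D) ⊓ Sm k x y m) : ℤ) := by exact_mod_cast hcard
    have : (Module.finrank k ↥(L ((m : ℤ) • D)) : ℤ) ≤
        (Module.finrank k ↥(L ((m : ℤ) • D) ⊓ Sm k x y m) : ℤ) := by
      rw [hdeg] at hg
      nlinarith
    exact_mod_cast this
  have heq : L ((m : ℤ) • D) ⊓ Sm k x y m = L ((m : ℤ) • D) :=
    Submodule.eq_of_le_of_finrank_le inf_le_left hfin
  have hL : L ((m : ℤ) • D) ≤ Sm k x y m := by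
    rw [← heq]; exact inf_le_right
  exact nonsingular_of_L_le_Sm hK x y hmd hL P

/-! ### Nonsingular plane models are projectively normal in large degrees -/

theorem isBpfPair_one_of_polesDiv (hK : IsFunctionField k K) {D : Divisor k K} {x' : K}
    (hx'0 : x' ≠ 0) (hpoles : polesDiv k x' = D) : IsBpfPair D 1 x' := by
  have hD0 : 0 ≤ D := by rw [← hpoles]; exact polesDiv_nonneg x'
  have hval : ∀ Q : Place k K, 0 < D Q → Q.1 x' = WithZero.exp (D Q) := by
    intro Q hQ
    have h1 : polesDiv k x' Q = D Q := by rw [hpoles]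
    rw [polesDiv_apply hK] at h1
    rw [Place.val_eq_exp_neg_ord Q hx'0]
    congr 1
    rcases max_choice (-Q.ord x') 0 with h | h
    · rw [h] at h1; exact h1
    · rw [h] at h1; omega
  have hx'L : x' ∈ L D := by
    intro Q
    have hQ : (0 : ℤ) ≤ D Q := hD0 Q
    rcases hQ.lt_or_eq with h | h
    · rw [hval Q h]
    · rw [← h, WithZero.exp_zero]
      have h1 : polesDiv k x' Q = D Q := by rw [hpoles]
      rw [polesDiv_apply hK, ← h] at h1
      have h2 : -Q.ord x' ≤ 0 := by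
        have := le_max_left (-Q.ord x') 0
        omega
      exact (Place.ord_nonneg_iff Q hx'0).mp (by omega)
  refine ⟨?_, hx'L, one_ne_zero, hx'0, ?_⟩
  · intro Q
    rw [Valuation.map_one, ← WithZero.exp_zero, WithZero.exp_le_exp]
    exact hD0 Q
  · intro Q
    have hQ : (0 : ℤ) ≤ D Q := hD0 Q
    rcases hQ.lt_or_eq with h | h
    · exact Or.inr (hval Q h)
    · left
      rw [Valuation.map_one, ← h, WithZero.exp_zero]

theorem L_succ_decomp (hK : IsFunctionField k K) {D : Divisor k K} {x' : K}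
    (hbp : IsBpfPair D 1 x') (hdeg : 1 ≤ D.deg) {m : ℕ} (hm : 2 * genus k K + 1 ≤ m) {γ : K}
    (hγ : γ ∈ L (((m + 1 : ℕ) : ℤ) • D)) :
    ∃ a ∈ L ((m : ℤ) • D), ∃ b ∈ L ((m : ℤ) • D), γ = a + x' * b := by
  have hg0 : (0 : ℤ) ≤ (genus k K : ℤ) := Int.natCast_nonneg _
  have hm' : 2 * (genus k K : ℤ) + 1 ≤ (m : ℤ) := by exact_mod_cast hm
  have e : ((m + 1 : ℕ) : ℤ) • D = D + (m : ℤ) • D := by
    rw [Nat.cast_succ, add_smul, one_smul, add_comm]
  rw [e] at hγ
  have hmD : ((m : ℤ) • D).deg = (m : ℤ) * D.deg := deg_zsmul _ _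
  obtain ⟨a, ha, b, hb, hab⟩ := pencil hK hbp (G := (m : ℤ) • D)
    (by rw [hmD]; nlinarith)
    (by rw [deg_sub, hmD]; nlinarith)
    (by rw [deg_add, hmD]; nlinarith) hγ
  exact ⟨a, ha, b, hb, by rw [hab, one_mul]⟩

theorem mul_mem_Sm_of_base (hK : IsFunctionField k K) (x y : K) {x' : K}
    (hbp : IsBpfPair (mapDiv k ![(1 : K), x, y]) 1 x')
    (hdeg : 1 ≤ (mapDiv k ![(1 : K), x, y]).deg) (hx'S : x' ∈ Sm k x y 1)
    {M₀ : ℕ} (hM₀ : 2 * genus k K + 1 ≤ M₀) {N : ℕ} {w : K}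
    (hw : ∀ γ ∈ L ((M₀ : ℤ) • mapDiv k ![(1 : K), x, y]), w * γ ∈ Sm k x y (N + M₀)) :
    ∀ n : ℕ, ∀ γ ∈ L (((M₀ + n : ℕ) : ℤ) • mapDiv k ![(1 : K), x, y]),
      w * γ ∈ Sm k x y (N + M₀ + n) := by
  intro n
  induction n with
  | zero => intro γ hγ; exact hw γ hγ
  | succ n ih =>
    intro γ hγ
    obtain ⟨a, ha, b, hb, rfl⟩ := L_succ_decomp hK hbp hdeg (m := M₀ + n) (by omega) hγ
    have h1 := ih a ha
    have h2 := ih b hb
    have h3 : w * (x' * b) ∈ Sm k x y (N + M₀ + (n + 1)) := by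
      have := mul_mem_Sm hx'S h2
      have e : w * (x' * b) = x' * (w * b) := by ring
      rw [e]
      rwa [show 1 + (N + M₀ + n) = N + M₀ + (n + 1) by omega] at this
    rw [mul_add]
    exact add_mem (Sm_mono x y (by omega) h1) h3

theorem phi_pow_mem_Sm (x y : K) (j : Fin 3) (n : ℕ) :
    (![(1 : K), x, y] j) ^ n ∈ Sm k x y n := by
  have := pow_mem_Sm (phi_mem_Sm (k := k) x y j) n
  rwa [mul_one] at this

theorem local_single (hK : IsFunctionField k K) (x y : K) (P : Place k K)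
    (hns : IsNonsingularAt ![(1 : K), x, y] P) (M : ℕ) {γ : K}
    (hγ : γ ∈ L ((M : ℤ) • mapDiv k ![(1 : K), x, y])) :
    ∃ (n : ℕ) (w : K), w ∈ Sm k x y n ∧
      P.1 w = WithZero.exp ((n : ℤ) * mapDiv k ![(1 : K), x, y] P) ∧
      w * γ ∈ Sm k x y (n + M) := by
  set φ : Fin 3 → K := ![(1 : K), x, y] with hφ
  set D : Divisor k K := mapDiv k φ with hD
  obtain ⟨j₀, hj₀⟩ := exists_argmax x y P
  have hj₀0 : φ j₀ ≠ 0 := phi_argmax_ne_zero x y P j₀ hj₀
  have hj₀P : P.1 (φ j₀) = WithZero.exp (D P) := val_argmax_eq hK x y P j₀ hj₀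
  have hz : P.1 (γ / (φ j₀) ^ M) ≤ 1 := by
    rw [map_div₀, Valuation.map_pow, hj₀P]
    apply div_le_one_of_le₀ _ zero_le
    have := hγ P
    rwa [Finsupp.smul_apply, smul_eq_mul, ← nsmul_eq_mul, WithZero.exp_nsmul] at this
  obtain ⟨j', hj'0, hj', u, hu, w', hw', hw'P, hzw⟩ := hns _ hz
  have hj'P : P.1 (φ j') = WithZero.exp (D P) := val_argmax_eq hK x y P j' hj'
  obtain ⟨n₁, h₁⟩ := exists_mul_pow_mem_Sm x y j' hj'0 hu
  obtain ⟨n₂, h₂⟩ := exists_mul_pow_mem_Sm x y j' hj'0 hw'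
  set n := max n₁ n₂ with hn
  refine ⟨n, w' * (φ j') ^ n, h₂ n (le_max_right _ _), ?_, ?_⟩
  · rw [Valuation.map_mul, hw'P, one_mul, Valuation.map_pow, hj'P, ← WithZero.exp_nsmul,
      nsmul_eq_mul]
  · have e : w' * (φ j') ^ n * γ = (u * (φ j') ^ n) * (φ j₀) ^ M := by
      rw [← hzw]
      field_simp
    rw [e]
    exact mul_mem_Sm (h₁ n (le_max_left _ _)) (phi_pow_mem_Sm x y j₀ M)

theorem local_finset (hK : IsFunctionField k K) (x y : K) (P : Place k K)
    (hns : IsNonsingularAt ![(1 : K), x, y] P) (M : ℕ) (s : Finset K)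
    (hs : ∀ γ ∈ s, γ ∈ L ((M : ℤ) • mapDiv k ![(1 : K), x, y])) :
    ∃ (n : ℕ) (w : K), w ∈ Sm k x y n ∧
      P.1 w = WithZero.exp ((n : ℤ) * mapDiv k ![(1 : K), x, y] P) ∧
      ∀ γ ∈ s, w * γ ∈ Sm k x y (n + M) := by
  classical
  induction s using Finset.induction_on with
  | empty =>
    refine ⟨0, 1, one_mem_Sm x y 0, ?_, fun γ hγ => absurd hγ (Finset.notMem_empty γ)⟩
    rw [Valuation.map_one, Nat.cast_zero, zero_mul, WithZero.exp_zero]
  | insert γ₀ s hγ₀ ih =>
    obtain ⟨n, w, hw, hwP, hws⟩ := ih fun γ hγ => hs γ (Finset.mem_insert_of_mem hγ)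
    obtain ⟨n', w', hw', hw'P, hw'γ⟩ := local_single hK x y P hns M
      (hs γ₀ (Finset.mem_insert_self _ _))
    refine ⟨n + n', w * w', mul_mem_Sm hw hw', ?_, ?_⟩
    · rw [Valuation.map_mul, hwP, hw'P, ← WithZero.exp_add]
      congr 1
      push_cast
      ring
    · intro γ hγ
      rcases Finset.mem_insert.mp hγ with rfl | hγs
      · have := mul_mem_Sm hw hw'γ
        rw [show n + (n' + M) = n + n' + M by omega] at this
        rwa [mul_assoc]
      · have := mul_mem_Sm hw' (hws γ hγs)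
        rw [show n' + (n + M) = n + n' + M by omega] at this
        have e : w * w' * γ = w' * (w * γ) := by ring
        rwa [e]

theorem local_all (hK : IsFunctionField k K) (x y : K) (P : Place k K)
    (hns : IsNonsingularAt ![(1 : K), x, y] P) (M : ℕ) :
    ∃ (n : ℕ) (w : K), w ∈ Sm k x y n ∧
      P.1 w = WithZero.exp ((n : ℤ) * mapDiv k ![(1 : K), x, y] P) ∧
      ∀ γ ∈ L ((M : ℤ) • mapDiv k ![(1 : K), x, y]), w * γ ∈ Sm k x y (n + M) := by
  classical
  haveI := finiteDimensional_L hK ((M : ℤ) • mapDiv k ![(1 : K), x, y])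
  obtain ⟨s, hs⟩ := (Submodule.fg_iff_finiteDimensional
    (L ((M : ℤ) • mapDiv k ![(1 : K), x, y]))).mpr inferInstance
  have hsL : ∀ γ ∈ s, γ ∈ L ((M : ℤ) • mapDiv k ![(1 : K), x, y]) := by
    intro γ hγ
    rw [← hs]
    exact Submodule.subset_span hγ
  obtain ⟨n, w, hw, hwP, hws⟩ := local_finset hK x y P hns M s hsL
  refine ⟨n, w, hw, hwP, ?_⟩
  intro γ hγ
  rw [← hs] at hγ
  induction hγ using Submodule.span_induction with
  | mem z hz => exact hws z hz
  | zero => rw [mul_zero]; exact zero_mem _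
  | add a b _ _ ha hb => rw [mul_add]; exact add_mem ha hb
  | smul c a _ ha => rw [mul_smul_comm]; exact Submodule.smul_mem _ _ ha

/-- The degree-`N` part of the conductor of `⊕ S_n` in `⊕ L(nD)`, relative to degree `M`. -/
noncomputable def Tc (k : Type u) {K : Type v} [Field k] [Field K] [Algebra k K] (x y : K)
    (M N : ℕ) : Submodule k K where
  carrier := {w | w ∈ Sm k x y N ∧
    ∀ γ ∈ L ((M : ℤ) • mapDiv k ![(1 : K), x, y]), w * γ ∈ Sm k x y (N + M)}
  add_mem' := by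
    rintro a b ⟨ha, ha'⟩ ⟨hb, hb'⟩
    exact ⟨add_mem ha hb, fun γ hγ => by rw [add_mul]; exact add_mem (ha' γ hγ) (hb' γ hγ)⟩
  zero_mem' := ⟨zero_mem _, fun γ _ => by rw [zero_mul]; exact zero_mem _⟩
  smul_mem' := by
    rintro c a ⟨ha, ha'⟩
    exact ⟨Submodule.smul_mem _ _ ha, fun γ hγ => by
      rw [smul_mul_assoc]; exact Submodule.smul_mem _ _ (ha' γ hγ)⟩

theorem mem_Tc {x y : K} {M N : ℕ} {w : K} :
    w ∈ Tc k x y M N ↔ w ∈ Sm k x y N ∧
      ∀ γ ∈ L ((M : ℤ) • mapDiv k ![(1 : K), x, y]), w * γ ∈ Sm k x y (N + M) := Iff.rfl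

theorem Tc_mul_Sm {x y : K} {M N n : ℕ} {w s : K} (hw : w ∈ Tc k x y M N)
    (hs : s ∈ Sm k x y n) : w * s ∈ Tc k x y M (N + n) := by
  rw [mem_Tc] at hw ⊢
  refine ⟨mul_mem_Sm hw.1 hs, fun γ hγ => ?_⟩
  have := mul_mem_Sm hs (hw.2 γ hγ)
  rw [show n + (N + M) = N + n + M by omega] at this
  have e : w * s * γ = s * (w * γ) := by ring
  rwa [e]

theorem Tc_pow {x y : K} {M N : ℕ} {w : K} (hw : w ∈ Tc k x y M N) :
    ∀ a : ℕ, 1 ≤ a → w ^ a ∈ Tc k x y M (a * N) := by
  intro a ha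
  induction a, ha using Nat.le_induction with
  | base => rwa [pow_one, one_mul]
  | succ a _ ih =>
    rw [pow_succ, Nat.succ_mul]
    exact Tc_mul_Sm ih hw.1

theorem local_ge (hK : IsFunctionField k K) (x y : K) (P : Place k K)
    (hns : IsNonsingularAt ![(1 : K), x, y] P) (M : ℕ) :
    ∃ n₀ : ℕ, ∀ n, n₀ ≤ n → ∃ w ∈ Tc k x y M n,
      P.1 w = WithZero.exp ((n : ℤ) * mapDiv k ![(1 : K), x, y] P) := by
  obtain ⟨n₀, w₀, hw₀, hw₀P, hw₀γ⟩ := local_all hK x y P hns M
  obtain ⟨j, hj⟩ := exists_argmax x y P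
  have hjP := val_argmax_eq hK x y P j hj
  refine ⟨n₀, fun n hn => ?_⟩
  have hT : w₀ ∈ Tc k x y M n₀ := ⟨hw₀, hw₀γ⟩
  have h1 := Tc_mul_Sm hT (phi_pow_mem_Sm x y j (n - n₀))
  rw [show n₀ + (n - n₀) = n by omega] at h1
  refine ⟨_, h1, ?_⟩
  rw [Valuation.map_mul, hw₀P, Valuation.map_pow, hjP, ← WithZero.exp_nsmul, nsmul_eq_mul,
    ← WithZero.exp_add]
  congr 1
  have : ((n - n₀ : ℕ) : ℤ) = (n : ℤ) - n₀ := by rw [Nat.cast_sub hn]
  rw [this]
  ring

theorem exists_bpf_pair_Tc (hK : IsFunctionField k K) [IsAlgClosed k] (x y : K)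
    (hns : ∀ P : Place k K, IsNonsingularAt ![(1 : K), x, y] P) (M : ℕ) :
    ∃ (N : ℕ) (w₁ w₂ : K), w₁ ∈ Tc k x y M N ∧ w₂ ∈ Tc k x y M N ∧
      IsBpfPair ((N : ℤ) • mapDiv k ![(1 : K), x, y]) w₁ w₂ := by
  classical
  set D : Divisor k K := mapDiv k ![(1 : K), x, y] with hD
  obtain ⟨P₀⟩ := exists_place hK
  obtain ⟨n₀, h₀⟩ := local_ge hK x y P₀ (hns P₀) M
  obtain ⟨w₁, hw₁T, hw₁P⟩ := h₀ (n₀ + 1) (by omega)
  set n₁ := n₀ + 1 with hn₁
  have hw₁0 : w₁ ≠ 0 := by
    intro h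
    rw [h, Valuation.map_zero] at hw₁P
    exact WithZero.exp_ne_zero hw₁P.symm
  have hw₁L : w₁ ∈ L ((n₁ : ℤ) • D) := Sm_le_L hK x y n₁ hw₁T.1
  set E : Divisor k K := (n₁ : ℤ) • D + FunFld.div k w₁ with hE
  have hE0 : 0 ≤ E := (mem_L_iff_div hK hw₁0 _).mp hw₁L
  have hoff : ∀ Q : Place k K, Q ∉ E.support → Q.1 w₁ = WithZero.exp ((n₁ : ℤ) * D Q) := by
    intro Q hQ
    rw [Finsupp.notMem_support_iff, hE, Finsupp.add_apply, div_apply hK, Finsupp.smul_apply,
      smul_eq_mul] at hQ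
    rw [Place.val_eq_exp_neg_ord Q hw₁0]
    congr 1
    omega
  set Z : Finset (Place k K) := insert P₀ E.support with hZ
  choose nQ hnQ using fun Q : Place k K => local_ge hK x y Q (hns Q) M
  set a : ℕ := 1 + ∑ Q ∈ Z, nQ Q with ha
  set N : ℕ := a * n₁ with hN
  have hNge : ∀ Q ∈ Z, nQ Q ≤ N := by
    intro Q hQ
    have h1 : nQ Q ≤ ∑ Q ∈ Z, nQ Q := Finset.single_le_sum (fun _ _ => Nat.zero_le _) hQ
    have h2 : a ≤ a * n₁ := Nat.le_mul_of_pos_right a (by omega)
    omega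
  have hw₁' : w₁ ^ a ∈ Tc k x y M N := Tc_pow hw₁T a (by omega)
  have hoff' : ∀ Q : Place k K, Q ∉ E.support →
      Q.1 (w₁ ^ a) = WithZero.exp ((N : ℤ) * D Q) := by
    intro Q hQ
    rw [Valuation.map_pow, hoff Q hQ, ← WithZero.exp_nsmul, nsmul_eq_mul, hN]
    congr 1
    push_cast
    ring
  let p : ↥(Z : Set (Place k K)) → Submodule k ↥(Tc k x y M N) :=
    fun Q => Submodule.comap (Tc k x y M N).subtype (Place.ball Q.1 ((N : ℤ) * D Q.1 - 1))
  have hp : ∀ Q, p Q ≠ ⊤ := by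
    intro Q htop
    obtain ⟨w, hwT, hwQ⟩ := hnQ Q.1 N (hNge Q.1 Q.2)
    have : (⟨w, hwT⟩ : ↥(Tc k x y M N)) ∈ p Q := by rw [htop]; trivial
    have h2 : Q.1.1 w ≤ WithZero.exp ((N : ℤ) * D Q.1 - 1) := this
    rw [hwQ, WithZero.exp_le_exp] at h2
    have h3 : (N : ℤ) * mapDiv k ![(1 : K), x, y] Q.1 = (N : ℤ) * D Q.1 := rfl
    omega
  haveI : Finite ↥(Z : Set (Place k K)) := (Finset.finite_toSet _).to_subtype
  obtain ⟨w₂, hw₂⟩ := Submodule.exists_forall_notMem_of_forall_ne_top p hp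
  have hw₂L : (w₂ : K) ∈ L ((N : ℤ) • D) := Sm_le_L hK x y N w₂.2.1
  have hw₂val : ∀ Q ∈ Z, Q.1 (w₂ : K) = WithZero.exp ((N : ℤ) * D Q) := by
    intro Q hQ
    have h1 : (w₂ : K) ∉ Place.ball Q ((N : ℤ) * D Q - 1) := hw₂ ⟨Q, hQ⟩
    rw [Place.mem_ball, ← lt_exp_iff_le_exp_sub_one, not_lt] at h1
    have h2 := hw₂L Q
    rw [Finsupp.smul_apply, smul_eq_mul] at h2
    exact le_antisymm h2 h1
  refine ⟨N, w₁ ^ a, w₂, hw₁', w₂.2, Sm_le_L hK x y N hw₁'.1, hw₂L, pow_ne_zero _ hw₁0, ?_, ?_⟩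
  · intro h
    have := hw₂val P₀ (Finset.mem_insert_self _ _)
    rw [h, Valuation.map_zero] at this
    exact WithZero.exp_ne_zero this.symm
  · intro Q
    rw [Finsupp.smul_apply, smul_eq_mul]
    by_cases hQ : Q ∈ E.support
    · exact Or.inr (hw₂val Q (Finset.mem_insert_of_mem hQ))
    · exact Or.inl (hoff' Q hQ)

/-- **Nonsingular plane models are projectively normal in large degrees.** -/
theorem L_le_Sm_of_nonsingular (hK : IsFunctionField k K) [IsAlgClosed k] (x y : K)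
    (hxy : IntermediateField.adjoin k ({x, y} : Set K) = ⊤)
    (hns : ∀ P : Place k K, IsNonsingularAt ![(1 : K), x, y] P) :
    ∃ M₁ : ℕ, ∀ M, M₁ ≤ M → L ((M : ℤ) • mapDiv k ![(1 : K), x, y]) ≤ Sm k x y M := by
  classical
  obtain ⟨x', y', hx'L, hy'L, htr, hpoles, hgen, hx', hy'⟩ := exists_generic_form' hK x y hxy
  set D : Divisor k K := mapDiv k ![(1 : K), x, y] with hD
  haveI := finiteDimensional_adjoin hK htr
  have hdeg : D.deg = (Module.finrank k⟮x'⟯ K : ℕ) := by rw [← hpoles, deg_polesDiv hK htr]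
  have hdpos : 0 < Module.finrank k⟮x'⟯ K := Module.finrank_pos
  have hdeg1 : 1 ≤ D.deg := by rw [hdeg]; exact_mod_cast hdpos
  have hx'0 : x' ≠ 0 := by
    rintro rfl
    exact htr isAlgebraic_zero
  have hbp : IsBpfPair D 1 x' := isBpfPair_one_of_polesDiv hK hx'0 hpoles
  have hx'S : x' ∈ Sm k x y 1 := generic_mem_Sm x y hx'
  set g := genus k K with hg
  set M₀ : ℕ := 2 * g + 1 with hM₀
  obtain ⟨N, w₁, w₂, hw₁, hw₂, hpair⟩ := exists_bpf_pair_Tc hK x y hns M₀
  refine ⟨N + (M₀ + N), fun M hM => ?_⟩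
  intro γ hγ
  obtain ⟨m, rfl⟩ : ∃ m, M = N + m := ⟨M - N, by omega⟩
  have hm : M₀ + N ≤ m := by omega
  have e : ((N + m : ℕ) : ℤ) • D = (N : ℤ) • D + (m : ℤ) • D := by
    rw [Nat.cast_add, add_smul]
  rw [e] at hγ
  have hg0 : (0 : ℤ) ≤ (g : ℤ) := Int.natCast_nonneg _
  have hmZ : (2 * (g : ℤ) + 1) + N ≤ (m : ℤ) := by
    have : 2 * g + 1 + N ≤ m := hm
    exact_mod_cast this
  have hN0 : (0 : ℤ) ≤ (N : ℤ) := Int.natCast_nonneg _
  obtain ⟨a, ha, b, hb, hab⟩ := pencil hK hpair (G := (m : ℤ) • D)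
    (by rw [deg_zsmul]; nlinarith)
    (by rw [deg_sub, deg_zsmul, deg_zsmul]; nlinarith)
    (by rw [deg_add, deg_zsmul, deg_zsmul]; nlinarith) hγ
  have hbase := fun (w : K) (hw : w ∈ Tc k x y M₀ N) =>
    mul_mem_Sm_of_base hK x y hbp hdeg1 hx'S (M₀ := M₀) (by omega) (N := N) (w := w) hw.2
      (m - M₀)
  have hmm : M₀ + (m - M₀) = m := by omega
  rw [hmm] at hbase
  rw [hab]
  have h1 := hbase w₁ hw₁ a ha
  have h2 := hbase w₂ hw₂ b hb
  rw [show N + M₀ + (m - M₀) = N + m by omega] at h1 h2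
  exact add_mem h1 h2

/-! ### The degree and genus of a plane model -/

/-- The basic numerical comparison at a large degree `M`. -/
theorem plane_count (hK : IsFunctionField k K) [IsAlgClosed k] (x y : K)
    (hxy : IntermediateField.adjoin k ({x, y} : Set K) = ⊤)
    (f : MvPolynomial (Fin 2) k) (hf0 : f ≠ 0)
    (hf : ∀ G : MvPolynomial (Fin 2) k, MvPolynomial.aeval ![x, y] G = 0 ↔ f ∣ G) :
    ∃ d : ℕ, 0 < d ∧ (mapDiv k ![(1 : K), x, y]).deg = d ∧
      ∀ M : ℕ, f.totalDegree ≤ M → d ≤ M + 1 → 2 * genus k K ≤ M →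
        (2 : ℤ) * d * (M + 1) - d * (d - 1) ≤
            2 * f.totalDegree * M + 3 * f.totalDegree - (f.totalDegree : ℤ) ^ 2 ∧
          2 * (f.totalDegree : ℤ) * M + 3 * f.totalDegree - (f.totalDegree : ℤ) ^ 2 ≤
            2 * (M * d + 1 - genus k K) ∧
          (L ((M : ℤ) • mapDiv k ![(1 : K), x, y]) ≤ Sm k x y M →
            2 * (f.totalDegree : ℤ) * M + 3 * f.totalDegree - (f.totalDegree : ℤ) ^ 2 =
              2 * (M * d + 1 - genus k K)) := by
  classical
  obtain ⟨x', y', hx'L, hy'L, htr, hpoles, hgen, hx', hy'⟩ := exists_generic_form' hK x y hxy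
  set D : Divisor k K := mapDiv k ![(1 : K), x, y] with hD
  haveI := finiteDimensional_adjoin hK htr
  set d : ℕ := Module.finrank k⟮x'⟯ K with hd
  have hdeg : D.deg = d := by rw [← hpoles, deg_polesDiv hK htr]
  have hdpos : 0 < d := Module.finrank_pos
  have hx'S : x' ∈ Sm k x y 1 := generic_mem_Sm x y hx'
  have hy'S : y' ∈ Sm k x y 1 := by
    rcases hy' with h | h
    · rw [h]; exact y_mem_Sm x y
    · rw [h]; exact x_mem_Sm x y
  refine ⟨d, hdpos, hdeg, fun M hM hdM hgM => ?_⟩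
  have h1 := two_mul_finrank_Sm x y f hf0 hf hM
  have hmono : ∀ i j : ℕ, j < d → i + j ≤ M → x' ^ i * y' ^ j ∈ Sm k x y M := by
    intro i j _ hij
    have h1 := pow_mem_Sm hx'S i
    have h2 := pow_mem_Sm hy'S j
    have h3 := mul_mem_Sm h1 h2
    exact Sm_mono x y (by omega) h3
  have hcard := monomial_card_le hK htr hgen M hdM (Sm k x y M) hmono
  have hsum := sum_range_sub M d hdM
  haveI := finiteDimensional_L hK ((M : ℤ) • D)
  have hle : Module.finrank k ↥(Sm k x y M) ≤ Module.finrank k ↥(L ((M : ℤ) • D)) :=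
    Submodule.finrank_mono (Sm_le_L hK x y M)
  have hg0 : (0 : ℤ) ≤ (genus k K : ℤ) := Int.natCast_nonneg _
  have hd1 : (1 : ℤ) ≤ (d : ℤ) := by exact_mod_cast hdpos
  have hgM' : 2 * (genus k K : ℤ) ≤ (M : ℤ) := by exact_mod_cast hgM
  have hell := ell_of_deg_ge hK (D := (M : ℤ) • D) (by
    rw [deg_zsmul, hdeg]
    nlinarith)
  rw [deg_zsmul, hdeg] at hell
  unfold ell at hell
  have hcard' : ((∑ j ∈ Finset.range d, (M - j + 1) : ℕ) : ℤ) ≤
      (Module.finrank k ↥(Sm k x y M) : ℤ) := by exact_mod_cast hcard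
  have hle' : (Module.finrank k ↥(Sm k x y M) : ℤ) ≤
      (Module.finrank k ↥(L ((M : ℤ) • D)) : ℤ) := by exact_mod_cast hle
  refine ⟨by linarith, by linarith, fun hL => ?_⟩
  have heq : Sm k x y M = L ((M : ℤ) • D) := le_antisymm (Sm_le_L hK x y M) hL
  rw [heq] at h1
  linarith

/-- The degree of a plane model is the total degree of a generator of its ideal. -/
theorem deg_mapDiv_eq_totalDegree_aux (hK : IsFunctionField k K) [IsAlgClosed k] (x y : K)
    (hxy : IntermediateField.adjoin k ({x, y} : Set K) = ⊤)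
    (f : MvPolynomial (Fin 2) k) (hf0 : f ≠ 0)
    (hf : ∀ G : MvPolynomial (Fin 2) k, MvPolynomial.aeval ![x, y] G = 0 ↔ f ∣ G) :
    (mapDiv k ![(1 : K), x, y]).deg = f.totalDegree := by
  obtain ⟨d, hdpos, hdeg, hM⟩ := plane_count hK x y hxy f hf0 hf
  set e := f.totalDegree with he
  rw [hdeg]
  set g := genus k K with hg
  set M : ℕ := d * d + e * e + 3 * e + 3 * d + 2 * g + 2 with hMdef
  obtain ⟨h1, h2, -⟩ := hM M (by rw [hMdef]; nlinarith) (by rw [hMdef]; nlinarith)
    (by rw [hMdef]; nlinarith)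
  have hMZ : (M : ℤ) = d * d + e * e + 3 * e + 3 * d + 2 * g + 2 := by
    rw [hMdef]; push_cast; ring
  have hd0 : (0 : ℤ) ≤ (d : ℤ) := Int.natCast_nonneg _
  have he0 : (0 : ℤ) ≤ (e : ℤ) := Int.natCast_nonneg _
  have hg0 : (0 : ℤ) ≤ (g : ℤ) := Int.natCast_nonneg _
  have hM0 : (0 : ℤ) ≤ (M : ℤ) := Int.natCast_nonneg _
  rcases lt_trichotomy (d : ℤ) (e : ℤ) with hlt | heq | hgt
  · exfalso
    have h3 : (0 : ℤ) ≤ ((e : ℤ) - 1 - d) * M := mul_nonneg (by omega) hM0
    nlinarith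
  · exact heq
  · exfalso
    have h3 : (0 : ℤ) ≤ ((d : ℤ) - 1 - e) * M := mul_nonneg (by omega) hM0
    nlinarith

/-- **Nonsingular plane models attain the genus bound** (given a generator of the ideal). -/
theorem genus_eq_of_nonsingular_aux (hK : IsFunctionField k K) [IsAlgClosed k] (x y : K)
    (hxy : IntermediateField.adjoin k ({x, y} : Set K) = ⊤)
    (f : MvPolynomial (Fin 2) k) (hf0 : f ≠ 0)
    (hf : ∀ G : MvPolynomial (Fin 2) k, MvPolynomial.aeval ![x, y] G = 0 ↔ f ∣ G)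
    (hns : ∀ P : Place k K, IsNonsingularAt ![(1 : K), x, y] P) :
    2 * (genus k K : ℤ) =
      ((mapDiv k ![(1 : K), x, y]).deg - 1) * ((mapDiv k ![(1 : K), x, y]).deg - 2) := by
  have hde := deg_mapDiv_eq_totalDegree_aux hK x y hxy f hf0 hf
  obtain ⟨d, hdpos, hdeg, hM⟩ := plane_count hK x y hxy f hf0 hf
  obtain ⟨M₁, hM₁⟩ := L_le_Sm_of_nonsingular hK x y hxy hns
  set e := f.totalDegree with he
  set g := genus k K with hg
  have hed : (e : ℤ) = d := by rw [← hde, hdeg]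
  have hed' : e = d := by exact_mod_cast hed
  set M : ℕ := M₁ + e + 2 * g with hMdef
  obtain ⟨-, -, h3⟩ := hM M (by omega) (by omega) (by omega)
  have h4 := h3 (hM₁ M (by omega))
  rw [hdeg]
  rw [hed] at h4
  nlinarith

/-! ### Symmetry in the two affine coordinates -/

theorem mapDiv_plane_swap (hK : IsFunctionField k K) (x y : K) :
    mapDiv k ![(1 : K), y, x] = mapDiv k ![(1 : K), x, y] := by
  ext Q
  apply WithZero.exp_injective
  rw [exp_mapDiv_plane hK, exp_mapDiv_plane hK, max_comm (Q.1 y) (Q.1 x)]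

theorem inLocRing_comp_equiv {ι : Type*} (σ : ι ≃ ι) (φ : ι → K) (P : Place k K) (z : K)
    (h : InLocRing (φ ∘ σ) P z) : InLocRing φ P z := by
  obtain ⟨j, hj0, hj, u, hu, w, hw, hwP, hzw⟩ := h
  have hrange : (Set.range fun i => (φ ∘ σ) i / (φ ∘ σ) j) =
      Set.range fun i => φ i / φ (σ j) := by
    ext t
    constructor
    · rintro ⟨i, rfl⟩; exact ⟨σ i, rfl⟩
    · rintro ⟨i, rfl⟩; exact ⟨σ.symm i, by simp⟩
  rw [hrange] at hu hw
  refine ⟨σ j, hj0, fun i => ?_, u, hu, w, hw, hwP, hzw⟩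
  have := hj (σ.symm i)
  simpa using this

theorem plane_swap_eq (x y : K) :
    ![(1 : K), y, x] = ![(1 : K), x, y] ∘ (Equiv.swap (1 : Fin 3) 2) := by
  funext i
  fin_cases i
  · rfl
  · simp [Equiv.swap_apply_left]
  · simp [Equiv.swap_apply_right]

theorem isNonsingularAt_swap (x y : K) (P : Place k K)
    (h : IsNonsingularAt ![(1 : K), y, x] P) : IsNonsingularAt ![(1 : K), x, y] P := by
  intro z hz
  have h1 := h z hz
  rw [plane_swap_eq] at h1
  exact inLocRing_comp_equiv _ _ P z h1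

theorem transcendental_or (hK : IsFunctionField k K) (x y : K)
    (hxy : IntermediateField.adjoin k ({x, y} : Set K) = ⊤) :
    Transcendental k x ∨ Transcendental k y := by
  by_contra hcon
  rw [not_or] at hcon
  obtain ⟨hx, hy⟩ := hcon
  rw [Transcendental, not_not] at hx hy
  obtain ⟨⟨t, ht, -⟩, -⟩ := id hK
  have halg : Algebra.IsAlgebraic k ↥(IntermediateField.adjoin k ({x, y} : Set K)) := by
    apply IntermediateField.isAlgebraic_adjoin
    rintro z (rfl | hz)
    · exact hx.isIntegral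
    · rw [Set.mem_singleton_iff.mp hz]; exact hy.isIntegral
  have htop : t ∈ IntermediateField.adjoin k ({x, y} : Set K) := by rw [hxy]; trivial
  have h1 : IsAlgebraic k (⟨t, htop⟩ : ↥(IntermediateField.adjoin k ({x, y} : Set K))) :=
    Algebra.IsAlgebraic.isAlgebraic _
  apply ht
  have := h1.algebraMap (A := K)
  exact this

theorem exists_ker_generator (hK : IsFunctionField k K) (x y : K) (hx : Transcendental k x) :
    ∃ f : MvPolynomial (Fin 2) k, f ≠ 0 ∧
      ∀ G : MvPolynomial (Fin 2) k, MvPolynomial.aeval ![x, y] G = 0 ↔ f ∣ G := by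
  haveI := finiteDimensional_adjoin hK hx
  exact ker_aeval_fin2_principal x y hx (Algebra.IsAlgebraic.isAlgebraic y)

/-- **Nonsingular plane models attain the genus bound.** -/
theorem genus_eq_of_nonsingular (hK : IsFunctionField k K) [IsAlgClosed k] (x y : K)
    (hxy : IntermediateField.adjoin k ({x, y} : Set K) = ⊤)
    (hns : ∀ P : Place k K, IsNonsingularAt ![(1 : K), x, y] P) :
    2 * (genus k K : ℤ) =
      ((mapDiv k ![(1 : K), x, y]).deg - 1) * ((mapDiv k ![(1 : K), x, y]).deg - 2) := by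
  rcases transcendental_or hK x y hxy with hx | hy
  · obtain ⟨f, hf0, hf⟩ := exists_ker_generator hK x y hx
    exact genus_eq_of_nonsingular_aux hK x y hxy f hf0 hf hns
  · obtain ⟨f, hf0, hf⟩ := exists_ker_generator hK y x hy
    have hyx : IntermediateField.adjoin k ({y, x} : Set K) = ⊤ := by
      rw [Set.pair_comm]; exact hxy
    have hns' : ∀ P : Place k K, IsNonsingularAt ![(1 : K), y, x] P :=
      fun P => isNonsingularAt_swap y x P (hns P)
    have := genus_eq_of_nonsingular_aux hK y x hyx f hf0 hf hns'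
    rwa [mapDiv_plane_swap hK] at this

/-- **S11059**: a plane model has `2g = (d - 1)(d - 2)` iff it is nonsingular everywhere. -/
theorem plane_genus_iff (hK : IsFunctionField k K) [IsAlgClosed k] (x y : K)
    (hxy : IntermediateField.adjoin k ({x, y} : Set K) = ⊤) :
    2 * (genus k K : ℤ) =
        ((mapDiv k ![(1 : K), x, y]).deg - 1) * ((mapDiv k ![(1 : K), x, y]).deg - 2) ↔
      ∀ P : Place k K, IsNonsingularAt ![(1 : K), x, y] P :=
  ⟨fun h P => nonsingular_of_genus_eq hK x y hxy h P, genus_eq_of_nonsingular hK x y hxy⟩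

/-- A generator of the ideal from an irreducible relation. -/
theorem ker_generator_of_irreducible (x y : K) (f₀ : MvPolynomial (Fin 2) k)
    (hf₀ : ∀ G : MvPolynomial (Fin 2) k, MvPolynomial.aeval ![x, y] G = 0 ↔ f₀ ∣ G)
    (f : MvPolynomial (Fin 2) k) (hf : Irreducible f)
    (hfxy : MvPolynomial.aeval ![x, y] f = 0) :
    ∀ G : MvPolynomial (Fin 2) k, MvPolynomial.aeval ![x, y] G = 0 ↔ f ∣ G := by
  obtain ⟨c, hc⟩ := (hf₀ f).mp hfxy
  have hnu : ¬ IsUnit f₀ := by
    intro hu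
    have h1 : MvPolynomial.aeval ![x, y] (1 : MvPolynomial (Fin 2) k) = 0 :=
      (hf₀ 1).mpr hu.dvd
    rw [map_one] at h1
    exact one_ne_zero h1
  have hcu : IsUnit c := (hf.isUnit_or_isUnit hc).resolve_left hnu
  intro G
  rw [hf₀ G, hc]
  exact (IsUnit.mul_right_dvd hcu).symm

/-- **S11070**: the degree of a plane curve is the degree of its equation. -/
theorem deg_mapDiv_eq_totalDegree (hK : IsFunctionField k K) [IsAlgClosed k] (x y : K)
    (hxy : IntermediateField.adjoin k ({x, y} : Set K) = ⊤) (f : MvPolynomial (Fin 2) k)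
    (hf : Irreducible f) (hfxy : MvPolynomial.aeval ![x, y] f = 0) :
    (mapDiv k ![(1 : K), x, y]).deg = f.totalDegree := by
  rcases transcendental_or hK x y hxy with hx | hy
  · obtain ⟨f₀, hf₀0, hf₀⟩ := exists_ker_generator hK x y hx
    exact deg_mapDiv_eq_totalDegree_aux hK x y hxy f hf.ne_zero
      (ker_generator_of_irreducible x y f₀ hf₀ f hf hfxy)
  · obtain ⟨f₀, hf₀0, hf₀⟩ := exists_ker_generator hK y x hy
    have hyx : IntermediateField.adjoin k ({y, x} : Set K) = ⊤ := by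
      rw [Set.pair_comm]; exact hxy
    set σ : Fin 2 ≃ Fin 2 := Equiv.swap 0 1 with hσ
    set f' : MvPolynomial (Fin 2) k := MvPolynomial.rename σ f with hf'
    have hf'irr : Irreducible f' := by
      have : f' = MvPolynomial.renameEquiv k σ f := rfl
      rw [this]
      exact (MulEquiv.irreducible_iff (MvPolynomial.renameEquiv k σ)).mpr hf
    have hf'deg : f'.totalDegree = f.totalDegree := MvPolynomial.totalDegree_renameEquiv σ f
    have hf'xy : MvPolynomial.aeval ![y, x] f' = 0 := by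
      rw [hf', MvPolynomial.aeval_rename]
      have : (![y, x] ∘ σ : Fin 2 → K) = ![x, y] := by
        funext i
        fin_cases i
        · simp [σ]
        · simp [σ]
      rw [this]
      exact hfxy
    have := deg_mapDiv_eq_totalDegree_aux hK y x hyx f' hf'irr.ne_zero
      (ker_generator_of_irreducible y x f₀ hf₀ f' hf'irr hf'xy)
    rw [mapDiv_plane_swap hK, hf'deg] at this
    exact this

theorem deg_mapDiv_plane_pos (hK : IsFunctionField k K) [IsAlgClosed k] (x y : K)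
    (hxy : IntermediateField.adjoin k ({x, y} : Set K) = ⊤) :
    1 ≤ (mapDiv k ![(1 : K), x, y]).deg := by
  obtain ⟨x', y', hx'L, hy'L, htr, hpoles, hgen, hx', hy'⟩ := exists_generic_form' hK x y hxy
  haveI := finiteDimensional_adjoin hK htr
  have hdpos : 0 < Module.finrank k⟮x'⟯ K := Module.finrank_pos
  rw [← hpoles, deg_polesDiv hK htr]
  exact_mod_cast hdpos

/-- **S11060**: the genus of a function field with a nonsingular plane model is triangular. -/
theorem exists_triangular (hK : IsFunctionField k K) [IsAlgClosed k]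
    (h : ∃ x y : K, IntermediateField.adjoin k ({x, y} : Set K) = ⊤ ∧
      ∀ P : Place k K, IsNonsingularAt ![(1 : K), x, y] P) :
    ∃ m : ℕ, 2 * genus k K = m * (m + 1) := by
  obtain ⟨x, y, hxy, hns⟩ := h
  have h1 := genus_eq_of_nonsingular hK x y hxy hns
  have h2 := deg_mapDiv_plane_pos hK x y hxy
  set d := (mapDiv k ![(1 : K), x, y]).deg with hd
  rcases eq_or_lt_of_le h2 with h3 | h3
  · refine ⟨0, ?_⟩
    rw [← h3] at h1
    have : 2 * (genus k K : ℤ) = 0 := by rw [h1]; ring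
    have h4 : (genus k K : ℤ) = 0 := by omega
    have h5 : genus k K = 0 := by exact_mod_cast h4
    rw [h5]
  · refine ⟨(d - 2).toNat, ?_⟩
    have h4 : ((d - 2).toNat : ℤ) = d - 2 := Int.toNat_of_nonneg (by omega)
    have : ((2 * genus k K : ℕ) : ℤ) = (((d - 2).toNat * ((d - 2).toNat + 1) : ℕ) : ℤ) := by
      push_cast
      rw [h4, h1]
      ring
    exact_mod_cast this


end FF

end Groth.Agent.Lib.helper10
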