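import Groth.Agent.Lib.Helper10.FunFld41

/-!
Function fields of one variable (helper10), part 42: the genus of a hyperelliptic function field
`y² = f(x)`.
-/

set_option autoImplicit false
set_option linter.unusedSectionVars false
set_option linter.style.haveILetI false

universe u v w

open IntermediateField FunFld Polynomial

namespace Groth.Agent.Lib.helper10

namespace FF

open RD PA

section Over

variable {k : Type u} {F : Type v} {E : Type w} [Field k] [Field F] [Field E]
  [Algebra k F] [Algebra F E] [Algebra k E] [IsScalarTower k F E]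

/-- Every place of the small field has a place above it. -/
theorem exists_place_over [FiniteDimensional F E] (hF : IsFunctionField k F) (P : Place k F) :
    ∃ Q : Place k E, IsOver Q P := by
  classical
  have hfin := finite_places_over' (E := E) hF P
  have hsum := sum_ramIdx_mul_deg hF P hfin.toFinset (fun Q' => Set.Finite.mem_toFinset hfin)
  have hne : hfin.toFinset.Nonempty := by
    by_contra hempty
    rw [Finset.not_nonempty_iff_eq_empty] at hempty
    rw [hempty, Finset.sum_empty] at hsum
    have h1 := Place.deg_pos hF P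
    have h2 : 0 < Module.finrank F E := Module.finrank_pos
    have := Nat.mul_pos h2 h1
    omega
  obtain ⟨Q₀, hQ₀⟩ := hne
  exact ⟨Q₀, (Set.Finite.mem_toFinset hfin).mp hQ₀⟩

/-- Pole divisors are compatible with extension of places. -/
theorem polesDiv_algebraMap_apply (hF : IsFunctionField k F)
    (hE : IsFunctionField k E) {Q : Place k E} {P : Place k F} {e : ℕ} (he : IsOverWith Q P e)
    (x : F) : polesDiv k (algebraMap F E x) Q = e * polesDiv k x P := by
  rw [polesDiv_apply hE, polesDiv_apply hF, ord_algebraMap_of_isOverWith he]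
  have he0 : (0 : ℤ) ≤ e := Int.natCast_nonneg _
  rcases le_total 0 (-P.ord x) with h | h
  · rw [max_eq_left h, max_eq_left (by nlinarith)]
    ring
  · rw [max_eq_right h, max_eq_right (by nlinarith), mul_zero]

/-- An element of the small field lying in `L(m (x)_∞)` upstairs already lies in `L(m (x)_∞)`
downstairs. -/
theorem mem_L_of_algebraMap_mem_L [FiniteDimensional F E] (hF : IsFunctionField k F)
    (hE : IsFunctionField k E) (x : F) (m : ℕ) {c : F}
    (hc : algebraMap F E c ∈ L ((m : ℤ) • polesDiv k (algebraMap F E x))) :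
    c ∈ L ((m : ℤ) • polesDiv k x) := by
  intro P
  obtain ⟨Q, e, he⟩ := exists_place_over (E := E) hF P
  have hepos := isOverWith_pos he
  have h1 := hc Q
  rw [he c, Finsupp.smul_apply, polesDiv_algebraMap_apply hF hE he, smul_eq_mul] at h1
  rw [Finsupp.smul_apply, smul_eq_mul]
  have h2 : WithZero.exp ((m : ℤ) * ((e : ℤ) * polesDiv k x P)) =
      WithZero.exp ((m : ℤ) * polesDiv k x P) ^ e := by
    rw [← WithZero.exp_nsmul, nsmul_eq_mul]
    congr 1
    ring
  rw [h2] at h1
  exact (pow_le_pow_iff_left₀ zero_le zero_le (by omega)).mp h1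

end Over

section RatL

variable {k : Type u} [Field k]

/-- A rational function integral at all finite places is a polynomial. -/
theorem RatFunc.eq_algebraMap_of_integral (a : RatFunc k)
    (h : ∀ P₀ : Place k (RatFunc k), P₀.1 RatFunc.X ≤ 1 → P₀.1 a ≤ 1) :
    ∃ p : k[X], a = algebraMap k[X] (RatFunc k) p := by
  by_cases hden : 1 ≤ a.denom.natDegree
  · exfalso
    obtain ⟨q, P₀, hq, hqd, hP₀⟩ := exists_place_irreducible_factor hden
    have hX := Place.val_X_le_one_of_irreducible P₀ hq hP₀
    have hden_lt : P₀.1 (algebraMap k[X] (RatFunc k) a.denom) < 1 := by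
      obtain ⟨r, hr⟩ := hqd
      rw [hr, map_mul, Valuation.map_mul]
      calc _ ≤ P₀.1 (algebraMap k[X] (RatFunc k) q) * 1 :=
            mul_le_mul' le_rfl (Place.val_polynomial_le_one P₀ hX r)
        _ < 1 := by rw [mul_one]; exact hP₀
    have hqn : ¬ q ∣ a.num := by
      intro hqn
      have hcop := RatFunc.isCoprime_num_denom a
      exact hq.not_isUnit (hcop.isUnit_of_dvd' hqn hqd)
    have hnum : P₀.1 (algebraMap k[X] (RatFunc k) a.num) = 1 :=
      Place.val_eq_one_of_not_dvd P₀ hq hP₀ hqn
    have ha := h P₀ hX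
    rw [← RatFunc.num_div_denom a, map_div₀, hnum] at ha
    have hden0 : P₀.1 (algebraMap k[X] (RatFunc k) a.denom) ≠ 0 :=
      (Valuation.ne_zero_iff _).mpr ((_root_.map_ne_zero_iff _
        (RatFunc.algebraMap_injective k)).mpr (RatFunc.denom_ne_zero a))
    rw [div_le_iff₀ (zero_lt_iff.mpr hden0), one_mul] at ha
    exact absurd ha (not_le.mpr hden_lt)
  · have hd0 : a.denom.natDegree = 0 := by omega
    have hden1 : a.denom = 1 := by
      have hm : a.denom.leadingCoeff = 1 := RatFunc.monic_denom a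
      rw [eq_C_of_natDegree_eq_zero hd0, leadingCoeff_C] at hm
      rw [eq_C_of_natDegree_eq_zero hd0, hm, C_1]
    refine ⟨a.num, ?_⟩
    conv_lhs => rw [← RatFunc.num_div_denom a, hden1, map_one, div_one]

/-- `L(m (X)_∞)` in the rational function field consists of the polynomials of degree `≤ m`. -/
theorem RatFunc.mem_L_polesDiv_X {m : ℕ} {c : RatFunc k}
    (hc : c ∈ L ((m : ℤ) • polesDiv k (RatFunc.X : RatFunc k))) :
    ∃ p : k[X], p.natDegree ≤ m ∧ c = algebraMap k[X] (RatFunc k) p := by
  have hR := isFunctionField_ratFunc (k := k)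
  have hfinite : ∀ P₀ : Place k (RatFunc k), P₀.1 RatFunc.X ≤ 1 → P₀.1 c ≤ 1 := by
    intro P₀ hX
    have h1 := hc P₀
    rw [Finsupp.smul_apply, polesDiv_apply hR, smul_eq_mul] at h1
    have h2 : 0 ≤ P₀.ord (RatFunc.X : RatFunc k) :=
      (Place.ord_nonneg_iff P₀ RatFunc.X_ne_zero).mpr hX
    rw [max_eq_right (by omega), mul_zero, WithZero.exp_zero] at h1
    exact h1
  obtain ⟨p, rfl⟩ := RatFunc.eq_algebraMap_of_integral c hfinite
  refine ⟨p, ?_, rfl⟩
  by_cases hp : p = 0
  · rw [hp, natDegree_zero]; exact Nat.zero_le _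
  have hXc : (RatFunc.X : RatFunc k) ∉ Set.range (algebraMap k (RatFunc k)) :=
    not_mem_range_of_transcendental RatFunc.transcendental_X
  obtain ⟨Pinf, hinf⟩ := exists_pole hR hXc
  have h1 := hc Pinf
  have hιp0 : algebraMap k[X] (RatFunc k) p ≠ 0 :=
    (_root_.map_ne_zero_iff _ (RatFunc.algebraMap_injective k)).mpr hp
  rw [Finsupp.smul_apply, polesDiv_apply hR, smul_eq_mul, (Place.infinity_deg_and_ord Pinf hinf).2,
    Place.val_eq_exp_neg_ord Pinf hιp0, Place.infinity_ord_polynomial Pinf hinf hp,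
    WithZero.exp_le_exp] at h1
  simp only [neg_neg] at h1
  have h2 : max (1 : ℤ) 0 = 1 := by norm_num
  rw [h2, mul_one] at h1
  exact_mod_cast h1

end RatL

section HyperGenus

variable {k : Type u} {K : Type v} [Field k] [Field K] [Algebra k K] [Algebra (RatFunc k) K]
  [IsScalarTower k (RatFunc k) K]

theorem algebraMap_polynomial_eq_aeval (p : k[X]) :
    algebraMap (RatFunc k) K (algebraMap k[X] (RatFunc k) p) =
      aeval (algebraMap (RatFunc k) K RatFunc.X) p := by
  rw [← RatFunc.aeval_X_left_eq_algebraMap, ← aeval_algebraMap_apply]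

/-- The bound `exp (m · (x)_∞(P))` in terms of the valuation of `x`. -/
theorem exp_smul_polesDiv (hK : IsFunctionField k K) (x : K) (hx0 : x ≠ 0) (m : ℕ) (P : Place k K) :
    WithZero.exp (((m : ℤ) • polesDiv k x) P) = if P.1 x ≤ 1 then 1 else P.1 x ^ m := by
  rw [Finsupp.smul_apply, polesDiv_apply hK, smul_eq_mul]
  split_ifs with h
  · have h1 : 0 ≤ P.ord x := (Place.ord_nonneg_iff P hx0).mpr h
    rw [max_eq_right (by omega), mul_zero, WithZero.exp_zero]
  · rw [not_le] at h
    have h1 : P.ord x < 0 := (Place.ord_neg_iff P hx0).mpr h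
    rw [max_eq_left (by omega), Place.val_eq_exp_neg_ord P hx0, ← WithZero.exp_nsmul, nsmul_eq_mul]

theorem sq_le_sq_imp {a b : WithZero (Multiplicative ℤ)} (h : a ^ 2 ≤ b ^ 2) : a ≤ b :=
  (pow_le_pow_iff_left₀ zero_le zero_le (by norm_num)).mp h

variable (hK : IsFunctionField k K) (h2 : ringChar k ≠ 2)
  (hdeg : Module.finrank (RatFunc k) K = 2) {y : K} {f : k[X]} (hf : Squarefree f)
  (hd : 1 ≤ f.natDegree)
  (heq : y ^ 2 = algebraMap (RatFunc k) K (algebraMap k[X] (RatFunc k) f))

include heq in
theorem hyper_val_y_sq (P : Place k K) :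
    P.1 y ^ 2 = P.1 (aeval (algebraMap (RatFunc k) K RatFunc.X) f) := by
  rw [← Valuation.map_pow, heq, algebraMap_polynomial_eq_aeval]

include hK hd heq in
/-- Polynomials in `x` of degree `≤ m` lie in `L(m (x)_∞)`. -/
theorem hyper_poly_mem_L {m : ℕ} {p : k[X]} (hp : p.natDegree ≤ m) :
    aeval (algebraMap (RatFunc k) K RatFunc.X) p ∈
      L ((m : ℤ) • polesDiv k (algebraMap (RatFunc k) K RatFunc.X)) := by
  set X' := algebraMap (RatFunc k) K RatFunc.X with hX'
  have hX'0 : X' ≠ 0 := (_root_.map_ne_zero _).mpr RatFunc.X_ne_zero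
  intro P
  rw [exp_smul_polesDiv hK X' hX'0]
  split_ifs with h
  · exact (Place.trivOn P).aeval_le_one h p
  · rw [not_le] at h
    by_cases hp0 : p = 0
    · rw [hp0, map_zero, Valuation.map_zero]; exact zero_le
    · rw [Place.val_aeval_of_one_lt P h p hp0]
      exact pow_le_pow_right₀ h.le hp

include hK hd heq in
/-- Polynomials in `x` times `y` lie in `L(m (x)_∞)` when `2 deg + d ≤ 2m`. -/
theorem hyper_poly_mul_y_mem_L {m : ℕ} {q : k[X]} (hq : 2 * q.natDegree + f.natDegree ≤ 2 * m) :
    aeval (algebraMap (RatFunc k) K RatFunc.X) q * y ∈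
      L ((m : ℤ) • polesDiv k (algebraMap (RatFunc k) K RatFunc.X)) := by
  set X' := algebraMap (RatFunc k) K RatFunc.X with hX'
  have hX'0 : X' ≠ 0 := (_root_.map_ne_zero _).mpr RatFunc.X_ne_zero
  have hf0 : f ≠ 0 := by
    rintro rfl
    simp at hd
  intro P
  rw [exp_smul_polesDiv hK X' hX'0]
  apply sq_le_sq_imp
  rw [Valuation.map_mul, mul_pow, hyper_val_y_sq heq P]
  split_ifs with h
  · rw [one_pow]
    exact mul_le_one' (pow_le_one' ((Place.trivOn P).aeval_le_one h q) 2)
      ((Place.trivOn P).aeval_le_one h f)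
  · rw [not_le] at h
    by_cases hq0 : q = 0
    · rw [hq0, map_zero, Valuation.map_zero, zero_pow (by norm_num), zero_mul]; exact zero_le
    · rw [Place.val_aeval_of_one_lt P h q hq0, Place.val_aeval_of_one_lt P h f hf0, ← pow_mul,
        ← pow_add, ← pow_mul]
      exact pow_le_pow_right₀ h.le (by omega)

include hK in
/-- `L(m (x)_∞)` is stable under automorphisms fixing `x`. -/
theorem hyper_L_invariant (σ : K ≃ₐ[RatFunc k] K) {m : ℕ} {z : K}
    (hz : z ∈ L ((m : ℤ) • polesDiv k (algebraMap (RatFunc k) K RatFunc.X))) :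
    σ z ∈ L ((m : ℤ) • polesDiv k (algebraMap (RatFunc k) K RatFunc.X)) := by
  set X' := algebraMap (RatFunc k) K RatFunc.X with hX'
  have hX'0 : X' ≠ 0 := (_root_.map_ne_zero _).mpr RatFunc.X_ne_zero
  intro P
  have h1 := hz (Place.comapAut P σ)
  rw [exp_smul_polesDiv hK X' hX'0] at h1 ⊢
  have h3 : (Place.comapAut P σ).1 X' = P.1 X' := by
    rw [Place.comapAut_apply, hX', σ.commutes]
  rw [h3] at h1
  exact h1

include hK h2 hdeg hf hd heq in
/-- The structure of `L(m (x)_∞)` in a hyperelliptic function field. -/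
theorem hyper_mem_L_decomp {m : ℕ} {z : K}
    (hz : z ∈ L ((m : ℤ) • polesDiv k (algebraMap (RatFunc k) K RatFunc.X))) :
    ∃ p q : k[X], p.natDegree ≤ m ∧ (q = 0 ∨ 2 * q.natDegree + f.natDegree ≤ 2 * m) ∧
      z = aeval (algebraMap (RatFunc k) K RatFunc.X) p +
        aeval (algebraMap (RatFunc k) K RatFunc.X) q * y := by
  haveI := finiteDimensional_of_finrank_two hdeg
  have hR := isFunctionField_ratFunc (k := k)
  set X' := algebraMap (RatFunc k) K RatFunc.X with hX'
  have hf0 : f ≠ 0 := by
    rintro rfl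
    simp at hd
  have hy := hyper_not_mem_range hf hd heq
  have hιf0 : algebraMap k[X] (RatFunc k) f ≠ 0 :=
    (_root_.map_ne_zero_iff _ (RatFunc.algebraMap_injective k)).mpr hf0
  have h2k : (2 : k) ≠ 0 := Ring.two_ne_zero h2
  have h2R : (2 : RatFunc k) ≠ 0 := by
    rw [← map_ofNat (algebraMap k (RatFunc k)) 2]
    exact (_root_.map_ne_zero _).mpr h2k
  have h2K : (2 : K) ≠ 0 := by
    rw [← map_ofNat (algebraMap k K) 2]
    exact (_root_.map_ne_zero _).mpr h2k
  haveI : IsGalois (RatFunc k) K := isGalois_of_sq hdeg h2R hιf0 heq hy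
  obtain ⟨σ, hσ⟩ := exists_aut_ne_one (F := RatFunc k) (E := K) hdeg
  have hspan := span_of_not_mem_range hdeg hy
  have hσy : σ y = -y := by
    have h1 : σ y ≠ y := aut_apply_ne_of_span hspan hσ
    have h2' : (σ y) ^ 2 = y ^ 2 := by rw [← map_pow, heq, σ.commutes]
    have h3 : (σ y - y) * (σ y + y) = 0 := by linear_combination h2'
    rcases mul_eq_zero.mp h3 with h | h
    · exact absurd (sub_eq_zero.mp h) h1
    · exact eq_neg_of_add_eq_zero_left h
  obtain ⟨a, b, hab⟩ := hspan z
  have hσz : σ z = algebraMap (RatFunc k) K a - algebraMap (RatFunc k) K b * y := by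
    rw [hab, map_add, map_mul, σ.commutes, σ.commutes, hσy]
    ring
  have hσzL := hyper_L_invariant hK σ hz
  have hinv2 : algebraMap k K (2⁻¹ : k) = (2 : K)⁻¹ := by
    rw [map_inv₀, map_ofNat]
  have ha_mem : algebraMap (RatFunc k) K a ∈ L ((m : ℤ) • polesDiv k X') := by
    have e1 : algebraMap (RatFunc k) K a = (2⁻¹ : k) • (z + σ z) := by
      rw [Algebra.smul_def, hinv2, hσz, hab]
      field_simp
      ring
    rw [e1]
    exact Submodule.smul_mem _ _ (add_mem hz hσzL)
  have hb_mem : algebraMap (RatFunc k) K b * y ∈ L ((m : ℤ) • polesDiv k X') := by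
    have e1 : algebraMap (RatFunc k) K b * y = (2⁻¹ : k) • (z - σ z) := by
      rw [Algebra.smul_def, hinv2, hσz, hab]
      field_simp
      ring
    rw [e1]
    exact Submodule.smul_mem _ _ (sub_mem hz hσzL)
  have ha' := mem_L_of_algebraMap_mem_L hR hK RatFunc.X m ha_mem
  obtain ⟨p, hp, rfl⟩ := RatFunc.mem_L_polesDiv_X ha'
  have hsq : algebraMap (RatFunc k) K (b ^ 2 * algebraMap k[X] (RatFunc k) f) ∈
      L (((2 * m : ℕ) : ℤ) • polesDiv k X') := by
    intro P
    have h1 := hb_mem P
    rw [map_mul, map_pow, ← heq, ← mul_pow, Valuation.map_pow]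
    have e2 : WithZero.exp ((((2 * m : ℕ) : ℤ) • polesDiv k X') P) =
        WithZero.exp (((m : ℤ) • polesDiv k X') P) ^ 2 := by
      rw [← WithZero.exp_nsmul, Finsupp.smul_apply, Finsupp.smul_apply]
      congr 1
      simp only [smul_eq_mul, nsmul_eq_mul]
      push_cast
      ring
    rw [e2]
    exact pow_le_pow_left' h1 2
  have hsq' := mem_L_of_algebraMap_mem_L hR hK RatFunc.X (2 * m) hsq
  obtain ⟨g, hg, hbg⟩ := RatFunc.mem_L_polesDiv_X hsq'
  by_cases hb0 : b = 0
  · refine ⟨p, 0, hp, Or.inl rfl, ?_⟩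
    rw [hab, hb0, map_zero, zero_mul, add_zero, map_zero, zero_mul, add_zero,
      algebraMap_polynomial_eq_aeval]
  · set r := b.num with hr
    set s := b.denom with hs
    have hs0 : s ≠ 0 := RatFunc.denom_ne_zero b
    have hr0 : r ≠ 0 := RatFunc.num_ne_zero hb0
    have hιs0 : algebraMap k[X] (RatFunc k) s ≠ 0 :=
      (_root_.map_ne_zero_iff _ (RatFunc.algebraMap_injective k)).mpr hs0
    have hb : b = algebraMap k[X] (RatFunc k) r / algebraMap k[X] (RatFunc k) s :=
      (RatFunc.num_div_denom b).symm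
    have hrel : r ^ 2 * f = g * s ^ 2 := by
      apply RatFunc.algebraMap_injective k
      rw [map_mul, map_mul, map_pow, map_pow, ← hbg, hb]
      field_simp
    have hcop : IsCoprime (s ^ 2) (r ^ 2) := (RatFunc.isCoprime_num_denom b).symm.pow
    have hsf : s ^ 2 ∣ f := hcop.dvd_of_dvd_mul_left ⟨g, by rw [hrel]; ring⟩
    have hsu : IsUnit s := hf s (by rwa [← pow_two])
    have hs1 : s = 1 := by
      have hd0 := natDegree_eq_zero_of_isUnit hsu
      have hm : s.leadingCoeff = 1 := RatFunc.monic_denom b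
      rw [eq_C_of_natDegree_eq_zero hd0, leadingCoeff_C] at hm
      rw [eq_C_of_natDegree_eq_zero hd0, hm, C_1]
    have hbr : b = algebraMap k[X] (RatFunc k) r := by
      rw [hb, hs1, map_one, div_one]
    refine ⟨p, r, hp, Or.inr ?_, ?_⟩
    · have h5 : (r ^ 2 * f).natDegree = 2 * r.natDegree + f.natDegree := by
        rw [natDegree_mul (pow_ne_zero 2 hr0) hf0, natDegree_pow]
      rw [hrel, hs1, one_pow, mul_one] at h5
      omega
    · rw [hab, hbr, algebraMap_polynomial_eq_aeval, algebraMap_polynomial_eq_aeval]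

theorem finrank_degreeLT' (n : ℕ) : Module.finrank k (degreeLT k n) = n := by
  rw [(degreeLTEquiv k n).finrank_eq, Module.finrank_fin_fun]

theorem natDegree_le_of_mem_degreeLT {n : ℕ} {p : k[X]} (hp : p ∈ degreeLT k (n + 1)) :
    p.natDegree ≤ n := by
  by_cases hp0 : p = 0
  · rw [hp0, natDegree_zero]; exact Nat.zero_le _
  · have := (natDegree_lt_iff_degree_lt hp0).mpr (mem_degreeLT.mp hp)
    omega

theorem mem_degreeLT_of_natDegree_le {n : ℕ} {p : k[X]} (hp : p.natDegree ≤ n) :
    p ∈ degreeLT k (n + 1) := by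
  rw [mem_degreeLT]
  apply lt_of_le_of_lt (degree_le_of_natDegree_le hp)
  exact_mod_cast Nat.lt_succ_self n

include hK h2 hdeg hf hd heq in
/-- `ℓ(m (x)_∞)` in a hyperelliptic function field. -/
theorem hyper_ell {m : ℕ} (hm : (f.natDegree + 1) / 2 ≤ m) :
    ell ((m : ℤ) • polesDiv k (algebraMap (RatFunc k) K RatFunc.X)) =
      (m + 1) + (m - (f.natDegree + 1) / 2 + 1) := by
  set X' := algebraMap (RatFunc k) K RatFunc.X with hX'
  obtain ⟨m', hm'⟩ : ∃ m', m = (f.natDegree + 1) / 2 + m' := Nat.exists_eq_add_of_le hm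
  have hsub : m - (f.natDegree + 1) / 2 = m' := by omega
  rw [hsub]
  have hy := hyper_not_mem_range hf hd heq
  let Φ : (degreeLT k (m + 1)) × (degreeLT k (m' + 1)) →ₗ[k] K :=
    ((aeval X').toLinearMap ∘ₗ (degreeLT k (m + 1)).subtype).coprod
      ((LinearMap.mulRight k y) ∘ₗ (aeval X').toLinearMap ∘ₗ (degreeLT k (m' + 1)).subtype)
  have hΦ : ∀ pq, Φ pq = aeval X' (pq.1 : k[X]) + aeval X' (pq.2 : k[X]) * y := fun pq => rfl
  have hrange : LinearMap.range Φ = L ((m : ℤ) • polesDiv k X') := by
    apply le_antisymm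
    · rintro _ ⟨⟨p, q⟩, rfl⟩
      rw [hΦ]
      apply add_mem
      · exact hyper_poly_mem_L hK hd heq (natDegree_le_of_mem_degreeLT p.2)
      · apply hyper_poly_mul_y_mem_L hK hd heq
        have := natDegree_le_of_mem_degreeLT q.2
        show 2 * (q : k[X]).natDegree + f.natDegree ≤ 2 * m
        omega
    · intro z hz
      obtain ⟨p, q, hp, hq, rfl⟩ := hyper_mem_L_decomp hK h2 hdeg hf hd heq hz
      have hq' : q.natDegree ≤ m' := by
        rcases hq with rfl | hq
        · rw [natDegree_zero]; exact Nat.zero_le _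
        · omega
      exact ⟨⟨⟨p, mem_degreeLT_of_natDegree_le hp⟩, ⟨q, mem_degreeLT_of_natDegree_le hq'⟩⟩, rfl⟩
  have hinj : Function.Injective Φ := by
    rw [← LinearMap.ker_eq_bot, LinearMap.ker_eq_bot']
    rintro ⟨p, q⟩ hpq
    rw [hΦ, ← algebraMap_polynomial_eq_aeval, ← algebraMap_polynomial_eq_aeval] at hpq
    have hq0 : (q : k[X]) = 0 := by
      by_contra hne
      have hιq : algebraMap (RatFunc k) K (algebraMap k[X] (RatFunc k) (q : k[X])) ≠ 0 :=
        (_root_.map_ne_zero _).mpr ((_root_.map_ne_zero_iff _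
          (RatFunc.algebraMap_injective k)).mpr hne)
      apply hy
      refine ⟨-(algebraMap k[X] (RatFunc k) (p : k[X])) / algebraMap k[X] (RatFunc k) (q : k[X]), ?_⟩
      rw [map_div₀, map_neg, div_eq_iff hιq]
      linear_combination -hpq
    have hp0 : (p : k[X]) = 0 := by
      simp only at hpq
      rw [hq0, map_zero, map_zero, zero_mul, add_zero] at hpq
      have h1 := (_root_.map_eq_zero _).mp hpq
      exact (_root_.map_eq_zero_iff _ (RatFunc.algebraMap_injective k)).mp h1
    exact Prod.ext (Subtype.ext hp0) (Subtype.ext hq0)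
  unfold ell
  rw [← hrange, LinearMap.finrank_range_of_inj hinj, Module.finrank_prod, finrank_degreeLT',
    finrank_degreeLT']

include hK h2 hdeg hf hd heq in
/-- **S11014**: the genus of `y² = f(x)`. -/
theorem hyper_genus : genus k K = (f.natDegree - 1) / 2 := by
  haveI := finiteDimensional_of_finrank_two hdeg
  set X' := algebraMap (RatFunc k) K RatFunc.X with hX'
  obtain ⟨N, hN⟩ := riemann hK
  set h := (f.natDegree + 1) / 2 with hh
  set m : ℕ := N.toNat + h with hm
  have hX'tr : Transcendental k X' :=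
    (transcendental_algebraMap_iff (algebraMap (RatFunc k) K).injective).mpr
      RatFunc.transcendental_X
  have hdegD : ((m : ℤ) • polesDiv k X').deg = 2 * m := by
    rw [deg_zsmul, deg_polesDiv hK hX'tr, hX', finrank_adjoin_algebraMap (k := k) (E := K),
      RatFunc.adjoin_X, IntermediateField.finrank_top, hdeg]
    push_cast
    ring
  have h1 := hN ((m : ℤ) • polesDiv k X') (by
    rw [hdegD, hm]
    have := Int.self_le_toNat N
    push_cast
    omega)
  rw [hdegD, hyper_ell hK h2 hdeg hf hd heq (show (f.natDegree + 1) / 2 ≤ m by omega)] at h1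
  omega

end HyperGenus

section HyperSetup

variable {k : Type u} {K : Type v} [Field k] [Field K] [Algebra k K]

/-- Present `k(x, y)`, `y² = f(x)`, as a quadratic extension of the rational function field. -/
theorem hyper_setup (x y : K) (hx : Transcendental k x)
    (hxy : IntermediateField.adjoin k ({x, y} : Set K) = ⊤) (f : k[X]) (hf : Squarefree f)
    (hd : 1 ≤ f.natDegree) (heq : y ^ 2 = aeval x f) :
    ∃ (_ : Algebra (RatFunc k) K) (_ : IsScalarTower k (RatFunc k) K),
      Module.finrank (RatFunc k) K = 2 ∧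
      y ^ 2 = algebraMap (RatFunc k) K (algebraMap k[X] (RatFunc k) f) ∧
      algebraMap (RatFunc k) K RatFunc.X = x := by
  set e := RatFunc.algEquivOfTranscendental x hx with he
  letI : Algebra (RatFunc k) K :=
    ((algebraMap k⟮x⟯ K).comp (e : RatFunc k →+* k⟮x⟯)).toAlgebra
  have hmap : ∀ u : RatFunc k, algebraMap (RatFunc k) K u = (e u : K) := fun u => rfl
  haveI : IsScalarTower k (RatFunc k) K := IsScalarTower.of_algebraMap_eq (fun c => by
    rw [hmap, e.commutes]
    rfl)
  have heq' : y ^ 2 = algebraMap (RatFunc k) K (algebraMap k[X] (RatFunc k) f) := by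
    rw [heq, hmap, he, RatFunc.algEquivOfTranscendental_algebraMap, ← IntermediateField.aeval_coe]
    rfl
  have hXx : algebraMap (RatFunc k) K RatFunc.X = x := by
    rw [hmap, he, RatFunc.algEquivOfTranscendental_X]
  have hy := hyper_not_mem_range hf hd heq'
  have htop : IntermediateField.adjoin (RatFunc k) ({y} : Set K) = ⊤ := by
    rw [eq_top_iff]
    intro z _
    have hz : z ∈ IntermediateField.adjoin k ({x, y} : Set K) := by rw [hxy]; trivial
    induction hz using IntermediateField.adjoin_induction with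
    | mem w hw =>
      rcases hw with rfl | hw
      · rw [← hXx]
        exact IntermediateField.algebraMap_mem _ _
      · rw [Set.mem_singleton_iff.mp hw]
        exact IntermediateField.mem_adjoin_simple_self _ _
    | algebraMap c =>
      rw [IsScalarTower.algebraMap_apply k (RatFunc k) K]
      exact IntermediateField.algebraMap_mem _ _
    | add a b _ _ ha hb => exact add_mem (ha trivial) (hb trivial)
    | inv a _ ha => exact inv_mem (ha trivial)
    | mul a b _ _ ha hb => exact mul_mem (ha trivial) (hb trivial)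
  have hint : IsIntegral (RatFunc k) y := by
    refine ⟨X ^ 2 - C (algebraMap k[X] (RatFunc k) f), monic_X_pow_sub_C _ (by norm_num), ?_⟩
    rw [eval₂_sub, eval₂_pow, eval₂_X, eval₂_C, heq', sub_self]
  have hdeg : Module.finrank (RatFunc k) K = 2 := by
    have h1 := IntermediateField.adjoin.finrank hint
    rw [htop, IntermediateField.finrank_top'] at h1
    rw [h1]
    have h3 : minpoly (RatFunc k) y ∣ X ^ 2 - C (algebraMap k[X] (RatFunc k) f) := by
      apply minpoly.dvd
      rw [map_sub, map_pow, aeval_X, aeval_C, heq', sub_self]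
    have h4 : (minpoly (RatFunc k) y).natDegree ≤ 2 := by
      have := natDegree_le_of_dvd h3 (monic_X_pow_sub_C _ (by norm_num)).ne_zero
      rwa [natDegree_X_pow_sub_C] at this
    have h5 := (minpoly.two_le_natDegree_iff hint).mpr hy
    omega
  exact ⟨inferInstance, inferInstance, hdeg, heq', hXx⟩

/-- **S11014** in its original form. -/
theorem hyper_genus' (hK : IsFunctionField k K) (h2 : ringChar k ≠ 2) (x y : K)
    (hx : Transcendental k x) (hxy : IntermediateField.adjoin k ({x, y} : Set K) = ⊤) (f : k[X])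
    (hf : Squarefree f) (hd : 1 ≤ f.natDegree) (heq : y ^ 2 = aeval x f) :
    genus k K = (f.natDegree - 1) / 2 := by
  obtain ⟨i1, i2, hdeg, heq', -⟩ := hyper_setup x y hx hxy f hf hd heq
  exact hyper_genus hK h2 hdeg hf hd heq'

end HyperSetup

end FF

end Groth.Agent.Lib.helper10
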