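import Groth.Agent.Lib.Helper10.LocRes1

/-!
Local residues through Laurent expansions (helper10), part 2: places of the rational function field
and the formal derivative of rational functions.
-/

set_option autoImplicit false
set_option linter.unusedSectionVars false
set_option linter.style.haveILetI false

universe u v w

open FunFld Polynomial

namespace Groth.Agent.Lib.helper10

namespace FF

open LaurentSeries

section RatPlaces

variable {k : Type u} [Field k]

/-- The value of a rational function at a place at infinity. -/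
theorem Place.infinity_val (P : Place k (RatFunc k)) (h : 1 < P.1 (RatFunc.X : RatFunc k))
    (u : RatFunc k) (hu : u ≠ 0) :
    P.1 u = WithZero.exp ((u.num.natDegree : ℤ) - (u.denom.natDegree : ℤ)) := by
  have hX : P.ord (RatFunc.X : RatFunc k) < 0 := (Place.ord_neg_iff P RatFunc.X_ne_zero).mpr h
  have hnum0 : u.num ≠ 0 := RatFunc.num_ne_zero hu
  have hden0 : u.denom ≠ 0 := RatFunc.denom_ne_zero u
  have hιn : algebraMap k[X] (RatFunc k) u.num ≠ 0 :=
    (_root_.map_ne_zero_iff _ (RatFunc.algebraMap_injective k)).mpr hnum0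
  have hιd : algebraMap k[X] (RatFunc k) u.denom ≠ 0 :=
    (_root_.map_ne_zero_iff _ (RatFunc.algebraMap_injective k)).mpr hden0
  conv_lhs => rw [← RatFunc.num_div_denom u]
  rw [map_div₀, Place.val_eq_exp_neg_ord P hιn, Place.val_eq_exp_neg_ord P hιd,
    Place.infinity_ord_polynomial P hX hnum0, Place.infinity_ord_polynomial P hX hden0,
    ← WithZero.exp_sub]
  congr 1
  ring

/-- The place at infinity of the rational function field is unique. -/
theorem Place.infinity_unique (P₁ P₂ : Place k (RatFunc k))
    (h₁ : 1 < P₁.1 (RatFunc.X : RatFunc k)) (h₂ : 1 < P₂.1 (RatFunc.X : RatFunc k)) : P₁ = P₂ := by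
  apply Subtype.ext
  ext u
  by_cases hu : u = 0
  · rw [hu, Valuation.map_zero, Valuation.map_zero]
  · rw [Place.infinity_val P₁ h₁ u hu, Place.infinity_val P₂ h₂ u hu]

/-- A finite place has an irreducible polynomial as a uniformizer. -/
theorem Place.exists_irreducible_uniformizer (p : Place k (RatFunc k))
    (hX : p.1 (RatFunc.X : RatFunc k) ≤ 1) :
    ∃ π : k[X], Irreducible π ∧ p.1 (algebraMap k[X] (RatFunc k) π) = WithZero.exp (-1 : ℤ) := by
  obtain ⟨t, ht⟩ := Place.exists_uniformizer p
  have ht0 : t ≠ 0 := by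
    rintro rfl
    rw [Valuation.map_zero] at ht
    exact WithZero.exp_ne_zero ht.symm
  have hnum0 : t.num ≠ 0 := RatFunc.num_ne_zero ht0
  have hden0 : t.denom ≠ 0 := RatFunc.denom_ne_zero t
  have hιd : algebraMap k[X] (RatFunc k) t.denom ≠ 0 :=
    (_root_.map_ne_zero_iff _ (RatFunc.algebraMap_injective k)).mpr hden0
  have hlt : p.1 t < 1 := by
    rw [ht, ← WithZero.exp_zero, WithZero.exp_lt_exp]
    norm_num
  have hnum : p.1 (algebraMap k[X] (RatFunc k) t.num) < 1 := by
    have h1 : algebraMap k[X] (RatFunc k) t.num = t * algebraMap k[X] (RatFunc k) t.denom := by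
      have h2 := RatFunc.num_div_denom t
      rw [div_eq_iff hιd] at h2
      exact h2
    rw [h1, Valuation.map_mul]
    calc p.1 t * p.1 (algebraMap k[X] (RatFunc k) t.denom) ≤ p.1 t * 1 :=
          mul_le_mul' le_rfl (Place.val_polynomial_le_one p hX _)
      _ < 1 := by rw [mul_one]; exact hlt
  obtain ⟨π, hπ, -, hπv⟩ := Place.exists_irreducible_factor p hX hnum0 hnum
  exact ⟨π, hπ, Place.val_irreducible_eq p hπ hπv⟩

/-- The denominator of a rational function integral at a finite place is a unit there. -/
theorem Place.val_denom_eq_one (p : Place k (RatFunc k)) (hX : p.1 (RatFunc.X : RatFunc k) ≤ 1)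
    {u : RatFunc k} (hu : p.1 u ≤ 1) : p.1 (algebraMap k[X] (RatFunc k) u.denom) = 1 := by
  apply le_antisymm (Place.val_polynomial_le_one p hX _)
  by_contra hlt
  rw [not_le] at hlt
  have hden0 : u.denom ≠ 0 := RatFunc.denom_ne_zero u
  obtain ⟨q, hq, hqd, hqv⟩ := Place.exists_irreducible_factor p hX hden0 hlt
  have hqn : ¬ q ∣ u.num := by
    intro hqn
    have hcop := RatFunc.isCoprime_num_denom u
    exact hq.not_isUnit (hcop.isUnit_of_dvd' hqn hqd)
  have hnum : p.1 (algebraMap k[X] (RatFunc k) u.num) = 1 :=
    Place.val_eq_one_of_not_dvd p hq hqv hqn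
  rw [← RatFunc.num_div_denom u, map_div₀, hnum] at hu
  have hden0' : p.1 (algebraMap k[X] (RatFunc k) u.denom) ≠ 0 :=
    (Valuation.ne_zero_iff _).mpr ((_root_.map_ne_zero_iff _
      (RatFunc.algebraMap_injective k)).mpr hden0)
  rw [div_le_iff₀ (zero_lt_iff.mpr hden0'), one_mul] at hu
  exact absurd hu (not_le.mpr hlt)

/-- The derivative of a rational function integral at a finite place is integral there. -/
theorem Place.val_ratDeriv_le_one (p : Place k (RatFunc k))
    (hX : p.1 (RatFunc.X : RatFunc k) ≤ 1) {u : RatFunc k} (hu : p.1 u ≤ 1) :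
    p.1 (ratDeriv u) ≤ 1 := by
  have hd := Place.val_denom_eq_one p hX hu
  unfold ratDeriv
  rw [Valuation.map_mul, Valuation.map_pow, map_inv₀, hd, inv_one, one_pow, one_mul]
  apply le_trans (Valuation.map_sub _ _ _)
  apply max_le
  · rw [Valuation.map_mul]
    exact mul_le_one' (Place.val_polynomial_le_one p hX _) (Place.val_polynomial_le_one p hX _)
  · rw [Valuation.map_mul]
    exact mul_le_one' (Place.val_polynomial_le_one p hX _) (Place.val_polynomial_le_one p hX _)

end RatPlaces

section Wronskian

variable {k : Type u} [Field k]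

theorem coeff_mul_derivative_top (a b : k[X]) (n : ℕ) (hn : n + 1 = a.natDegree + b.natDegree) :
    (b * derivative a).coeff n = b.leadingCoeff * a.leadingCoeff * (a.natDegree : k) := by
  by_cases hA : a.natDegree = 0
  · rw [eq_C_of_natDegree_eq_zero hA, derivative_C, mul_zero, coeff_zero, natDegree_C,
      Nat.cast_zero, mul_zero]
  · have hn' : n = b.natDegree + (a.natDegree - 1) := by omega
    rw [hn', coeff_mul_add_eq_of_natDegree_le le_rfl (natDegree_derivative_le a),
      coeff_derivative, mul_assoc]
    have h1 : a.natDegree - 1 + 1 = a.natDegree := by omega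
    rw [h1]
    have h2 : ((a.natDegree - 1 : ℕ) : k) + 1 = (a.natDegree : k) := by
      rw [← Nat.cast_one (R := k), ← Nat.cast_add, h1]
    rw [h2]
    rfl

/-- The degree of the numerator of the derivative of `a / b`. -/
theorem natDegree_wronskian {a b : k[X]}
    (h : ((a.natDegree : k) - (b.natDegree : k)) ≠ 0) (ha : a ≠ 0) (hb : b ≠ 0) :
    (b * derivative a - a * derivative b) ≠ 0 ∧
      (b * derivative a - a * derivative b).natDegree + 1 = a.natDegree + b.natDegree := by
  have hAB : 1 ≤ a.natDegree + b.natDegree := by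
    by_contra hlt
    have hA : a.natDegree = 0 := by omega
    have hB : b.natDegree = 0 := by omega
    rw [hA, hB, sub_self] at h
    exact h rfl
  obtain ⟨n, hn⟩ : ∃ n, n + 1 = a.natDegree + b.natDegree := ⟨a.natDegree + b.natDegree - 1, by omega⟩
  have hcoeff : (b * derivative a - a * derivative b).coeff n =
      a.leadingCoeff * b.leadingCoeff * ((a.natDegree : k) - (b.natDegree : k)) := by
    rw [coeff_sub, coeff_mul_derivative_top a b n hn,
      coeff_mul_derivative_top b a n (by rw [hn, add_comm])]
    ring
  have hne : (b * derivative a - a * derivative b).coeff n ≠ 0 := by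
    rw [hcoeff]
    exact mul_ne_zero (mul_ne_zero (leadingCoeff_ne_zero.mpr ha) (leadingCoeff_ne_zero.mpr hb)) h
  have hle : (b * derivative a - a * derivative b).natDegree ≤ n := by
    apply le_trans (natDegree_sub_le _ _)
    apply max_le
    · by_cases hA : a.natDegree = 0
      · rw [eq_C_of_natDegree_eq_zero hA, derivative_C, mul_zero, natDegree_zero]
        exact Nat.zero_le _
      · apply le_trans natDegree_mul_le
        have := natDegree_derivative_le a
        omega
    · by_cases hB : b.natDegree = 0
      · rw [eq_C_of_natDegree_eq_zero hB, derivative_C, mul_zero, natDegree_zero]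
        exact Nat.zero_le _
      · apply le_trans natDegree_mul_le
        have := natDegree_derivative_le b
        omega
  refine ⟨fun h0 => hne (by rw [h0, coeff_zero]), ?_⟩
  rw [natDegree_eq_of_le_of_coeff_ne_zero hle hne, hn]

/-- The order at infinity of the derivative of a rational function. -/
theorem Place.infinity_ord_ratDeriv (P : Place k (RatFunc k))
    (h : 1 < P.1 (RatFunc.X : RatFunc k)) {u : RatFunc k} (hu : u ≠ 0)
    (hn : ((P.ord u : ℤ) : k) ≠ 0) :
    ratDeriv u ≠ 0 ∧ P.ord (ratDeriv u) = P.ord u + 1 := by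
  have hX : P.ord (RatFunc.X : RatFunc k) < 0 := (Place.ord_neg_iff P RatFunc.X_ne_zero).mpr h
  have hnum0 : u.num ≠ 0 := RatFunc.num_ne_zero hu
  have hden0 : u.denom ≠ 0 := RatFunc.denom_ne_zero u
  have hιd : algebraMap k[X] (RatFunc k) u.denom ≠ 0 :=
    (_root_.map_ne_zero_iff _ (RatFunc.algebraMap_injective k)).mpr hden0
  have hordu : P.ord u = (u.denom.natDegree : ℤ) - (u.num.natDegree : ℤ) := by
    unfold Place.ord
    rw [Place.infinity_val P h u hu, WithZero.log_exp]
    ring
  have hk : ((u.num.natDegree : k) - (u.denom.natDegree : k)) ≠ 0 := by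
    intro h0
    apply hn
    rw [hordu]
    push_cast
    linear_combination -h0
  obtain ⟨hN0, hNdeg⟩ := natDegree_wronskian hk hnum0 hden0
  have hιN : algebraMap k[X] (RatFunc k)
      (u.denom * derivative u.num - u.num * derivative u.denom) ≠ 0 :=
    (_root_.map_ne_zero_iff _ (RatFunc.algebraMap_injective k)).mpr hN0
  have hform : ratDeriv u = (algebraMap k[X] (RatFunc k) u.denom)⁻¹ ^ 2 *
      algebraMap k[X] (RatFunc k) (u.denom * derivative u.num - u.num * derivative u.denom) := by
    unfold ratDeriv
    rw [map_sub, map_mul, map_mul]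
  have hinv0 : (algebraMap k[X] (RatFunc k) u.denom)⁻¹ ^ 2 ≠ 0 := pow_ne_zero 2 (inv_ne_zero hιd)
  refine ⟨by rw [hform]; exact mul_ne_zero hinv0 hιN, ?_⟩
  rw [hform, Place.ord_mul P hinv0 hιN, Place.ord_pow', Place.ord_inv,
    Place.infinity_ord_polynomial P hX hden0, Place.infinity_ord_polynomial P hX hN0, hordu]
  have : ((u.denom * derivative u.num - u.num * derivative u.denom).natDegree : ℤ) + 1 =
      (u.num.natDegree : ℤ) + (u.denom.natDegree : ℤ) := by exact_mod_cast hNdeg
  push_cast
  linarith

end Wronskian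

end FF

end Groth.Agent.Lib.helper10
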