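import Mathlib
import Groth.Agent.Lib.Helper10.Tate15

/-!
# The different exponent via the trace dual of the semilocal integral closure (helper10)
-/

set_option autoImplicit false
set_option linter.style.haveILetI false
set_option linter.unusedSectionVars false
set_option linter.unusedVariables false

universe u v w

open FunFld LaurentSeries

namespace Groth.Agent.Lib.helper10.Tate

open FF RD

theorem exists_nat_bound {ι : Type*} (s : Finset ι) (g : ι → WithZero (Multiplicative ℤ)) :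
    ∃ N : ℕ, ∀ i ∈ s, g i ≤ WithZero.exp (N : ℤ) := by
  classical
  refine ⟨∑ i ∈ s, (WithZero.log (g i)).natAbs, ?_⟩
  intro i hi
  by_cases h0 : g i = 0
  · rw [h0]; exact zero_le
  · have h1 := Finset.single_le_sum (f := fun i => (WithZero.log (g i)).natAbs)
      (fun i _ => Nat.zero_le _) hi
    conv_lhs => rw [← WithZero.exp_log h0]
    rw [WithZero.exp_le_exp]
    have h2 : (((WithZero.log (g i)).natAbs : ℕ) : ℤ) ≤
        ((∑ i ∈ s, (WithZero.log (g i)).natAbs : ℕ) : ℤ) := by exact_mod_cast h1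
    omega

section ext

variable {k : Type u} {K K' : Type v} [Field k] [Field K] [Field K'] [Algebra k K] [Algebra K K']
  [Algebra k K'] [IsScalarTower k K K'] [FiniteDimensional K K'] [Algebra.IsSeparable K K']
variable {F F' : Type w} [Field F] [Algebra k F] [Field F'] [Algebra k F']
  [FiniteDimensional k F] [FiniteDimensional k F']

/-- The residue at `P` of the trace of a differential which is small at all places over `P` other
than `Q` is its residue at `Q`. -/
theorem locRes_trace_eq_of_small (hK : IsFunctionField k K) {P : Place k K} {Q : Place k K'}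
    (hQP : IsOver Q P) {φ : K →ₐ[k] LaurentSeries F} (hφ : LocRes.IsExpansionAt P.1 φ)
    {ψ : K' →ₐ[k] LaurentSeries F'} (hψ : LocRes.IsExpansionAt Q.1 ψ) (x : K) {u : K'}
    (hu : ∀ Q' : Place k K', IsOver Q' P → Q' ≠ Q →
      Q'.1 u ≤ 1 ∧ Q'.1 (u * (algebraMap K K' x) ^ 2) ≤ 1) :
    LocRes.locRes φ (Algebra.trace K K' u) x = LocRes.locRes ψ u (algebraMap K K' x) := by
  classical
  set Qs : Finset (Place k K') := (finite_places_over' (E := K') hK P).toFinset with hQsdef
  have hQs : ∀ Q', Q' ∈ Qs ↔ IsOver Q' P := by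
    intro Q'
    rw [hQsdef, Set.Finite.mem_toFinset, Set.mem_setOf_eq]
  obtain ⟨ρ, hρ, hr⟩ := exists_idem_range' (k := k) (Place.ball P 0)
  choose ρ' hρ' hr' using fun Q' : Place k K' => exists_idem_range' (k := k) (Place.ball Q' 0)
  rw [← psi_eq_locRes P 0 hρ hr φ hφ, ← sum_psi_eq_psi_trace' hK P Qs hQs hρ hr ρ' hρ' hr' u x,
    ← psi_eq_locRes Q 0 (hρ' Q) (hr' Q) ψ hψ]
  apply Finset.sum_eq_single Q
  · intro Q' hQ' hne
    haveI := Place.finiteDimensional_residueField' hK Q'
    obtain ⟨h1, h2⟩ := hu Q' ((hQs Q').1 hQ') hne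
    exact lpsi_eq_zero_of_small Q' (hρ' Q') (hr' Q') h1 h2
  · intro hQ
    exact absurd ((hQs Q).2 hQP) hQ

theorem trace_algebraMap_mul (a : K) (b : K') :
    Algebra.trace K K' (algebraMap K K' a * b) = a * Algebra.trace K K' b := by
  rw [← Algebra.smul_def, map_smul, smul_eq_mul]

variable [Algebra.IsSeparable k F] [Algebra.IsSeparable k F']

/-- Elements of the trace dual of the semilocal integral closure have order at least `-d(Q|P)` at
`Q`. -/
theorem val_le_of_mem_dual (hK : IsFunctionField k K) {P : Place k K} {Q : Place k K'} {e : ℕ}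
    (he : IsOverWith Q P e) {φ : K →ₐ[k] LaurentSeries F} (hφ : LocRes.IsExpansionAt P.1 φ)
    {ψ : K' →ₐ[k] LaurentSeries F'} (hψ : LocRes.IsExpansionAt Q.1 ψ) {x : K}
    (hx : LocRes.vDiff φ 1 x ≠ 0) (hx' : LocRes.vDiff ψ 1 (algebraMap K K' x) ≠ 0) {y : K'}
    (hy : ∀ z : K', (∀ Q' : Place k K', IsOver Q' P → Q'.1 z ≤ 1) →
      P.1 (Algebra.trace K K' (y * z)) ≤ 1) :
    Q.1 y ≤ WithZero.exp (LocRes.diffExp φ ψ e x) := by
  classical
  by_contra hlt
  rw [not_le] at hlt
  have hy0 : y ≠ 0 := by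
    rintro rfl
    rw [Valuation.map_zero] at hlt
    exact not_lt_zero hlt
  set m : ℤ := LocRes.ordDiff φ 1 x with hm
  set m' : ℤ := LocRes.ordDiff ψ 1 (algebraMap K K' x) with hm'
  have hd : LocRes.diffExp φ ψ e x = m' - e * m := rfl
  have hordy : Q.ord y + 1 ≤ -(m' - e * m) := by
    have h1 : Q.1 y = WithZero.exp (-Q.ord y) := Place.val_eq_exp_neg_ord Q hy0
    rw [h1, hd, WithZero.exp_lt_exp] at hlt
    omega
  obtain ⟨t, ht⟩ := Place.exists_uniformizer P
  have htm : P.1 (t ^ m) = WithZero.exp (-m) := Place.val_zpow_uniformizer P ht m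
  have hQtm : Q.1 (algebraMap K K' (t ^ m)) = WithZero.exp (-(e * m)) := by
    rw [he, htm, ← WithZero.exp_nsmul]
    congr 1
    simp
  set Qs : Finset (Place k K') := (finite_places_over' (E := K') hK P).toFinset with hQsdef
  have hQs : ∀ Q', Q' ∈ Qs ↔ IsOver Q' P := by
    intro Q'
    rw [hQsdef, Set.Finite.mem_toFinset, Set.mem_setOf_eq]
  have hne : ψ y * LocRes.D F' (ψ (algebraMap K K' x)) ≠ 0 := by
    intro h0
    have h1 : LocRes.vDiff ψ y (algebraMap K K' x) = 0 := by
      unfold LocRes.vDiff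
      rw [h0, Valuation.map_zero]
    rw [vDiff_eq_mul hψ, mul_eq_zero] at h1
    rcases h1 with h1 | h1
    · exact hy0 ((Valuation.zero_iff _).1 h1)
    · exact hx' h1
  obtain ⟨w0, hw0, hres⟩ := exists_locRes_mul_ne_zero' hψ hne
  have hw0' : Q.1 w0 ≤ WithZero.exp (e * m) := by
    apply le_trans hw0
    rw [WithZero.exp_le_exp, ordDiff_eq_add hψ hy0 hx']
    omega
  obtain ⟨N1, hN1⟩ := exists_nat_bound Qs fun Q' : Place k K' =>
    Q'.1 y ⊔ Q'.1 (y * (algebraMap K K' x) ^ 2) ⊔ Q'.1 (algebraMap K K' (t ^ m))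
  obtain ⟨N2, hN2⟩ := exists_nat_bound ({0, 1} : Finset (Fin 2)) fun i : Fin 2 =>
    if i = 0 then Q.1 y * LocRes.vDiff ψ 1 (algebraMap K K' x) else WithZero.exp (-(e * m))
  have hN2a : Q.1 y * LocRes.vDiff ψ 1 (algebraMap K K' x) ≤ WithZero.exp (N2 : ℤ) := by
    have := hN2 0 (by simp)
    simpa using this
  have hN2b : -(e * m) ≤ (N2 : ℤ) := by
    have := hN2 1 (by simp)
    rw [if_neg (by decide), WithZero.exp_le_exp] at this
    exact this
  set N : ℕ := N1 + N2 with hN
  obtain ⟨w, hw⟩ := weak_approx Qs (fun Q' => if Q' = Q then w0 else 0) N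
  have hQmem : Q ∈ Qs := (hQs Q).2 ⟨e, he⟩
  have hwQ : Q.1 (w - w0) ≤ WithZero.exp (-(N : ℤ)) := by
    have := hw Q hQmem
    rwa [if_pos rfl] at this
  have hwQ' : ∀ Q' : Place k K', IsOver Q' P → Q' ≠ Q → Q'.1 w ≤ WithZero.exp (-(N : ℤ)) := by
    intro Q' hQ' hneq
    have := hw Q' ((hQs Q').2 hQ')
    rwa [if_neg hneq, sub_zero] at this
  have hexpN1 : WithZero.exp (-(N : ℤ)) * WithZero.exp (N1 : ℤ) ≤ 1 := by
    rw [← WithZero.exp_add, ← WithZero.exp_zero, WithZero.exp_le_exp, hN]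
    push_cast
    omega
  have hexpN2 : WithZero.exp (-(N : ℤ)) * WithZero.exp (N2 : ℤ) ≤ 1 := by
    rw [← WithZero.exp_add, ← WithZero.exp_zero, WithZero.exp_le_exp, hN]
    push_cast
    omega
  -- the trace formula for `w * y`
  have htrace : LocRes.locRes φ (Algebra.trace K K' (w * y)) x =
      LocRes.locRes ψ (w * y) (algebraMap K K' x) := by
    apply locRes_trace_eq_of_small hK ⟨e, he⟩ hφ hψ x
    intro Q' hQ' hneq
    have hb := hN1 Q' ((hQs Q').2 hQ')
    have hb1 : Q'.1 y ≤ WithZero.exp (N1 : ℤ) := le_trans (le_trans le_sup_left le_sup_left) hb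
    have hb2 : Q'.1 (y * (algebraMap K K' x) ^ 2) ≤ WithZero.exp (N1 : ℤ) :=
      le_trans (le_trans le_sup_right le_sup_left) hb
    constructor
    · rw [map_mul]
      exact le_trans (mul_le_mul' (hwQ' Q' hQ' hneq) hb1) hexpN1
    · rw [mul_assoc, map_mul]
      exact le_trans (mul_le_mul' (hwQ' Q' hQ' hneq) hb2) hexpN1
  have hsplit : LocRes.locRes ψ (w * y) (algebraMap K K' x) =
      LocRes.locRes ψ (w0 * y) (algebraMap K K' x) := by
    have e1 : w * y = w0 * y + (w - w0) * y := by ring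
    rw [e1, locRes_add_left]
    have h0 : LocRes.locRes ψ ((w - w0) * y) (algebraMap K K' x) = 0 := by
      apply locRes_eq_zero_of_vDiff_le_one
      rw [vDiff_eq_mul hψ, map_mul, mul_assoc]
      exact le_trans (mul_le_mul' hwQ hN2a) hexpN2
    rw [h0, add_zero]
  -- the element `z = w * t ^ m` is integral over `P`
  have hz : ∀ Q' : Place k K', IsOver Q' P → Q'.1 (w * algebraMap K K' (t ^ m)) ≤ 1 := by
    intro Q' hQ'
    by_cases hneq : Q' = Q
    · rw [hneq, map_mul, hQtm]
      have h1 : Q.1 w ≤ WithZero.exp (e * m) := by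
        have e1 : w = (w - w0) + w0 := by ring
        rw [e1]
        apply le_trans (Valuation.map_add _ _ _)
        apply max_le _ hw0'
        apply le_trans hwQ
        rw [WithZero.exp_le_exp, hN]
        push_cast
        omega
      calc Q.1 w * WithZero.exp (-(e * m)) ≤ WithZero.exp (e * m) * WithZero.exp (-(e * m)) :=
            mul_le_mul' h1 le_rfl
        _ = 1 := by rw [← WithZero.exp_add, add_neg_cancel, WithZero.exp_zero]
    · have hb := hN1 Q' ((hQs Q').2 hQ')
      have hb3 : Q'.1 (algebraMap K K' (t ^ m)) ≤ WithZero.exp (N1 : ℤ) := le_trans le_sup_right hb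
      rw [map_mul]
      exact le_trans (mul_le_mul' (hwQ' Q' hQ' hneq) hb3) hexpN1
  have h3 := hy _ hz
  have e2 : y * (w * algebraMap K K' (t ^ m)) = algebraMap K K' (t ^ m) * (w * y) := by ring
  rw [e2, trace_algebraMap_mul, map_mul, htm] at h3
  have h4 : LocRes.locRes φ (Algebra.trace K K' (w * y)) x = 0 := by
    apply locRes_eq_zero_of_vDiff_le_one
    rw [vDiff_eq_mul hφ, vDiff_one_eq_exp hx, mul_comm]
    exact h3
  rw [htrace, hsplit] at h4
  exact hres h4

/-- There is an element of the trace dual of the semilocal integral closure of order exactly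
`-d(Q|P)` at `Q`. -/
theorem exists_mem_dual_val_eq (hK : IsFunctionField k K) {P : Place k K} {Q : Place k K'} {e : ℕ}
    (he : IsOverWith Q P e) {φ : K →ₐ[k] LaurentSeries F} (hφ : LocRes.IsExpansionAt P.1 φ)
    {ψ : K' →ₐ[k] LaurentSeries F'} (hψ : LocRes.IsExpansionAt Q.1 ψ) {x : K}
    (hx : LocRes.vDiff φ 1 x ≠ 0) (hx' : LocRes.vDiff ψ 1 (algebraMap K K' x) ≠ 0) :
    ∃ y : K', (∀ z : K', (∀ Q' : Place k K', IsOver Q' P → Q'.1 z ≤ 1) →
      P.1 (Algebra.trace K K' (y * z)) ≤ 1) ∧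
      Q.1 y = WithZero.exp (LocRes.diffExp φ ψ e x) := by
  classical
  set m : ℤ := LocRes.ordDiff φ 1 x with hm
  set m' : ℤ := LocRes.ordDiff ψ 1 (algebraMap K K' x) with hm'
  have hd : LocRes.diffExp φ ψ e x = m' - e * m := rfl
  obtain ⟨t, ht⟩ := Place.exists_uniformizer P
  have htm : P.1 (t ^ (-m)) = WithZero.exp m := by
    rw [Place.val_zpow_uniformizer P ht (-m), neg_neg]
  set Qs : Finset (Place k K') := (finite_places_over' (E := K') hK P).toFinset with hQsdef
  have hQs : ∀ Q', Q' ∈ Qs ↔ IsOver Q' P := by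
    intro Q'
    rw [hQsdef, Set.Finite.mem_toFinset, Set.mem_setOf_eq]
  have hQmem : Q ∈ Qs := (hQs Q).2 ⟨e, he⟩
  obtain ⟨N, hN⟩ := exists_nat_bound Qs fun Q' : Place k K' =>
    Q'.1 (algebraMap K K' (t ^ (-m))) ⊔
      Q'.1 (algebraMap K K' (t ^ (-m))) * Q'.1 ((algebraMap K K' x) ^ 2)
  obtain ⟨y, hy⟩ := weak_approx_eq Qs (fun _ => (0 : K'))
    (fun Q' => if Q' = Q then -(m' - e * m) else (N : ℤ))
  have hyQ : Q.1 y = WithZero.exp (m' - e * m) := by
    have := hy Q hQmem
    rwa [if_pos rfl, sub_zero, neg_neg] at this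
  have hyQ' : ∀ Q' : Place k K', IsOver Q' P → Q' ≠ Q → Q'.1 y = WithZero.exp (-(N : ℤ)) := by
    intro Q' hQ' hneq
    have := hy Q' ((hQs Q').2 hQ')
    rwa [if_neg hneq, sub_zero] at this
  refine ⟨y, ?_, by rw [hyQ, hd]⟩
  intro z hz
  apply val_le_one_of_locRes_eq_zero hφ hx
  intro a ha
  rw [← trace_algebraMap_mul]
  -- bound on `a` at the places over `P`
  have hale : ∀ Q' : Place k K', IsOver Q' P →
      Q'.1 (algebraMap K K' a) ≤ Q'.1 (algebraMap K K' (t ^ (-m))) := by
    rintro Q' ⟨e', he'⟩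
    rw [he', he', htm]
    exact pow_le_pow_left₀ zero_le ha e'
  have htrace : LocRes.locRes φ (Algebra.trace K K' (algebraMap K K' a * (y * z))) x =
      LocRes.locRes ψ (algebraMap K K' a * (y * z)) (algebraMap K K' x) := by
    apply locRes_trace_eq_of_small hK ⟨e, he⟩ hφ hψ x
    intro Q' hQ' hneq
    have hb := hN Q' ((hQs Q').2 hQ')
    have hb1 : Q'.1 (algebraMap K K' (t ^ (-m))) ≤ WithZero.exp (N : ℤ) := le_trans le_sup_left hb
    have hb2 : Q'.1 (algebraMap K K' (t ^ (-m))) * Q'.1 ((algebraMap K K' x) ^ 2) ≤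
        WithZero.exp (N : ℤ) := le_trans le_sup_right hb
    have hyz : Q'.1 (y * z) ≤ WithZero.exp (-(N : ℤ)) := by
      rw [map_mul, hyQ' Q' hQ' hneq]
      calc WithZero.exp (-(N : ℤ)) * Q'.1 z ≤ WithZero.exp (-(N : ℤ)) * 1 :=
            mul_le_mul' le_rfl (hz Q' hQ')
        _ = WithZero.exp (-(N : ℤ)) := mul_one _
    have hcancel : WithZero.exp (N : ℤ) * WithZero.exp (-(N : ℤ)) = 1 := by
      rw [← WithZero.exp_add, add_neg_cancel, WithZero.exp_zero]
    constructor
    · rw [map_mul]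
      calc Q'.1 (algebraMap K K' a) * Q'.1 (y * z)
          ≤ WithZero.exp (N : ℤ) * WithZero.exp (-(N : ℤ)) :=
            mul_le_mul' (le_trans (hale Q' hQ') hb1) hyz
        _ = 1 := hcancel
    · have e1 : algebraMap K K' a * (y * z) * (algebraMap K K' x) ^ 2 =
          (algebraMap K K' a * (algebraMap K K' x) ^ 2) * (y * z) := by ring
      rw [e1, map_mul, map_mul]
      calc Q'.1 (algebraMap K K' a) * Q'.1 ((algebraMap K K' x) ^ 2) * Q'.1 (y * z)
          ≤ WithZero.exp (N : ℤ) * WithZero.exp (-(N : ℤ)) :=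
            mul_le_mul' (le_trans (mul_le_mul' (hale Q' hQ') le_rfl) hb2) hyz
        _ = 1 := hcancel
  rw [htrace]
  apply locRes_eq_zero_of_vDiff_le_one
  rw [vDiff_eq_mul hψ, vDiff_one_eq_exp hx', map_mul, map_mul, hyQ, ← hm']
  have h1 : Q.1 (algebraMap K K' a) ≤ WithZero.exp (e * m) := by
    rw [he a]
    apply le_trans (pow_le_pow_left₀ zero_le ha e)
    rw [← WithZero.exp_nsmul]
    simp [hm]
  calc Q.1 (algebraMap K K' a) * (WithZero.exp (m' - e * m) * Q.1 z) * WithZero.exp (-m')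
      ≤ WithZero.exp (e * m) * (WithZero.exp (m' - e * m) * 1) * WithZero.exp (-m') :=
        mul_le_mul' (mul_le_mul' h1 (mul_le_mul' le_rfl (hz Q ⟨e, he⟩))) le_rfl
    _ = 1 := by
        rw [mul_one, ← WithZero.exp_add, ← WithZero.exp_add, ← WithZero.exp_zero]
        congr 1
        ring

end ext

end Groth.Agent.Lib.helper10.Tate
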