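import Mathlib
import Groth.Agent.Lib.Helper10.Tate16

/-!
# Euler's lemma for the trace dual of `O_P[y]`, in valuation form (helper10)
-/

set_option autoImplicit false
set_option linter.style.haveILetI false
set_option linter.unusedSectionVars false
set_option linter.unusedVariables false

universe u v w

open FunFld LaurentSeries

namespace Groth.Agent.Lib.helper10.Tate

open FF RD

section ext

variable {k : Type u} {K K' : Type v} [Field k] [Field K] [Field K'] [Algebra k K] [Algebra K K']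
  [Algebra k K'] [IsScalarTower k K K'] [FiniteDimensional K K'] [Algebra.IsSeparable K K']

theorem adjoin_eq_top_of_intermediateField {y : K'}
    (hy : IntermediateField.adjoin K ({y} : Set K') = ⊤) : Algebra.adjoin K ({y} : Set K') = ⊤ := by
  rw [← IntermediateField.adjoin_simple_toSubalgebra_of_isAlgebraic
    (Algebra.IsAlgebraic.isAlgebraic y), hy, IntermediateField.top_toSubalgebra]

theorem aeval_derivative_minpoly_ne_zero (y : K') :
    Polynomial.aeval y (Polynomial.derivative (minpoly K y)) ≠ 0 :=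
  (Algebra.IsSeparable.isSeparable K y).aeval_derivative_ne_zero (minpoly.aeval K y)

variable (P : Place k K) [Algebra P.O K'] [IsScalarTower P.O K K']

theorem isIntegral_of_mem_adjoin {y : K'} (hyi : IsIntegral P.O y) {s : K'}
    (hs : s ∈ Algebra.adjoin P.O ({y} : Set K')) : IsIntegral P.O s := by
  have hle : Algebra.adjoin P.O ({y} : Set K') ≤ integralClosure P.O K' := by
    apply Algebra.adjoin_le
    intro z hz
    rw [Set.mem_singleton_iff] at hz
    rw [hz]
    exact hyi
  exact hle hs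

theorem mem_one_iff (c : K) : c ∈ (1 : Submodule P.O K) ↔ P.1 c ≤ 1 := by
  rw [Submodule.mem_one]
  constructor
  · rintro ⟨a, rfl⟩
    exact a.2
  · intro h
    exact ⟨⟨c, h⟩, rfl⟩

/-- Euler: the trace of `s / g'(y)` is integral for `s ∈ O_P[y]`. -/
theorem trace_inv_derivative_mul_le_one {y : K'}
    (hy : IntermediateField.adjoin K ({y} : Set K') = ⊤) (hyi : IsIntegral P.O y) {s : K'}
    (hs : s ∈ Algebra.adjoin P.O ({y} : Set K')) :
    P.1 (Algebra.trace K K'
      ((Polynomial.aeval y (Polynomial.derivative (minpoly K y)))⁻¹ * s)) ≤ 1 := by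
  have h := traceForm_dualSubmodule_adjoin P.O K (adjoin_eq_top_of_intermediateField hy) hyi
  have hmem : (Polynomial.aeval y (Polynomial.derivative (minpoly K y)))⁻¹ * s ∈
      (Algebra.traceForm K K').dualSubmodule
        (Subalgebra.toSubmodule (Algebra.adjoin P.O ({y} : Set K'))) := by
    rw [h, Submodule.mem_smul_pointwise_iff_exists]
    exact ⟨s, hs, rfl⟩
  rw [LinearMap.BilinForm.mem_dualSubmodule] at hmem
  have h1 := hmem 1 (Subalgebra.one_mem _)
  rw [Algebra.traceForm_apply, mul_one, mem_one_iff] at h1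
  exact h1

/-- Euler: an element pairing integrally with `O_P[y]` is `s / g'(y)` with `s ∈ O_P[y]`. -/
theorem derivative_mul_mem_adjoin {y : K'}
    (hy : IntermediateField.adjoin K ({y} : Set K') = ⊤) (hyi : IsIntegral P.O y) {y0 : K'}
    (hy0 : ∀ s ∈ Algebra.adjoin P.O ({y} : Set K'), P.1 (Algebra.trace K K' (y0 * s)) ≤ 1) :
    Polynomial.aeval y (Polynomial.derivative (minpoly K y)) * y0 ∈
      Algebra.adjoin P.O ({y} : Set K') := by
  have h := traceForm_dualSubmodule_adjoin P.O K (adjoin_eq_top_of_intermediateField hy) hyi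
  have hmem : y0 ∈ (Algebra.traceForm K K').dualSubmodule
        (Subalgebra.toSubmodule (Algebra.adjoin P.O ({y} : Set K'))) := by
    rw [LinearMap.BilinForm.mem_dualSubmodule]
    intro s hs
    rw [Algebra.traceForm_apply, mem_one_iff]
    exact hy0 s hs
  rw [h, Submodule.mem_smul_pointwise_iff_exists] at hmem
  obtain ⟨s, hs, hsy⟩ := hmem
  rw [← hsy, smul_eq_mul, mul_inv_cancel_left₀ (aeval_derivative_minpoly_ne_zero y)]
  exact hs

variable {F F' : Type w} [Field F] [Algebra k F] [Field F'] [Algebra k F']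
  [FiniteDimensional k F] [FiniteDimensional k F'] [Algebra.IsSeparable k F]
  [Algebra.IsSeparable k F']

/-- An element of `O_P[y]` of order `v_Q(g'(y)) - d(Q|P)` at `Q` which multiplies the semilocal
integral closure into `O_P[y]`. -/
theorem exists_conductor_elt (hK : IsFunctionField k K) {P : Place k K} [Algebra P.O K']
    [IsScalarTower P.O K K'] {Q : Place k K'} {e : ℕ}
    (he : IsOverWith Q P e) {φ : K →ₐ[k] LaurentSeries F} (hφ : LocRes.IsExpansionAt P.1 φ)
    {ψ : K' →ₐ[k] LaurentSeries F'} (hψ : LocRes.IsExpansionAt Q.1 ψ) {x : K}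
    (hx : LocRes.vDiff φ 1 x ≠ 0) (hx' : LocRes.vDiff ψ 1 (algebraMap K K' x) ≠ 0) {y : K'}
    (hy : IntermediateField.adjoin K ({y} : Set K') = ⊤) (hyi : IsIntegral P.O y) :
    ∃ s0 ∈ Algebra.adjoin P.O ({y} : Set K'),
      Q.1 s0 = Q.1 (Polynomial.aeval y (Polynomial.derivative (minpoly K y))) *
        WithZero.exp (LocRes.diffExp φ ψ e x) ∧
      ∀ r : K', (∀ Q' : Place k K', IsOver Q' P → Q'.1 r ≤ 1) →
        s0 * r ∈ Algebra.adjoin P.O ({y} : Set K') := by
  obtain ⟨y0, hy0, hy0Q⟩ := exists_mem_dual_val_eq hK he hφ hψ hx hx'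
  have key : ∀ r : K', (∀ Q' : Place k K', IsOver Q' P → Q'.1 r ≤ 1) →
      Polynomial.aeval y (Polynomial.derivative (minpoly K y)) * y0 * r ∈
        Algebra.adjoin P.O ({y} : Set K') := by
    intro r hr
    rw [mul_assoc]
    apply derivative_mul_mem_adjoin P hy hyi
    intro s hs
    rw [mul_assoc]
    apply hy0
    intro Q' hQ'
    rw [map_mul]
    exact mul_le_one' (hr Q' hQ')
      (val_le_one_of_isIntegral P (isIntegral_of_mem_adjoin P hyi hs) hQ')
  refine ⟨Polynomial.aeval y (Polynomial.derivative (minpoly K y)) * y0, ?_, ?_, key⟩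
  · have := key 1 (fun Q' _ => by rw [map_one])
    rwa [mul_one] at this
  · rw [map_mul, hy0Q]

/-- `d(Q|P) ≤ v_Q(g'(y))` for an integral generator `y` with minimal polynomial `g`. -/
theorem diffExp_le_ord_derivative (hK : IsFunctionField k K) {P : Place k K} [Algebra P.O K']
    [IsScalarTower P.O K K'] {Q : Place k K'} {e : ℕ}
    (he : IsOverWith Q P e) {φ : K →ₐ[k] LaurentSeries F} (hφ : LocRes.IsExpansionAt P.1 φ)
    {ψ : K' →ₐ[k] LaurentSeries F'} (hψ : LocRes.IsExpansionAt Q.1 ψ) {x : K}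
    (hx : LocRes.vDiff φ 1 x ≠ 0) (hx' : LocRes.vDiff ψ 1 (algebraMap K K' x) ≠ 0) {y : K'}
    (hy : IntermediateField.adjoin K ({y} : Set K') = ⊤) (hyi : IsIntegral P.O y) :
    LocRes.diffExp φ ψ e x ≤
      Q.ord (Polynomial.aeval y (Polynomial.derivative (minpoly K y))) := by
  obtain ⟨s0, hs0, hs0Q, -⟩ := exists_conductor_elt hK he hφ hψ hx hx' hy hyi
  have h1 : Q.1 s0 ≤ 1 :=
    val_le_one_of_isIntegral P (isIntegral_of_mem_adjoin P hyi hs0) ⟨e, he⟩
  rw [hs0Q, Place.val_eq_exp_neg_ord Q (aeval_derivative_minpoly_ne_zero y), ← WithZero.exp_add,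
    ← WithZero.exp_zero, WithZero.exp_le_exp] at h1
  omega

/-- When `v_Q(g'(y)) = d(Q|P)`, the valuation ring at `Q` is a localisation of `O_P[y]`. -/
theorem exists_fraction_of_ord_eq (hK : IsFunctionField k K) {P : Place k K} [Algebra P.O K']
    [IsScalarTower P.O K K'] {Q : Place k K'} {e : ℕ}
    (he : IsOverWith Q P e) {φ : K →ₐ[k] LaurentSeries F} (hφ : LocRes.IsExpansionAt P.1 φ)
    {ψ : K' →ₐ[k] LaurentSeries F'} (hψ : LocRes.IsExpansionAt Q.1 ψ) {x : K}
    (hx : LocRes.vDiff φ 1 x ≠ 0) (hx' : LocRes.vDiff ψ 1 (algebraMap K K' x) ≠ 0) {y : K'}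
    (hy : IntermediateField.adjoin K ({y} : Set K') = ⊤) (hyi : IsIntegral P.O y)
    (heq : Q.ord (Polynomial.aeval y (Polynomial.derivative (minpoly K y))) =
      LocRes.diffExp φ ψ e x) {z : K'} (hz : Q.1 z ≤ 1) :
    ∃ a ∈ Algebra.adjoin P.O ({y} : Set K'), ∃ b ∈ Algebra.adjoin P.O ({y} : Set K'),
      Q.1 b = 1 ∧ z * b = a := by
  classical
  obtain ⟨s0, hs0, hs0Q, hcond⟩ := exists_conductor_elt hK he hφ hψ hx hx' hy hyi
  have hs0Q1 : Q.1 s0 = 1 := by
    rw [hs0Q, Place.val_eq_exp_neg_ord Q (aeval_derivative_minpoly_ne_zero y), heq,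
      ← WithZero.exp_add, neg_add_cancel, WithZero.exp_zero]
  set Qs : Finset (Place k K') := (finite_places_over' (E := K') hK P).toFinset with hQsdef
  have hQs : ∀ Q', Q' ∈ Qs ↔ IsOver Q' P := by
    intro Q'
    rw [hQsdef, Set.Finite.mem_toFinset, Set.mem_setOf_eq]
  have hQmem : Q ∈ Qs := (hQs Q).2 ⟨e, he⟩
  obtain ⟨N, hN⟩ := exists_nat_bound Qs fun Q' : Place k K' => Q'.1 z
  obtain ⟨c, hc⟩ := weak_approx_eq Qs (fun _ => (0 : K'))
    (fun Q' => if Q' = Q then 0 else (N : ℤ))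
  have hcQ : Q.1 c = 1 := by
    have := hc Q hQmem
    rwa [if_pos rfl, sub_zero, neg_zero, WithZero.exp_zero] at this
  have hcQ' : ∀ Q' : Place k K', IsOver Q' P → Q' ≠ Q → Q'.1 c = WithZero.exp (-(N : ℤ)) := by
    intro Q' hQ' hneq
    have := hc Q' ((hQs Q').2 hQ')
    rwa [if_neg hneq, sub_zero] at this
  have hc1 : ∀ Q' : Place k K', IsOver Q' P → Q'.1 c ≤ 1 := by
    intro Q' hQ'
    by_cases hneq : Q' = Q
    · rw [hneq, hcQ]
    · rw [hcQ' Q' hQ' hneq, ← WithZero.exp_zero, WithZero.exp_le_exp]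
      omega
  have hcz : ∀ Q' : Place k K', IsOver Q' P → Q'.1 (c * z) ≤ 1 := by
    intro Q' hQ'
    rw [map_mul]
    by_cases hneq : Q' = Q
    · rw [hneq, hcQ, one_mul]
      exact hz
    · rw [hcQ' Q' hQ' hneq]
      calc WithZero.exp (-(N : ℤ)) * Q'.1 z ≤ WithZero.exp (-(N : ℤ)) * WithZero.exp (N : ℤ) :=
            mul_le_mul' le_rfl (hN Q' ((hQs Q').2 hQ'))
        _ = 1 := by rw [← WithZero.exp_add, neg_add_cancel, WithZero.exp_zero]
  refine ⟨s0 * (c * z), hcond _ hcz, s0 * c, hcond _ hc1, ?_, by ring⟩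
  rw [map_mul, hs0Q1, hcQ, one_mul]

end ext

end Groth.Agent.Lib.helper10.Tate
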