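import Mathlib
import Groth.Agent.Lib.Helper10.Tate17

/-!
# A local parameter at a place of residue degree one generates the extension; the different
exponent through its minimal polynomial (helper10)
-/

set_option autoImplicit false
set_option linter.style.haveILetI false
set_option linter.unusedSectionVars false
set_option linter.unusedVariables false

universe u v w

open FunFld LaurentSeries

namespace Groth.Agent.Lib.helper10.Tate

open FF RD

section ext

variable {k : Type u} {K K' : Type v} [Field k] [Field K] [Field K'] [Algebra k K] [Algebra K K']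
  [Algebra k K'] [IsScalarTower k K K'] [FiniteDimensional K K'] [Algebra.IsSeparable K K']

theorem Place.O_ne_top (P : Place k K) : P.O ≠ ⊤ := by
  intro h
  obtain ⟨t, ht⟩ := Place.exists_uniformizer P
  have ht0 : t ≠ 0 := by
    rintro rfl
    rw [Valuation.map_zero] at ht
    exact WithZero.exp_ne_zero ht.symm
  have h1 : t⁻¹ ∈ P.O := by rw [h]; trivial
  rw [Place.mem_O_iff, map_inv₀, ht, ← WithZero.exp_neg, neg_neg, ← WithZero.exp_zero,
    WithZero.exp_le_exp] at h1
  omega

/-- The semilocal integral closure is a finitely generated module over `O_P`. -/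
theorem exists_finset_span_eq (hK : IsFunctionField k K) (P : Place k K) [Algebra P.O K']
    [IsScalarTower P.O K K'] :
    ∃ T : Finset K', ∀ z : K', (∀ Q' : Place k K', IsOver Q' P → Q'.1 z ≤ 1) ↔
      z ∈ Submodule.span P.O (T : Set K') := by
  haveI := isDVR_of_valuationSubring P.O hK (fun c => P.2.1 c) (Place.O_ne_top P)
  haveI : Module.Finite P.O (integralClosure P.O K') := IsIntegralClosure.finite P.O K K' _
  have hfg : (Subalgebra.toSubmodule (integralClosure P.O K')).FG :=
    (Module.Finite.iff_fg (N := Subalgebra.toSubmodule (integralClosure P.O K'))).1 this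
  obtain ⟨T, hT⟩ := hfg
  refine ⟨T, fun z => ?_⟩
  rw [hT, Subalgebra.mem_toSubmodule, mem_integralClosure_iff]
  exact ⟨fun h => isIntegral_of_val_le_one hK P h,
    fun h Q' hQ' => val_le_one_of_isIntegral P h hQ'⟩

omit [FiniteDimensional K K'] [Algebra.IsSeparable K K'] in
/-- Residue degree one: every element integral at `Q` is congruent to an element of `O_P`. -/
theorem exists_residue_decomp {P : Place k K} {Q : Place k K'} [P.1.HasExtension Q.1]
    (hf : Function.Surjective
      (algebraMap (IsLocalRing.ResidueField P.O) (IsLocalRing.ResidueField Q.O)))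
    {z : K'} (hz : Q.1 z ≤ 1) : ∃ a0 : P.O, Q.1 (z - algebraMap K K' a0.1) < 1 := by
  obtain ⟨r, hr⟩ := hf (IsLocalRing.residue Q.O ⟨z, hz⟩)
  obtain ⟨a0, rfl⟩ := IsLocalRing.residue_surjective r
  rw [Valuation.HasExtension.algebraMap_residue_eq_residue_algebraMap] at hr
  have h0 : IsLocalRing.residue Q.O ((⟨z, hz⟩ : Q.O) - algebraMap P.O Q.O a0) = 0 := by
    rw [map_sub, hr, sub_self]
  rw [Place.residue_eq_zero_iff] at h0
  exact ⟨a0, h0⟩

/-- `R = O_P + s R` for a local parameter `s` at `Q` which is a unit at the other places. -/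
theorem exists_decomp_semilocal {P : Place k K} {Q : Place k K'} [P.1.HasExtension Q.1]
    (hQP : IsOver Q P)
    (hf : Function.Surjective
      (algebraMap (IsLocalRing.ResidueField P.O) (IsLocalRing.ResidueField Q.O)))
    {s : K'} (hs : Q.1 s = WithZero.exp (-1))
    (hs' : ∀ Q' : Place k K', IsOver Q' P → Q' ≠ Q → Q'.1 s = 1)
    {z : K'} (hz : ∀ Q' : Place k K', IsOver Q' P → Q'.1 z ≤ 1) :
    ∃ (a0 : P.O) (z1 : K'), (∀ Q' : Place k K', IsOver Q' P → Q'.1 z1 ≤ 1) ∧
      z = algebraMap K K' a0.1 + s * z1 := by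
  obtain ⟨a0, ha0⟩ := exists_residue_decomp hf (hz Q hQP)
  have hs0 : s ≠ 0 := by
    rintro rfl
    rw [Valuation.map_zero] at hs
    exact WithZero.exp_ne_zero hs.symm
  refine ⟨a0, (z - algebraMap K K' a0.1) / s, ?_, ?_⟩
  · intro Q' hQ'
    have ha : Q'.1 (algebraMap K K' a0.1) ≤ 1 := by
      obtain ⟨e', he'⟩ := hQ'
      rw [he']
      exact pow_le_one₀ zero_le a0.2
    by_cases hneq : Q' = Q
    · rw [hneq, map_div₀, hs]
      have h1 := (lt_exp_iff_le_exp_sub_one (Q.1 (z - algebraMap K K' a0.1)) 0).1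
        (by rw [WithZero.exp_zero]; exact ha0)
      rw [zero_sub] at h1
      rw [div_le_one₀ WithZero.exp_pos]
      exact h1
    · rw [map_div₀, hs' Q' hQ' hneq, div_one]
      exact le_trans (Valuation.map_sub _ _ _) (max_le (hz Q' hQ') ha)
  · field_simp
    ring

/-- **Nakayama**: an element of `O_P[s]`, a unit at `Q`, multiplying the semilocal integral
closure into `O_P[s]`. -/
theorem exists_unit_conductor (hK : IsFunctionField k K) {P : Place k K} [Algebra P.O K']
    [IsScalarTower P.O K K'] {Q : Place k K'} [P.1.HasExtension Q.1] (hQP : IsOver Q P)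
    (hf : Function.Surjective
      (algebraMap (IsLocalRing.ResidueField P.O) (IsLocalRing.ResidueField Q.O)))
    {s : K'} (hs : Q.1 s = WithZero.exp (-1))
    (hs' : ∀ Q' : Place k K', IsOver Q' P → Q' ≠ Q → Q'.1 s = 1) :
    ∃ b ∈ Algebra.adjoin P.O ({s} : Set K'), Q.1 b = 1 ∧
      ∀ r : K', (∀ Q' : Place k K', IsOver Q' P → Q'.1 r ≤ 1) →
        b * r ∈ Algebra.adjoin P.O ({s} : Set K') := by
  classical
  have hsint : IsIntegral P.O s := by
    apply isIntegral_of_val_le_one hK P
    intro Q' hQ'
    by_cases hneq : Q' = Q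
    · rw [hneq, hs, ← WithZero.exp_zero, WithZero.exp_le_exp]
      norm_num
    · rw [hs' Q' hQ' hneq]
  set S' := Algebra.adjoin P.O ({s} : Set K') with hS'
  have hS'int : ∀ a : S', ∀ Q' : Place k K', IsOver Q' P → Q'.1 (a : K') ≤ 1 := fun a Q' hQ' =>
    val_le_one_of_isIntegral P (isIntegral_of_mem_adjoin P hsint a.2) hQ'
  let Rsub : Submodule S' K' :=
    { carrier := {z | ∀ Q' : Place k K', IsOver Q' P → Q'.1 z ≤ 1}
      add_mem' := fun {a b} ha hb Q' hQ' =>
        le_trans (Valuation.map_add _ _ _) (max_le (ha Q' hQ') (hb Q' hQ'))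
      zero_mem' := fun Q' hQ' => by rw [Valuation.map_zero]; exact zero_le
      smul_mem' := fun c z hz Q' hQ' => by
        show Q'.1 ((c : K') * z) ≤ 1
        rw [map_mul]
        exact mul_le_one' (hS'int c Q' hQ') (hz Q' hQ') }
  have hRmem : ∀ z : K', z ∈ Rsub ↔ ∀ Q' : Place k K', IsOver Q' P → Q'.1 z ≤ 1 := fun z => Iff.rfl
  obtain ⟨T, hT⟩ := exists_finset_span_eq (K' := K') hK P
  have hRfg : Rsub.FG := by
    refine ⟨T, ?_⟩
    apply le_antisymm
    · rw [Submodule.span_le]
      intro t ht
      exact (hT t).2 (Submodule.subset_span ht)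
    · intro z hz
      have := (hT z).1 hz
      exact Submodule.span_le_restrictScalars P.O S' (T : Set K') this
  let one' : Submodule S' K' := 1
  let N : Submodule S' (K' ⧸ one') := Rsub.map one'.mkQ
  have hNfg : N.FG := hRfg.map _
  let sS : S' := ⟨s, Algebra.subset_adjoin (Set.mem_singleton s)⟩
  let I : Ideal S' := Ideal.span {sS}
  have hin : N ≤ I • N := by
    rintro _ ⟨z, hz, rfl⟩
    obtain ⟨a0, z1, hz1, hdec⟩ := exists_decomp_semilocal hQP hf hs hs' hz
    have h1 : one'.mkQ (algebraMap K K' a0.1) = 0 := by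
      rw [Submodule.mkQ_apply, Submodule.Quotient.mk_eq_zero]
      show _ ∈ (1 : Submodule S' K')
      rw [Submodule.mem_one]
      refine ⟨algebraMap P.O S' a0, ?_⟩
      rw [← IsScalarTower.algebraMap_apply, IsScalarTower.algebraMap_apply P.O K K']
      rfl
    have h2 : one'.mkQ (s * z1) = sS • one'.mkQ z1 := by
      rw [← map_smul]
      rfl
    rw [hdec, map_add, h1, zero_add, h2]
    exact Submodule.smul_mem_smul (Ideal.mem_span_singleton_self sS) ⟨z1, hz1, rfl⟩
  obtain ⟨r, hrI, hrN⟩ :=
    Submodule.exists_sub_one_mem_and_smul_eq_zero_of_fg_of_le_smul I N hNfg hin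
  refine ⟨r.1, r.2, ?_, ?_⟩
  · rw [Ideal.mem_span_singleton] at hrI
    obtain ⟨c, hc⟩ := hrI
    have e1 : (r : K') = 1 + s * (c : K') := by
      have := congrArg Subtype.val hc
      simp only [Subalgebra.coe_sub, Subalgebra.coe_one, Subalgebra.coe_mul] at this
      rw [← this]
      ring
    rw [e1]
    apply Valuation.map_one_add_of_lt
    rw [map_mul, hs]
    calc WithZero.exp (-1 : ℤ) * Q.1 (c : K') ≤ WithZero.exp (-1 : ℤ) * 1 :=
          mul_le_mul' le_rfl (hS'int c Q hQP)
      _ < 1 := by
          rw [mul_one, ← WithZero.exp_zero, WithZero.exp_lt_exp]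
          norm_num
  · intro z hz
    have h3 := hrN (one'.mkQ z) ⟨z, hz, rfl⟩
    rw [← map_smul, Submodule.mkQ_apply, Submodule.Quotient.mk_eq_zero] at h3
    obtain ⟨a, ha⟩ := Submodule.mem_one.1 h3
    have e2 : (r : K') * z = (a : K') := ha.symm
    rw [e2]
    exact a.2

/-- A nonzero element of `O_P[s]` multiplying the semilocal integral closure into `O_P[s]` shows
that `s` generates the extension. -/
theorem adjoin_eq_top_of_conductor {P : Place k K} [Algebra P.O K'] [IsScalarTower P.O K K']
    {s b : K'} (hb0 : b ≠ 0) (hb : b ∈ Algebra.adjoin P.O ({s} : Set K'))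
    (hcond : ∀ r : K', (∀ Q' : Place k K', IsOver Q' P → Q'.1 r ≤ 1) →
      b * r ∈ Algebra.adjoin P.O ({s} : Set K')) :
    IntermediateField.adjoin K ({s} : Set K') = ⊤ := by
  rw [eq_top_iff]
  intro z _
  have hle : Algebra.adjoin P.O ({s} : Set K') ≤
      (IntermediateField.adjoin K ({s} : Set K')).toSubalgebra.restrictScalars P.O := by
    apply Algebra.adjoin_le
    intro w hw
    rw [Set.mem_singleton_iff] at hw
    rw [hw]
    exact IntermediateField.mem_adjoin_simple_self K s
  haveI := IsLocalization.isAlgebraic K (nonZeroDivisors P.O)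
  haveI : Algebra.IsAlgebraic P.O K' := Algebra.IsAlgebraic.trans P.O K K'
  obtain ⟨a, ha0, haz⟩ := (Algebra.IsAlgebraic.isAlgebraic (R := P.O) z).exists_integral_multiple
  have h1 : b * (a • z) ∈ IntermediateField.adjoin K ({s} : Set K') :=
    hle (hcond _ fun Q' hQ' => val_le_one_of_isIntegral P haz hQ')
  have h2 : b ∈ IntermediateField.adjoin K ({s} : Set K') := hle hb
  have h3 : algebraMap K K' (a : K) ∈ IntermediateField.adjoin K ({s} : Set K') :=
    IntermediateField.algebraMap_mem _ _
  have ha0' : algebraMap K K' (a : K) ≠ 0 := by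
    rw [Ne, map_eq_zero]
    intro h
    exact ha0 (Subtype.ext h)
  have e1 : z = b * (a • z) / (b * algebraMap K K' (a : K)) := by
    rw [Algebra.smul_def, IsScalarTower.algebraMap_apply P.O K K']
    field_simp
    rfl
  rw [e1]
  exact div_mem h1 (mul_mem h2 h3)

variable {F F' : Type w} [Field F] [Algebra k F] [Field F'] [Algebra k F']
  [FiniteDimensional k F] [FiniteDimensional k F'] [Algebra.IsSeparable k F]
  [Algebra.IsSeparable k F']

/-- A local parameter at a place of residue degree one over `P`, a unit at the other places over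
`P`, generates the extension, and the different exponent is the order of the derivative of its
minimal polynomial. -/
theorem adjoin_eq_top_and_ord_derivative (hK : IsFunctionField k K) {P : Place k K}
    {Q : Place k K'} {e : ℕ}
    (he : IsOverWith Q P e) {φ : K →ₐ[k] LaurentSeries F} (hφ : LocRes.IsExpansionAt P.1 φ)
    {ψ : K' →ₐ[k] LaurentSeries F'} (hψ : LocRes.IsExpansionAt Q.1 ψ) {x : K}
    (hx : LocRes.vDiff φ 1 x ≠ 0) (hx' : LocRes.vDiff ψ 1 (algebraMap K K' x) ≠ 0)
    [P.1.HasExtension Q.1]
    (hf : Function.Surjective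
      (algebraMap (IsLocalRing.ResidueField P.O) (IsLocalRing.ResidueField Q.O)))
    {s : K'} (hs : Q.1 s = WithZero.exp (-1))
    (hs' : ∀ Q' : Place k K', IsOver Q' P → Q' ≠ Q → Q'.1 s = 1) :
    IntermediateField.adjoin K ({s} : Set K') = ⊤ ∧
      Q.ord (Polynomial.aeval s (Polynomial.derivative (minpoly K s))) =
        LocRes.diffExp φ ψ e x := by
  letI : Algebra P.O K' := ((algebraMap K K').comp (algebraMap P.O K)).toAlgebra
  haveI : IsScalarTower P.O K K' := IsScalarTower.of_algebraMap_eq fun _ => rfl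
  have hsint : IsIntegral P.O s := by
    apply isIntegral_of_val_le_one hK P
    intro Q' hQ'
    by_cases hneq : Q' = Q
    · rw [hneq, hs, ← WithZero.exp_zero, WithZero.exp_le_exp]
      norm_num
    · rw [hs' Q' hQ' hneq]
  obtain ⟨b, hb, hbQ, hcond⟩ := exists_unit_conductor hK ⟨e, he⟩ hf hs hs'
  have hb0 : b ≠ 0 := by
    rintro rfl
    rw [Valuation.map_zero] at hbQ
    exact zero_ne_one hbQ
  have hy : IntermediateField.adjoin K ({s} : Set K') = ⊤ :=
    adjoin_eq_top_of_conductor hb0 hb hcond
  refine ⟨hy, le_antisymm ?_ (diffExp_le_ord_derivative hK he hφ hψ hx hx' hy hsint)⟩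
  have h1 := val_le_of_mem_dual hK he hφ hψ hx hx'
    (y := (Polynomial.aeval s (Polynomial.derivative (minpoly K s)))⁻¹ * b)
    (fun z hz => by
      rw [mul_assoc]
      exact trace_inv_derivative_mul_le_one P hy hsint (hcond z hz))
  rw [map_mul, hbQ, mul_one, map_inv₀,
    Place.val_eq_exp_neg_ord Q (aeval_derivative_minpoly_ne_zero s), ← WithZero.exp_neg, neg_neg,
    WithZero.exp_le_exp] at h1
  exact h1

end ext

end Groth.Agent.Lib.helper10.Tate
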