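import Mathlib
import Groth.Agent.Lib.Helper10.Tate18

/-!
# The different exponent equals the order of `g'(y)` exactly when the local ring is monogenic
(helper10)
-/

set_option autoImplicit false
set_option linter.style.haveILetI false
set_option linter.unusedSectionVars false
set_option linter.unusedVariables false

universe u v w

open FunFld LaurentSeries

namespace Groth.Agent.Lib.helper10.Tate

open FF RD

section ext

variable {k : Type u} {K K' : Type v} [Field k] [Field K] [Field K'] [Algebra k K] [Algebra K K']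
  [Algebra k K'] [IsScalarTower k K K'] [FiniteDimensional K K'] [Algebra.IsSeparable K K']
variable {F F' : Type w} [Field F] [Algebra k F] [Field F'] [Algebra k F']
  [FiniteDimensional k F] [FiniteDimensional k F'] [Algebra.IsSeparable k F]
  [Algebra.IsSeparable k F']

/-- If the valuation ring at `Q` is a localisation of `O_P[y]`, then `v_Q(g'(y)) = d(Q|P)`. -/
theorem ord_derivative_eq_of_fraction (hK : IsFunctionField k K) {P : Place k K} [Algebra P.O K']
    [IsScalarTower P.O K K'] {Q : Place k K'} {e : ℕ}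
    (he : IsOverWith Q P e) {φ : K →ₐ[k] LaurentSeries F} (hφ : LocRes.IsExpansionAt P.1 φ)
    {ψ : K' →ₐ[k] LaurentSeries F'} (hψ : LocRes.IsExpansionAt Q.1 ψ) {x : K}
    (hx : LocRes.vDiff φ 1 x ≠ 0) (hx' : LocRes.vDiff ψ 1 (algebraMap K K' x) ≠ 0) {y : K'}
    (hy : IntermediateField.adjoin K ({y} : Set K') = ⊤) (hyi : IsIntegral P.O y)
    (hloc : ∀ z : K', Q.1 z ≤ 1 → ∃ a ∈ Algebra.adjoin P.O ({y} : Set K'),
      ∃ b ∈ Algebra.adjoin P.O ({y} : Set K'), Q.1 b = 1 ∧ z * b = a) :
    Q.ord (Polynomial.aeval y (Polynomial.derivative (minpoly K y))) =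
      LocRes.diffExp φ ψ e x := by
  classical
  obtain ⟨T, hT⟩ := exists_finset_span_eq (K' := K') hK P
  have hTQ : ∀ t ∈ T, Q.1 t ≤ 1 := fun t ht =>
    (hT t).2 (Submodule.subset_span ht) Q ⟨e, he⟩
  choose! a ha b hb hbQ hab using fun (t : K') (ht : t ∈ T) => hloc t (hTQ t ht)
  set B : K' := ∏ t ∈ T, b t with hB
  have hBmem : B ∈ Algebra.adjoin P.O ({y} : Set K') := prod_mem fun t ht => hb t ht
  have hBQ : Q.1 B = 1 := by
    rw [hB, map_prod]
    exact Finset.prod_eq_one fun t ht => hbQ t ht
  have hBt : ∀ t ∈ T, B * t ∈ Algebra.adjoin P.O ({y} : Set K') := by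
    intro t ht
    have e1 : B * t = (∏ s ∈ T.erase t, b s) * a t := by
      rw [hB, ← Finset.mul_prod_erase T b ht, ← hab t ht]
      ring
    rw [e1]
    exact mul_mem (prod_mem fun s hs => hb s (Finset.mem_of_mem_erase hs)) (ha t ht)
  have hcond : ∀ r : K', (∀ Q' : Place k K', IsOver Q' P → Q'.1 r ≤ 1) →
      B * r ∈ Algebra.adjoin P.O ({y} : Set K') := by
    intro r hr
    have hr' := (hT r).1 hr
    have hmap : Submodule.span P.O (T : Set K') ≤
        (Subalgebra.toSubmodule (Algebra.adjoin P.O ({y} : Set K'))).comap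
          (LinearMap.mulLeft P.O B) := by
      rw [Submodule.span_le]
      intro t ht
      exact hBt t ht
    exact hmap hr'
  refine le_antisymm ?_ (diffExp_le_ord_derivative hK he hφ hψ hx hx' hy hyi)
  have h1 := val_le_of_mem_dual hK he hφ hψ hx hx'
    (y := (Polynomial.aeval y (Polynomial.derivative (minpoly K y)))⁻¹ * B)
    (fun z hz => by
      rw [mul_assoc]
      exact trace_inv_derivative_mul_le_one P hy hyi (hcond z hz))
  rw [map_mul, hBQ, mul_one, map_inv₀,
    Place.val_eq_exp_neg_ord Q (aeval_derivative_minpoly_ne_zero y), ← WithZero.exp_neg, neg_neg,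
    WithZero.exp_le_exp] at h1
  exact h1

end ext

end Groth.Agent.Lib.helper10.Tate
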