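import Mathlib
import Groth.Agent.Lib.Helper10.Adj1
import Groth.Agent.Lib.Helper10.Tate19
import Groth.Agent.Lib.Helper10.FunFld32
import Groth.Agent.Lib.Helper10.FunFld42
import Groth.Agent.Lib.Helper10.LocRes2

/-!
# The adjoint coefficient at a finite place in good position (helper10)
-/

set_option autoImplicit false
set_option linter.style.haveILetI false
set_option linter.unusedSectionVars false
set_option linter.unusedVariables false

universe u v w

open FunFld LaurentSeries Polynomial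

namespace Groth.Agent.Lib.helper10.Adj

open FF RD Tate PA

section plane

variable {k : Type u} {K : Type v} [Field k] [Field K] [Algebra k K]

theorem Sm_le_adjoin (x y : K) (m : ℕ) {s : K} (hs : s ∈ Sm k x y m) :
    s ∈ Algebra.adjoin k ({x, y} : Set K) := by
  have hle : Sm k x y m ≤ Subalgebra.toSubmodule (Algebra.adjoin k ({x, y} : Set K)) := by
    apply Sm_le_of_monomials
    intro a b _
    rw [Subalgebra.mem_toSubmodule]
    exact mul_mem (pow_mem (Algebra.subset_adjoin (by simp)) a)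
      (pow_mem (Algebra.subset_adjoin (by simp)) b)
  exact hle hs

/-- At a finite place, membership in the local ring of the plane map from polynomial fractions. -/
theorem inLocRing_of_adjoin {x y : K} {Q : Place k K} (hx : Q.1 x ≤ 1) (hy : Q.1 y ≤ 1) {z u w : K}
    (hu : u ∈ Algebra.adjoin k ({x, y} : Set K)) (hw : w ∈ Algebra.adjoin k ({x, y} : Set K))
    (hwQ : Q.1 w = 1) (h : z * w = u) : InLocRing ![(1 : K), x, y] Q z := by
  have hle : Algebra.adjoin k ({x, y} : Set K) ≤
      Algebra.adjoin k (Set.range fun i => ![(1 : K), x, y] i / ![(1 : K), x, y] 0) := by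
    apply Algebra.adjoin_mono
    rintro t (rfl | ht)
    · exact ⟨1, by simp⟩
    · rw [Set.mem_singleton_iff] at ht
      rw [ht]
      exact ⟨2, by simp⟩
  refine ⟨0, by simp, ?_, u, hle hu, w, hle hw, hwQ, h⟩
  intro i
  fin_cases i
  · simp
  · simpa using hx
  · simpa using hy

/-- At a finite place, elements of the local ring of the plane map are polynomial fractions. -/
theorem adjoin_of_inLocRing {x y : K} {Q : Place k K} (hx : Q.1 x ≤ 1) (hy : Q.1 y ≤ 1) {z : K}
    (h : InLocRing ![(1 : K), x, y] Q z) :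
    ∃ u ∈ Algebra.adjoin k ({x, y} : Set K), ∃ w ∈ Algebra.adjoin k ({x, y} : Set K),
      Q.1 w = 1 ∧ z * w = u := by
  obtain ⟨j, hj0, hj, u, hu, w, hw, hwQ, hzw⟩ := h
  have hjv : Q.1 (![(1 : K), x, y] j) = 1 := by
    apply le_antisymm
    · fin_cases j
      · simp
      · simpa using hx
      · simpa using hy
    · have := hj 0
      simpa using this
  obtain ⟨n₁, h₁⟩ := exists_mul_pow_mem_Sm x y j hj0 hu
  obtain ⟨n₂, h₂⟩ := exists_mul_pow_mem_Sm x y j hj0 hw
  set n := max n₁ n₂ with hn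
  refine ⟨u * (![(1 : K), x, y] j) ^ n, Sm_le_adjoin x y n (h₁ n (le_max_left _ _)),
    w * (![(1 : K), x, y] j) ^ n, Sm_le_adjoin x y n (h₂ n (le_max_right _ _)), ?_, ?_⟩
  · rw [map_mul, hwQ, map_pow, hjv, one_pow, mul_one]
  · rw [← mul_assoc, hzw]

end plane

section transport

variable {k : Type u} {R : Type w} {K₀ : Type v} [Field k] [Field R] [Field K₀] [Algebra k R]
  [Algebra k K₀]

/-- Transport of a place along an isomorphism of function fields. -/
noncomputable def placeComap (P : Place k K₀) (ε : R ≃ₐ[k] K₀) : Place k R :=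
  ⟨P.1.comap (ε : R →+* K₀), by
      intro c
      show P.1 (ε (algebraMap k R c)) ≤ 1
      rw [ε.commutes]
      exact P.2.1 c, by
      intro g
      obtain ⟨z, hz⟩ := P.2.2 g
      exact ⟨ε.symm z, by
        show P.1 (ε (ε.symm z)) = g
        rw [ε.apply_symm_apply, hz]⟩⟩

theorem placeComap_apply (P : Place k K₀) (ε : R ≃ₐ[k] K₀) (z : R) :
    (placeComap P ε).1 z = P.1 (ε z) := rfl

theorem isExpansionAt_comp_symm {F : Type*} [Field F] [Algebra k F] (P : Place k K₀)
    (ε : R ≃ₐ[k] K₀) {φ : R →ₐ[k] LaurentSeries F}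
    (h : LocRes.IsExpansionAt (placeComap P ε).1 φ) :
    LocRes.IsExpansionAt P.1 (φ.comp (ε.symm : K₀ →ₐ[k] R)) := by
  obtain ⟨h1, h2, t, ht⟩ := h
  refine ⟨fun f => ?_, fun a => ?_, ⟨ε t, ?_⟩⟩
  · show Valued.v (φ (ε.symm f)) = P.1 f
    rw [h1, placeComap_apply, ε.apply_symm_apply]
  · obtain ⟨f, hf1, hf2⟩ := h2 a
    refine ⟨ε f, ?_, ?_⟩
    · rwa [placeComap_apply] at hf1
    · show (φ (ε.symm (ε f))).coeff 0 = a
      rw [ε.symm_apply_apply, hf2]
  · rwa [placeComap_apply] at ht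

end transport

section CT

variable {k : Type u} {K₀ K : Type v} [Field k] [Field K₀] [Field K] [Algebra k K₀] [Algebra k K]
  [Algebra K₀ K] [IsScalarTower k K₀ K]

theorem algebraMap_eps_polynomial (ε : RatFunc k ≃ₐ[k] K₀) (p : k[X]) :
    algebraMap K₀ K (ε (algebraMap k[X] (RatFunc k) p)) =
      aeval (algebraMap K₀ K (ε RatFunc.X)) p := by
  have h : ((IsScalarTower.toAlgHom k K₀ K).comp
      ((ε : RatFunc k →ₐ[k] K₀).comp (IsScalarTower.toAlgHom k k[X] (RatFunc k)))) =
      aeval (algebraMap K₀ K (ε RatFunc.X)) := by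
    apply Polynomial.algHom_ext
    simp [RatFunc.algebraMap_X]
  exact congrArg (fun f : k[X] →ₐ[k] K => f p) h

theorem adjoin_pair_le (ε : RatFunc k ≃ₐ[k] K₀) (P : Place k K₀) [Algebra P.O K]
    [IsScalarTower P.O K₀ K] (hX : P.1 (ε RatFunc.X) ≤ 1) (y : K) {a : K}
    (ha : a ∈ Algebra.adjoin k ({algebraMap K₀ K (ε RatFunc.X), y} : Set K)) :
    a ∈ Algebra.adjoin P.O ({y} : Set K) := by
  induction ha using Algebra.adjoin_induction with
  | mem z hz =>
    rcases hz with rfl | hz
    · have : algebraMap K₀ K (ε RatFunc.X) = algebraMap P.O K ⟨ε RatFunc.X, hX⟩ := by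
        rw [IsScalarTower.algebraMap_apply P.O K₀ K]
        rfl
      rw [this]
      exact Subalgebra.algebraMap_mem _ _
    · rw [Set.mem_singleton_iff.mp hz]
      exact Algebra.subset_adjoin rfl
  | algebraMap c =>
    have : algebraMap k K c = algebraMap P.O K ⟨algebraMap k K₀ c, P.2.1 c⟩ := by
      rw [IsScalarTower.algebraMap_apply P.O K₀ K, IsScalarTower.algebraMap_apply k K₀ K]
      rfl
    rw [this]
    exact Subalgebra.algebraMap_mem _ _
  | add a b _ _ ha hb => exact add_mem ha hb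
  | mul a b _ _ ha hb => exact mul_mem ha hb

theorem eps_polynomial_mem_adjoin (ε : RatFunc k ≃ₐ[k] K₀) (y : K) (p : k[X]) :
    algebraMap K₀ K (ε (algebraMap k[X] (RatFunc k) p)) ∈
      Algebra.adjoin k ({algebraMap K₀ K (ε RatFunc.X), y} : Set K) := by
  rw [algebraMap_eps_polynomial]
  exact Algebra.adjoin_mono (by simp) (Polynomial.aeval_mem_adjoin_singleton k _)

theorem clear_denoms (ε : RatFunc k ≃ₐ[k] K₀) (P : Place k K₀) [Algebra P.O K]
    [IsScalarTower P.O K₀ K] (hX : P.1 (ε RatFunc.X) ≤ 1) (y : K) {a : K}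
    (ha : a ∈ Algebra.adjoin P.O ({y} : Set K)) :
    ∃ q : k[X], P.1 (ε (algebraMap k[X] (RatFunc k) q)) = 1 ∧
      algebraMap K₀ K (ε (algebraMap k[X] (RatFunc k) q)) * a ∈
        Algebra.adjoin k ({algebraMap K₀ K (ε RatFunc.X), y} : Set K) := by
  set x : K := algebraMap K₀ K (ε RatFunc.X) with hx
  have hpol : ∀ p : k[X], algebraMap K₀ K (ε (algebraMap k[X] (RatFunc k) p)) ∈
      Algebra.adjoin k ({x, y} : Set K) := by
    intro p
    rw [algebraMap_eps_polynomial, ← hx]
    exact Algebra.adjoin_mono (by simp) (Polynomial.aeval_mem_adjoin_singleton k x)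
  induction ha using Algebra.adjoin_induction with
  | mem z hz =>
    refine ⟨1, by simp, ?_⟩
    rw [Set.mem_singleton_iff.mp hz]
    simp only [map_one, one_mul]
    exact Algebra.subset_adjoin (by simp)
  | algebraMap r =>
    set u : RatFunc k := ε.symm (r : K₀) with hu
    have hX' : (placeComap P ε).1 (RatFunc.X : RatFunc k) ≤ 1 := hX
    have hu1 : (placeComap P ε).1 u ≤ 1 := by
      rw [placeComap_apply, hu, ε.apply_symm_apply]
      exact r.2
    have h1 := Place.val_denom_eq_one (placeComap P ε) hX' hu1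
    rw [placeComap_apply] at h1
    refine ⟨u.denom, h1, ?_⟩
    have h2 : u * algebraMap k[X] (RatFunc k) u.denom = algebraMap k[X] (RatFunc k) u.num := by
      have hd : algebraMap k[X] (RatFunc k) u.denom ≠ 0 :=
        RatFunc.algebraMap_ne_zero (RatFunc.denom_ne_zero u)
      have := RatFunc.num_div_denom u
      rw [div_eq_iff hd] at this
      exact this.symm
    have h3 : (r : K₀) * ε (algebraMap k[X] (RatFunc k) u.denom) =
        ε (algebraMap k[X] (RatFunc k) u.num) := by
      rw [← h2, map_mul, hu, ε.apply_symm_apply]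
    have h4 : algebraMap P.O K r = algebraMap K₀ K (r : K₀) := by
      rw [IsScalarTower.algebraMap_apply P.O K₀ K]
      rfl
    rw [h4, ← map_mul, mul_comm, h3]
    exact hpol _
  | add a b _ _ ha hb =>
    obtain ⟨qa, hqa, ha⟩ := ha
    obtain ⟨qb, hqb, hb⟩ := hb
    refine ⟨qa * qb, by rw [map_mul, map_mul, map_mul, hqa, hqb, one_mul], ?_⟩
    have : algebraMap K₀ K (ε (algebraMap k[X] (RatFunc k) (qa * qb))) * (a + b) =
        algebraMap K₀ K (ε (algebraMap k[X] (RatFunc k) qb)) *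
          (algebraMap K₀ K (ε (algebraMap k[X] (RatFunc k) qa)) * a) +
        algebraMap K₀ K (ε (algebraMap k[X] (RatFunc k) qa)) *
          (algebraMap K₀ K (ε (algebraMap k[X] (RatFunc k) qb)) * b) := by
      simp only [map_mul]
      ring
    rw [this]
    exact add_mem (mul_mem (hpol _) ha) (mul_mem (hpol _) hb)
  | mul a b _ _ ha hb =>
    obtain ⟨qa, hqa, ha⟩ := ha
    obtain ⟨qb, hqb, hb⟩ := hb
    refine ⟨qa * qb, by rw [map_mul, map_mul, map_mul, hqa, hqb, one_mul], ?_⟩
    have : algebraMap K₀ K (ε (algebraMap k[X] (RatFunc k) (qa * qb))) * (a * b) =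
        (algebraMap K₀ K (ε (algebraMap k[X] (RatFunc k) qa)) * a) *
          (algebraMap K₀ K (ε (algebraMap k[X] (RatFunc k) qb)) * b) := by
      simp only [map_mul]
      ring
    rw [this]
    exact mul_mem ha hb

/-- **Core theorem**: at a finite place in good position, the order of `g'(y)` is at least the
different exponent, with equality exactly when the plane map is nonsingular there. -/
theorem adjoint_core [FiniteDimensional K₀ K] [Algebra.IsSeparable K₀ K]
    (hK₀ : IsFunctionField k K₀) (ε : RatFunc k ≃ₐ[k] K₀) {y : K}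
    (hy : IntermediateField.adjoin K₀ ({y} : Set K) = ⊤)
    (hint : ∀ Q' : Place k K, Q'.1 (algebraMap K₀ K (ε RatFunc.X)) ≤ 1 → Q'.1 y ≤ 1)
    (Q : Place k K) (hQ : Q.1 (algebraMap K₀ K (ε RatFunc.X)) < 1)
    {ΦQ : K →ₐ[k] LaurentSeries k} (hΦ : LocRes.IsExpansionAt Q.1 ΦQ)
    (hne : LocRes.vDiff ΦQ 1 (algebraMap K₀ K (ε RatFunc.X)) ≠ 0) :
    LocRes.ordDiff ΦQ 1 (algebraMap K₀ K (ε RatFunc.X)) ≤
        Q.ord (Polynomial.aeval y (Polynomial.derivative (minpoly K₀ y))) ∧
      (Q.ord (Polynomial.aeval y (Polynomial.derivative (minpoly K₀ y))) =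
          LocRes.ordDiff ΦQ 1 (algebraMap K₀ K (ε RatFunc.X)) ↔
        IsNonsingularAt ![(1 : K), algebraMap K₀ K (ε RatFunc.X), y] Q) := by
  classical
  set x₀ : K₀ := ε RatFunc.X with hx₀
  set x : K := algebraMap K₀ K x₀ with hx
  obtain ⟨P, e, he⟩ := exists_place_under hK₀ Q
  have hPx : P.1 x₀ < 1 := by
    by_contra hcon
    rw [not_lt] at hcon
    have h1 : 1 ≤ P.1 x₀ ^ e := one_le_pow_of_one_le' hcon e
    rw [← he x₀] at h1
    exact absurd hQ (not_lt.2 h1)
  set P' := placeComap P ε with hP'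
  have hP'X : P'.1 (RatFunc.X : RatFunc k) < 1 := hPx
  set φ : K₀ →ₐ[k] LaurentSeries k :=
    (coeHom (k := k)).comp (ε.symm : K₀ →ₐ[k] RatFunc k) with hφdef
  have hφ : LocRes.IsExpansionAt P.1 φ :=
    isExpansionAt_comp_symm P ε (isExpansionAt_coeHom P' hP'X)
  have hφx : φ x₀ = coeHom (RatFunc.X : RatFunc k) := by
    show coeHom (ε.symm (ε RatFunc.X)) = _
    rw [ε.symm_apply_apply]
  have hv : LocRes.vDiff φ 1 x₀ = 1 := by
    have := vDiff_coeHom_X P' hP'X
    unfold LocRes.vDiff at this ⊢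
    rw [map_one, one_mul] at this ⊢
    rw [hφx]
    exact this
  have ho : LocRes.ordDiff φ 1 x₀ = 0 := by
    unfold LocRes.ordDiff
    rw [hv, WithZero.log_one, neg_zero]
  have hdiff : LocRes.diffExp φ ΦQ e x₀ = LocRes.ordDiff ΦQ 1 x := by
    unfold LocRes.diffExp
    rw [ho, mul_zero, sub_zero]
  letI : Algebra P.O K := ((algebraMap K₀ K).comp (algebraMap P.O K₀)).toAlgebra
  haveI : IsScalarTower P.O K₀ K := IsScalarTower.of_algebraMap_eq (fun _ => rfl)
  have hyi : IsIntegral P.O y := by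
    apply isIntegral_of_val_le_one hK₀ P
    rintro Q' ⟨e', he'⟩
    apply hint
    show Q'.1 (algebraMap K₀ K x₀) ≤ 1
    rw [he' x₀]
    exact pow_le_one' hPx.le e'
  have hx1 : LocRes.vDiff φ 1 x₀ ≠ 0 := by rw [hv]; exact one_ne_zero
  have hQy : Q.1 y ≤ 1 := hint Q hQ.le
  refine ⟨?_, ?_, ?_⟩
  · rw [← hdiff]
    exact diffExp_le_ord_derivative hK₀ he hφ hΦ hx1 hne hy hyi
  · intro heq z hz
    obtain ⟨a, ha, b, hb, hbQ, hab⟩ :=
      exists_fraction_of_ord_eq hK₀ he hφ hΦ hx1 hne hy hyi (by rw [heq, hdiff]) hz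
    obtain ⟨qa, hqa, ha'⟩ := clear_denoms ε P hPx.le y ha
    obtain ⟨qb, hqb, hb'⟩ := clear_denoms ε P hPx.le y hb
    have hca := eps_polynomial_mem_adjoin (K := K) ε y qa
    have hcb := eps_polynomial_mem_adjoin (K := K) ε y qb
    have hcaQ : Q.1 (algebraMap K₀ K (ε (algebraMap k[X] (RatFunc k) qa))) = 1 := by
      rw [he, hqa, one_pow]
    have hcbQ : Q.1 (algebraMap K₀ K (ε (algebraMap k[X] (RatFunc k) qb))) = 1 := by
      rw [he, hqb, one_pow]
    refine inLocRing_of_adjoin hQ.le hQy (mul_mem hcb ha') (mul_mem hca hb') ?_ ?_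
    · rw [map_mul, map_mul, hcaQ, hcbQ, hbQ, one_mul, one_mul]
    · rw [← hab]
      ring
  · intro hns
    rw [← hdiff]
    apply ord_derivative_eq_of_fraction hK₀ he hφ hΦ hx1 hne hy hyi
    intro z hz
    obtain ⟨u, hu, w, hw, hwQ, hzw⟩ := adjoin_of_inLocRing hQ.le hQy (hns z hz)
    exact ⟨u, adjoin_pair_le ε P hPx.le y hu, w, adjoin_pair_le ε P hPx.le y hw, hwQ, hzw⟩

end CT

end Groth.Agent.Lib.helper10.Adj
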