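import Mathlib

/-!
Derivations on fraction fields and finite extensions in characteristic zero, and the Wronskian
criterion for linear dependence over the constants (helper10; pure Mathlib).
-/

set_option autoImplicit false
set_option linter.style.haveILetI false

open TrivSqZeroExt Polynomial IntermediateField Matrix

namespace Groth.Agent.Lib.helper10

namespace DW

/-- Extension of a derivation-like map to the fraction field. -/
theorem exists_derivation_fraction {A F : Type*} [CommRing A] [IsDomain A] [Field F] [Algebra A F]
    [IsFractionRing A F] (d : A → F) (hadd : ∀ a b, d (a + b) = d a + d b)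
    (hmul : ∀ a b, d (a * b) = algebraMap A F a * d b + algebraMap A F b * d a) :
    ∃ D : Derivation ℤ F F, ∀ a, D (algebraMap A F a) = d a := by
  have h1 : d 1 = 0 := by
    have := hmul 1 1
    simp at this
    exact this
  have h0 : d 0 = 0 := by
    have := hadd 0 0
    simp at this
    exact this
  let φ : A →+* TrivSqZeroExt F F :=
    { toFun := fun a => inl (algebraMap A F a) + inr (d a)
      map_one' := by simp [h1]
      map_mul' := fun a b => by
        ext
        · simp
        · simp [hmul, mul_comm]
      map_zero' := by simp [h0]
      map_add' := fun a b => by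
        ext
        · simp
        · simp [hadd] }
  have hunit : ∀ y : nonZeroDivisors A, IsUnit (φ y) := by
    intro y
    rw [isUnit_iff_isUnit_fst]
    simp only [φ, RingHom.coe_mk, MonoidHom.coe_mk, OneHom.coe_mk, fst_add, fst_inl, fst_inr,
      add_zero]
    rw [isUnit_iff_ne_zero]
    exact IsFractionRing.to_map_ne_zero_of_mem_nonZeroDivisors y.2
  let Φ : F →+* TrivSqZeroExt F F := IsLocalization.lift (M := nonZeroDivisors A) (g := φ) hunit
  have hΦ : ∀ a, Φ (algebraMap A F a) = φ a := fun a => IsLocalization.lift_eq hunit a
  have hfst : ∀ x : F, (Φ x).fst = x := by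
    intro x
    have : ((fstHom F F F : TrivSqZeroExt F F →+* F).comp Φ) = RingHom.id F := by
      apply IsLocalization.ringHom_ext (nonZeroDivisors A)
      ext a
      simp [hΦ, φ]
    exact congrArg (fun f => f x) this
  let D0 : F →+ F :=
    { toFun := fun x => (Φ x).snd
      map_zero' := by simp
      map_add' := fun x y => by simp }
  refine ⟨Derivation.mk' D0.toIntLinearMap ?_, ?_⟩
  · intro a b
    show (Φ (a * b)).snd = a • (Φ b).snd + b • (Φ a).snd
    rw [map_mul, snd_mul, hfst, hfst]
    simp [mul_comm]
  · intro a
    show (Φ (algebraMap A F a)).snd = d a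
    rw [hΦ]
    simp [φ]

theorem exists_derivation_ratFunc (k : Type*) [Field k] :
    ∃ D : @Derivation ℤ (RatFunc k) (RatFunc k) _ _ _ (Ring.toIntAlgebra (RatFunc k)) _ _,
      ∀ p : k[X], D (algebraMap k[X] (RatFunc k) p) = algebraMap k[X] (RatFunc k) (derivative p) := by
  apply exists_derivation_fraction (A := k[X]) (F := RatFunc k)
    (fun p => algebraMap k[X] (RatFunc k) (derivative p))
  · intro a b
    rw [derivative_add, map_add]
  · intro a b
    rw [derivative_mul, map_add, map_mul, map_mul]
    ring

/-- In characteristic zero a finite extension of `k(x)` carries a `k`-derivation with `D x = 1`. -/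
theorem exists_derivation_of_finite {k K : Type*} [Field k] [CharZero k] [Field K] [Algebra k K]
    (x : K) (hx : Transcendental k x) [FiniteDimensional k⟮x⟯ K] :
    ∃ D : Derivation k K K, D x = 1 := by
  obtain ⟨D₀, hD₀⟩ := exists_derivation_ratFunc k
  letI : Differential (RatFunc k) := ⟨D₀⟩
  let e := RatFunc.algEquivOfTranscendental x hx
  letI : Differential k⟮x⟯ := Differential.equiv e.symm.toRingEquiv
  haveI : CharZero k⟮x⟯ := charZero_of_injective_algebraMap (algebraMap k k⟮x⟯).injective
  letI : Differential K := Differential.differentialFiniteDimensional k⟮x⟯ K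
  haveI : DifferentialAlgebra k⟮x⟯ K := Differential.differentialAlgebraFiniteDimensional
  let D : Derivation ℤ K K := Differential.deriv
  have hF : ∀ z : k⟮x⟯, (Differential.deriv z : k⟮x⟯) = e (D₀ (e.symm z)) := by
    intro z
    rfl
  have hc : ∀ c : k, D (algebraMap k K c) = 0 := by
    intro c
    have h1 : algebraMap k K c = algebraMap k⟮x⟯ K (algebraMap k k⟮x⟯ c) := rfl
    show Differential.deriv (algebraMap k K c) = 0
    rw [h1, DifferentialAlgebra.deriv_algebraMap, hF]
    have h2 : e.symm (algebraMap k k⟮x⟯ c) = algebraMap k[X] (RatFunc k) (C c) := by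
      rw [AlgEquiv.commutes]
      rfl
    rw [h2, hD₀, derivative_C, map_zero, map_zero, map_zero]
  have hx1 : D x = 1 := by
    have h1 : x = algebraMap k⟮x⟯ K (AdjoinSimple.gen k x) := rfl
    show Differential.deriv x = 1
    rw [h1, DifferentialAlgebra.deriv_algebraMap, hF, RatFunc.algEquivOfTranscendental_symm_gen]
    have h2 : (RatFunc.X : RatFunc k) = algebraMap k[X] (RatFunc k) X := (RatFunc.algebraMap_X).symm
    rw [h2, hD₀, derivative_X, map_one, map_one, map_one]
  let L : K →ₗ[k] K :=
    { toFun := D
      map_add' := D.map_add
      map_smul' := fun c z => by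
        rw [Algebra.smul_def, D.leibniz, hc, smul_zero, add_zero, RingHom.id_apply,
          Algebra.smul_def (R := k), smul_eq_mul] }
  exact ⟨Derivation.mk' L (fun a b => D.leibniz a b), hx1⟩

section wr

variable {R F : Type*} [CommRing R] [Field F] [Algebra R F]

/-- The Wronskian matrix of a family of elements of a differential field. -/
def wrMat (D : F → F) {r : ℕ} (f : Fin r → F) : Matrix (Fin r) (Fin r) F :=
  fun i j => D^[(i : ℕ)] (f j)

/-- A vanishing Wronskian gives a linear relation with constant coefficients. -/
theorem exists_const_rel (D : Derivation R F F) :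
    ∀ (r : ℕ) (f : Fin r → F), (wrMat D f).det = 0 →
      ∃ c : Fin r → F, c ≠ 0 ∧ (∀ j, D (c j) = 0) ∧ ∑ j, c j * f j = 0 := by
  intro r
  induction r with
  | zero =>
    intro f h
    rw [Matrix.det_isEmpty] at h
    exact absurd h one_ne_zero
  | succ r ih =>
    intro f h
    set f' : Fin r → F := fun j => f j.castSucc with hf'
    by_cases h' : (wrMat D f').det = 0
    · obtain ⟨c', hc0, hcD, hcs⟩ := ih f' h'
      refine ⟨Fin.snoc (α := fun _ => F) c' 0, ?_, ?_, ?_⟩
      · intro h0
        apply hc0
        funext j
        have := congrFun h0 j.castSucc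
        rwa [Fin.snoc_castSucc] at this
      · intro j
        refine Fin.lastCases ?_ (fun j' => ?_) j
        · rw [Fin.snoc_last, map_zero]
        · rw [Fin.snoc_castSucc]; exact hcD j'
      · rw [Fin.sum_univ_castSucc]
        simp only [Fin.snoc_castSucc, Fin.snoc_last, zero_mul, add_zero]
        exact hcs
    · obtain ⟨a, ha0, hMa⟩ := (Matrix.exists_mulVec_eq_zero_iff (M := wrMat D f)).mpr h
      have heq : ∀ i : Fin (r + 1), ∑ j, D^[(i : ℕ)] (f j) * a j = 0 := by
        intro i
        have := congrFun hMa i
        simpa [Matrix.mulVec, dotProduct, wrMat] using this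
      by_cases hlast : a (Fin.last r) = 0
      · exfalso
        apply h'
        rw [← Matrix.exists_mulVec_eq_zero_iff]
        refine ⟨fun j => a j.castSucc, ?_, ?_⟩
        · intro h0
          apply ha0
          funext j
          refine Fin.lastCases ?_ (fun j' => ?_) j
          · exact hlast
          · exact congrFun h0 j'
        · funext i'
          have := heq i'.castSucc
          rw [Fin.sum_univ_castSucc, hlast, mul_zero, add_zero] at this
          simpa [Matrix.mulVec, dotProduct, wrMat, hf'] using this
      · set b : Fin (r + 1) → F := fun j => a j / a (Fin.last r) with hb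
        have hblast : b (Fin.last r) = 1 := by
          simp only [hb]
          exact div_self hlast
        have hbeq : ∀ i : Fin (r + 1), ∑ j, D^[(i : ℕ)] (f j) * b j = 0 := by
          intro i
          have := heq i
          simp only [hb]
          have e : ∑ j, D^[(i : ℕ)] (f j) * (a j / a (Fin.last r)) =
              (∑ j, D^[(i : ℕ)] (f j) * a j) / a (Fin.last r) := by
            rw [Finset.sum_div]
            refine Finset.sum_congr rfl fun j _ => ?_
            rw [mul_div_assoc]
          rw [e, this, zero_div]
        have hDb : ∀ j' : Fin r, D (b j'.castSucc) = 0 := by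
          have hvec : wrMat D f' *ᵥ (fun j' : Fin r => D (b j'.castSucc)) = 0 := by
            funext i'
            have h1 := hbeq i'.castSucc
            have h2 := hbeq i'.succ
            have h3 : D (∑ j, D^[((i'.castSucc : Fin (r + 1)) : ℕ)] (f j) * b j) = 0 := by
              rw [h1, map_zero]
            rw [map_sum] at h3
            simp only [Derivation.leibniz, smul_eq_mul] at h3
            rw [Finset.sum_add_distrib] at h3
            have h4 : ∑ j, b j * D (D^[((i'.castSucc : Fin (r + 1)) : ℕ)] (f j)) = 0 := by
              rw [← h2]
              refine Finset.sum_congr rfl fun j _ => ?_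
              rw [Fin.val_succ, Function.iterate_succ_apply', Fin.val_castSucc, mul_comm]
            rw [h4, add_zero, Fin.sum_univ_castSucc, hblast, Derivation.map_one_eq_zero, mul_zero,
              add_zero] at h3
            simpa [Matrix.mulVec, dotProduct, wrMat, hf'] using h3
          have := Matrix.eq_zero_of_mulVec_eq_zero h' hvec
          intro j'
          exact congrFun this j'
        refine ⟨b, ?_, ?_, ?_⟩
        · intro h0
          have := congrFun h0 (Fin.last r)
          rw [hblast] at this
          exact one_ne_zero this
        · intro j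
          refine Fin.lastCases ?_ (fun j' => ?_) j
          · rw [hblast, Derivation.map_one_eq_zero]
          · exact hDb j'
        · have := hbeq 0
          simp only [Fin.val_zero, Function.iterate_zero, id_eq] at this
          rw [← this]
          refine Finset.sum_congr rfl fun j _ => mul_comm _ _

end wr

end DW

end Groth.Agent.Lib.helper10
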