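import Groth.Agent.Lib.Helper10.FunFld29
import Groth.Agent.Lib.Helper10.DiffWr

/-!
Function fields of one variable (helper10), part 30: derivations in characteristic zero, the
Wronskian, and the finiteness of inflection points of a linear system.
-/

set_option autoImplicit false
set_option linter.unusedSectionVars false
set_option linter.style.haveILetI false

universe u v w

open IntermediateField FunFld Polynomial

namespace Groth.Agent.Lib.helper10

namespace FF

open RD DW

variable {k : Type u} {K : Type v} [Field k] [Field K] [Algebra k K]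

/-- A nonzero derivation of a function field in characteristic zero. -/
theorem exists_derivation (hK : IsFunctionField k K) [CharZero k] :
    ∃ (D : Derivation k K K) (x : K), Transcendental k x ∧ D x = 1 := by
  obtain ⟨⟨x, hx, hfin⟩, -⟩ := id hK
  haveI := hfin
  obtain ⟨D, hD⟩ := exists_derivation_of_finite x hx
  exact ⟨D, x, hx, hD⟩

/-- Derivative of a polynomial expression with constant coefficients. -/
theorem deriv_aeval_of_const (D : Derivation k K K) (C : IntermediateField k K)
    (hC : ∀ w ∈ C, D w = 0) (x : K) (p : Polynomial ↥C) :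
    D (Polynomial.aeval x p) = Polynomial.aeval x (Polynomial.derivative p) * D x := by
  induction p using Polynomial.induction_on with
  | C a =>
    rw [Polynomial.aeval_C, Polynomial.derivative_C, map_zero, zero_mul]
    exact hC _ a.2
  | add p q hp hq => rw [map_add, map_add, hp, hq, Polynomial.derivative_add, map_add, add_mul]
  | monomial n a _ =>
    have ha : D (algebraMap (↥C) K a) = 0 := hC _ a.2
    rw [Polynomial.derivative_mul, Polynomial.derivative_C, zero_mul, zero_add,
      Polynomial.derivative_X_pow, map_mul, Polynomial.aeval_C, map_pow, Polynomial.aeval_X,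
      Derivation.leibniz, Derivation.leibniz_pow, ha, smul_zero, add_zero, map_mul,
      Polynomial.aeval_C, map_mul, map_pow, Polynomial.aeval_X, Polynomial.aeval_C]
    simp only [smul_eq_mul, nsmul_eq_mul, Nat.add_sub_cancel, map_natCast]
    ring

/-- The constants of a nonzero derivation of a function field in characteristic zero are the
constant field. -/
theorem const_of_deriv_eq_zero (hK : IsFunctionField k K) [CharZero k] (D : Derivation k K K)
    {x : K} (hx : D x = 1) {z : K} (hz : D z = 0) : z ∈ Set.range (algebraMap k K) := by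
  by_contra hzc
  have hztr := transcendental_of_not_mem_range hK hzc
  haveI := finiteDimensional_adjoin hK hztr
  let C : IntermediateField k K :=
    { carrier := {w | D w = 0}
      mul_mem' := fun {a b} ha hb => by
        show D (a * b) = 0
        rw [Derivation.leibniz, show D a = 0 from ha, show D b = 0 from hb, smul_zero, smul_zero,
          add_zero]
      one_mem' := Derivation.map_one_eq_zero D
      add_mem' := fun {a b} ha hb => by
        show D (a + b) = 0
        rw [map_add, show D a = 0 from ha, show D b = 0 from hb, add_zero]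
      zero_mem' := map_zero D
      algebraMap_mem' := fun c => Derivation.map_algebraMap D c
      inv_mem' := fun a ha => by
        show D a⁻¹ = 0
        rw [Derivation.leibniz_inv, show D a = 0 from ha, smul_zero] }
  have hzC : k⟮z⟯ ≤ C := by
    rw [IntermediateField.adjoin_simple_le_iff]
    exact hz
  have hxalg : IsIntegral ↥k⟮z⟯ x := (Algebra.IsIntegral.isIntegral x)
  set p := minpoly ↥k⟮z⟯ x with hp
  have hp0 : Polynomial.aeval x p = 0 := minpoly.aeval _ _
  have hd := deriv_aeval_of_const D k⟮z⟯ (fun w hw => hzC hw) x p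
  rw [hp0, map_zero, hx, mul_one] at hd
  have hdvd : p ∣ Polynomial.derivative p := minpoly.dvd _ _ hd.symm
  have hpos : 0 < p.natDegree := minpoly.natDegree_pos hxalg
  have hne : Polynomial.derivative p ≠ 0 := by
    intro h0
    have := Polynomial.derivative_eq_zero.mp h0
    omega
  have hlt : (Polynomial.derivative p).natDegree < p.natDegree :=
    Polynomial.natDegree_derivative_lt (by omega)
  exact Polynomial.not_dvd_of_natDegree_lt hne hlt hdvd

/-- The Wronskian of a linearly independent family is nonzero. -/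
theorem wr_ne_zero_of_linearIndependent (hK : IsFunctionField k K) [CharZero k]
    (D : Derivation k K K) {x : K} (hx : D x = 1) {r : ℕ} (f : Fin r → K)
    (hf : LinearIndependent k f) : (wrMat D f).det ≠ 0 := by
  intro h
  obtain ⟨c, hc0, hcD, hcs⟩ := exists_const_rel D r f h
  have hck : ∀ j, ∃ γ : k, algebraMap k K γ = c j := fun j =>
    const_of_deriv_eq_zero hK D hx (hcD j)
  choose γ hγ using hck
  have hrel : ∑ j, γ j • f j = 0 := by
    rw [← hcs]
    refine Finset.sum_congr rfl fun j _ => ?_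
    rw [Algebra.smul_def, hγ]
  have := Fintype.linearIndependent_iff.mp hf γ hrel
  apply hc0
  funext j
  rw [← hγ, this j, map_zero]
  rfl

/-- Poles of an element are finite in number. -/
theorem finite_poles (hK : IsFunctionField k K) (z : K) :
    {Q : Place k K | 1 < Q.1 z}.Finite := by
  refine (support_ord_finite hK z).subset ?_
  intro Q hQ
  rw [Set.mem_ofPred_eq] at hQ
  rw [Function.mem_support]
  have hz0 : z ≠ 0 := by
    rintro rfl
    rw [Valuation.map_zero] at hQ
    exact absurd hQ (by simp)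
  have := (Place.ord_neg_iff Q hz0).mpr hQ
  omega

/-- Zeros of a nonzero element are finite in number. -/
theorem finite_zeros (hK : IsFunctionField k K) {z : K} (hz0 : z ≠ 0) :
    {Q : Place k K | Q.1 z < 1}.Finite := by
  refine (support_ord_finite hK z).subset ?_
  intro Q hQ
  rw [Set.mem_ofPred_eq] at hQ
  rw [Function.mem_support]
  intro h0
  rw [Place.val_eq_exp_neg_ord Q hz0, h0, neg_zero, WithZero.exp_zero] at hQ
  exact lt_irrefl _ hQ

/-- A derivation preserves all but finitely many valuation rings. -/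
theorem exists_finite_bad (hK : IsFunctionField k K) [IsAlgClosed k] (D : Derivation k K K) :
    ∃ S : Set (Place k K), S.Finite ∧
      ∀ Q : Place k K, Q ∉ S → ∀ z : K, Q.1 z ≤ 1 → Q.1 (D z) ≤ 1 := by
  classical
  obtain ⟨P₀⟩ := exists_place hK
  set g' : ℤ := (genus k K : ℤ) with hg'
  have hg0 : 0 ≤ g' := Int.natCast_nonneg _
  set E : Divisor k K := Finsupp.single P₀ (2 * g' + 1) with hE
  have hEdeg : E.deg = 2 * g' + 1 := by
    rw [hE, deg_single, Place.deg_eq_one hK P₀]; simp
  have hE0 : 0 ≤ E := by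
    intro Q
    by_cases hQ : Q = P₀
    · subst hQ; rw [hE, Finsupp.single_eq_same]; simp; omega
    · rw [hE, Finsupp.single_eq_of_ne hQ]; simp
  haveI := finiteDimensional_L hK E
  obtain ⟨S₀, hS₀⟩ := (Submodule.fg_iff_finiteDimensional (L E)).mpr inferInstance
  refine ⟨{P₀} ∪ ⋃ s ∈ S₀, {Q : Place k K | 1 < Q.1 (D s)}, ?_, ?_⟩
  · refine (Set.finite_singleton _).union ?_
    exact Set.Finite.biUnion (Finset.finite_toSet S₀) fun s _ => finite_poles hK (D s)
  intro Q hQ z hz
  rw [Set.mem_union, not_or, Set.mem_singleton_iff] at hQ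
  obtain ⟨hQP, hQS⟩ := hQ
  have hQS' : ∀ s ∈ S₀, Q.1 (D s) ≤ 1 := by
    intro s hs
    by_contra hlt
    rw [not_le] at hlt
    apply hQS
    rw [Set.mem_iUnion₂]
    exact ⟨s, hs, hlt⟩
  have hEQ : E Q = 0 := by rw [hE, Finsupp.single_eq_of_ne hQP]
  have hDL : ∀ f ∈ L E, Q.1 (D f) ≤ 1 := by
    intro f hf
    rw [← hS₀] at hf
    induction hf using Submodule.span_induction with
    | mem s hs => exact hQS' s hs
    | zero => rw [map_zero, Valuation.map_zero]; exact zero_le_one
    | add a b _ _ ha hb => rw [map_add]; exact le_trans (Valuation.map_add Q.1 _ _) (max_le ha hb)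
    | smul c a _ ha =>
      rw [Derivation.map_smul, Algebra.smul_def, Valuation.map_mul]
      exact mul_le_one' (Q.2.1 c) ha
  set A : Subalgebra k K := Algebra.adjoin k (L E : Set K) with hA
  have hAL : ∀ f ∈ L E, f ∈ A := fun f hf => Algebra.subset_adjoin hf
  have hAQ : ∀ a ∈ A, Q.1 a ≤ 1 ∧ Q.1 (D a) ≤ 1 := by
    intro a ha
    induction ha using Algebra.adjoin_induction with
    | mem f hf =>
      refine ⟨?_, hDL f hf⟩
      have := hf Q
      rwa [hEQ, WithZero.exp_zero] at this
    | algebraMap c =>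
      refine ⟨Q.2.1 c, ?_⟩
      rw [Derivation.map_algebraMap, Valuation.map_zero]
      exact zero_le_one
    | add a b _ _ ha hb =>
      refine ⟨le_trans (Valuation.map_add Q.1 _ _) (max_le ha.1 hb.1), ?_⟩
      rw [map_add]
      exact le_trans (Valuation.map_add Q.1 _ _) (max_le ha.2 hb.2)
    | mul a b _ _ ha hb =>
      refine ⟨by rw [Valuation.map_mul]; exact mul_le_one' ha.1 hb.1, ?_⟩
      rw [Derivation.leibniz, smul_eq_mul, smul_eq_mul]
      refine le_trans (Valuation.map_add Q.1 _ _) (max_le ?_ ?_)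
      · rw [Valuation.map_mul]; exact mul_le_one' ha.1 hb.2
      · rw [Valuation.map_mul]; exact mul_le_one' hb.1 ha.2
  obtain ⟨u, hu, w, hw, hwQ, hzw⟩ := embed_main hK E hE0 Q hEQ (by rw [hEdeg]; omega)
    (by rw [hEdeg]; omega)
    (fun R => L_sub_single_ne_of_deg hK (by rw [hEdeg]; omega) R)
    (fun R => L_sub_single_ne_of_deg hK (by
      rw [deg_sub, hEdeg, deg_single, Place.deg_eq_one hK Q]; push_cast; omega) R)
    A hAL (fun a ha => (hAQ a ha).1) z hz
  have hw0 : w ≠ 0 := by
    rintro rfl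
    rw [Valuation.map_zero] at hwQ
    exact zero_ne_one hwQ
  have hDz : D z = (D u - z * D w) / w := by
    rw [eq_div_iff hw0, ← hzw, Derivation.leibniz, smul_eq_mul, smul_eq_mul]
    ring
  rw [hDz, map_div₀, hwQ, div_one]
  refine le_trans (Valuation.map_sub Q.1 _ _) (max_le (hAQ u hu).2 ?_)
  rw [Valuation.map_mul]
  exact mul_le_one' hz (hAQ w hw).2

/-- At a place whose valuation ring is preserved, a derivation lowers orders by at most one. -/
theorem val_deriv_le (Q : Place k K) (D : Derivation k K K)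
    (hgood : ∀ z : K, Q.1 z ≤ 1 → Q.1 (D z) ≤ 1) (m : ℕ) {f : K}
    (hf : Q.1 f ≤ WithZero.exp (-((m : ℤ) + 1))) : Q.1 (D f) ≤ WithZero.exp (-(m : ℤ)) := by
  obtain ⟨t, ht⟩ := Q.2.2 (WithZero.exp (-1 : ℤ))
  have ht0 : t ≠ 0 := by
    rintro rfl
    rw [Valuation.map_zero] at ht
    exact WithZero.exp_ne_zero ht.symm
  have htp : ∀ n : ℕ, Q.1 (t ^ n) = WithZero.exp (-(n : ℤ)) := by
    intro n
    rw [Valuation.map_pow, ht, ← WithZero.exp_nsmul]
    congr 1
    simp
  set g := f / t ^ (m + 1) with hg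
  have hgv : Q.1 g ≤ 1 := by
    rw [hg, map_div₀, htp]
    rw [div_le_iff₀ WithZero.exp_pos, one_mul]
    push_cast
    exact hf
  have hfg : f = t ^ (m + 1) * g := by
    rw [hg, mul_div_cancel₀ _ (pow_ne_zero _ ht0)]
  rw [hfg, Derivation.leibniz, Derivation.leibniz_pow, smul_eq_mul, smul_eq_mul, smul_eq_mul,
    nsmul_eq_mul, Nat.add_sub_cancel]
  refine le_trans (Valuation.map_add Q.1 _ _) (max_le ?_ ?_)
  · rw [Valuation.map_mul, htp]
    calc WithZero.exp (-((m + 1 : ℕ) : ℤ)) * Q.1 (D g)
        ≤ WithZero.exp (-((m + 1 : ℕ) : ℤ)) * 1 := by gcongr; exact hgood g hgv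
      _ ≤ WithZero.exp (-(m : ℤ)) := by
        rw [mul_one, WithZero.exp_le_exp]; push_cast; omega
  · rw [Valuation.map_mul, Valuation.map_mul, Valuation.map_mul, htp]
    have hnat : Q.1 (((m + 1 : ℕ) : K)) ≤ 1 := by
      have : ((m + 1 : ℕ) : K) = algebraMap k K ((m + 1 : ℕ) : k) := by
        rw [map_natCast]
      rw [this]
      exact Q.2.1 _
    have hDt : Q.1 (D t) ≤ 1 := hgood t (by rw [ht, ← WithZero.exp_zero, WithZero.exp_le_exp]; norm_num)
    calc Q.1 g * (Q.1 (((m + 1 : ℕ) : K)) * (WithZero.exp (-(m : ℤ)) * Q.1 (D t)))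
        ≤ 1 * (1 * (WithZero.exp (-(m : ℤ)) * 1)) := by gcongr
      _ = WithZero.exp (-(m : ℤ)) := by rw [one_mul, one_mul, mul_one]

theorem val_iter_deriv_le_one (Q : Place k K) (D : Derivation k K K)
    (hgood : ∀ z : K, Q.1 z ≤ 1 → Q.1 (D z) ≤ 1) {f : K} (hf : Q.1 f ≤ 1) (i : ℕ) :
    Q.1 (D^[i] f) ≤ 1 := by
  induction i with
  | zero => exact hf
  | succ i ih => rw [Function.iterate_succ_apply']; exact hgood _ ih

theorem val_iter_deriv_le (Q : Place k K) (D : Derivation k K K)
    (hgood : ∀ z : K, Q.1 z ≤ 1 → Q.1 (D z) ≤ 1) (n : ℕ) {f : K}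
    (hf : Q.1 f ≤ WithZero.exp (-(n : ℤ))) (i : ℕ) (hi : i ≤ n) :
    Q.1 (D^[i] f) ≤ WithZero.exp (-((n - i : ℕ) : ℤ)) := by
  induction i with
  | zero => simpa using hf
  | succ i ih =>
    rw [Function.iterate_succ_apply']
    have h1 := ih (by omega)
    have e : ((n - i : ℕ) : ℤ) = ((n - (i + 1) : ℕ) : ℤ) + 1 := by
      have : n - i = (n - (i + 1)) + 1 := by omega
      rw [this]; push_cast; ring
    rw [e] at h1
    exact val_deriv_le Q D hgood _ h1

theorem iter_deriv_sum (D : Derivation k K K) {ι : Type*} (s : Finset ι) (c : ι → k) (f : ι → K)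
    (i : ℕ) : D^[i] (∑ j ∈ s, c j • f j) = ∑ j ∈ s, c j • D^[i] (f j) := by
  induction i with
  | zero => rfl
  | succ i ih =>
    rw [Function.iterate_succ_apply', ih, map_sum]
    refine Finset.sum_congr rfl fun j _ => ?_
    rw [Derivation.map_smul, Function.iterate_succ_apply']

/-- At a good place where all members of the family are integral, an element of the span
vanishing to order at least the dimension forces the Wronskian to vanish. -/
theorem val_wr_lt_one (Q : Place k K) (D : Derivation k K K)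
    (hgood : ∀ z : K, Q.1 z ≤ 1 → Q.1 (D z) ≤ 1) {r : ℕ} (f : Fin (r + 1) → K)
    (hf : ∀ j, Q.1 (f j) ≤ 1) (c : Fin (r + 1) → k) (j₀ : Fin (r + 1)) (hc : c j₀ ≠ 0)
    (hg : Q.1 (∑ j, c j • f j) ≤ WithZero.exp (-((r : ℤ) + 1))) :
    Q.1 (wrMat D f).det < 1 := by
  classical
  set M := wrMat D f with hM
  set g := ∑ j, c j • f j with hgdef
  have hcol : (fun i : Fin (r + 1) => ∑ j, (algebraMap k K (c j)) • M i j) =
      fun i : Fin (r + 1) => D^[(i : ℕ)] g := by
    funext i
    rw [hgdef, iter_deriv_sum]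
    refine Finset.sum_congr rfl fun j _ => ?_
    rw [smul_eq_mul, Algebra.smul_def (R := k)]
    rfl
  have hdet := Matrix.det_updateCol_sum M j₀ (fun j => algebraMap k K (c j))
  rw [hcol] at hdet
  set M' := M.updateCol j₀ (fun i : Fin (r + 1) => D^[(i : ℕ)] g) with hM'
  have hg' : Q.1 g ≤ WithZero.exp (-((r + 1 : ℕ) : ℤ)) := by push_cast; exact hg
  have hentry : ∀ i j, Q.1 (M' i j) ≤ 1 := by
    intro i j
    by_cases hj : j = j₀
    · subst hj
      rw [hM', Matrix.updateCol_self]
      refine le_trans (val_iter_deriv_le Q D hgood (r + 1) hg' i (by omega)) ?_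
      rw [← WithZero.exp_zero, WithZero.exp_le_exp]
      omega
    · rw [hM', Matrix.updateCol_ne hj]
      exact val_iter_deriv_le_one Q D hgood (hf j) i
  have hentry0 : ∀ i, Q.1 (M' i j₀) ≤ WithZero.exp (-1 : ℤ) := by
    intro i
    rw [hM', Matrix.updateCol_self]
    refine le_trans (val_iter_deriv_le Q D hgood (r + 1) hg' i (by omega)) ?_
    rw [WithZero.exp_le_exp]
    have := i.2
    omega
  have hdetM' : Q.1 M'.det ≤ WithZero.exp (-1 : ℤ) := by
    rw [Matrix.det_apply]
    apply Valuation.map_sum_le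
    intro σ _
    rw [Units.smul_def, zsmul_eq_mul, Valuation.map_mul]
    have hsign : Q.1 (((Equiv.Perm.sign σ : ℤˣ) : ℤ) : K) = 1 := by
      rcases Int.units_eq_one_or (Equiv.Perm.sign σ) with h | h
      · rw [h]; simp
      · rw [h]; simp
    rw [hsign, one_mul, map_prod, ← Finset.mul_prod_erase Finset.univ _ (Finset.mem_univ j₀)]
    calc Q.1 (M' (σ j₀) j₀) * ∏ j ∈ Finset.univ.erase j₀, Q.1 (M' (σ j) j)
        ≤ WithZero.exp (-1 : ℤ) * 1 := by
          gcongr
          · exact hentry0 _
          · exact Finset.prod_le_one' fun j _ => hentry _ _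
      _ = WithZero.exp (-1 : ℤ) := mul_one _
  rw [hdet, smul_eq_mul, Valuation.map_mul, trivOn_of_le_one Q.2.1 _ hc, one_mul] at hdetM'
  refine lt_of_le_of_lt hdetM' ?_
  rw [← WithZero.exp_zero, WithZero.exp_lt_exp]
  norm_num

/-- **Finiteness of inflection points** in characteristic zero. -/
theorem finite_inflection (hK : IsFunctionField k K) [IsAlgClosed k] [CharZero k] {r : ℕ}
    (f : Fin (r + 1) → K) (hf : LinearIndependent k f) :
    {Q : Place k K | (∀ j, Q.1 (f j) ≤ 1) ∧ ∃ g ∈ Submodule.span k (Set.range f), g ≠ 0 ∧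
      Q.1 g ≤ WithZero.exp (-((r : ℤ) + 1))}.Finite := by
  classical
  obtain ⟨D, x, -, hx⟩ := exists_derivation hK
  obtain ⟨S, hS, hgood⟩ := exists_finite_bad hK D
  have hW := wr_ne_zero_of_linearIndependent hK D hx f hf
  refine (hS.union (finite_zeros hK hW)).subset ?_
  rintro Q ⟨hfQ, g, hg, hg0, hgQ⟩
  by_cases hQS : Q ∈ S
  · exact Or.inl hQS
  right
  obtain ⟨c, rfl⟩ := (Submodule.mem_span_range_iff_exists_fun k).mp hg
  have hc : ∃ j₀, c j₀ ≠ 0 := by
    by_contra hno
    push Not at hno
    apply hg0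
    exact Finset.sum_eq_zero fun j _ => by rw [hno j, zero_smul]
  obtain ⟨j₀, hj₀⟩ := hc
  exact val_wr_lt_one Q D (hgood Q hQS) f hfQ c j₀ hj₀ hgQ

/-- Finiteness of torsion points of given order on a curve of genus one (characteristic zero). -/
theorem finite_torsion (hK : IsFunctionField k K) [IsAlgClosed k] [CharZero k]
    (hg : genus k K = 1) (P : Place k K) (m : ℕ) (hm : 1 ≤ m) :
    {Q : Place k K | Q ≠ P ∧ ∃ h : K, h ≠ 0 ∧
      FunFld.div k h = Finsupp.single Q (m : ℤ) - Finsupp.single P (m : ℤ)}.Finite := by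
  classical
  obtain ⟨r, rfl⟩ : ∃ r, m = r + 1 := ⟨m - 1, by omega⟩
  set E : Divisor k K := Finsupp.single P ((r + 1 : ℕ) : ℤ) with hE
  have hEdeg : E.deg = ((r + 1 : ℕ) : ℤ) := by
    rw [hE, deg_single, Place.deg_eq_one hK P]; simp
  have hell : ell E = r + 1 := by
    have := ell_of_deg_ge hK (D := E) (by rw [hEdeg, hg]; push_cast; omega)
    rw [hEdeg, hg] at this
    have h2 : (ell E : ℤ) = ((r + 1 : ℕ) : ℤ) := by rw [this]; push_cast; ring
    exact_mod_cast h2
  haveI := finiteDimensional_L hK E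
  let b := Module.finBasisOfFinrankEq k ↥(L E) hell
  set f : Fin (r + 1) → K := fun j => ((b j : ↥(L E)) : K) with hf
  have hfli : LinearIndependent k f :=
    b.linearIndependent.map' (L E).subtype (Submodule.ker_subtype _)
  refine (finite_inflection hK f hfli).subset ?_
  rintro Q ⟨hQP, h, hh0, hdiv⟩
  have hhL : h ∈ L E := by
    rw [mem_L_iff_div hK hh0, hdiv, hE]
    intro R
    simp only [Finsupp.coe_zero, Pi.zero_apply, Finsupp.add_apply, Finsupp.sub_apply]
    by_cases hR : R = Q
    · subst hR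
      rw [Finsupp.single_eq_same]
      have : (0 : ℤ) ≤ ((r + 1 : ℕ) : ℤ) := Int.natCast_nonneg _
      omega
    · rw [Finsupp.single_eq_of_ne hR]
      omega
  refine ⟨?_, h, ?_, hh0, ?_⟩
  · intro j
    have := (b j).2 Q
    have hEQ : E Q = 0 := by rw [hE, Finsupp.single_eq_of_ne hQP]
    rw [hEQ, WithZero.exp_zero] at this
    exact this
  · have h1 := b.sum_repr ⟨h, hhL⟩
    have h2 : h = ∑ j, (b.repr ⟨h, hhL⟩ j) • f j := by
      have := congrArg Subtype.val h1
      rw [AddSubmonoidClass.coe_finsetSum] at this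
      exact this.symm
    rw [h2]
    exact Submodule.sum_mem _ fun j _ =>
      Submodule.smul_mem _ _ (Submodule.subset_span ⟨j, rfl⟩)
  · rw [Place.val_eq_exp_neg_ord Q hh0, ← div_apply hK, hdiv, Finsupp.sub_apply,
      Finsupp.single_eq_same, Finsupp.single_eq_of_ne hQP, sub_zero]
    push_cast
    exact le_rfl

/-- S18182. -/
theorem finite_large_weight_pair (hK : IsFunctionField k K) [IsAlgClosed k] [CharZero k]
    (hg : genus k K = 1) (P : Place k K) (d r : ℕ) :
    {Q : Place k K | Q ≠ P ∧ ∃ (D : Divisor k K) (V : Submodule k K),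
      D.deg = d ∧ V ≤ L D ∧ Module.finrank k ↥V = r + 1 ∧
      (r + 1) * d + 1 ≤ SS V D P d + SS V D Q d + r}.Finite := by
  classical
  have hfin : (⋃ m ∈ Finset.Icc 1 d, {Q : Place k K | Q ≠ P ∧ ∃ h : K, h ≠ 0 ∧
      FunFld.div k h = Finsupp.single Q (m : ℤ) - Finsupp.single P (m : ℤ)}).Finite :=
    Set.Finite.biUnion (Finset.finite_toSet _) fun m hm =>
      finite_torsion hK hg P m (Finset.mem_Icc.mp hm).1
  refine hfin.subset ?_
  rintro Q ⟨hQP, D, V, hD, hV, hVr, hw⟩
  obtain ⟨m, hm1, hmd, h, hh0, hdiv⟩ := exists_torsion_of_weight hK hD hV hVr (Ne.symm hQP) hw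
  rw [Set.mem_iUnion₂]
  exact ⟨m, Finset.mem_Icc.mpr ⟨hm1, hmd⟩, hQP, h, hh0, hdiv⟩

end FF

end Groth.Agent.Lib.helper10
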