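import Groth.Agent.Lib.Helper10.FunFld35
import Groth.Agent.Lib.Helper10.FunFld30
import Groth.Prelude.Def_W4bk4goldsch23Ext

/-!
Function fields of one variable (helper10), part 36: places in a finite extension — the place
below, ramification indices, the conorm, and the divisor of a projective map read in an
extension.
-/

set_option autoImplicit false
set_option linter.unusedSectionVars false
set_option linter.style.haveILetI false

universe u v w

open IntermediateField FunFld Polynomial

namespace Groth.Agent.Lib.helper10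

namespace FF

open RD PA

section Ext

variable {k : Type u} {F : Type v} {E : Type w} [Field k] [Field F] [Field E]
  [Algebra k F] [Algebra F E] [Algebra k E] [IsScalarTower k F E]

theorem isOverWith_pos {Q : Place k E} {P : Place k F} {e : ℕ} (h : IsOverWith Q P e) :
    1 ≤ e := by
  by_contra h0
  have he : e = 0 := by omega
  have := h 0
  rw [he, pow_zero, map_zero, Valuation.map_zero] at this
  exact zero_ne_one this

/-- The place below a place of a finite extension. -/
theorem exists_place_under [Algebra.IsAlgebraic F E] (hF : IsFunctionField k F) (Q : Place k E) :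
    ∃ (P : Place k F) (e : ℕ), IsOverWith Q P e := by
  classical
  set ι := algebraMap F E with hι
  set V : ValuationSubring F := Q.O.comap ι with hV
  have hkV : ∀ c : k, algebraMap k F c ∈ V := by
    intro c
    rw [hV, ValuationSubring.mem_comap, hι, ← IsScalarTower.algebraMap_apply]
    exact Q.2.1 c
  have hVtop : V ≠ ⊤ := by
    intro htop
    have htriv : TrivOn F Q.1 := by
      apply trivOn_of_le_one
      intro c
      have : c ∈ V := by rw [htop]; trivial
      exact this
    obtain ⟨t, ht0, ht⟩ := Place.exists_ne_zero_lt_one Q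
    have halg : IsAlgebraic F t := Algebra.IsAlgebraic.isAlgebraic t
    have hint : IsIntegral F t := halg.isIntegral
    have hc0 : (minpoly F t).coeff 0 ≠ 0 := minpoly.coeff_zero_ne_zero hint ht0
    have h1 := htriv.aeval_eq_one ht (minpoly F t) hc0
    rw [minpoly.aeval, Valuation.map_zero] at h1
    exact zero_ne_one h1
  set P := placeOf V hF hkV hVtop with hP
  have hPO : P.O = V := placeOf_O V hF hkV hVtop
  have hmem : ∀ z : F, P.1 z ≤ 1 ↔ Q.1 (ι z) ≤ 1 := by
    intro z
    have h1 : z ∈ P.O ↔ z ∈ V := by rw [hPO]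
    exact h1
  have hunit : ∀ z : F, z ≠ 0 → P.1 z = 1 → Q.1 (ι z) = 1 := by
    intro z hz0 hz
    apply le_antisymm ((hmem z).mp hz.le)
    have h1 : P.1 z⁻¹ ≤ 1 := by rw [map_inv₀, hz, inv_one]
    have h2 := (hmem z⁻¹).mp h1
    rw [map_inv₀, map_inv₀] at h2
    have hne : Q.1 (ι z) ≠ 0 := (Valuation.ne_zero_iff _).mpr ((_root_.map_ne_zero ι).mpr hz0)
    exact (inv_le_one₀ (zero_lt_iff.mpr hne)).mp h2
  obtain ⟨t, ht⟩ := Place.exists_uniformizer P
  have ht0 : t ≠ 0 := by
    rintro rfl
    rw [Valuation.map_zero] at ht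
    exact WithZero.exp_ne_zero ht.symm
  have hιt0 : ι t ≠ 0 := (_root_.map_ne_zero ι).mpr ht0
  have hQt : Q.1 (ι t) < 1 := by
    by_contra hge
    rw [not_lt] at hge
    have h1 : Q.1 (ι t⁻¹) ≤ 1 := by
      rw [map_inv₀, map_inv₀]
      exact inv_le_one_of_one_le₀ hge
    have h2 := (hmem t⁻¹).mpr h1
    rw [map_inv₀, ht, ← WithZero.exp_neg, ← WithZero.exp_zero, WithZero.exp_le_exp] at h2
    omega
  set e' : ℤ := Q.ord (ι t) with he'
  have he'pos : 0 < e' := (Place.ord_pos_iff Q hιt0).mpr hQt
  have hQt' : Q.1 (ι t) = WithZero.exp (-e') := Place.val_eq_exp_neg_ord Q hιt0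
  refine ⟨P, e'.toNat, ?_⟩
  have he'nat : ((e'.toNat : ℕ) : ℤ) = e' := Int.toNat_of_nonneg he'pos.le
  intro z
  by_cases hz0 : z = 0
  · rw [hz0, map_zero, Valuation.map_zero, Valuation.map_zero, zero_pow]
    intro h
    rw [h] at he'nat
    simp at he'nat
    omega
  · set n : ℤ := P.ord z with hn
    have hPz : P.1 z = WithZero.exp (-n) := Place.val_eq_exp_neg_ord P hz0
    set u : F := z * (t ^ n)⁻¹ with hu
    have htn0 : t ^ n ≠ 0 := zpow_ne_zero _ ht0
    have hu0 : u ≠ 0 := mul_ne_zero hz0 (inv_ne_zero htn0)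
    have hPu : P.1 u = 1 := by
      rw [hu, Valuation.map_mul, map_inv₀, Place.val_zpow_uniformizer P ht, hPz]
      exact mul_inv_cancel₀ WithZero.exp_ne_zero
    have hQu := hunit u hu0 hPu
    have hz : z = u * t ^ n := by
      rw [hu, mul_assoc, inv_mul_cancel₀ htn0, mul_one]
    have h1 : Q.1 (ι z) = Q.1 (ι t) ^ n := by
      conv_lhs => rw [hz]
      rw [map_mul, Valuation.map_mul, hQu, one_mul, map_zpow₀, map_zpow₀]
    rw [h1, hQt', hPz, ← WithZero.exp_zsmul, ← WithZero.exp_nsmul]
    congr 1
    rw [nsmul_eq_mul, smul_eq_mul, he'nat]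
    ring

theorem isOverWith_unique_place {Q : Place k E} {P P' : Place k F} {e e' : ℕ}
    (h : IsOverWith Q P e) (h' : IsOverWith Q P' e') : P = P' := by
  have he' := isOverWith_pos h'
  apply Place.eq_of_O_le
  intro z hz
  have h1 : P.1 z ≤ 1 := hz
  have h2 : Q.1 (algebraMap F E z) ≤ 1 := by
    rw [h z]; exact pow_le_one' h1 e
  rw [h' z] at h2
  show P'.1 z ≤ 1
  by_contra hgt
  rw [not_le] at hgt
  have : 1 < P'.1 z ^ e' := one_lt_pow' hgt (by omega)
  exact absurd h2 (not_le.mpr this)

theorem isOverWith_unique_idx {Q : Place k E} {P : Place k F} {e e' : ℕ}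
    (h : IsOverWith Q P e) (h' : IsOverWith Q P e') : e = e' := by
  obtain ⟨t, ht⟩ := Place.exists_uniformizer P
  have h1 := h t
  rw [h' t, ht, ← WithZero.exp_nsmul, ← WithZero.exp_nsmul] at h1
  have := WithZero.exp_injective h1
  simp only [nsmul_eq_mul, mul_neg, mul_one, neg_inj] at this
  exact_mod_cast this.symm

theorem ramIdx_eq {Q : Place k E} {P : Place k F} {e : ℕ} (h : IsOverWith Q P e) :
    ramIdx Q P = e := by
  classical
  have hover : IsOver Q P := ⟨e, h⟩
  unfold ramIdx
  rw [dif_pos hover]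
  exact isOverWith_unique_idx (Nat.find_spec hover) h

theorem ord_algebraMap_of_isOverWith {Q : Place k E} {P : Place k F} {e : ℕ}
    (h : IsOverWith Q P e) (z : F) : Q.ord (algebraMap F E z) = e * P.ord z := by
  unfold Place.ord
  rw [h z, WithZero.log_pow, nsmul_eq_mul]
  ring

theorem finite_places_over (hE : IsFunctionField k E) (P : Place k F) :
    {Q : Place k E | IsOver Q P}.Finite := by
  obtain ⟨t, ht⟩ := Place.exists_uniformizer P
  have ht0 : t ≠ 0 := by
    rintro rfl
    rw [Valuation.map_zero] at ht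
    exact WithZero.exp_ne_zero ht.symm
  have hιt0 : algebraMap F E t ≠ 0 := (_root_.map_ne_zero _).mpr ht0
  refine (finite_zeros hE hιt0).subset ?_
  rintro Q ⟨e, he⟩
  have hpos := isOverWith_pos he
  show Q.1 (algebraMap F E t) < 1
  rw [he t, ht, ← WithZero.exp_nsmul, ← WithZero.exp_zero, WithZero.exp_lt_exp]
  simp only [nsmul_eq_mul, mul_neg, mul_one, Left.neg_neg_iff]
  exact_mod_cast hpos

/-- The coefficient of the conorm at a place of the extension. -/
theorem conorm_apply (hE : IsFunctionField k E) (D : Divisor k F) {Q : Place k E}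
    {P : Place k F} {e : ℕ} (h : IsOverWith Q P e) : conorm E D Q = e * D P := by
  classical
  unfold conorm
  rw [Finsupp.sum_apply]
  have hterm : ∀ (P' : Place k F) (n : ℤ),
      (n • if hfin : {Q' : Place k E | IsOver Q' P'}.Finite then
        hfin.toFinset.sum (fun Q' => (ramIdx Q' P' : ℤ) • Finsupp.single Q' (1 : ℤ)) else 0) Q =
      if P' = P then n * e else 0 := by
    intro P' n
    rw [dif_pos (finite_places_over hE P'), Finsupp.smul_apply, Finsupp.finsetSum_apply]
    by_cases hP' : P' = P
    · subst hP'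
      rw [if_pos rfl]
      have hQmem : Q ∈ (finite_places_over hE P').toFinset :=
        (Set.Finite.mem_toFinset _).mpr ⟨e, h⟩
      rw [Finset.sum_eq_single_of_mem Q hQmem]
      · rw [Finsupp.smul_apply, Finsupp.single_eq_same, ramIdx_eq h]
        simp
      · intro Q' _ hne
        rw [Finsupp.smul_apply, Finsupp.single_eq_of_ne (Ne.symm hne), smul_zero]
    · rw [if_neg hP']
      have : ∑ Q' ∈ (finite_places_over hE P').toFinset,
          ((ramIdx Q' P' : ℤ) • Finsupp.single Q' (1 : ℤ)) Q = 0 := by
        apply Finset.sum_eq_zero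
        intro Q' hQ'
        rw [Finsupp.smul_apply]
        by_cases hQQ : Q' = Q
        · exfalso
          subst hQQ
          obtain ⟨e'', he''⟩ := (Set.Finite.mem_toFinset _).mp hQ'
          exact hP' (isOverWith_unique_place he'' h)
        · rw [Finsupp.single_eq_of_ne (Ne.symm hQQ), smul_zero]
      rw [this, smul_zero]
  simp only [hterm]
  rw [Finsupp.sum, Finset.sum_ite_eq']
  by_cases hPD : P ∈ D.support
  · rw [if_pos hPD]; ring
  · rw [if_neg hPD, Finsupp.notMem_support_iff.mp hPD, mul_zero]

/-- **S11069**: the divisor of a projective map read in a finite extension is the conorm. -/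
theorem mapDiv_algebraMap_eq_conorm [FiniteDimensional F E] (hE : IsFunctionField k E)
    (hF : IsFunctionField k F) {ι : Type*} [Fintype ι] [Nonempty ι] (φ : ι → F) :
    mapDiv k (fun i => algebraMap F E (φ i)) = conorm E (mapDiv k φ) := by
  ext Q
  obtain ⟨P, e, he⟩ := exists_place_under hF Q
  rw [conorm_apply hE _ he]
  have hord : ∀ i, Q.ord (algebraMap F E (φ i)) = e * P.ord (φ i) :=
    fun i => ord_algebraMap_of_isOverWith he (φ i)
  apply le_antisymm
  · obtain ⟨i, hi⟩ := exists_mapDiv_eq hE (fun i => algebraMap F E (φ i)) Q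
    rw [hi, hord i]
    have h1 := neg_ord_le_mapDiv hF φ P i
    have he0 : (0 : ℤ) ≤ (e : ℤ) := Int.natCast_nonneg _
    nlinarith
  · obtain ⟨i, hi⟩ := exists_mapDiv_eq hF φ P
    rw [hi]
    have h1 := neg_ord_le_mapDiv hE (fun i => algebraMap F E (φ i)) Q i
    rw [hord i] at h1
    linarith

end Ext

end FF

end Groth.Agent.Lib.helper10
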