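import Groth.Agent.Lib.Helper10.LocRes5
import Groth.Agent.Lib.Helper10.FunFld36

/-!
Local residues through Laurent expansions (helper10), part 6: the different exponent of a totally
ramified place is the order of `f'(s)` for the minimal polynomial `f` of a local parameter `s`
(S12573).
-/

set_option autoImplicit false
set_option linter.unusedSectionVars false
set_option linter.style.haveILetI false

universe u v w

open FunFld Polynomial

namespace Groth.Agent.Lib.helper10

namespace FF

open LaurentSeries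

section MinTwice

variable {K : Type v} [Field K] {Γ₀ : Type w} [LinearOrderedCommGroupWithZero Γ₀]

/-- In a vanishing sum with a nonzero term the largest value is attained twice. -/
theorem exists_pair_max_of_sum_eq_zero {ι : Type*} (v : Valuation K Γ₀) (s : Finset ι) (f : ι → K)
    (hsum : ∑ i ∈ s, f i = 0) (hne : ∃ i ∈ s, f i ≠ 0) :
    ∃ i ∈ s, ∃ j ∈ s, i ≠ j ∧ f i ≠ 0 ∧ v (f i) = v (f j) ∧ ∀ l ∈ s, v (f l) ≤ v (f i) := by
  classical
  have hs : s.Nonempty := by
    obtain ⟨i, hi, -⟩ := hne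
    exact ⟨i, hi⟩
  obtain ⟨i₀, hi₀, hmax⟩ := Finset.exists_max_image s (fun i => v (f i)) hs
  have hfi₀ : f i₀ ≠ 0 := by
    obtain ⟨i, hi, hfi⟩ := hne
    intro h0
    have := hmax i hi
    simp only [h0, Valuation.map_zero] at this
    exact hfi ((Valuation.zero_iff v).mp (le_antisymm this zero_le))
  have hv0 : v (f i₀) ≠ 0 := (Valuation.ne_zero_iff v).mpr hfi₀
  by_contra hcon
  push Not at hcon
  have hlt : v (∑ i ∈ s.erase i₀, f i) < v (f i₀) := by
    apply Valuation.map_sum_lt v hv0
    intro i hi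
    have hi' := Finset.mem_erase.mp hi
    apply lt_of_le_of_ne (hmax i hi'.2)
    intro heq
    obtain ⟨l, hl, hlt⟩ := hcon i₀ hi₀ i hi'.2 (Ne.symm hi'.1) hfi₀ heq.symm
    exact absurd (hmax l hl) (not_le.mpr hlt)
  rw [← Finset.add_sum_erase s f hi₀] at hsum
  have := Valuation.map_add_eq_of_lt_left v hlt
  rw [hsum, Valuation.map_zero] at this
  exact hv0 this.symm

end MinTwice

section Total

variable {k : Type u} {K K' : Type v} [Field k] [Field K] [Field K'] [Algebra k K]
  [Algebra K K'] [Algebra k K'] [IsScalarTower k K K']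
  {F' : Type w} [Field F'] [Algebra k F']

/-- The total derivative of a polynomial expression with non-constant coefficients. -/
theorem D_aeval_total (ψ : K' →ₐ[k] LaurentSeries F') (s : K') (f : K[X]) :
    LocRes.D F' (ψ (aeval s f)) =
      f.sum (fun i a => ψ s ^ i * LocRes.D F' (ψ (algebraMap K K' a))) +
        ψ (aeval s (derivative f)) * LocRes.D F' (ψ s) := by
  induction f using Polynomial.induction_on' with
  | add p q hp hq =>
    rw [map_add, map_add, map_add, hp, hq, derivative_add, map_add, map_add,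
      Polynomial.sum_add_index]
    · ring
    · intro i
      rw [map_zero, map_zero, map_zero, mul_zero]
    · intro i a b
      rw [map_add, map_add, map_add, mul_add]
  | monomial i a =>
    rw [aeval_monomial, map_mul, map_pow, Derivation.leibniz, Derivation.leibniz_pow,
      Polynomial.sum_monomial_index _ _ (by rw [map_zero, map_zero, map_zero, mul_zero]),
      derivative_monomial, aeval_monomial, map_mul, map_pow, map_mul, map_natCast, map_mul,
      map_natCast]
    simp only [smul_eq_mul, nsmul_eq_mul]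
    ring

end Total

section Main

variable {k : Type u} {K K' : Type v} [Field k] [Field K] [Field K'] [Algebra k K]
  [Algebra K K'] [Algebra k K'] [IsScalarTower k K K']
  {F F' : Type w} [Field F] [Algebra k F] [Field F'] [Algebra k F']

theorem ordL_eq_ord {Q : Place k K'} {ψ : K' →ₐ[k] LaurentSeries F'}
    (hψ : LocRes.IsExpansionAt Q.1 ψ) (z : K') : ordL (ψ z) = Q.ord z := by
  unfold ordL Place.ord
  rw [hψ.1]

/-- **S12573**: at a totally ramified place the different exponent is the order of `f'(s)`. -/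
theorem ord_derivative_minpoly_totallyRamified [FiniteDimensional K K']
    [Algebra.IsSeparable K K'] (hK : IsFunctionField k K) (hg : IsGeometric k K)
    {P : Place k K} {Q : Place k K'} {e : ℕ} (he : IsOverWith Q P e)
    {φ : K →ₐ[k] LaurentSeries F} (hφ : LocRes.IsExpansionAt P.1 φ)
    {ψ : K' →ₐ[k] LaurentSeries F'} (hψ : LocRes.IsExpansionAt Q.1 ψ)
    {x : K}
    (hx : LocRes.vDiff φ 1 x ≠ 0) (hx' : LocRes.vDiff ψ 1 (algebraMap K K' x) ≠ 0)
    (hn : e = Module.finrank K K') {s : K'} (hs : Q.1 s = WithZero.exp (-1 : ℤ)) :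
    Q.ord (aeval s (derivative (minpoly K s))) = LocRes.diffExp φ ψ e x := by
  classical
  have hD := D_ne_zero_of_vDiff_one_ne_zero hx
  have hD' := D_ne_zero_of_vDiff_one_ne_zero hx'
  have hepos : 0 < e := by
    rw [hn]
    exact Module.finrank_pos
  have hs0 : s ≠ 0 := by
    rintro rfl
    rw [Valuation.map_zero] at hs
    exact WithZero.exp_ne_zero hs.symm
  -- the minimal polynomial
  have hint : IsIntegral K s := Algebra.IsIntegral.isIntegral s
  obtain ⟨f, hf⟩ : ∃ f : K[X], f = minpoly K s := ⟨_, rfl⟩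
  rw [← hf]
  have hmonic : f.Monic := hf ▸ minpoly.monic hint
  have hroot : aeval s f = 0 := hf ▸ minpoly.aeval K s
  have hm : f.natDegree ≤ e := by
    rw [hf, hn]
    exact minpoly.natDegree_le s
  have hsep : aeval s (derivative f) ≠ 0 := by
    rw [hf]
    exact (Algebra.IsSeparable.isSeparable K s).aeval_derivative_ne_zero (minpoly.aeval K s)
  -- the terms
  obtain ⟨T, hT⟩ : ∃ T : ℕ → K', T = fun i => algebraMap K K' (f.coeff i) * s ^ i := ⟨_, rfl⟩
  have hsumT : ∑ i ∈ Finset.range (f.natDegree + 1), T i = 0 := by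
    rw [← hroot, aeval_eq_sum_range, hT]
    apply Finset.sum_congr rfl
    intro i _
    rw [Algebra.smul_def]
  have hvalT : ∀ i, Q.1 (T i) = P.1 (f.coeff i) ^ e * WithZero.exp (-(i : ℤ)) := by
    intro i
    rw [hT]
    simp only
    rw [Valuation.map_mul, he, Valuation.map_pow, hs, ← WithZero.exp_nsmul]
    congr 2
    simp
  have hTm : T f.natDegree ≠ 0 := by
    rw [hT]
    simp only
    rw [hmonic.coeff_natDegree, map_one, one_mul]
    exact pow_ne_zero _ hs0
  obtain ⟨i, hi, j, hj, hij, hTi, hvij, hmax⟩ :=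
    exists_pair_max_of_sum_eq_zero Q.1 (Finset.range (f.natDegree + 1)) T hsumT
      ⟨f.natDegree, Finset.self_mem_range_succ _, hTm⟩
  rw [Finset.mem_range] at hi hj
  have hTj : T j ≠ 0 := by
    intro h
    rw [h, Valuation.map_zero] at hvij
    exact hTi ((Valuation.zero_iff Q.1).mp hvij)
  have hai : f.coeff i ≠ 0 := by
    intro h
    apply hTi
    rw [hT]
    simp only
    rw [h, map_zero, zero_mul]
  have haj : f.coeff j ≠ 0 := by
    intro h
    apply hTj
    rw [hT]
    simp only
    rw [h, map_zero, zero_mul]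
  have hordeq : (e : ℤ) * P.ord (f.coeff i) + i = (e : ℤ) * P.ord (f.coeff j) + j := by
    rw [hvalT, hvalT, Place.val_eq_exp_neg_ord P hai, Place.val_eq_exp_neg_ord P haj,
      ← WithZero.exp_nsmul, ← WithZero.exp_nsmul, ← WithZero.exp_add, ← WithZero.exp_add,
      WithZero.exp_inj] at hvij
    simp only [nsmul_eq_mul] at hvij
    linarith
  -- the colliding pair is `(0, e)`
  have hpair : f.natDegree = e ∧ ((i = 0 ∧ j = e) ∨ (i = e ∧ j = 0)) := by
    have hdvd : (e : ℤ) ∣ (j : ℤ) - i := ⟨P.ord (f.coeff i) - P.ord (f.coeff j), by linarith⟩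
    rcases lt_or_gt_of_ne hij with hlt | hgt
    · have h1 : (e : ℤ) ≤ (j : ℤ) - i := Int.le_of_dvd (by omega) hdvd
      refine ⟨by omega, Or.inl ⟨by omega, by omega⟩⟩
    · have hdvd' : (e : ℤ) ∣ (i : ℤ) - j := by
        have := dvd_neg.mpr hdvd
        rwa [neg_sub] at this
      have h1 : (e : ℤ) ≤ (i : ℤ) - j := Int.le_of_dvd (by omega) hdvd'
      refine ⟨by omega, Or.inr ⟨by omega, by omega⟩⟩
  obtain ⟨hme, hpair'⟩ := hpair
  have hce : f.coeff e = 1 := by
    rw [← hme]
    exact hmonic.coeff_natDegree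
  have hTe : Q.1 (T e) = WithZero.exp (-(e : ℤ)) := by
    rw [hvalT, hce, Valuation.map_one, one_pow, one_mul]
  have hT0e : Q.1 (T 0) = WithZero.exp (-(e : ℤ)) ∧
      ∀ l ∈ Finset.range (f.natDegree + 1), Q.1 (T l) ≤ WithZero.exp (-(e : ℤ)) := by
    rcases hpair' with ⟨rfl, rfl⟩ | ⟨rfl, rfl⟩
    · rw [hvij, hTe]
      exact ⟨rfl, fun l hl => by rw [← hTe, ← hvij]; exact hmax l hl⟩
    · rw [← hvij, hTe]
      exact ⟨rfl, fun l hl => by rw [← hTe]; exact hmax l hl⟩
  obtain ⟨hT0, hTle⟩ := hT0e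
  have ha0 : P.1 (f.coeff 0) = WithZero.exp (-1 : ℤ) := by
    rw [hvalT, Nat.cast_zero, neg_zero, WithZero.exp_zero, mul_one] at hT0
    have h1 : WithZero.exp (-(e : ℤ)) = WithZero.exp (-1 : ℤ) ^ e := by
      rw [← WithZero.exp_nsmul]
      congr 1
      simp
    rw [h1] at hT0
    exact (pow_left_inj₀ zero_le zero_le hepos.ne').mp hT0
  have hale : ∀ l, P.1 (f.coeff l) ≤ 1 := by
    intro l
    by_cases hl : l ∈ Finset.range (f.natDegree + 1)
    · have h1 := hTle l hl
      rw [hvalT] at h1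
      rw [Finset.mem_range] at hl
      by_contra hgt
      rw [not_le] at hgt
      have h2 : (1 : WithZero (Multiplicative ℤ)) ≤ P.1 (f.coeff l) ^ e := one_le_pow₀ hgt.le
      have h3 : WithZero.exp (-(l : ℤ)) ≤ WithZero.exp (-(e : ℤ)) := by
        calc WithZero.exp (-(l : ℤ)) = 1 * WithZero.exp (-(l : ℤ)) := (one_mul _).symm
          _ ≤ P.1 (f.coeff l) ^ e * WithZero.exp (-(l : ℤ)) := mul_le_mul' h2 le_rfl
          _ ≤ _ := h1
      rw [WithZero.exp_le_exp] at h3
      have hle : l = e := by omega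
      rw [hle, hce, Valuation.map_one] at hgt
      exact lt_irrefl _ hgt
    · rw [Finset.mem_range, not_lt] at hl
      rw [coeff_eq_zero_of_natDegree_lt (by omega), Valuation.map_zero]
      exact zero_le_one
  -- the local parameter below and the Kähler coefficients
  obtain ⟨t, ht⟩ := hφ.2.2
  have hvt : Valued.v (φ t) = WithZero.exp (-(1 : ℤ)) := by rw [hφ.1, ht]
  have hDt := val_D_eq hvt (by simp)
  rw [sub_self, neg_zero, WithZero.exp_zero] at hDt
  have hDt0 : LocRes.D F (φ t) ≠ 0 := by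
    intro h
    rw [h, Valuation.map_zero] at hDt
    exact zero_ne_one hDt
  have hdt0 := kaehler_D_ne_zero_of φ hDt0
  obtain ⟨u, hu⟩ := exists_kaehler_eq_smul hK hg hdt0 x
  have h2 := D_eq_mul_of_kaehler hu (ψ.comp (IsScalarTower.toAlgHom k K K'))
  have h2' : LocRes.D F' (ψ (algebraMap K K' x)) =
      ψ (algebraMap K K' u) * LocRes.D F' (ψ (algebraMap K K' t)) := h2
  have hDt' : LocRes.D F' (ψ (algebraMap K K' t)) ≠ 0 := by
    intro h
    rw [h, mul_zero] at h2'
    exact hD' h2'
  have hvt1 : LocRes.vDiff φ 1 t ≠ 0 := by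
    rw [vDiff_one, hDt]
    exact one_ne_zero
  have hvt2 : LocRes.vDiff ψ 1 (algebraMap K K' t) ≠ 0 := by
    rw [vDiff_one]
    exact (Valuation.ne_zero_iff _).mpr hDt'
  have hkey := diffExp_eq_of_kaehler he hφ hψ hu hvt1 hvt2 hx
  rw [← hkey]
  have hdt : LocRes.diffExp φ ψ e t = ordL (LocRes.D F' (ψ (algebraMap K K' t))) := by
    have h0 : ordL (LocRes.D F (φ t)) = 0 :=
      ordL_of_val_eq (by rw [hDt, neg_zero, WithZero.exp_zero])
    unfold LocRes.diffExp
    rw [ordDiff_one, ordDiff_one, h0]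
    ring
  rw [hdt]
  choose c hc using fun l : ℕ => exists_kaehler_eq_smul hK hg hdt0 (f.coeff l)
  have hcφ : ∀ l, LocRes.D F (φ (f.coeff l)) = φ (c l) * LocRes.D F (φ t) :=
    fun l => D_eq_mul_of_kaehler (hc l) φ
  have hcψ : ∀ l, LocRes.D F' (ψ (algebraMap K K' (f.coeff l))) =
      ψ (algebraMap K K' (c l)) * LocRes.D F' (ψ (algebraMap K K' t)) :=
    fun l => D_eq_mul_of_kaehler (hc l) (ψ.comp (IsScalarTower.toAlgHom k K K'))
  have hcle : ∀ l, P.1 (c l) ≤ 1 := by
    intro l
    have h1 : Valued.v (φ (f.coeff l)) ≤ 1 := by rw [hφ.1]; exact hale l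
    have h3 := val_D_le_one h1
    rw [hcφ l, Valuation.map_mul, hDt, mul_one, hφ.1] at h3
    exact h3
  have hc0 : P.1 (c 0) = 1 := by
    have h1 : Valued.v (φ (f.coeff 0)) = WithZero.exp (-(1 : ℤ)) := by rw [hφ.1, ha0]
    have h3 := val_D_eq h1 (by simp)
    rw [sub_self, neg_zero, WithZero.exp_zero, hcφ 0, Valuation.map_mul, hDt, mul_one,
      hφ.1] at h3
    exact h3
  have hce0 : c e = 0 := by
    have h1 := hc e
    rw [hce, Derivation.map_one_eq_zero] at h1
    by_contra hne
    exact hdt0 ((smul_eq_zero.mp h1.symm).resolve_left hne)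
  -- the sum `G`
  obtain ⟨G, hG⟩ : ∃ G : K', G = ∑ l ∈ Finset.range (f.natDegree + 1),
      algebraMap K K' (c l) * s ^ l := ⟨_, rfl⟩
  have htotal := D_aeval_total ψ s f
  rw [hroot, map_zero, map_zero, Polynomial.sum_over_range _ (by
    intro l
    rw [map_zero, map_zero, map_zero, mul_zero])] at htotal
  have hsumG : ∑ l ∈ Finset.range (f.natDegree + 1),
      ψ s ^ l * LocRes.D F' (ψ (algebraMap K K' (f.coeff l))) =
      ψ G * LocRes.D F' (ψ (algebraMap K K' t)) := by
    rw [hG, map_sum, Finset.sum_mul]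
    apply Finset.sum_congr rfl
    intro l _
    rw [hcψ l, map_mul, map_pow]
    ring
  rw [hsumG] at htotal
  have hrel : ψ (aeval s (derivative f)) * LocRes.D F' (ψ s) =
      -(ψ G * LocRes.D F' (ψ (algebraMap K K' t))) := by
    linear_combination -htotal
  -- the value of `G`
  have hGval : Q.1 G = 1 := by
    rw [hG, hme, Finset.sum_range_succ, hce0, map_zero, zero_mul, add_zero]
    rcases Nat.eq_zero_or_pos e with he0 | _
    · omega
    obtain ⟨e', rfl⟩ : ∃ e', e = e' + 1 := ⟨e - 1, by omega⟩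
    rw [Finset.sum_range_succ', pow_zero, mul_one]
    have hrest : Q.1 (∑ l ∈ Finset.range e', algebraMap K K' (c (l + 1)) * s ^ (l + 1)) <
        Q.1 (algebraMap K K' (c 0)) := by
      rw [he, hc0, one_pow]
      apply Valuation.map_sum_lt Q.1 one_ne_zero
      intro l _
      rw [Valuation.map_mul, he, Valuation.map_pow, hs]
      calc P.1 (c (l + 1)) ^ (e' + 1) * WithZero.exp (-1 : ℤ) ^ (l + 1)
          ≤ 1 * WithZero.exp (-1 : ℤ) ^ (l + 1) := mul_le_mul' (pow_le_one' (hcle _) _) le_rfl
        _ < 1 := by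
          rw [one_mul, ← WithZero.exp_nsmul, ← WithZero.exp_zero, WithZero.exp_lt_exp]
          simp
          omega
    rw [Valuation.map_add_eq_of_lt_right Q.1 hrest, he, hc0, one_pow]
  have hG0 : G ≠ 0 := by
    rintro rfl
    rw [Valuation.map_zero] at hGval
    exact zero_ne_one hGval
  -- conclude
  have hDs := val_D_eq (g := ψ s) (n := 1) (by rw [hψ.1, hs]) (by simp)
  rw [sub_self, neg_zero, WithZero.exp_zero] at hDs
  have hDs0 : LocRes.D F' (ψ s) ≠ 0 := by
    intro h
    rw [h, Valuation.map_zero] at hDs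
    exact zero_ne_one hDs
  have h5 := congrArg ordL hrel
  have hψG : ψ G ≠ 0 := (_root_.map_ne_zero ψ).mpr hG0
  have hψf : ψ (aeval s (derivative f)) ≠ 0 := (_root_.map_ne_zero ψ).mpr hsep
  have hordL_neg : ∀ g : LaurentSeries F', ordL (-g) = ordL g := by
    intro g
    unfold ordL
    rw [Valuation.map_neg]
  rw [hordL_neg, ordL_mul hψf hDs0, ordL_mul hψG hDt', ordL_eq_ord hψ, ordL_eq_ord hψ,
    ordL_of_val_eq (g := LocRes.D F' (ψ s)) (n := 0)
      (by rw [hDs, neg_zero, WithZero.exp_zero])] at h5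
  have hG_ord : Q.ord G = 0 := Place.ord_of_val_eq_one Q hGval
  rw [hG_ord] at h5
  linarith

end Main

end FF

end Groth.Agent.Lib.helper10
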