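import Mathlib
import Groth.Agent.Lib.Helper10.Adj2
import Groth.Agent.S12616

/-!
# Invariance of the local ring of a projective map under linear coordinate changes (helper10)
-/

set_option autoImplicit false
set_option linter.style.haveILetI false
set_option linter.unusedSectionVars false
set_option linter.unusedVariables false

universe u v w

open FunFld LaurentSeries Polynomial

namespace Groth.Agent.Lib.helper10.Adj

open FF RD Tate PA

section linchange

variable {k : Type u} {K : Type v} [Field k] [Field K] [Algebra k K] {ι : Type w} [Fintype ι]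

theorem val_lin_le (Q : Place k K) (c : ι → k) (w : ι → K) (g : WithZero (Multiplicative ℤ))
    (h : ∀ j, Q.1 (w j) ≤ g) : Q.1 (∑ j, algebraMap k K (c j) * w j) ≤ g := by
  apply Valuation.map_sum_le
  intro j _
  rw [map_mul]
  calc Q.1 (algebraMap k K (c j)) * Q.1 (w j) ≤ 1 * g := mul_le_mul' (Q.2.1 (c j)) (h j)
    _ = g := one_mul g

/-- Polynomials in the ratios `ψ i / ψ j'` become polynomials in the ratios `φ i / φ j` after
multiplication by a power of `ψ j' / φ j`, when `ψ` is a linear transform of `φ`. -/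
theorem ratio_change (φ ψ : ι → K) (B : Matrix ι ι k)
    (hψ : ∀ i, ψ i = ∑ l, algebraMap k K (B i l) * φ l) (j j' : ι) (hj : φ j ≠ 0)
    (hj' : ψ j' ≠ 0) {a : K} (ha : a ∈ Algebra.adjoin k (Set.range fun i => ψ i / ψ j')) :
    ∃ n₀ : ℕ, ∀ n, n₀ ≤ n →
      a * (ψ j' / φ j) ^ n ∈ Algebra.adjoin k (Set.range fun i => φ i / φ j) := by
  set R := Algebra.adjoin k (Set.range fun i => φ i / φ j) with hR
  set t : K := ψ j' / φ j with ht
  have hlin : ∀ i, ψ i / φ j ∈ R := by
    intro i
    rw [hψ i, Finset.sum_div]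
    refine sum_mem fun l _ => ?_
    rw [mul_div_assoc]
    exact mul_mem (Subalgebra.algebraMap_mem _ _) (Algebra.subset_adjoin ⟨l, rfl⟩)
  have htR : t ∈ R := hlin j'
  induction ha using Algebra.adjoin_induction with
  | mem z hz =>
    obtain ⟨i, rfl⟩ := hz
    refine ⟨1, fun n hn => ?_⟩
    obtain ⟨m, rfl⟩ : ∃ m, n = m + 1 := ⟨n - 1, by omega⟩
    have : ψ i / ψ j' * t ^ (m + 1) = ψ i / φ j * t ^ m := by
      rw [ht, pow_succ]
      field_simp
    rw [this]
    exact mul_mem (hlin i) (pow_mem htR m)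
  | algebraMap c =>
    exact ⟨0, fun n _ => mul_mem (Subalgebra.algebraMap_mem _ _) (pow_mem htR n)⟩
  | add a b _ _ ha hb =>
    obtain ⟨na, hna⟩ := ha
    obtain ⟨nb, hnb⟩ := hb
    refine ⟨max na nb, fun n hn => ?_⟩
    rw [add_mul]
    exact add_mem (hna n (le_trans (le_max_left _ _) hn)) (hnb n (le_trans (le_max_right _ _) hn))
  | mul a b _ _ ha hb =>
    obtain ⟨na, hna⟩ := ha
    obtain ⟨nb, hnb⟩ := hb
    refine ⟨na + nb, fun n hn => ?_⟩
    have : a * b * t ^ n = (a * t ^ na) * (b * t ^ (n - na)) := by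
      rw [show n = na + (n - na) by omega, pow_add]
      rw [show na + (n - na) - na = n - na by omega]
      ring
    rw [this]
    exact mul_mem (hna na le_rfl) (hnb (n - na) (by omega))

/-- The local ring of a projective map only depends on the map up to invertible linear
transformations over the constants. -/
theorem inLocRing_of_linear (φ ψ : ι → K) (B B' : Matrix ι ι k)
    (hψ : ∀ i, ψ i = ∑ l, algebraMap k K (B i l) * φ l)
    (hφ : ∀ i, φ i = ∑ l, algebraMap k K (B' i l) * ψ l) (P : Place k K) {z : K}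
    (h : InLocRing ψ P z) : InLocRing φ P z := by
  obtain ⟨j', hj'0, hj'max, u', hu', w', hw', hw'P, hzw⟩ := h
  obtain ⟨j, -, hjmax⟩ := Finset.exists_max_image Finset.univ (fun i => P.1 (φ i))
    ⟨j', Finset.mem_univ _⟩
  have hjmax' : ∀ i, P.1 (φ i) ≤ P.1 (φ j) := fun i => hjmax i (Finset.mem_univ _)
  have h1 : P.1 (ψ j') ≤ P.1 (φ j) := by
    rw [hψ j']
    exact val_lin_le P _ _ _ hjmax'
  have h2 : P.1 (φ j) ≤ P.1 (ψ j') := by
    rw [hφ j]
    exact val_lin_le P _ _ _ hj'max
  have hj0 : φ j ≠ 0 := by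
    intro h0
    rw [h0, map_zero] at h1
    exact hj'0 ((Valuation.zero_iff _).1 (le_antisymm h1 zero_le))
  have hvj0 : P.1 (φ j) ≠ 0 := (Valuation.ne_zero_iff _).2 hj0
  have htP : P.1 (ψ j' / φ j) = 1 := by
    rw [map_div₀, le_antisymm h1 h2, div_self hvj0]
  obtain ⟨n₁, hn₁⟩ := ratio_change φ ψ B hψ j j' hj0 hj'0 hu'
  obtain ⟨n₂, hn₂⟩ := ratio_change φ ψ B hψ j j' hj0 hj'0 hw'
  set n := max n₁ n₂ with hn
  refine ⟨j, hj0, hjmax', u' * (ψ j' / φ j) ^ n, hn₁ n (le_max_left _ _),
    w' * (ψ j' / φ j) ^ n, hn₂ n (le_max_right _ _), ?_, ?_⟩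
  · rw [map_mul, hw'P, map_pow, htP, one_pow, mul_one]
  · rw [← mul_assoc, hzw]

theorem isNonsingularAt_linear_iff (φ ψ : ι → K) (B B' : Matrix ι ι k)
    (hψ : ∀ i, ψ i = ∑ l, algebraMap k K (B i l) * φ l)
    (hφ : ∀ i, φ i = ∑ l, algebraMap k K (B' i l) * ψ l) (P : Place k K) :
    IsNonsingularAt ψ P ↔ IsNonsingularAt φ P :=
  ⟨fun h z hz => inLocRing_of_linear φ ψ B B' hψ hφ P (h z hz),
    fun h z hz => inLocRing_of_linear ψ φ B' B hφ hψ P (h z hz)⟩

omit [Fintype ι] in
theorem inLocRing_mul_left (φ : ι → K) {c : K} (hc : c ≠ 0) (P : Place k K) {z : K}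
    (h : InLocRing φ P z) : InLocRing (fun i => c * φ i) P z := by
  obtain ⟨j, hj0, hjmax, u, hu, w, hw, hwP, hzw⟩ := h
  have hr : (fun i => (fun i => c * φ i) i / (fun i => c * φ i) j) = fun i => φ i / φ j := by
    funext i
    exact mul_div_mul_left _ _ hc
  refine ⟨j, mul_ne_zero hc hj0, fun i => ?_, u, ?_, w, ?_, hwP, hzw⟩
  · show P.1 (c * φ i) ≤ P.1 (c * φ j)
    rw [map_mul, map_mul]
    exact mul_le_mul_right (hjmax i) _
  · rw [hr]; exact hu
  · rw [hr]; exact hw

omit [Fintype ι] in
theorem isNonsingularAt_mul_left_iff (φ : ι → K) {c : K} (hc : c ≠ 0) (P : Place k K) :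
    IsNonsingularAt (fun i => c * φ i) P ↔ IsNonsingularAt φ P := by
  constructor
  · intro h z hz
    have := inLocRing_mul_left (fun i => c * φ i) (inv_ne_zero hc) P (h z hz)
    have e : (fun i => c⁻¹ * (fun i => c * φ i) i) = φ := by
      funext i
      show c⁻¹ * (c * φ i) = φ i
      rw [inv_mul_cancel_left₀ hc]
    rwa [e] at this
  · intro h z hz
    exact inLocRing_mul_left φ hc P (h z hz)

end linchange

section partialD

variable {k : Type u} {K : Type v} [Field k] [Field K] [Algebra k K]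

open Groth.Agent.S12612 in
/-- In new projective coordinates whose first affine coordinate is separating, the partial
derivative `∂f'/∂X₂'` does not vanish on the curve. -/
theorem partial2_ne_zero
    (f : MvPolynomial (Fin 3) k) (e : ℕ) (hf : f.IsHomogeneous e)
    (x y : K) (hfxy : MvPolynomial.aeval ![(1 : K), x, y] f = 0)
    (A : Matrix (Fin 3) (Fin 3) k) (hA : A.det ≠ 0)
    (u : Fin 3 → K) (hu : ∀ i, ∑ j, algebraMap k K (A i j) * u j = ![(1 : K), x, y] i)
    (hu0 : u 0 ≠ 0)
    (hfy : MvPolynomial.aeval ![(1 : K), x, y] (MvPolynomial.pderiv 2 f) ≠ 0)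
    (hdx' : KaehlerDifferential.D k K (u 1 / u 0) ≠ 0) :
    MvPolynomial.aeval ![(1 : K), u 1 / u 0, u 2 / u 0]
      (MvPolynomial.pderiv 2
        (MvPolynomial.aeval (fun i : Fin 3 => ∑ j, MvPolynomial.C (A i j) * MvPolynomial.X j) f)) ≠ 0 := by
  classical
  set Xv : Fin 3 → K := ![(1 : K), x, y] with hXv
  set φ : Fin 3 → MvPolynomial (Fin 3) k :=
    fun i => ∑ j, MvPolynomial.C (A i j) * MvPolynomial.X j with hφ
  set G : Fin 3 → K := fun i => MvPolynomial.aeval Xv (MvPolynomial.pderiv i f) with hG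
  -- evaluation of the linear forms
  have hφw : ∀ (w : Fin 3 → K) (i : Fin 3),
      MvPolynomial.aeval w (φ i) = ∑ j, algebraMap k K (A i j) * w j := by
    intro w i
    simp only [hφ, map_sum, map_mul, MvPolynomial.aeval_C, MvPolynomial.aeval_X]
  have hφd : ∀ i j : Fin 3, MvPolynomial.pderiv j (φ i) = MvPolynomial.C (A i j) := by
    intro i j
    simp only [hφ, map_sum, MvPolynomial.pderiv_C_mul, MvPolynomial.pderiv_X]
    rw [Finset.sum_eq_single j]
    · simp
    · intro l _ hne
      simp [hne]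
    · simp
  -- chain rule for f'
  have hchain : ∀ j : Fin 3, MvPolynomial.pderiv j (MvPolynomial.aeval φ f) =
      ∑ i, MvPolynomial.aeval φ (MvPolynomial.pderiv i f) * MvPolynomial.C (A i j) := by
    intro j
    rw [deriv_aeval (MvPolynomial.pderiv j) φ f]
    apply Finset.sum_congr rfl
    intro i _
    rw [hφd, smul_eq_mul]
  have hcomp : ∀ (w : Fin 3 → K) (g : MvPolynomial (Fin 3) k),
      MvPolynomial.aeval w (MvPolynomial.aeval φ g) =
        MvPolynomial.aeval (fun i => ∑ j, algebraMap k K (A i j) * w j) g := by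
    intro w g
    rw [MvPolynomial.aeval_eq_bind₁, MvPolynomial.aeval_bind₁]
    congr 2
    funext i
    exact hφw w i
  have hAu : (fun i => ∑ j, algebraMap k K (A i j) * u j) = Xv := funext hu
  set G' : Fin 3 → K := fun j => ∑ i, G i * algebraMap k K (A i j) with hG'
  have hG'w : ∀ j, MvPolynomial.aeval u (MvPolynomial.pderiv j (MvPolynomial.aeval φ f)) = G' j := by
    intro j
    rw [hchain, map_sum]
    apply Finset.sum_congr rfl
    intro i _
    rw [map_mul, hcomp, hAu, MvPolynomial.aeval_C]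
  set v : Fin 3 → K := ![(1 : K), u 1 / u 0, u 2 / u 0] with hv
  have hvu : v = (u 0)⁻¹ • u := by
    funext i
    fin_cases i <;> simp [hv, hu0, div_eq_inv_mul]
  have hAv : (fun i => ∑ j, algebraMap k K (A i j) * v j) = (u 0)⁻¹ • Xv := by
    funext i
    rw [hvu, Pi.smul_apply, ← hu i, smul_eq_mul, Finset.mul_sum]
    apply Finset.sum_congr rfl
    intro j _
    simp only [Pi.smul_apply, smul_eq_mul]
    ring
  have he1 : 1 ≤ e := by
    by_contra hcon
    have he0 : e = 0 := by omega
    subst he0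
    have h1 := hf.totalDegree_le
    have h2 : f.totalDegree = 0 := by omega
    rw [MvPolynomial.totalDegree_eq_zero_iff_eq_C] at h2
    apply hfy
    rw [h2, MvPolynomial.pderiv_C, map_zero]
  have hGv : MvPolynomial.aeval v (MvPolynomial.pderiv 2 (MvPolynomial.aeval φ f)) =
      ((u 0)⁻¹) ^ (e - 1) * G' 2 := by
    rw [hchain, map_sum, hG', Finset.mul_sum]
    apply Finset.sum_congr rfl
    intro i _
    rw [map_mul, hcomp, hAv, MvPolynomial.aeval_C, aeval_smul_of_homogeneous hf.pderiv]
    ring
  -- Euler's identity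
  have hE : ∑ i, Xv i * G i = 0 := by
    have h1 := congrArg (MvPolynomial.aeval Xv) hf.sum_X_mul_pderiv
    rw [map_sum, map_nsmul, hfxy, smul_zero] at h1
    rw [← h1]
    apply Finset.sum_congr rfl
    intro i _
    rw [map_mul, MvPolynomial.aeval_X]
  have hE' : ∑ j, u j * G' j = 0 := by
    simp only [hG', Finset.mul_sum]
    rw [Finset.sum_comm, ← hE]
    apply Finset.sum_congr rfl
    intro i _
    rw [← hu i, Finset.sum_mul]
    apply Finset.sum_congr rfl
    intro j _
    ring
  -- differentials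
  have hD : ∑ i, G i • KaehlerDifferential.D k K (Xv i) = 0 := by
    have h1 := deriv_aeval (KaehlerDifferential.D k K) Xv f
    rw [hfxy, map_zero] at h1
    exact h1.symm
  have hDX : ∀ i, KaehlerDifferential.D k K (Xv i) =
      ∑ j, algebraMap k K (A i j) • KaehlerDifferential.D k K (u j) := by
    intro i
    rw [← hu i, map_sum]
    apply Finset.sum_congr rfl
    intro j _
    rw [Derivation.leibniz, Derivation.map_algebraMap, smul_zero, add_zero]
  have hD' : ∑ j, G' j • KaehlerDifferential.D k K (u j) = 0 := by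
    rw [← hD]
    simp only [hDX, hG', Finset.sum_smul, Finset.smul_sum, smul_smul]
    rw [Finset.sum_comm]
  have hX0 : Xv 0 = 1 := by simp [hXv]
  have hX1 : Xv 1 = x := by simp [hXv]
  have e1 := hu 0
  have h0 := hDX 0
  have h1 := hDX 1
  rw [hX0, Derivation.map_one_eq_zero] at h0
  rw [hX1] at h1
  change _ = Xv 0 at e1
  rw [hX0] at e1
  rw [Fin.sum_univ_three] at e1 h0 h1
  simp only [hG', Fin.sum_univ_three] at hE' hD'
  have key : G' 2 • KaehlerDifferential.D k K x = (algebraMap k K A.det * G 2) •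
      (u 0 • KaehlerDifferential.D k K (u 1) - u 1 • KaehlerDifferential.D k K (u 0)) := by
    rw [Matrix.det_fin_three]
    simp only [map_sub, map_add, map_mul, hG', Fin.sum_univ_three]
    generalize algebraMap k K (A 0 0) = a00 at *
    generalize algebraMap k K (A 0 1) = a01 at *
    generalize algebraMap k K (A 0 2) = a02 at *
    generalize algebraMap k K (A 1 0) = a10 at *
    generalize algebraMap k K (A 1 1) = a11 at *
    generalize algebraMap k K (A 1 2) = a12 at *
    generalize algebraMap k K (A 2 0) = a20 at *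
    generalize algebraMap k K (A 2 1) = a21 at *
    generalize algebraMap k K (A 2 2) = a22 at *
    generalize KaehlerDifferential.D k K (u 0) = dw0 at *
    generalize KaehlerDifferential.D k K (u 1) = dw1 at *
    generalize KaehlerDifferential.D k K (u 2) = dw2 at *
    generalize KaehlerDifferential.D k K x = dx at *
    generalize G 0 = G0 at *
    generalize G 1 = G1 at *
    generalize G 2 = G2 at *
    generalize u 0 = w0 at *
    generalize u 1 = w1 at *
    generalize u 2 = w2 at *
    linear_combination (norm := module)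
      ((a01 * a12 - a02 * a11) * w1 - (a02 * a10 - a00 * a12) * w0) • hD' +
      hE' • ((a02 * a10 - a00 * a12) • dw0 - (a01 * a12 - a02 * a11) • dw1) +
      (G0 * a02 + G1 * a12 + G2 * a22) •
        (-(e1 • (a10 • dw0 + a11 • dw1 + a12 • dw2)) - (a10 * w0 + a11 * w1 + a12 * w2) • h0 + h1)
  intro hzero
  have hz : (u 0)⁻¹ ≠ 0 := inv_ne_zero hu0
  change MvPolynomial.aeval v _ = 0 at hzero
  rw [hGv] at hzero
  have hG'2 : G' 2 = 0 := by
    rcases mul_eq_zero.1 hzero with h | h
    · exact absurd h (pow_ne_zero _ hz)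
    · exact h
  rw [hG'2, zero_smul] at key
  have hc : algebraMap k K A.det * G 2 ≠ 0 := by
    refine mul_ne_zero ?_ hfy
    rw [Ne, map_eq_zero_iff _ (algebraMap k K).injective]
    exact hA
  have h3 : u 0 • KaehlerDifferential.D k K (u 1) - u 1 • KaehlerDifferential.D k K (u 0) = 0 := by
    rcases smul_eq_zero.1 key.symm with h | h
    · exact absurd h hc
    · exact h
  apply hdx'
  rw [Derivation.leibniz_div, h3, smul_zero]

end partialD

section localinv

variable {k : Type u} {K : Type v} [Field k] [Field K] [Algebra k K]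

open Groth.Agent.S12616 Groth.Agent.Lib.helper10.HasseExp WithZero in
/-- The coefficient of the adjoint divisor at a place is unchanged under a change of projective
coordinates (local form of S12616, with the nonvanishing of the new partial derivative derived). -/
theorem local_invariance [IsAlgClosed k] (hK : IsFunctionField k K)
    (f : MvPolynomial (Fin 3) k) (e : ℕ) (hf : f.IsHomogeneous e)
    (x y : K) (hfxy : MvPolynomial.aeval ![(1 : K), x, y] f = 0)
    (hdx : KaehlerDifferential.D k K x ≠ 0)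
    (A : Matrix (Fin 3) (Fin 3) k) (hA : A.det ≠ 0)
    (u : Fin 3 → K) (hu : ∀ i, ∑ j, algebraMap k K (A i j) * u j = ![(1 : K), x, y] i)
    (hu0 : u 0 ≠ 0)
    (hfy : MvPolynomial.aeval ![(1 : K), x, y] (MvPolynomial.pderiv 2 f) ≠ 0)
    (hdx' : KaehlerDifferential.D k K (u 1 / u 0) ≠ 0)
    (Q : Place k K) {ΦQ : K →ₐ[k] LaurentSeries k} (hΦQ : LocRes.IsExpansionAt Q.1 ΦQ) :
    ((e : ℤ) - 3) * mapDiv k ![(1 : K), x, y] Q -
        LocRes.ordDiff ΦQ (MvPolynomial.aeval ![(1 : K), x, y] (MvPolynomial.pderiv 2 f))⁻¹ x =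
      ((e : ℤ) - 3) * mapDiv k ![(1 : K), u 1 / u 0, u 2 / u 0] Q -
        LocRes.ordDiff ΦQ (MvPolynomial.aeval ![(1 : K), u 1 / u 0, u 2 / u 0]
          (MvPolynomial.pderiv 2 (MvPolynomial.aeval
            (fun i : Fin 3 => ∑ j, MvPolynomial.C (A i j) * MvPolynomial.X j) f)))⁻¹ (u 1 / u 0) := by
  have hg : IsGeometric k K := HasseExp.isGeometric_of_isAlgClosed (k := k) (K := K)
  have hfy' := partial2_ne_zero f e hf x y hfxy A hA u hu hu0 hfy hdx'
  have hkey := Groth.Agent.S12612.result k K f e hf x y hfxy A hA u hu hu0 hfy hfy'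
  set g := MvPolynomial.aeval ![(1 : K), x, y] (MvPolynomial.pderiv 2 f) with hgdef
  set g' := MvPolynomial.aeval ![(1 : K), u 1 / u 0, u 2 / u 0] (MvPolynomial.pderiv 2
    (MvPolynomial.aeval (fun i : Fin 3 => ∑ j, MvPolynomial.C (A i j) * MvPolynomial.X j) f))
    with hg'def
  set x' := u 1 / u 0 with hx'def
  set c : K := algebraMap k K A.det * (u 0)⁻¹ ^ ((e : ℤ) - 3) with hc
  have hc0 : c ≠ 0 := by
    rw [hc]
    refine mul_ne_zero ?_ (zpow_ne_zero _ (inv_ne_zero hu0))
    rw [Ne, map_eq_zero_iff _ (algebraMap k K).injective]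
    exact hA
  have hkey' : g⁻¹ • KaehlerDifferential.D k K x = (c * g'⁻¹) • KaehlerDifferential.D k K x' := hkey
  have hmap := mapDiv_coord_change hK x y A hA u hu hu0
  rw [hmap, Finsupp.add_apply, div_apply hK]
  have hloc := D_mul_eq_of_kaehler hkey' ΦQ
  have hD' : LocRes.D k (ΦQ x') ≠ 0 := D_exp_ne_zero hK hg hΦQ hdx'
  have hne2 : ΦQ g'⁻¹ * LocRes.D k (ΦQ x') ≠ 0 :=
    mul_ne_zero ((map_ne_zero ΦQ).2 (inv_ne_zero hfy')) hD'
  have hord : LocRes.ordDiff ΦQ g⁻¹ x = Q.ord c + LocRes.ordDiff ΦQ g'⁻¹ x' := by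
    show ordL (ΦQ g⁻¹ * LocRes.D k (ΦQ x)) = Q.ord c + ordL (ΦQ g'⁻¹ * LocRes.D k (ΦQ x'))
    rw [hloc, map_mul, mul_assoc, ordL_mul ((map_ne_zero ΦQ).2 hc0) hne2,
      ordL_eq_ord hΦQ]
  have hordc : Q.ord c = -(((e : ℤ) - 3) * Q.ord (u 0)) := by
    rw [hc, Place.ord_mul Q _ (zpow_ne_zero _ (inv_ne_zero hu0)), Place.ord_algebraMap,
      Place.ord_zpow', Place.ord_inv, zero_add]
    · ring
    · rw [Ne, map_eq_zero_iff _ (algebraMap k K).injective]
      exact hA
  rw [hord, hordc]
  ring

end localinv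

section generic

variable {k : Type u} {K : Type v} [Field k] [Field K] [Algebra k K]

/-- Generic affine coordinates for a plane model, avoiding a given proper subspace of coefficient
pairs. -/
theorem exists_generic_form_avoid (hK : IsFunctionField k K) [IsAlgClosed k] (x y : K)
    (hxy : IntermediateField.adjoin k ({x, y} : Set K) = ⊤)
    (N : Submodule k (k × k)) (hN : N ≠ ⊤) :
    ∃ b c b' c' : k, b * c' - c * b' ≠ 0 ∧ (b, c) ∉ N ∧
      Transcendental k (b • x + c • y) ∧
      polesDiv k (b • x + c • y) = mapDiv k ![(1 : K), x, y] ∧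
      (b' • x + c' • y) ∈ L (mapDiv k ![(1 : K), x, y]) ∧
      IntermediateField.adjoin k ({b • x + c • y, b' • x + c' • y} : Set K) = ⊤ := by
  classical
  set D : Divisor k K := mapDiv k ![(1 : K), x, y] with hD
  have hexp : ∀ Q : Place k K, WithZero.exp (D Q) = max 1 (max (Q.1 x) (Q.1 y)) :=
    fun Q => exp_mapDiv_plane hK x y Q
  have hD0 : 0 ≤ D := by
    intro Q
    have : (1 : WithZero (Multiplicative ℤ)) ≤ WithZero.exp (D Q) := by
      rw [hexp]; exact le_max_left _ _
    rwa [← WithZero.exp_zero, WithZero.exp_le_exp] at this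
  have hxL : x ∈ L D := fun Q => by
    rw [hexp]; exact le_trans (le_max_left _ _) (le_max_right _ _)
  have hyL : y ∈ L D := fun Q => by
    rw [hexp]; exact le_trans (le_max_right _ _) (le_max_right _ _)
  -- the support is nonempty
  have hsupp : D.support.Nonempty := by
    by_contra hemp
    rw [Finset.not_nonempty_iff_eq_empty, Finsupp.support_eq_empty] at hemp
    have hx0 : x ∈ L (0 : Divisor k K) := hemp ▸ hxL
    have hy0 : y ∈ L (0 : Divisor k K) := hemp ▸ hyL
    rw [L_zero hK, Submodule.one_eq_range] at hx0 hy0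
    obtain ⟨a, ha⟩ := hx0
    obtain ⟨b, hb⟩ := hy0
    obtain ⟨⟨t, ht, -⟩, -⟩ := id hK
    have htop : t ∈ IntermediateField.adjoin k ({x, y} : Set K) := by rw [hxy]; trivial
    have hle : IntermediateField.adjoin k ({x, y} : Set K) ≤ ⊥ := by
      rw [IntermediateField.adjoin_le_iff]
      rintro z (rfl | hz)
      · rw [← ha]; exact (⊥ : IntermediateField k K).algebraMap_mem a
      · rw [Set.mem_singleton_iff.mp hz, ← hb]
        exact (⊥ : IntermediateField k K).algebraMap_mem b
    have := hle htop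
    rw [IntermediateField.mem_bot] at this
    obtain ⟨c, rfl⟩ := this
    exact ht (isAlgebraic_algebraMap c)
  let T : (k × k) →ₗ[k] K :=
    (LinearMap.toSpanSingleton k K x).coprod (LinearMap.toSpanSingleton k K y)
  have hT : ∀ p : k × k, T p = p.1 • x + p.2 • y := fun p => by simp [T]
  let p : Option ↥(D.support : Set (Place k K)) → Submodule k (k × k) :=
    fun o => match o with
      | none => N
      | some Q => Submodule.comap T (Place.ball Q.1 (D Q.1 - 1))
  have hDpos : ∀ Q ∈ D.support, WithZero.exp (D Q) = max (Q.1 x) (Q.1 y) := by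
    intro Q hQ
    rw [Finsupp.mem_support_iff] at hQ
    have h1 : (1 : WithZero (Multiplicative ℤ)) < WithZero.exp (D Q) := by
      rw [← WithZero.exp_zero, WithZero.exp_lt_exp]
      have := hD0 Q
      simp only [Finsupp.coe_zero, Pi.zero_apply] at this
      omega
    rw [hexp] at h1 ⊢
    rcases max_choice 1 (max (Q.1 x) (Q.1 y)) with h | h
    · rw [h] at h1; exact absurd h1 (lt_irrefl _)
    · exact h
  have hp : ∀ o, p o ≠ ⊤ := by
    rintro (_ | Q) htop
    · exact hN htop
    have hQ := hDpos Q.1 Q.2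
    have hlt : WithZero.exp (D Q.1 - 1) < WithZero.exp (D Q.1) := by
      rw [WithZero.exp_lt_exp]; omega
    rcases max_choice (Q.1.1 x) (Q.1.1 y) with h | h
    · have : ((1, 0) : k × k) ∈ p Q := by rw [htop]; trivial
      have h2 : Q.1.1 (T (1, 0)) ≤ WithZero.exp (D Q.1 - 1) := this
      rw [hT] at h2
      simp only [one_smul, zero_smul, add_zero] at h2
      rw [← h, ← hQ] at h2
      exact absurd h2 (not_le.mpr hlt)
    · have : ((0, 1) : k × k) ∈ p Q := by rw [htop]; trivial
      have h2 : Q.1.1 (T (0, 1)) ≤ WithZero.exp (D Q.1 - 1) := this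
      rw [hT] at h2
      simp only [one_smul, zero_smul, zero_add] at h2
      rw [← h, ← hQ] at h2
      exact absurd h2 (not_le.mpr hlt)
  haveI : Finite ↥(D.support : Set (Place k K)) := (Finset.finite_toSet _).to_subtype
  obtain ⟨bc, hbc⟩ := Submodule.exists_forall_notMem_of_forall_ne_top p hp
  set x' : K := T bc with hx'
  have hx'L : x' ∈ L D := by
    rw [hx', hT]
    exact add_mem (Submodule.smul_mem _ _ hxL) (Submodule.smul_mem _ _ hyL)
  have hx'val : ∀ Q ∈ D.support, Q.1 x' = WithZero.exp (D Q) := by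
    intro Q hQ
    have h1 : x' ∉ Place.ball Q (D Q - 1) := hbc (some ⟨Q, hQ⟩)
    rw [Place.mem_ball, ← lt_exp_iff_le_exp_sub_one, not_lt] at h1
    exact le_antisymm (hx'L Q) h1
  obtain ⟨Q₀, hQ₀⟩ := hsupp
  have hx'tr : Transcendental k x' := by
    apply transcendental_of_not_mem_range hK
    rintro ⟨c, hc⟩
    have h1 := hx'val Q₀ hQ₀
    rw [← hc] at h1
    have h2 := Q₀.2.1 c
    rw [h1, ← WithZero.exp_zero, WithZero.exp_le_exp] at h2
    rw [Finsupp.mem_support_iff] at hQ₀
    have := hD0 Q₀
    simp only [Finsupp.coe_zero, Pi.zero_apply] at this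
    omega
  have hx'0 : x' ≠ 0 := by
    rintro h
    rw [h] at hx'tr
    exact hx'tr (isAlgebraic_zero)
  have hpoles : polesDiv k x' = D := by
    ext Q
    rw [polesDiv_apply hK]
    by_cases hQ : Q ∈ D.support
    · have h1 := hx'val Q hQ
      rw [Place.val_eq_exp_neg_ord Q hx'0] at h1
      have h2 := WithZero.exp_injective h1
      have := hD0 Q
      simp only [Finsupp.coe_zero, Pi.zero_apply] at this
      rw [h2]
      exact max_eq_left this
    · rw [Finsupp.notMem_support_iff] at hQ
      rw [hQ]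
      have h1 := hx'L Q
      rw [hQ, WithZero.exp_zero] at h1
      have := (Place.ord_nonneg_iff Q hx'0).mpr h1
      exact max_eq_right (by omega)
  have hbcN : (bc.1, bc.2) ∉ N := hbc none
  have hx'eq : x' = bc.1 • x + bc.2 • y := hT bc
  rw [hx'eq] at hx'tr hpoles
  by_cases hc : bc.2 = 0
  · -- then `bc.1 ≠ 0` and `y' = y`
    have hb : bc.1 ≠ 0 := by
      intro hb
      apply hx'0
      rw [hx', hT, hb, hc, zero_smul, zero_smul, add_zero]
    refine ⟨bc.1, bc.2, 0, 1, by rw [hc]; simpa using hb, hbcN, hx'tr, hpoles, ?_, ?_⟩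
    · rw [zero_smul, one_smul, zero_add]; exact hyL
    rw [zero_smul, one_smul, zero_add, ← hx'eq]
    rw [eq_top_iff, ← hxy, IntermediateField.adjoin_le_iff]
    rintro z (rfl | hz)
    · have : z = bc.1⁻¹ • x' := by
        rw [hx', hT, hc, zero_smul, add_zero, smul_smul, inv_mul_cancel₀ hb, one_smul]
      rw [this]
      exact (IntermediateField.adjoin k ({x', y} : Set K)).smul_mem
        (IntermediateField.subset_adjoin k _ (by simp))
    · rw [Set.mem_singleton_iff.mp hz]
      exact IntermediateField.subset_adjoin k _ (by simp)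
  · refine ⟨bc.1, bc.2, 1, 0, by simpa using hc, hbcN, hx'tr, hpoles, ?_, ?_⟩
    · rw [zero_smul, one_smul, add_zero]; exact hxL
    rw [zero_smul, one_smul, add_zero, ← hx'eq]
    rw [eq_top_iff, ← hxy, IntermediateField.adjoin_le_iff]
    rintro z (rfl | hz)
    · exact IntermediateField.subset_adjoin k _ (by simp)
    · rw [Set.mem_singleton_iff.mp hz]
      have : y = bc.2⁻¹ • (x' - bc.1 • x) := by
        rw [hx', hT, add_sub_cancel_left, smul_smul, inv_mul_cancel₀ hc, one_smul]
      rw [this]
      refine (IntermediateField.adjoin k ({x', x} : Set K)).smul_mem (sub_mem ?_ ?_)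
      · exact IntermediateField.subset_adjoin k _ (by simp)
      · exact (IntermediateField.adjoin k ({x', x} : Set K)).smul_mem
          (IntermediateField.subset_adjoin k _ (by simp))

/-- If some differential is nonzero then one of the two generators has nonzero differential. -/
theorem D_ne_zero_of_adjoin {x y : K} (hxy : IntermediateField.adjoin k ({x, y} : Set K) = ⊤)
    {z : K} (hz : KaehlerDifferential.D k K z ≠ 0) :
    KaehlerDifferential.D k K x ≠ 0 ∨ KaehlerDifferential.D k K y ≠ 0 := by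
  by_contra hcon
  push Not at hcon
  obtain ⟨hx, hy⟩ := hcon
  apply hz
  have hmem : z ∈ IntermediateField.adjoin k ({x, y} : Set K) := by rw [hxy]; trivial
  clear hz
  induction hmem using IntermediateField.adjoin_induction with
  | mem w hw =>
    rcases hw with rfl | hw
    · exact hx
    · rw [Set.mem_singleton_iff.mp hw]; exact hy
  | algebraMap c => exact Derivation.map_algebraMap _ c
  | add a b _ _ ha hb => rw [map_add, ha, hb, add_zero]
  | inv a _ ha => rw [Derivation.leibniz_inv, ha, smul_zero]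
  | mul a b _ _ ha hb => rw [Derivation.leibniz, ha, hb, smul_zero, smul_zero, add_zero]

/-- The coefficient pairs `(b, c)` with `d(bx + cy) = 0` form a proper subspace. -/
theorem exists_proper_subspace {x y : K}
    (h : KaehlerDifferential.D k K x ≠ 0 ∨ KaehlerDifferential.D k K y ≠ 0) :
    ∃ N : Submodule k (k × k), N ≠ ⊤ ∧ ∀ b c : k, (b, c) ∉ N →
      KaehlerDifferential.D k K (b • x + c • y) ≠ 0 := by
  let T : (k × k) →ₗ[k] Ω[K⁄k] :=
    (LinearMap.toSpanSingleton k _ (KaehlerDifferential.D k K x)).coprod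
      (LinearMap.toSpanSingleton k _ (KaehlerDifferential.D k K y))
  have hT : ∀ p : k × k, T p = p.1 • KaehlerDifferential.D k K x +
      p.2 • KaehlerDifferential.D k K y := fun p => by simp [T]
  refine ⟨LinearMap.ker T, ?_, ?_⟩
  · intro htop
    rcases h with h | h
    · have : ((1, 0) : k × k) ∈ LinearMap.ker T := by rw [htop]; trivial
      rw [LinearMap.mem_ker, hT] at this
      simp only [one_smul, zero_smul, add_zero] at this
      exact h this
    · have : ((0, 1) : k × k) ∈ LinearMap.ker T := by rw [htop]; trivial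
      rw [LinearMap.mem_ker, hT] at this
      simp only [one_smul, zero_smul, zero_add] at this
      exact h this
  · intro b c hbc h0
    apply hbc
    rw [LinearMap.mem_ker, hT]
    rw [map_add, Derivation.map_smul, Derivation.map_smul] at h0
    exact h0

end generic

end Groth.Agent.Lib.helper10.Adj
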