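import Groth.Agent.Lib.Helper10.FunFld56

/-!
Function fields of one variable (helper10), part 57: tools for residue fields at places above a
rational place of `k(x)`: `k(x)` as a function field, constants modulo `𝔪_P`, reduction of
polynomials.
-/

set_option autoImplicit false
set_option linter.unusedSectionVars false
set_option linter.style.haveILetI false

universe u v w

open IntermediateField FunFld Polynomial

namespace Groth.Agent.Lib.helper10

namespace FF

open RD PA

section Simple

variable {k : Type u} {K : Type v} [Field k] [Field K] [Algebra k K]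

/-- `k(x)` is a function field over `k` when `K` is. -/
theorem isFunctionField_adjoin_simple (hK : IsFunctionField k K) {x : K}
    (hx : Transcendental k x) : IsFunctionField k k⟮x⟯ := by
  refine ⟨⟨AdjoinSimple.gen k x, ?_, ?_⟩, ?_⟩
  · intro halg
    apply hx
    have := halg.algebraMap (A := K)
    rwa [AdjoinSimple.algebraMap_gen] at this
  · have htop : k⟮AdjoinSimple.gen k x⟯ = ⊤ := by
      rw [eq_top_iff]
      intro c _
      obtain ⟨r, s, hrs⟩ := (mem_adjoin_simple_iff k (c : K)).1 c.2
      rw [mem_adjoin_simple_iff]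
      refine ⟨r, s, ?_⟩
      apply Subtype.ext
      rw [hrs]
      have e1 : ∀ q : k[X], ((aeval (AdjoinSimple.gen k x) q : k⟮x⟯) : K) = aeval x q := by
        intro q
        have := Polynomial.aeval_algHom_apply (IsScalarTower.toAlgHom k k⟮x⟯ K)
          (AdjoinSimple.gen k x) q
        rw [IsScalarTower.coe_toAlgHom', AdjoinSimple.algebraMap_gen] at this
        exact this.symm
      push_cast
      rw [e1, e1]
    rw [htop]
    have h1 : Module.finrank (⊤ : IntermediateField k k⟮x⟯) k⟮x⟯ = 1 :=
      IntermediateField.finrank_top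
    exact Module.finite_of_finrank_pos (by rw [h1]; norm_num)
  · intro y hy
    have hy' : IsAlgebraic k (y : K) := by
      have := hy.algebraMap (A := K)
      exact this
    obtain ⟨c, hc⟩ := hK.2 _ hy'
    exact ⟨c, Subtype.ext hc⟩

/-- Elements of `k(x')` integral at a zero `P` of `x'` are constants modulo `𝔪_P`. -/
theorem exists_const_approx (P : Place k K) {x' : K} (hx' : P.1 x' < 1) (hx'0 : x' ≠ 0)
    {c : K} (hc : c ∈ k⟮x'⟯) (hc1 : P.1 c ≤ 1) :
    ∃ c₀ : k, P.1 (c - algebraMap k K c₀) < 1 := by
  have hv : TrivOn k P.1 := trivOn_of_le_one P.2.1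
  have h1 := Loc0.mem_or_inv hv hx' hx'0 hc hc1
  obtain ⟨a, c', hc', hcc⟩ := Loc0.exists_eq_add_mul hv hx' h1
  refine ⟨a, ?_⟩
  rw [hcc, add_sub_cancel_left, map_mul]
  calc P.1 x' * P.1 c' ≤ P.1 x' * 1 := mul_le_mul' le_rfl (Loc0.val_le_one hv hx' hc')
    _ = P.1 x' := mul_one _
    _ < 1 := hx'

end Simple

section Poly

variable {k : Type u} {F : Type v} {K : Type w} [Field k] [Field F] [Field K]
  [Algebra k F] [Algebra F K] [Algebra k K] [IsScalarTower k F K]

/-- Polynomials over `F` and over `k` with congruent coefficients have congruent values at an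
integral point. -/
theorem val_aeval_sub_lt_one (P : Place k K) {y : K} (hy : P.1 y ≤ 1) (G : k[X]) (H : F[X])
    (hcoef : ∀ i, P.1 (algebraMap F K (H.coeff i) - algebraMap k K (G.coeff i)) < 1) :
    P.1 (aeval y H - aeval y G) < 1 := by
  obtain ⟨N, hN⟩ : ∃ N, N = max H.natDegree G.natDegree + 1 := ⟨_, rfl⟩
  have hH : H.natDegree < N := by rw [hN]; exact Nat.lt_succ_of_le (le_max_left _ _)
  have hG : G.natDegree < N := by rw [hN]; exact Nat.lt_succ_of_le (le_max_right _ _)
  rw [aeval_eq_sum_range' hH, aeval_eq_sum_range' hG, ← Finset.sum_sub_distrib]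
  refine Valuation.map_sum_lt _ one_ne_zero fun i _ => ?_
  rw [Algebra.smul_def, Algebra.smul_def, ← sub_mul, map_mul]
  calc P.1 (algebraMap F K (H.coeff i) - algebraMap k K (G.coeff i)) * P.1 (y ^ i)
      ≤ P.1 (algebraMap F K (H.coeff i) - algebraMap k K (G.coeff i)) * 1 := by
        refine mul_le_mul' le_rfl ?_
        rw [map_pow]
        exact pow_le_one' hy i
    _ < 1 := by rw [mul_one]; exact hcoef i

end Poly

section Res

variable {k : Type u} {K : Type v} [Field k] [Field K] [Algebra k K]

/-- The residue map as a `k`-algebra homomorphism. -/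
noncomputable def Place.resAlgHom (P : Place k K) : P.O →ₐ[k] IsLocalRing.ResidueField P.O :=
  { IsLocalRing.residue P.O with commutes' := fun _ => rfl }

theorem Place.resAlgHom_apply (P : Place k K) (z : P.O) :
    Place.resAlgHom P z = IsLocalRing.residue P.O z := rfl

/-- The inclusion of the valuation ring as a `k`-algebra homomorphism. -/
def Place.valAlgHom (P : Place k K) : P.O →ₐ[k] K :=
  { P.O.subtype with commutes' := fun _ => rfl }

theorem Place.valAlgHom_apply (P : Place k K) (z : P.O) : Place.valAlgHom P z = (z : K) := rfl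

theorem Place.coe_aeval (P : Place k K) (y' : P.O) (G : k[X]) :
    ((aeval y' G : P.O) : K) = aeval (y' : K) G :=
  (Polynomial.aeval_algHom_apply (Place.valAlgHom P) y' G).symm

theorem Place.residue_aeval (P : Place k K) (y' : P.O) (G : k[X]) :
    IsLocalRing.residue P.O (aeval y' G) = aeval (IsLocalRing.residue P.O y') G :=
  (Polynomial.aeval_algHom_apply (Place.resAlgHom P) y' G).symm

end Res

end FF

end Groth.Agent.Lib.helper10
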