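import Mathlib
import Groth.Agent.Lib.Helper10.Adj3
import Groth.Agent.Lib.Helper10.FunFld57

/-!
# Homogenisation, and the link between `∂G/∂X₂` and the derivative of the minimal polynomial
(helper10)
-/

set_option autoImplicit false
set_option linter.style.haveILetI false
set_option linter.unusedSectionVars false
set_option linter.unusedVariables false

universe u v w

open FunFld LaurentSeries

namespace Groth.Agent.Lib.helper10.Adj

open FF RD Tate PA

section homog

variable {k : Type u} [CommRing k]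

/-- Exponent vector of the homogenisation of a monomial. -/
noncomputable def hexp (e : ℕ) (d : Fin 2 →₀ ℕ) : Fin 3 →₀ ℕ :=
  Finsupp.equivFunOnFinite.symm ![e - (d 0 + d 1), d 0, d 1]

/-- The homogenisation of a polynomial in two variables, of degree its total degree. -/
noncomputable def homog (f : MvPolynomial (Fin 2) k) : MvPolynomial (Fin 3) k :=
  ∑ d ∈ f.support, MvPolynomial.monomial (hexp f.totalDegree d) (f.coeff d)

theorem homog_isHomogeneous (f : MvPolynomial (Fin 2) k) :
    (homog f).IsHomogeneous f.totalDegree := by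
  apply MvPolynomial.IsHomogeneous.sum
  intro d hd
  apply MvPolynomial.isHomogeneous_monomial
  have h1 := MvPolynomial.le_totalDegree hd
  rw [Finsupp.sum_fintype _ _ (fun _ => rfl), Fin.sum_univ_two] at h1
  rw [Finsupp.degree_eq_sum, Fin.sum_univ_three]
  simp only [hexp, Finsupp.equivFunOnFinite_symm_apply_apply, Matrix.cons_val_zero,
    Matrix.cons_val_one, Matrix.cons_val_two, Matrix.head_cons, Matrix.tail_cons]
  omega

theorem dehomog_homog (f : MvPolynomial (Fin 2) k) :
    MvPolynomial.aeval ![(1 : MvPolynomial (Fin 2) k), MvPolynomial.X 0, MvPolynomial.X 1]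
      (homog f) = f := by
  conv_rhs => rw [f.as_sum]
  rw [homog, map_sum]
  apply Finset.sum_congr rfl
  intro d _
  rw [MvPolynomial.aeval_monomial, MvPolynomial.monomial_eq,
    Finsupp.prod_fintype _ _ (fun _ => pow_zero _), Finsupp.prod_fintype _ _ (fun _ => pow_zero _),
    Fin.prod_univ_three, Fin.prod_univ_two]
  simp only [hexp, Finsupp.equivFunOnFinite_symm_apply_apply, Matrix.cons_val_zero,
    Matrix.cons_val_one, Matrix.cons_val_two, Matrix.head_cons, Matrix.tail_cons, one_pow, one_mul]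
  rfl

theorem aeval_dehomog {K : Type v} [CommRing K] [Algebra k K] (x y : K)
    (g : MvPolynomial (Fin 3) k) :
    MvPolynomial.aeval ![x, y] (MvPolynomial.aeval
      ![(1 : MvPolynomial (Fin 2) k), MvPolynomial.X 0, MvPolynomial.X 1] g) =
      MvPolynomial.aeval ![(1 : K), x, y] g := by
  have h := MvPolynomial.comp_aeval (R := k)
    (f := ![(1 : MvPolynomial (Fin 2) k), MvPolynomial.X 0, MvPolynomial.X 1])
    (MvPolynomial.aeval (R := k) ![x, y])
  have hfun : (fun i => MvPolynomial.aeval (R := k) ![x, y]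
      (![(1 : MvPolynomial (Fin 2) k), MvPolynomial.X 0, MvPolynomial.X 1] i)) =
      ![(1 : K), x, y] := by
    funext i
    fin_cases i <;> simp
  rw [hfun] at h
  exact congrArg (fun F : MvPolynomial (Fin 3) k →ₐ[k] K => F g) h

theorem aeval_homog {K : Type v} [CommRing K] [Algebra k K] (x y : K)
    (f : MvPolynomial (Fin 2) k) :
    MvPolynomial.aeval ![(1 : K), x, y] (homog f) = MvPolynomial.aeval ![x, y] f := by
  rw [← aeval_dehomog, dehomog_homog]

theorem aeval_pderiv_homog {K : Type v} [CommRing K] [Algebra k K] (x y : K)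
    (f : MvPolynomial (Fin 2) k) :
    MvPolynomial.aeval ![(1 : K), x, y] (MvPolynomial.pderiv 2 (homog f)) =
      MvPolynomial.aeval ![x, y] (MvPolynomial.pderiv 1 f) := by
  rw [← aeval_dehomog]
  congr 1
  have h := Groth.Agent.S12612.deriv_aeval (MvPolynomial.pderiv (R := k) (1 : Fin 2))
    ![(1 : MvPolynomial (Fin 2) k), MvPolynomial.X 0, MvPolynomial.X 1] (homog f)
  rw [dehomog_homog, Fin.sum_univ_three] at h
  simp only [Matrix.cons_val_zero, Matrix.cons_val_one, Matrix.cons_val_two, Matrix.head_cons,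
    Matrix.tail_cons] at h
  rw [h]
  simp [MvPolynomial.pderiv_X]

end homog

section link

variable {k : Type u} {K₀ K : Type v} [Field k] [Field K₀] [Field K] [Algebra k K₀] [Algebra k K]
  [Algebra K₀ K] [IsScalarTower k K₀ K]

open Polynomial in
/-- The relation in the last variable, as a polynomial over the base field. -/
noncomputable def relPoly (G : MvPolynomial (Fin 3) k) (x₀ : K₀) : K₀[X] :=
  MvPolynomial.aeval ![(C 1 : K₀[X]), C x₀, X] G

open Polynomial in
theorem aeval_relPoly (G : MvPolynomial (Fin 3) k) (x₀ : K₀) (y : K) :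
    Polynomial.aeval y (relPoly G x₀) =
      MvPolynomial.aeval ![(1 : K), algebraMap K₀ K x₀, y] G := by
  have h := MvPolynomial.comp_aeval (R := k) (f := ![(C 1 : K₀[X]), C x₀, X])
    ((Polynomial.aeval y : K₀[X] →ₐ[K₀] K).restrictScalars k)
  have hfun : (fun i => ((Polynomial.aeval y : K₀[X] →ₐ[K₀] K).restrictScalars k)
      (![(C 1 : K₀[X]), C x₀, X] i)) = ![(1 : K), algebraMap K₀ K x₀, y] := by
    funext i
    fin_cases i <;> simp
  rw [hfun] at h
  exact congrArg (fun F : MvPolynomial (Fin 3) k →ₐ[k] K => F G) h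

open Polynomial in
theorem derivative_relPoly (G : MvPolynomial (Fin 3) k) (x₀ : K₀) :
    Polynomial.derivative (relPoly G x₀) = relPoly (MvPolynomial.pderiv 2 G) x₀ := by
  have h := Groth.Agent.S12612.deriv_aeval
    ((Polynomial.derivative' : Derivation K₀ K₀[X] K₀[X]).restrictScalars k)
    ![(C 1 : K₀[X]), C x₀, X] G
  rw [Fin.sum_univ_three] at h
  simp only [Matrix.cons_val_zero, Matrix.cons_val_one, Matrix.cons_val_two, Matrix.head_cons,
    Matrix.tail_cons, Derivation.restrictScalars_apply, Polynomial.derivative'_apply,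
    Polynomial.derivative_C, Polynomial.derivative_X, smul_eq_mul, mul_zero, zero_add,
    mul_one] at h
  exact h

open Polynomial in
theorem relPoly_eq_sum (G : MvPolynomial (Fin 3) k) (x₀ : K₀) :
    relPoly G x₀ = ∑ m ∈ G.support,
      C (algebraMap k K₀ (G.coeff m) * x₀ ^ (m 1)) * X ^ (m 2) := by
  conv_lhs => rw [relPoly, G.as_sum, map_sum]
  apply Finset.sum_congr rfl
  intro m _
  rw [MvPolynomial.aeval_monomial, Finsupp.prod_fintype _ _ (fun _ => pow_zero _),
    Fin.prod_univ_three]
  simp only [Matrix.cons_val_zero, Matrix.cons_val_one, Matrix.cons_val_two, Matrix.head_cons,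
    Matrix.tail_cons]
  rw [IsScalarTower.algebraMap_apply k K₀ K₀[X], Polynomial.algebraMap_apply,
    Algebra.algebraMap_self_apply, map_one, one_pow, one_mul, map_mul, map_pow, mul_assoc]

theorem sum_of_isHomogeneous {G : MvPolynomial (Fin 3) k} {e : ℕ} (hG : G.IsHomogeneous e)
    {m : Fin 3 →₀ ℕ} (hm : m ∈ G.support) : m 0 + m 1 + m 2 = e := by
  have h := hG (MvPolynomial.mem_support_iff.mp hm)
  rw [Finsupp.weight_apply, Finsupp.sum_fintype _ _ (fun _ => by simp), Fin.sum_univ_three] at h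
  simpa using h

open Polynomial in
theorem natDegree_relPoly_le {G : MvPolynomial (Fin 3) k} {e : ℕ} (hG : G.IsHomogeneous e)
    (x₀ : K₀) : (relPoly G x₀).natDegree ≤ e := by
  rw [relPoly_eq_sum]
  apply Polynomial.natDegree_sum_le_of_forall_le
  intro m hm
  have := sum_of_isHomogeneous hG hm
  exact le_trans (Polynomial.natDegree_C_mul_X_pow_le _ _) (by omega)

open Polynomial in
theorem coeff_relPoly_top {G : MvPolynomial (Fin 3) k} {e : ℕ} (hG : G.IsHomogeneous e)
    (x₀ : K₀) : ∃ c₀ : k, (relPoly G x₀).coeff e = algebraMap k K₀ c₀ := by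
  classical
  refine ⟨∑ m ∈ G.support, if e = m 2 then G.coeff m else 0, ?_⟩
  rw [relPoly_eq_sum, Polynomial.finset_sum_coeff, map_sum]
  apply Finset.sum_congr rfl
  intro m hm
  rw [Polynomial.coeff_C_mul_X_pow]
  have := sum_of_isHomogeneous hG hm
  split_ifs with h
  · have h1 : m 1 = 0 := by omega
    rw [h1, pow_zero, mul_one]
  · rw [map_zero]

open Polynomial in
/-- If `G` is homogeneous of degree `e = [K : K₀]`, `G(1, x₀, y) = 0` and `∂G/∂X₂(1, x₀, y) ≠ 0`,
with `K = K₀(y)`, then `∂G/∂X₂(1, x₀, y)` is a nonzero constant times `g'(y)`, `g` the minimal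
polynomial of `y` over `K₀`. -/
theorem link [FiniteDimensional K₀ K] (G : MvPolynomial (Fin 3) k) (e : ℕ)
    (hG : G.IsHomogeneous e) (x₀ : K₀) (y : K)
    (h0 : MvPolynomial.aeval ![(1 : K), algebraMap K₀ K x₀, y] G = 0)
    (h2 : MvPolynomial.aeval ![(1 : K), algebraMap K₀ K x₀, y] (MvPolynomial.pderiv 2 G) ≠ 0)
    (hy : IntermediateField.adjoin K₀ ({y} : Set K) = ⊤) (hfin : Module.finrank K₀ K = e) :
    ∃ c₀ : k, c₀ ≠ 0 ∧
      MvPolynomial.aeval ![(1 : K), algebraMap K₀ K x₀, y] (MvPolynomial.pderiv 2 G) =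
        algebraMap k K c₀ * Polynomial.aeval y (Polynomial.derivative (minpoly K₀ y)) := by
  set G₀ := relPoly G x₀ with hG₀
  have hG₀y : Polynomial.aeval y G₀ = 0 := by rw [hG₀, aeval_relPoly, h0]
  have hder : Polynomial.aeval y (Polynomial.derivative G₀) =
      MvPolynomial.aeval ![(1 : K), algebraMap K₀ K x₀, y] (MvPolynomial.pderiv 2 G) := by
    rw [hG₀, derivative_relPoly, aeval_relPoly]
  have hG₀0 : G₀ ≠ 0 := by
    intro h
    rw [h, Polynomial.derivative_zero, map_zero] at hder
    exact h2 hder.symm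
  have hyint : IsIntegral K₀ y := Algebra.IsIntegral.isIntegral y
  set g := minpoly K₀ y with hg
  have hgdeg : g.natDegree = e := by
    have h1 := IntermediateField.adjoin.finrank hyint
    rw [hy, IntermediateField.finrank_top'] at h1
    rw [← h1, hfin]
  have hgmonic : g.Monic := minpoly.monic hyint
  obtain ⟨q, hq⟩ := minpoly.dvd K₀ y hG₀y
  have hq0 : q ≠ 0 := by
    intro h
    rw [h, mul_zero] at hq
    exact hG₀0 hq
  have hdeg : G₀.natDegree = g.natDegree + q.natDegree := by
    rw [hq]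
    exact Polynomial.natDegree_mul hgmonic.ne_zero hq0
  have hle := natDegree_relPoly_le hG x₀
  rw [← hG₀, hdeg, hgdeg] at hle
  have hqdeg : q.natDegree = 0 := by omega
  obtain ⟨c, hc⟩ : ∃ c : K₀, q = C c := ⟨q.coeff 0, Polynomial.eq_C_of_natDegree_eq_zero hqdeg⟩
  have hc0 : c ≠ 0 := by
    intro h
    rw [h, map_zero] at hc
    exact hq0 hc
  obtain ⟨c₀, hc₀⟩ := coeff_relPoly_top hG x₀
  rw [← hG₀, hq, hc, Polynomial.coeff_mul_C, ← hgdeg, hgmonic.coeff_natDegree, one_mul] at hc₀
  refine ⟨c₀, ?_, ?_⟩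
  · intro h
    rw [h, map_zero] at hc₀
    exact hc0 hc₀
  · rw [← hder, hq, hc, Polynomial.derivative_mul, Polynomial.derivative_C, mul_zero, add_zero,
      map_mul, Polynomial.aeval_C, hc₀, ← IsScalarTower.algebraMap_apply, mul_comm]

end link

section setup

variable {k : Type u} {K : Type v} [Field k] [Field K] [Algebra k K]

open IntermediateField in
/-- A function field is separable over `k(x')` when `dx' ≠ 0`. -/
theorem isSeparable_adjoin_of_D_ne_zero (hK : IsFunctionField k K) (hg : IsGeometric k K)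
    {x' : K} (htr : Transcendental k x') (hD : KaehlerDifferential.D k K x' ≠ 0) :
    Algebra.IsSeparable k⟮x'⟯ K := by
  haveI := finiteDimensional_adjoin hK htr
  have hD0 : ∀ z : K, KaehlerDifferential.D k⟮x'⟯ K z = 0 := by
    intro z
    obtain ⟨u, hu⟩ := exists_kaehler_eq_smul hK hg hD z
    have h1 := congrArg (KaehlerDifferential.map k k⟮x'⟯ K K) hu
    rw [KaehlerDifferential.map_D, map_smul, KaehlerDifferential.map_D] at h1
    simp only [Algebra.algebraMap_self_apply] at h1
    rw [h1]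
    have h2 : KaehlerDifferential.D k⟮x'⟯ K x' = 0 :=
      Derivation.map_algebraMap (KaehlerDifferential.D k⟮x'⟯ K)
        (⟨x', mem_adjoin_simple_self k x'⟩ : k⟮x'⟯)
    rw [h2, smul_zero]
  have hΩ : Subsingleton (Ω[K⁄k⟮x'⟯]) := by
    have htop := KaehlerDifferential.span_range_derivation k⟮x'⟯ K
    have hbot : Submodule.span K (Set.range (KaehlerDifferential.D k⟮x'⟯ K)) = ⊥ := by
      rw [Submodule.span_eq_bot]
      rintro _ ⟨a, rfl⟩
      exact hD0 a
    rw [hbot] at htop
    exact (Submodule.subsingleton_iff K).mp (subsingleton_of_bot_eq_top htop)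
  haveI : Algebra.FormallyUnramified k⟮x'⟯ K := ⟨hΩ⟩
  exact Algebra.FormallyUnramified.isSeparable k⟮x'⟯ K

open IntermediateField in
theorem adjoin_simple_adjoin_eq_top {x' y' : K}
    (hxy : IntermediateField.adjoin k ({x', y'} : Set K) = ⊤) :
    IntermediateField.adjoin k⟮x'⟯ ({y'} : Set K) = ⊤ := by
  rw [eq_top_iff]
  intro z _
  have hz : z ∈ IntermediateField.adjoin k ({x', y'} : Set K) := by rw [hxy]; trivial
  induction hz using IntermediateField.adjoin_induction with
  | mem w hw =>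
    rcases hw with rfl | hw
    · have : w = algebraMap k⟮w⟯ K ⟨w, mem_adjoin_simple_self k w⟩ := rfl
      rw [this]
      exact IntermediateField.algebraMap_mem _ _
    · rw [Set.mem_singleton_iff.mp hw]
      exact IntermediateField.mem_adjoin_simple_self _ _
  | algebraMap c =>
    rw [IsScalarTower.algebraMap_apply k k⟮x'⟯ K]
    exact IntermediateField.algebraMap_mem _ _
  | add a b _ _ ha hb => exact add_mem (ha trivial) (hb trivial)
  | inv a _ ha => exact inv_mem (ha trivial)
  | mul a b _ _ ha hb => exact mul_mem (ha trivial) (hb trivial)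

open IntermediateField in
theorem algebraMap_algEquivOfTranscendental_X {x' : K} (htr : Transcendental k x') :
    algebraMap k⟮x'⟯ K (RatFunc.algEquivOfTranscendental x' htr RatFunc.X) = x' := by
  show ((RatFunc.algEquivOfTranscendental x' htr RatFunc.X : k⟮x'⟯) : K) = x'
  rw [RatFunc.algEquivOfTranscendental_X]

open Groth.Agent.Lib.helper10.HasseExp in
/-- The order of `a dx` through an expansion, in terms of the order of `a` and that of `dx`. -/
theorem ordDiff_eq_ord_add [IsAlgClosed k] (hK : IsFunctionField k K) {Q : Place k K}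
    {ΦQ : K →ₐ[k] LaurentSeries k} (hΦ : LocRes.IsExpansionAt Q.1 ΦQ) {a x : K} (ha : a ≠ 0)
    (hD : KaehlerDifferential.D k K x ≠ 0) :
    LocRes.ordDiff ΦQ a x = Q.ord a + LocRes.ordDiff ΦQ 1 x := by
  have hg : IsGeometric k K := HasseExp.isGeometric_of_isAlgClosed (k := k) (K := K)
  have hD' : LocRes.D k (ΦQ x) ≠ 0 := D_exp_ne_zero hK hg hΦ hD
  show ordL (ΦQ a * LocRes.D k (ΦQ x)) = Q.ord a + ordL (ΦQ 1 * LocRes.D k (ΦQ x))
  rw [ordL_mul ((map_ne_zero ΦQ).2 ha) hD', ordL_eq_ord hΦ, map_one, one_mul]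

open Groth.Agent.Lib.helper10.HasseExp IntermediateField in
/-- **The adjoint coefficient in good position**: `v_Q(G₂) - v_Q(dx') ≥ 0`, with equality exactly
at the nonsingular places. -/
theorem adjoint_good_position [IsAlgClosed k] (hK : IsFunctionField k K) {x' y' : K}
    (htr : Transcendental k x') (hxy : IntermediateField.adjoin k ({x', y'} : Set K) = ⊤)
    (hD : KaehlerDifferential.D k K x' ≠ 0)
    (hint : ∀ Q' : Place k K, Q'.1 x' ≤ 1 → Q'.1 y' ≤ 1)
    (G : MvPolynomial (Fin 3) k) (e : ℕ) (hG : G.IsHomogeneous e)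
    (h0 : MvPolynomial.aeval ![(1 : K), x', y'] G = 0)
    (h2 : MvPolynomial.aeval ![(1 : K), x', y'] (MvPolynomial.pderiv 2 G) ≠ 0)
    (hfin : Module.finrank k⟮x'⟯ K = e)
    (Q : Place k K) (hQ : Q.1 x' < 1) {ΦQ : K →ₐ[k] LaurentSeries k}
    (hΦ : LocRes.IsExpansionAt Q.1 ΦQ) :
    0 ≤ -LocRes.ordDiff ΦQ (MvPolynomial.aeval ![(1 : K), x', y'] (MvPolynomial.pderiv 2 G))⁻¹ x' ∧
      (-LocRes.ordDiff ΦQ (MvPolynomial.aeval ![(1 : K), x', y'] (MvPolynomial.pderiv 2 G))⁻¹ x' = 0 ↔
        IsNonsingularAt ![(1 : K), x', y'] Q) := by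
  have hg : IsGeometric k K := HasseExp.isGeometric_of_isAlgClosed (k := k) (K := K)
  haveI := finiteDimensional_adjoin hK htr
  haveI := isSeparable_adjoin_of_D_ne_zero hK hg htr hD
  have hK₀ := isFunctionField_adjoin_simple hK htr
  set ε := RatFunc.algEquivOfTranscendental x' htr with hε
  have hεX : algebraMap k⟮x'⟯ K (ε RatFunc.X) = x' := algebraMap_algEquivOfTranscendental_X htr
  have hy := adjoin_simple_adjoin_eq_top hxy
  have hD' : LocRes.D k (ΦQ x') ≠ 0 := D_exp_ne_zero hK hg hΦ hD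
  have hne : LocRes.vDiff ΦQ 1 x' ≠ 0 := by
    unfold LocRes.vDiff
    rw [map_one, one_mul]
    exact (Valuation.ne_zero_iff _).2 hD'
  have hcore := adjoint_core hK₀ ε hy (by rw [hεX]; exact hint) Q (by rw [hεX]; exact hQ) hΦ
    (by rw [hεX]; exact hne)
  rw [hεX] at hcore
  have h0' : MvPolynomial.aeval ![(1 : K), algebraMap k⟮x'⟯ K (ε RatFunc.X), y'] G = 0 := by
    rw [hεX]; exact h0
  have h2' : MvPolynomial.aeval ![(1 : K), algebraMap k⟮x'⟯ K (ε RatFunc.X), y']
      (MvPolynomial.pderiv 2 G) ≠ 0 := by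
    rw [hεX]; exact h2
  obtain ⟨c₀, hc₀, hlink⟩ := link G e hG (ε RatFunc.X) y' h0' h2' hy hfin
  rw [hεX] at hlink
  set g2 := MvPolynomial.aeval ![(1 : K), x', y'] (MvPolynomial.pderiv 2 G) with hg2
  set g' := Polynomial.aeval y' (Polynomial.derivative (minpoly k⟮x'⟯ y')) with hg'
  have hg'0 : g' ≠ 0 := by
    intro h
    rw [h, mul_zero] at hlink
    exact h2 hlink
  have hc₀K : algebraMap k K c₀ ≠ 0 := by
    rw [Ne, map_eq_zero_iff _ (algebraMap k K).injective]
    exact hc₀
  have hordg2 : Q.ord g2 = Q.ord g' := by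
    rw [hlink, Place.ord_mul Q hc₀K hg'0, Place.ord_algebraMap Q c₀, zero_add]
  have hord : LocRes.ordDiff ΦQ g2⁻¹ x' = -Q.ord g' + LocRes.ordDiff ΦQ 1 x' := by
    rw [ordDiff_eq_ord_add hK hΦ (inv_ne_zero h2) hD, Place.ord_inv, hordg2]
  rw [hord]
  obtain ⟨h1, h3⟩ := hcore
  refine ⟨by omega, ?_⟩
  rw [← h3]
  constructor <;> intro h <;> omega

end setup

end Groth.Agent.Lib.helper10.Adj
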