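import Mathlib
import Groth.Agent.Lib.Helper10.Adj4
import Groth.Agent.Lib.Helper10.FunFld33
import Groth.Agent.Lib.Helper10.FunFld23

/-!
# Good coordinates for a plane model at a place (helper10)
-/

set_option autoImplicit false
set_option linter.style.haveILetI false
set_option linter.unusedSectionVars false
set_option linter.unusedVariables false

universe u v w

open FunFld LaurentSeries

namespace Groth.Agent.Lib.helper10.Adj

open FF RD Tate PA

section coords

variable {k : Type u} {K : Type v} [Field k] [Field K] [Algebra k K]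

theorem polesDiv_sub_const (hK : IsFunctionField k K) (z : K) (a : k) :
    polesDiv k (z - algebraMap k K a) = polesDiv k z := by
  ext Q
  apply WithZero.exp_injective
  rw [exp_polesDiv hK, exp_polesDiv hK]
  rcases le_or_gt (Q.1 z) 1 with h | h
  · have h1 : Q.1 (z - algebraMap k K a) ≤ 1 :=
      le_trans (Valuation.map_sub _ _ _) (max_le h (Q.2.1 a))
    rw [max_eq_right h, max_eq_right h1]
  · have h1 : Q.1 (z - algebraMap k K a) = Q.1 z :=
      Valuation.map_sub_eq_of_lt_left _ (lt_of_le_of_lt (Q.2.1 a) h)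
    rw [h1]

theorem transcendental_sub_const (hK : IsFunctionField k K) {z : K} (hz : Transcendental k z)
    (a : k) : Transcendental k (z - algebraMap k K a) := by
  apply transcendental_of_not_mem_range hK
  rintro ⟨c, hc⟩
  apply not_mem_range_of_transcendental hz
  refine ⟨c + a, ?_⟩
  rw [map_add, hc, sub_add_cancel]

/-- A homogeneous relation stays a relation after a change of projective coordinates. -/
theorem aeval_coord_change_eq_zero (f : MvPolynomial (Fin 3) k) (e : ℕ) (hf : f.IsHomogeneous e)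
    (φ : Fin 3 → K) (hfφ : MvPolynomial.aeval φ f = 0)
    (A : Matrix (Fin 3) (Fin 3) k)
    (u : Fin 3 → K) (hu : ∀ i, ∑ j, algebraMap k K (A i j) * u j = φ i) (hu0 : u 0 ≠ 0) :
    MvPolynomial.aeval ![(1 : K), u 1 / u 0, u 2 / u 0]
      (MvPolynomial.aeval (fun i : Fin 3 => ∑ j, MvPolynomial.C (A i j) * MvPolynomial.X j) f) = 0 := by
  set L : Fin 3 → MvPolynomial (Fin 3) k :=
    fun i => ∑ j, MvPolynomial.C (A i j) * MvPolynomial.X j with hL
  set v : Fin 3 → K := ![(1 : K), u 1 / u 0, u 2 / u 0] with hv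
  have hLw : ∀ (w : Fin 3 → K) (i : Fin 3),
      MvPolynomial.aeval w (L i) = ∑ j, algebraMap k K (A i j) * w j := by
    intro w i
    simp only [hL, map_sum, map_mul, MvPolynomial.aeval_C, MvPolynomial.aeval_X]
  have hcomp : MvPolynomial.aeval v (MvPolynomial.aeval L f) =
      MvPolynomial.aeval (fun i => ∑ j, algebraMap k K (A i j) * v j) f := by
    rw [MvPolynomial.aeval_eq_bind₁, MvPolynomial.aeval_bind₁]
    congr 2
    funext i
    exact hLw v i
  have hvu : v = (u 0)⁻¹ • u := by
    funext i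
    fin_cases i <;> simp [hv, hu0, div_eq_inv_mul]
  have hAv : (fun i => ∑ j, algebraMap k K (A i j) * v j) = (u 0)⁻¹ • φ := by
    funext i
    rw [hvu, Pi.smul_apply, ← hu i, smul_eq_mul, Finset.mul_sum]
    apply Finset.sum_congr rfl
    intro j _
    simp only [Pi.smul_apply, smul_eq_mul]
    ring
  rw [hcomp, hAv, Groth.Agent.S12612.aeval_smul_of_homogeneous hf, hfφ, mul_zero]

theorem isHomogeneous_coord_change (f : MvPolynomial (Fin 3) k) (e : ℕ) (hf : f.IsHomogeneous e)
    (A : Matrix (Fin 3) (Fin 3) k) :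
    (MvPolynomial.aeval (fun i : Fin 3 => ∑ j, MvPolynomial.C (A i j) * MvPolynomial.X j)
      f).IsHomogeneous e := by
  have h := hf.aeval (fun i : Fin 3 => ∑ j, MvPolynomial.C (A i j) * MvPolynomial.X j) (n := 1)
    (fun i => MvPolynomial.IsHomogeneous.sum _ _ _
      (fun j _ => MvPolynomial.isHomogeneous_C_mul_X (A i j) j))
  rwa [one_mul] at h

/-- Projective coordinates in good position with respect to a place: the place is finite with
`x'` vanishing there, `x'` is a separating variable whose pole divisor bounds `y'`. -/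
theorem exists_good_coords [IsAlgClosed k] (hK : IsFunctionField k K) (x y : K)
    (hxy : IntermediateField.adjoin k ({x, y} : Set K) = ⊤)
    (hdx : KaehlerDifferential.D k K x ≠ 0) (Q : Place k K) :
    ∃ (M : Matrix (Fin 3) (Fin 3) k) (u : Fin 3 → K), M.det ≠ 0 ∧
      (∀ i, u i = ∑ l, algebraMap k K (M i l) * ![(1 : K), x, y] l) ∧ u 0 ≠ 0 ∧
      Transcendental k (u 1 / u 0) ∧
      IntermediateField.adjoin k ({u 1 / u 0, u 2 / u 0} : Set K) = ⊤ ∧
      KaehlerDifferential.D k K (u 1 / u 0) ≠ 0 ∧ Q.1 (u 1 / u 0) < 1 ∧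
      u 2 / u 0 ∈ L (polesDiv k (u 1 / u 0)) := by
  classical
  set φ : Fin 3 → K := ![(1 : K), x, y] with hφ
  obtain ⟨j, hj⟩ := exists_argmax x y Q
  have hj0 : φ j ≠ 0 := phi_argmax_ne_zero x y Q j hj
  set σ : Equiv.Perm (Fin 3) := Equiv.swap 0 j with hσ
  have hσσ : ∀ i, σ (σ i) = i := fun i => Equiv.swap_apply_self 0 j i
  have hσ0 : σ 0 = j := Equiv.swap_apply_left 0 j
  set x₁ : K := φ (σ 1) / φ j with hx₁
  set y₁ : K := φ (σ 2) / φ j with hy₁
  have hratio : ∀ i, Q.1 (φ i / φ j) ≤ 1 := fun i => by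
    rw [map_div₀]
    exact div_le_one_of_le₀ (hj i) zero_le
  have hmem : ∀ i, φ i / φ j ∈ IntermediateField.adjoin k ({x₁, y₁} : Set K) := by
    intro i
    have hi : i = σ (σ i) := (hσσ i).symm
    generalize hm : σ i = m at hi
    fin_cases m
    · have : i = j := by rw [hi]; exact hσ0
      rw [this, div_self hj0]
      exact one_mem _
    · rw [hi]
      exact IntermediateField.subset_adjoin k _ (by simp [x₁])
    · rw [hi]
      exact IntermediateField.subset_adjoin k _ (by simp [y₁])
  have hxy₁ : IntermediateField.adjoin k ({x₁, y₁} : Set K) = ⊤ := by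
    rw [eq_top_iff, ← hxy, IntermediateField.adjoin_le_iff]
    rintro z (rfl | hz)
    · have : z = (φ 1 / φ j) / (φ 0 / φ j) := by
        rw [div_div_div_cancel_right₀ hj0]
        simp [φ]
      rw [this]
      exact div_mem (hmem 1) (hmem 0)
    · rw [Set.mem_singleton_iff.mp hz]
      have : y = (φ 2 / φ j) / (φ 0 / φ j) := by
        rw [div_div_div_cancel_right₀ hj0]
        simp [φ]
      rw [this]
      exact div_mem (hmem 2) (hmem 0)
  obtain ⟨N, hN, hNprop⟩ := exists_proper_subspace (D_ne_zero_of_adjoin hxy₁ hdx)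
  obtain ⟨b, c, b', c', hdet, hbcN, htr'', hpoles'', hy''L, hgen''⟩ :=
    exists_generic_form_avoid hK x₁ y₁ hxy₁ N hN
  have hDx'' := hNprop b c hbcN
  set x'' : K := b • x₁ + c • y₁ with hx''
  set y'' : K := b' • x₁ + c' • y₁ with hy''
  have hx''Q : Q.1 x'' ≤ 1 := by
    rw [hx'', Algebra.smul_def, Algebra.smul_def]
    refine le_trans (Valuation.map_add _ _ _) (max_le ?_ ?_)
    · rw [map_mul]
      exact mul_le_one' (Q.2.1 b) (hratio (σ 1))
    · rw [map_mul]
      exact mul_le_one' (Q.2.1 c) (hratio (σ 2))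
  obtain ⟨a, ha⟩ := Place.exists_const_sub_lt hK Q hx''Q
  set T : Matrix (Fin 3) (Fin 3) k := !![1, 0, 0; -a, b, c; 0, b', c'] with hT
  set M : Matrix (Fin 3) (Fin 3) k := T.submatrix id σ with hM
  set u : Fin 3 → K := fun i => ∑ l, algebraMap k K (M i l) * φ l with hu
  have hui : ∀ i, u i = ∑ m, algebraMap k K (T i m) * φ (σ m) := by
    intro i
    rw [hu]
    show ∑ l, algebraMap k K (T i (σ l)) * φ l = _
    rw [← Equiv.sum_comp σ]
    apply Finset.sum_congr rfl
    intro m _
    rw [hσσ]
  have hu0 : u 0 = φ j := by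
    rw [hui, Fin.sum_univ_three]
    simp [T, hσ0]
  have hu1 : u 1 = φ j * (x'' - algebraMap k K a) := by
    rw [hui, Fin.sum_univ_three, hx'', hx₁, hy₁, Algebra.smul_def, Algebra.smul_def]
    simp only [T, Matrix.of_apply, Matrix.cons_val', Matrix.cons_val_zero, Matrix.cons_val_one,
      Matrix.cons_val_two, Matrix.head_cons, Matrix.tail_cons, Matrix.empty_val',
      Matrix.cons_val_fin_one, hσ0, map_neg]
    field_simp
    ring
  have hu2 : u 2 = φ j * y'' := by
    rw [hui, Fin.sum_univ_three, hy'', hx₁, hy₁, Algebra.smul_def, Algebra.smul_def]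
    simp only [T, Matrix.of_apply, Matrix.cons_val', Matrix.cons_val_zero, Matrix.cons_val_one,
      Matrix.cons_val_two, Matrix.head_cons, Matrix.tail_cons, Matrix.empty_val',
      Matrix.cons_val_fin_one, hσ0, Matrix.vecHead, map_zero, zero_mul, zero_add]
    field_simp
  have hx'eq : u 1 / u 0 = x'' - algebraMap k K a := by
    rw [hu1, hu0, mul_div_cancel_left₀ _ hj0]
  have hy'eq : u 2 / u 0 = y'' := by
    rw [hu2, hu0, mul_div_cancel_left₀ _ hj0]
  have hdetT : T.det = b * c' - c * b' := by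
    rw [Matrix.det_fin_three]
    simp [T]
  have hdetM : M.det ≠ 0 := by
    rw [hM, Matrix.det_permute', hdetT]
    refine mul_ne_zero ?_ hdet
    rcases Int.units_eq_one_or (Equiv.Perm.sign σ) with h | h <;> simp [h]
  refine ⟨M, u, hdetM, fun i => rfl, by rw [hu0]; exact hj0, ?_, ?_, ?_, ?_, ?_⟩
  · rw [hx'eq]
    exact transcendental_sub_const hK htr'' a
  · rw [hx'eq, hy'eq, eq_top_iff, ← hgen'', IntermediateField.adjoin_le_iff]
    rintro z (hz | hz)
    · have : z = (x'' - algebraMap k K a) + algebraMap k K a := by rw [hz]; ring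
      rw [this]
      exact add_mem (IntermediateField.subset_adjoin k _ (by simp))
        (IntermediateField.algebraMap_mem _ a)
    · rw [Set.mem_singleton_iff.mp hz]
      exact IntermediateField.subset_adjoin k _ (by simp)
  · rw [hx'eq, map_sub, Derivation.map_algebraMap, sub_zero]
    exact hDx''
  · rw [hx'eq]
    exact ha
  · rw [hx'eq, hy'eq, polesDiv_sub_const hK, hpoles'']
    exact hy''L

end coords

section main

variable {k : Type u} {K : Type v} [Field k] [Field K] [Algebra k K]

open Groth.Agent.S12616 Groth.Agent.Lib.helper10.HasseExp IntermediateField in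
/-- **S12613**: the adjoint divisor has nonnegative coefficients, vanishing exactly at the
nonsingular places. -/
theorem adjoint_main [IsAlgClosed k] (hK : IsFunctionField k K) (x y : K)
    (hxy : IntermediateField.adjoin k ({x, y} : Set K) = ⊤)
    (f : MvPolynomial (Fin 2) k) (hf : Irreducible f) (hfxy : MvPolynomial.aeval ![x, y] f = 0)
    (Q : Place k K) (ΦQ : K →ₐ[k] LaurentSeries k) (hΦQ : LocRes.IsExpansionAt Q.1 ΦQ)
    (hne : LocRes.vDiff ΦQ (MvPolynomial.aeval ![x, y] (MvPolynomial.pderiv 1 f))⁻¹ x ≠ 0) :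
    0 ≤ ((mapDiv k ![(1 : K), x, y]).deg - 3) * mapDiv k ![(1 : K), x, y] Q -
        LocRes.ordDiff ΦQ (MvPolynomial.aeval ![x, y] (MvPolynomial.pderiv 1 f))⁻¹ x ∧
    (((mapDiv k ![(1 : K), x, y]).deg - 3) * mapDiv k ![(1 : K), x, y] Q -
        LocRes.ordDiff ΦQ (MvPolynomial.aeval ![x, y] (MvPolynomial.pderiv 1 f))⁻¹ x = 0 ↔
      IsNonsingularAt ![(1 : K), x, y] Q) := by
  classical
  have hg : IsGeometric k K := HasseExp.isGeometric_of_isAlgClosed (k := k) (K := K)
  set fy := MvPolynomial.aeval ![x, y] (MvPolynomial.pderiv 1 f) with hfy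
  have hfy0 : fy ≠ 0 := by
    intro h
    apply hne
    unfold LocRes.vDiff
    rw [h, inv_zero, map_zero, zero_mul, Valuation.map_zero]
  have hDΦ : LocRes.D k (ΦQ x) ≠ 0 := by
    intro h
    apply hne
    unfold LocRes.vDiff
    rw [h, mul_zero, Valuation.map_zero]
  have hdx : KaehlerDifferential.D k K x ≠ 0 := kaehler_D_ne_zero_of ΦQ hDΦ
  set H := homog f with hHdef
  set e := f.totalDegree with hedef
  have hH : H.IsHomogeneous e := homog_isHomogeneous f
  have hH0 : MvPolynomial.aeval ![(1 : K), x, y] H = 0 := by rw [hHdef, aeval_homog, hfxy]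
  have hH2 : MvPolynomial.aeval ![(1 : K), x, y] (MvPolynomial.pderiv 2 H) = fy :=
    aeval_pderiv_homog x y f
  have he : (mapDiv k ![(1 : K), x, y]).deg = e := deg_mapDiv_eq_totalDegree hK x y hxy f hf hfxy
  rw [he, ← hH2]
  obtain ⟨M, u, hM, hu, hu0, htr, hgen, hdx', hQx', hyL⟩ := exists_good_coords hK x y hxy hdx Q
  set A := M⁻¹ with hAdef
  have hAM : A * M = 1 := Matrix.nonsing_inv_mul M (isUnit_iff_ne_zero.2 hM)
  have hA : A.det ≠ 0 := by
    have := congrArg Matrix.det hAM
    rw [Matrix.det_mul, Matrix.det_one] at this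
    exact left_ne_zero_of_mul_eq_one this
  have huA : ∀ i, ∑ j, algebraMap k K (A i j) * u j = ![(1 : K), x, y] i := fun i =>
    (u_eq_inv M hM ![(1 : K), x, y] u (fun i => (hu i).symm) i).symm
  have hH2ne : MvPolynomial.aeval ![(1 : K), x, y] (MvPolynomial.pderiv 2 H) ≠ 0 := by
    rw [hH2]; exact hfy0
  have hLI := local_invariance hK H e hH x y hH0 hdx A hA u huA hu0 hH2ne hdx' Q hΦQ
  rw [hLI]
  set x' := u 1 / u 0 with hx'
  set y' := u 2 / u 0 with hy'
  set G := MvPolynomial.aeval (fun i : Fin 3 => ∑ j, MvPolynomial.C (A i j) * MvPolynomial.X j) H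
    with hGdef
  have hG : G.IsHomogeneous e := isHomogeneous_coord_change H e hH A
  have hG0 : MvPolynomial.aeval ![(1 : K), x', y'] G = 0 :=
    aeval_coord_change_eq_zero H e hH ![(1 : K), x, y] hH0 A u huA hu0
  have hG2 : MvPolynomial.aeval ![(1 : K), x', y'] (MvPolynomial.pderiv 2 G) ≠ 0 :=
    partial2_ne_zero H e hH x y hH0 A hA u huA hu0 hH2ne hdx'
  have hint : ∀ Q' : Place k K, Q'.1 x' ≤ 1 → Q'.1 y' ≤ 1 := by
    intro Q' h
    have := hyL Q'
    rwa [exp_polesDiv hK, max_eq_right h] at this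
  have hmapeq : mapDiv k ![(1 : K), x', y'] = polesDiv k x' := by
    ext Q'
    apply WithZero.exp_injective
    rw [exp_mapDiv_plane hK, exp_polesDiv hK]
    have := hyL Q'
    rw [exp_polesDiv hK] at this
    apply le_antisymm
    · exact max_le (le_max_right _ _) (max_le (le_max_left _ _) this)
    · exact max_le (le_trans (le_max_left _ _) (le_max_right _ _)) (le_max_left _ _)
  have hfin : Module.finrank k⟮x'⟯ K = e := by
    have h1 := deg_polesDiv hK htr
    have h2 := mapDiv_coord_change hK x y A hA u huA hu0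
    rw [hmapeq] at h2
    have h3 : (polesDiv k x').deg = (e : ℤ) := by
      rw [h2, deg_add, deg_div hK, add_zero, he]
    rw [h1] at h3
    exact_mod_cast h3
  have hmapQ : mapDiv k ![(1 : K), x', y'] Q = 0 := by
    rw [hmapeq]
    apply WithZero.exp_injective
    rw [exp_polesDiv hK, max_eq_right hQx'.le, WithZero.exp_zero]
  obtain ⟨h1, h2⟩ := adjoint_good_position hK htr hgen hdx' hint G e hG hG0 hG2 hfin Q hQx' hΦQ
  rw [hmapQ, mul_zero, zero_sub]
  refine ⟨h1, h2.trans ?_⟩
  have hv : ![(1 : K), x', y'] = fun i => (u 0)⁻¹ * u i := by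
    funext i
    fin_cases i <;> simp [x', y', hu0, div_eq_inv_mul]
  rw [hv, isNonsingularAt_mul_left_iff u (inv_ne_zero hu0) Q]
  exact isNonsingularAt_linear_iff ![(1 : K), x, y] u M A hu (fun i => (huA i).symm) Q

end main

end Groth.Agent.Lib.helper10.Adj
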