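import Groth.Prelude.Def_W4c3degenlocivbPfaff
import Mathlib

set_option autoImplicit false

namespace Groth.Agent.Lib.helper10.Apolar

open MvPolynomial W4c3degenlocivb

variable {k : Type*} [CommSemiring k] {σ : Type*}

/-- the term -/
noncomputable def term (α β : σ →₀ ℕ) (a b : k) : MvPolynomial σ k :=
  if α ≤ β then MvPolynomial.monomial (β - α)
      (a * b * ((β.support.prod fun i => Nat.descFactorial (β i) (α i) : ℕ) : k))
    else 0

theorem term_zero_left (α β : σ →₀ ℕ) (b : k) : term α β 0 b = 0 := by
  unfold term; split_ifs <;> simp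

theorem term_zero_right (α β : σ →₀ ℕ) (a : k) : term α β a 0 = 0 := by
  unfold term; split_ifs <;> simp

theorem term_add_left (α β : σ →₀ ℕ) (a a' b : k) :
    term α β (a + a') b = term α β a b + term α β a' b := by
  unfold term; split_ifs
  · rw [← map_add]; congr 1; ring
  · simp

theorem term_add_right (α β : σ →₀ ℕ) (a b b' : k) :
    term α β a (b + b') = term α β a b + term α β a b' := by
  unfold term; split_ifs
  · rw [← map_add]; congr 1; ring
  · simp

theorem contract_eq_sum (D G : MvPolynomial σ k) :
    contract D G = Finsupp.sum (AddMonoidAlgebra.coeff D)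
      (fun α a => Finsupp.sum (AddMonoidAlgebra.coeff G) (fun β b => term α β a b)) := by
  rw [sum_def]
  refine Finset.sum_congr rfl fun α _ => ?_
  rw [sum_def]
  rfl

theorem contract_add_left (D D' G : MvPolynomial σ k) :
    contract (D + D') G = contract D G + contract D' G := by
  rw [contract_eq_sum, contract_eq_sum, contract_eq_sum, AddMonoidAlgebra.coeff_add]
  refine Finsupp.sum_add_index' ?_ ?_
  · intro α; simp [Finsupp.sum, term_zero_left]
  · intro α a a'
    simp only [Finsupp.sum, term_add_left, Finset.sum_add_distrib]

theorem contract_add_right (D G G' : MvPolynomial σ k) :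
    contract D (G + G') = contract D G + contract D G' := by
  rw [contract_eq_sum, contract_eq_sum, contract_eq_sum, AddMonoidAlgebra.coeff_add]
  rw [← Finsupp.sum_add]
  refine Finsupp.sum_congr ?_
  intro α _
  refine Finsupp.sum_add_index' ?_ ?_
  · intro β; exact term_zero_right _ _ _
  · intro β b b'; exact term_add_right _ _ _ _ _

theorem contract_zero_left (G : MvPolynomial σ k) : contract 0 G = 0 := by
  rw [contract_eq_sum]; exact Finsupp.sum_zero_index

theorem contract_zero_right (D : MvPolynomial σ k) : contract D 0 = 0 := by
  rw [contract_eq_sum]; simp [Finsupp.sum_zero_index]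

theorem contract_monomial_left (α : σ →₀ ℕ) (a : k) (G : MvPolynomial σ k) :
    contract (monomial α a) G =
      Finsupp.sum (AddMonoidAlgebra.coeff G) (fun β b => term α β a b) := by
  rw [contract_eq_sum]
  change Finsupp.sum (Finsupp.single α a) _ = _
  rw [Finsupp.sum_single_index]
  simp [Finsupp.sum, term_zero_left]

theorem contract_monomial_monomial (α β : σ →₀ ℕ) (a b : k) :
    contract (monomial α a) (monomial β b) = term α β a b := by
  rw [contract_monomial_left]
  change Finsupp.sum (Finsupp.single β b) _ = _
  rw [Finsupp.sum_single_index]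
  exact term_zero_right _ _ _

theorem cc_eq [Fintype σ] {α β : σ →₀ ℕ} (h : α ≤ β) :
    (β.support.prod fun i => Nat.descFactorial (β i) (α i)) =
      ∏ i, Nat.descFactorial (β i) (α i) := by
  refine Finset.prod_subset (Finset.subset_univ _) (fun i _ hi => ?_)
  have h1 : β i = 0 := by simpa using hi
  have h2 : α i = 0 := Nat.le_zero.mp (h1 ▸ h i)
  simp [h1, h2]

theorem term_eq [Fintype σ] (α β : σ →₀ ℕ) (a b : k) :
    term α β a b = if α ≤ β then MvPolynomial.monomial (β - α)
      (a * b * ((∏ i, Nat.descFactorial (β i) (α i) : ℕ) : k)) else 0 := by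
  unfold term
  split_ifs with h
  · rw [cc_eq h]
  · rfl

theorem cc_mul [Fintype σ] {α γ β : σ →₀ ℕ} (_h : α + γ ≤ β) :
    (∏ i, Nat.descFactorial (β i) (α i)) * (∏ i, Nat.descFactorial ((β - α) i) (γ i)) =
      ∏ i, Nat.descFactorial (β i) (α i + γ i) := by
  rw [← Finset.prod_mul_distrib]
  refine Finset.prod_congr rfl fun i _ => ?_
  have := Nat.descFactorial_mul_descFactorial (n := β i) (k := α i) (m := α i + γ i) (by omega)
  rw [Finsupp.tsub_apply, mul_comm, ← this]
  congr 2
  omega

theorem contract_comm_monomial [Fintype σ] (α γ β : σ →₀ ℕ) (a c b : k) :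
    contract (monomial γ c) (contract (monomial α a) (monomial β b)) =
      contract (monomial α a) (contract (monomial γ c) (monomial β b)) := by
  rw [contract_monomial_monomial, contract_monomial_monomial, term_eq, term_eq]
  by_cases h : α + γ ≤ β
  · have h1 : α ≤ β := le_trans le_self_add h
    have h2 : γ ≤ β := le_trans le_add_self h
    have h3 : γ ≤ β - α := (le_tsub_iff_left h1).mpr h
    have h4 : α ≤ β - γ := (le_tsub_iff_left h2).mpr (by rwa [add_comm])
    rw [if_pos h1, if_pos h2, contract_monomial_monomial, contract_monomial_monomial,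
      term_eq, term_eq, if_pos h3, if_pos h4, tsub_right_comm]
    congr 1
    have e1 := cc_mul h
    have e2 := cc_mul (α := γ) (γ := α) (β := β) (by rwa [add_comm])
    have e3 : (∏ i, Nat.descFactorial (β i) (γ i + α i)) =
        ∏ i, Nat.descFactorial (β i) (α i + γ i) := by
      refine Finset.prod_congr rfl fun i _ => by rw [add_comm]
    rw [e3] at e2
    have e4 : ((∏ i, Nat.descFactorial (β i) (α i) : ℕ) : k) *
        ((∏ i, Nat.descFactorial ((β - α) i) (γ i) : ℕ) : k) =
        ((∏ i, Nat.descFactorial (β i) (γ i) : ℕ) : k) *
        ((∏ i, Nat.descFactorial ((β - γ) i) (α i) : ℕ) : k) := by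
      rw [← Nat.cast_mul, ← Nat.cast_mul, e1, e2]
    calc c * (a * b * ((∏ i, Nat.descFactorial (β i) (α i) : ℕ) : k)) *
          ((∏ i, Nat.descFactorial ((β - α) i) (γ i) : ℕ) : k)
        = c * a * b * (((∏ i, Nat.descFactorial (β i) (α i) : ℕ) : k) *
          ((∏ i, Nat.descFactorial ((β - α) i) (γ i) : ℕ) : k)) := by ring
      _ = c * a * b * (((∏ i, Nat.descFactorial (β i) (γ i) : ℕ) : k) *
        ((∏ i, Nat.descFactorial ((β - γ) i) (α i) : ℕ) : k)) := by rw [e4]
      _ = _ := by ring
  · have l1 : (if α ≤ β then (monomial (β - α))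
        (a * b * ((∏ i, Nat.descFactorial (β i) (α i) : ℕ) : k)) else 0) = 0 ∨
        (α ≤ β ∧ ¬ γ ≤ β - α) := by
      by_cases h1 : α ≤ β
      · right; exact ⟨h1, fun h3 => h ((le_tsub_iff_left h1).mp h3)⟩
      · left; rw [if_neg h1]
    have l2 : (if γ ≤ β then (monomial (β - γ))
        (c * b * ((∏ i, Nat.descFactorial (β i) (γ i) : ℕ) : k)) else 0) = 0 ∨
        (γ ≤ β ∧ ¬ α ≤ β - γ) := by
      by_cases h1 : γ ≤ β
      · right; exact ⟨h1, fun h3 => h (by rw [add_comm]; exact (le_tsub_iff_left h1).mp h3)⟩
      · left; rw [if_neg h1]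
    have r1 : contract (monomial γ c) (if α ≤ β then (monomial (β - α))
        (a * b * ((∏ i, Nat.descFactorial (β i) (α i) : ℕ) : k)) else 0) = 0 := by
      rcases l1 with l1 | ⟨h1, h3⟩
      · rw [l1, contract_zero_right]
      · rw [if_pos h1, contract_monomial_monomial, term_eq, if_neg h3]
    have r2 : contract (monomial α a) (if γ ≤ β then (monomial (β - γ))
        (c * b * ((∏ i, Nat.descFactorial (β i) (γ i) : ℕ) : k)) else 0) = 0 := by
      rcases l2 with l2 | ⟨h1, h3⟩
      · rw [l2, contract_zero_right]
      · rw [if_pos h1, contract_monomial_monomial, term_eq, if_neg h3]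
    rw [r1, r2]

theorem contract_comm [Fintype σ] (A D F : MvPolynomial σ k) :
    contract D (contract A F) = contract A (contract D F) := by
  induction F using MvPolynomial.induction_on' with
  | monomial β b =>
    induction A using MvPolynomial.induction_on' with
    | monomial α a =>
      induction D using MvPolynomial.induction_on' with
      | monomial γ c => exact contract_comm_monomial α γ β a c b
      | add D D' h h' =>
        rw [contract_add_left, contract_add_left, contract_add_right, h, h']
    | add A A' h h' =>
      rw [contract_add_left, contract_add_right, h, h', contract_add_left]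
  | add F F' h h' =>
    rw [contract_add_right, contract_add_right, contract_add_right, contract_add_right, h, h']

theorem contract_isHomogeneous {D F : MvPolynomial σ k} {d e : ℕ}
    (hD : D.IsHomogeneous d) (hF : F.IsHomogeneous e) :
    (contract D F).IsHomogeneous (e - d) := by
  unfold contract
  refine IsHomogeneous.sum _ _ _ fun α hα => IsHomogeneous.sum _ _ _ fun β hβ => ?_
  split_ifs with h
  · refine isHomogeneous_monomial _ ?_
    have hα' : α.degree = d := by
      by_contra hne
      exact (mem_support_iff.mp hα) (hD.coeff_eq_zero hne)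
    have hβ' : β.degree = e := by
      by_contra hne
      exact (mem_support_iff.mp hβ) (hF.coeff_eq_zero hne)
    have : (β - α) + α = β := tsub_add_cancel_of_le h
    have h2 : (β - α).degree + α.degree = β.degree := by
      rw [← map_add, this]
    omega
  · exact isHomogeneous_zero _ _ _

end Groth.Agent.Lib.helper10.Apolar

namespace Groth.Agent.Lib.helper10.Apolar

open MvPolynomial W4c3degenlocivb

theorem contract_monomial_top {k : Type*} [Field k] [CharZero k] {σ : Type*}
    {H : MvPolynomial σ k} {n : ℕ} (hH : H.IsHomogeneous n) (α : σ →₀ ℕ) (hα : α.degree = n) :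
    contract (monomial α (1 : k)) H = 0 ↔ coeff α H = 0 := by
  rw [contract_monomial_left, sum_def]
  have key : ∑ β ∈ H.support, term α β (1 : k) (coeff β H) = term α α (1 : k) (coeff α H) := by
    by_cases hmem : α ∈ H.support
    · refine Finset.sum_eq_single_of_mem α hmem fun β hβ hne => ?_
      unfold term
      rw [if_neg]
      intro hle
      apply hne
      have hβ' : β.degree = n := by
        by_contra hne'
        exact (mem_support_iff.mp hβ) (hH.coeff_eq_zero hne')
      have e1 : (β - α) + α = β := tsub_add_cancel_of_le hle
      have e2 : (β - α).degree + α.degree = β.degree := by rw [← map_add, e1]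
      have e3 : (β - α).degree = 0 := by omega
      have e4 : β - α = 0 := by
        rwa [Finsupp.degree_eq_zero_iff] at e3
      rw [← e1, e4, zero_add]
    · rw [notMem_support_iff.mp hmem, term_zero_right]
      refine Finset.sum_eq_zero fun β hβ => ?_
      unfold term
      rw [if_neg]
      intro hle
      have hβ' : β.degree = n := by
        by_contra hne'
        exact (mem_support_iff.mp hβ) (hH.coeff_eq_zero hne')
      have e1 : (β - α) + α = β := tsub_add_cancel_of_le hle
      have e2 : (β - α).degree + α.degree = β.degree := by rw [← map_add, e1]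
      have e3 : (β - α).degree = 0 := by omega
      have e4 : β - α = 0 := by
        rwa [Finsupp.degree_eq_zero_iff] at e3
      apply hmem
      have : β = α := by rw [← e1, e4, zero_add]
      rwa [← this]
  rw [key]
  unfold term
  rw [if_pos le_rfl, monomial_eq_zero]
  have hne : ((α.support.prod fun i => Nat.descFactorial (α i) (α i) : ℕ) : k) ≠ 0 := by
    rw [Nat.cast_ne_zero]
    refine Finset.prod_ne_zero_iff.mpr fun i _ => ?_
    rw [Nat.descFactorial_self]
    exact Nat.factorial_ne_zero _
  constructor
  · intro h
    rcases mul_eq_zero.mp h with h | h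
    · simpa using h
    · exact absurd h hne
  · intro h
    rw [h]; ring

end Groth.Agent.Lib.helper10.Apolar
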