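import Mathlib
import Groth.Prelude.Def_W4c1arstab1appArSing

set_option linter.style.haveILetI false
set_option linter.unusedSectionVars false

universe u

namespace Groth.Agent.Lib.helper10.ArNF

open MvPowerSeries

variable {k : Type u} [Field k]

/-- the exponent `(a, b)`. -/
noncomputable def idx (a b : ℕ) : Fin 2 →₀ ℕ := Finsupp.single 0 a + Finsupp.single 1 b

theorem idx_zero (a b : ℕ) : idx a b 0 = a := by
  simp [idx]

theorem idx_one (a b : ℕ) : idx a b 1 = b := by
  simp [idx]

theorem idx_eta (m : Fin 2 →₀ ℕ) : idx (m 0) (m 1) = m := by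
  ext i
  fin_cases i
  · exact idx_zero _ _
  · exact idx_one _ _

theorem idx_add (a b a' b' : ℕ) : idx a b + idx a' b' = idx (a + a') (b + b') := by
  ext i
  fin_cases i
  · simp [idx]
  · simp [idx]

theorem idx_le_iff (a b a' b' : ℕ) : idx a b ≤ idx a' b' ↔ a ≤ a' ∧ b ≤ b' := by
  constructor
  · intro h
    have h0 := h 0
    have h1 := h 1
    rw [idx_zero, idx_zero] at h0
    rw [idx_one, idx_one] at h1
    exact ⟨h0, h1⟩
  · rintro ⟨h0, h1⟩ i
    fin_cases i
    · simpa [idx] using h0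
    · simpa [idx] using h1

theorem idx_sub (a b a' b' : ℕ) : idx a b - idx a' b' = idx (a - a') (b - b') := by
  ext i
  fin_cases i
  · simp [idx]
  · simp [idx]

/-- the coefficient at `x^a y^b`. -/
noncomputable def cf (F : MvPowerSeries (Fin 2) k) (a b : ℕ) : k := coeff (idx a b) F

theorem ext_cf {F G : MvPowerSeries (Fin 2) k} (h : ∀ a b, cf F a b = cf G a b) : F = G := by
  ext m
  rw [← idx_eta m]
  exact h _ _

/-- the power series with given coefficients. -/
noncomputable def mk2 (c : ℕ → ℕ → k) : MvPowerSeries (Fin 2) k := fun m => c (m 0) (m 1)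

theorem cf_mk2 (c : ℕ → ℕ → k) (a b : ℕ) : cf (mk2 c) a b = c a b := by
  change c (idx a b 0) (idx a b 1) = c a b
  rw [idx_zero, idx_one]

theorem cf_add (F G : MvPowerSeries (Fin 2) k) (a b : ℕ) : cf (F + G) a b = cf F a b + cf G a b :=
  map_add _ _ _

theorem cf_sub (F G : MvPowerSeries (Fin 2) k) (a b : ℕ) : cf (F - G) a b = cf F a b - cf G a b :=
  map_sub _ _ _

theorem cf_smul (c : k) (F : MvPowerSeries (Fin 2) k) (a b : ℕ) : cf (c • F) a b = c * cf F a b :=
  rfl

theorem cf_zero (a b : ℕ) : cf (0 : MvPowerSeries (Fin 2) k) a b = 0 := rfl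

theorem cf_X0pow_mul (s : ℕ) (F : MvPowerSeries (Fin 2) k) (a b : ℕ) :
    cf (X 0 ^ s * F) a b = if s ≤ a then cf F (a - s) b else 0 := by
  unfold cf
  have h1 : (X 0 : MvPowerSeries (Fin 2) k) ^ s = monomial (idx s 0) 1 := by
    rw [X_pow_eq]
    congr 1
    simp [idx]
  rw [h1, coeff_monomial_mul, idx_sub, one_mul]
  by_cases h : s ≤ a
  · rw [if_pos h, if_pos ((idx_le_iff _ _ _ _).mpr ⟨h, Nat.zero_le _⟩), Nat.sub_zero]
  · rw [if_neg h, if_neg fun h' => h ((idx_le_iff _ _ _ _).mp h').1]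

theorem cf_X1pow_mul (s : ℕ) (F : MvPowerSeries (Fin 2) k) (a b : ℕ) :
    cf (X 1 ^ s * F) a b = if s ≤ b then cf F a (b - s) else 0 := by
  unfold cf
  have h1 : (X 1 : MvPowerSeries (Fin 2) k) ^ s = monomial (idx 0 s) 1 := by
    rw [X_pow_eq]
    congr 1
    simp [idx]
  rw [h1, coeff_monomial_mul, idx_sub, one_mul]
  by_cases h : s ≤ b
  · rw [if_pos h, if_pos ((idx_le_iff _ _ _ _).mpr ⟨Nat.zero_le _, h⟩), Nat.sub_zero]
  · rw [if_neg h, if_neg fun h' => h ((idx_le_iff _ _ _ _).mp h').2]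

theorem cf_X1_mul (F : MvPowerSeries (Fin 2) k) (a b : ℕ) :
    cf (X 1 * F) a b = if 1 ≤ b then cf F a (b - 1) else 0 := by
  have := cf_X1pow_mul 1 F a b
  rwa [pow_one] at this

/-- the embedding `k[[t]] → k[[x,y]]`, `t ↦ x`. -/
noncomputable def iota (f : PowerSeries k) : MvPowerSeries (Fin 2) k :=
  PowerSeries.subst (X 0 : MvPowerSeries (Fin 2) k) f

theorem cf_iota (f : PowerSeries k) (a b : ℕ) :
    cf (iota f) a b = if b = 0 then PowerSeries.coeff a f else 0 := by
  unfold cf iota
  rw [PowerSeries.coeff_subst_single, idx_zero]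
  by_cases hb : b = 0
  · subst hb
    rw [if_pos rfl, if_pos]
    simp [idx]
  · rw [if_neg hb, if_neg]
    intro h
    have := DFunLike.congr_fun h 1
    rw [idx_one, Finsupp.single_apply, if_neg (by decide)] at this
    exact hb this

variable (s : ℕ)

/-- the reduction sums: `T F a b = Σ_j F_{a - s j, b + 2 j}`. -/
noncomputable def T (s : ℕ) (F : MvPowerSeries (Fin 2) k) : ℕ → ℕ → k
  | a, b => cf F a b + if h : 1 ≤ s ∧ s ≤ a then T s F (a - s) (b + 2) else 0
termination_by a => a
decreasing_by omega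

theorem T_eq (F : MvPowerSeries (Fin 2) k) (a b : ℕ) :
    T s F a b = cf F a b + if 1 ≤ s ∧ s ≤ a then T s F (a - s) (b + 2) else 0 := by
  rw [T]
  congr 1

theorem T_add (F G : MvPowerSeries (Fin 2) k) (a b : ℕ) :
    T s (F + G) a b = T s F a b + T s G a b := by
  induction a using Nat.strong_induction_on generalizing b with
  | _ a ih =>
    rw [T_eq s (F + G), T_eq s F, T_eq s G, cf_add]
    by_cases h : 1 ≤ s ∧ s ≤ a
    · rw [if_pos h, if_pos h, if_pos h, ih (a - s) (by omega)]
      ring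
    · rw [if_neg h, if_neg h, if_neg h]
      ring

theorem T_smul (c : k) (F : MvPowerSeries (Fin 2) k) (a b : ℕ) :
    T s (c • F) a b = c * T s F a b := by
  induction a using Nat.strong_induction_on generalizing b with
  | _ a ih =>
    rw [T_eq s (c • F), T_eq s F, cf_smul]
    by_cases h : 1 ≤ s ∧ s ≤ a
    · rw [if_pos h, if_pos h, ih (a - s) (by omega)]
      ring
    · rw [if_neg h, if_neg h]
      ring

/-- the defining equation `y^2 - x^s`. -/
noncomputable def eqnS (k : Type u) [Field k] (s : ℕ) : MvPowerSeries (Fin 2) k :=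
  X 1 ^ 2 - X 0 ^ s

theorem cf_eqnS_mul (G : MvPowerSeries (Fin 2) k) (a b : ℕ) :
    cf (eqnS k s * G) a b =
      (if 2 ≤ b then cf G a (b - 2) else 0) - (if s ≤ a then cf G (a - s) b else 0) := by
  unfold eqnS
  rw [sub_mul, cf_sub, cf_X1pow_mul, cf_X0pow_mul]

theorem T_eqnS_mul (hs : 1 ≤ s) (G : MvPowerSeries (Fin 2) k) (a b : ℕ) :
    T s (eqnS k s * G) a b = if 2 ≤ b then cf G a (b - 2) else 0 := by
  induction a using Nat.strong_induction_on generalizing b with
  | _ a ih =>
    rw [T_eq, cf_eqnS_mul]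
    by_cases h : s ≤ a
    · have h1 : (if 1 ≤ s ∧ s ≤ a then T s (eqnS k s * G) (a - s) (b + 2) else 0) =
          cf G (a - s) b := by
        rw [if_pos ⟨hs, h⟩, ih (a - s) (by omega), if_pos (by omega : 2 ≤ b + 2)]
        have : b + 2 - 2 = b := by omega
        rw [this]
      rw [h1, if_pos h]
      ring
    · have h1 : (if 1 ≤ s ∧ s ≤ a then T s (eqnS k s * G) (a - s) (b + 2) else 0) = 0 :=
        if_neg fun h' => h h'.2
      rw [h1, if_neg h]
      ring

theorem T_iota (f : PowerSeries k) (a b : ℕ) :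
    T s (iota f) a b = if b = 0 then PowerSeries.coeff a f else 0 := by
  induction a using Nat.strong_induction_on generalizing b with
  | _ a ih =>
    rw [T_eq, cf_iota]
    by_cases h : 1 ≤ s ∧ s ≤ a
    · rw [if_pos h, ih (a - s) (by omega), if_neg (by omega : ¬ b + 2 = 0), add_zero]
    · rw [if_neg h, add_zero]

theorem T_X1_iota (g : PowerSeries k) (a b : ℕ) :
    T s (X 1 * iota g) a b = if b = 1 then PowerSeries.coeff a g else 0 := by
  induction a using Nat.strong_induction_on generalizing b with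
  | _ a ih =>
    have hcf : cf (X 1 * iota g) a b = if b = 1 then PowerSeries.coeff a g else 0 := by
      rw [cf_X1_mul, cf_iota]
      by_cases hb : b = 1
      · subst hb
        simp
      · rw [if_neg hb]
        by_cases hb1 : 1 ≤ b
        · rw [if_pos hb1, if_neg (by omega)]
        · rw [if_neg hb1]
    rw [T_eq, hcf]
    by_cases h : 1 ≤ s ∧ s ≤ a
    · rw [if_pos h, ih (a - s) (by omega), if_neg (by omega : ¬ b + 2 = 1), add_zero]
    · rw [if_neg h, add_zero]

/-- the normal form components. -/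
noncomputable def nf (b : ℕ) (F : MvPowerSeries (Fin 2) k) : PowerSeries k :=
  PowerSeries.mk fun n => T s F n b

/-- the quotient of the division by `y^2 - x^s`. -/
noncomputable def quo (F : MvPowerSeries (Fin 2) k) : MvPowerSeries (Fin 2) k :=
  mk2 fun a b => T s F a (b + 2)

theorem coeff_nf (b : ℕ) (F : MvPowerSeries (Fin 2) k) (n : ℕ) :
    PowerSeries.coeff n (nf s b F) = T s F n b := by
  unfold nf
  rw [PowerSeries.coeff_mk]

theorem nf_add (b : ℕ) (F G : MvPowerSeries (Fin 2) k) : nf s b (F + G) = nf s b F + nf s b G := by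
  ext n
  rw [map_add, coeff_nf, coeff_nf, coeff_nf, T_add]

theorem nf_smul (b : ℕ) (c : k) (F : MvPowerSeries (Fin 2) k) : nf s b (c • F) = c • nf s b F := by
  ext n
  rw [coeff_nf, T_smul, PowerSeries.coeff_smul, coeff_nf, smul_eq_mul]

/-- the division identity. -/
theorem division (hs : 1 ≤ s) (F : MvPowerSeries (Fin 2) k) :
    F = iota (nf s 0 F) + X 1 * iota (nf s 1 F) + eqnS k s * quo s F := by
  apply ext_cf
  intro a b
  rw [cf_add, cf_add, cf_iota, cf_X1_mul, cf_iota, cf_eqnS_mul, coeff_nf, coeff_nf]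
  unfold quo
  rw [cf_mk2, cf_mk2]
  have key : ∀ a b, T s F a b = cf F a b + if s ≤ a then T s F (a - s) (b + 2) else 0 := by
    intro a b
    rw [T_eq]
    by_cases h : s ≤ a
    · rw [if_pos ⟨hs, h⟩, if_pos h]
    · rw [if_neg fun h' => h h'.2, if_neg h]
  have e1 : (if s ≤ a then T s F (a - s) (b + 2) else 0) = T s F a b - cf F a b := by
    rw [key a b]
    ring
  rw [e1]
  rcases Nat.lt_or_ge b 2 with hb | hb
  · interval_cases b
    · simp
    · simp
  · rw [if_neg (by omega), if_pos (by omega), if_neg (by omega), if_pos hb]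
    have : b - 2 + 2 = b := by omega
    rw [this]
    ring

theorem nf_eqnS_mul (hs : 1 ≤ s) (b : ℕ) (hb : b < 2) (G : MvPowerSeries (Fin 2) k) :
    nf s b (eqnS k s * G) = 0 := by
  ext n
  rw [coeff_nf, T_eqnS_mul s hs, if_neg (by omega)]
  rfl

theorem nf_zero_iota (f : PowerSeries k) : nf s 0 (iota f) = f := by
  ext n
  rw [coeff_nf, T_iota, if_pos rfl]

theorem nf_one_iota (f : PowerSeries k) : nf s 1 (iota f) = 0 := by
  ext n
  rw [coeff_nf, T_iota, if_neg (by omega)]
  rfl

theorem nf_zero_X1_iota (g : PowerSeries k) : nf s 0 (X 1 * iota g) = 0 := by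
  ext n
  rw [coeff_nf, T_X1_iota, if_neg (by omega)]
  rfl

theorem nf_one_X1_iota (g : PowerSeries k) : nf s 1 (X 1 * iota g) = g := by
  ext n
  rw [coeff_nf, T_X1_iota, if_pos rfl]

section quot

variable (k) (r : ℕ)

theorem eqn_eq : ArSing.eqn k r = eqnS k (r + 1) := rfl

theorem mem_span_iff (F : MvPowerSeries (Fin 2) k) :
    F ∈ Ideal.span {ArSing.eqn k r} ↔ ∃ G, F = eqnS k (r + 1) * G := by
  rw [Ideal.mem_span_singleton', eqn_eq]
  constructor
  · rintro ⟨G, h⟩
    exact ⟨G, by rw [← h, mul_comm]⟩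
  · rintro ⟨G, h⟩
    exact ⟨G, by rw [h, mul_comm]⟩

/-- the quotient map. -/
noncomputable abbrev mkR : MvPowerSeries (Fin 2) k →+* ArSing.ring k r :=
  Ideal.Quotient.mk (Ideal.span {ArSing.eqn k r})

theorem mkR_surjective : Function.Surjective (mkR k r) := Ideal.Quotient.mk_surjective

/-- the normal form components of an element of `A_r`. -/
noncomputable def nfA (b : ℕ) (a : ArSing.ring k r) : PowerSeries k :=
  nf (r + 1) b (Quotient.out a)

theorem nf_eq_of_mk_eq {b : ℕ} (hb : b < 2) {F G : MvPowerSeries (Fin 2) k}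
    (h : mkR k r F = mkR k r G) : nf (r + 1) b F = nf (r + 1) b G := by
  rw [Ideal.Quotient.eq, mem_span_iff] at h
  obtain ⟨H, hH⟩ := h
  have : F = G + eqnS k (r + 1) * H := by
    rw [← hH]
    ring
  rw [this, nf_add, nf_eqnS_mul _ (by omega) b hb, add_zero]

theorem nfA_mk {b : ℕ} (hb : b < 2) (F : MvPowerSeries (Fin 2) k) :
    nfA k r b (mkR k r F) = nf (r + 1) b F :=
  nf_eq_of_mk_eq k r hb (Ideal.Quotient.mk_out _)

theorem nfA_add {b : ℕ} (hb : b < 2) (a a' : ArSing.ring k r) :
    nfA k r b (a + a') = nfA k r b a + nfA k r b a' := by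
  obtain ⟨F, rfl⟩ := mkR_surjective k r a
  obtain ⟨G, rfl⟩ := mkR_surjective k r a'
  rw [← map_add, nfA_mk k r hb, nfA_mk k r hb, nfA_mk k r hb, nf_add]

theorem nfA_smul {b : ℕ} (hb : b < 2) (c : k) (a : ArSing.ring k r) :
    nfA k r b (c • a) = c • nfA k r b a := by
  obtain ⟨F, rfl⟩ := mkR_surjective k r a
  have : c • mkR k r F = mkR k r (c • F) := rfl
  rw [this, nfA_mk k r hb, nfA_mk k r hb, nf_smul]

theorem xMap_apply (f : PowerSeries k) : ArSing.xMap k r f = mkR k r (iota f) := by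
  unfold ArSing.xMap iota
  rw [AlgHom.comp_apply, PowerSeries.coe_substAlgHom]
  rfl

theorem xMap_X : ArSing.xMap k r PowerSeries.X = ArSing.x k r := by
  rw [xMap_apply]
  unfold iota
  rw [PowerSeries.subst_X]
  exact PowerSeries.HasSubst.of_constantCoeff_zero (MvPowerSeries.constantCoeff_X _)

theorem y_mul_y : ArSing.y k r * ArSing.y k r = ArSing.xMap k r (PowerSeries.X ^ (r + 1)) := by
  rw [map_pow, xMap_X]
  have h0 : mkR k r (ArSing.eqn k r) = 0 :=
    Ideal.Quotient.eq_zero_iff_mem.mpr (Ideal.subset_span rfl)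
  have h : mkR k r (X 1 ^ 2 - X 0 ^ (r + 1)) = 0 := h0
  rw [map_sub, map_pow, map_pow, sub_eq_zero] at h
  rw [← pow_two]
  exact h

/-- the decomposition `a = f(x) + y g(x)`. -/
theorem decomp (a : ArSing.ring k r) :
    a = ArSing.xMap k r (nfA k r 0 a) + ArSing.y k r * ArSing.xMap k r (nfA k r 1 a) := by
  obtain ⟨F, rfl⟩ := mkR_surjective k r a
  rw [nfA_mk k r (by omega), nfA_mk k r (by omega), xMap_apply, xMap_apply]
  have h := division (r + 1) (by omega) F
  have h2 : mkR k r (eqnS k (r + 1) * quo (r + 1) F) = 0 := by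
    rw [Ideal.Quotient.eq_zero_iff_mem, mem_span_iff]
    exact ⟨_, rfl⟩
  conv_lhs => rw [h]
  rw [map_add, map_add, h2, add_zero, map_mul]

theorem nfA_zero_combo (f g : PowerSeries k) :
    nfA k r 0 (ArSing.xMap k r f + ArSing.y k r * ArSing.xMap k r g) = f := by
  rw [xMap_apply, xMap_apply]
  have : mkR k r (iota f) + ArSing.y k r * mkR k r (iota g) =
      mkR k r (iota f + X 1 * iota g) := by
    rw [map_add, map_mul]
  rw [this, nfA_mk k r (by omega), nf_add, nf_zero_iota, nf_zero_X1_iota, add_zero]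

theorem nfA_one_combo (f g : PowerSeries k) :
    nfA k r 1 (ArSing.xMap k r f + ArSing.y k r * ArSing.xMap k r g) = g := by
  rw [xMap_apply, xMap_apply]
  have : mkR k r (iota f) + ArSing.y k r * mkR k r (iota g) =
      mkR k r (iota f + X 1 * iota g) := by
    rw [map_add, map_mul]
  rw [this, nfA_mk k r (by omega), nf_add, nf_one_iota, nf_one_X1_iota, zero_add]

theorem ext_nfA {a a' : ArSing.ring k r} (h0 : nfA k r 0 a = nfA k r 0 a')
    (h1 : nfA k r 1 a = nfA k r 1 a') : a = a' := by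
  rw [decomp k r a, decomp k r a', h0, h1]

theorem eq_combo_iff (a : ArSing.ring k r) (f g : PowerSeries k) :
    a = ArSing.xMap k r f + ArSing.y k r * ArSing.xMap k r g ↔
      nfA k r 0 a = f ∧ nfA k r 1 a = g := by
  constructor
  · rintro rfl
    exact ⟨nfA_zero_combo k r f g, nfA_one_combo k r f g⟩
  · rintro ⟨rfl, rfl⟩
    exact decomp k r a

theorem nfA_zero_xMap (f : PowerSeries k) : nfA k r 0 (ArSing.xMap k r f) = f := by
  have := nfA_zero_combo k r f 0
  rwa [map_zero, mul_zero, add_zero] at this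

theorem nfA_one_xMap (f : PowerSeries k) : nfA k r 1 (ArSing.xMap k r f) = 0 := by
  have := nfA_one_combo k r f 0
  rwa [map_zero, mul_zero, add_zero] at this

theorem nfA_zero_y : nfA k r 0 (ArSing.y k r) = 0 := by
  have := nfA_zero_combo k r 0 1
  rwa [map_zero, map_one, mul_one, zero_add] at this

theorem nfA_one_y : nfA k r 1 (ArSing.y k r) = 1 := by
  have := nfA_one_combo k r 0 1
  rwa [map_zero, map_one, mul_one, zero_add] at this

/-- the multiplication rule. -/
theorem combo_mul (f g f' g' : PowerSeries k) :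
    (ArSing.xMap k r f + ArSing.y k r * ArSing.xMap k r g) *
      (ArSing.xMap k r f' + ArSing.y k r * ArSing.xMap k r g') =
    ArSing.xMap k r (f * f' + PowerSeries.X ^ (r + 1) * (g * g')) +
      ArSing.y k r * ArSing.xMap k r (f * g' + g * f') := by
  rw [map_add, map_mul, map_mul, map_mul, map_add, map_mul, map_mul, ← y_mul_y]
  ring

theorem nfA_zero_mul (a a' : ArSing.ring k r) :
    nfA k r 0 (a * a') = nfA k r 0 a * nfA k r 0 a' +
      PowerSeries.X ^ (r + 1) * (nfA k r 1 a * nfA k r 1 a') := by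
  conv_lhs => rw [decomp k r a, decomp k r a', combo_mul, nfA_zero_combo]

theorem nfA_one_mul (a a' : ArSing.ring k r) :
    nfA k r 1 (a * a') = nfA k r 0 a * nfA k r 1 a' + nfA k r 1 a * nfA k r 0 a' := by
  conv_lhs => rw [decomp k r a, decomp k r a', combo_mul, nfA_one_combo]

theorem nfA_xMap_mul (b : ℕ) (hb : b < 2) (h : PowerSeries k) (a : ArSing.ring k r) :
    nfA k r b (ArSing.xMap k r h * a) = h * nfA k r b a := by
  interval_cases b
  · rw [nfA_zero_mul, nfA_zero_xMap, nfA_one_xMap]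
    ring
  · rw [nfA_one_mul, nfA_zero_xMap, nfA_one_xMap]
    ring

theorem nfA_zero_y_mul (a : ArSing.ring k r) :
    nfA k r 0 (ArSing.y k r * a) = PowerSeries.X ^ (r + 1) * nfA k r 1 a := by
  rw [nfA_zero_mul, nfA_zero_y, nfA_one_y]
  ring

theorem nfA_one_y_mul (a : ArSing.ring k r) :
    nfA k r 1 (ArSing.y k r * a) = nfA k r 0 a := by
  rw [nfA_one_mul, nfA_zero_y, nfA_one_y]
  ring

theorem nfA_x_pow_mul (b : ℕ) (hb : b < 2) (N : ℕ) (a : ArSing.ring k r) :
    nfA k r b (ArSing.x k r ^ N * a) = PowerSeries.X ^ N * nfA k r b a := by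
  rw [← xMap_X, ← map_pow, nfA_xMap_mul k r b hb]

theorem nfA_zero' {b : ℕ} (hb : b < 2) : nfA k r b 0 = 0 := by
  have := nfA_smul k r hb 0 0
  rwa [zero_smul, zero_smul] at this

theorem nfA_neg {b : ℕ} (hb : b < 2) (a : ArSing.ring k r) : nfA k r b (-a) = -nfA k r b a := by
  have h := nfA_add k r hb a (-a)
  rw [add_neg_cancel, nfA_zero' k r hb] at h
  exact (neg_eq_of_add_eq_zero_right h.symm).symm

theorem nfA_sub {b : ℕ} (hb : b < 2) (a a' : ArSing.ring k r) :
    nfA k r b (a - a') = nfA k r b a - nfA k r b a' := by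
  rw [sub_eq_add_neg, nfA_add k r hb, nfA_neg k r hb, sub_eq_add_neg]

theorem eq_zero_iff (a : ArSing.ring k r) : a = 0 ↔ nfA k r 0 a = 0 ∧ nfA k r 1 a = 0 := by
  constructor
  · rintro rfl
    exact ⟨nfA_zero' k r (by omega), nfA_zero' k r (by omega)⟩
  · rintro ⟨h0, h1⟩
    apply ext_nfA k r
    · rw [h0, nfA_zero' k r (by omega)]
    · rw [h1, nfA_zero' k r (by omega)]

/-- divisibility by `x^N` for all `N` forces vanishing. -/
theorem eq_zero_of_forall_x_pow_dvd (a : ArSing.ring k r)
    (h : ∀ N : ℕ, ArSing.x k r ^ N ∣ a) : a = 0 := by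
  rw [eq_zero_iff]
  have key : ∀ b, b < 2 → nfA k r b a = 0 := by
    intro b hb
    ext n
    obtain ⟨c, hc⟩ := h (n + 1)
    rw [hc, nfA_x_pow_mul k r b hb, map_zero]
    exact (PowerSeries.X_pow_dvd_iff.mp ⟨_, rfl⟩) n (by omega)
  exact ⟨key 0 (by omega), key 1 (by omega)⟩

end quot

section loc

variable (k) (r : ℕ)

theorem nfA_zero_one : nfA k r 0 (1 : ArSing.ring k r) = 1 := by
  have := nfA_zero_xMap k r 1
  rwa [map_one] at this

instance nontrivial_ring : Nontrivial (ArSing.ring k r) := by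
  refine ⟨⟨1, 0, fun h => ?_⟩⟩
  have h1 := nfA_zero_one k r
  rw [h, nfA_zero' k r (by omega)] at h1
  exact zero_ne_one h1

instance isLocalRing_ring : IsLocalRing (ArSing.ring k r) :=
  IsLocalRing.of_surjective' (mkR k r) (mkR_surjective k r)

/-- the augmentation `A_r → k`. -/
noncomputable def aug : ArSing.ring k r →+* k :=
  Ideal.Quotient.lift (Ideal.span {ArSing.eqn k r}) MvPowerSeries.constantCoeff (by
    intro a ha
    rw [mem_span_iff] at ha
    obtain ⟨G, rfl⟩ := ha
    rw [map_mul]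
    unfold eqnS
    simp)

theorem aug_mk (F : MvPowerSeries (Fin 2) k) : aug k r (mkR k r F) = MvPowerSeries.constantCoeff F :=
  Ideal.Quotient.lift_mk _ _ _

theorem aug_algebraMap (c : k) : aug k r (algebraMap k (ArSing.ring k r) c) = c := by
  have : algebraMap k (ArSing.ring k r) c = mkR k r (MvPowerSeries.C c) := rfl
  rw [this, aug_mk, MvPowerSeries.constantCoeff_C]

theorem sub_aug_mem_maximalIdeal (a : ArSing.ring k r) :
    a - algebraMap k (ArSing.ring k r) (aug k r a) ∈ IsLocalRing.maximalIdeal (ArSing.ring k r) := by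
  rw [IsLocalRing.mem_maximalIdeal, mem_nonunits_iff]
  intro hu
  have := hu.map (aug k r)
  rw [map_sub, aug_algebraMap, sub_self] at this
  exact not_isUnit_zero this

instance isLocalHom_algebraMap : IsLocalHom (algebraMap k (ArSing.ring k r)) := by
  constructor
  intro c hc
  rw [isUnit_iff_ne_zero]
  rintro rfl
  rw [map_zero] at hc
  exact not_isUnit_zero hc

theorem finrank_residueField :
    Module.finrank (IsLocalRing.ResidueField k) (IsLocalRing.ResidueField (ArSing.ring k r)) = 1 := by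
  rw [finrank_eq_one_iff_of_nonzero' (1 : IsLocalRing.ResidueField (ArSing.ring k r)) one_ne_zero]
  intro w
  obtain ⟨b, rfl⟩ := IsLocalRing.residue_surjective w
  refine ⟨IsLocalRing.residue k (aug k r b), ?_⟩
  rw [Algebra.smul_def, mul_one, IsLocalRing.ResidueField.algebraMap_residue]
  symm
  rw [← sub_eq_zero, ← map_sub, IsLocalRing.residue_eq_zero_iff]
  exact sub_aug_mem_maximalIdeal k r b

/-- length over `A_r` is the `k`-dimension. -/
theorem length_eq_finrank (M : Type*) [AddCommGroup M] [Module (ArSing.ring k r) M] [Module k M]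
    [IsScalarTower k (ArSing.ring k r) M] [Module.Finite k M] :
    Module.length (ArSing.ring k r) M = Module.finrank k M := by
  have h := IsLocalRing.length_restrictScalars k (ArSing.ring k r) M
  have h1 : Module.length (IsLocalRing.ResidueField k)
      (IsLocalRing.ResidueField (ArSing.ring k r)) = 1 := by
    haveI : Module.Finite (IsLocalRing.ResidueField k)
        (IsLocalRing.ResidueField (ArSing.ring k r)) :=
      Module.finite_of_finrank_pos (by rw [finrank_residueField]; exact Nat.one_pos)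
    rw [Module.length_eq_finrank, finrank_residueField]
    rfl
  rw [h1, mul_one, Module.length_eq_finrank] at h
  exact h.symm

end loc

section cont

variable (k) (r : ℕ)

theorem algHom_coe_eq {B : Type*} [CommRing B] [Algebra k B] (g1 g2 : PowerSeries k →ₐ[k] B)
    (hX : g1 PowerSeries.X = g2 PowerSeries.X) (p : Polynomial k) :
    g1 (p : PowerSeries k) = g2 (p : PowerSeries k) := by
  have h : g1.comp (Polynomial.coeToPowerSeries.algHom k) =
      g2.comp (Polynomial.coeToPowerSeries.algHom k) := by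
    apply Polynomial.algHom_ext
    simpa using hX
  have := DFunLike.congr_fun h p
  simpa using this

/-- two `k`-algebra maps `k[[t]] → A_r` agreeing on `t` (sent into the radical of `(x)`)
are equal. -/
theorem algHom_ext_of_X (g1 g2 : PowerSeries k →ₐ[k] ArSing.ring k r)
    (hX : g1 PowerSeries.X = g2 PowerSeries.X)
    (hdiv : ∃ m : ℕ, ArSing.x k r ∣ g1 PowerSeries.X ^ m) : g1 = g2 := by
  obtain ⟨m, hm⟩ := hdiv
  ext f
  rw [← sub_eq_zero]
  apply eq_zero_of_forall_x_pow_dvd
  intro N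
  have hf := PowerSeries.eq_X_pow_mul_shift_add_trunc (m * N) f
  obtain ⟨h, hh⟩ : ∃ h : PowerSeries k, h = PowerSeries.mk fun i => PowerSeries.coeff (i + m * N) f :=
    ⟨_, rfl⟩
  rw [← hh] at hf
  have e1 : g1 f - g2 f = g1 PowerSeries.X ^ (m * N) * (g1 h - g2 h) := by
    conv_lhs => rw [hf]
    rw [map_add, map_add, map_mul, map_mul, map_pow, map_pow, ← hX,
      algHom_coe_eq k g1 g2 hX]
    ring
  rw [e1, pow_mul]
  exact Dvd.dvd.mul_right (pow_dvd_pow_of_dvd hm N) _

/-- a `k`-algebra map out of `A_r` commutes with `xMap` when it fixes `x`. -/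
theorem algHom_xMap_of_fix (τ : ArSing.ring k r →ₐ[k] ArSing.ring k r)
    (hτ : τ (ArSing.x k r) = ArSing.x k r) (f : PowerSeries k) :
    τ (ArSing.xMap k r f) = ArSing.xMap k r f := by
  have h : τ.comp (ArSing.xMap k r) = ArSing.xMap k r := by
    apply algHom_ext_of_X
    · rw [AlgHom.comp_apply, xMap_X, hτ]
    · exact ⟨1, by rw [AlgHom.comp_apply, xMap_X, hτ, pow_one]⟩
  exact DFunLike.congr_fun h f

/-- a `k`-algebra map `A_r → A_r'` sending `x` to `x^e` sends `f(x)` to `f(x^e)`. -/
theorem algHom_xMap_of_pow (r' : ℕ) (τ : ArSing.ring k r →ₐ[k] ArSing.ring k r') (e : ℕ)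
    (he : e ≠ 0) (hτ : τ (ArSing.x k r) = ArSing.x k r' ^ e) (f : PowerSeries k) :
    τ (ArSing.xMap k r f) = ArSing.xMap k r' (PowerSeries.expand e he f) := by
  have h : τ.comp (ArSing.xMap k r) = (ArSing.xMap k r').comp (PowerSeries.expand e he) := by
    apply algHom_ext_of_X
    · rw [AlgHom.comp_apply, xMap_X, hτ, AlgHom.comp_apply, PowerSeries.expand_X, map_pow, xMap_X]
    · refine ⟨1, ?_⟩
      rw [AlgHom.comp_apply, xMap_X, hτ, pow_one]
      exact dvd_pow_self _ he
  exact DFunLike.congr_fun h f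

/-- the normal form as a `k`-linear equivalence. -/
noncomputable def nfEquiv : ArSing.ring k r ≃ₗ[k] PowerSeries k × PowerSeries k where
  toFun a := (nfA k r 0 a, nfA k r 1 a)
  map_add' a a' := by
    rw [nfA_add k r (by omega), nfA_add k r (by omega)]
    rfl
  map_smul' c a := by
    rw [nfA_smul k r (by omega), nfA_smul k r (by omega)]
    rfl
  invFun p := ArSing.xMap k r p.1 + ArSing.y k r * ArSing.xMap k r p.2
  left_inv a := (decomp k r a).symm
  right_inv p := by
    change (nfA k r 0 (ArSing.xMap k r p.1 + ArSing.y k r * ArSing.xMap k r p.2),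
      nfA k r 1 (ArSing.xMap k r p.1 + ArSing.y k r * ArSing.xMap k r p.2)) = p
    rw [nfA_zero_combo, nfA_one_combo]

theorem nfEquiv_apply (a : ArSing.ring k r) : nfEquiv k r a = (nfA k r 0 a, nfA k r 1 a) := rfl

end cont

end Groth.Agent.Lib.helper10.ArNF
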