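import Mathlib
import Groth.Prelude.Def_W4c1arstab1appArSing
import Groth.Agent.Lib.Helper10.ArNF

set_option linter.style.haveILetI false
set_option linter.unusedSectionVars false

universe u

namespace Groth.Agent.Lib.helper10.ArNF

open MvPowerSeries

variable (k : Type u) [Field k] (r : ℕ)

theorem aug_xMap (f : PowerSeries k) : aug k r (ArSing.xMap k r f) = PowerSeries.constantCoeff f := by
  rw [xMap_apply, aug_mk]
  have h := cf_iota f 0 0
  rw [if_pos rfl] at h
  have h0 : idx 0 0 = 0 := by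
    ext i
    fin_cases i
    · exact idx_zero 0 0
    · exact idx_one 0 0
  unfold cf at h
  rw [h0, MvPowerSeries.coeff_zero_eq_constantCoeff_apply] at h
  rw [h, PowerSeries.coeff_zero_eq_constantCoeff_apply]

theorem aug_x : aug k r (ArSing.x k r) = 0 := by
  rw [← xMap_X, aug_xMap, PowerSeries.constantCoeff_X]

theorem aug_y : aug k r (ArSing.y k r) = 0 := by
  change aug k r (mkR k r (X 1)) = 0
  rw [aug_mk, MvPowerSeries.constantCoeff_X]

theorem aug_eq (a : ArSing.ring k r) :
    aug k r a = PowerSeries.constantCoeff (nfA k r 0 a) := by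
  conv_lhs => rw [decomp k r a]
  rw [map_add, map_mul, aug_y, zero_mul, add_zero, aug_xMap]

theorem mem_maximalIdeal_iff (a : ArSing.ring k r) :
    a ∈ IsLocalRing.maximalIdeal (ArSing.ring k r) ↔ aug k r a = 0 := by
  constructor
  · intro h
    by_contra hne
    have h1 := sub_aug_mem_maximalIdeal k r a
    have h2 : algebraMap k (ArSing.ring k r) (aug k r a) ∈
        IsLocalRing.maximalIdeal (ArSing.ring k r) := by
      have := Ideal.sub_mem _ h h1
      rwa [sub_sub_cancel] at this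
    rw [IsLocalRing.mem_maximalIdeal, mem_nonunits_iff] at h2
    exact h2 ((isUnit_iff_ne_zero.mpr hne).map (algebraMap k (ArSing.ring k r)))
  · intro h
    have h1 := sub_aug_mem_maximalIdeal k r a
    rwa [h, map_zero, sub_zero] at h1

theorem x_mem_maximalIdeal : ArSing.x k r ∈ IsLocalRing.maximalIdeal (ArSing.ring k r) :=
  (mem_maximalIdeal_iff k r _).mpr (aug_x k r)

theorem y_mem_maximalIdeal : ArSing.y k r ∈ IsLocalRing.maximalIdeal (ArSing.ring k r) :=
  (mem_maximalIdeal_iff k r _).mpr (aug_y k r)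

/-- `y` is a nonzerodivisor. -/
theorem y_mem_nonZeroDivisors : ArSing.y k r ∈ nonZeroDivisors (ArSing.ring k r) := by
  rw [mem_nonZeroDivisors_iff_right]
  intro z hz
  rw [mul_comm] at hz
  have h0 := nfA_zero_y_mul k r z
  have h1 := nfA_one_y_mul k r z
  rw [hz, nfA_zero' k r (by omega)] at h0 h1
  rw [eq_zero_iff]
  refine ⟨h1.symm, ?_⟩
  rcases mul_eq_zero.mp h0.symm with h | h
  · exact absurd h (pow_ne_zero _ PowerSeries.X_ne_zero)
  · exact h

/-- `x` is a nonzerodivisor. -/
theorem x_mem_nonZeroDivisors : ArSing.x k r ∈ nonZeroDivisors (ArSing.ring k r) := by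
  rw [mem_nonZeroDivisors_iff_right]
  intro z hz
  rw [mul_comm] at hz
  have h0 := nfA_x_pow_mul k r 0 (by omega) 1 z
  have h1 := nfA_x_pow_mul k r 1 (by omega) 1 z
  rw [pow_one, hz, nfA_zero' k r (by omega), pow_one] at h0 h1
  rw [eq_zero_iff]
  constructor
  · rcases mul_eq_zero.mp h0.symm with h | h
    · exact absurd h PowerSeries.X_ne_zero
    · exact h
  · rcases mul_eq_zero.mp h1.symm with h | h
    · exact absurd h PowerSeries.X_ne_zero
    · exact h

/-- membership in `(y)`. -/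
theorem mem_span_y_iff (a : ArSing.ring k r) :
    a ∈ Ideal.span {ArSing.y k r} ↔ PowerSeries.X ^ (r + 1) ∣ nfA k r 0 a := by
  rw [Ideal.mem_span_singleton]
  constructor
  · rintro ⟨b, rfl⟩
    rw [nfA_zero_y_mul]
    exact ⟨_, rfl⟩
  · rintro ⟨h, hh⟩
    refine ⟨ArSing.y k r * ArSing.xMap k r h + ArSing.xMap k r (nfA k r 1 a), ?_⟩
    conv_lhs => rw [decomp k r a, hh, map_mul, ← y_mul_y]
    ring

/-- membership in `(x)`. -/
theorem mem_span_x_iff (a : ArSing.ring k r) :
    a ∈ Ideal.span {ArSing.x k r} ↔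
      PowerSeries.X ∣ nfA k r 0 a ∧ PowerSeries.X ∣ nfA k r 1 a := by
  rw [Ideal.mem_span_singleton]
  constructor
  · rintro ⟨b, rfl⟩
    have h0 := nfA_x_pow_mul k r 0 (by omega) 1 b
    have h1 := nfA_x_pow_mul k r 1 (by omega) 1 b
    rw [pow_one, pow_one] at h0 h1
    exact ⟨⟨_, h0⟩, ⟨_, h1⟩⟩
  · rintro ⟨⟨f, hf⟩, ⟨g, hg⟩⟩
    refine ⟨ArSing.xMap k r f + ArSing.y k r * ArSing.xMap k r g, ?_⟩
    conv_lhs => rw [decomp k r a, hf, hg, map_mul, map_mul, xMap_X]
    ring

/-- a quotient of `A_r` with an explicit finite-dimensional model has that length. -/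
theorem length_quotient_eq {n : ℕ} (J : Ideal (ArSing.ring k r))
    (L : ArSing.ring k r →ₗ[k] (Fin n → k)) (hsurj : Function.Surjective L)
    (hker : ∀ a, a ∈ J ↔ L a = 0) :
    Module.length (ArSing.ring k r) (ArSing.ring k r ⧸ J) = n := by
  have hk : LinearMap.ker L = J.restrictScalars k := by
    ext a
    rw [LinearMap.mem_ker, Submodule.restrictScalars_mem, hker]
  let e : (ArSing.ring k r ⧸ J) ≃ₗ[k] (Fin n → k) :=
    (Submodule.Quotient.restrictScalarsEquiv k J).symm ≪≫ₗ
      (Submodule.quotEquivOfEq _ _ hk.symm) ≪≫ₗ L.quotKerEquivOfSurjective hsurj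
  haveI : Module.Finite k (ArSing.ring k r ⧸ J) := Module.Finite.equiv e.symm
  rw [length_eq_finrank k r, e.finrank_eq, Module.finrank_fin_fun]

end Groth.Agent.Lib.helper10.ArNF
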