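import Mathlib
import Groth.Prelude.Def_W4c1arstab1appArSing
import Groth.Agent.Lib.Helper10.ArNF2

set_option linter.style.haveILetI false
set_option linter.unusedSectionVars false

universe u

namespace Groth.Agent.Lib.helper10.ArNF

open MvPowerSeries

variable (k : Type u) [Field k] (r : ℕ)

/-- `rescale c` as a `k`-algebra map. -/
noncomputable def rescaleAlg (c : k) : PowerSeries k →ₐ[k] PowerSeries k :=
  { PowerSeries.rescale c with
    commutes' := by
      intro a
      ext n
      change PowerSeries.coeff n (PowerSeries.rescale c (PowerSeries.C a)) =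
        PowerSeries.coeff n (PowerSeries.C a)
      rw [PowerSeries.coeff_rescale, PowerSeries.coeff_C]
      split_ifs with h
      · rw [h, pow_zero, one_mul]
      · rw [mul_zero] }

theorem rescaleAlg_apply (c : k) (f : PowerSeries k) :
    rescaleAlg k c f = PowerSeries.rescale c f := rfl

/-- a `k`-algebra endomorphism of `A_r` negating `x` acts on `f(x)` by `t ↦ -t`. -/
theorem algHom_xMap_of_neg (τ : ArSing.ring k r →ₐ[k] ArSing.ring k r)
    (hτ : τ (ArSing.x k r) = -ArSing.x k r) (f : PowerSeries k) :
    τ (ArSing.xMap k r f) = ArSing.xMap k r (PowerSeries.rescale (-1 : k) f) := by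
  have h : τ.comp (ArSing.xMap k r) = (ArSing.xMap k r).comp (rescaleAlg k (-1)) := by
    apply algHom_ext_of_X
    · rw [AlgHom.comp_apply, xMap_X, hτ, AlgHom.comp_apply, rescaleAlg_apply,
        PowerSeries.rescale_neg_one_X, map_neg, xMap_X]
    · refine ⟨1, ?_⟩
      rw [AlgHom.comp_apply, xMap_X, hτ, pow_one]
      exact (dvd_neg (a := ArSing.x k r) (b := ArSing.x k r)).mpr (dvd_refl _)
  exact DFunLike.congr_fun h f

/-- even part of a power series. -/
noncomputable def evenPart (f : PowerSeries k) : PowerSeries k :=
  PowerSeries.mk fun n => PowerSeries.coeff (2 * n) f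

/-- odd part of a power series. -/
noncomputable def oddPart (f : PowerSeries k) : PowerSeries k :=
  PowerSeries.mk fun n => PowerSeries.coeff (2 * n + 1) f

/-- the expansion `t ↦ t^2`. -/
noncomputable abbrev ex2 : PowerSeries k →ₐ[k] PowerSeries k := PowerSeries.expand 2 two_ne_zero

theorem coeff_combo_even (u v : PowerSeries k) (n : ℕ) :
    PowerSeries.coeff (2 * n) (ex2 k u + PowerSeries.X * ex2 k v) = PowerSeries.coeff n u := by
  rw [map_add, PowerSeries.coeff_expand_mul]
  cases n with
  | zero => rw [mul_zero, PowerSeries.coeff_zero_X_mul, add_zero]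
  | succ n =>
    have : 2 * (n + 1) = (2 * n + 1) + 1 := by ring
    rw [this, PowerSeries.coeff_succ_X_mul, PowerSeries.coeff_expand_of_not_dvd, add_zero]
    omega

theorem coeff_combo_odd (u v : PowerSeries k) (n : ℕ) :
    PowerSeries.coeff (2 * n + 1) (ex2 k u + PowerSeries.X * ex2 k v) = PowerSeries.coeff n v := by
  rw [map_add, PowerSeries.coeff_succ_X_mul, PowerSeries.coeff_expand_mul,
    PowerSeries.coeff_expand_of_not_dvd, zero_add]
  omega

theorem even_odd_decomp (f : PowerSeries k) :
    f = ex2 k (evenPart k f) + PowerSeries.X * ex2 k (oddPart k f) := by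
  ext n
  rcases Nat.even_or_odd' n with ⟨j, rfl | rfl⟩
  · rw [coeff_combo_even]
    unfold evenPart
    rw [PowerSeries.coeff_mk]
  · rw [coeff_combo_odd]
    unfold oddPart
    rw [PowerSeries.coeff_mk]

theorem evenPart_combo (u v : PowerSeries k) :
    evenPart k (ex2 k u + PowerSeries.X * ex2 k v) = u := by
  ext n
  unfold evenPart
  rw [PowerSeries.coeff_mk, coeff_combo_even]

theorem oddPart_combo (u v : PowerSeries k) :
    oddPart k (ex2 k u + PowerSeries.X * ex2 k v) = v := by
  ext n
  unfold oddPart
  rw [PowerSeries.coeff_mk, coeff_combo_odd]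

theorem combo_eq_zero_iff (u v : PowerSeries k) :
    ex2 k u + PowerSeries.X * ex2 k v = 0 ↔ u = 0 ∧ v = 0 := by
  constructor
  · intro h
    have h1 := evenPart_combo k u v
    have h2 := oddPart_combo k u v
    rw [h] at h1 h2
    constructor
    · rw [← h1]
      ext n
      unfold evenPart
      rw [PowerSeries.coeff_mk]
      rfl
    · rw [← h2]
      ext n
      unfold oddPart
      rw [PowerSeries.coeff_mk]
      rfl
  · rintro ⟨rfl, rfl⟩
    rw [map_zero, mul_zero, add_zero]

theorem evenPart_rescale (f : PowerSeries k) :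
    evenPart k (PowerSeries.rescale (-1 : k) f) = evenPart k f := by
  ext n
  unfold evenPart
  rw [PowerSeries.coeff_mk, PowerSeries.coeff_mk, PowerSeries.coeff_rescale, pow_mul]
  norm_num

theorem oddPart_rescale (f : PowerSeries k) :
    oddPart k (PowerSeries.rescale (-1 : k) f) = -oddPart k f := by
  ext n
  unfold oddPart
  rw [map_neg, PowerSeries.coeff_mk, PowerSeries.coeff_mk, PowerSeries.coeff_rescale, pow_succ,
    pow_mul]
  norm_num

theorem rescale_eq_combo (f : PowerSeries k) :
    PowerSeries.rescale (-1 : k) f =
      ex2 k (evenPart k f) + PowerSeries.X * ex2 k (-oddPart k f) := by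
  conv_lhs => rw [even_odd_decomp k (PowerSeries.rescale (-1 : k) f)]
  rw [evenPart_rescale, oddPart_rescale]

theorem eq_of_parts {f g : PowerSeries k} (he : evenPart k f = evenPart k g)
    (ho : oddPart k f = oddPart k g) : f = g := by
  rw [even_odd_decomp k f, even_odd_decomp k g, he, ho]

theorem evenPart_add (f g : PowerSeries k) : evenPart k (f + g) = evenPart k f + evenPart k g := by
  ext n
  unfold evenPart
  simp

theorem oddPart_add (f g : PowerSeries k) : oddPart k (f + g) = oddPart k f + oddPart k g := by
  ext n
  unfold oddPart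
  simp

theorem evenPart_zero : evenPart k (0 : PowerSeries k) = 0 := by
  ext n
  unfold evenPart
  simp

theorem oddPart_zero : oddPart k (0 : PowerSeries k) = 0 := by
  ext n
  unfold oddPart
  simp

/-- `f(-t) = f(t)` iff the odd part vanishes. -/
theorem rescale_eq_self_iff (h2 : (2 : k) ≠ 0) (f : PowerSeries k) :
    PowerSeries.rescale (-1 : k) f = f ↔ oddPart k f = 0 := by
  constructor
  · intro h
    have h1 := oddPart_rescale k f
    rw [h] at h1
    have h3 : (2 : k) • oddPart k f = 0 := by
      rw [two_smul]
      nth_rewrite 1 [h1]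
      exact neg_add_cancel _
    rcases smul_eq_zero.mp h3 with h | h
    · exact absurd h h2
    · exact h
  · intro h
    apply eq_of_parts
    · exact evenPart_rescale k f
    · rw [oddPart_rescale, h, neg_zero]

/-- `f(-t) = -f(t)` iff the even part vanishes. -/
theorem rescale_eq_neg_iff (h2 : (2 : k) ≠ 0) (f : PowerSeries k) :
    PowerSeries.rescale (-1 : k) f = -f ↔ evenPart k f = 0 := by
  have hneg_e : evenPart k (-f) = -evenPart k f := by
    ext n
    unfold evenPart
    simp
  have hneg_o : oddPart k (-f) = -oddPart k f := by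
    ext n
    unfold oddPart
    simp
  constructor
  · intro h
    have h1 := evenPart_rescale k f
    rw [h, hneg_e] at h1
    have h3 : (2 : k) • evenPart k f = 0 := by
      rw [two_smul]
      nth_rewrite 1 [← h1]
      exact neg_add_cancel _
    rcases smul_eq_zero.mp h3 with h | h
    · exact absurd h h2
    · exact h
  · intro h
    apply eq_of_parts
    · rw [evenPart_rescale, hneg_e, h, neg_zero]
    · rw [oddPart_rescale, hneg_o]

end Groth.Agent.Lib.helper10.ArNF
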