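import Mathlib
import Groth.Prelude.Def_W4c1arstab1appArSing
import Groth.Agent.Lib.Helper10.ArNF3

set_option linter.style.haveILetI false
set_option linter.unusedSectionVars false

universe u

namespace Groth.Agent.Lib.helper10.ArNF

open MvPowerSeries

variable (k : Type u) [Field k]

/-- general uniqueness principle for `k`-algebra maps out of `k[[t]]`. -/
theorem algHom_ext_of_X_gen {B : Type*} [CommRing B] [Algebra k B] (ξ : B)
    (hsep : ∀ b : B, (∀ N : ℕ, ξ ^ N ∣ b) → b = 0)
    (g1 g2 : PowerSeries k →ₐ[k] B) (hX : g1 PowerSeries.X = g2 PowerSeries.X)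
    (hdiv : ∃ m : ℕ, ξ ∣ g1 PowerSeries.X ^ m) : g1 = g2 := by
  obtain ⟨m, hm⟩ := hdiv
  ext f
  rw [← sub_eq_zero]
  apply hsep
  intro N
  have hf := PowerSeries.eq_X_pow_mul_shift_add_trunc (m * N) f
  obtain ⟨h, hh⟩ : ∃ h : PowerSeries k, h = PowerSeries.mk fun i => PowerSeries.coeff (i + m * N) f :=
    ⟨_, rfl⟩
  rw [← hh] at hf
  have e1 : g1 f - g2 f = g1 PowerSeries.X ^ (m * N) * (g1 h - g2 h) := by
    conv_lhs => rw [hf]
    rw [map_add, map_add, map_mul, map_mul, map_pow, map_pow, ← hX,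
      algHom_coe_eq k g1 g2 hX]
    ring
  rw [e1, pow_mul]
  exact Dvd.dvd.mul_right (pow_dvd_pow_of_dvd hm N) _

theorem powerSeries_sep (b : PowerSeries k) (h : ∀ N : ℕ, (PowerSeries.X : PowerSeries k) ^ N ∣ b) :
    b = 0 := by
  ext n
  rw [map_zero]
  exact (PowerSeries.X_pow_dvd_iff.mp (h (n + 1))) n (by omega)

/-- two `k`-algebra maps `A_r → k[[t]]` agreeing on `x` and `y` are equal. -/
theorem algHom_ext_xy (r : ℕ) (g1 g2 : ArSing.ring k r →ₐ[k] PowerSeries k)
    (hx : g1 (ArSing.x k r) = g2 (ArSing.x k r)) (hy : g1 (ArSing.y k r) = g2 (ArSing.y k r))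
    (hdiv : PowerSeries.X ∣ g1 (ArSing.x k r)) : g1 = g2 := by
  have h : g1.comp (ArSing.xMap k r) = g2.comp (ArSing.xMap k r) := by
    apply algHom_ext_of_X_gen k PowerSeries.X (powerSeries_sep k)
    · rw [AlgHom.comp_apply, AlgHom.comp_apply, xMap_X, hx]
    · exact ⟨1, by rw [AlgHom.comp_apply, xMap_X, pow_one]; exact hdiv⟩
  apply AlgHom.ext
  intro a
  have h' : ∀ f, g1 (ArSing.xMap k r f) = g2 (ArSing.xMap k r f) := fun f => DFunLike.congr_fun h f
  rw [decomp k r a, map_add, map_add, map_mul, map_mul, h', h', hy]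

theorem nfA_zero_algebraMap (r : ℕ) (c : k) :
    nfA k r 0 (algebraMap k (ArSing.ring k r) c) = algebraMap k (PowerSeries k) c := by
  rw [← AlgHom.commutes (ArSing.xMap k r), nfA_zero_xMap]

theorem nfA_one_algebraMap (r : ℕ) (c : k) :
    nfA k r 1 (algebraMap k (ArSing.ring k r) c) = 0 := by
  rw [← AlgHom.commutes (ArSing.xMap k r), nfA_one_xMap]

theorem nfA_one_one (r : ℕ) : nfA k r 1 (1 : ArSing.ring k r) = 0 := by
  have := nfA_one_xMap k r 1
  rwa [map_one] at this

/-- the branch `y = x` of the node. -/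
noncomputable def piP : ArSing.ring k 1 →ₐ[k] PowerSeries k where
  toFun a := nfA k 1 0 a + PowerSeries.X * nfA k 1 1 a
  map_one' := by
    rw [nfA_zero_one, nfA_one_one, mul_zero, add_zero]
  map_mul' a a' := by
    rw [nfA_zero_mul, nfA_one_mul]
    ring
  map_zero' := by
    rw [nfA_zero' k 1 (by omega), nfA_zero' k 1 (by omega), mul_zero, add_zero]
  map_add' a a' := by
    rw [nfA_add k 1 (by omega), nfA_add k 1 (by omega)]
    ring
  commutes' c := by
    rw [nfA_zero_algebraMap, nfA_one_algebraMap, mul_zero, add_zero]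

/-- the branch `y = -x` of the node. -/
noncomputable def piM : ArSing.ring k 1 →ₐ[k] PowerSeries k where
  toFun a := nfA k 1 0 a - PowerSeries.X * nfA k 1 1 a
  map_one' := by
    rw [nfA_zero_one, nfA_one_one, mul_zero, sub_zero]
  map_mul' a a' := by
    rw [nfA_zero_mul, nfA_one_mul]
    ring
  map_zero' := by
    rw [nfA_zero' k 1 (by omega), nfA_zero' k 1 (by omega), mul_zero, sub_zero]
  map_add' a a' := by
    rw [nfA_add k 1 (by omega), nfA_add k 1 (by omega)]
    ring
  commutes' c := by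
    rw [nfA_zero_algebraMap, nfA_one_algebraMap, mul_zero, sub_zero]

theorem piP_apply (a : ArSing.ring k 1) :
    piP k a = nfA k 1 0 a + PowerSeries.X * nfA k 1 1 a := rfl

theorem piM_apply (a : ArSing.ring k 1) :
    piM k a = nfA k 1 0 a - PowerSeries.X * nfA k 1 1 a := rfl

theorem piP_x : piP k (ArSing.x k 1) = PowerSeries.X := by
  rw [piP_apply, ← xMap_X, nfA_zero_xMap, nfA_one_xMap, mul_zero, add_zero]

theorem piM_x : piM k (ArSing.x k 1) = PowerSeries.X := by
  rw [piM_apply, ← xMap_X, nfA_zero_xMap, nfA_one_xMap, mul_zero, sub_zero]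

theorem piP_y : piP k (ArSing.y k 1) = PowerSeries.X := by
  rw [piP_apply, nfA_zero_y, nfA_one_y, mul_one, zero_add]

theorem piM_y : piM k (ArSing.y k 1) = -PowerSeries.X := by
  rw [piM_apply, nfA_zero_y, nfA_one_y, mul_one, zero_sub]

theorem two_ne_zero_ps (h2 : (2 : k) ≠ 0) : (2 : PowerSeries k) ≠ 0 := by
  intro h
  have := congrArg PowerSeries.constantCoeff h
  rw [map_ofNat, map_zero] at this
  exact h2 this

/-- joint injectivity of the two branches. -/
theorem eq_zero_of_pi (h2 : (2 : k) ≠ 0) (a : ArSing.ring k 1) (hP : piP k a = 0)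
    (hM : piM k a = 0) : a = 0 := by
  rw [piP_apply] at hP
  rw [piM_apply] at hM
  have h0 : (2 : PowerSeries k) * nfA k 1 0 a = 0 := by linear_combination hP + hM
  have h1 : (2 : PowerSeries k) * (PowerSeries.X * nfA k 1 1 a) = 0 := by
    linear_combination hP - hM
  have h2' := two_ne_zero_ps k h2
  rw [eq_zero_iff]
  constructor
  · rcases mul_eq_zero.mp h0 with h | h
    · exact absurd h h2'
    · exact h
  · rcases mul_eq_zero.mp h1 with h | h
    · exact absurd h h2'
    · rcases mul_eq_zero.mp h with h | h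
      · exact absurd h PowerSeries.X_ne_zero
      · exact h

theorem eq_of_pi (h2 : (2 : k) ≠ 0) (a a' : ArSing.ring k 1) (hP : piP k a = piP k a')
    (hM : piM k a = piM k a') : a = a' := by
  rw [← sub_eq_zero]
  apply eq_zero_of_pi k h2
  · rw [map_sub, hP, sub_self]
  · rw [map_sub, hM, sub_self]

/-- the image of `(π₊, π₋)` is the fibre product over the constant term. -/
theorem exists_of_pi (h2 : (2 : k) ≠ 0) (p q : PowerSeries k)
    (hpq : PowerSeries.constantCoeff p = PowerSeries.constantCoeff q) :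
    ∃ b : ArSing.ring k 1, piP k b = p ∧ piM k b = q := by
  have hdvd : PowerSeries.X ∣ PowerSeries.C (2⁻¹ : k) * (p - q) := by
    rw [PowerSeries.X_dvd_iff, map_mul, map_sub, hpq, sub_self, mul_zero]
  obtain ⟨G, hG⟩ := hdvd
  have hc : PowerSeries.C (2⁻¹ : k) * 2 = 1 := by
    have : (2 : PowerSeries k) = PowerSeries.C (2 : k) := by rw [map_ofNat]
    rw [this, ← map_mul, inv_mul_cancel₀ h2, map_one]
  refine ⟨ArSing.xMap k 1 (PowerSeries.C (2⁻¹ : k) * (p + q)) + ArSing.y k 1 * ArSing.xMap k 1 G,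
    ?_, ?_⟩
  · rw [piP_apply, nfA_zero_combo, nfA_one_combo, ← hG]
    linear_combination p * hc
  · rw [piM_apply, nfA_zero_combo, nfA_one_combo, ← hG]
    linear_combination q * hc

/-- the kernel of the branch `y = x` is `(y - x)`. -/
theorem piP_eq_zero_iff (a : ArSing.ring k 1) :
    piP k a = 0 ↔ a ∈ Ideal.span {ArSing.y k 1 - ArSing.x k 1} := by
  rw [Ideal.mem_span_singleton]
  constructor
  · intro h
    rw [piP_apply] at h
    refine ⟨ArSing.xMap k 1 (nfA k 1 1 a), ?_⟩
    have h' : nfA k 1 0 a = -(PowerSeries.X * nfA k 1 1 a) := by linear_combination h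
    conv_lhs => rw [decomp k 1 a, h', map_neg, map_mul, xMap_X]
    ring
  · rintro ⟨b, rfl⟩
    rw [map_mul, map_sub, piP_x, piP_y, sub_self, zero_mul]

end Groth.Agent.Lib.helper10.ArNF
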