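import Mathlib
import Groth.Prelude.Def_W4c1arstab1appArSing
import Groth.Agent.Lib.Helper10.ArNF4

set_option linter.style.haveILetI false
set_option linter.unusedSectionVars false

universe u

namespace Groth.Agent.Lib.helper10.ArNF

open MvPowerSeries

variable (k : Type u) [Field k] (r m : ℕ) (hr : r + 1 = 2 * m)

theorem X_pow_r (hr : r + 1 = 2 * m) :
    (PowerSeries.X : PowerSeries k) ^ (r + 1) = PowerSeries.X ^ m * PowerSeries.X ^ m := by
  rw [hr, two_mul, pow_add]

/-- the branch `y = x^m` of `y^2 = x^(2m)`. -/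
noncomputable def brP (hr : r + 1 = 2 * m) : ArSing.ring k r →ₐ[k] PowerSeries k where
  toFun a := nfA k r 0 a + PowerSeries.X ^ m * nfA k r 1 a
  map_one' := by
    rw [nfA_zero_one, nfA_one_one, mul_zero, add_zero]
  map_mul' a a' := by
    rw [nfA_zero_mul, nfA_one_mul, X_pow_r k r m hr]
    ring
  map_zero' := by
    rw [nfA_zero' k r (by omega), nfA_zero' k r (by omega), mul_zero, add_zero]
  map_add' a a' := by
    rw [nfA_add k r (by omega), nfA_add k r (by omega)]
    ring
  commutes' c := by
    rw [nfA_zero_algebraMap, nfA_one_algebraMap, mul_zero, add_zero]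

/-- the branch `y = -x^m` of `y^2 = x^(2m)`. -/
noncomputable def brM (hr : r + 1 = 2 * m) : ArSing.ring k r →ₐ[k] PowerSeries k where
  toFun a := nfA k r 0 a - PowerSeries.X ^ m * nfA k r 1 a
  map_one' := by
    rw [nfA_zero_one, nfA_one_one, mul_zero, sub_zero]
  map_mul' a a' := by
    rw [nfA_zero_mul, nfA_one_mul, X_pow_r k r m hr]
    ring
  map_zero' := by
    rw [nfA_zero' k r (by omega), nfA_zero' k r (by omega), mul_zero, sub_zero]
  map_add' a a' := by
    rw [nfA_add k r (by omega), nfA_add k r (by omega)]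
    ring
  commutes' c := by
    rw [nfA_zero_algebraMap, nfA_one_algebraMap, mul_zero, sub_zero]

theorem brP_apply (a : ArSing.ring k r) :
    brP k r m hr a = nfA k r 0 a + PowerSeries.X ^ m * nfA k r 1 a := rfl

theorem brM_apply (a : ArSing.ring k r) :
    brM k r m hr a = nfA k r 0 a - PowerSeries.X ^ m * nfA k r 1 a := rfl

theorem brP_xMap (f : PowerSeries k) : brP k r m hr (ArSing.xMap k r f) = f := by
  rw [brP_apply, nfA_zero_xMap, nfA_one_xMap, mul_zero, add_zero]

theorem brM_xMap (f : PowerSeries k) : brM k r m hr (ArSing.xMap k r f) = f := by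
  rw [brM_apply, nfA_zero_xMap, nfA_one_xMap, mul_zero, sub_zero]

theorem brP_x : brP k r m hr (ArSing.x k r) = PowerSeries.X := by
  rw [← xMap_X, brP_xMap]

theorem brM_x : brM k r m hr (ArSing.x k r) = PowerSeries.X := by
  rw [← xMap_X, brM_xMap]

theorem brP_y : brP k r m hr (ArSing.y k r) = PowerSeries.X ^ m := by
  rw [brP_apply, nfA_zero_y, nfA_one_y, mul_one, zero_add]

theorem brM_y : brM k r m hr (ArSing.y k r) = -PowerSeries.X ^ m := by
  rw [brM_apply, nfA_zero_y, nfA_one_y, mul_one, zero_sub]

theorem brP_surjective : Function.Surjective (brP k r m hr) :=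
  fun f => ⟨_, brP_xMap k r m hr f⟩

theorem brM_surjective : Function.Surjective (brM k r m hr) :=
  fun f => ⟨_, brM_xMap k r m hr f⟩

theorem br_sub_dvd (a : ArSing.ring k r) :
    PowerSeries.X ^ m ∣ brP k r m hr a - brM k r m hr a := by
  rw [brP_apply, brM_apply]
  exact ⟨2 * nfA k r 1 a, by ring⟩

/-- joint injectivity of the two branches. -/
theorem eq_zero_of_br (h2 : (2 : k) ≠ 0) (a : ArSing.ring k r) (hP : brP k r m hr a = 0)
    (hM : brM k r m hr a = 0) : a = 0 := by
  rw [brP_apply] at hP
  rw [brM_apply] at hM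
  have h0 : (2 : PowerSeries k) * nfA k r 0 a = 0 := by linear_combination hP + hM
  have h1 : (2 : PowerSeries k) * (PowerSeries.X ^ m * nfA k r 1 a) = 0 := by
    linear_combination hP - hM
  have h2' := two_ne_zero_ps k h2
  rw [eq_zero_iff]
  constructor
  · rcases mul_eq_zero.mp h0 with h | h
    · exact absurd h h2'
    · exact h
  · rcases mul_eq_zero.mp h1 with h | h
    · exact absurd h h2'
    · rcases mul_eq_zero.mp h with h | h
      · exact absurd h (pow_ne_zero _ PowerSeries.X_ne_zero)
      · exact h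

theorem eq_of_br (h2 : (2 : k) ≠ 0) (a a' : ArSing.ring k r)
    (hP : brP k r m hr a = brP k r m hr a') (hM : brM k r m hr a = brM k r m hr a') : a = a' := by
  rw [← sub_eq_zero]
  apply eq_zero_of_br k r m hr h2
  · rw [map_sub, hP, sub_self]
  · rw [map_sub, hM, sub_self]

/-- the image of the two branches is the fibre product modulo `t^m`. -/
theorem exists_of_br (h2 : (2 : k) ≠ 0) (p q : PowerSeries k)
    (hpq : PowerSeries.X ^ m ∣ p - q) :
    ∃ b : ArSing.ring k r, brP k r m hr b = p ∧ brM k r m hr b = q := by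
  obtain ⟨G, hG⟩ := hpq
  have hc : PowerSeries.C (2⁻¹ : k) * 2 = 1 := by
    have : (2 : PowerSeries k) = PowerSeries.C (2 : k) := by rw [map_ofNat]
    rw [this, ← map_mul, inv_mul_cancel₀ h2, map_one]
  refine ⟨ArSing.xMap k r (PowerSeries.C (2⁻¹ : k) * (p + q)) +
    ArSing.y k r * ArSing.xMap k r (PowerSeries.C (2⁻¹ : k) * G), ?_, ?_⟩
  · rw [brP_apply, nfA_zero_combo, nfA_one_combo]
    have : PowerSeries.X ^ m * (PowerSeries.C (2⁻¹ : k) * G) =
        PowerSeries.C (2⁻¹ : k) * (p - q) := by
      rw [hG]
      ring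
    rw [this]
    linear_combination p * hc
  · rw [brM_apply, nfA_zero_combo, nfA_one_combo]
    have : PowerSeries.X ^ m * (PowerSeries.C (2⁻¹ : k) * G) =
        PowerSeries.C (2⁻¹ : k) * (p - q) := by
      rw [hG]
      ring
    rw [this]
    linear_combination q * hc

/-- the kernel of the branch `y = x^m`. -/
theorem brP_eq_zero_iff (a : ArSing.ring k r) :
    brP k r m hr a = 0 ↔ a ∈ Ideal.span {ArSing.y k r - ArSing.x k r ^ m} := by
  rw [Ideal.mem_span_singleton]
  constructor
  · intro h
    rw [brP_apply] at h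
    refine ⟨ArSing.xMap k r (nfA k r 1 a), ?_⟩
    have h' : nfA k r 0 a = -(PowerSeries.X ^ m * nfA k r 1 a) := by linear_combination h
    conv_lhs => rw [decomp k r a, h', map_neg, map_mul, map_pow, xMap_X]
    ring
  · rintro ⟨b, rfl⟩
    rw [map_mul, map_sub, map_pow, brP_x, brP_y, sub_self, zero_mul]

/-- the kernel of the branch `y = -x^m`. -/
theorem brM_eq_zero_iff (a : ArSing.ring k r) :
    brM k r m hr a = 0 ↔ a ∈ Ideal.span {ArSing.y k r + ArSing.x k r ^ m} := by
  rw [Ideal.mem_span_singleton]
  constructor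
  · intro h
    rw [brM_apply] at h
    refine ⟨ArSing.xMap k r (nfA k r 1 a), ?_⟩
    have h' : nfA k r 0 a = PowerSeries.X ^ m * nfA k r 1 a := by linear_combination h
    conv_lhs => rw [decomp k r a, h', map_mul, map_pow, xMap_X]
    ring
  · rintro ⟨b, rfl⟩
    rw [map_mul, map_add, map_pow, brM_x, brM_y, neg_add_cancel, zero_mul]

theorem y_sub_mul_y_add (hr : r + 1 = 2 * m) :
    (ArSing.y k r - ArSing.x k r ^ m) * (ArSing.y k r + ArSing.x k r ^ m) = 0 := by
  have h := y_mul_y k r
  rw [map_pow, xMap_X, hr, two_mul, pow_add] at h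
  linear_combination h

/-- a map to `k[[t]]` killing `y - x^m` factors through the branch `y = x^m`. -/
theorem factor_brP (g : ArSing.ring k r →ₐ[k] PowerSeries k)
    (hg : g (ArSing.y k r) = g (ArSing.x k r) ^ m) (a : ArSing.ring k r) :
    g a = g (ArSing.xMap k r (brP k r m hr a)) := by
  rw [brP_apply, map_add, map_mul, map_pow, xMap_X, map_add, map_mul, map_pow, ← hg]
  conv_lhs => rw [decomp k r a, map_add, map_mul]

/-- a map to `k[[t]]` killing `y + x^m` factors through the branch `y = -x^m`. -/
theorem factor_brM (g : ArSing.ring k r →ₐ[k] PowerSeries k)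
    (hg : g (ArSing.y k r) = -g (ArSing.x k r) ^ m) (a : ArSing.ring k r) :
    g a = g (ArSing.xMap k r (brM k r m hr a)) := by
  rw [brM_apply, map_sub, map_mul, map_pow, xMap_X, map_sub, map_mul, map_pow]
  conv_lhs => rw [decomp k r a, map_add, map_mul, hg]
  ring

section lift

variable {B : Type*} [CommRing B] [Algebra k B] (h2 : (2 : k) ≠ 0)
  (gP gM : B →ₐ[k] PowerSeries k) (hg : ∀ b, PowerSeries.X ^ m ∣ gP b - gM b)

/-- the universal property of the fibre product: underlying function. -/
noncomputable def liftFun (b : B) : ArSing.ring k r :=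
  Classical.choose (exists_of_br k r m hr h2 (gP b) (gM b) (hg b))

theorem brP_liftFun (b : B) : brP k r m hr (liftFun k r m hr h2 gP gM hg b) = gP b :=
  (Classical.choose_spec (exists_of_br k r m hr h2 (gP b) (gM b) (hg b))).1

theorem brM_liftFun (b : B) : brM k r m hr (liftFun k r m hr h2 gP gM hg b) = gM b :=
  (Classical.choose_spec (exists_of_br k r m hr h2 (gP b) (gM b) (hg b))).2

/-- the universal property of the fibre product. -/
noncomputable def liftBr : B →ₐ[k] ArSing.ring k r where
  toFun := liftFun k r m hr h2 gP gM hg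
  map_one' := by
    apply eq_of_br k r m hr h2
    · rw [brP_liftFun, map_one, map_one]
    · rw [brM_liftFun, map_one, map_one]
  map_mul' b b' := by
    apply eq_of_br k r m hr h2
    · rw [brP_liftFun, map_mul, map_mul, brP_liftFun, brP_liftFun]
    · rw [brM_liftFun, map_mul, map_mul, brM_liftFun, brM_liftFun]
  map_zero' := by
    apply eq_of_br k r m hr h2
    · rw [brP_liftFun, map_zero, map_zero]
    · rw [brM_liftFun, map_zero, map_zero]
  map_add' b b' := by
    apply eq_of_br k r m hr h2
    · rw [brP_liftFun, map_add, map_add, brP_liftFun, brP_liftFun]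
    · rw [brM_liftFun, map_add, map_add, brM_liftFun, brM_liftFun]
  commutes' c := by
    apply eq_of_br k r m hr h2
    · rw [brP_liftFun, AlgHom.commutes, AlgHom.commutes]
    · rw [brM_liftFun, AlgHom.commutes, AlgHom.commutes]

theorem brP_liftBr (b : B) : brP k r m hr (liftBr k r m hr h2 gP gM hg b) = gP b :=
  brP_liftFun k r m hr h2 gP gM hg b

theorem brM_liftBr (b : B) : brM k r m hr (liftBr k r m hr h2 gP gM hg b) = gM b :=
  brM_liftFun k r m hr h2 gP gM hg b

end lift

/-- `k`-algebra endomorphisms of `k[[t]]` preserve the constant coefficient. -/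
theorem constantCoeff_algHom (τ : PowerSeries k →ₐ[k] PowerSeries k) (f : PowerSeries k) :
    PowerSeries.constantCoeff (τ f) = PowerSeries.constantCoeff f := by
  have hX : PowerSeries.constantCoeff (τ PowerSeries.X) = 0 := by
    by_contra hne
    have hu : IsUnit (PowerSeries.X - PowerSeries.C (PowerSeries.constantCoeff (τ PowerSeries.X))) := by
      rw [PowerSeries.isUnit_iff_constantCoeff, map_sub, PowerSeries.constantCoeff_X,
        PowerSeries.constantCoeff_C, zero_sub]
      exact (isUnit_iff_ne_zero.mpr hne).neg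
    have hu' := hu.map τ
    rw [map_sub] at hu'
    have hc : τ (PowerSeries.C (PowerSeries.constantCoeff (τ PowerSeries.X))) =
        PowerSeries.C (PowerSeries.constantCoeff (τ PowerSeries.X)) := τ.commutes _
    rw [hc, PowerSeries.isUnit_iff_constantCoeff, map_sub, PowerSeries.constantCoeff_C,
      sub_self] at hu'
    exact not_isUnit_zero hu'
  have hf := PowerSeries.eq_X_mul_shift_add_const f
  conv_lhs => rw [hf]
  have hc : τ (PowerSeries.C (PowerSeries.constantCoeff f)) =
      PowerSeries.C (PowerSeries.constantCoeff f) := τ.commutes _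
  rw [map_add, map_mul, hc, map_add, map_mul, hX, zero_mul, zero_add, PowerSeries.constantCoeff_C]

end Groth.Agent.Lib.helper10.ArNF
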