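import Mathlib
import Groth.Prelude.Def_W4c1arstab1appArSing
import Groth.Agent.Lib.Helper10.ArNF5

set_option linter.style.haveILetI false
set_option linter.unusedSectionVars false

universe u

namespace Groth.Agent.Lib.helper10.ArNF

open MvPowerSeries

variable (k : Type u) [Field k] (r m : ℕ) (hr : r + 1 = 2 * m) (h2 : (2 : k) ≠ 0)

theorem brM_y_sub : brM k r m hr (ArSing.y k r - ArSing.x k r ^ m) = -2 * PowerSeries.X ^ m := by
  rw [map_sub, map_pow, brM_x, brM_y]
  ring

theorem brP_y_add : brP k r m hr (ArSing.y k r + ArSing.x k r ^ m) = 2 * PowerSeries.X ^ m := by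
  rw [map_add, map_pow, brP_x, brP_y]
  ring

theorem two_X_pow_ne_zero (h2 : (2 : k) ≠ 0) : (2 : PowerSeries k) * PowerSeries.X ^ m ≠ 0 :=
  mul_ne_zero (two_ne_zero_ps k h2) (pow_ne_zero _ PowerSeries.X_ne_zero)

/-- an automorphism either preserves or exchanges the two branches. -/
theorem preserve_or_swap (h2 : (2 : k) ≠ 0) (σ : ArSing.ring k r ≃ₐ[k] ArSing.ring k r) :
    (brP k r m hr (σ (ArSing.y k r - ArSing.x k r ^ m)) = 0 ∧
      brM k r m hr (σ (ArSing.y k r + ArSing.x k r ^ m)) = 0) ∨
    (brP k r m hr (σ (ArSing.y k r + ArSing.x k r ^ m)) = 0 ∧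
      brM k r m hr (σ (ArSing.y k r - ArSing.x k r ^ m)) = 0) := by
  have h0 := y_sub_mul_y_add k r m hr
  have hP : brP k r m hr (σ (ArSing.y k r - ArSing.x k r ^ m)) *
      brP k r m hr (σ (ArSing.y k r + ArSing.x k r ^ m)) = 0 := by
    rw [← map_mul, ← map_mul, h0, map_zero, map_zero]
  have hM : brM k r m hr (σ (ArSing.y k r - ArSing.x k r ^ m)) *
      brM k r m hr (σ (ArSing.y k r + ArSing.x k r ^ m)) = 0 := by
    rw [← map_mul, ← map_mul, h0, map_zero, map_zero]
  have hne1 : ArSing.y k r - ArSing.x k r ^ m ≠ 0 := by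
    intro h
    have := brM_y_sub k r m hr
    rw [h, map_zero] at this
    have h3 := two_X_pow_ne_zero k m h2
    apply h3
    linear_combination this
  have hne2 : ArSing.y k r + ArSing.x k r ^ m ≠ 0 := by
    intro h
    have := brP_y_add k r m hr
    rw [h, map_zero] at this
    exact two_X_pow_ne_zero k m h2 this.symm
  rcases mul_eq_zero.mp hP with h | h
  · left
    refine ⟨h, ?_⟩
    rcases mul_eq_zero.mp hM with h' | h'
    · exfalso
      have := eq_zero_of_br k r m hr h2 _ h h'
      rw [map_eq_zero_iff σ σ.injective] at this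
      exact hne1 this
    · exact h'
  · right
    refine ⟨h, ?_⟩
    rcases mul_eq_zero.mp hM with h' | h'
    · exact h'
    · exfalso
      have := eq_zero_of_br k r m hr h2 _ h h'
      rw [map_eq_zero_iff σ σ.injective] at this
      exact hne2 this

section preserve

variable (σ : ArSing.ring k r ≃ₐ[k] ArSing.ring k r)

/-- the map induced on the branch `y = x^m`. -/
noncomputable def indPP : PowerSeries k →ₐ[k] PowerSeries k :=
  ((brP k r m hr).comp (σ : ArSing.ring k r →ₐ[k] ArSing.ring k r)).comp (ArSing.xMap k r)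

/-- the map induced on the branch `y = -x^m`. -/
noncomputable def indMM : PowerSeries k →ₐ[k] PowerSeries k :=
  ((brM k r m hr).comp (σ : ArSing.ring k r →ₐ[k] ArSing.ring k r)).comp (ArSing.xMap k r)

theorem indPP_apply (f : PowerSeries k) :
    indPP k r m hr σ f = brP k r m hr (σ (ArSing.xMap k r f)) := rfl

theorem indMM_apply (f : PowerSeries k) :
    indMM k r m hr σ f = brM k r m hr (σ (ArSing.xMap k r f)) := rfl

theorem brP_sigma_of_preserve
    (h : brP k r m hr (σ (ArSing.y k r - ArSing.x k r ^ m)) = 0) (a : ArSing.ring k r) :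
    brP k r m hr (σ a) = indPP k r m hr σ (brP k r m hr a) := by
  rw [indPP_apply]
  have hg : ((brP k r m hr).comp (σ : ArSing.ring k r →ₐ[k] ArSing.ring k r)) (ArSing.y k r) =
      ((brP k r m hr).comp (σ : ArSing.ring k r →ₐ[k] ArSing.ring k r)) (ArSing.x k r) ^ m := by
    change brP k r m hr (σ (ArSing.y k r)) = brP k r m hr (σ (ArSing.x k r)) ^ m
    rw [map_sub, map_sub, map_pow, map_pow, sub_eq_zero] at h
    exact h
  exact factor_brP k r m hr _ hg a

theorem brM_sigma_of_preserve
    (h : brM k r m hr (σ (ArSing.y k r + ArSing.x k r ^ m)) = 0) (a : ArSing.ring k r) :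
    brM k r m hr (σ a) = indMM k r m hr σ (brM k r m hr a) := by
  rw [indMM_apply]
  have hg : ((brM k r m hr).comp (σ : ArSing.ring k r →ₐ[k] ArSing.ring k r)) (ArSing.y k r) =
      -((brM k r m hr).comp (σ : ArSing.ring k r →ₐ[k] ArSing.ring k r)) (ArSing.x k r) ^ m := by
    change brM k r m hr (σ (ArSing.y k r)) = -brM k r m hr (σ (ArSing.x k r)) ^ m
    rw [map_add, map_add, map_pow, map_pow] at h
    linear_combination h
  exact factor_brM k r m hr _ hg a

theorem brP_sigma_of_swap
    (h : brP k r m hr (σ (ArSing.y k r + ArSing.x k r ^ m)) = 0) (a : ArSing.ring k r) :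
    brP k r m hr (σ a) = indPP k r m hr σ (brM k r m hr a) := by
  rw [indPP_apply]
  have hg : ((brP k r m hr).comp (σ : ArSing.ring k r →ₐ[k] ArSing.ring k r)) (ArSing.y k r) =
      -((brP k r m hr).comp (σ : ArSing.ring k r →ₐ[k] ArSing.ring k r)) (ArSing.x k r) ^ m := by
    change brP k r m hr (σ (ArSing.y k r)) = -brP k r m hr (σ (ArSing.x k r)) ^ m
    rw [map_add, map_add, map_pow, map_pow] at h
    linear_combination h
  exact factor_brM k r m hr _ hg a

theorem brM_sigma_of_swap
    (h : brM k r m hr (σ (ArSing.y k r - ArSing.x k r ^ m)) = 0) (a : ArSing.ring k r) :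
    brM k r m hr (σ a) = indMM k r m hr σ (brP k r m hr a) := by
  rw [indMM_apply]
  have hg : ((brM k r m hr).comp (σ : ArSing.ring k r →ₐ[k] ArSing.ring k r)) (ArSing.y k r) =
      ((brM k r m hr).comp (σ : ArSing.ring k r →ₐ[k] ArSing.ring k r)) (ArSing.x k r) ^ m := by
    change brM k r m hr (σ (ArSing.y k r)) = brM k r m hr (σ (ArSing.x k r)) ^ m
    rw [map_sub, map_sub, map_pow, map_pow, sub_eq_zero] at h
    exact h
  exact factor_brP k r m hr _ hg a

end preserve

/-- an involutive `k`-algebra endomorphism of `k[[t]]` as an equivalence. -/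
noncomputable def equivOfInvol (τ : PowerSeries k →ₐ[k] PowerSeries k) (hτ : ∀ f, τ (τ f) = f) :
    PowerSeries k ≃ₐ[k] PowerSeries k :=
  AlgEquiv.ofAlgHom τ τ (AlgHom.ext hτ) (AlgHom.ext hτ)

theorem equivOfInvol_apply (τ : PowerSeries k →ₐ[k] PowerSeries k) (hτ : ∀ f, τ (τ f) = f)
    (f : PowerSeries k) : equivOfInvol k τ hτ f = τ f := rfl

section build

variable (α β : PowerSeries k ≃ₐ[k] PowerSeries k)

/-- the automorphism acting by `α` on the branch `y = x^m` and by `β` on the branch `y = -x^m`. -/
noncomputable def straight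
    (hc : ∀ a, PowerSeries.X ^ m ∣ α (brP k r m hr a) - β (brM k r m hr a))
    (hc' : ∀ a, PowerSeries.X ^ m ∣ α.symm (brP k r m hr a) - β.symm (brM k r m hr a)) :
    ArSing.ring k r ≃ₐ[k] ArSing.ring k r :=
  AlgEquiv.ofAlgHom
    (liftBr k r m hr h2 ((α : PowerSeries k →ₐ[k] PowerSeries k).comp (brP k r m hr))
      ((β : PowerSeries k →ₐ[k] PowerSeries k).comp (brM k r m hr)) hc)
    (liftBr k r m hr h2 ((α.symm : PowerSeries k →ₐ[k] PowerSeries k).comp (brP k r m hr))
      ((β.symm : PowerSeries k →ₐ[k] PowerSeries k).comp (brM k r m hr)) hc')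
    (by
      apply AlgHom.ext
      intro a
      apply eq_of_br k r m hr h2
      · change brP k r m hr (liftBr k r m hr h2 _ _ hc (liftBr k r m hr h2 _ _ hc' a)) = _
        rw [brP_liftBr]
        change α (brP k r m hr (liftBr k r m hr h2 _ _ hc' a)) = _
        rw [brP_liftBr]
        change α (α.symm (brP k r m hr a)) = _
        rw [AlgEquiv.apply_symm_apply]
        rfl
      · change brM k r m hr (liftBr k r m hr h2 _ _ hc (liftBr k r m hr h2 _ _ hc' a)) = _
        rw [brM_liftBr]
        change β (brM k r m hr (liftBr k r m hr h2 _ _ hc' a)) = _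
        rw [brM_liftBr]
        change β (β.symm (brM k r m hr a)) = _
        rw [AlgEquiv.apply_symm_apply]
        rfl)
    (by
      apply AlgHom.ext
      intro a
      apply eq_of_br k r m hr h2
      · change brP k r m hr (liftBr k r m hr h2 _ _ hc' (liftBr k r m hr h2 _ _ hc a)) = _
        rw [brP_liftBr]
        change α.symm (brP k r m hr (liftBr k r m hr h2 _ _ hc a)) = _
        rw [brP_liftBr]
        change α.symm (α (brP k r m hr a)) = _
        rw [AlgEquiv.symm_apply_apply]
        rfl
      · change brM k r m hr (liftBr k r m hr h2 _ _ hc' (liftBr k r m hr h2 _ _ hc a)) = _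
        rw [brM_liftBr]
        change β.symm (brM k r m hr (liftBr k r m hr h2 _ _ hc a)) = _
        rw [brM_liftBr]
        change β.symm (β (brM k r m hr a)) = _
        rw [AlgEquiv.symm_apply_apply]
        rfl)

variable (hc : ∀ a, PowerSeries.X ^ m ∣ α (brP k r m hr a) - β (brM k r m hr a))
  (hc' : ∀ a, PowerSeries.X ^ m ∣ α.symm (brP k r m hr a) - β.symm (brM k r m hr a))

theorem brP_straight (a : ArSing.ring k r) :
    brP k r m hr (straight k r m hr h2 α β hc hc' a) = α (brP k r m hr a) :=
  brP_liftBr k r m hr h2 _ _ hc a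

theorem brM_straight (a : ArSing.ring k r) :
    brM k r m hr (straight k r m hr h2 α β hc hc' a) = β (brM k r m hr a) :=
  brM_liftBr k r m hr h2 _ _ hc a

theorem brP_straight_symm (a : ArSing.ring k r) :
    brP k r m hr ((straight k r m hr h2 α β hc hc').symm a) = α.symm (brP k r m hr a) :=
  brP_liftBr k r m hr h2 _ _ hc' a

theorem brM_straight_symm (a : ArSing.ring k r) :
    brM k r m hr ((straight k r m hr h2 α β hc hc').symm a) = β.symm (brM k r m hr a) :=
  brM_liftBr k r m hr h2 _ _ hc' a

/-- the automorphism exchanging the branches, acting by `α` from the branch `y = -x^m` to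
`y = x^m` and by `β` the other way. -/
noncomputable def cross
    (hd : ∀ a, PowerSeries.X ^ m ∣ α (brM k r m hr a) - β (brP k r m hr a))
    (hd' : ∀ a, PowerSeries.X ^ m ∣ β.symm (brM k r m hr a) - α.symm (brP k r m hr a)) :
    ArSing.ring k r ≃ₐ[k] ArSing.ring k r :=
  AlgEquiv.ofAlgHom
    (liftBr k r m hr h2 ((α : PowerSeries k →ₐ[k] PowerSeries k).comp (brM k r m hr))
      ((β : PowerSeries k →ₐ[k] PowerSeries k).comp (brP k r m hr)) hd)
    (liftBr k r m hr h2 ((β.symm : PowerSeries k →ₐ[k] PowerSeries k).comp (brM k r m hr))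
      ((α.symm : PowerSeries k →ₐ[k] PowerSeries k).comp (brP k r m hr)) hd')
    (by
      apply AlgHom.ext
      intro a
      apply eq_of_br k r m hr h2
      · change brP k r m hr (liftBr k r m hr h2 _ _ hd (liftBr k r m hr h2 _ _ hd' a)) = _
        rw [brP_liftBr]
        change α (brM k r m hr (liftBr k r m hr h2 _ _ hd' a)) = _
        rw [brM_liftBr]
        change α (α.symm (brP k r m hr a)) = _
        rw [AlgEquiv.apply_symm_apply]
        rfl
      · change brM k r m hr (liftBr k r m hr h2 _ _ hd (liftBr k r m hr h2 _ _ hd' a)) = _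
        rw [brM_liftBr]
        change β (brP k r m hr (liftBr k r m hr h2 _ _ hd' a)) = _
        rw [brP_liftBr]
        change β (β.symm (brM k r m hr a)) = _
        rw [AlgEquiv.apply_symm_apply]
        rfl)
    (by
      apply AlgHom.ext
      intro a
      apply eq_of_br k r m hr h2
      · change brP k r m hr (liftBr k r m hr h2 _ _ hd' (liftBr k r m hr h2 _ _ hd a)) = _
        rw [brP_liftBr]
        change β.symm (brM k r m hr (liftBr k r m hr h2 _ _ hd a)) = _
        rw [brM_liftBr]
        change β.symm (β (brP k r m hr a)) = _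
        rw [AlgEquiv.symm_apply_apply]
        rfl
      · change brM k r m hr (liftBr k r m hr h2 _ _ hd' (liftBr k r m hr h2 _ _ hd a)) = _
        rw [brM_liftBr]
        change α.symm (brP k r m hr (liftBr k r m hr h2 _ _ hd a)) = _
        rw [brP_liftBr]
        change α.symm (α (brM k r m hr a)) = _
        rw [AlgEquiv.symm_apply_apply]
        rfl)

variable (hd : ∀ a, PowerSeries.X ^ m ∣ α (brM k r m hr a) - β (brP k r m hr a))
  (hd' : ∀ a, PowerSeries.X ^ m ∣ β.symm (brM k r m hr a) - α.symm (brP k r m hr a))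

theorem brP_cross (a : ArSing.ring k r) :
    brP k r m hr (cross k r m hr h2 α β hd hd' a) = α (brM k r m hr a) :=
  brP_liftBr k r m hr h2 _ _ hd a

theorem brM_cross (a : ArSing.ring k r) :
    brM k r m hr (cross k r m hr h2 α β hd hd' a) = β (brP k r m hr a) :=
  brM_liftBr k r m hr h2 _ _ hd a

theorem brP_cross_symm (a : ArSing.ring k r) :
    brP k r m hr ((cross k r m hr h2 α β hd hd').symm a) = β.symm (brM k r m hr a) :=
  brP_liftBr k r m hr h2 _ _ hd' a

theorem brM_cross_symm (a : ArSing.ring k r) :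
    brM k r m hr ((cross k r m hr h2 α β hd hd').symm a) = α.symm (brP k r m hr a) :=
  brM_liftBr k r m hr h2 _ _ hd' a

end build

end Groth.Agent.Lib.helper10.ArNF
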