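import Mathlib
import Groth.Prelude.Def_W4c1arstab1appArSing
import Groth.Agent.Lib.Helper10.ArNF6

set_option linter.style.haveILetI false
set_option linter.unusedSectionVars false

universe u

namespace Groth.Agent.Lib.helper10.ArNF

open MvPowerSeries

variable (k : Type u) [Field k]

theorem X_dvd_algHom_X (α : PowerSeries k →ₐ[k] PowerSeries k) :
    (PowerSeries.X : PowerSeries k) ∣ α PowerSeries.X := by
  rw [PowerSeries.X_dvd_iff, constantCoeff_algHom, PowerSeries.constantCoeff_X]

theorem algHom_coe_eq_aeval (α : PowerSeries k →ₐ[k] PowerSeries k) (p : Polynomial k) :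
    α (p : PowerSeries k) = Polynomial.aeval (α PowerSeries.X) p := by
  have h : α.comp (Polynomial.coeToPowerSeries.algHom k) = Polynomial.aeval (α PowerSeries.X) := by
    apply Polynomial.algHom_ext
    simp
  have := DFunLike.congr_fun h p
  simpa using this

/-- preservation of congruences modulo `t^m`. -/
theorem X_pow_dvd_algHom (m : ℕ) (α : PowerSeries k →ₐ[k] PowerSeries k) {p q : PowerSeries k}
    (h : PowerSeries.X ^ m ∣ p - q) : PowerSeries.X ^ m ∣ α p - α q := by
  obtain ⟨u, hu⟩ := h
  obtain ⟨w, hw⟩ := X_dvd_algHom_X k α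
  rw [← map_sub, hu, map_mul, map_pow, hw, mul_pow, mul_assoc]
  exact Dvd.intro _ rfl

/-- two endomorphisms congruent on `t` modulo `t^m` are congruent everywhere. -/
theorem X_pow_dvd_algHom_sub (m : ℕ) (α β : PowerSeries k →ₐ[k] PowerSeries k)
    (h : PowerSeries.X ^ m ∣ α PowerSeries.X - β PowerSeries.X) (f : PowerSeries k) :
    PowerSeries.X ^ m ∣ α f - β f := by
  have hf := PowerSeries.eq_X_pow_mul_shift_add_trunc m f
  obtain ⟨g, hg⟩ : ∃ g : PowerSeries k, g = PowerSeries.mk fun i => PowerSeries.coeff (i + m) f :=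
    ⟨_, rfl⟩
  rw [← hg] at hf
  obtain ⟨wa, hwa⟩ := X_dvd_algHom_X k α
  obtain ⟨wb, hwb⟩ := X_dvd_algHom_X k β
  have e : α f - β f = (α PowerSeries.X ^ m * α g - β PowerSeries.X ^ m * β g) +
      (α (PowerSeries.trunc m f : PowerSeries k) - β (PowerSeries.trunc m f : PowerSeries k)) := by
    conv_lhs => rw [hf]
    rw [map_add, map_add, map_mul, map_mul, map_pow, map_pow]
    ring
  rw [e]
  apply dvd_add
  · apply dvd_sub
    · rw [hwa, mul_pow, mul_assoc]
      exact Dvd.intro _ rfl
    · rw [hwb, mul_pow, mul_assoc]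
      exact Dvd.intro _ rfl
  · rw [algHom_coe_eq_aeval, algHom_coe_eq_aeval, ← Polynomial.eval_map_algebraMap,
      ← Polynomial.eval_map_algebraMap]
    exact dvd_trans h (Polynomial.sub_dvd_eval_sub _ _ _)

/-- the coefficient of `t` of a composite. -/
theorem coeff_one_algHom (α : PowerSeries k →ₐ[k] PowerSeries k) (g : PowerSeries k)
    (hg : PowerSeries.constantCoeff g = 0) :
    PowerSeries.coeff 1 (α g) = PowerSeries.coeff 1 (α PowerSeries.X) * PowerSeries.coeff 1 g := by
  obtain ⟨h, rfl⟩ := PowerSeries.X_dvd_iff.mpr hg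
  rw [map_mul, PowerSeries.coeff_one_mul, constantCoeff_algHom, constantCoeff_algHom,
    PowerSeries.constantCoeff_X, mul_zero, add_zero]
  have : PowerSeries.coeff 1 (PowerSeries.X * h) = PowerSeries.constantCoeff h := by
    rw [PowerSeries.coeff_succ_X_mul, PowerSeries.coeff_zero_eq_constantCoeff_apply]
  rw [this]

/-- substitution automorphisms. -/
theorem exists_algEquiv_X (g : PowerSeries k) (hg0 : PowerSeries.constantCoeff g = 0)
    (hg1 : PowerSeries.coeff 1 g ≠ 0) :
    ∃ φ : PowerSeries k ≃ₐ[k] PowerSeries k, φ PowerSeries.X = g := by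
  have hgu : IsUnit (PowerSeries.coeff 1 g) := isUnit_iff_ne_zero.mpr hg1
  have hgS : PowerSeries.HasSubst g := PowerSeries.HasSubst.of_constantCoeff_zero' hg0
  obtain ⟨Q, hQ⟩ : ∃ Q, Q = PowerSeries.substInvOfIsUnit g hgu := ⟨_, rfl⟩
  have hQS : PowerSeries.HasSubst Q := by
    rw [hQ]
    exact PowerSeries.HasSubst.substInvOfIsUnit g hgu
  have hr : g.subst Q = PowerSeries.X := by
    rw [hQ]
    exact PowerSeries.subst_substInvOfIsUnit_right g hg0 hgu
  have hl : Q.subst g = PowerSeries.X := by
    rw [hQ]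
    exact PowerSeries.subst_substInvOfIsUnit_left g hg0 hgu
  refine ⟨AlgEquiv.ofAlgHom (PowerSeries.substAlgHom hgS) (PowerSeries.substAlgHom hQS)
      (by
        apply AlgHom.ext
        intro f
        simp only [AlgHom.comp_apply, PowerSeries.coe_substAlgHom, AlgHom.id_apply]
        rw [PowerSeries.subst_comp_subst_apply hQS hgS, hl, PowerSeries.X_subst])
      (by
        apply AlgHom.ext
        intro f
        simp only [AlgHom.comp_apply, PowerSeries.coe_substAlgHom, AlgHom.id_apply]
        rw [PowerSeries.subst_comp_subst_apply hgS hQS, hr, PowerSeries.X_subst]), ?_⟩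
  change PowerSeries.substAlgHom hgS PowerSeries.X = g
  exact PowerSeries.substAlgHom_X hgS

/-- `t ↦ ξ t` as an equivalence when `ξ^2 = 1`. -/
noncomputable def rescaleEquiv (ξ : k) (hξ : ξ * ξ = 1) : PowerSeries k ≃ₐ[k] PowerSeries k :=
  equivOfInvol k (rescaleAlg k ξ) (by
    intro f
    rw [rescaleAlg_apply, rescaleAlg_apply, PowerSeries.rescale_rescale, hξ,
      PowerSeries.rescale_one]
    rfl)

theorem rescaleEquiv_apply (ξ : k) (hξ : ξ * ξ = 1) (f : PowerSeries k) :
    rescaleEquiv k ξ hξ f = PowerSeries.rescale ξ f := rfl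

theorem rescaleEquiv_symm_apply (ξ : k) (hξ : ξ * ξ = 1) (f : PowerSeries k) :
    (rescaleEquiv k ξ hξ).symm f = PowerSeries.rescale ξ f := rfl

section compat

variable (r m : ℕ) (hr : r + 1 = 2 * m) (α β : PowerSeries k ≃ₐ[k] PowerSeries k)

/-- compatibility of a pair of automorphisms congruent modulo `t^m`. -/
theorem compat_of_X (h : PowerSeries.X ^ m ∣ α PowerSeries.X - β PowerSeries.X)
    (a : ArSing.ring k r) :
    PowerSeries.X ^ m ∣ α (brP k r m hr a) - β (brM k r m hr a) := by
  have h1 := X_pow_dvd_algHom k m (α : PowerSeries k →ₐ[k] PowerSeries k) (br_sub_dvd k r m hr a)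
  have h3 := X_pow_dvd_algHom_sub k m (α : PowerSeries k →ₐ[k] PowerSeries k)
    (β : PowerSeries k →ₐ[k] PowerSeries k) h (brM k r m hr a)
  have e : α (brP k r m hr a) - β (brM k r m hr a) =
      (α (brP k r m hr a) - α (brM k r m hr a)) + (α (brM k r m hr a) - β (brM k r m hr a)) := by
    ring
  rw [e]
  exact dvd_add h1 h3

theorem symm_X_dvd (h : PowerSeries.X ^ m ∣ α PowerSeries.X - β PowerSeries.X) :
    PowerSeries.X ^ m ∣ α.symm PowerSeries.X - β.symm PowerSeries.X := by
  have h3 := X_pow_dvd_algHom_sub k m (β : PowerSeries k →ₐ[k] PowerSeries k)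
    (α : PowerSeries k →ₐ[k] PowerSeries k)
    (by
      have : (β : PowerSeries k →ₐ[k] PowerSeries k) PowerSeries.X -
          (α : PowerSeries k →ₐ[k] PowerSeries k) PowerSeries.X =
          -(α PowerSeries.X - β PowerSeries.X) := by
        change β PowerSeries.X - α PowerSeries.X = _
        ring
      rw [this]
      exact (dvd_neg).mpr h) (β.symm PowerSeries.X)
  have h4 := X_pow_dvd_algHom k m (α.symm : PowerSeries k →ₐ[k] PowerSeries k) h3
  change PowerSeries.X ^ m ∣ α.symm (β (β.symm PowerSeries.X)) -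
    α.symm (α (β.symm PowerSeries.X)) at h4
  rw [AlgEquiv.apply_symm_apply, AlgEquiv.symm_apply_apply] at h4
  exact h4

theorem compat_symm_of_X (h : PowerSeries.X ^ m ∣ α PowerSeries.X - β PowerSeries.X)
    (a : ArSing.ring k r) :
    PowerSeries.X ^ m ∣ α.symm (brP k r m hr a) - β.symm (brM k r m hr a) :=
  compat_of_X k r m hr α.symm β.symm (symm_X_dvd k m α β h) a

end compat

end Groth.Agent.Lib.helper10.ArNF
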