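import Mathlib
import Groth.Prelude.Def_W4c1arstab1appArSing
import Groth.Agent.Lib.Helper10.ArNF7

set_option linter.style.haveILetI false
set_option linter.unusedSectionVars false

universe u

namespace Groth.Agent.Lib.helper10.ArNF

open MvPowerSeries

variable (k : Type u) [Field k]

/-- extracting the uniformiser from `Y^2 = X^(2n+1)` in `k[[t]]`. -/
theorem exists_root (n : ℕ) (X1 Y1 : PowerSeries k) (h : Y1 * Y1 = X1 ^ (2 * n + 1))
    (hX : X1 ≠ 0) (h0 : PowerSeries.constantCoeff X1 = 0) :
    ∃ S : PowerSeries k, S * S = X1 ∧ S ^ (2 * n + 1) = Y1 ∧ PowerSeries.constantCoeff S = 0 := by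
  have hY : Y1 ≠ 0 := by
    rintro rfl
    rw [mul_zero] at h
    exact hX (pow_eq_zero_iff (by omega) |>.mp h.symm)
  have hirr : Irreducible (PowerSeries.X : PowerSeries k) := PowerSeries.X_irreducible
  obtain ⟨a, u, hu⟩ := IsDiscreteValuationRing.eq_unit_mul_pow_irreducible hX hirr
  obtain ⟨b, w, hw⟩ := IsDiscreteValuationRing.eq_unit_mul_pow_irreducible hY hirr
  have h' : ((w * w : (PowerSeries k)ˣ) : PowerSeries k) * PowerSeries.X ^ (b + b) =
      ((u ^ (2 * n + 1) : (PowerSeries k)ˣ) : PowerSeries k) * PowerSeries.X ^ (a * (2 * n + 1)) := by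
    have e1 : ((w * w : (PowerSeries k)ˣ) : PowerSeries k) =
        (w : PowerSeries k) * (w : PowerSeries k) := Units.val_mul w w
    have e2 : ((u ^ (2 * n + 1) : (PowerSeries k)ˣ) : PowerSeries k) =
        (u : PowerSeries k) ^ (2 * n + 1) := Units.val_pow_eq_pow_val u _
    rw [e1, e2, pow_add, pow_mul]
    have e3 : (w : PowerSeries k) * (w : PowerSeries k) *
        (PowerSeries.X ^ b * PowerSeries.X ^ b) = Y1 * Y1 := by
      rw [hw]
      ring
    rw [e3, h, hu]
    ring
  have hab := IsDiscreteValuationRing.unit_mul_pow_congr_pow hirr hirr _ _ _ _ h'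
  have huw := IsDiscreteValuationRing.unit_mul_pow_congr_unit hirr _ _ _ _ h'
  have ha1 : 1 ≤ a := by
    by_contra hlt
    have ha0 : a = 0 := by omega
    rw [ha0, pow_zero, mul_one] at hu
    have := u.isUnit
    rw [← hu, PowerSeries.isUnit_iff_constantCoeff, h0] at this
    exact not_isUnit_zero this
  have hexp : a * (2 * n + 1) = 2 * (a * n) + a := by ring
  obtain ⟨e, he⟩ : ∃ e, e = b - a * n := ⟨_, rfl⟩
  have ha : a = 2 * e := by omega
  have hb : b = e + a * n := by omega
  have he1 : 1 ≤ e := by omega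
  obtain ⟨c, hc⟩ : ∃ c : (PowerSeries k)ˣ, c = w * (u⁻¹) ^ n := ⟨_, rfl⟩
  have hcc : c * c = u := by
    rw [hc, mul_mul_mul_comm, huw, ← pow_add, inv_pow, pow_succ, two_mul]
    rw [mul_comm (u ^ (n + n)) u, mul_assoc, mul_inv_cancel, mul_one]
  have hcn : c * u ^ n = w := by
    rw [hc, mul_assoc, inv_pow, inv_mul_cancel, mul_one]
  refine ⟨(c : PowerSeries k) * PowerSeries.X ^ e, ?_, ?_, ?_⟩
  · calc (c : PowerSeries k) * PowerSeries.X ^ e * ((c : PowerSeries k) * PowerSeries.X ^ e)
        = ((c * c : (PowerSeries k)ˣ) : PowerSeries k) * PowerSeries.X ^ (2 * e) := by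
          rw [Units.val_mul, two_mul, pow_add]
          ring
      _ = X1 := by rw [hcc, ← ha, ← hu]
  · have h1 : ((c : PowerSeries k) * PowerSeries.X ^ e) ^ (2 * n + 1) =
        ((c * (c * c) ^ n : (PowerSeries k)ˣ) : PowerSeries k) * PowerSeries.X ^ (e + 2 * e * n) := by
      have e1 : ((c * (c * c) ^ n : (PowerSeries k)ˣ) : PowerSeries k) =
          (c : PowerSeries k) * ((c : PowerSeries k) * (c : PowerSeries k)) ^ n := by
        rw [Units.val_mul, Units.val_pow_eq_pow_val, Units.val_mul]
      rw [e1]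
      ring
    rw [h1, hcc, hcn, hw, hb, ha]
  · rw [map_mul, map_pow, PowerSeries.constantCoeff_X, zero_pow (by omega), mul_zero]

section nu

variable (r : ℕ)

/-- the normalisation map `x ↦ t^2`, `y ↦ t^(r+1)`. -/
noncomputable def nu : ArSing.ring k r →ₐ[k] PowerSeries k where
  toFun a := ex2 k (nfA k r 0 a) + PowerSeries.X ^ (r + 1) * ex2 k (nfA k r 1 a)
  map_one' := by
    rw [nfA_zero_one, nfA_one_one, map_one, map_zero, mul_zero, add_zero]
  map_mul' a a' := by
    rw [nfA_zero_mul, nfA_one_mul, map_add, map_mul, map_mul, map_mul, map_pow, map_add, map_mul,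
      map_mul, PowerSeries.expand_X]
    ring
  map_zero' := by
    rw [nfA_zero' k r (by omega), nfA_zero' k r (by omega), map_zero, mul_zero, add_zero]
  map_add' a a' := by
    rw [nfA_add k r (by omega), nfA_add k r (by omega), map_add, map_add]
    ring
  commutes' c := by
    rw [nfA_zero_algebraMap, nfA_one_algebraMap, map_zero, mul_zero, add_zero]
    exact (ex2 k).commutes c

theorem nu_apply (a : ArSing.ring k r) :
    nu k r a = ex2 k (nfA k r 0 a) + PowerSeries.X ^ (r + 1) * ex2 k (nfA k r 1 a) := rfl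

theorem nu_x : nu k r (ArSing.x k r) = PowerSeries.X ^ 2 := by
  rw [nu_apply, ← xMap_X, nfA_zero_xMap, nfA_one_xMap, map_zero, mul_zero, add_zero,
    PowerSeries.expand_X]

theorem nu_y : nu k r (ArSing.y k r) = PowerSeries.X ^ (r + 1) := by
  rw [nu_apply, nfA_zero_y, nfA_one_y, map_zero, map_one, mul_one, zero_add]

theorem constantCoeff_nu (a : ArSing.ring k r) :
    PowerSeries.constantCoeff (nu k r a) = aug k r a := by
  rw [nu_apply, map_add, map_mul, map_pow, PowerSeries.constantCoeff_X, zero_pow (by omega),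
    zero_mul, add_zero, PowerSeries.constantCoeff_expand, aug_eq]

variable (m : ℕ)

theorem nu_eq (hr : r = 2 * m) (a : ArSing.ring k r) :
    nu k r a = ex2 k (nfA k r 0 a) +
      PowerSeries.X * ex2 k (PowerSeries.X ^ m * nfA k r 1 a) := by
  have e : (PowerSeries.X : PowerSeries k) ^ (r + 1) =
      PowerSeries.X * (PowerSeries.X ^ 2) ^ m := by
    rw [show r + 1 = 2 * m + 1 by omega]
    ring
  rw [nu_apply, map_mul, map_pow, PowerSeries.expand_X, e]
  ring

theorem evenPart_nu (hr : r = 2 * m) (a : ArSing.ring k r) :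
    evenPart k (nu k r a) = nfA k r 0 a := by
  rw [nu_eq k r m hr, evenPart_combo]

theorem oddPart_nu (hr : r = 2 * m) (a : ArSing.ring k r) :
    oddPart k (nu k r a) = PowerSeries.X ^ m * nfA k r 1 a := by
  rw [nu_eq k r m hr, oddPart_combo]

theorem nu_injective (hr : r = 2 * m) : Function.Injective (nu k r) := by
  rw [injective_iff_map_eq_zero]
  intro a ha
  rw [nu_eq k r m hr, combo_eq_zero_iff] at ha
  rw [eq_zero_iff]
  refine ⟨ha.1, ?_⟩
  rcases mul_eq_zero.mp ha.2 with h | h
  · exact absurd h (pow_ne_zero _ PowerSeries.X_ne_zero)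
  · exact h

/-- the image of the normalisation map. -/
theorem mem_range_nu (hr : r = 2 * m) (h : PowerSeries k) :
    (∃ a, nu k r a = h) ↔ PowerSeries.X ^ m ∣ oddPart k h := by
  constructor
  · rintro ⟨a, rfl⟩
    rw [oddPart_nu k r m hr]
    exact Dvd.intro _ rfl
  · rintro ⟨G, hG⟩
    refine ⟨ArSing.xMap k r (evenPart k h) + ArSing.y k r * ArSing.xMap k r G, ?_⟩
    rw [nu_eq k r m hr, nfA_zero_combo, nfA_one_combo, ← hG, ← even_odd_decomp]

end nu

/-- odd-coefficient criterion in terms of `t ↦ -t`. -/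
theorem oddPart_dvd_iff (h2 : (2 : k) ≠ 0) (m : ℕ) (h : PowerSeries k) :
    PowerSeries.X ^ m ∣ oddPart k h ↔
      PowerSeries.X ^ (2 * m) ∣ PowerSeries.rescale (-1 : k) h - h := by
  rw [PowerSeries.X_pow_dvd_iff, PowerSeries.X_pow_dvd_iff]
  constructor
  · intro hh n hn
    rw [map_sub, PowerSeries.coeff_rescale]
    rcases Nat.even_or_odd' n with ⟨j, rfl | rfl⟩
    · rw [pow_mul]
      norm_num
    · have := hh j (by omega)
      unfold oddPart at this
      rw [PowerSeries.coeff_mk] at this
      rw [this]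
      ring
  · intro hh j hj
    have := hh (2 * j + 1) (by omega)
    rw [map_sub, PowerSeries.coeff_rescale, pow_succ, pow_mul] at this
    unfold oddPart
    rw [PowerSeries.coeff_mk]
    have h3 : (-2 : k) * PowerSeries.coeff (2 * j + 1) h = 0 := by
      rw [← this]
      norm_num
      ring
    rcases mul_eq_zero.mp h3 with h4 | h4
    · exact absurd h4 (neg_ne_zero.mpr h2)
    · exact h4

/-- even-coefficient criterion in terms of `t ↦ -t`. -/
theorem evenPart_dvd_iff (h2 : (2 : k) ≠ 0) (m : ℕ) (g : PowerSeries k) :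
    PowerSeries.X ^ m ∣ evenPart k g ↔
      PowerSeries.X ^ (2 * m) ∣ PowerSeries.rescale (-1 : k) g + g := by
  rw [PowerSeries.X_pow_dvd_iff, PowerSeries.X_pow_dvd_iff]
  constructor
  · intro hh n hn
    rw [map_add, PowerSeries.coeff_rescale]
    rcases Nat.even_or_odd' n with ⟨j, rfl | rfl⟩
    · have := hh j (by omega)
      unfold evenPart at this
      rw [PowerSeries.coeff_mk] at this
      rw [this]
      ring
    · rw [pow_succ, pow_mul]
      norm_num
  · intro hh j hj
    have := hh (2 * j) (by omega)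
    rw [map_add, PowerSeries.coeff_rescale, pow_mul] at this
    unfold evenPart
    rw [PowerSeries.coeff_mk]
    have h3 : (2 : k) * PowerSeries.coeff (2 * j) g = 0 := by
      rw [← this]
      norm_num
      ring
    rcases mul_eq_zero.mp h3 with h4 | h4
    · exact absurd h4 h2
    · exact h4

end Groth.Agent.Lib.helper10.ArNF
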