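import Mathlib
import Groth.Prelude.Def_W4c1arstab1appArSing
import Groth.Agent.Lib.Helper10.ArNF8

set_option linter.style.haveILetI false
set_option linter.unusedSectionVars false

universe u v w

namespace Groth.Agent.Lib.helper10.ArNF

open MvPowerSeries

variable (k : Type u) [Field k]

theorem combo_mul_combo (a b c d : PowerSeries k) :
    (ex2 k a + PowerSeries.X * ex2 k b) * (ex2 k c + PowerSeries.X * ex2 k d) =
      ex2 k (a * c + PowerSeries.X * (b * d)) + PowerSeries.X * ex2 k (a * d + b * c) := by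
  rw [map_add, map_mul, map_mul, map_mul, map_add, map_mul, map_mul, PowerSeries.expand_X]
  ring

theorem oddPart_mul (f g : PowerSeries k) :
    oddPart k (f * g) = evenPart k f * oddPart k g + oddPart k f * evenPart k g := by
  conv_lhs => rw [even_odd_decomp k f, even_odd_decomp k g, combo_mul_combo, oddPart_combo]

theorem evenPart_mul (f g : PowerSeries k) :
    evenPart k (f * g) =
      evenPart k f * evenPart k g + PowerSeries.X * (oddPart k f * oddPart k g) := by
  conv_lhs => rw [even_odd_decomp k f, even_odd_decomp k g, combo_mul_combo, evenPart_combo]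

theorem constantCoeff_oddPart (f : PowerSeries k) :
    PowerSeries.constantCoeff (oddPart k f) = PowerSeries.coeff 1 f := by
  unfold oddPart
  rw [← PowerSeries.coeff_zero_eq_constantCoeff_apply, PowerSeries.coeff_mk]

section lift

variable {A : Type v} {B : Type w} [CommRing A] [CommRing B] [Algebra k A] [Algebra k B]

/-- lifting an endomorphism of `B` along an injective algebra map `A → B` whose image it
preserves. -/
noncomputable def liftInj (ν : A →ₐ[k] B) (hν : Function.Injective ν) (ψ : B →ₐ[k] B)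
    (h : ∀ a, ∃ a', ν a' = ψ (ν a)) : A →ₐ[k] A where
  toFun a := Classical.choose (h a)
  map_one' := hν (by rw [Classical.choose_spec (h 1), map_one, map_one])
  map_mul' a a' := hν (by
    rw [Classical.choose_spec (h (a * a')), map_mul, map_mul, map_mul,
      Classical.choose_spec (h a), Classical.choose_spec (h a')])
  map_zero' := hν (by rw [Classical.choose_spec (h 0), map_zero, map_zero])
  map_add' a a' := hν (by
    rw [Classical.choose_spec (h (a + a')), map_add, map_add, map_add,
      Classical.choose_spec (h a), Classical.choose_spec (h a')])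
  commutes' c := hν (by
    rw [Classical.choose_spec (h (algebraMap k A c)), AlgHom.commutes, AlgHom.commutes])

theorem liftInj_spec (ν : A →ₐ[k] B) (hν : Function.Injective ν) (ψ : B →ₐ[k] B)
    (h : ∀ a, ∃ a', ν a' = ψ (ν a)) (a : A) : ν (liftInj k ν hν ψ h a) = ψ (ν a) :=
  Classical.choose_spec (h a)

/-- lifting an automorphism. -/
theorem exists_liftEquiv (ν : A →ₐ[k] B) (hν : Function.Injective ν) (ψ : B ≃ₐ[k] B)
    (h : ∀ a, ∃ a', ν a' = ψ (ν a)) (h' : ∀ a, ∃ a', ν a' = ψ.symm (ν a)) :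
    ∃ Ψ : A ≃ₐ[k] A, (∀ a, ν (Ψ a) = ψ (ν a)) ∧ ∀ a, ν (Ψ.symm a) = ψ.symm (ν a) := by
  have h1 : ∀ a, ∃ a', ν a' = (ψ : B →ₐ[k] B) (ν a) := h
  have h2 : ∀ a, ∃ a', ν a' = (ψ.symm : B →ₐ[k] B) (ν a) := h'
  have s1 := liftInj_spec k ν hν (ψ : B →ₐ[k] B) h1
  have s2 := liftInj_spec k ν hν (ψ.symm : B →ₐ[k] B) h2
  refine ⟨AlgEquiv.ofAlgHom (liftInj k ν hν (ψ : B →ₐ[k] B) h1)
    (liftInj k ν hν (ψ.symm : B →ₐ[k] B) h2) ?_ ?_, ?_, ?_⟩
  · apply AlgHom.ext
    intro a
    apply hν
    rw [AlgHom.comp_apply, s1, s2, AlgHom.id_apply]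
    exact ψ.apply_symm_apply _
  · apply AlgHom.ext
    intro a
    apply hν
    rw [AlgHom.comp_apply, s2, s1, AlgHom.id_apply]
    exact ψ.symm_apply_apply _
  · intro a
    exact s1 a
  · intro a
    exact s2 a

end lift

section rho

variable (N : ℕ) (φ : PowerSeries k ≃ₐ[k] PowerSeries k)

/-- an automorphism anti-commuting with `t ↦ -t` modulo `t^N` preserves the subring of series
invariant under `t ↦ -t` modulo `t^N`. -/
theorem rho_preserve
    (hφ : PowerSeries.X ^ N ∣ PowerSeries.rescale (-1 : k) (φ PowerSeries.X) + φ PowerSeries.X)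
    (f : PowerSeries k) (hf : PowerSeries.X ^ N ∣ PowerSeries.rescale (-1 : k) f - f) :
    PowerSeries.X ^ N ∣ PowerSeries.rescale (-1 : k) (φ f) - φ f := by
  -- α = ρ ∘ φ ∘ ρ
  obtain ⟨α, hα⟩ : ∃ α : PowerSeries k →ₐ[k] PowerSeries k,
      α = ((rescaleAlg k (-1)).comp (φ : PowerSeries k →ₐ[k] PowerSeries k)).comp
        (rescaleAlg k (-1)) := ⟨_, rfl⟩
  have hαf : ∀ g, α g = PowerSeries.rescale (-1 : k) (φ (PowerSeries.rescale (-1 : k) g)) := by
    intro g
    rw [hα]
    rfl
  have hαX : α PowerSeries.X = -PowerSeries.rescale (-1 : k) (φ PowerSeries.X) := by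
    rw [hαf, PowerSeries.rescale_X, map_neg, map_one, neg_one_mul, map_neg, map_neg]
  have h1 : PowerSeries.X ^ N ∣ α PowerSeries.X - (φ : PowerSeries k →ₐ[k] PowerSeries k)
      PowerSeries.X := by
    rw [hαX]
    have : -PowerSeries.rescale (-1 : k) (φ PowerSeries.X) -
        (φ : PowerSeries k →ₐ[k] PowerSeries k) PowerSeries.X =
        -(PowerSeries.rescale (-1 : k) (φ PowerSeries.X) + φ PowerSeries.X) := by
      rw [AlgEquiv.coe_toAlgHom]
      ring
    rw [this]
    exact (dvd_neg).mpr hφ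
  have h2 := X_pow_dvd_algHom_sub k N α (φ : PowerSeries k →ₐ[k] PowerSeries k) h1 f
  rw [hαf] at h2
  have h3 := X_pow_dvd_algHom k N
    ((rescaleAlg k (-1)).comp (φ : PowerSeries k →ₐ[k] PowerSeries k)) hf
  have e : PowerSeries.rescale (-1 : k) (φ f) - φ f =
      (PowerSeries.rescale (-1 : k) (φ (PowerSeries.rescale (-1 : k) f)) -
        (φ : PowerSeries k →ₐ[k] PowerSeries k) f) -
      (((rescaleAlg k (-1)).comp (φ : PowerSeries k →ₐ[k] PowerSeries k))
          (PowerSeries.rescale (-1 : k) f) -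
        ((rescaleAlg k (-1)).comp (φ : PowerSeries k →ₐ[k] PowerSeries k)) f) := by
    rw [AlgHom.comp_apply, AlgHom.comp_apply, rescaleAlg_apply, rescaleAlg_apply,
      AlgEquiv.coe_toAlgHom]
    ring
  rw [e]
  exact dvd_sub h2 h3

theorem rho_symm
    (hφ : PowerSeries.X ^ N ∣ PowerSeries.rescale (-1 : k) (φ PowerSeries.X) + φ PowerSeries.X) :
    PowerSeries.X ^ N ∣
      PowerSeries.rescale (-1 : k) (φ.symm PowerSeries.X) + φ.symm PowerSeries.X := by
  have hm : (-1 : k) * (-1) = 1 := by ring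
  obtain ⟨α, hα⟩ : ∃ α : PowerSeries k ≃ₐ[k] PowerSeries k,
      α = (rescaleEquiv k (-1) hm).trans (φ.trans (rescaleEquiv k (-1) hm)) := ⟨_, rfl⟩
  have hαX : α PowerSeries.X = -PowerSeries.rescale (-1 : k) (φ PowerSeries.X) := by
    rw [hα, AlgEquiv.trans_apply, AlgEquiv.trans_apply, rescaleEquiv_apply, rescaleEquiv_apply,
      PowerSeries.rescale_X, map_neg, map_one, neg_one_mul, map_neg, map_neg]
  have hαsX : α.symm PowerSeries.X = -PowerSeries.rescale (-1 : k) (φ.symm PowerSeries.X) := by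
    have : α.symm = (rescaleEquiv k (-1) hm).symm.trans
        (φ.symm.trans (rescaleEquiv k (-1) hm).symm) := by
      rw [hα]
      rfl
    rw [this, AlgEquiv.trans_apply, AlgEquiv.trans_apply, rescaleEquiv_symm_apply,
      rescaleEquiv_symm_apply,
      PowerSeries.rescale_X, map_neg, map_one, neg_one_mul, map_neg, map_neg]
  have h1 : PowerSeries.X ^ N ∣ α PowerSeries.X - φ PowerSeries.X := by
    rw [hαX]
    have : -PowerSeries.rescale (-1 : k) (φ PowerSeries.X) - φ PowerSeries.X =
        -(PowerSeries.rescale (-1 : k) (φ PowerSeries.X) + φ PowerSeries.X) := by ring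
    rw [this]
    exact (dvd_neg).mpr hφ
  have h2 := symm_X_dvd k N α φ h1
  rw [hαsX] at h2
  have : PowerSeries.rescale (-1 : k) (φ.symm PowerSeries.X) + φ.symm PowerSeries.X =
      -(-PowerSeries.rescale (-1 : k) (φ.symm PowerSeries.X) - φ.symm PowerSeries.X) := by ring
  rw [this]
  exact (dvd_neg).mpr h2

end rho

end Groth.Agent.Lib.helper10.ArNF
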