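import Mathlib
import Groth.Agent.Lib.Helper10.AzHom

/-!
# Homomorphisms of Azumaya algebras of the same (pointwise) rank are bijective (helper10)
-/

set_option autoImplicit false
set_option linter.unusedSectionVars false
set_option linter.style.haveILetI false
open TensorProduct

namespace Groth.Agent.Lib.Helper10.AzHomRank

open Groth.Agent.Lib.helper8.Az

/-- an algebra homomorphism between Azumaya algebras of the same rank at every prime is
bijective -/
theorem bijective_algHom_of_rankAtStalk_eq (S : Type*) [CommRing S] (B C : Type*)
    [Ring B] [Ring C] [Algebra S B] [Algebra S C] [IsAzumaya S B] [IsAzumaya S C]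
    (h : ∀ q : PrimeSpectrum S, Module.rankAtStalk B q = Module.rankAtStalk C q)
    (φ : B →ₐ[S] C) : Function.Bijective φ := by
  classical
  have key : ∀ q : PrimeSpectrum S,
      Function.Bijective (LinearMap.lTensor q.asIdeal.ResidueField φ.toLinearMap) := by
    intro q
    let κ := q.asIdeal.ResidueField
    haveI : IsAzumaya κ (κ ⊗[S] B) := isAzumaya_baseChange S κ B
    haveI : IsAzumaya κ (κ ⊗[S] C) := isAzumaya_baseChange S κ C
    haveI : IsSimpleRing (κ ⊗[S] B) := isSimpleRing_of_isAzumaya_field κ _
    haveI : IsSimpleRing (κ ⊗[S] C) := isSimpleRing_of_isAzumaya_field κ _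
    let ψ : κ ⊗[S] B →ₐ[κ] κ ⊗[S] C := Algebra.TensorProduct.map (AlgHom.id κ κ) φ
    have hψfun : (ψ : κ ⊗[S] B → κ ⊗[S] C) = φ.toLinearMap.lTensor κ := by
      funext t
      induction t using TensorProduct.induction_on with
      | zero => simp
      | add a b ha hb => rw [map_add, map_add, ha, hb]
      | tmul a b => simp [ψ]
    have hinj : Function.Injective ψ := RingHom.injective ψ.toRingHom
    have hfr : Module.finrank κ (κ ⊗[S] B) = Module.finrank κ (κ ⊗[S] C) := by
      have h1 := Module.rankAtStalk_eq (M := B) q
      have h2 := Module.rankAtStalk_eq (M := C) q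
      exact h1.symm.trans ((h q).trans h2)
    have hsurj : Function.Surjective ψ :=
      (LinearMap.injective_iff_surjective_of_finrank_eq_finrank (f := ψ.toLinearMap) hfr).mp hinj
    rw [← hψfun]
    exact ⟨hinj, hsurj⟩
  exact bijective_of_detect φ.toLinearMap (fun q : PrimeSpectrum S => q.asIdeal.ResidueField)
    (fun h => subsingleton_of_forall_residueField S _ h)
    (fun hfin h => by haveI := hfin; exact subsingleton_of_forall_residueField S _ h) key

end Groth.Agent.Lib.Helper10.AzHomRank
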