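import Mathlib

/-!
# `R[X]/(f)` for `f` monic separable is étale; separability over a local ring (helper10)
-/

set_option autoImplicit false
set_option linter.unusedSectionVars false
set_option linter.style.haveILetI false
open Polynomial

namespace Groth.Agent.Lib.Helper10.EtaleAdjoinRoot

theorem etale_adjoinRoot {R : Type*} [CommRing R] (f : R[X]) (hf : f.Monic) (hsep : f.Separable) :
    Algebra.Etale R (AdjoinRoot f) := by
  obtain ⟨a, b, hab⟩ := hsep
  let P : StandardEtalePair R :=
    ⟨f, hf, 1, ⟨b, a, 0, by rw [pow_zero]; linear_combination hab⟩⟩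
  let e1 := P.equivAwayAdjoinRoot
  have hu : IsUnit (AdjoinRoot.mk P.f P.g) := by
    have : AdjoinRoot.mk P.f P.g = 1 := map_one _
    rw [this]; exact isUnit_one
  let e2 : AdjoinRoot f ≃ₐ[AdjoinRoot f] Localization.Away (AdjoinRoot.mk P.f P.g) :=
    IsLocalization.atUnit (AdjoinRoot f) _ (AdjoinRoot.mk P.f P.g) hu
  exact Algebra.Etale.of_equiv (e1.trans (e2.restrictScalars R).symm)

theorem separable_of_map_residue {R : Type*} [CommRing R] [IsLocalRing R] (f : R[X])
    (hf : f.Monic) (h : (f.map (IsLocalRing.residue R)).Separable) : f.Separable := by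
  classical
  let res := IsLocalRing.residue R
  let E := AdjoinRoot f
  haveI : Module.Finite R E := (AdjoinRoot.powerBasis' hf).finite
  have hP : ∀ p : R[X], p.map res = 0 →
      AdjoinRoot.mk f p ∈ (IsLocalRing.maximalIdeal R • (⊤ : Submodule R E)) := by
    intro p hp
    rw [p.as_sum_range_C_mul_X_pow, map_sum]
    refine Submodule.sum_mem _ fun i _ => ?_
    have hi : p.coeff i ∈ IsLocalRing.maximalIdeal R := by
      have := congrArg (fun q => q.coeff i) hp
      simp only [coeff_map, coeff_zero] at this
      exact (IsLocalRing.residue_eq_zero_iff _).mp this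
    rw [map_mul, AdjoinRoot.mk_C, ← AdjoinRoot.algebraMap_eq, ← Algebra.smul_def]
    exact Submodule.smul_mem_smul hi trivial
  obtain ⟨a', b', hab⟩ := h
  obtain ⟨a, rfl⟩ := Polynomial.map_surjective res IsLocalRing.residue_surjective a'
  obtain ⟨b, rfl⟩ := Polynomial.map_surjective res IsLocalRing.residue_surjective b'
  set h' : R[X] := a * f + b * derivative f - 1 with hh'def
  have hh' : h'.map res = 0 := by
    rw [hh'def, Polynomial.map_sub, Polynomial.map_add, Polynomial.map_mul, Polynomial.map_mul,
      ← derivative_map, Polynomial.map_one]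
    rw [hab, sub_self]
  let d : E := AdjoinRoot.mk f (derivative f)
  let N : Submodule R E := (Ideal.span {d}).restrictScalars R
  have htop : (⊤ : Submodule R E) ≤ N := by
    apply Submodule.le_of_le_smul_of_le_jacobson_bot Module.Finite.fg_top
      (IsLocalRing.maximalIdeal_le_jacobson ⊥)
    intro e _
    obtain ⟨g, rfl⟩ := AdjoinRoot.mk_surjective e
    have : AdjoinRoot.mk f g = AdjoinRoot.mk f (g * b) * d - AdjoinRoot.mk f (g * h') := by
      simp only [d, ← map_mul, ← map_sub]
      rw [AdjoinRoot.mk_eq_mk]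
      exact ⟨g * a, by rw [hh'def]; ring⟩
    rw [this]
    refine Submodule.sub_mem_sup ?_ (hP _ (by rw [Polynomial.map_mul, hh', mul_zero]))
    exact Ideal.mul_mem_left _ _ (Ideal.subset_span rfl)
  have h1 : (1 : E) ∈ Ideal.span {d} := htop trivial
  obtain ⟨c, hc⟩ := Ideal.mem_span_singleton'.mp h1
  obtain ⟨g, rfl⟩ := AdjoinRoot.mk_surjective c
  have hdvd : f ∣ g * derivative f - 1 := by
    rw [← AdjoinRoot.mk_eq_zero, map_sub, map_mul, map_one]
    exact sub_eq_zero.mpr hc
  obtain ⟨q, hq⟩ := hdvd
  exact ⟨-q, g, by linear_combination hq⟩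

end Groth.Agent.Lib.Helper10.EtaleAdjoinRoot
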