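import Mathlib
import Groth.Agent.Lib.Helper10.RegularCSA

/-!
# Existence of regular elements in central simple algebras (helper10)

* `separable_minpoly_aeval`, `isSeparable_adjoin_singleton`: if `x` has separable minimal
  polynomial then `k[x]` is a separable (étale) `k`-algebra.
* `exists_separable_monic`: over any field there is a separable monic polynomial of each
  positive degree.
* `exists_regular`: a central simple algebra of dimension `r²` contains an element whose minimal
  polynomial is separable of degree `r`.
-/

set_option autoImplicit false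
set_option linter.unusedSectionVars false
set_option linter.style.haveILetI false
open TensorProduct Polynomial

namespace Groth.Agent.Lib.Helper10.RegularCSA

section Sep

variable {k A : Type*} [Field k] [Ring A] [Algebra k A] [FiniteDimensional k A]

theorem separable_minpoly_aeval (x : A) (hsep : (minpoly k x).Separable) (q : k[X]) :
    (minpoly k (aeval x q)).Separable := by
  classical
  let K := AlgebraicClosure k
  have hxi : IsIntegral k x := Algebra.IsIntegral.isIntegral x
  have hyi : IsIntegral k (aeval x q) := Algebra.IsIntegral.isIntegral _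
  rw [← separable_map (algebraMap k K), ← minpoly_one_tmul k K A _ hyi]
  set x' : K ⊗[k] A := (1 : K) ⊗ₜ[k] x with hx'
  set μ : K[X] := (minpoly k x).map (algebraMap k K) with hμ
  have hμsep : μ.Separable := hsep.map
  have hμne : μ ≠ 0 := hμsep.ne_zero
  have hμx : aeval x' μ = 0 := by
    rw [hμ, ← minpoly_one_tmul k K A x hxi]
    exact minpoly.aeval _ _
  set qK : K[X] := q.map (algebraMap k K) with hqK
  have hy' : ((1 : K) ⊗ₜ[k] (aeval x q) : K ⊗[k] A) = aeval x' qK := by
    rw [hqK, aeval_map_algebraMap]
    have : x' = (Algebra.TensorProduct.includeRight : A →ₐ[k] K ⊗[k] A) x := rfl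
    rw [this, aeval_algHom_apply]
    rfl
  let S : Finset K := (μ.roots.map (fun l => eval l qK)).toFinset
  let ν : K[X] := ∏ c ∈ S, (X - C c)
  have hνsep : ν.Separable := separable_prod_X_sub_C_iff'.mpr (fun a _ b _ h => h)
  have hν0 : aeval ((1 : K) ⊗ₜ[k] (aeval x q) : K ⊗[k] A) ν = 0 := by
    rw [hy', ← aeval_comp]
    by_cases h0 : ν.comp qK = 0
    · rw [h0, map_zero]
    · have hdvd : μ ∣ ν.comp qK := by
        rw [IsAlgClosed.dvd_iff_roots_le_roots hμne h0,
          Multiset.le_iff_subset (nodup_roots hμsep)]
        intro l hl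
        rw [mem_roots h0, IsRoot, eval_comp, eval_prod]
        apply Finset.prod_eq_zero (i := eval l qK)
        · simp only [S, Multiset.mem_toFinset, Multiset.mem_map]
          exact ⟨l, hl, rfl⟩
        · simp
      obtain ⟨g, hg⟩ := hdvd
      rw [hg, map_mul, hμx, zero_mul]
  exact hνsep.of_dvd (minpoly.dvd K _ hν0)

theorem isSeparable_adjoin_singleton (x : A) (hsep : (minpoly k x).Separable) :
    Algebra.IsSeparable k (Algebra.adjoin k ({x} : Set A)) := by
  refine ⟨fun y => ?_⟩
  have h1 : minpoly k ((Algebra.adjoin k ({x} : Set A)).val y) = minpoly k y :=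
    minpoly.algHom_eq _ Subtype.val_injective y
  obtain ⟨q, hq⟩ : ∃ q : k[X], aeval x q = (y : A) := by
    have h2 : (y : A) ∈ (aeval x : k[X] →ₐ[k] A).range := by
      rw [← Algebra.adjoin_singleton_eq_range_aeval]
      exact y.2
    exact h2
  change (minpoly k y).Separable
  rw [← h1]
  change (minpoly k (y : A)).Separable
  rw [← hq]
  exact separable_minpoly_aeval x hsep q

end Sep

section Split

variable (k : Type*) [Field k]

theorem exists_separable_monic (r : ℕ) (hr : 0 < r) :
    ∃ f : k[X], f.Monic ∧ f.natDegree = r ∧ f.Separable := by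
  by_cases hrk : (r : k) = 0
  · -- `X ^ r - X`
    have hr2 : 2 ≤ r := by
      rcases Nat.lt_or_ge r 2 with h | h
      · have : r = 1 := by omega
        rw [this, Nat.cast_one] at hrk
        exact absurd hrk one_ne_zero
      · exact h
    refine ⟨X ^ r - X, ?_, ?_, ?_⟩
    · apply monic_X_pow_sub
      rw [degree_X]
      exact_mod_cast (by omega : 1 < r)
    · rw [natDegree_sub_eq_left_of_natDegree_lt] <;> rw [natDegree_X_pow]
      rw [natDegree_X]; omega
    · rw [separable_def]
      have hder : derivative (X ^ r - X : k[X]) = -1 := by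
        rw [derivative_sub, derivative_X_pow, derivative_X, hrk]
        simp
      rw [hder]
      exact (isCoprime_one_right).neg_right
  · refine ⟨X ^ r - C 1, monic_X_pow_sub_C 1 hr.ne', natDegree_X_pow_sub_C, ?_⟩
    exact separable_X_pow_sub_C 1 hrk one_ne_zero

theorem exists_regular_matrix (r : ℕ) (hr : 0 < r) :
    ∃ M : Matrix (Fin r) (Fin r) k, (minpoly k M).Separable ∧ (minpoly k M).natDegree = r := by
  classical
  obtain ⟨f, hmonic, hdeg, hsep⟩ := exists_separable_monic k r hr
  have hf0 : f ≠ 0 := hmonic.ne_zero
  let V := AdjoinRoot f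
  let T : Module.End k V := Algebra.lmul k V (AdjoinRoot.root f)
  have hT : minpoly k T = f := by
    have h1 : minpoly k T = minpoly k (AdjoinRoot.root f) :=
      minpoly.algHom_eq (Algebra.lmul k V) Algebra.lmul_injective _
    rw [h1, AdjoinRoot.minpoly_root hf0, hmonic.leadingCoeff]
    simp
  have hfr : Module.finrank k V = r := by
    rw [← hdeg]
    exact finrank_quotient_span_eq_natDegree
  haveI : Module.Finite k V := (AdjoinRoot.powerBasis hf0).finite
  let b : Module.Basis (Fin r) k V := Module.finBasisOfFinrankEq k V hfr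
  refine ⟨LinearMap.toMatrixAlgEquiv b T, ?_, ?_⟩
  · rw [minpoly.algEquiv_eq, hT]; exact hsep
  · rw [minpoly.algEquiv_eq, hT]; exact hdeg

end Split

section Finite

variable (k : Type*) [Field k] (A : Type*) [Ring A] [Algebra k A] [Algebra.IsCentral k A]
  [IsSimpleRing A] [FiniteDimensional k A]

/-- a central simple algebra over a finite field is split (Wedderburn) -/
theorem exists_algEquiv_matrix_of_finite [Finite k] :
    ∃ (n : ℕ) (_ : NeZero n), Nonempty (A ≃ₐ[k] Matrix (Fin n) (Fin n) k) := by
  classical
  haveI := IsArtinianRing.of_finite k A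
  obtain ⟨n, hn, D, _, _, _, ⟨e⟩⟩ := IsSimpleRing.exists_algEquiv_matrix_divisionRing_finite k A
  haveI : Finite D := Module.finite_of_finite k
  have hcomm : ∀ a b : D, a * b = b * a := fun a b => by
    letI := littleWedderburn D
    exact mul_comm a b
  have hsurj : Function.Surjective (algebraMap k D) := by
    intro d
    have hcen : e.symm (Matrix.scalar (Fin n) d) ∈ Subalgebra.center k A := by
      rw [Subalgebra.mem_center_iff]
      intro a
      apply e.injective
      rw [map_mul, map_mul, e.apply_symm_apply]
      exact ((Matrix.scalar_commute d (fun r' => hcomm _ _) (e a)).eq).symm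
    rw [Algebra.IsCentral.center_eq_bot, Algebra.mem_bot] at hcen
    obtain ⟨c, hc⟩ := hcen
    refine ⟨c, ?_⟩
    have h2 : e (algebraMap k A c) = Matrix.scalar (Fin n) d := by rw [hc, e.apply_symm_apply]
    rw [e.commutes] at h2
    have := congrFun (congrFun h2 0) 0
    simpa [Matrix.algebraMap_matrix_apply] using this
  let eD : k ≃ₐ[k] D := AlgEquiv.ofBijective (Algebra.ofId k D)
    ⟨(algebraMap k D).injective, hsurj⟩
  exact ⟨n, hn, ⟨e.trans (AlgEquiv.mapMatrix eD.symm)⟩⟩

end Finite

section MatrixSep

variable {K : Type*} [Field K]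

theorem resultant_charpoly_ne_zero_iff (r : ℕ) (hr : 0 < r) (M : Matrix (Fin r) (Fin r) K) :
    resultant M.charpoly (derivative M.charpoly) r (r - 1) ≠ 0 ↔ M.charpoly.Separable := by
  have hmonic : M.charpoly.Monic := M.charpoly_monic
  have hdeg : M.charpoly.natDegree = r := by
    rw [Matrix.charpoly_natDegree_eq_dim, Fintype.card_fin]
  have hder : (derivative M.charpoly).natDegree ≤ r - 1 := by
    have := natDegree_derivative_lt (p := M.charpoly) (by rw [hdeg]; exact hr.ne')
    rw [hdeg] at this
    omega
  have h1 : resultant M.charpoly (derivative M.charpoly) r (r - 1) =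
      resultant M.charpoly (derivative M.charpoly) := by
    obtain ⟨j, hj⟩ := Nat.exists_eq_add_of_le hder
    rw [hj, resultant_add_right_deg _ _ _ _ _ le_rfl]
    have hc : M.charpoly.coeff r = 1 := by
      have := hmonic.coeff_natDegree
      rw [hdeg] at this
      exact this
    rw [hc, one_pow, one_mul]
    have h2 : resultant M.charpoly (derivative M.charpoly) =
      resultant M.charpoly (derivative M.charpoly) M.charpoly.natDegree
        (derivative M.charpoly).natDegree := rfl
    rw [h2, hdeg]
  rw [h1, ← isUnit_iff_ne_zero, isUnit_resultant_iff_isCoprime hmonic, separable_def]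

variable [IsAlgClosed K]

theorem minpoly_of_charpoly_separable (r : ℕ) (M : Matrix (Fin r) (Fin r) K)
    (h : M.charpoly.Separable) : (minpoly K M).Separable ∧ (minpoly K M).natDegree = r := by
  classical
  have hdvd := Matrix.minpoly_dvd_charpoly M
  have hdeg : M.charpoly.natDegree = r := by
    rw [Matrix.charpoly_natDegree_eq_dim, Fintype.card_fin]
  have hne : M.charpoly ≠ 0 := M.charpoly_monic.ne_zero
  have hint : IsIntegral K M := Algebra.IsIntegral.isIntegral M
  have hmne : minpoly K M ≠ 0 := minpoly.ne_zero hint
  refine ⟨h.of_dvd hdvd, le_antisymm ?_ ?_⟩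
  · calc (minpoly K M).natDegree ≤ M.charpoly.natDegree := natDegree_le_of_dvd hdvd hne
      _ = r := hdeg
  · have hsub : M.charpoly.roots ≤ (minpoly K M).roots := by
      rw [Multiset.le_iff_subset (nodup_roots h)]
      intro l hl
      rw [mem_roots hne] at hl
      rw [mem_roots hmne, ← Matrix.minpoly_toLin']
      apply Module.End.isRoot_of_hasEigenvalue
      rw [Module.End.hasEigenvalue_iff_isRoot_charpoly, Matrix.charpoly_toLin']
      exact hl
    calc r = M.charpoly.roots.card := by rw [IsAlgClosed.card_roots_eq_natDegree, hdeg]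
      _ ≤ (minpoly K M).roots.card := Multiset.card_le_card hsub
      _ ≤ (minpoly K M).natDegree := card_roots' _

end MatrixSep

section Infinite

open Groth.Agent.Lib.helper8.Az

variable (k : Type*) [Field k] (A : Type*) [Ring A] [Algebra k A] [Algebra.IsCentral k A]
  [IsSimpleRing A] [FiniteDimensional k A]

theorem exists_algEquiv_matrix_algebraicClosure (r : ℕ) (hA : Module.finrank k A = r ^ 2) :
    Nonempty ((AlgebraicClosure k ⊗[k] A) ≃ₐ[AlgebraicClosure k]
      Matrix (Fin r) (Fin r) (AlgebraicClosure k)) := by
  classical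
  let K := AlgebraicClosure k
  haveI : IsAzumaya k A := isAzumaya_of_isCentral_of_isSimpleRing k A
  haveI : IsAzumaya K (K ⊗[k] A) := isAzumaya_baseChange k K A
  obtain ⟨hc, hs⟩ := (isAzumaya_field_iff K (K ⊗[k] A)).mp inferInstance
  obtain ⟨n, hn, ⟨e⟩⟩ := IsSimpleRing.exists_algEquiv_matrix_of_isAlgClosed K (K ⊗[k] A)
  have hnr : n = r := by
    have h1 : Module.finrank K (K ⊗[k] A) = r ^ 2 := by rw [Module.finrank_baseChange, hA]
    have h2 := e.toLinearEquiv.finrank_eq
    rw [h1, Module.finrank_matrix, Module.finrank_self, Fintype.card_fin, mul_one, ← sq] at h2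
    exact (Nat.pow_left_injective (n := 2) (by norm_num) h2).symm
  subst hnr
  exact ⟨e⟩

theorem exists_regular_of_infinite [Infinite k] (r : ℕ) (hr : 0 < r)
    (hA : Module.finrank k A = r ^ 2) :
    ∃ x : A, (minpoly k x).Separable ∧ (minpoly k x).natDegree = r := by
  classical
  let K := AlgebraicClosure k
  obtain ⟨e⟩ := exists_algEquiv_matrix_algebraicClosure k A r hA
  let ι := Module.Free.ChooseBasisIndex k A
  let b : Module.Basis ι k A := Module.Free.chooseBasis k A
  let bK : Module.Basis ι K (K ⊗[k] A) := b.baseChange K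
  let Mi : ι → Matrix (Fin r) (Fin r) K := fun i => e ((1 : K) ⊗ₜ[k] b i)
  let Mp : (ι → K) → Matrix (Fin r) (Fin r) K := fun p => ∑ i, p i • Mi i
  let Mg : Matrix (Fin r) (Fin r) (MvPolynomial ι K) :=
    ∑ i, (MvPolynomial.X i : MvPolynomial ι K) • (Mi i).map MvPolynomial.C
  have hMg : ∀ p : ι → K, Mg.map (MvPolynomial.eval p) = Mp p := by
    intro p
    ext s t
    simp [Mg, Mp, Matrix.sum_apply, Matrix.smul_apply, Matrix.map_apply]
  let F : MvPolynomial ι K := resultant Mg.charpoly (derivative Mg.charpoly) r (r - 1)
  have hF : ∀ p, MvPolynomial.eval p F =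
      resultant (Mp p).charpoly (derivative (Mp p).charpoly) r (r - 1) := by
    intro p
    rw [← hMg p, Matrix.charpoly_map, derivative_map, resultant_map_map]
  have hMpe : ∀ p : ι → K, Mp p = e (∑ i, p i • bK i) := by
    intro p
    simp only [Mp, Mi, map_sum, map_smul, bK, Module.Basis.baseChange_apply]
  -- a point where `F` does not vanish
  have hF0 : F ≠ 0 := by
    let c : Fin r → K := fun i => Infinite.natEmbedding K i
    have hc : Function.Injective c := fun i j h =>
      Fin.ext ((Infinite.natEmbedding K).injective h)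
    let p0 : ι → K := bK.equivFun (e.symm (Matrix.diagonal c))
    have hp0 : Mp p0 = Matrix.diagonal c := by
      rw [hMpe, Module.Basis.sum_equivFun, e.apply_symm_apply]
    intro hzero
    have h1 := hF p0
    rw [hzero, map_zero, hp0] at h1
    refine (resultant_charpoly_ne_zero_iff r hr (Matrix.diagonal c)).mpr ?_ h1.symm
    rw [Matrix.charpoly_diagonal]
    exact separable_prod_X_sub_C_iff.mpr hc
  -- a rational point where `F` does not vanish
  obtain ⟨p, hp, hFp⟩ : ∃ p ∈ Set.pi Set.univ (fun _ : ι => Set.range (algebraMap k K)),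
      MvPolynomial.eval p F ≠ 0 := by
    by_contra hcon
    push Not at hcon
    refine hF0 (MvPolynomial.funext_set (fun _ : ι => Set.range (algebraMap k K))
      (fun _ => Set.infinite_range_of_injective (algebraMap k K).injective) ?_)
    intro x hx
    rw [hcon x hx, map_zero]
  choose a ha using fun i => hp i (Set.mem_univ i)
  let x : A := ∑ i, a i • b i
  have hx : e ((1 : K) ⊗ₜ[k] x) = Mp p := by
    rw [hMpe]
    congr 1
    simp only [x, TensorProduct.tmul_sum, bK, Module.Basis.baseChange_apply]
    refine Finset.sum_congr rfl fun i _ => ?_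
    rw [← ha i, TensorProduct.tmul_smul, algebraMap_smul]
  have hsepM : (Mp p).charpoly.Separable := by
    rw [← resultant_charpoly_ne_zero_iff r hr, ← hF]
    exact hFp
  obtain ⟨h1, h2⟩ := minpoly_of_charpoly_separable r (Mp p) hsepM
  have hmin : minpoly K (Mp p) = (minpoly k x).map (algebraMap k K) := by
    rw [← hx, minpoly.algEquiv_eq, minpoly_one_tmul k K A x (Algebra.IsIntegral.isIntegral x)]
  rw [hmin] at h1 h2
  exact ⟨x, (separable_map _).mp h1, by rwa [natDegree_map] at h2⟩

theorem exists_regular (r : ℕ) (hA : Module.finrank k A = r ^ 2) :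
    ∃ x : A, (minpoly k x).Separable ∧ (minpoly k x).natDegree = r := by
  classical
  have hr : 0 < r := by
    rcases Nat.eq_zero_or_pos r with h | h
    · subst h
      have h0 : Module.finrank k A = 0 := by simpa using hA
      have hpos : 0 < Module.finrank k A := Module.finrank_pos
      omega
    · exact h
  rcases finite_or_infinite k with hfin | hinf
  · obtain ⟨n, hn, ⟨e⟩⟩ := exists_algEquiv_matrix_of_finite k A
    have hnr : n = r := by
      have h2 := e.toLinearEquiv.finrank_eq
      rw [hA, Module.finrank_matrix, Module.finrank_self, Fintype.card_fin, mul_one, ← sq] at h2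
      exact (Nat.pow_left_injective (n := 2) (by norm_num) h2).symm
    subst hnr
    obtain ⟨M, h1, h2⟩ := exists_regular_matrix k n hr
    refine ⟨e.symm M, ?_, ?_⟩
    · rw [minpoly.algEquiv_eq]; exact h1
    · rw [minpoly.algEquiv_eq]; exact h2
  · exact exists_regular_of_infinite k A r hr hA

end Infinite

end Groth.Agent.Lib.Helper10.RegularCSA
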