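import Mathlib
import Groth.Agent.S5713
import Groth.Agent.Lib.Helper10.RegularExists
import Groth.Agent.Lib.Helper10.EtaleAdjoinRoot
import Groth.Agent.Lib.Helper10.EtaleSplit

/-!
# Local splitting data of an Azumaya algebra at a prime (helper10)
-/

set_option autoImplicit false
set_option linter.unusedSectionVars false
set_option linter.style.haveILetI false
open TensorProduct Polynomial

universe u

namespace Groth.Agent.Lib.Helper10.LocalSplit

open Groth.Agent.Lib.Helper10.RegularCSA Groth.Agent.Lib.Helper10.EtaleAdjoinRoot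
  Groth.Agent.Lib.Helper10.EtaleSplit Groth.Agent.Lib.helper8.Az

section Field

variable {k B : Type*} [Field k] [Ring B] [Algebra k B] [FiniteDimensional k B]

/-- scaling a regular element by a nonzero scalar -/
theorem regular_smul (x : B) (hsep : (minpoly k x).Separable) (c : k) (hc : c ≠ 0) :
    (minpoly k (c • x)).Separable ∧
      (minpoly k (c • x)).natDegree = (minpoly k x).natDegree := by
  have h1 : c • x = aeval x (C c * X : k[X]) := by
    rw [map_mul, aeval_C, aeval_X, Algebra.smul_def]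
  refine ⟨by rw [h1]; exact separable_minpoly_aeval x hsep _, ?_⟩
  have hx : IsIntegral k x := Algebra.IsIntegral.isIntegral x
  have hcx : IsIntegral k (c • x) := Algebra.IsIntegral.isIntegral _
  rw [← finrank_adjoin_singleton k B x hx, ← finrank_adjoin_singleton k B (c • x) hcx]
  have heq : Algebra.adjoin k ({c • x} : Set B) = Algebra.adjoin k ({x} : Set B) := by
    apply le_antisymm
    · rw [Algebra.adjoin_le_iff, Set.singleton_subset_iff]
      exact Subalgebra.smul_mem _ (Algebra.subset_adjoin (Set.mem_singleton x)) c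
    · rw [Algebra.adjoin_le_iff, Set.singleton_subset_iff]
      have hx' : c⁻¹ • (c • x) = x := by rw [smul_smul, inv_mul_cancel₀ hc, one_smul]
      have hmem := Subalgebra.smul_mem (Algebra.adjoin k ({c • x} : Set B))
        (Algebra.subset_adjoin (Set.mem_singleton _)) c⁻¹
      rwa [hx'] at hmem
  rw [heq]

/-- the dimension of an Azumaya algebra over a field is a positive square -/
theorem exists_finrank_eq_sq (k A : Type*) [Field k] [Ring A] [Algebra k A] [IsAzumaya k A] :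
    ∃ r : ℕ, 1 ≤ r ∧ Module.finrank k A = r ^ 2 := by
  classical
  let K := AlgebraicClosure k
  haveI : IsAzumaya K (K ⊗[k] A) := isAzumaya_baseChange k K A
  obtain ⟨hc, hs⟩ := (isAzumaya_field_iff K (K ⊗[k] A)).mp inferInstance
  obtain ⟨n, hn, ⟨e⟩⟩ := IsSimpleRing.exists_algEquiv_matrix_of_isAlgClosed K (K ⊗[k] A)
  refine ⟨n, Nat.one_le_iff_ne_zero.mpr (NeZero.ne n), ?_⟩
  have h2 := e.toLinearEquiv.finrank_eq
  rw [Module.finrank_baseChange, Module.finrank_matrix, Module.finrank_self, Fintype.card_fin,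
    mul_one, ← sq] at h2
  exact h2

end Field

section LocalReg

open IsLocalRing

variable (R : Type u) [CommRing R] [IsLocalRing R] (A : Type u) [Ring A] [Algebra R A]
  [IsAzumaya R A] (r : ℕ) (hA : Module.finrank R A = r ^ 2) (ξ : A)
  (hsep : (minpoly (ResidueField R) ((1 : ResidueField R) ⊗ₜ[R] ξ : ResidueField R ⊗[R] A)).Separable)
  (hdeg : (minpoly (ResidueField R)
    ((1 : ResidueField R) ⊗ₜ[R] ξ : ResidueField R ⊗[R] A)).natDegree = r)

include hA hsep hdeg in
theorem exists_coeffs : ∃ c : Fin r → R, ∑ i, c i • ξ ^ (i : ℕ) = ξ ^ r := by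
  let k := ResidueField R
  haveI : Module.Free R A := Module.free_of_flat_of_isLocalRing
  have hint : IsIntegral k ((1 : k) ⊗ₜ[R] ξ : k ⊗[R] A) := Algebra.IsIntegral.isIntegral _
  obtain ⟨-, hmem⟩ := Groth.Agent.S5713.result R A r hA ξ
    (isSeparable_adjoin_singleton _ hsep)
    (by rw [finrank_adjoin_singleton k _ _ hint, hdeg])
  exact (Submodule.mem_span_range_iff_exists_fun R).mp hmem

variable (f : R[X]) (hmonic : f.Monic) (hfdeg : f.natDegree = r) (hfξ : aeval ξ f = 0)

include hdeg hmonic hfdeg hfξ in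
theorem map_residue_eq_minpoly : f.map (residue R) =
    minpoly (ResidueField R) ((1 : ResidueField R) ⊗ₜ[R] ξ : ResidueField R ⊗[R] A) := by
  let k := ResidueField R
  have hint : IsIntegral k ((1 : k) ⊗ₜ[R] ξ : k ⊗[R] A) := Algebra.IsIntegral.isIntegral _
  have hroot : aeval ((1 : k) ⊗ₜ[R] ξ : k ⊗[R] A) (f.map (residue R)) = 0 := by
    rw [show residue R = algebraMap R k from rfl, aeval_map_algebraMap]
    have : ((1 : k) ⊗ₜ[R] ξ : k ⊗[R] A) =
        (Algebra.TensorProduct.includeRight : A →ₐ[R] k ⊗[R] A) ξ := rfl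
    rw [this, aeval_algHom_apply, hfξ, map_zero]
  have hdvd := minpoly.dvd k _ hroot
  refine eq_of_monic_of_dvd_of_natDegree_le (minpoly.monic hint) (hmonic.map _) hdvd ?_
  rw [hmonic.natDegree_map, hfdeg, hdeg]

include hsep hdeg hmonic hfdeg hfξ in
theorem separable_of_aeval_eq_zero : f.Separable :=
  separable_of_map_residue f hmonic (by
    rw [map_residue_eq_minpoly R A r ξ hdeg f hmonic hfdeg hfξ]; exact hsep)

/-- the map `AdjoinRoot f → A` sending the root to `ξ` -/
noncomputable def uHom : AdjoinRoot f →ₐ[R] A :=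
  Ideal.Quotient.liftₐ (Ideal.span {f}) (aeval ξ) (fun g hg => by
    obtain ⟨c, rfl⟩ := Ideal.mem_span_singleton'.mp hg
    rw [map_mul, hfξ, mul_zero])

theorem uHom_mk (g : R[X]) : uHom R A ξ f hfξ (AdjoinRoot.mk f g) = aeval ξ g := rfl

theorem linearIndependent_pow_of_eq {k B : Type*} [Field k] [Ring B] [Algebra k B] (x : B) (n : ℕ)
    (hn : n = (minpoly k x).natDegree) : LinearIndependent k (fun i : Fin n => x ^ (i : ℕ)) := by
  subst hn
  exact linearIndependent_pow x

include hdeg hmonic hfdeg in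
theorem uHom_injective_fibre : Function.Injective
    ((uHom R A ξ f hfξ).toLinearMap.lTensor (ResidueField R)) := by
  let k := ResidueField R
  let u := uHom R A ξ f hfξ
  let pb := AdjoinRoot.powerBasis' hmonic
  let bK : Module.Basis (Fin pb.dim) k (k ⊗[R] AdjoinRoot f) := pb.basis.baseChange k
  let φ : k ⊗[R] AdjoinRoot f →ₗ[k] k ⊗[R] A := u.toLinearMap.baseChange k
  have hφb : ∀ i, φ (bK i) = ((1 : k) ⊗ₜ[R] ξ : k ⊗[R] A) ^ (i : ℕ) := by
    intro i
    simp only [φ, bK, Module.Basis.baseChange_apply, LinearMap.baseChange_tmul,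
      AlgHom.toLinearMap_apply, pb.basis_eq_pow]
    rw [show pb.gen = AdjoinRoot.mk f X from rfl, ← map_pow, uHom_mk, map_pow, aeval_X,
      Algebra.TensorProduct.tmul_pow, one_pow]
  have hli' : LinearIndependent k
      (fun i : Fin pb.dim => ((1 : k) ⊗ₜ[R] ξ : k ⊗[R] A) ^ (i : ℕ)) :=
    linearIndependent_pow_of_eq _ _ (by rw [hdeg]; exact hfdeg)
  have hinj : Function.Injective φ := by
    rw [← LinearMap.ker_eq_bot, LinearMap.ker_eq_bot']
    intro z hz
    rw [← bK.sum_repr z, map_sum] at hz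
    simp only [map_smul, hφb] at hz
    have h0 := (Fintype.linearIndependent_iff.mp hli') _ hz
    rw [← bK.sum_repr z]
    simp [h0]
  have : (⇑(u.toLinearMap.lTensor k) : k ⊗[R] AdjoinRoot f → k ⊗[R] A) = ⇑φ := by
    rw [← LinearMap.baseChange_eq_ltensor]
  rw [this]
  exact hinj

include hA hsep hdeg hmonic hfdeg hfξ in
/-- `A` has an `R`-basis of the form `β i * ξ ^ j` -/
theorem exists_basis_mul_pow : ∃ (T : Module.Basis (Fin r × Fin r) R A) (β : Fin r → A),
    ∀ i j, T (i, j) = β i * ξ ^ (j : ℕ) := by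
  classical
  let E := AdjoinRoot f
  have hfsep : f.Separable := separable_of_aeval_eq_zero R A r ξ hsep hdeg f hmonic hfdeg hfξ
  haveI hE1 : Algebra.Etale R E := etale_adjoinRoot f hmonic hfsep
  let pb := AdjoinRoot.powerBasis' hmonic
  haveI : Module.Finite R E := pb.finite
  haveI : Module.Free R E := .of_basis pb.basis
  have hdim : pb.dim = r := hfdeg
  have hE : Module.finrank R E = r := by rw [pb.finrank]; exact hfdeg
  let u : E →ₐ[R] A := uHom R A ξ f hfξ
  have hu := uHom_injective_fibre R A r ξ hdeg f hmonic hfdeg hfξ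
  let g : E →+* Aᵐᵒᵖ := RingHom.toOpposite u.toRingHom (fun x y => by
    change u x * u y = u y * u x
    rw [← map_mul, ← map_mul, mul_comm])
  letI : Module E A := Module.compHom A g
  have hmod : ∀ (e : E) (a : A), e • a = a * u e := fun e a => rfl
  haveI : IsScalarTower R E A := ⟨fun c e a => by
    rw [hmod, hmod, map_smul, mul_smul_comm]⟩
  haveI : SMulCommClass E R A := ⟨fun e c a => by
    rw [hmod, hmod, smul_mul_assoc]⟩
  obtain ⟨hfree, hfr⟩ := free_and_finrank R A r hA E hE u hu hmod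
  haveI := hfree
  haveI : Module.Finite E A := Module.Finite.of_restrictScalars_finite R E A
  have hr : 0 < r := rank_pos R A r hA
  haveI : Nontrivial E := Module.nontrivial_of_finrank_pos (R := R) (by rw [hE]; exact hr)
  let β : Module.Basis (Fin r) E A := Module.finBasisOfFinrankEq E A hfr
  let pbb : Module.Basis (Fin r) R E := pb.basis.reindex (finCongr hdim)
  let T : Module.Basis (Fin r × Fin r) R A :=
    (pbb.smulTower β).reindex (Equiv.prodComm (Fin r) (Fin r))
  refine ⟨T, fun i => β i, fun i j => ?_⟩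
  have h1 : T (i, j) = pbb j • β i := by
    simp only [T, Module.Basis.reindex_apply, Equiv.prodComm_symm, Equiv.prodComm_apply,
      Prod.swap_prod_mk, Module.Basis.smulTower_apply]
  rw [h1, hmod]
  congr 1
  have h2 : pbb j = AdjoinRoot.mk f X ^ (j : ℕ) := by
    simp only [pbb, Module.Basis.reindex_apply, pb.basis_eq_pow]
    rfl
  rw [h2, map_pow]
  congr 1
  change uHom R A ξ f hfξ (AdjoinRoot.mk f X) = ξ
  rw [uHom_mk, aeval_X]

include hsep in
/-- scaling a regular element by a unit of the local ring -/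
theorem regular_unit_smul (v : R) (hv : IsUnit v) :
    (minpoly (ResidueField R)
      ((1 : ResidueField R) ⊗ₜ[R] (v • ξ) : ResidueField R ⊗[R] A)).Separable ∧
    (minpoly (ResidueField R)
      ((1 : ResidueField R) ⊗ₜ[R] (v • ξ) : ResidueField R ⊗[R] A)).natDegree =
    (minpoly (ResidueField R)
      ((1 : ResidueField R) ⊗ₜ[R] ξ : ResidueField R ⊗[R] A)).natDegree := by
  let k := ResidueField R
  haveI : Module.Free R A := Module.free_of_flat_of_isLocalRing
  have h1 : ((1 : k) ⊗ₜ[R] (v • ξ) : k ⊗[R] A) = residue R v • ((1 : k) ⊗ₜ[R] ξ) := by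
    rw [TensorProduct.tmul_smul, ← algebraMap_smul k v ((1 : k) ⊗ₜ[R] ξ : k ⊗[R] A)]
    rfl
  have h2 : residue R v ≠ 0 := by
    intro h0
    rw [residue_eq_zero_iff] at h0
    exact (IsLocalRing.mem_maximalIdeal v).mp h0 hv
  rw [h1]
  exact regular_smul _ hsep _ h2

end LocalReg

section Global

open IsLocalRing

variable (R : Type u) [CommRing R] (A : Type u) [Ring A] [Algebra R A] [IsAzumaya R A]
  (p : Ideal R) [p.IsPrime]

theorem exists_local_data : ∃ (r : ℕ) (F : R[X]) (ξ : A) (y : Fin r → A), 1 ≤ r ∧ F.Monic ∧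
    F.natDegree = r ∧ (1 : Localization.AtPrime p) ⊗ₜ[R] (aeval ξ F) = 0 ∧
    (F.map (algebraMap R (Localization.AtPrime p))).Separable ∧
    Function.Bijective ((Fintype.linearCombination R
      (fun ij : Fin r × Fin r => y ij.1 * ξ ^ (ij.2 : ℕ))).baseChange
        (Localization.AtPrime p)) := by
  classical
  let Rp := Localization.AtPrime p
  let φ := algebraMap R Rp
  let Ap := Rp ⊗[R] A
  haveI : IsAzumaya Rp Ap := isAzumaya_baseChange R Rp A
  haveI : Module.Free Rp Ap := Module.free_of_flat_of_isLocalRing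
  let k := ResidueField Rp
  haveI : IsAzumaya k (k ⊗[Rp] Ap) := isAzumaya_baseChange Rp k Ap
  obtain ⟨r, hr1, hrk⟩ := exists_finrank_eq_sq k (k ⊗[Rp] Ap)
  have hA : Module.finrank Rp Ap = r ^ 2 := by
    have h0 : Module.finrank k (k ⊗[Rp] Ap) = Module.finrank Rp Ap := Module.finrank_baseChange
    rw [← h0, hrk]
  haveI : Nontrivial R := (algebraMap R Rp).domain_nontrivial
  obtain ⟨hc, hs⟩ := (isAzumaya_field_iff k (k ⊗[Rp] Ap)).mp inferInstance
  obtain ⟨x, hxsep, hxdeg⟩ := exists_regular k (k ⊗[Rp] Ap) r hrk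
  obtain ⟨ξ₀, hξ₀⟩ := TensorProduct.mk_surjective Rp Ap k IsLocalRing.residue_surjective x
  have hξ₀' : ((1 : k) ⊗ₜ[Rp] ξ₀ : k ⊗[Rp] Ap) = x := hξ₀
  have hunit : ∀ s : p.primeCompl, IsUnit (φ s) := fun s =>
    IsLocalization.map_units Rp s
  -- clear denominators of `ξ₀`
  obtain ⟨⟨a, s⟩, has⟩ := IsLocalizedModule.surj p.primeCompl (TensorProduct.mk R Rp A 1) ξ₀
  let ξ₁ : Ap := (1 : Rp) ⊗ₜ[R] a
  have hξ₁ : ξ₁ = φ s • ξ₀ := by
    have h1 : (s : R) • ξ₀ = (1 : Rp) ⊗ₜ[R] a := has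
    rw [algebraMap_smul, h1]
  obtain ⟨hsep₁, hdeg₁'⟩ := regular_unit_smul Rp Ap ξ₀ (by rw [hξ₀']; exact hxsep) (φ s) (hunit s)
  rw [← hξ₁, hξ₀', hxdeg] at hdeg₁'
  rw [← hξ₁] at hsep₁
  -- the coefficients of the equation of `ξ₁`
  obtain ⟨c, hc⟩ := exists_coeffs Rp Ap r hA ξ₁ hsep₁ hdeg₁'
  obtain ⟨t, ht⟩ := IsLocalization.exist_integer_multiples p.primeCompl Finset.univ c
  have ht' : ∀ i, ∃ b : R, φ b = φ t * c i := by
    intro i
    obtain ⟨b, hb⟩ := ht i (Finset.mem_univ i)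
    exact ⟨b, by rw [hb, Algebra.smul_def]⟩
  choose b hb using ht'
  let τ := φ t
  let ξ : A := (t : R) • a
  let ξ₂ : Ap := (1 : Rp) ⊗ₜ[R] ξ
  have hξ₂ : ξ₂ = τ • ξ₁ := by
    change (1 : Rp) ⊗ₜ[R] ((t : R) • a) = φ t • ((1 : Rp) ⊗ₜ[R] a)
    rw [TensorProduct.tmul_smul, algebraMap_smul]
  obtain ⟨hsep₂, hdeg₂'⟩ := regular_unit_smul Rp Ap ξ₁ hsep₁ τ (hunit t)
  rw [← hξ₂, hdeg₁'] at hdeg₂'
  rw [← hξ₂] at hsep₂
  -- the polynomial
  let coef : Fin r → R := fun j => (t : R) ^ (r - 1 - (j : ℕ)) * b j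
  let q : R[X] := ∑ i : Fin r, C (coef i) * X ^ (i : ℕ)
  let F : R[X] := X ^ r - q
  have hqdeg : q.degree < r := degree_sum_fin_lt coef
  have hmonic : F.Monic := monic_X_pow_sub hqdeg
  have hFdeg : F.natDegree = r := by
    apply natDegree_eq_of_degree_eq_some
    rw [degree_sub_eq_left_of_degree_lt (by rw [degree_X_pow]; exact hqdeg), degree_X_pow]
  have hFp : (F.map φ).Monic := hmonic.map φ
  have hFpdeg : (F.map φ).natDegree = r := by rw [hmonic.natDegree_map φ, hFdeg]
  have hpow : ∀ j : Fin r, τ ^ (r - 1 - (j : ℕ)) * τ * τ ^ (j : ℕ) = τ ^ r := by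
    intro j
    rw [← pow_succ, ← pow_add]
    congr 1
    have := j.2
    omega
  have hroot : aeval ξ₂ (F.map φ) = 0 := by
    have h1 : F.map φ = X ^ r - ∑ i : Fin r, C (φ (coef i)) * X ^ (i : ℕ) := by
      simp only [F, q, Polynomial.map_sub, Polynomial.map_pow, Polynomial.map_X,
        Polynomial.map_sum, Polynomial.map_mul, Polynomial.map_C]
    rw [h1]
    simp only [map_sub, map_pow, aeval_X, map_sum, map_mul, aeval_C, ← Algebra.smul_def]
    rw [sub_eq_zero, hξ₂, _root_.smul_pow, ← hc, Finset.smul_sum]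
    refine Finset.sum_congr rfl fun j _ => ?_
    rw [_root_.smul_pow, smul_smul, smul_smul]
    congr 1
    simp only [coef, map_mul, map_pow, hb]
    rw [← hpow j]
    ring
  have ha : (1 : Rp) ⊗ₜ[R] (aeval ξ F) = 0 := by
    have h1 : ((1 : Rp) ⊗ₜ[R] (aeval ξ F) : Ap) =
        (Algebra.TensorProduct.includeRight : A →ₐ[R] Rp ⊗[R] A) (aeval ξ F) := rfl
    rw [h1, ← aeval_algHom_apply]
    have h2 : (Algebra.TensorProduct.includeRight : A →ₐ[R] Rp ⊗[R] A) ξ = ξ₂ := rfl
    rw [h2, ← aeval_map_algebraMap Rp ξ₂ F]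
    exact hroot
  have hFsep : (F.map φ).Separable :=
    separable_of_aeval_eq_zero Rp Ap r ξ₂ hsep₂ hdeg₂' (F.map φ) hFp hFpdeg hroot
  obtain ⟨T, β, hT⟩ := exists_basis_mul_pow Rp Ap r hA ξ₂ hsep₂ hdeg₂' (F.map φ) hFp hFpdeg hroot
  -- clear denominators of `β`
  have hβ := fun i => IsLocalizedModule.surj p.primeCompl (TensorProduct.mk R Rp A 1) (β i)
  choose ys hys using hβ
  let y : Fin r → A := fun i => (ys i).1
  have hy : ∀ i, ((1 : Rp) ⊗ₜ[R] y i : Ap) = φ (ys i).2 • β i := by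
    intro i
    have h1 : ((ys i).2 : R) • β i = (1 : Rp) ⊗ₜ[R] (ys i).1 := hys i
    rw [algebraMap_smul, h1]
  let T' : Module.Basis (Fin r × Fin r) Rp Ap :=
    T.isUnitSMul (w := fun ij => φ (ys ij.1).2) (fun ij => hunit _)
  have hT' : ∀ i j, T' (i, j) = (1 : Rp) ⊗ₜ[R] (y i * ξ ^ (j : ℕ)) := by
    intro i j
    rw [Module.Basis.isUnitSMul_apply, hT]
    have h1 : ((1 : Rp) ⊗ₜ[R] (y i * ξ ^ (j : ℕ)) : Ap) =
        ((1 : Rp) ⊗ₜ[R] y i) * ((1 : Rp) ⊗ₜ[R] ξ) ^ (j : ℕ) := by
      rw [Algebra.TensorProduct.tmul_pow, one_pow, Algebra.TensorProduct.tmul_mul_tmul, one_mul]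
    rw [h1, hy, smul_mul_assoc]
  refine ⟨r, F, ξ, y, hr1, hmonic, hFdeg, ha, hFsep, ?_⟩
  let ι := Fin r × Fin r
  let γ : (ι → R) →ₗ[R] A := Fintype.linearCombination R
    (fun ij : Fin r × Fin r => y ij.1 * ξ ^ (ij.2 : ℕ))
  let b0 : Module.Basis ι Rp (Rp ⊗[R] (ι → R)) := (Pi.basisFun R ι).baseChange Rp
  let e : Rp ⊗[R] (ι → R) ≃ₗ[Rp] Ap := b0.equiv T' (Equiv.refl ι)
  have hγ : γ.baseChange Rp = e.toLinearMap := by
    refine b0.ext fun ij => ?_
    rw [LinearEquiv.coe_coe, Module.Basis.equiv_apply, Equiv.refl_apply]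
    obtain ⟨i, j⟩ := ij
    rw [hT', Module.Basis.baseChange_apply, LinearMap.baseChange_tmul, Pi.basisFun_apply,
      Fintype.linearCombination_apply_single, one_smul]
  change Function.Bijective (γ.baseChange Rp)
  have : (γ.baseChange Rp : _ → _) = e := congrArg DFunLike.coe hγ
  rw [this]
  exact e.bijective

end Global

end Groth.Agent.Lib.Helper10.LocalSplit
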