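import Mathlib
import Groth.Agent.S5720
import Groth.Agent.Lib.Helper8.Azumaya

/-!
# A constant rank Azumaya algebra is split by a faithfully flat algebra (helper10)
-/

set_option autoImplicit false
set_option linter.style.haveILetI false
set_option linter.unusedSectionVars false
open scoped TensorProduct

universe u

namespace Groth.Agent.Lib.Helper10.AzSplitGlobal

/-- matrices over a product -/
def piMatrixHom (R : Type*) [CommRing R] {ι : Type*} (B : ι → Type*) [∀ i, CommRing (B i)]
    [∀ i, Algebra R (B i)] (n : ℕ) :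
    (∀ i, Matrix (Fin n) (Fin n) (B i)) →ₐ[R] Matrix (Fin n) (Fin n) (∀ i, B i) where
  toFun m := Matrix.of fun j k i => m i j k
  map_one' := by
    ext j k i
    simp only [Matrix.of_apply, Pi.one_apply, Matrix.one_apply]
    split_ifs <;> rfl
  map_mul' x y := by
    ext j k i
    simp [Matrix.mul_apply, Finset.sum_apply]
  map_zero' := by
    ext j k i
    rfl
  map_add' x y := by
    ext j k i
    rfl
  commutes' r := by
    ext j k i
    simp only [Matrix.of_apply, Pi.algebraMap_apply, Matrix.algebraMap_matrix_apply]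
    split_ifs <;> rfl

/-- local data: a flat algebra splitting `A` whose spectrum covers a basic open set -/
theorem exists_local_splitting (R : Type u) [CommRing R] (A : Type u) [Ring A] [Algebra R A]
    [IsAzumaya R A] (n : ℕ)
    (hrk : ∀ p : PrimeSpectrum R, Module.rankAtStalk A p = n ^ 2) (p : PrimeSpectrum R) :
    ∃ f : R, f ∉ p.asIdeal ∧ ∃ (R' : Type u) (_ : CommRing R') (_ : Algebra R R'),
      Module.Flat R R' ∧
      (∀ q : PrimeSpectrum R, f ∉ q.asIdeal →
        ∃ Q : PrimeSpectrum R', Q.comap (algebraMap R R') = q) ∧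
      Nonempty (A →ₐ[R] Matrix (Fin n) (Fin n) R') := by
  classical
  obtain ⟨f, hf, R', _, _, _, _, hfin, het, hff, r, hr, ⟨φ⟩⟩ :=
    Groth.Agent.S5720.result R A p.asIdeal
  have hprimes : ∀ q : PrimeSpectrum R, f ∉ q.asIdeal →
      ∃ Q : PrimeSpectrum R', Q.comap (algebraMap R R') = q := by
    intro q hq
    have hmem : q ∈ Set.range (PrimeSpectrum.comap (algebraMap R (Localization.Away f))) := by
      rw [PrimeSpectrum.localization_away_comap_range (Localization.Away f) f]
      exact hq
    obtain ⟨q', hq'⟩ := hmem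
    obtain ⟨Q, hQ⟩ := PrimeSpectrum.comap_surjective_of_faithfullyFlat
      (A := Localization.Away f) (B := R') q'
    refine ⟨Q, ?_⟩
    rw [IsScalarTower.algebraMap_eq R (Localization.Away f) R', PrimeSpectrum.comap_comp_apply, hQ,
      hq']
  haveI : Module.Flat R R' := Module.Flat.trans R (Localization.Away f) R'
  refine ⟨f, hf, R', inferInstance, inferInstance, inferInstance, hprimes, ?_⟩
  obtain ⟨Q, hQ⟩ := hprimes p hf
  haveI : Nontrivial R' := Q.nontrivial
  have h1 : Module.rankAtStalk (R' ⊗[R] A) Q = n ^ 2 := by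
    rw [Module.rankAtStalk_baseChange, hrk]
  have h2 : Module.rankAtStalk (R' ⊗[R] A) Q = r ^ 2 := by
    rw [Module.rankAtStalk_eq_of_equiv φ.toLinearEquiv, Module.rankAtStalk_eq_finrank_of_free]
    simp [Module.finrank_matrix, pow_two]
  have hrn : r = n := by
    have := h2.symm.trans h1
    exact Nat.pow_left_injective (by norm_num : 2 ≠ 0) this
  subst hrn
  exact ⟨(φ.toAlgHom.restrictScalars R).comp Algebra.TensorProduct.includeRight⟩

/-- a constant rank Azumaya algebra admits an algebra map to a matrix algebra over a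
faithfully flat algebra -/
theorem exists_faithfullyFlat_algHom (R : Type u) [CommRing R] (A : Type u) [Ring A] [Algebra R A]
    [IsAzumaya R A] (n : ℕ)
    (hrk : ∀ p : PrimeSpectrum R, Module.rankAtStalk A p = n ^ 2) :
    ∃ (S : Type u) (_ : CommRing S) (_ : Algebra R S), Module.FaithfullyFlat R S ∧
      Nonempty (A →ₐ[R] Matrix (Fin n) (Fin n) S) := by
  classical
  choose f hf R' iCR iAlg hflat hprimes hhom using exists_local_splitting R A n hrk
  letI : ∀ p, CommRing (R' p) := iCR
  letI : ∀ p, Algebra R (R' p) := iAlg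
  haveI : ∀ p, Module.Flat R (R' p) := hflat
  have hspan : Ideal.span (Set.range f) = ⊤ := by
    by_contra hne
    obtain ⟨m, hm, hle⟩ := Ideal.exists_le_maximal _ hne
    exact hf ⟨m, hm.isPrime⟩ (hle (Ideal.subset_span ⟨⟨m, hm.isPrime⟩, rfl⟩))
  have h1 : (1 : R) ∈ Submodule.span R (Set.range f) := by
    have : (1 : R) ∈ Ideal.span (Set.range f) := by rw [hspan]; trivial
    exact this
  obtain ⟨c, hc⟩ := Finsupp.mem_span_range_iff_exists_finsupp.mp h1
  let t : Finset (PrimeSpectrum R) := c.support
  have hcover : ∀ q : PrimeSpectrum R, ∃ p ∈ t, f p ∉ q.asIdeal := by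
    intro q
    by_contra hcon
    push Not at hcon
    apply q.isPrime.ne_top
    rw [Ideal.eq_top_iff_one, ← hc]
    refine Ideal.sum_mem _ fun p hp => ?_
    exact Ideal.mul_mem_left _ _ (hcon p hp)
  let S : Type u := ∀ i : t, R' i.1
  refine ⟨S, inferInstance, inferInstance, ?_, ?_⟩
  · haveI : Module.Flat R S :=
      Module.Flat.of_linearEquiv
        (DFinsupp.linearEquivFunOnFintype (R := R) (ι := t) (M := fun i : t => R' i.1)).symm
    refine Module.FaithfullyFlat.of_comap_surjective fun q => ?_
    obtain ⟨p, hp, hpq⟩ := hcover q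
    obtain ⟨Q, hQ⟩ := hprimes p q hpq
    refine ⟨Q.comap (Pi.evalRingHom (fun i : t => R' i.1) ⟨p, hp⟩), ?_⟩
    rw [← PrimeSpectrum.comap_comp_apply]
    exact hQ
  · exact ⟨(piMatrixHom R (fun i : t => R' i.1) n).comp
      (AlgHom.pi fun i : t => (hhom i.1).some)⟩

end Groth.Agent.Lib.Helper10.AzSplitGlobal
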