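import Groth.Prelude.Def_Dieu
import Mathlib

set_option autoImplicit false

namespace Groth.Agent.Lib.helper10.BCDescent

open Dieu TensorProduct

universe u v w w'

variable {A : Type u} {B : Type v} {C : Type w'} [CommRing A] [CommRing B] [CommRing C]
  (g : A →+* B) (h1 h2 : B →+* C) (e : h1.comp g = h2.comp g)

/-- `a ↦ g a` as an `A`-linear map `A → Res g`. -/
def gLin : A →ₗ[A] Res g where
  toFun a := Res.mk g (g a)
  map_add' a b := by rw [map_add]; rfl
  map_smul' a b := by
    rw [RingHom.id_apply, Res.smul_mk, smul_eq_mul, map_mul]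

/-- the difference `h1 - h2` as an `A`-linear map. -/
def dLin : Res g →ₗ[A] Res (h2.comp g) where
  toFun t := Res.mk (h2.comp g) (h1 t.val - h2 t.val)
  map_add' s t := by
    apply Res.ext
    change h1 (s.val + t.val) - h2 (s.val + t.val) = (h1 s.val - h2 s.val) + (h1 t.val - h2 t.val)
    rw [map_add, map_add]; ring
  map_smul' a t := by
    apply Res.ext
    have e' : h1 (g a) = h2 (g a) := by
      have := congrArg (fun f : A →+* C => f a) e
      simpa using this
    change h1 (g a * t.val) - h2 (g a * t.val) = (h2.comp g) a * (h1 t.val - h2 t.val)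
    rw [map_mul, map_mul, e', RingHom.comp_apply]; ring

theorem gLin_injective (hg : Function.Injective g) : Function.Injective (gLin g) := by
  intro a b hab
  exact hg hab

theorem exact_gLin_dLin (heq : ∀ b : B, h1 b = h2 b → b ∈ Set.range g) :
    Function.Exact (gLin g) (dLin g h1 h2 e) := by
  intro t
  constructor
  · intro ht
    have h' : h1 t.val - h2 t.val = 0 := ht
    obtain ⟨a, ha⟩ := heq t.val (sub_eq_zero.mp h')
    exact ⟨a, ha⟩
  · rintro ⟨a, rfl⟩
    apply Res.ext
    have e' : h1 (g a) = h2 (g a) := by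
      have := congrArg (fun f : A →+* C => f a) e
      simpa using this
    change h1 (g a) - h2 (g a) = 0
    rw [e', sub_self]

variable (M : Type w) [AddCommGroup M] [Module A M]

theorem ι_eq (x : M) :
    BC.ι g M x = ((gLin g).rTensor M) ((1 : A) ⊗ₜ[A] x) := by
  rw [LinearMap.rTensor_tmul]
  change BC.tmul g 1 x = (Res.mk g (g 1)) ⊗ₜ[A] x
  rw [map_one]; rfl

theorem range_ι_eq :
    Set.range (BC.ι g M) = Set.range ((gLin g).rTensor M) := by
  ext z
  constructor
  · rintro ⟨x, rfl⟩
    exact ⟨_, (ι_eq g M x).symm⟩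
  · rintro ⟨y, rfl⟩
    refine ⟨TensorProduct.lid A M y, ?_⟩
    rw [ι_eq]
    congr 1
    rw [← TensorProduct.lid_symm_apply, LinearEquiv.symm_apply_apply]

/-- the difference of the two pushes, as an additive map -/
def pushDiff : Res g ⊗[A] M →+ BC (h2.comp g) M :=
  ((BC.castHom e : BC (h1.comp g) M →ₗ[C] BC (h2.comp g) M).toAddMonoidHom.comp
    (BC.push g h1 : BC g M →ₛₗ[h1] BC (h1.comp g) M).toAddMonoidHom) -
  (BC.push g h2 : BC g M →ₛₗ[h2] BC (h2.comp g) M).toAddMonoidHom

theorem pushDiff_apply (z : Res g ⊗[A] M) :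
    pushDiff g h1 h2 e M z = BC.castHom e (BC.push g h1 (z : BC g M)) - BC.push g h2 (z : BC g M) :=
  rfl

theorem d_eq' (z : Res g ⊗[A] M) :
    ((dLin g h1 h2 e).rTensor M) z = pushDiff g h1 h2 e M z := by
  induction z using TensorProduct.induction_on with
  | zero => rw [map_zero, map_zero]; rfl
  | tmul t x =>
    rw [pushDiff_apply]
    change ((dLin g h1 h2 e).rTensor M) (t ⊗ₜ[A] x) =
      BC.castHom e (BC.push g h1 (BC.tmul g t.val x)) - BC.push g h2 (BC.tmul g t.val x)
    rw [BC.push_tmul, BC.push_tmul, BC.castHom_tmul, LinearMap.rTensor_tmul]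
    change (Res.mk (h2.comp g) (h1 t.val - h2 t.val)) ⊗ₜ[A] x = _
    rw [show Res.mk (h2.comp g) (h1 t.val - h2 t.val) =
      Res.mk (h2.comp g) (h1 t.val) - Res.mk (h2.comp g) (h2 t.val) from rfl, TensorProduct.sub_tmul]
    rfl
  | add a b ha hb => rw [map_add, map_add, ha, hb]; rfl

theorem d_eq (z : BC g M) :
    ((dLin g h1 h2 e).rTensor M) z =
      BC.castHom e (BC.push g h1 z) - BC.push g h2 z :=
  d_eq' g h1 h2 e M z

theorem main [Module.Flat A M] (hg : Function.Injective g)
    (heq : ∀ b : B, h1 b = h2 b → b ∈ Set.range g) :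
    Function.Injective (BC.ι g M) ∧
      ∀ z : BC g M, (BC.castHom e (BC.push g h1 z) = BC.push g h2 z ↔
        z ∈ Set.range (BC.ι g M)) := by
  have hinj : Function.Injective ((gLin g).rTensor M) :=
    Module.Flat.rTensor_preserves_injective_linearMap _ (gLin_injective g hg)
  have hex : Function.Exact ((gLin g).rTensor M) ((dLin g h1 h2 e).rTensor M) :=
    Module.Flat.rTensor_exact M (exact_gLin_dLin g h1 h2 e heq)
  constructor
  · intro x y hxy
    rw [ι_eq, ι_eq] at hxy
    have := hinj hxy
    have h2' := congrArg (TensorProduct.lid A M) this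
    simpa using h2'
  · intro z
    rw [range_ι_eq, ← sub_eq_zero, ← d_eq]
    exact hex z

end Groth.Agent.Lib.helper10.BCDescent

namespace Groth.Agent.Lib.helper10.BCDescent

open TensorProduct

/-- Standard-tensor version of the descent lemma. -/
theorem main_tensor {A B C : Type*} [CommRing A] [CommRing B] [CommRing C] [Algebra A B]
    [Algebra A C] (ψ₁ ψ₂ : B →ₐ[A] C) (hinj : Function.Injective (algebraMap A B))
    (heq : ∀ b : B, ψ₁ b = ψ₂ b → b ∈ Set.range (algebraMap A B))
    (M : Type*) [AddCommGroup M] [Module A M] [Module.Flat A M] :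
    Function.Injective (fun m : M => m ⊗ₜ[A] (1 : B)) ∧
      ∀ x : M ⊗[A] B, LinearMap.lTensor M ψ₁.toLinearMap x = LinearMap.lTensor M ψ₂.toLinearMap x →
        x ∈ Set.range (fun m : M => m ⊗ₜ[A] (1 : B)) := by
  have hex : Function.Exact (Algebra.linearMap A B) (ψ₁.toLinearMap - ψ₂.toLinearMap) := by
    intro b
    constructor
    · intro hb
      have : ψ₁ b - ψ₂ b = 0 := hb
      exact heq b (sub_eq_zero.mp this)
    · rintro ⟨a, rfl⟩
      change ψ₁ (algebraMap A B a) - ψ₂ (algebraMap A B a) = 0
      rw [AlgHom.commutes, AlgHom.commutes, sub_self]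
  have hex' := Module.Flat.lTensor_exact M hex
  have hinj' : Function.Injective (LinearMap.lTensor M (Algebra.linearMap A B)) :=
    Module.Flat.lTensor_preserves_injective_linearMap _ hinj
  have hι : ∀ m : M, m ⊗ₜ[A] (1 : B) =
      LinearMap.lTensor M (Algebra.linearMap A B) ((TensorProduct.rid A M).symm m) := by
    intro m
    rw [TensorProduct.rid_symm_apply, LinearMap.lTensor_tmul, Algebra.linearMap_apply, map_one]
  constructor
  · intro m m' h
    simp only [hι] at h
    exact (TensorProduct.rid A M).symm.injective (hinj' h)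
  · intro x hx
    have hx' : LinearMap.lTensor M (ψ₁.toLinearMap - ψ₂.toLinearMap) x = 0 := by
      rw [LinearMap.lTensor_sub, LinearMap.sub_apply, hx, sub_self]
    obtain ⟨y, rfl⟩ := (hex' x).mp hx'
    refine ⟨TensorProduct.rid A M y, ?_⟩
    simp only [hι, LinearEquiv.symm_apply_apply]

end Groth.Agent.Lib.helper10.BCDescent

namespace Groth.Agent.Lib.helper10.BCDescent

open Dieu TensorProduct

/-- Injectivity of `n ↦ 1 ⊗ n` into a twisted tensor product through a surjection followed by a
faithfully flat map. -/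
theorem tmul_one_injective {A S R N : Type*} [CommRing A] [CommRing S] [CommRing R] [Algebra S R]
    [Module.FaithfullyFlat S R] (π : A →+* S) (hπ : Function.Surjective π)
    [AddCommGroup N] [Module A N] (hker : ∀ a : A, π a = 0 → ∀ n : N, a • n = 0)
    (h : A →+* R) (hh : h = (algebraMap S R).comp π) :
    Function.Injective (fun n : N => BC.tmul h (1 : R) n) := by
  subst hh
  let _ : SMul S N := ⟨fun s n => Function.surjInv hπ s • n⟩
  have hsm : ∀ (c : A) (x : N), π c • x = c • x := by
    intro c x
    change Function.surjInv hπ (π c) • x = c • x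
    have h1 : π (Function.surjInv hπ (π c) - c) = 0 := by
      rw [map_sub, Function.surjInv_eq hπ, sub_self]
    have h2 := hker _ h1 x
    rwa [sub_smul, sub_eq_zero] at h2
  let _ : Module S N := Function.Surjective.moduleLeft π hπ hsm
  let f : Res ((algebraMap S R).comp π) →+ N →+ R ⊗[S] N :=
    { toFun := fun r => (TensorProduct.mk S R N r.val).toAddMonoidHom
      map_zero' := by
        ext n
        change (TensorProduct.mk S R N (0 : R)) n = 0
        rw [map_zero]; rfl
      map_add' := fun r s => by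
        ext n
        change (TensorProduct.mk S R N (r.val + s.val)) n = _
        rw [map_add]; rfl }
  have hf : ∀ (a : A) (r : Res ((algebraMap S R).comp π)) (n : N), f (a • r) n = f r (a • n) := by
    intro a r n
    change (((algebraMap S R).comp π) a * r.val) ⊗ₜ[S] n = r.val ⊗ₜ[S] (a • n)
    rw [RingHom.comp_apply, ← Algebra.smul_def, TensorProduct.smul_tmul, hsm]
  let Φ := TensorProduct.liftAddHom f hf
  intro n n' hnn
  have h1 : Φ (BC.tmul ((algebraMap S R).comp π) (1 : R) n) =
      Φ (BC.tmul ((algebraMap S R).comp π) (1 : R) n') := congrArg Φ hnn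
  have h2 : ∀ m : N, Φ (BC.tmul ((algebraMap S R).comp π) (1 : R) m) = (1 : R) ⊗ₜ[S] m := by
    intro m; rfl
  rw [h2, h2] at h1
  exact Module.FaithfullyFlat.tensorProduct_mk_injective (A := S) (B := R) N h1

end Groth.Agent.Lib.helper10.BCDescent
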