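import Groth.Agent.Lib.Helper10.DetV10

/-!
# Standard monomial basis of the coordinate ring of the opposite cell of a Schubert variety
(helper10)

The standard monomials on `X(τ)` not involving the least coordinate `ι` form a basis of
`K[X_θ] / (J(τ) + (X_ι - 1))`.
-/

set_option autoImplicit false
set_option linter.unusedSectionVars false
set_option linter.style.haveILetI false

universe u

open MvPolynomial W4bk4grassmannian

namespace Groth.Agent.Lib.helper10.BiT

open Groth.Agent.Lib.helper10.SMT Groth.Agent.Lib.helper10.FFT Groth.Agent.Lib.helper10.DetV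

section Cell

variable {d n : ℕ} (K : Type u) [Field K] [Infinite K] (hd : 0 < d) (τ : Idx d n)

theorem chainMon_succ {k : ℕ} (c : Fin (k + 1) → Idx d n) :
    chainMon K c = chainMon K (fun i : Fin k => c i.castSucc) * X (c (Fin.last k)) := by
  unfold chainMon
  rw [Fin.prod_univ_castSucc]

/-- Removing the least coordinate from a standard monomial. -/
theorem exists_strip : ∀ (k : ℕ) (c : Fin k → Idx d n), Antitone c → (∀ i, c i ≤ τ) →
    ∃ c' : Chains d n, (∀ i, c'.2.1 i ≤ τ ∧ c'.2.1 i ≠ iotaOf τ) ∧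
      chainMon K c - chainMon K c'.2.1 ∈
        Ideal.span {(X (iotaOf τ) : PlRing K d n) - 1} := by
  intro k
  induction k with
  | zero =>
    intro c hc _
    refine ⟨⟨0, c, hc⟩, fun i => i.elim0, ?_⟩
    rw [sub_self]
    exact zero_mem _
  | succ k ih =>
    intro c hc hle
    by_cases hlast : c (Fin.last k) = iotaOf τ
    · obtain ⟨c', hc', hmem⟩ := ih (fun i : Fin k => c i.castSucc)
        (fun a b hab => hc (Fin.castSucc_le_castSucc_iff.2 hab)) (fun i => hle _)
      refine ⟨c', hc', ?_⟩
      rw [chainMon_succ, hlast]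
      have : chainMon K (fun i : Fin k => c i.castSucc) * X (iotaOf τ) - chainMon K c'.2.1 =
          (chainMon K (fun i : Fin k => c i.castSucc) - chainMon K c'.2.1) * X (iotaOf τ) +
            chainMon K c'.2.1 * (X (iotaOf τ) - 1) := by ring
      rw [this]
      exact Ideal.add_mem _ (Ideal.mul_mem_right _ _ hmem)
        (Ideal.mul_mem_left _ _ (Ideal.subset_span rfl))
    · refine ⟨⟨k + 1, c, hc⟩, fun i => ⟨hle i, ?_⟩, ?_⟩
      · intro hi
        apply hlast
        apply le_antisymm
        · have h1 : c (Fin.last k) ≤ c i := hc (Fin.le_last i)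
          have h2 : c i = iotaOf τ := hi
          rw [h2] at h1
          exact h1
        · exact iotaOf_le τ _
      · rw [sub_self]
        exact zero_mem _

/-- Spanning of the coordinate ring of the opposite cell by the standard monomials avoiding the
least coordinate. -/
theorem cell_span (f : PlRing K d n) :
    ∃ g ∈ Submodule.span K ((fun c : Chains d n => chainMon K c.2.1) ''
      {c | ∀ k, c.2.1 k ≤ τ ∧ c.2.1 k ≠ iotaOf τ}), f - g ∈ cellQ K τ := by
  obtain ⟨g₀, hg₀, hfg₀⟩ := std_span_general K (schubertVanishing K d n τ)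
    (plIdealTop_le_schubertVanishing K τ) (fun c => ∀ k, c.2.1 k ≤ τ)
    (fun c hc => by
      obtain ⟨k, hk⟩ := not_forall.1 hc
      exact chainMon_mem_of_not_le K τ _ k hk) f
  have hle : Submodule.span K ((fun c : Chains d n => chainMon K c.2.1) ''
      {c | ∀ k, c.2.1 k ≤ τ}) ≤
      Submodule.span K ((fun c : Chains d n => chainMon K c.2.1) ''
        {c | ∀ k, c.2.1 k ≤ τ ∧ c.2.1 k ≠ iotaOf τ}) ⊔ (cellQ K τ).restrictScalars K := by
    rw [Submodule.span_le]
    rintro _ ⟨c, hc, rfl⟩
    obtain ⟨c', hc', hmem⟩ := exists_strip K τ c.1 c.2.1 c.2.2 hc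
    have : chainMon K c.2.1 = chainMon K c'.2.1 + (chainMon K c.2.1 - chainMon K c'.2.1) := by
      ring
    dsimp only
    rw [this]
    apply Submodule.add_mem
    · exact Submodule.mem_sup_left (Submodule.subset_span ⟨c', hc', rfl⟩)
    · apply Submodule.mem_sup_right
      show _ ∈ cellQ K τ
      unfold cellQ
      exact Ideal.mem_sup_right hmem
  obtain ⟨g, hg, h, hh, hsum⟩ := Submodule.mem_sup.1 (hle hg₀)
  refine ⟨g, hg, ?_⟩
  have : f - g = (f - g₀) + h := by rw [← hsum]; ring
  rw [this]
  apply Ideal.add_mem _ _ hh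
  unfold cellQ
  exact Ideal.mem_sup_left hfg₀

/-- Padding a chain by the least index up to length `D`: the underlying function. -/
noncomputable def extFun (D : ℕ) (c : Chains d n) (i : Fin D) : Idx d n :=
  if h : i.val < c.1 then c.2.1 ⟨i.val, h⟩ else iotaOf τ

theorem extFun_antitone (D : ℕ) (c : Chains d n) : Antitone (extFun τ D c) := by
  intro i j hij
  unfold extFun
  by_cases hj : j.val < c.1
  · have hi : i.val < c.1 := lt_of_le_of_lt hij hj
    rw [dif_pos hi, dif_pos hj]
    exact c.2.2 hij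
  · rw [dif_neg hj]
    exact iotaOf_le τ _

/-- Padding a chain by the least index up to length `D`. -/
noncomputable def extD (D : ℕ) (c : Chains d n) : Chains d n :=
  ⟨D, extFun τ D c, extFun_antitone τ D c⟩

theorem extD_apply_of_lt (D : ℕ) (c : Chains d n) (i : Fin D) (h : i.val < c.1) :
    (extD τ D c).2.1 i = c.2.1 ⟨i.val, h⟩ := by
  show extFun τ D c i = _
  unfold extFun
  rw [dif_pos h]

theorem extD_apply_of_not_lt (D : ℕ) (c : Chains d n) (i : Fin D) (h : ¬ i.val < c.1) :
    (extD τ D c).2.1 i = iotaOf τ := by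
  show extFun τ D c i = _
  unfold extFun
  rw [dif_neg h]

theorem chainMon_extD (D : ℕ) (c : Chains d n) (hc : c.1 ≤ D) :
    chainMon K (extD τ D c).2.1 = chainMon K c.2.1 * X (iotaOf τ) ^ (D - c.1) := by
  obtain ⟨G, hG⟩ : ∃ G : ℕ → PlRing K d n,
      G = fun i => if h : i < c.1 then X (c.2.1 ⟨i, h⟩) else X (iotaOf τ) := ⟨_, rfl⟩
  have h1 : chainMon K (extD τ D c).2.1 = ∏ i : Fin D, G i.val := by
    unfold chainMon
    apply Finset.prod_congr rfl
    intro i _
    rw [hG]
    dsimp only
    by_cases h : i.val < c.1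
    · rw [dif_pos h, extD_apply_of_lt τ D c i h]
    · rw [dif_neg h, extD_apply_of_not_lt τ D c i h]
  have h2 : chainMon K c.2.1 = ∏ i : Fin c.1, G i.val := by
    unfold chainMon
    apply Finset.prod_congr rfl
    intro i _
    rw [hG]
    dsimp only
    rw [dif_pos i.isLt]
  rw [h1, h2, Fin.prod_univ_eq_prod_range G D, Fin.prod_univ_eq_prod_range G c.1,
    ← Finset.prod_range_mul_prod_Ico G hc]
  congr 1
  rw [Finset.prod_eq_pow_card (b := X (iotaOf τ)), Nat.card_Ico]
  intro i hi
  rw [Finset.mem_Ico] at hi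
  rw [hG]
  dsimp only
  rw [dif_neg (by omega)]

theorem extD_injOn (D : ℕ) (c c' : Chains d n) (hc : c.1 ≤ D) (hc' : c'.1 ≤ D)
    (hfree : ∀ k, c.2.1 k ≠ iotaOf τ) (hfree' : ∀ k, c'.2.1 k ≠ iotaOf τ)
    (h : extD τ D c = extD τ D c') : c = c' := by
  have hfun : ∀ i : Fin D, (extD τ D c).2.1 i = (extD τ D c').2.1 i := by
    intro i
    have h1 : extFun τ D c = extFun τ D c' := by
      have h2 := h
      unfold extD at h2
      simp only [Sigma.mk.inj_iff, heq_eq_eq, true_and, Subtype.mk.injEq] at h2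
      exact h2
    exact congrFun h1 i
  have hlen : c.1 = c'.1 := by
    by_contra hne
    rcases lt_or_gt_of_ne hne with hlt | hlt
    · have h1 := hfun ⟨c.1, by omega⟩
      rw [extD_apply_of_not_lt τ D c _ (by simp), extD_apply_of_lt τ D c' _ (by simpa using hlt)]
        at h1
      exact hfree' _ h1.symm
    · have h1 := hfun ⟨c'.1, by omega⟩
      rw [extD_apply_of_not_lt τ D c' _ (by simp), extD_apply_of_lt τ D c _ (by simpa using hlt)]
        at h1
      exact hfree _ h1
  obtain ⟨k, c, hanti⟩ := c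
  obtain ⟨k', c', hanti'⟩ := c'
  simp only at hlen
  subst hlen
  congr 1
  apply Subtype.ext
  funext i
  have h1 := hfun ⟨i.val, lt_of_lt_of_le i.isLt hc⟩
  rw [extD_apply_of_lt τ D _ _ (by exact i.isLt), extD_apply_of_lt τ D _ _ (by exact i.isLt)] at h1
  exact h1

include hd in
/-- Linear independence of the standard monomials avoiding the least coordinate in the
coordinate ring of the opposite cell. -/
theorem cell_independent {ι' : Type*} (e : ι' → Chains d n) (he : Function.Injective e)
    (s : Finset ι') (g : ι' → K)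
    (hs : ∀ c ∈ s, ∀ k, (e c).2.1 k ≤ τ ∧ (e c).2.1 k ≠ iotaOf τ)
    (hsum : ∑ c ∈ s, g c • chainMon K (e c).2.1 ∈ cellQ K τ) : ∀ c ∈ s, g c = 0 := by
  classical
  haveI := isPrime_schubertVanishing K hd τ
  obtain ⟨D, hD⟩ : ∃ D, D = s.sup (fun c => (e c).1) := ⟨_, rfl⟩
  have hlen : ∀ c ∈ s, (e c).1 ≤ D := by
    intro c hc
    rw [hD]
    exact Finset.le_sup (f := fun c => (e c).1) hc
  obtain ⟨Fh, hFh⟩ : ∃ Fh : PlRing K d n,
      Fh = ∑ c ∈ s, g c • chainMon K (extD τ D (e c)).2.1 := ⟨_, rfl⟩
  have hdiff : ∑ c ∈ s, g c • chainMon K (e c).2.1 - Fh ∈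
      Ideal.span {(X (iotaOf τ) : PlRing K d n) - 1} := by
    rw [hFh, ← Finset.sum_sub_distrib]
    apply Ideal.sum_mem
    intro c hc
    rw [chainMon_extD K τ D (e c) (hlen c hc), ← smul_sub, MvPolynomial.smul_eq_C_mul]
    apply Ideal.mul_mem_left
    have h1 : chainMon K (e c).2.1 - chainMon K (e c).2.1 * X (iotaOf τ) ^ (D - (e c).1) =
        - (chainMon K (e c).2.1 * (X (iotaOf τ) ^ (D - (e c).1) - 1)) := by ring
    rw [h1]
    apply neg_mem
    apply Ideal.mul_mem_left
    exact Ideal.mem_span_singleton.2 (sub_one_dvd_pow_sub_one _ _)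
  have hFhmem : Fh ∈ cellQ K τ := by
    have h1 : Fh = ∑ c ∈ s, g c • chainMon K (e c).2.1 -
        (∑ c ∈ s, g c • chainMon K (e c).2.1 - Fh) := by ring
    rw [h1]
    apply Ideal.sub_mem _ hsum
    unfold cellQ
    exact Ideal.mem_sup_right hdiff
  have hFhhom : Fh.IsHomogeneous D := by
    rw [hFh]
    apply IsHomogeneous.sum
    intro c _
    rw [MvPolynomial.smul_eq_C_mul]
    have h1 : (chainMon K (extD τ D (e c)).2.1).IsHomogeneous D := by
      unfold chainMon
      have h2 := IsHomogeneous.prod (Finset.univ : Finset (Fin D))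
        (fun k => (X ((extD τ D (e c)).2.1 k) : PlRing K d n)) (fun _ => 1)
        (fun k _ => isHomogeneous_X K _)
      rw [Finset.sum_const, Finset.card_univ, Fintype.card_fin, smul_eq_mul, mul_one] at h2
      exact h2
    have h3 := (isHomogeneous_C (Idx d n) (g c)).mul h1
    rw [zero_add] at h3
    exact h3
  have hFhJ : Fh ∈ schubertVanishing K d n τ := by
    unfold cellQ at hFhmem
    rw [← ker_dehom K (schubertVanishing K d n τ) (iotaOf τ)
      (X_notMem_schubertVanishing K τ _ (iotaOf_le τ τ))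
      (homogeneousComponent_mem_schubertVanishing K hd τ), RingHom.mem_ker] at hFhmem
    exact (dehom_eq_zero_iff_of_isHomogeneous K (schubertVanishing K d n τ) (iotaOf τ)
      (X_notMem_schubertVanishing K τ _ (iotaOf_le τ τ)) hFhhom).1 hFhmem
  have hinj : Function.Injective (fun c : {c // c ∈ s} => extD τ D (e c.1)) := by
    intro c₁ c₂ h12
    apply Subtype.ext
    apply he
    exact extD_injOn τ D (e c₁.1) (e c₂.1) (hlen _ c₁.2) (hlen _ c₂.2)
      (fun k => (hs _ c₁.2 k).2) (fun k => (hs _ c₂.2 k).2) h12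
  have key := std_independent_union K hd (fun _ : Unit => τ)
    (fun c : {c // c ∈ s} => extD τ D (e c.1)) hinj s.attach (fun c => g c.1)
    (by
      intro c _
      refine ⟨(), fun k => ?_⟩
      by_cases h : k.val < (e c.1).1
      · rw [extD_apply_of_lt τ D _ _ h]
        exact (hs _ c.2 _).1
      · rw [extD_apply_of_not_lt τ D _ _ h]
        exact iotaOf_le τ τ)
    (by
      rw [Ideal.mem_iInf]
      intro _
      rw [Finset.sum_attach s (fun c => g c • chainMon K (extD τ D (e c)).2.1), ← hFh]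
      exact hFhJ)
  intro c hc
  exact key ⟨c, hc⟩ (Finset.mem_attach _ _)

end Cell

end Groth.Agent.Lib.helper10.BiT
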