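import Groth.Agent.Lib.Helper10.BiT1

/-!
# Minors of a matrix and Plücker coordinates of `[1; X]` (helper10): the order-reversing bijection
-/

set_option autoImplicit false
set_option linter.unusedSectionVars false
set_option linter.style.haveILetI false

universe u

open MvPolynomial W4bk4grassmannian

namespace Groth.Agent.Lib.helper10.BiT

open Groth.Agent.Lib.helper10.SMT Groth.Agent.Lib.helper10.FFT Groth.Agent.Lib.helper10.DetV

section Count

/-- The number of entries of a tuple below `x`. -/
def cntLt {k N : ℕ} (a : Fin k → Fin N) (x : ℕ) : ℕ :=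
  (Finset.univ.filter fun j : Fin k => (a j).val < x).card

theorem cntLt_eq_sum {k N : ℕ} (a : Fin k → Fin N) (x : ℕ) :
    cntLt a x = ∑ j : Fin k, if (a j).val < x then 1 else 0 := by
  unfold cntLt
  rw [Finset.card_filter]

theorem cntLt_top {k N : ℕ} (a : Fin k → Fin N) (x : ℕ) (hx : N ≤ x) : cntLt a x = k := by
  unfold cntLt
  rw [Finset.filter_true_of_mem (fun j _ => lt_of_lt_of_le (a j).isLt hx), Finset.card_univ,
    Fintype.card_fin]

theorem cntLt_le_of_le {k k' N : ℕ} (a : Fin k → Fin N) (a' : Fin k' → Fin N) (hk : k ≤ k')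
    (h : ∀ (j : Fin k) (j' : Fin k'), j.val = j'.val → a' j' ≤ a j) (x : ℕ) :
    cntLt a x ≤ cntLt a' x := by
  unfold cntLt
  apply Finset.card_le_card_of_injOn (fun j => (⟨j.val, lt_of_lt_of_le j.isLt hk⟩ : Fin k'))
  · intro j hj
    rw [Finset.mem_coe, Finset.mem_filter] at hj ⊢
    refine ⟨Finset.mem_univ _, lt_of_le_of_lt ?_ hj.2⟩
    exact Fin.le_def.1 (h j _ rfl)
  · intro j _ j' _ hjj'
    apply Fin.ext
    have h1 := congrArg Fin.val hjj'
    exact h1

theorem le_of_cntLt_le {k k' N : ℕ} (a : Fin k → Fin N) (a' : Fin k' → Fin N)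
    (ha : StrictMono a) (ha' : StrictMono a') (h : ∀ x, cntLt a x ≤ cntLt a' x) :
    k ≤ k' ∧ ∀ (j : Fin k) (j' : Fin k'), j.val = j'.val → a' j' ≤ a j := by
  constructor
  · have h0 := h N
    rw [cntLt_top a N le_rfl, cntLt_top a' N le_rfl] at h0
    exact h0
  · intro j j' hjj'
    by_contra hcon
    rw [not_le, Fin.lt_def] at hcon
    have h1 : j.val + 1 ≤ cntLt a ((a j).val + 1) := by
      unfold cntLt
      rw [← Fin.card_Iic j]
      apply Finset.card_le_card
      intro i hi
      rw [Finset.mem_Iic] at hi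
      rw [Finset.mem_filter]
      refine ⟨Finset.mem_univ _, ?_⟩
      have h2 := ha.monotone hi
      rw [Fin.le_def] at h2
      omega
    have h2 : cntLt a' ((a j).val + 1) ≤ j'.val := by
      unfold cntLt
      rw [← Fin.card_Iio j']
      apply Finset.card_le_card
      intro i hi
      rw [Finset.mem_filter] at hi
      rw [Finset.mem_Iio]
      by_contra hnot
      rw [not_lt] at hnot
      have h3 := ha'.monotone hnot
      rw [Fin.le_def] at h3
      omega
    have h3 := h ((a j).val + 1)
    omega

theorem cntLt_eq_card_image {k N : ℕ} (a : Fin k → Fin N) (ha : Function.Injective a) (x : ℕ) :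
    cntLt a x = ((Finset.univ.image a).filter fun r : Fin N => r.val < x).card := by
  unfold cntLt
  rw [Finset.filter_image, Finset.card_image_of_injective _ ha]

theorem cntLt_congr {k N : ℕ} (a a' : Fin k → Fin N) (ha : Function.Injective a)
    (ha' : Function.Injective a') (h : Finset.univ.image a = Finset.univ.image a') (x : ℕ) :
    cntLt a x = cntLt a' x := by
  rw [cntLt_eq_card_image a ha, cntLt_eq_card_image a' ha', h]

/-- For tuples of the same length, the entrywise order in terms of counting. -/
theorem le_iff_cntLt {k N : ℕ} (a a' : Fin k → Fin N) (ha : StrictMono a) (ha' : StrictMono a') :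
    (∀ j, a j ≤ a' j) ↔ ∀ x, cntLt a' x ≤ cntLt a x := by
  constructor
  · intro h x
    apply cntLt_le_of_le a' a le_rfl
    intro j j' hjj'
    have : j = j' := Fin.ext hjj'
    rw [this]
    exact h j'
  · intro h j
    exact (le_of_cntLt_le a' a ha' ha h).2 j j rfl

end Count

section Rows

variable {m n : ℕ}

theorem split_sum {t : ℕ} (g : Fin t → Fin n) (hg : Function.Injective g) (F : Fin n → ℕ) :
    ∑ c, F c = ∑ c ∈ Finset.univ.filter (fun c : Fin n => ∀ k, g k ≠ c), F c + ∑ k, F (g k) := by
  classical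
  rw [← Finset.sum_filter_add_sum_filter_not Finset.univ (fun c : Fin n => ∀ k, g k ≠ c)]
  congr 1
  have h1 : Finset.univ.filter (fun c : Fin n => ¬ ∀ k, g k ≠ c) = Finset.univ.image g := by
    ext c
    rw [Finset.mem_filter, Finset.mem_image]
    constructor
    · rintro ⟨-, h⟩
      push Not at h
      obtain ⟨k, hk⟩ := h
      exact ⟨k, Finset.mem_univ _, hk⟩
    · rintro ⟨k, -, hk⟩
      refine ⟨Finset.mem_univ _, ?_⟩
      push Not
      exact ⟨k, hk⟩
  rw [h1, Finset.sum_image (fun a _ b _ hab => hg hab)]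

theorem updRows_injective {t : ℕ} (f : Fin t → Fin m) (g : Fin t → Fin n)
    (hf : Function.Injective f) (hg : Function.Injective g) :
    Function.Injective (updRows f g) := by
  intro c c' h
  by_cases hc : ∃ k, g k = c
  · obtain ⟨k, rfl⟩ := hc
    by_cases hc' : ∃ k, g k = c'
    · obtain ⟨k', rfl⟩ := hc'
      rw [updRows_apply_of_eq f g hg, updRows_apply_of_eq f g hg] at h
      have h1 := congrArg Fin.val h
      rw [Fin.val_natAdd, Fin.val_natAdd] at h1
      have h2 : f k = f k' := Fin.ext (by omega)
      rw [hf h2]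
    · push Not at hc'
      rw [updRows_apply_of_eq f g hg, updRows_apply_of_ne f g c' hc'] at h
      have h1 := congrArg Fin.val h
      rw [Fin.val_natAdd, Fin.val_castAdd] at h1
      have := c'.isLt
      omega
  · push Not at hc
    by_cases hc' : ∃ k, g k = c'
    · obtain ⟨k', rfl⟩ := hc'
      rw [updRows_apply_of_ne f g c hc, updRows_apply_of_eq f g hg] at h
      have h1 := congrArg Fin.val h
      rw [Fin.val_natAdd, Fin.val_castAdd] at h1
      have := c.isLt
      omega
    · push Not at hc'
      rw [updRows_apply_of_ne f g c hc, updRows_apply_of_ne f g c' hc'] at h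
      have h1 := congrArg Fin.val h
      rw [Fin.val_castAdd, Fin.val_castAdd] at h1
      exact Fin.ext h1

/-- Counting the entries of `updRows f g` below `x`. -/
theorem cntLt_updRows {t : ℕ} (f : Fin t → Fin m) (g : Fin t → Fin n)
    (hg : Function.Injective g) (x : ℕ) :
    cntLt (updRows f g) x =
      ∑ c ∈ Finset.univ.filter (fun c : Fin n => ∀ k, g k ≠ c), (if c.val < x then 1 else 0) +
        ∑ k, if n + (f k).val < x then 1 else 0 := by
  rw [cntLt_eq_sum, split_sum g hg]
  congr 1
  · apply Finset.sum_congr rfl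
    intro c hc
    rw [Finset.mem_filter] at hc
    rw [updRows_apply_of_ne f g c hc.2, Fin.val_castAdd]
  · apply Finset.sum_congr rfl
    intro k _
    rw [updRows_apply_of_eq f g hg, Fin.val_natAdd]

theorem cntLt_updRows_add_of_le {t : ℕ} (f : Fin t → Fin m) (g : Fin t → Fin n)
    (hg : Function.Injective g) (x : ℕ) (hx : x ≤ n) :
    cntLt (updRows f g) x + cntLt g x = x := by
  rw [cntLt_updRows f g hg, cntLt_eq_sum g]
  have h1 : ∑ k, (if n + (f k).val < x then 1 else 0) = 0 := by
    apply Finset.sum_eq_zero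
    intro k _
    rw [if_neg (by omega)]
  have h2 := split_sum g hg (fun c => if c.val < x then 1 else 0)
  have h3 : ∑ c : Fin n, (if c.val < x then 1 else 0) = x := by
    rw [← Finset.card_filter, Fin.card_filter_val_lt, min_eq_right hx]
  rw [h1, add_zero]
  exact h2.symm.trans h3

theorem cntLt_updRows_add_of_ge {t : ℕ} (f : Fin t → Fin m) (g : Fin t → Fin n)
    (hg : Function.Injective g) (y : ℕ) :
    cntLt (updRows f g) (n + y) + ∑ k : Fin t, (if (f k).val < y then 0 else 1) = n := by
  rw [cntLt_updRows f g hg]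
  have h2 := split_sum g hg (fun _ => 1)
  have h3 : ∑ _c : Fin n, 1 = n := by
    rw [Finset.sum_const, Finset.card_univ, Fintype.card_fin, smul_eq_mul, mul_one]
  have h4 : ∑ c ∈ Finset.univ.filter (fun c : Fin n => ∀ k, g k ≠ c),
      (if c.val < n + y then 1 else 0) =
      ∑ c ∈ Finset.univ.filter (fun c : Fin n => ∀ k, g k ≠ c), 1 := by
    apply Finset.sum_congr rfl
    intro c _
    rw [if_pos (by have := c.isLt; omega)]
  have h5 : ∑ k : Fin t, (if n + (f k).val < n + y then 1 else 0) +
      ∑ k : Fin t, (if (f k).val < y then 0 else 1) = ∑ _k : Fin t, 1 := by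
    rw [← Finset.sum_add_distrib]
    apply Finset.sum_congr rfl
    intro k _
    by_cases h : (f k).val < y
    · rw [if_pos (by omega), if_pos h]
    · rw [if_neg (by omega), if_neg h]
  rw [h4, add_assoc, h5]
  exact h2.symm.trans h3

end Rows

section Theta

variable {m n : ℕ}

/-- The reversed row indices of a minor. -/
def revRows (M : MinorIdx m n) (k : Fin (M.1 + 1)) : Fin m := Fin.rev (M.2.1.1 k)

theorem revRows_injective (M : MinorIdx m n) : Function.Injective (revRows M) :=
  fun _ _ h => M.2.1.2.injective (Fin.rev_injective h)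

/-- The rows of `[1; X]` attached to a minor. -/
noncomputable def rowsOf (M : MinorIdx m n) : Fin n → Fin (n + m) :=
  updRows (revRows M) M.2.2.1

theorem rowsOf_injective (M : MinorIdx m n) : Function.Injective (rowsOf M) :=
  updRows_injective _ _ (revRows_injective M) M.2.2.2.injective

theorem card_image_rowsOf (M : MinorIdx m n) : (Finset.univ.image (rowsOf M)).card = n := by
  rw [Finset.card_image_of_injective _ (rowsOf_injective M), Finset.card_univ, Fintype.card_fin]

/-- The Plücker index attached to a minor. -/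
noncomputable def th (M : MinorIdx m n) : Idx n (n + m) :=
  sortIdx n (n + m) (rowsOf M) (card_image_rowsOf M)

theorem image_th (M : MinorIdx m n) :
    Finset.univ.image (th M).1 = Finset.univ.image (rowsOf M) :=
  Finset.image_orderEmbOfFin_univ _ _

theorem cntLt_th (M : MinorIdx m n) (x : ℕ) : cntLt (th M).1 x = cntLt (rowsOf M) x :=
  cntLt_congr _ _ (th M).2.injective (rowsOf_injective M) (image_th M) x

theorem cntLt_th_add_of_le (M : MinorIdx m n) (x : ℕ) (hx : x ≤ n) :
    cntLt (th M).1 x + cntLt M.2.2.1 x = x := by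
  rw [cntLt_th]
  exact cntLt_updRows_add_of_le _ _ M.2.2.2.injective x hx

theorem cntLt_th_add_of_ge (M : MinorIdx m n) (y : ℕ) (hy : y ≤ m) :
    cntLt (th M).1 (n + y) + cntLt M.2.1.1 (m - y) = n := by
  rw [cntLt_th]
  have h1 := cntLt_updRows_add_of_ge (revRows M) M.2.2.1 M.2.2.2.injective y
  have h2 : ∑ k : Fin (M.1 + 1), (if (revRows M k).val < y then 0 else 1) =
      cntLt M.2.1.1 (m - y) := by
    rw [cntLt_eq_sum]
    apply Finset.sum_congr rfl
    intro k _
    unfold revRows
    rw [Fin.val_rev]
    have := (M.2.1.1 k).isLt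
    by_cases h : (M.2.1.1 k).val < m - y
    · rw [if_pos h, if_neg (by omega)]
    · rw [if_neg h, if_pos (by omega)]
  rw [h2] at h1
  exact h1

/-- **The order on minors is the order on Plücker indices.** -/
theorem minorGE_iff (M M' : MinorIdx m n) : MinorGE M M' ↔ th M ≤ th M' := by
  constructor
  · rintro ⟨hs, h⟩
    have cA : ∀ x, cntLt M.2.1.1 x ≤ cntLt M'.2.1.1 x :=
      cntLt_le_of_le _ _ (by omega) (fun j j' hjj' => (h j j' hjj').1)
    have cB : ∀ x, cntLt M.2.2.1 x ≤ cntLt M'.2.2.1 x :=
      cntLt_le_of_le _ _ (by omega) (fun j j' hjj' => (h j j' hjj').2)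
    show ∀ j, (th M).1 j ≤ (th M').1 j
    rw [le_iff_cntLt _ _ (th M).2 (th M').2]
    intro x
    by_cases hx : x ≤ n
    · have h1 := cntLt_th_add_of_le M x hx
      have h2 := cntLt_th_add_of_le M' x hx
      have h3 := cB x
      omega
    · by_cases hy : x - n ≤ m
      · have h1 := cntLt_th_add_of_ge M (x - n) hy
        have h2 := cntLt_th_add_of_ge M' (x - n) hy
        have h3 := cA (m - (x - n))
        have h4 : n + (x - n) = x := by omega
        rw [h4] at h1 h2
        omega
      · rw [cntLt_top _ x (by omega), cntLt_top _ x (by omega)]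
  · intro hle
    have hle' : ∀ j, (th M).1 j ≤ (th M').1 j := hle
    rw [le_iff_cntLt _ _ (th M).2 (th M').2] at hle'
    have cB0 : ∀ x, x ≤ n → cntLt M.2.2.1 x ≤ cntLt M'.2.2.1 x := by
      intro x hx
      have h1 := cntLt_th_add_of_le M x hx
      have h2 := cntLt_th_add_of_le M' x hx
      have h3 := hle' x
      omega
    have cB : ∀ x, cntLt M.2.2.1 x ≤ cntLt M'.2.2.1 x := by
      intro x
      by_cases hx : x ≤ n
      · exact cB0 x hx
      · have h1 := cB0 n le_rfl
        rw [cntLt_top _ n le_rfl, cntLt_top _ n le_rfl] at h1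
        rw [cntLt_top _ x (by omega), cntLt_top _ x (by omega)]
        exact h1
    have cA0 : ∀ z, z ≤ m → cntLt M.2.1.1 z ≤ cntLt M'.2.1.1 z := by
      intro z hz
      have h1 := cntLt_th_add_of_ge M (m - z) (by omega)
      have h2 := cntLt_th_add_of_ge M' (m - z) (by omega)
      have h3 := hle' (n + (m - z))
      have h4 : m - (m - z) = z := by omega
      rw [h4] at h1 h2
      omega
    have cA : ∀ z, cntLt M.2.1.1 z ≤ cntLt M'.2.1.1 z := by
      intro z
      by_cases hz : z ≤ m
      · exact cA0 z hz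
      · have h1 := cA0 m le_rfl
        rw [cntLt_top _ m le_rfl, cntLt_top _ m le_rfl] at h1
        rw [cntLt_top _ z (by omega), cntLt_top _ z (by omega)]
        exact h1
    have hA := le_of_cntLt_le _ _ M.2.1.2 M'.2.1.2 cA
    have hB := le_of_cntLt_le _ _ M.2.2.2 M'.2.2.2 cB
    exact ⟨by have := hA.1; omega, fun j j' hjj' => ⟨hA.2 j j' hjj', hB.2 j j' hjj'⟩⟩

theorem minorGE_antisymm (M M' : MinorIdx m n) (h1 : MinorGE M M') (h2 : MinorGE M' M) :
    M = M' := by
  obtain ⟨s, A, B⟩ := M
  obtain ⟨s', A', B'⟩ := M'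
  have hs : s = s' := le_antisymm h1.1 h2.1
  subst hs
  have hA : A = A' := by
    apply Subtype.ext
    funext j
    exact le_antisymm (h2.2 j j rfl).1 (h1.2 j j rfl).1
  have hB : B = B' := by
    apply Subtype.ext
    funext j
    exact le_antisymm (h2.2 j j rfl).2 (h1.2 j j rfl).2
  rw [hA, hB]

theorem th_injective : Function.Injective (th (m := m) (n := n)) := by
  intro M M' h
  apply minorGE_antisymm
  · rw [minorGE_iff, h]
  · rw [minorGE_iff, h]

theorem cntLt_iotaDet : cntLt (iotaDet m n).1 n = n := by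
  unfold cntLt
  rw [Finset.filter_true_of_mem, Finset.card_univ, Fintype.card_fin]
  intro j _
  show (Fin.castAdd m j).val < n
  rw [Fin.val_castAdd]
  exact j.isLt

theorem cntLt_th_self (M : MinorIdx m n) : cntLt (th M).1 n + (M.1 + 1) = n := by
  have h1 := cntLt_th_add_of_ge M 0 (Nat.zero_le _)
  rw [add_zero, Nat.sub_zero, cntLt_top _ m le_rfl] at h1
  exact h1

theorem th_ne_iotaDet (M : MinorIdx m n) : th M ≠ iotaDet m n := by
  intro h
  have h1 := cntLt_th_self M
  rw [h, cntLt_iotaDet] at h1
  omega

theorem cntX_th (M : MinorIdx m n) : cntX (m := m) (n := n) (th M).1 = M.1 + 1 := by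
  have h1 := cntLt_th_self M
  have h2 : cntLt (th M).1 n + cntX (m := m) (n := n) (th M).1 = n := by
    unfold cntLt cntX
    have h3 := Finset.card_filter_add_card_filter_not (s := (Finset.univ : Finset (Fin n)))
      (fun j : Fin n => ((th M).1 j).val < n)
    rw [Finset.card_univ, Fintype.card_fin] at h3
    refine Eq.trans ?_ h3
    congr 2
    ext j
    rw [Finset.mem_filter, Finset.mem_filter, not_lt]
  omega

theorem th_le_tauDet_iff (M : MinorIdx m n) (t : ℕ) (ht : 1 ≤ t) (htm : t ≤ m) (htn : t ≤ n) :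
    th M ≤ tauDet m n t ht htm ↔ M.1 + 1 ≤ t - 1 := by
  constructor
  · intro h
    by_contra hcon
    apply not_le_of_cntX m n t ht htm htn (th M) _ h
    rw [cntX_th]
    omega
  · intro h
    by_contra hcon
    have h1 := cntX_of_not_le m n t ht htm htn (th M) hcon
    rw [cntX_th] at h1
    omega

end Theta

end Groth.Agent.Lib.helper10.BiT
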