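import Groth.Agent.Lib.Helper10.BiT2

/-!
# Minors of a matrix and Plücker coordinates of `[1; X]` (helper10): surjectivity and signs
-/

set_option autoImplicit false
set_option linter.unusedSectionVars false
set_option linter.style.haveILetI false

universe u

open MvPolynomial W4bk4grassmannian

namespace Groth.Agent.Lib.helper10.BiT

open Groth.Agent.Lib.helper10.SMT Groth.Agent.Lib.helper10.FFT Groth.Agent.Lib.helper10.DetV

section Surj

variable {m n : ℕ}

theorem idx_ext_of_image {d N : ℕ} (θ θ' : Idx d N)
    (h : Finset.univ.image θ.1 = Finset.univ.image θ'.1) : θ = θ' := by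
  have hc : (Finset.univ.image θ'.1).card = d := by
    rw [Finset.card_image_of_injective _ θ'.2.injective, Finset.card_univ, Fintype.card_fin]
  have h1 := Finset.orderEmbOfFin_unique hc (f := θ.1)
    (fun x => by rw [← h]; exact Finset.mem_image_of_mem _ (Finset.mem_univ x)) θ.2
  have h2 := Finset.orderEmbOfFin_unique hc (f := θ'.1)
    (fun x => Finset.mem_image_of_mem _ (Finset.mem_univ x)) θ'.2
  apply Subtype.ext
  exact h1.trans h2.symm

/-- Every Plücker index other than the least one comes from a minor. -/
theorem th_surjective (θ : Idx n (n + m)) (hθ : θ ≠ iotaDet m n) : ∃ M : MinorIdx m n, th M = θ := by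
  classical
  obtain ⟨S, hS⟩ : ∃ S : Finset (Fin (n + m)), S = Finset.univ.image θ.1 := ⟨_, rfl⟩
  have hScard : S.card = n := by
    rw [hS, Finset.card_image_of_injective _ θ.2.injective, Finset.card_univ, Fintype.card_fin]
  obtain ⟨Bset, hBset⟩ : ∃ Bset : Finset (Fin n),
      Bset = Finset.univ.filter (fun j : Fin n => Fin.castAdd m j ∉ S) := ⟨_, rfl⟩
  obtain ⟨Aset, hAset⟩ : ∃ Aset : Finset (Fin m),
      Aset = Finset.univ.filter (fun i : Fin m => Fin.natAdd n (Fin.rev i) ∈ S) := ⟨_, rfl⟩
  -- counting
  have h1 : ∑ r : Fin (n + m), (if r ∈ S then 1 else 0) = n := by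
    rw [← Finset.card_filter, Finset.filter_mem_eq_inter, Finset.univ_inter, hScard]
  rw [Fin.sum_univ_add] at h1
  have h2 : ∑ j : Fin n, (if Fin.castAdd m j ∈ S then 1 else 0) + Bset.card = n := by
    rw [hBset, Finset.card_filter, ← Finset.sum_add_distrib]
    have : ∀ j : Fin n, (if Fin.castAdd m j ∈ S then 1 else 0) +
        (if Fin.castAdd m j ∉ S then 1 else 0) = 1 := by
      intro j
      by_cases h : Fin.castAdd m j ∈ S
      · rw [if_pos h, if_neg (not_not.2 h)]
      · rw [if_neg h, if_pos h]
    rw [Finset.sum_congr rfl (fun j _ => this j), Finset.sum_const, Finset.card_univ,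
      Fintype.card_fin, smul_eq_mul, mul_one]
  have h3 : ∑ i : Fin m, (if Fin.natAdd n i ∈ S then 1 else 0) = Aset.card := by
    rw [hAset, Finset.card_filter]
    exact (Equiv.sum_comp Fin.revPerm (fun i : Fin m => if Fin.natAdd n i ∈ S then 1 else 0)).symm
  have hcard : Aset.card = Bset.card := by omega
  have hpos : 0 < Bset.card := by
    rw [Nat.pos_iff_ne_zero]
    intro h0
    apply hθ
    apply idx_ext_of_image
    rw [← hS]
    symm
    apply Finset.eq_of_subset_of_card_le
    · intro r hr
      rw [Finset.mem_image] at hr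
      obtain ⟨j, -, rfl⟩ := hr
      have hj : j ∉ Bset := by rw [Finset.card_eq_zero.1 h0]; exact Finset.notMem_empty j
      rw [hBset, Finset.mem_filter] at hj
      push Not at hj
      exact hj (Finset.mem_univ j)
    · rw [hScard, Finset.card_image_of_injective _ (iotaDet m n).2.injective, Finset.card_univ,
        Fintype.card_fin]
  obtain ⟨s, hs⟩ : ∃ s, Bset.card = s + 1 := ⟨Bset.card - 1, by omega⟩
  have hA : Aset.card = s + 1 := by rw [hcard, hs]
  obtain ⟨A, hAdef⟩ : ∃ A : Idx (s + 1) m, ∀ k, A.1 k = Aset.orderEmbOfFin hA k :=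
    ⟨⟨fun k => Aset.orderEmbOfFin hA k, (Aset.orderEmbOfFin hA).strictMono⟩, fun k => rfl⟩
  obtain ⟨B, hBdef⟩ : ∃ B : Idx (s + 1) n, ∀ k, B.1 k = Bset.orderEmbOfFin hs k :=
    ⟨⟨fun k => Bset.orderEmbOfFin hs k, (Bset.orderEmbOfFin hs).strictMono⟩, fun k => rfl⟩
  refine ⟨⟨s, (A, B)⟩, ?_⟩
  apply idx_ext_of_image
  rw [image_th, ← hS]
  apply Finset.eq_of_subset_of_card_le
  · intro r hr
    rw [Finset.mem_image] at hr
    obtain ⟨c, -, rfl⟩ := hr
    unfold rowsOf
    by_cases hc : ∃ k, B.1 k = c
    · obtain ⟨k, rfl⟩ := hc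
      have hg : Function.Injective (⟨s, (A, B)⟩ : MinorIdx m n).2.2.1 := B.2.injective
      have h4 := updRows_apply_of_eq (revRows (⟨s, (A, B)⟩ : MinorIdx m n)) B.1 B.2.injective k
      rw [h4]
      unfold revRows
      have h5 : A.1 k ∈ Aset := by
        rw [hAdef]
        exact Finset.orderEmbOfFin_mem Aset hA k
      rw [hAset, Finset.mem_filter] at h5
      exact h5.2
    · push Not at hc
      have h4 := updRows_apply_of_ne (revRows (⟨s, (A, B)⟩ : MinorIdx m n)) B.1 c hc
      rw [h4]
      have h5 : c ∉ Bset := by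
        intro hmem
        have h6 : c ∈ Set.range (Bset.orderEmbOfFin hs) := by
          rw [Finset.range_orderEmbOfFin]
          exact hmem
        obtain ⟨k, hk⟩ := h6
        exact hc k (by rw [hBdef, hk])
      rw [hBset, Finset.mem_filter] at h5
      push Not at h5
      exact h5 (Finset.mem_univ c)
  · rw [hScard, card_image_rowsOf]

end Surj

section Sign

variable (K : Type u) [Field K] (m n : ℕ)

/-- Reversing the order of the rows of the generic matrix. -/
noncomputable def rho : MvPolynomial (Fin m × Fin n) K →ₐ[K] MvPolynomial (Fin m × Fin n) K :=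
  MvPolynomial.rename (Prod.map Fin.rev id)

theorem rho_rho (f : MvPolynomial (Fin m × Fin n) K) : rho K m n (rho K m n f) = f := by
  unfold rho
  rw [rename_rename]
  have h : (Prod.map Fin.rev id ∘ Prod.map Fin.rev id : Fin m × Fin n → Fin m × Fin n) = id := by
    funext p
    rw [Function.comp_apply, Prod.map_apply, Prod.map_apply, Fin.rev_rev]
    rfl
  rw [h, rename_id]
  rfl

theorem rho_det_submatrix {t : ℕ} (f : Fin t → Fin m) (g : Fin t → Fin n) :
    rho K m n ((genMatrix K m n).submatrix f g).det =
      ((genMatrix K m n).submatrix (fun k => Fin.rev (f k)) g).det := by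
  rw [AlgHom.map_det]
  congr 1
  refine Matrix.ext fun i j => ?_
  rw [AlgHom.mapMatrix_apply, Matrix.map_apply, Matrix.submatrix_apply, Matrix.submatrix_apply]
  unfold genMatrix rho
  rw [Matrix.of_apply, Matrix.of_apply, rename_X]
  rfl

theorem comap_rho_minorIdeal (t : ℕ) :
    (CAlgX.minorIdeal (genMatrix K m n) t).comap (rho K m n).toRingHom =
      CAlgX.minorIdeal (genMatrix K m n) t := by
  have hle : CAlgX.minorIdeal (genMatrix K m n) t ≤
      (CAlgX.minorIdeal (genMatrix K m n) t).comap (rho K m n).toRingHom := by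
    unfold CAlgX.minorIdeal
    rw [Ideal.span_le]
    rintro _ ⟨fg, rfl⟩
    rw [SetLike.mem_coe, Ideal.mem_comap]
    show rho K m n _ ∈ _
    rw [rho_det_submatrix]
    exact Ideal.subset_span ⟨(fun k => Fin.rev (fg.1 k), fg.2), rfl⟩
  apply le_antisymm _ hle
  intro x hx
  rw [Ideal.mem_comap] at hx
  have h1 := hle hx
  rw [Ideal.mem_comap] at h1
  have h2 : (rho K m n).toRingHom ((rho K m n).toRingHom x) = x := rho_rho K m n x
  rw [h2] at h1
  exact h1

/-- Evaluation at the minors of `[1; X]`, followed by the reversal of the rows. -/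
noncomputable def psi : PlRing K n (n + m) →ₐ[K] MvPolynomial (Fin m × Fin n) K :=
  (rho K m n).comp (detEval K m n)

theorem psi_surjective : Function.Surjective (psi K m n) := by
  intro y
  obtain ⟨x, hx⟩ := detEval_surjective K m n (rho K m n y)
  refine ⟨x, ?_⟩
  unfold psi
  rw [AlgHom.comp_apply, hx, rho_rho]

theorem comap_psi_minorIdeal (t : ℕ) :
    (CAlgX.minorIdeal (genMatrix K m n) t).comap (psi K m n).toRingHom =
      (CAlgX.minorIdeal (genMatrix K m n) t).comap (detEval K m n).toRingHom := by
  conv_rhs => rw [← comap_rho_minorIdeal K m n t]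
  rw [Ideal.comap_comap]
  rfl

/-- The minor `[A | B]` is, up to sign, the image of the Plücker coordinate attached to it. -/
theorem minorOf_eq (M : MinorIdx m n) :
    minorOf K M = (-1) ^ invCount n (n + m) (rowsOf M) * psi K m n (X (th M)) := by
  have h1 : coord K n (n + m) (rowsOf M) =
      (-1) ^ invCount n (n + m) (rowsOf M) * X (th M) := by
    unfold coord
    rw [dif_pos (card_image_rowsOf M)]
    rfl
  have h2 : detEval K m n (coord K n (n + m) (rowsOf M)) =
      ((genMatrix K m n).submatrix (revRows M) M.2.2.1).det := by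
    rw [detEval_coord]
    unfold rowsOf
    rw [det_bigMat_updRows _ _ _ M.2.2.2.injective]
  have h3 : rho K m n ((genMatrix K m n).submatrix (revRows M) M.2.2.1).det = minorOf K M := by
    rw [rho_det_submatrix]
    unfold minorOf revRows
    congr 2
    funext k
    rw [Fin.rev_rev]
  rw [← h3, ← h2, h1]
  unfold psi
  rw [AlgHom.comp_apply, map_mul, map_mul, map_pow, map_pow, map_neg, map_neg, map_one, map_one]

end Sign

section Top

variable (K : Type u) [Field K] [Infinite K] (m n : ℕ)

/-- The greatest element of `I(n, n + m)`. -/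
def topIdx : Idx n (n + m) :=
  ⟨fun j => ⟨m + j.val, by have := j.isLt; omega⟩, fun a b hab => by
    rw [Fin.lt_def] at hab ⊢
    show m + a.val < m + b.val
    omega⟩

theorem idx_add_le'' {d N : ℕ} (φ : Idx d N) : ∀ (k : ℕ) (t : Fin d) (h : t.val + k < d),
    (φ.1 t).val + k ≤ (φ.1 ⟨t.val + k, h⟩).val := by
  intro k
  induction k with
  | zero => intro t h; exact le_rfl
  | succ k ih =>
    intro t h
    have h1 := ih t (by omega)
    have h2 : φ.1 ⟨t.val + k, by omega⟩ < φ.1 ⟨t.val + (k + 1), h⟩ := φ.2 (by
      rw [Fin.lt_def]; show t.val + k < t.val + (k + 1); omega)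
    rw [Fin.lt_def] at h2
    omega

theorem le_topIdx (φ : Idx n (n + m)) : φ ≤ topIdx m n := by
  intro j
  rw [Fin.le_def]
  show (φ.1 j).val ≤ m + j.val
  have hj := j.isLt
  have h1 := idx_add_le'' φ (n - 1 - j.val) j (by omega)
  have h2 := (φ.1 ⟨j.val + (n - 1 - j.val), by omega⟩).isLt
  omega

theorem schubertVanishing_topIdx :
    schubertVanishing K n (n + m) (topIdx m n) = vanishing K n (n + m) := by
  unfold schubertVanishing vanishing
  apply le_antisymm
  · apply le_iInf
    intro A
    exact (iInf_le _ A).trans (iInf_le _ (fun φ hφ => absurd (le_topIdx m n φ) hφ))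
  · apply le_iInf
    intro A
    apply le_iInf
    intro _
    exact iInf_le _ A

theorem comap_detEval_bot :
    (⊥ : Ideal (MvPolynomial (Fin m × Fin n) K)).comap (detEval K m n).toRingHom =
      cellQ K (topIdx m n) := by
  unfold cellQ
  rw [schubertVanishing_topIdx, iotaOf_eq_iotaDet]
  apply le_antisymm
  · exact ker_detEval_le K m n
  · apply sup_le
    · exact vanishing_le_ker_detEval K m n
    · rw [Ideal.span_le]
      intro x hx
      rw [Set.mem_singleton_iff] at hx
      rw [hx, SetLike.mem_coe, Ideal.mem_comap, Ideal.mem_bot]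
      show detEval K m n (X (iotaDet m n) - 1) = 0
      rw [map_sub, detEval_X_iota, map_one, sub_self]

theorem minorIdeal_eq_bot (t : ℕ) (ht : min m n < t) :
    CAlgX.minorIdeal (genMatrix K m n) t = ⊥ := by
  unfold CAlgX.minorIdeal
  rw [Ideal.span_eq_bot]
  rintro _ ⟨fg, rfl⟩
  by_cases hm : m < t
  · have hninj : ¬ Function.Injective fg.1 := by
      intro hinj
      have := Fintype.card_le_of_injective _ hinj
      rw [Fintype.card_fin, Fintype.card_fin] at this
      omega
    rw [Function.Injective] at hninj
    push Not at hninj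
    obtain ⟨i, j, hij, hne⟩ := hninj
    apply Matrix.det_zero_of_row_eq hne
    funext c
    rw [Matrix.submatrix_apply, Matrix.submatrix_apply, hij]
  · have hn : n < t := by
      rcases min_lt_iff.1 ht with h | h
      · exact absurd h hm
      · exact h
    have hninj : ¬ Function.Injective fg.2 := by
      intro hinj
      have := Fintype.card_le_of_injective _ hinj
      rw [Fintype.card_fin, Fintype.card_fin] at this
      omega
    rw [Function.Injective] at hninj
    push Not at hninj
    obtain ⟨i, j, hij, hne⟩ := hninj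
    apply Matrix.det_zero_of_column_eq hne
    intro r
    rw [Matrix.submatrix_apply, Matrix.submatrix_apply, hij]

theorem size_le_min (M : MinorIdx m n) : M.1 + 1 ≤ min m n := by
  have h1 := Fintype.card_le_of_injective _ M.2.1.2.injective
  have h2 := Fintype.card_le_of_injective _ M.2.2.2.injective
  rw [Fintype.card_fin, Fintype.card_fin] at h1 h2
  exact le_min h1 h2

/-- The Schubert variety whose opposite cell is the determinantal variety. -/
theorem exists_tau (hn : 0 < n) (t : ℕ) (ht : 1 ≤ t) (htmn : t ≤ min m n + 1) :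
    ∃ τ : Idx n (n + m),
      (CAlgX.minorIdeal (genMatrix K m n) t).comap (psi K m n).toRingHom = cellQ K τ ∧
      ∀ M : MinorIdx m n, th M ≤ τ ↔ M.1 + 1 ≤ t - 1 := by
  by_cases h : t ≤ min m n
  · have htm : t ≤ m := le_trans h (min_le_left _ _)
    have htn : t ≤ n := le_trans h (min_le_right _ _)
    refine ⟨tauDet m n t ht htm, ?_, fun M => th_le_tauDet_iff M t ht htm htn⟩
    rw [comap_psi_minorIdeal]
    exact comap_detEval K m n t ht htm htn hn
  · refine ⟨topIdx m n, ?_, fun M => ?_⟩
    · rw [comap_psi_minorIdeal, minorIdeal_eq_bot K m n t (by omega)]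
      exact comap_detEval_bot K m n
    · constructor
      · intro _
        have := size_le_min m n M
        omega
      · intro _
        exact le_topIdx m n _

end Top

end Groth.Agent.Lib.helper10.BiT
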