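import Groth.Agent.Lib.Helper10.BiT3

/-!
# The standard bitableaux basis of a determinantal ring (helper10)
-/

set_option autoImplicit false
set_option linter.unusedSectionVars false
set_option linter.style.haveILetI false

universe u

open MvPolynomial W4bk4grassmannian

namespace Groth.Agent.Lib.helper10.BiT

open Groth.Agent.Lib.helper10.SMT Groth.Agent.Lib.helper10.FFT Groth.Agent.Lib.helper10.DetV

section Main

variable (m n t : ℕ)

/-- Standard bitableaux with minors of size at most `t - 1`. -/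
abbrev BT : Type := Σ k : ℕ, {c : Fin k → MinorIdx m n //
  (∀ i, (c i).1 + 1 ≤ t - 1) ∧ ∀ i j, i < j → MinorGE (c i) (c j)}

variable {m n t}

/-- The chain of Plücker indices of a standard bitableau. -/
noncomputable def chainFun (c : BT m n t) (i : Fin c.1) : Idx n (n + m) := th (c.2.1 (Fin.rev i))

theorem chainFun_antitone (c : BT m n t) : Antitone (chainFun c) := by
  intro i j hij
  rcases eq_or_lt_of_le hij with h | h
  · rw [h]
  · have h1 : Fin.rev j < Fin.rev i := Fin.rev_lt_rev.2 h
    exact (minorGE_iff _ _).1 (c.2.2.2 _ _ h1)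

noncomputable def chainOf (c : BT m n t) : Chains n (n + m) :=
  ⟨c.1, chainFun c, chainFun_antitone c⟩

theorem chainOf_injective : Function.Injective (chainOf (m := m) (n := n) (t := t)) := by
  intro c c' h
  obtain ⟨k, c, hc⟩ := c
  obtain ⟨k', c', hc'⟩ := c'
  have hk : k = k' := congrArg Sigma.fst h
  subst hk
  have hfun : chainFun (⟨k, c, hc⟩ : BT m n t) = chainFun (⟨k, c', hc'⟩ : BT m n t) := by
    have h2 := h
    unfold chainOf at h2
    simp only [Sigma.mk.inj_iff, heq_eq_eq, true_and, Subtype.mk.injEq] at h2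
    exact h2
  congr 1
  apply Subtype.ext
  funext i
  have h1 := congrFun hfun (Fin.rev i)
  unfold chainFun at h1
  simp only [Fin.rev_rev] at h1
  exact th_injective h1

theorem chainOf_surjective (τ : Idx n (n + m))
    (hle : ∀ M : MinorIdx m n, th M ≤ τ ↔ M.1 + 1 ≤ t - 1) (c' : Chains n (n + m))
    (h : ∀ k, c'.2.1 k ≤ τ ∧ c'.2.1 k ≠ iotaOf τ) : ∃ c : BT m n t, chainOf c = c' := by
  obtain ⟨k, c', hanti⟩ := c'
  have hex : ∀ i : Fin k, ∃ M : MinorIdx m n, th M = c' i := by
    intro i
    apply th_surjective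
    rw [← iotaOf_eq_iotaDet m n τ]
    exact (h i).2
  choose Mf hMf using hex
  refine ⟨⟨k, fun i => Mf (Fin.rev i), ⟨fun i => (hle _).1 (by rw [hMf]; exact (h _).1),
    fun i j hij => (minorGE_iff _ _).2 (by
      rw [hMf, hMf]
      exact hanti (Fin.rev_le_rev.2 hij.le))⟩⟩, ?_⟩
  unfold chainOf
  congr 1
  apply Subtype.ext
  funext i
  show th (Mf (Fin.rev (Fin.rev i))) = c' i
  rw [Fin.rev_rev, hMf]

variable (K : Type u) [Field K]

/-- The total sign of a bitableau. -/
noncomputable def sgnExp (c : BT m n t) : ℕ := ∑ i, invCount n (n + m) (rowsOf (c.2.1 i))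

theorem prod_minorOf (c : BT m n t) :
    (Finset.univ.prod fun i => minorOf K (c.2.1 i)) =
      (-1) ^ sgnExp c * psi K m n (chainMon K (chainOf c).2.1) := by
  have h1 : chainMon K (chainOf c).2.1 = ∏ i, X (th (c.2.1 i)) := by
    unfold chainMon
    exact Equiv.prod_comp Fin.revPerm (fun i => (X (th (c.2.1 i)) : PlRing K n (n + m)))
  rw [h1, map_prod]
  unfold sgnExp
  rw [← Finset.prod_pow_eq_pow_sum, ← Finset.prod_mul_distrib]
  apply Finset.prod_congr rfl
  intro i _
  exact minorOf_eq K m n (c.2.1 i)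

/-- **The standard bitableaux form a basis of the determinantal ring.** -/
theorem bitableaux_basis [Infinite K] (m n t : ℕ) (hn : 0 < n) (ht : 1 ≤ t)
    (htmn : t ≤ min m n + 1) :
    LinearIndependent K (fun c : BT m n t =>
        Ideal.Quotient.mk (CAlgX.minorIdeal (genMatrix K m n) t)
          (Finset.univ.prod fun i => minorOf K (c.2.1 i))) ∧
      Submodule.span K (Set.range fun c : BT m n t =>
        Ideal.Quotient.mk (CAlgX.minorIdeal (genMatrix K m n) t)
          (Finset.univ.prod fun i => minorOf K (c.2.1 i))) = ⊤ := by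
  obtain ⟨τ, hcomap, hle⟩ := exists_tau K m n hn t ht htmn
  obtain ⟨I, hI⟩ : ∃ I, I = CAlgX.minorIdeal (genMatrix K m n) t := ⟨_, rfl⟩
  rw [← hI] at hcomap ⊢
  have hfree : ∀ (c : BT m n t) (k : Fin (chainOf c).1),
      (chainOf c).2.1 k ≤ τ ∧ (chainOf c).2.1 k ≠ iotaOf τ := by
    intro c k
    refine ⟨(hle _).2 (c.2.2.1 _), ?_⟩
    rw [iotaOf_eq_iotaDet]
    exact th_ne_iotaDet _
  have hv : ∀ c : BT m n t, Ideal.Quotient.mk I (Finset.univ.prod fun i => minorOf K (c.2.1 i)) =
      ((-1 : K) ^ sgnExp c) • Ideal.Quotient.mk I (psi K m n (chainMon K (chainOf c).2.1)) := by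
    intro c
    rw [prod_minorOf, map_mul, Algebra.smul_def, map_pow, map_pow, map_neg, map_neg, map_one,
      map_one]
  constructor
  · rw [linearIndependent_iff']
    intro s g hsum c hc
    have h1 : ∑ c ∈ s, (g c * (-1) ^ sgnExp c) • chainMon K (chainOf c).2.1 ∈ cellQ K τ := by
      rw [← hcomap, Ideal.mem_comap]
      show psi K m n _ ∈ I
      rw [← Ideal.Quotient.eq_zero_iff_mem, map_sum, map_sum, ← hsum]
      apply Finset.sum_congr rfl
      intro c _
      rw [hv c, smul_smul, map_smul]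
      rfl
    have h2 := cell_independent K hn τ chainOf chainOf_injective s
      (fun c => g c * (-1) ^ sgnExp c) (fun c _ => hfree c) h1 c hc
    rcases mul_eq_zero.1 h2 with h | h
    · exact h
    · exact absurd h (pow_ne_zero _ (neg_ne_zero.2 one_ne_zero))
  · rw [eq_top_iff]
    intro y _
    obtain ⟨r, rfl⟩ := Ideal.Quotient.mk_surjective y
    obtain ⟨f, rfl⟩ := psi_surjective K m n r
    obtain ⟨g, hg, hfg⟩ := cell_span K τ f
    have h1 : Ideal.Quotient.mk I (psi K m n f) = Ideal.Quotient.mk I (psi K m n g) := by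
      rw [Ideal.Quotient.eq, ← map_sub]
      have h2 := hfg
      rw [← hcomap, Ideal.mem_comap] at h2
      exact h2
    rw [h1]
    obtain ⟨L, hL⟩ : ∃ L : PlRing K n (n + m) →ₗ[K] (MvPolynomial (Fin m × Fin n) K ⧸ I),
        ∀ x, L x = Ideal.Quotient.mk I (psi K m n x) :=
      ⟨((Ideal.Quotient.mkₐ K I).comp (psi K m n)).toLinearMap, fun x => rfl⟩
    have h3 : Submodule.span K ((fun c : Chains n (n + m) => chainMon K c.2.1) ''
        {c | ∀ k, c.2.1 k ≤ τ ∧ c.2.1 k ≠ iotaOf τ}) ≤
        (Submodule.span K (Set.range fun c : BT m n t =>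
          Ideal.Quotient.mk I (Finset.univ.prod fun i => minorOf K (c.2.1 i)))).comap L := by
      rw [Submodule.span_le]
      rintro _ ⟨c', hc', rfl⟩
      obtain ⟨c, rfl⟩ := chainOf_surjective τ hle c' hc'
      rw [SetLike.mem_coe, Submodule.mem_comap, hL]
      have h4 : Ideal.Quotient.mk I (psi K m n (chainMon K (chainOf c).2.1)) =
          ((-1 : K) ^ sgnExp c) •
            Ideal.Quotient.mk I (Finset.univ.prod fun i => minorOf K (c.2.1 i)) := by
        rw [hv c, smul_smul, ← mul_pow, neg_one_mul, neg_neg, one_pow, one_smul]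
      rw [h4]
      exact Submodule.smul_mem _ _ (Submodule.subset_span ⟨c, rfl⟩)
    have h5 := h3 hg
    rw [Submodule.mem_comap, hL] at h5
    exact h5

end Main

end Groth.Agent.Lib.helper10.BiT
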