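/-
# Integral closure of a reduced ring with finitely many minimal primes (helper10)

Abstract setting: `R` a commutative ring, `q : ι → Ideal R` a finite family of pairwise incomparable
prime ideals with zero intersection (so `R` is reduced and the `q i` are its minimal primes),
`K` the total ring of fractions, `φ i : R → D i` surjections onto domains with kernel `q i`,
`L i` the fraction field of `D i`.  We build ring maps
`ρ i : integralClosure R K → integralClosure (D i) (L i)`, show that they are surjective, that their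
kernels are pairwise comaximal and have zero intersection, and deduce the bijection
`Σ i, MaximalSpectrum (integralClosure (D i) (L i)) ≃ MaximalSpectrum (integralClosure R K)`.
-/
import Mathlib
import Groth.Prelude.Def_Brnch

set_option autoImplicit false
set_option linter.style.haveILetI false
set_option linter.unusedSectionVars false

namespace Groth.Agent.Lib.helper10.BranchSum

open Polynomial

/-- `ENat.card` of a finite sigma type. -/
theorem enat_card_sigma {ι : Type*} [Fintype ι] (X : ι → Type*) :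
    ENat.card (Σ i, X i) = ∑ i, ENat.card (X i) := by
  by_cases h : ∀ i, Finite (X i)
  · haveI := h
    rw [ENat.card_eq_coe_natCard, Nat.card_sigma]
    push_cast
    exact Finset.sum_congr rfl fun i _ => (ENat.card_eq_coe_natCard _).symm
  · push Not at h
    obtain ⟨i₀, hi₀⟩ := h
    haveI : Infinite (Σ i, X i) := Infinite.of_injective (Sigma.mk i₀) sigma_mk_injective
    rw [ENat.card_eq_top_of_infinite, eq_comm, eq_top_iff]
    calc (⊤ : ℕ∞) = ENat.card (X i₀) := (ENat.card_eq_top_of_infinite).symm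
      _ ≤ ∑ i, ENat.card (X i) :=
        Finset.single_le_sum (f := fun i => ENat.card (X i)) (fun _ _ => bot_le)
          (Finset.mem_univ i₀)

section Abstract

variable {R : Type*} [CommRing R] {ι : Type*} [Finite ι] (q : ι → Ideal R)

/-- The hypotheses on the family of primes. -/
structure Hyp : Prop where
  prime : ∀ i, (q i).IsPrime
  inc : ∀ i j, q i ≤ q j → i = j
  inf : ⨅ i, q i = ⊥

variable {q}

theorem Hyp.eq_zero (h : Hyp q) {x : R} (hx : ∀ i, x ∈ q i) : x = 0 := by
  have : x ∈ ⨅ i, q i := (Ideal.mem_iInf).2 hx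
  rw [h.inf] at this
  exact this

theorem Hyp.exists_sel (h : Hyp q) (i : ι) : ∃ t, t ∉ q i ∧ ∀ j, j ≠ i → t ∈ q j := by
  classical
  haveI := Fintype.ofFinite ι
  have hn : ¬ ((Finset.univ.erase i).inf q ≤ q i) := by
    rw [Ideal.IsPrime.inf_le' (h.prime i)]
    rintro ⟨j, hj, hle⟩
    exact (Finset.mem_erase.1 hj).1 (h.inc j i hle)
  obtain ⟨t, ht, hti⟩ := SetLike.not_le_iff_exists.1 hn
  refine ⟨t, hti, fun j hj => ?_⟩
  exact (Finset.inf_le (f := q) (Finset.mem_erase.2 ⟨hj, Finset.mem_univ j⟩)) ht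

theorem Hyp.notMem_of_mem_nonZeroDivisors (h : Hyp q) {s : R} (hs : s ∈ nonZeroDivisors R)
    (i : ι) : s ∉ q i := by
  intro hsi
  obtain ⟨t, hti, htj⟩ := h.exists_sel i
  have h0 : t * s = 0 := by
    apply h.eq_zero
    intro j
    by_cases hj : j = i
    · subst hj
      exact Ideal.mul_mem_left _ _ hsi
    · exact Ideal.mul_mem_right _ _ (htj j hj)
  have : t = 0 := (mem_nonZeroDivisors_iff_right.1 hs) t h0
  exact hti (this ▸ Ideal.zero_mem _)

theorem Hyp.mem_nonZeroDivisors (h : Hyp q) {s : R} (hs : ∀ i, s ∉ q i) :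
    s ∈ nonZeroDivisors R := by
  rw [mem_nonZeroDivisors_iff_right]
  intro t ht
  apply h.eq_zero
  intro i
  haveI := h.prime i
  have : t * s ∈ q i := ht ▸ Ideal.zero_mem _
  exact ((h.prime i).mem_or_mem this).resolve_right (hs i)


/-! ### The maps to the fraction fields of the components -/

variable {K : Type*} [CommRing K] [Algebra R K] [IsFractionRing R K]
variable {D : ι → Type*} [∀ i, CommRing (D i)] [∀ i, IsDomain (D i)] (φ : ∀ i, R →+* D i)
variable (L : ι → Type*) [∀ i, Field (L i)] [∀ i, Algebra (D i) (L i)]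
  [∀ i, IsFractionRing (D i) (L i)]

/-- The data of the surjections onto the components. -/
structure HypMap (q : ι → Ideal R) (φ : ∀ i, R →+* D i) : Prop extends Hyp q where
  surj : ∀ i, Function.Surjective (φ i)
  ker : ∀ i, RingHom.ker (φ i) = q i

variable {φ}

theorem HypMap.map_eq_zero_iff (h : HypMap q φ) (i : ι) (x : R) : φ i x = 0 ↔ x ∈ q i := by
  rw [← h.ker i, RingHom.mem_ker]

theorem HypMap.isUnit (h : HypMap q φ) (i : ι) (y : nonZeroDivisors R) :
    IsUnit (((algebraMap (D i) (L i)).comp (φ i)) y) := by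
  rw [isUnit_iff_ne_zero, RingHom.comp_apply, Ne,
    (injective_iff_map_eq_zero' _).1 (IsFractionRing.injective (D i) (L i)),
    h.map_eq_zero_iff]
  exact h.toHyp.notMem_of_mem_nonZeroDivisors y.2 i

variable (K) in
/-- The map from the total fraction ring to the fraction field of the `i`-th component. -/
noncomputable def HypMap.π (h : HypMap q φ) (i : ι) : K →+* L i :=
  IsLocalization.lift (M := nonZeroDivisors R) (h.isUnit L i)

theorem HypMap.π_algebraMap (h : HypMap q φ) (i : ι) (r : R) :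
    h.π K L i (algebraMap R K r) = algebraMap (D i) (L i) (φ i r) := by
  unfold HypMap.π
  rw [IsLocalization.lift_eq]
  rfl

theorem HypMap.π_comp (h : HypMap q φ) (i : ι) :
    (algebraMap (D i) (L i)).comp (φ i) = (h.π K L i).comp (algebraMap R K) :=
  RingHom.ext fun r => (h.π_algebraMap L i r).symm

theorem HypMap.eq_zero_of_forall_π (h : HypMap q φ) (x : K) (hx : ∀ i, h.π K L i x = 0) :
    x = 0 := by
  obtain ⟨a, s, rfl⟩ := IsLocalization.exists_mk'_eq (nonZeroDivisors R) x
  have ha : a = 0 := by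
    apply h.toHyp.eq_zero
    intro i
    rw [← h.map_eq_zero_iff i]
    apply IsFractionRing.injective (D i) (L i)
    rw [map_zero, ← h.π_algebraMap (K := K) L i a, ← IsLocalization.mk'_spec K a s, map_mul, hx i,
      zero_mul]
  rw [ha, IsLocalization.mk'_zero]

theorem HypMap.π_isIntegral (h : HypMap q φ) (i : ι) {x : K} (hx : IsIntegral R x) :
    IsIntegral (D i) (h.π K L i x) :=
  hx.map_of_comp_eq (φ i) (h.π K L i) (h.π_comp L i)

variable (K) in
/-- The induced map on integral closures. -/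
noncomputable def HypMap.ρ (h : HypMap q φ) (i : ι) :
    integralClosure R K →+* integralClosure (D i) (L i) :=
  ((h.π K L i).comp (integralClosure R K).toSubring.subtype).codRestrict
    (integralClosure (D i) (L i)).toSubring (fun x => h.π_isIntegral L i x.2)

theorem HypMap.ρ_coe (h : HypMap q φ) (i : ι) (x : integralClosure R K) :
    ((h.ρ K L i x : integralClosure (D i) (L i)) : L i) = h.π K L i (x : K) := rfl

theorem HypMap.ρ_algebraMap (h : HypMap q φ) (i : ι) (r : R) :
    h.ρ K L i (algebraMap R (integralClosure R K) r) =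
      algebraMap (D i) (integralClosure (D i) (L i)) (φ i r) := by
  apply Subtype.ext
  rw [h.ρ_coe L]
  exact h.π_algebraMap L i r

theorem HypMap.mem_ker_ρ (h : HypMap q φ) (i : ι) (x : integralClosure R K) :
    x ∈ RingHom.ker (h.ρ K L i) ↔ h.π K L i (x : K) = 0 := by
  rw [RingHom.mem_ker, ← h.ρ_coe L, Subtype.ext_iff]
  rfl

theorem HypMap.iInf_ker_ρ (h : HypMap q φ) : ⨅ i, RingHom.ker (h.ρ K L i) = ⊥ := by
  rw [eq_bot_iff]
  intro x hx
  rw [Ideal.mem_iInf] at hx
  rw [Ideal.mem_bot]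
  apply Subtype.ext
  apply h.eq_zero_of_forall_π L
  intro i
  exact (h.mem_ker_ρ L i x).1 (hx i)


theorem HypMap.exists_sel_family (h : HypMap q φ) :
    ∃ a : ι → R, ∀ i, φ i (a i) ≠ 0 ∧ ∀ j, j ≠ i → φ j (a i) = 0 := by
  choose a ha1 ha2 using h.toHyp.exists_sel
  refine ⟨a, fun i => ⟨?_, fun j hj => ?_⟩⟩
  · rw [Ne, h.map_eq_zero_iff]; exact ha1 i
  · rw [h.map_eq_zero_iff]; exact ha2 i j hj

theorem HypMap.π_mk' (h : HypMap q φ) (j : ι) (u : R) (v : nonZeroDivisors R) :
    h.π K L j (IsLocalization.mk' K u v) * algebraMap (D j) (L j) (φ j v) =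
      algebraMap (D j) (L j) (φ j u) := by
  rw [← h.π_algebraMap (K := K) L j, ← h.π_algebraMap (K := K) L j, ← map_mul,
    IsLocalization.mk'_spec]

theorem HypMap.algebraMap_ne_zero (j : ι) {d : D j} (hd : d ≠ 0) :
    algebraMap (D j) (L j) d ≠ 0 := by
  rw [Ne, (injective_iff_map_eq_zero' _).1 (IsFractionRing.injective (D j) (L j))]
  exact hd

variable (K) in
/-- Idempotents of the total fraction ring: there is a family `e i ∈ K`, integral over `R`, with
`π j (e i) = δ_{ij}`; moreover any element of `L i` is the image under `π i` of an element of `K`. -/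
theorem HypMap.exists_idem (h : HypMap q φ) :
    ∃ e : ι → K, (∀ i, h.π K L i (e i) = 1) ∧ (∀ i j, j ≠ i → h.π K L j (e i) = 0) := by
  classical
  haveI := Fintype.ofFinite ι
  obtain ⟨a, ha⟩ := h.exists_sel_family
  set s := ∑ j, a j with hs
  have hφs : ∀ j, φ j s = φ j (a j) := by
    intro j
    rw [hs, map_sum]
    exact Finset.sum_eq_single j (fun k _ hk => (ha k).2 j hk.symm)
      (fun hj => absurd (Finset.mem_univ j) hj)
  have hsnzd : s ∈ nonZeroDivisors R := by
    apply h.toHyp.mem_nonZeroDivisors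
    intro j
    rw [← h.map_eq_zero_iff, hφs]
    exact (ha j).1
  refine ⟨fun i => IsLocalization.mk' K (a i) (⟨s, hsnzd⟩ : nonZeroDivisors R), ?_, ?_⟩
  · intro i
    have := h.π_mk' (K := K) L i (a i) ⟨s, hsnzd⟩
    simp only [hφs] at this
    have hne := HypMap.algebraMap_ne_zero L i (ha i).1
    exact mul_right_cancel₀ hne (this.trans (one_mul _).symm)
  · intro i j hj
    have := h.π_mk' (K := K) L j (a i) ⟨s, hsnzd⟩
    rw [(ha i).2 j hj, map_zero] at this
    simp only [hφs] at this
    exact (mul_eq_zero.1 this).resolve_right (HypMap.algebraMap_ne_zero L j (ha j).1)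

variable (K) in
theorem HypMap.π_surjective (h : HypMap q φ) (i : ι) : Function.Surjective (h.π K L i) := by
  classical
  haveI := Fintype.ofFinite ι
  obtain ⟨a, ha⟩ := h.exists_sel_family
  intro y
  obtain ⟨d₁, d₂, rfl⟩ := IsLocalization.exists_mk'_eq (nonZeroDivisors (D i)) y
  obtain ⟨a₀, rfl⟩ := h.surj i d₁
  obtain ⟨b₀, hb₀⟩ := h.surj i d₂.1
  set s := ∑ j, a j with hs
  have hφs : ∀ j, φ j s = φ j (a j) := by
    intro j
    rw [hs, map_sum]
    exact Finset.sum_eq_single j (fun k _ hk => (ha k).2 j hk.symm)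
      (fun hj => absurd (Finset.mem_univ j) hj)
  set b' := b₀ * a i + (s - a i) with hb'
  have hb'i : φ i b' = φ i b₀ * φ i (a i) := by
    rw [hb', map_add, map_sub, hφs, sub_self, add_zero, map_mul]
  have hb'j : ∀ j, j ≠ i → φ j b' = φ j (a j) := by
    intro j hj
    rw [hb', map_add, map_sub, hφs, map_mul, (ha i).2 j hj, mul_zero, zero_add, sub_zero]
  have hd₂ : φ i b₀ ≠ 0 := by rw [hb₀]; exact nonZeroDivisors.coe_ne_zero d₂
  have hb'nzd : b' ∈ nonZeroDivisors R := by
    apply h.toHyp.mem_nonZeroDivisors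
    intro j
    rw [← h.map_eq_zero_iff]
    by_cases hj : j = i
    · subst hj; rw [hb'i]; exact mul_ne_zero hd₂ (ha j).1
    · rw [hb'j j hj]; exact (ha j).1
  refine ⟨IsLocalization.mk' K (a₀ * a i) (⟨b', hb'nzd⟩ : nonZeroDivisors R), ?_⟩
  rw [IsLocalization.eq_mk'_iff_mul_eq]
  have := h.π_mk' (K := K) L i (a₀ * a i) ⟨b', hb'nzd⟩
  simp only [hb'i, map_mul] at this
  have hne := HypMap.algebraMap_ne_zero L i (ha i).1
  apply mul_right_cancel₀ hne
  rw [← hb₀, mul_assoc]
  exact this

theorem HypMap.ρ_surjective (h : HypMap q φ) (i : ι) : Function.Surjective (h.ρ K L i) := by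
  classical
  obtain ⟨e, he1, he0⟩ := h.exists_idem K L
  rintro ⟨y, hy⟩
  obtain ⟨x₀, hx₀⟩ := h.π_surjective K L i y
  obtain ⟨P, hPm, hPe⟩ := hy
  obtain ⟨P', hP'map, -, hP'm⟩ :=
    Polynomial.lifts_and_natDegree_eq_and_monic (Polynomial.mem_lifts_of_surjective (h.surj i) P)
      hPm
  set x : K := e i * x₀ with hx
  have hπi : h.π K L i x = y := by rw [hx, map_mul, he1, one_mul, hx₀]
  have hπj : ∀ j, j ≠ i → h.π K L j x = 0 := by
    intro j hj
    rw [hx, map_mul, he0 i j hj, zero_mul]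
  have hxint : IsIntegral R x := by
    refine ⟨X * P', Polynomial.monic_X.mul hP'm, ?_⟩
    apply h.eq_zero_of_forall_π L
    intro j
    rw [Polynomial.eval₂_mul, Polynomial.eval₂_X, map_mul]
    by_cases hj : j = i
    · subst hj
      rw [Polynomial.hom_eval₂, ← h.π_comp L j, hπi, ← Polynomial.eval₂_map, hP'map, hPe,
        mul_zero]
    · rw [hπj j hj, zero_mul]
  refine ⟨⟨x, hxint⟩, ?_⟩
  apply Subtype.ext
  rw [h.ρ_coe L]
  exact hπi

theorem HypMap.ker_ρ_sup (h : HypMap q φ) (i j : ι) (hij : i ≠ j) :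
    RingHom.ker (h.ρ K L i) ⊔ RingHom.ker (h.ρ K L j) = ⊤ := by
  obtain ⟨e, he1, he0⟩ := h.exists_idem K L
  have heint : IsIntegral R (e i) := by
    refine ⟨X ^ 2 - X, Polynomial.monic_X_pow_sub
      (lt_of_le_of_lt Polynomial.degree_X_le (by norm_num)), ?_⟩
    apply h.eq_zero_of_forall_π L
    intro k
    rw [Polynomial.eval₂_sub, Polynomial.eval₂_pow, Polynomial.eval₂_X, map_sub, map_pow]
    by_cases hk : k = i
    · subst hk; rw [he1]; ring
    · rw [he0 i k hk]; ring
  rw [Ideal.eq_top_iff_one]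
  have h1 : (1 : integralClosure R K) = (1 - ⟨e i, heint⟩) + ⟨e i, heint⟩ := by ring
  rw [h1]
  refine Ideal.add_mem _ (Ideal.mem_sup_left ?_) (Ideal.mem_sup_right ?_)
  · rw [h.mem_ker_ρ L]
    push_cast
    rw [map_sub, map_one, he1, sub_self]
  · rw [h.mem_ker_ρ L]
    exact he0 i j hij.symm

end Abstract


/-! ### Maximal spectrum of a finite "product" -/

section MaxSpec

variable {S : Type*} [CommRing S] {ι : Type*} [Finite ι] {T : ι → Type*} [∀ i, CommRing (T i)]
  (ρ : ∀ i, S →+* T i) (hs : ∀ i, Function.Surjective (ρ i))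

/-- Pull back maximal ideals along the surjections `ρ i`. -/
noncomputable def comapMax (x : Σ i, MaximalSpectrum (T i)) : MaximalSpectrum S :=
  haveI := x.2.isMaximal
  ⟨x.2.asIdeal.comap (ρ x.1), Ideal.comap_isMaximal_of_surjective (ρ x.1) (hs x.1)⟩

theorem comapMax_asIdeal (x : Σ i, MaximalSpectrum (T i)) :
    (comapMax ρ hs x).asIdeal = x.2.asIdeal.comap (ρ x.1) := rfl

theorem comapMax_bijective
    (hco : ∀ i j, i ≠ j → RingHom.ker (ρ i) ⊔ RingHom.ker (ρ j) = ⊤)
    (hinf : ⨅ i, RingHom.ker (ρ i) = ⊥) : Function.Bijective (comapMax ρ hs) := by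
  classical
  haveI := Fintype.ofFinite ι
  constructor
  · rintro ⟨i, n⟩ ⟨j, n'⟩ hx
    have hx' : n.asIdeal.comap (ρ i) = n'.asIdeal.comap (ρ j) := congrArg (·.asIdeal) hx
    have hij : i = j := by
      by_contra hij
      have h1 : RingHom.ker (ρ i) ≤ n.asIdeal.comap (ρ i) := Ideal.ker_le_comap (ρ i)
      have h2 : RingHom.ker (ρ j) ≤ n.asIdeal.comap (ρ i) := hx' ▸ Ideal.ker_le_comap (ρ j)
      have h3 : n.asIdeal.comap (ρ i) = ⊤ := by
        rw [eq_top_iff, ← hco i j hij]
        exact sup_le h1 h2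
      exact (comapMax ρ hs ⟨i, n⟩).isMaximal.ne_top h3
    subst hij
    have : n = n' := by
      apply MaximalSpectrum.ext
      rw [← Ideal.map_comap_of_surjective (ρ i) (hs i) n.asIdeal, hx',
        Ideal.map_comap_of_surjective (ρ i) (hs i)]
    rw [this]
  · intro m
    haveI := m.isMaximal
    have hle : (Finset.univ : Finset ι).inf (fun i => RingHom.ker (ρ i)) ≤ m.asIdeal := by
      rw [Finset.inf_univ_eq_iInf, hinf]
      exact bot_le
    rw [Ideal.IsPrime.inf_le' m.isMaximal.isPrime] at hle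
    obtain ⟨i, -, hi⟩ := hle
    have hcm : (m.asIdeal.map (ρ i)).comap (ρ i) = m.asIdeal := by
      rw [Ideal.comap_map_of_surjective (ρ i) (hs i), ← RingHom.ker_eq_comap_bot]
      exact sup_eq_left.2 hi
    have hmax : (m.asIdeal.map (ρ i)).IsMaximal := by
      refine (Ideal.map_eq_top_or_isMaximal_of_surjective (ρ i) (hs i) m.isMaximal).resolve_left ?_
      intro htop
      rw [htop, Ideal.comap_top] at hcm
      exact m.isMaximal.ne_top hcm.symm
    refine ⟨⟨i, ⟨m.asIdeal.map (ρ i), hmax⟩⟩, ?_⟩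
    apply MaximalSpectrum.ext
    exact hcm

end MaxSpec


/-! ### Application to `normRed A` -/

section Concrete

universe u

variable (A : Type u) [CommRing A]

/-- The image of a minimal prime of `A` in `A_red`. -/
noncomputable def qRed (p : minimalPrimes A) : Ideal (CAlg2.red A) :=
  Ideal.map (Ideal.Quotient.mk (nilradical A)) p.1

theorem comap_qRed (p : minimalPrimes A) :
    (qRed A p).comap (Ideal.Quotient.mk (nilradical A)) = p.1 := by
  haveI : p.1.IsPrime := p.2.1.1
  unfold qRed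
  rw [Ideal.comap_map_of_surjective _ Ideal.Quotient.mk_surjective, ← RingHom.ker_eq_comap_bot,
    Ideal.mk_ker]
  exact sup_eq_left.2 (nilradical_le_prime p.1)

theorem mk_mem_qRed (p : minimalPrimes A) (a : A) :
    Ideal.Quotient.mk (nilradical A) a ∈ qRed A p ↔ a ∈ p.1 := by
  rw [← Ideal.mem_comap, comap_qRed]

theorem hyp_qRed (h : (minimalPrimes A).Finite) :
    haveI := h.to_subtype
    Hyp (qRed A) := by
  haveI := h.to_subtype
  refine ⟨fun p => ?_, fun p p' hle => ?_, ?_⟩
  · haveI : p.1.IsPrime := p.2.1.1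
    refine Ideal.map_isPrime_of_surjective Ideal.Quotient.mk_surjective ?_
    rw [Ideal.mk_ker]
    exact nilradical_le_prime p.1
  · have h1 : p.1 ≤ p'.1 := by
      rw [← comap_qRed A p, ← comap_qRed A p']
      exact Ideal.comap_mono hle
    exact Subtype.ext (le_antisymm h1 (p'.2.2 p.2.1 h1))
  · rw [eq_bot_iff]
    intro x hx
    rw [Ideal.mem_iInf] at hx
    obtain ⟨a, rfl⟩ := Ideal.Quotient.mk_surjective x
    rw [Ideal.mem_bot, Ideal.Quotient.eq_zero_iff_mem]
    have : a ∈ sInf (minimalPrimes A) := by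
      rw [Ideal.mem_sInf]
      intro I hI
      exact (mk_mem_qRed A ⟨I, hI⟩ a).1 (hx ⟨I, hI⟩)
    rw [minimalPrimes, Ideal.sInf_minimalPrimes] at this
    exact this

theorem isDomain_quot (p : minimalPrimes A) : IsDomain (A ⧸ p.1) := by
  haveI : p.1.IsPrime := p.2.1.1
  exact Ideal.Quotient.isDomain p.1

theorem isDomain_red_quot (p : minimalPrimes A) : IsDomain (CAlg2.red (A ⧸ p.1)) := by
  haveI := isDomain_quot A p
  refine (Ideal.Quotient.isDomain_iff_prime _).2 ?_
  rw [nilradical_eq_zero, Ideal.zero_eq_bot]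
  exact Ideal.isPrime_bot

/-- The surjection `A_red → (A/p)_red`. -/
noncomputable def φRed (p : minimalPrimes A) : CAlg2.red A →+* CAlg2.red (A ⧸ p.1) :=
  Ideal.Quotient.lift (nilradical A)
    ((Ideal.Quotient.mk (nilradical (A ⧸ p.1))).comp (Ideal.Quotient.mk p.1)) (by
      haveI : p.1.IsPrime := p.2.1.1
      intro a ha
      have : a ∈ p.1 := nilradical_le_prime p.1 ha
      rw [RingHom.comp_apply, Ideal.Quotient.eq_zero_iff_mem.2 this, map_zero])

theorem φRed_mk (p : minimalPrimes A) (a : A) :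
    φRed A p (Ideal.Quotient.mk (nilradical A) a) =
      Ideal.Quotient.mk (nilradical (A ⧸ p.1)) (Ideal.Quotient.mk p.1 a) := by
  unfold φRed
  rw [Ideal.Quotient.lift_mk]
  rfl

theorem hypMap_qRed (h : (minimalPrimes A).Finite) :
    haveI := h.to_subtype
    haveI := isDomain_red_quot A
    HypMap (qRed A) (φRed A) := by
  haveI := h.to_subtype
  haveI := isDomain_red_quot A
  refine { toHyp := hyp_qRed A h, surj := fun p y => ?_, ker := fun p => ?_ }
  · obtain ⟨b, rfl⟩ := Ideal.Quotient.mk_surjective y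
    obtain ⟨a, rfl⟩ := Ideal.Quotient.mk_surjective b
    exact ⟨_, φRed_mk A p a⟩
  · haveI := isDomain_quot A p
    ext x
    obtain ⟨a, rfl⟩ := Ideal.Quotient.mk_surjective x
    rw [RingHom.mem_ker, φRed_mk, mk_mem_qRed, Ideal.Quotient.eq_zero_iff_mem, nilradical_eq_zero,
      Ideal.zero_eq_bot, Ideal.mem_bot, Ideal.Quotient.eq_zero_iff_mem]

/-- The main structural statement: the maps `normRed A → normRed (A/p)`. -/
theorem exists_rho (h : (minimalPrimes A).Finite) :
    ∃ ρ : ∀ p : minimalPrimes A, CAlg2.normRed A →+* CAlg2.normRed (A ⧸ p.1),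
      (∀ p, Function.Surjective (ρ p)) ∧
      (∀ p a, ρ p (algebraMap (CAlg2.red A) (CAlg2.normRed A) (Ideal.Quotient.mk _ a)) =
        algebraMap (CAlg2.red (A ⧸ p.1)) (CAlg2.normRed (A ⧸ p.1))
          (Ideal.Quotient.mk _ (Ideal.Quotient.mk p.1 a))) ∧
      (∀ p p', p ≠ p' → RingHom.ker (ρ p) ⊔ RingHom.ker (ρ p') = ⊤) ∧
      ⨅ p, RingHom.ker (ρ p) = ⊥ := by
  haveI := h.to_subtype
  haveI := isDomain_red_quot A
  have H := hypMap_qRed A h
  let ρ := H.ρ (FractionRing (CAlg2.red A)) (fun p => FractionRing (CAlg2.red (A ⧸ p.1)))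
  have h1 : ∀ p, Function.Surjective (ρ p) := H.ρ_surjective _
  have h2 : ∀ p p', p ≠ p' → RingHom.ker (ρ p) ⊔ RingHom.ker (ρ p') = ⊤ := H.ker_ρ_sup _
  have h3 := H.iInf_ker_ρ (K := (FractionRing (CAlg2.red A)))
    (fun p => FractionRing (CAlg2.red (A ⧸ p.1)))
  have h4 : ∀ p a, ρ p (algebraMap (CAlg2.red A) (CAlg2.normRed A) (Ideal.Quotient.mk _ a)) =
        algebraMap (CAlg2.red (A ⧸ p.1)) (CAlg2.normRed (A ⧸ p.1))
          (Ideal.Quotient.mk _ (Ideal.Quotient.mk p.1 a)) := by
    intro p a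
    have := H.ρ_algebraMap (K := (FractionRing (CAlg2.red A)))
      (fun p => FractionRing (CAlg2.red (A ⧸ p.1))) p (Ideal.Quotient.mk _ a)
    rw [φRed_mk] at this
    exact this
  exact ⟨ρ, h1, h4, h2, h3⟩

end Concrete

end Groth.Agent.Lib.helper10.BranchSum
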