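import Mathlib
import Groth.Agent.Lib.Helper26.PairHensCRT
import Groth.Agent.Lib.Helper26.PairHensIntegral
import Groth.Agent.Lib.Helper26.HenselPairIdem

/-!
Lifting idempotents in (noncommutative) finite algebras over a henselian local ring (helper10).
-/

set_option autoImplicit false

noncomputable section

namespace Groth.Agent.Lib.Helper10.IdemLift

set_option linter.style.haveILetI false
set_option linter.unusedSectionVars false

open IsLocalRing Polynomial

universe u

section General

variable {R : Type*} [CommRing R] {C : Type*} [Ring C] [Algebra R C]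

theorem mul_mem_smul_top (I : Ideal R) (x y : C) (hy : y ∈ I • (⊤ : Submodule R C)) :
    x * y ∈ I • (⊤ : Submodule R C) := by
  refine Submodule.smul_induction_on hy (fun a ha z _ => ?_) (fun y z hy hz => ?_)
  · rw [mul_smul_comm]
    exact Submodule.smul_mem_smul ha Submodule.mem_top
  · rw [mul_add]
    exact add_mem hy hz

theorem mul_mem_smul_top' (I : Ideal R) (x y : C) (hy : y ∈ I • (⊤ : Submodule R C)) :
    y * x ∈ I • (⊤ : Submodule R C) := by
  refine Submodule.smul_induction_on hy (fun a ha z _ => ?_) (fun y z hy hz => ?_)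
  · rw [smul_mul_assoc]
    exact Submodule.smul_mem_smul ha Submodule.mem_top
  · rw [add_mul]
    exact add_mem hy hz

end General

/-- Idempotents lift along `C → C/mC` for a finite (not necessarily commutative) algebra `C` over
a henselian local ring. -/
theorem exists_idempotent_lift (R : Type u) [CommRing R] [HenselianLocalRing R] (C : Type u)
    [Ring C] [Algebra R C] [Module.Finite R C] (c : C)
    (hc : c * c - c ∈ (maximalIdeal R) • (⊤ : Submodule R C)) :
    ∃ e : C, IsIdempotentElem e ∧ e - c ∈ (maximalIdeal R) • (⊤ : Submodule R C) := by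
  classical
  set m := maximalIdeal R with hm
  let S : Subalgebra R C := Algebra.adjoin R {c}
  have hcomm : ∀ a ∈ ({c} : Set C), ∀ b ∈ ({c} : Set C), a * b = b * a := by
    intro a ha b hb
    rw [Set.mem_singleton_iff] at ha hb
    rw [ha, hb]
  letI : CommRing S := Algebra.adjoinCommRingOfComm R hcomm
  have hint : Algebra.IsIntegral R S := by
    refine ⟨fun s => ?_⟩
    have h1 : IsIntegral R (s : C) := IsIntegral.of_finite R (s : C)
    exact (isIntegral_algHom_iff S.val Subtype.val_injective).mp h1
  have h0 : HenselianRing R m := inferInstance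
  have h1 : HenselianRing S (m.map (algebraMap R S)) :=
    Groth.Agent.Lib.helper26.HenselPair.henselianRing_map_of_isIntegral h0 S
  -- the ideal `J = S ∩ mC`
  let J : Ideal S :=
    { carrier := {s | (s : C) ∈ m • (⊤ : Submodule R C)}
      add_mem' := fun {a b} ha hb => by
        show ((a + b : S) : C) ∈ m • (⊤ : Submodule R C)
        rw [Subalgebra.coe_add]
        exact add_mem ha hb
      zero_mem' := by
        show ((0 : S) : C) ∈ m • (⊤ : Submodule R C)
        rw [Subalgebra.coe_zero]
        exact zero_mem _
      smul_mem' := fun x {y} hy => by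
        show ((x • y : S) : C) ∈ m • (⊤ : Submodule R C)
        rw [smul_eq_mul, Subalgebra.coe_mul]
        exact mul_mem_smul_top m _ _ hy }
  have hJmem : ∀ s : S, s ∈ J ↔ (s : C) ∈ m • (⊤ : Submodule R C) := fun s => Iff.rfl
  have hle : m.map (algebraMap R S) ≤ J := by
    rw [Ideal.map_le_iff_le_comap]
    intro a ha
    rw [Ideal.mem_comap, hJmem]
    have : ((algebraMap R S a : S) : C) = a • (1 : C) := by
      rw [Subalgebra.coe_algebraMap, Algebra.algebraMap_eq_smul_one]
    rw [this]
    exact Submodule.smul_mem_smul ha Submodule.mem_top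
  have hrad : J ≤ (m.map (algebraMap R S)).radical := by
    intro y hy
    rw [hJmem] at hy
    have hrange : LinearMap.range (LinearMap.mulLeft R (y : C)) ≤ m • (⊤ : Submodule R C) := by
      rintro _ ⟨x, rfl⟩
      rw [LinearMap.mulLeft_apply]
      exact mul_mem_smul_top' m _ _ hy
    obtain ⟨p, hpm, -, hpc, hp0⟩ :=
      LinearMap.exists_monic_and_natDegree_eq_and_coeff_mem_pow_and_aeval_eq_zero R
        (LinearMap.mulLeft R (y : C)) m hrange
    -- p(y) = 0 in C
    have hpy : aeval (y : C) p = 0 := by
      have h2 : aeval (LinearMap.mulLeft R (y : C)) p = LinearMap.mulLeft R (aeval (y : C) p) := by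
        have := Polynomial.aeval_algHom_apply (Algebra.lmul R C) (y : C) p
        exact this
      rw [h2] at hp0
      have := congrArg (fun f : Module.End R C => f 1) hp0
      simpa using this
    have hpy' : aeval y p = 0 := by
      apply Subtype.val_injective
      exact (Polynomial.aeval_subalgebra_coe p S y).trans hpy
    have hweak : p.IsWeaklyEisensteinAt m := by
      refine ⟨fun {n} hn => ?_⟩
      have := hpc n
      exact Ideal.pow_le_self (by omega) this
    exact ⟨_, hweak.pow_natDegree_le_of_aeval_zero_of_monic_mem_map hpy' hpm _ le_rfl⟩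
  have h2 : HenselianRing S J :=
    Groth.Agent.Lib.helper26.PairHens.henselianRing_of_le_radical h1 hle hrad
  let x : S := ⟨c, Algebra.subset_adjoin (Set.mem_singleton c)⟩
  have hx : x * x - x ∈ J := by
    rw [hJmem]
    show ((x * x - x : S) : C) ∈ m • (⊤ : Submodule R C)
    rw [Subalgebra.coe_sub, Subalgebra.coe_mul]
    exact hc
  obtain ⟨e, he, hex⟩ :=
    Groth.Agent.Lib.helper26.PairHens.exists_idempotent_sub_mem h2 x hx
  refine ⟨(e : C), ?_, ?_⟩
  · have := congrArg (fun s : S => (s : C)) he.eq
    simpa [IsIdempotentElem] using this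
  · rw [hJmem] at hex
    have h3 : ((e - x : S) : C) = (e : C) - c := by
      rw [Subalgebra.coe_sub]
    rw [← h3]
    exact hex

end Groth.Agent.Lib.Helper10.IdemLift
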