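import Mathlib

/-!
Conjugacy of idempotents with corners of equal dimension in a finite-dimensional simple algebra
over a field (helper10).
-/

set_option autoImplicit false

noncomputable section

namespace Groth.Agent.Lib.Helper10.SimpleConj

set_option linter.style.haveILetI false
set_option linter.unusedSectionVars false

open Module

section Simple

variable {S : Type*} [Ring S] [IsSimpleRing S] [IsArtinianRing S]

/-- any two simple modules over a simple artinian ring are isomorphic -/
theorem nonempty_linearEquiv_of_isSimpleModule (N₁ N₂ : Type*) [AddCommGroup N₁] [Module S N₁]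
    [AddCommGroup N₂] [Module S N₂] [IsSimpleModule S N₁] [IsSimpleModule S N₂] :
    Nonempty (N₁ ≃ₗ[S] N₂) := by
  have h := IsSimpleRing.isIsotypic S (N₁ × N₂)
  let e₁ : N₁ ≃ₗ[S] LinearMap.range (LinearMap.inl S N₁ N₂) :=
    LinearEquiv.ofInjective _ LinearMap.inl_injective
  let e₂ : N₂ ≃ₗ[S] LinearMap.range (LinearMap.inr S N₁ N₂) :=
    LinearEquiv.ofInjective _ LinearMap.inr_injective
  haveI : IsSimpleModule S (LinearMap.range (LinearMap.inl S N₁ N₂)) := IsSimpleModule.congr e₁.symm
  haveI : IsSimpleModule S (LinearMap.range (LinearMap.inr S N₁ N₂)) := IsSimpleModule.congr e₂.symm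
  obtain ⟨e⟩ := h (LinearMap.range (LinearMap.inr S N₁ N₂)) (LinearMap.range (LinearMap.inl S N₁ N₂))
  exact ⟨e₁.trans (e.trans e₂.symm)⟩

/-- structure of finite modules over a simple artinian ring -/
theorem exists_linearEquiv_fun (M : Type*) [AddCommGroup M] [Module S M] [Module.Finite S M]
    (V : Type*) [AddCommGroup V] [Module S V] [IsSimpleModule S V] :
    ∃ n : ℕ, Nonempty (M ≃ₗ[S] (Fin n → V)) := by
  have h : IsIsotypicOfType S M V := fun m _ => nonempty_linearEquiv_of_isSimpleModule m V
  exact h.linearEquiv_fun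

end Simple

section Field

variable {κ : Type*} [Field κ] {S : Type*} [Ring S] [Algebra κ S] [Module.Finite κ S]
  [IsSimpleRing S]

theorem finrank_eq_mul [IsArtinianRing S] (M : Type*) [AddCommGroup M] [Module S M] [Module κ M]
    [IsScalarTower κ S M]
    (V : Type*) [AddCommGroup V] [Module S V] [Module κ V] [IsScalarTower κ S V]
    [Module.Finite κ V] (n : ℕ) (e : M ≃ₗ[S] (Fin n → V)) :
    finrank κ M = n * finrank κ V := by
  rw [(e.restrictScalars κ).finrank_eq, Module.finrank_pi_fintype]
  simp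

theorem finrank_end_eq_mul [IsArtinianRing S] (M : Type*) [AddCommGroup M] [Module S M]
    [Module κ M] [IsScalarTower κ S M]
    (V : Type*) [AddCommGroup V] [Module S V] [Module κ V] [IsScalarTower κ S V]
    (n : ℕ) (e : M ≃ₗ[S] (Fin n → V)) :
    finrank κ (Module.End S M) = n * n * finrank κ (Module.End S V) := by
  have e1 : Module.End S M ≃ₐ[κ] Module.End S (Fin n → V) := e.conjAlgEquiv κ
  have e2 : Module.End S (Fin n → V) ≃ₐ[κ] Matrix (Fin n) (Fin n) (Module.End S V) :=
    endVecAlgEquivMatrixEnd (Fin n) κ S V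
  rw [e1.toLinearEquiv.finrank_eq, e2.toLinearEquiv.finrank_eq, Module.finrank_matrix]
  simp

/-- the left ideal `S f` -/
def L (f : S) : Submodule S S := LinearMap.range (LinearMap.toSpanSingleton S S f)

theorem mem_L_iff {f : S} (hf : IsIdempotentElem f) (x : S) : x ∈ L f ↔ x * f = x := by
  constructor
  · rintro ⟨s, rfl⟩
    rw [LinearMap.toSpanSingleton_apply, smul_eq_mul, mul_assoc, hf.eq]
  · intro h
    exact ⟨x, by rw [LinearMap.toSpanSingleton_apply, smul_eq_mul, h]⟩

theorem mul_mem_L (f : S) (x : S) : x * f ∈ L f :=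
  ⟨x, by rw [LinearMap.toSpanSingleton_apply, smul_eq_mul]⟩

theorem self_mem_L {f : S} (hf : IsIdempotentElem f) : f ∈ L f :=
  (mem_L_iff hf f).mpr hf.eq

/-- corner data: `A'` is identified with the corner `f S f` -/
structure CornerData (κ : Type*) [Field κ] (S : Type*) [Ring S] [Algebra κ S] (f : S)
    (A' : Type*) [AddCommGroup A'] [Module κ A'] where
  i : A' →ₗ[κ] S
  r : S →ₗ[κ] A'
  ri : ∀ a, r (i a) = a
  ir : ∀ x, f * x * f = i (r x)

theorem CornerData.i_eq {f : S} {A' : Type*} [AddCommGroup A'] [Module κ A']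
    (c : CornerData κ S f A') (a : A') : f * c.i a * f = c.i a := by
  rw [c.ir, c.ri]

/-- the endomorphism ring of `S f` has the dimension of the corner -/
theorem finrank_end_L {f : S} (hf : IsIdempotentElem f) {A' : Type*} [AddCommGroup A']
    [Module κ A'] (c : CornerData κ S f A') :
    finrank κ (Module.End S (L f)) = finrank κ A' := by
  let f₀ : L f := ⟨f, self_mem_L hf⟩
  let toA : Module.End S (L f) →ₗ[κ] A' :=
    { toFun := fun φ => c.r ((φ f₀ : L f) : S)
      map_add' := fun φ ψ => by
        rw [LinearMap.add_apply, Submodule.coe_add, map_add]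
      map_smul' := fun t φ => by
        rw [LinearMap.smul_apply, Submodule.coe_smul_of_tower, map_smul, RingHom.id_apply] }
  have hinj : Function.Injective toA := by
    rw [injective_iff_map_eq_zero]
    intro φ hφ
    have h1 : c.r ((φ f₀ : L f) : S) = 0 := hφ
    have h2 : f * ((φ f₀ : L f) : S) * f = 0 := by rw [c.ir, h1, map_zero]
    have h3 : ((φ f₀ : L f) : S) * f = ((φ f₀ : L f) : S) := (mem_L_iff hf _).mp (φ f₀).2
    have h4 : f * ((φ f₀ : L f) : S) = ((φ f₀ : L f) : S) := by
      have : f • f₀ = f₀ := by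
        apply Subtype.ext
        show f * f = f
        exact hf.eq
      have h5 := congrArg (fun y : L f => (y : S)) (φ.map_smul f f₀)
      simp only [this] at h5
      have h5' : ((f • φ f₀ : L f) : S) = f * ((φ f₀ : L f) : S) := rfl
      rw [← h5']
      exact h5.symm
    have h6 : ((φ f₀ : L f) : S) = 0 := by rw [← h4, ← h3, ← mul_assoc, h2]
    have h7 : φ f₀ = 0 := Subtype.ext h6
    refine LinearMap.ext fun y => ?_
    have hy : y = (y : S) • f₀ := by
      apply Subtype.ext
      show (y : S) = (y : S) * f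
      exact ((mem_L_iff hf _).mp y.2).symm
    rw [hy, map_smul, h7, smul_zero, LinearMap.zero_apply]
  have hsurj : Function.Surjective toA := by
    intro a
    let φ : Module.End S (L f) :=
      ((LinearMap.toSpanSingleton S S (c.i a)).domRestrict (L f)).codRestrict (L f) (by
        intro y
        rw [LinearMap.domRestrict_apply, LinearMap.toSpanSingleton_apply, smul_eq_mul,
          ← c.i_eq a, ← mul_assoc, ← mul_assoc]
        exact mul_mem_L f _)
    refine ⟨φ, ?_⟩
    show c.r ((φ f₀ : L f) : S) = a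
    have : ((φ f₀ : L f) : S) = f * c.i a := rfl
    rw [this, ← c.i_eq a, ← mul_assoc, ← mul_assoc, hf.eq, c.i_eq, c.ri]
  exact (LinearEquiv.ofBijective toA ⟨hinj, hsurj⟩).finrank_eq

/-- right multiplication by `f` as a map onto `S f` -/
def rho (f : S) : S →ₗ[S] L f := (LinearMap.toSpanSingleton S S f).rangeRestrict

theorem coe_rho (f x : S) : ((rho f x : L f) : S) = x * f := rfl

theorem finrank_add_finrank_L {f : S} (hf : IsIdempotentElem f) :
    finrank κ (L f) + finrank κ (L (1 - f)) = finrank κ S := by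
  have hf' : IsIdempotentElem (1 - f) := hf.one_sub
  let Φ : S →ₗ[κ] (L f × L (1 - f)) :=
    LinearMap.prod ((rho f).restrictScalars κ) ((rho (1 - f)).restrictScalars κ)
  have hinj : Function.Injective Φ := by
    rw [injective_iff_map_eq_zero]
    intro x hx
    have h1 : ((rho f x : L f) : S) = 0 := by
      have := congrArg (fun p : L f × L (1 - f) => (p.1 : S)) hx
      exact this
    have h2 : ((rho (1 - f) x : L (1 - f)) : S) = 0 := by
      have := congrArg (fun p : L f × L (1 - f) => (p.2 : S)) hx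
      exact this
    rw [coe_rho] at h1 h2
    rw [mul_sub, mul_one, h1, sub_zero] at h2
    exact h2
  have hsurj : Function.Surjective Φ := by
    rintro ⟨y, z⟩
    refine ⟨(y : S) + (z : S), ?_⟩
    have hy : (y : S) * f = y := (mem_L_iff hf _).mp y.2
    have hz : (z : S) * (1 - f) = z := (mem_L_iff hf' _).mp z.2
    have hz' : (z : S) * f = 0 := by
      rw [← hz, mul_assoc, sub_mul, one_mul, hf.eq, sub_self, mul_zero]
    apply Prod.ext
    · apply Subtype.ext
      show ((y : S) + z) * f = y
      rw [add_mul, hy, hz', add_zero]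
    · apply Subtype.ext
      show ((y : S) + z) * (1 - f) = z
      rw [add_mul, hz, mul_sub, mul_one, hy, sub_self, zero_add]
  rw [(LinearEquiv.ofBijective Φ ⟨hinj, hsurj⟩).finrank_eq, Module.finrank_prod]

/-- **Conjugacy of idempotents** with corners of the same dimension in a finite-dimensional simple
algebra over a field. -/
theorem exists_unit_conj {f g : S} (hf : IsIdempotentElem f) (hg : IsIdempotentElem g)
    {A' B' : Type*} [AddCommGroup A'] [Module κ A'] [AddCommGroup B'] [Module κ B']
    (cA : CornerData κ S f A') (cB : CornerData κ S g B') (h : finrank κ A' = finrank κ B') :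
    ∃ u v : S, u * v = 1 ∧ v * u = 1 ∧ u * f = g * u := by
  classical
  haveI : IsArtinianRing S := IsArtinianRing.of_finite κ S
  have hf' : IsIdempotentElem (1 - f) := hf.one_sub
  have hg' : IsIdempotentElem (1 - g) := hg.one_sub
  obtain ⟨V₀, hV₀⟩ := IsAtomic.exists_atom (Submodule S S)
  haveI : IsSimpleModule S V₀ := isSimpleModule_iff_isAtom.mpr hV₀
  haveI hfin : ∀ I : Submodule S S, Module.Finite S I := fun I =>
    Module.Finite.of_restrictScalars_finite κ S I
  haveI : Module.Finite κ (Module.End S V₀) :=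
    Module.Finite.of_injective (LinearMap.restrictScalarsₗ κ S V₀ V₀ κ)
      (LinearMap.restrictScalars_injective κ)
  haveI : Nontrivial V₀ := IsSimpleModule.nontrivial (R := S) (M := V₀)
  have hd : 0 < finrank κ V₀ := Module.finrank_pos
  have hδ : 0 < finrank κ (Module.End S V₀) := Module.finrank_pos
  obtain ⟨a, ⟨ea⟩⟩ := exists_linearEquiv_fun (S := S) (L f) V₀
  obtain ⟨b, ⟨eb⟩⟩ := exists_linearEquiv_fun (S := S) (L g) V₀
  obtain ⟨a', ⟨ea'⟩⟩ := exists_linearEquiv_fun (S := S) (L (1 - f)) V₀
  obtain ⟨b', ⟨eb'⟩⟩ := exists_linearEquiv_fun (S := S) (L (1 - g)) V₀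
  have hab : a = b := by
    have h1 := finrank_end_eq_mul (κ := κ) (L f) V₀ a ea
    have h2 := finrank_end_eq_mul (κ := κ) (L g) V₀ b eb
    rw [finrank_end_L hf cA] at h1
    rw [finrank_end_L hg cB] at h2
    rw [h1, h2] at h
    have h3 : a * a = b * b := Nat.eq_of_mul_eq_mul_right hδ h
    exact Nat.mul_self_inj.mp h3
  have hab' : a' = b' := by
    have h1 := finrank_eq_mul (κ := κ) (L f) V₀ a ea
    have h2 := finrank_eq_mul (κ := κ) (L g) V₀ b eb
    have h3 := finrank_eq_mul (κ := κ) (L (1 - f)) V₀ a' ea'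
    have h4 := finrank_eq_mul (κ := κ) (L (1 - g)) V₀ b' eb'
    have h5 := finrank_add_finrank_L (κ := κ) hf
    have h6 := finrank_add_finrank_L (κ := κ) hg
    rw [h1, h3] at h5
    rw [h2, h4, ← h5, hab] at h6
    have h7 : b' * finrank κ V₀ = a' * finrank κ V₀ := by omega
    exact (Nat.eq_of_mul_eq_mul_right hd h7).symm
  subst hab
  subst hab'
  let α : L f ≃ₗ[S] L g := ea.trans eb.symm
  let β : L (1 - f) ≃ₗ[S] L (1 - g) := ea'.trans eb'.symm
  let Φ : S →ₗ[S] S := (L g).subtype ∘ₗ α.toLinearMap ∘ₗ rho f +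
    (L (1 - g)).subtype ∘ₗ β.toLinearMap ∘ₗ rho (1 - f)
  let Ψ : S →ₗ[S] S := (L f).subtype ∘ₗ α.symm.toLinearMap ∘ₗ rho g +
    (L (1 - f)).subtype ∘ₗ β.symm.toLinearMap ∘ₗ rho (1 - g)
  have hΦ : ∀ x, Φ x = (α (rho f x) : S) + (β (rho (1 - f) x) : S) := fun x => rfl
  have hΨ : ∀ x, Ψ x = (α.symm (rho g x) : S) + (β.symm (rho (1 - g) x) : S) := fun x => rfl
  -- general facts about `L`
  have hmemL : ∀ {e : S} (he : IsIdempotentElem e) (y : L e), (y : S) * e = y :=
    fun he y => (mem_L_iff he _).mp y.2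
  have hmemL' : ∀ {e : S} (he : IsIdempotentElem e) (y : L (1 - e)), (y : S) * e = 0 := by
    intro e he y
    have h1 := hmemL he.one_sub y
    rw [← h1, mul_assoc, sub_mul, one_mul, he.eq, sub_self, mul_zero]
  have hrhoΦ : ∀ x, rho g (Φ x) = α (rho f x) := by
    intro x
    apply Subtype.ext
    rw [coe_rho, hΦ, add_mul, hmemL hg, hmemL' hg, add_zero]
  have hrhoΦ' : ∀ x, rho (1 - g) (Φ x) = β (rho (1 - f) x) := by
    intro x
    apply Subtype.ext
    rw [coe_rho, hΦ, add_mul, hmemL hg', mul_sub, mul_one, hmemL hg, sub_self, zero_add]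
  have hrhoΨ : ∀ x, rho f (Ψ x) = α.symm (rho g x) := by
    intro x
    apply Subtype.ext
    rw [coe_rho, hΨ, add_mul, hmemL hf, hmemL' hf, add_zero]
  have hrhoΨ' : ∀ x, rho (1 - f) (Ψ x) = β.symm (rho (1 - g) x) := by
    intro x
    apply Subtype.ext
    rw [coe_rho, hΨ, add_mul, hmemL hf', mul_sub, mul_one, hmemL hf, sub_self, zero_add]
  have hΨΦ : ∀ x, Ψ (Φ x) = x := by
    intro x
    rw [hΨ, hrhoΦ, hrhoΦ', LinearEquiv.symm_apply_apply, LinearEquiv.symm_apply_apply, coe_rho,
      coe_rho, mul_sub, mul_one, add_sub_cancel]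
  have hΦΨ : ∀ x, Φ (Ψ x) = x := by
    intro x
    rw [hΦ, hrhoΨ, hrhoΨ', LinearEquiv.apply_symm_apply, LinearEquiv.apply_symm_apply, coe_rho,
      coe_rho, mul_sub, mul_one, add_sub_cancel]
  have hΦmul : ∀ x, Φ x = x * Φ 1 := by
    intro x
    have := Φ.map_smul x 1
    rw [smul_eq_mul, mul_one, smul_eq_mul] at this
    exact this
  have hΨmul : ∀ x, Ψ x = x * Ψ 1 := by
    intro x
    have := Ψ.map_smul x 1
    rw [smul_eq_mul, mul_one, smul_eq_mul] at this
    exact this
  set u' := Φ 1 with hu'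
  set v' := Ψ 1 with hv'
  have huv : u' * v' = 1 := by
    rw [← hΨmul u', hu', hΨΦ]
  have hvu : v' * u' = 1 := by
    rw [← hΦmul v', hv', hΦΨ]
  -- the relation
  have h1 : f * u' * g = f * u' := by
    rw [← hΦmul f, hΦ]
    have h2 : rho (1 - f) f = 0 := by
      apply Subtype.ext
      rw [coe_rho, mul_sub, mul_one, hf.eq, sub_self]
      rfl
    rw [h2, map_zero, Submodule.coe_zero, add_zero, hmemL hg]
  have h2 : (1 - f) * u' * g = 0 := by
    rw [← hΦmul (1 - f), hΦ]
    have h3 : rho f (1 - f) = 0 := by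
      apply Subtype.ext
      rw [coe_rho, sub_mul, one_mul, hf.eq, sub_self]
      rfl
    rw [h3, map_zero, Submodule.coe_zero, zero_add, hmemL' hg]
  have h3 : u' * g = f * u' := by
    have : u' * g = f * u' * g + (1 - f) * u' * g := by noncomm_ring
    rw [this, h1, h2, add_zero]
  refine ⟨v', u', hvu, huv, ?_⟩
  calc v' * f = v' * f * (u' * v') := by rw [huv, mul_one]
    _ = v' * (f * u') * v' := by noncomm_ring
    _ = v' * (u' * g) * v' := by rw [h3]
    _ = (v' * u') * g * v' := by noncomm_ring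
    _ = g * v' := by rw [hvu, one_mul]

end Field

end Groth.Agent.Lib.Helper10.SimpleConj
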