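import Mathlib
import Groth.Agent.S16605
import Groth.Agent.Lib.Helper8.Azumaya
import Groth.Agent.Lib.Helper10.IdemLift
import Groth.Agent.Lib.Helper10.SimpleConj

/-!
LG-rings: units in submodules of finite projective algebras, conjugacy of idempotents in Azumaya
algebras, and isomorphisms of corners (helper10).
-/

set_option autoImplicit false

noncomputable section

namespace Groth.Agent.Lib.Helper10.LGConj

set_option linter.style.haveILetI false
set_option linter.unusedSectionVars false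

open Module TensorProduct Groth.Agent.Lib.Helper10.IdemLift

universe u v w

section Phi

variable {R : Type u} [CommRing R] {T : Type v} [Ring T] [Algebra R T] {N : ℕ}
  (p : (Fin N → R) →ₗ[R] T) (i : T →ₗ[R] (Fin N → R))

/-- the endomorphism `i L_x p + (1 - i p)` of `R^N` -/
def Phi (x : T) : Module.End R (Fin N → R) :=
  i ∘ₗ LinearMap.mulLeft R x ∘ₗ p + (LinearMap.id - i ∘ₗ p)

theorem Phi_apply (x : T) (v : Fin N → R) : Phi p i x v = i (x * p v) + (v - i (p v)) := rfl

variable {p i}

theorem Phi_mul (hpi : ∀ t, p (i t) = t) (x y : T) : Phi p i x * Phi p i y = Phi p i (x * y) := by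
  refine LinearMap.ext fun v => ?_
  rw [Module.End.mul_apply, Phi_apply, Phi_apply, Phi_apply]
  simp only [map_add, map_sub, hpi, mul_add, mul_sub, mul_assoc]
  abel

theorem Phi_one (hpi : ∀ t, p (i t) = t) : Phi p i 1 = 1 := by
  refine LinearMap.ext fun v => ?_
  rw [Phi_apply, one_mul, Module.End.one_apply]
  abel

theorem Phi_add (x z : T) : Phi p i (x + z) = Phi p i x + i ∘ₗ LinearMap.mulLeft R z ∘ₗ p := by
  refine LinearMap.ext fun v => ?_
  rw [LinearMap.add_apply, Phi_apply, Phi_apply, LinearMap.comp_apply, LinearMap.comp_apply,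
    LinearMap.mulLeft_apply, add_mul, map_add]
  abel

theorem isUnit_of_isUnit_Phi (hpi : ∀ t, p (i t) = t) (x : T) (h : IsUnit (Phi p i x)) :
    IsUnit x := by
  have hbij : Function.Bijective (Phi p i x) := (Module.End.isUnit_iff _).mp h
  have hinj : ∀ t : T, x * t = 0 → t = 0 := by
    intro t ht
    have h1 : Phi p i x (i t) = 0 := by
      rw [Phi_apply, hpi, ht, map_zero, sub_self, add_zero]
    have h2 : i t = 0 := hbij.1 (by rw [h1, map_zero])
    rw [← hpi t, h2, map_zero]
  obtain ⟨v, hv⟩ := hbij.2 (i 1)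
  have h3 : x * p v = 1 := by
    have := congrArg p hv
    rw [Phi_apply, map_add, map_sub, hpi, hpi, hpi, sub_self, add_zero] at this
    exact this
  have h4 : p v * x = 1 := by
    have : x * (p v * x - 1) = 0 := by
      rw [mul_sub, ← mul_assoc, h3, one_mul, mul_one, sub_self]
    exact sub_eq_zero.mp (hinj _ this)
  exact ⟨⟨x, p v, h3, h4⟩, rfl⟩

end Phi

section LGUnit

variable {R : Type u} [CommRing R]

/-- Over an LG-ring: if a finitely generated submodule `H = range h` of a finite projective algebra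
`T` contains, for every maximal ideal, an element invertible modulo that ideal, then `H` contains
a unit of `T`. -/
theorem exists_isUnit_of_fibres (hR : LGRing.IsLGRing R) (T : Type v) [Ring T] [Algebra R T]
    [Module.Finite R T] [Module.Projective R T] (k : ℕ) (h : (Fin k → R) →ₗ[R] T)
    (hfib : ∀ (m : Ideal R) [m.IsMaximal], ∃ (s : Fin k → R) (y : T),
      h s * y - 1 ∈ m • (⊤ : Submodule R T)) :
    ∃ s : Fin k → R, IsUnit (h s) := by
  classical
  obtain ⟨N, p, i, -, -, hpi'⟩ := Module.Finite.exists_comp_eq_id_of_projective R T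
  have hpi : ∀ t, p (i t) = t := fun t => LinearMap.congr_fun hpi' t
  -- matrices
  let Mat : Module.End R (Fin N → R) ≃ₐ[R] Matrix (Fin N) (Fin N) R := LinearMap.toMatrixAlgEquiv'
  let Mj : Fin k → Matrix (Fin N) (Fin N) R := fun j =>
    Mat (i ∘ₗ LinearMap.mulLeft R (h (Pi.single j 1)) ∘ₗ p)
  let M' : Matrix (Fin N) (Fin N) R := Mat (LinearMap.id - i ∘ₗ p)
  let Mpoly : Matrix (Fin N) (Fin N) (MvPolynomial (Fin k) R) :=
    ∑ j, (MvPolynomial.X j : MvPolynomial (Fin k) R) •
      (Mj j).map (algebraMap R (MvPolynomial (Fin k) R)) +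
      M'.map (algebraMap R (MvPolynomial (Fin k) R))
  let G : MvPolynomial (Fin k) R := Mpoly.det
  have hG : ∀ s : Fin k → R, MvPolynomial.aeval s G = (Mat (Phi p i (h s))).det := by
    intro s
    show MvPolynomial.aeval s Mpoly.det = _
    rw [AlgHom.map_det, AlgHom.mapMatrix_apply]
    congr 1
    have hs : h s = ∑ j, s j • h (Pi.single j 1) := by
      conv_lhs => rw [pi_eq_sum_univ' s]
      rw [map_sum]
      refine Finset.sum_congr rfl fun j _ => ?_
      rw [← map_smul]
    have h1 : Phi p i (h s) = ∑ j, s j • (i ∘ₗ LinearMap.mulLeft R (h (Pi.single j 1)) ∘ₗ p) +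
        (LinearMap.id - i ∘ₗ p) := by
      refine LinearMap.ext fun v => ?_
      rw [Phi_apply, LinearMap.add_apply, LinearMap.sum_apply, hs, Finset.sum_mul, map_sum]
      congr 1
      refine Finset.sum_congr rfl fun j _ => ?_
      rw [LinearMap.smul_apply, LinearMap.comp_apply, LinearMap.comp_apply,
        LinearMap.mulLeft_apply, smul_mul_assoc, map_smul]
    rw [h1, map_add, map_sum]
    ext a b
    simp only [Mpoly, Matrix.map_apply, Matrix.add_apply, Matrix.sum_apply, Matrix.smul_apply,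
      map_add, map_sum, smul_eq_mul, map_mul, MvPolynomial.aeval_X, map_smul]
    congr 1
    · refine Finset.sum_congr rfl fun j _ => ?_
      simp [Mj, MvPolynomial.algebraMap_eq]
    · simp [M', MvPolynomial.algebraMap_eq]
  have hrep : LGRing.RepresentsUnit G R := by
    apply hR
    intro m hm
    obtain ⟨s, y, hsy⟩ := hfib m
    refine ⟨algebraMap R (R ⧸ m) ∘ s, ?_⟩
    rw [MvPolynomial.aeval_algebraMap_apply, hG]
    -- the product
    set z := h s * y - 1 with hz
    have h1 : Phi p i (h s) * Phi p i y = 1 + i ∘ₗ LinearMap.mulLeft R z ∘ₗ p := by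
      rw [Phi_mul hpi, show h s * y = 1 + z by rw [hz]; abel, Phi_add, Phi_one hpi]
    have h2 : ∀ a b, Mat (i ∘ₗ LinearMap.mulLeft R z ∘ₗ p) a b ∈ m := by
      intro a b
      have : Mat (i ∘ₗ LinearMap.mulLeft R z ∘ₗ p) a b =
          ((LinearMap.proj a : (Fin N → R) →ₗ[R] R) ∘ₗ i) (z * p (Pi.single b 1)) := by
        simp [Mat, LinearMap.toMatrixAlgEquiv'_apply]
      rw [this]
      exact Groth.Agent.S16605.apply_mem_of_mem_smul_top m _ (mul_mem_smul_top' m _ _ hsy)
    have h3 : algebraMap R (R ⧸ m) ((Mat (Phi p i (h s))).det * (Mat (Phi p i y)).det) = 1 := by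
      rw [← Matrix.det_mul, ← map_mul, h1, map_add, map_one, RingHom.map_det]
      have : (algebraMap R (R ⧸ m)).mapMatrix (1 + Mat (i ∘ₗ LinearMap.mulLeft R z ∘ₗ p)) = 1 := by
        ext a b
        rw [RingHom.mapMatrix_apply, Matrix.map_apply, Matrix.add_apply, map_add]
        have h4 : algebraMap R (R ⧸ m) (Mat (i ∘ₗ LinearMap.mulLeft R z ∘ₗ p) a b) = 0 :=
          Ideal.Quotient.eq_zero_iff_mem.mpr (h2 a b)
        rw [h4, add_zero, Matrix.one_apply, Matrix.one_apply]
        split_ifs <;> simp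
      rw [this, Matrix.det_one]
    rw [map_mul] at h3
    exact isUnit_iff_exists_inv.mpr ⟨_, h3⟩
  obtain ⟨s, hs⟩ := hrep
  refine ⟨s, ?_⟩
  rw [hG] at hs
  have h1 : IsUnit (Mat (Phi p i (h s))) := (Matrix.isUnit_iff_isUnit_det _).mpr hs
  have h2 : IsUnit (Phi p i (h s)) := (isUnit_map_iff Mat _).mp h1
  exact isUnit_of_isUnit_Phi hpi _ h2

/-- Over an LG-ring, two idempotents of a finite projective algebra which are conjugate modulo
every maximal ideal are conjugate. -/
theorem exists_unit_conj_of_fibres (hR : LGRing.IsLGRing R) (T : Type v) [Ring T] [Algebra R T]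
    [Module.Finite R T] [Module.Projective R T] (f g : T) (hf : IsIdempotentElem f)
    (hg : IsIdempotentElem g)
    (hfib : ∀ (m : Ideal R) [m.IsMaximal], ∃ u v : T,
      u * v - 1 ∈ m • (⊤ : Submodule R T) ∧ u * f - g * u ∈ m • (⊤ : Submodule R T)) :
    ∃ u v : T, u * v = 1 ∧ v * u = 1 ∧ u * f = g * u := by
  classical
  let ω : T →ₗ[R] T :=
    LinearMap.mulLeft R g ∘ₗ LinearMap.mulRight R f +
      LinearMap.mulLeft R (1 - g) ∘ₗ LinearMap.mulRight R (1 - f)
  have hω : ∀ x, ω x = g * (x * f) + (1 - g) * (x * (1 - f)) := fun x => rfl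
  obtain ⟨k, p', hp'⟩ := Module.Finite.exists_fin' R T
  obtain ⟨s, hs⟩ := exists_isUnit_of_fibres hR T k (ω ∘ₗ p') (by
    intro m hm
    obtain ⟨u, v, huv, hufg⟩ := hfib m
    obtain ⟨s, rfl⟩ := hp' u
    refine ⟨s, v, ?_⟩
    rw [LinearMap.comp_apply]
    set u := p' s
    have h1 : ω u - u = (2 * g - 1) * (u * f - g * u) := by
      rw [hω]
      have hgg := hg.eq
      have : (2 * g - 1) * (u * f - g * u) =
          2 * (g * u * f) - 2 * (g * g * u) - u * f + g * u := by noncomm_ring
      rw [this, hgg]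
      noncomm_ring
    have h2 : ω u * v - 1 = (ω u - u) * v + (u * v - 1) := by noncomm_ring
    rw [h2, h1]
    exact add_mem (mul_mem_smul_top' m _ _ (mul_mem_smul_top m _ _ hufg)) huv)
  set u := (ω ∘ₗ p') s with hu
  obtain ⟨w, hw⟩ := hs
  refine ⟨u, (w⁻¹ : Tˣ), ?_, ?_, ?_⟩
  · rw [← hw]; exact w.mul_inv
  · rw [← hw]; exact w.inv_mul
  · rw [hu, LinearMap.comp_apply, hω]
    set x := p' s
    have hff := hf.eq
    have hgg := hg.eq
    have e1 : (g * (x * f) + (1 - g) * (x * (1 - f))) * f =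
        g * x * (f * f) + (1 - g) * x * (f - f * f) := by noncomm_ring
    have e2 : g * (g * (x * f) + (1 - g) * (x * (1 - f))) =
        (g * g) * x * f + (g - g * g) * x * (1 - f) := by noncomm_ring
    rw [e1, e2, hff, hgg, sub_self, sub_self, mul_zero, zero_mul, zero_mul]

end LGUnit

section Corner

variable {R : Type u} [CommRing R]

/-- corner data over a commutative ring: `A` is identified with the corner `f T f`, `f = i 1` -/
structure CornerHom (R : Type u) [CommRing R] (A : Type*) [Ring A] [Algebra R A] (T : Type*)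
    [Ring T] [Algebra R T] where
  i : A →ₗ[R] T
  r : T →ₗ[R] A
  i_mul : ∀ a b, i (a * b) = i a * i b
  ri : ∀ a, r (i a) = a
  ir : ∀ x, i 1 * x * i 1 = i (r x)

namespace CornerHom

variable {A : Type*} [Ring A] [Algebra R A] {T : Type*} [Ring T] [Algebra R T]
  (c : CornerHom R A T)

theorem isIdempotentElem : IsIdempotentElem (c.i 1) := by
  show c.i 1 * c.i 1 = c.i 1
  rw [← c.i_mul, one_mul]

theorem i_injective : Function.Injective c.i := fun a b hab => by
  rw [← c.ri a, ← c.ri b, hab]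

theorem i_eq (a : A) : c.i 1 * c.i a * c.i 1 = c.i a := by
  rw [c.ir, c.ri]

/-- transport along an algebra isomorphism -/
def trans {T' : Type*} [Ring T'] [Algebra R T'] (E : T ≃ₐ[R] T') : CornerHom R A T' where
  i := E.toLinearMap ∘ₗ c.i
  r := c.r ∘ₗ E.symm.toLinearMap
  i_mul a b := by
    show E (c.i (a * b)) = E (c.i a) * E (c.i b)
    rw [c.i_mul, map_mul]
  ri a := by
    show c.r (E.symm (E (c.i a))) = a
    rw [E.symm_apply_apply, c.ri]
  ir x := by
    show E (c.i 1) * x * E (c.i 1) = E (c.i (c.r (E.symm x)))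
    rw [← c.ir, map_mul, map_mul, E.apply_symm_apply]

end CornerHom

/-- two corners conjugate under a unit are isomorphic -/
theorem nonempty_algEquiv_of_conj {A B : Type*} [Ring A] [Algebra R A] [Ring B] [Algebra R B]
    {T : Type*} [Ring T] [Algebra R T] (cA : CornerHom R A T) (cB : CornerHom R B T)
    (u v : T) (huv : u * v = 1) (hvu : v * u = 1) (h : u * cA.i 1 = cB.i 1 * u) :
    Nonempty (A ≃ₐ[R] B) := by
  have h' : cA.i 1 * v = v * cB.i 1 := by
    calc cA.i 1 * v = (v * u) * cA.i 1 * v := by rw [hvu, one_mul]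
      _ = v * (u * cA.i 1) * v := by noncomm_ring
      _ = v * (cB.i 1 * u) * v := by rw [h]
      _ = v * cB.i 1 * (u * v) := by noncomm_ring
      _ = v * cB.i 1 := by rw [huv, mul_one]
  -- conjugation maps corners to corners
  have hX : ∀ a, cB.i 1 * (u * cA.i a * v) * cB.i 1 = u * cA.i a * v := by
    intro a
    calc cB.i 1 * (u * cA.i a * v) * cB.i 1
        = (cB.i 1 * u) * cA.i a * (v * cB.i 1) := by noncomm_ring
      _ = (u * cA.i 1) * cA.i a * (cA.i 1 * v) := by rw [h, h']
      _ = u * (cA.i 1 * cA.i a * cA.i 1) * v := by noncomm_ring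
      _ = u * cA.i a * v := by rw [cA.i_eq]
  have hY : ∀ b, cA.i 1 * (v * cB.i b * u) * cA.i 1 = v * cB.i b * u := by
    intro b
    calc cA.i 1 * (v * cB.i b * u) * cA.i 1
        = (cA.i 1 * v) * cB.i b * (u * cA.i 1) := by noncomm_ring
      _ = (v * cB.i 1) * cB.i b * (cB.i 1 * u) := by rw [h, h']
      _ = v * (cB.i 1 * cB.i b * cB.i 1) * u := by noncomm_ring
      _ = v * cB.i b * u := by rw [cB.i_eq]
  let φl : A →ₗ[R] B := cB.r ∘ₗ LinearMap.mulRight R v ∘ₗ LinearMap.mulLeft R u ∘ₗ cA.i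
  let ψl : B →ₗ[R] A := cA.r ∘ₗ LinearMap.mulRight R u ∘ₗ LinearMap.mulLeft R v ∘ₗ cB.i
  have hφ : ∀ a, cB.i (φl a) = u * cA.i a * v := by
    intro a
    show cB.i (cB.r (u * cA.i a * v)) = _
    rw [← cB.ir, hX]
  have hψ : ∀ b, cA.i (ψl b) = v * cB.i b * u := by
    intro b
    show cA.i (cA.r (v * cB.i b * u)) = _
    rw [← cA.ir, hY]
  have hφ1 : φl 1 = 1 := by
    apply cB.i_injective
    rw [hφ, h, mul_assoc, huv, mul_one]
  have hφmul : ∀ a a', φl (a * a') = φl a * φl a' := by
    intro a a'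
    apply cB.i_injective
    rw [hφ, cB.i_mul, hφ, hφ, cA.i_mul]
    calc u * (cA.i a * cA.i a') * v = u * cA.i a * 1 * cA.i a' * v := by noncomm_ring
      _ = u * cA.i a * (v * u) * cA.i a' * v := by rw [hvu]
      _ = u * cA.i a * v * (u * cA.i a' * v) := by noncomm_ring
  let φ : A →ₐ[R] B := AlgHom.ofLinearMap φl hφ1 hφmul
  have hφψ : ∀ b, φl (ψl b) = b := by
    intro b
    apply cB.i_injective
    rw [hφ, hψ]
    calc u * (v * cB.i b * u) * v = (u * v) * cB.i b * (u * v) := by noncomm_ring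
      _ = cB.i b := by rw [huv, one_mul, mul_one]
  have hψφ : ∀ a, ψl (φl a) = a := by
    intro a
    apply cA.i_injective
    rw [hψ, hφ]
    calc v * (u * cA.i a * v) * u = (v * u) * cA.i a * (v * u) := by noncomm_ring
      _ = cA.i a := by rw [hvu, one_mul, mul_one]
  exact ⟨AlgEquiv.ofBijective φ ⟨Function.LeftInverse.injective hψφ,
    Function.RightInverse.surjective hφψ⟩⟩

/-- base change of corner data to a residue field -/
def cornerDataBaseChange (m : Ideal R) [m.IsMaximal] {A : Type*} [Ring A] [Algebra R A]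
    {T : Type*} [Ring T] [Algebra R T] (c : CornerHom R A T) :
    letI : Field (R ⧸ m) := Ideal.Quotient.field m
    SimpleConj.CornerData (R ⧸ m) ((R ⧸ m) ⊗[R] T) ((1 : R ⧸ m) ⊗ₜ[R] c.i 1)
      ((R ⧸ m) ⊗[R] A) := by
  letI : Field (R ⧸ m) := Ideal.Quotient.field m
  refine ⟨c.i.baseChange (R ⧸ m), c.r.baseChange (R ⧸ m), ?_, ?_⟩
  · intro t
    have h1 : c.r ∘ₗ c.i = LinearMap.id := LinearMap.ext c.ri
    rw [← LinearMap.comp_apply, ← LinearMap.baseChange_comp, h1, LinearMap.baseChange_id,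
      LinearMap.id_apply]
  · intro x
    induction x using TensorProduct.induction_on with
    | zero => simp
    | tmul a t =>
      rw [LinearMap.baseChange_tmul, LinearMap.baseChange_tmul,
        Algebra.TensorProduct.tmul_mul_tmul, Algebra.TensorProduct.tmul_mul_tmul, one_mul,
        mul_one, c.ir]
    | add x y hx hy =>
      rw [mul_add, add_mul, hx, hy, map_add, map_add]

theorem isIdempotentElem_tmul (m : Ideal R) {A : Type*} [Ring A] [Algebra R A]
    {T : Type*} [Ring T] [Algebra R T] (c : CornerHom R A T) :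
    IsIdempotentElem ((1 : R ⧸ m) ⊗ₜ[R] c.i 1 : (R ⧸ m) ⊗[R] T) := by
  show _ * _ = _
  rw [Algebra.TensorProduct.tmul_mul_tmul, one_mul, c.isIdempotentElem.eq]

/-- **Main abstract theorem.** Over an LG-ring, two algebras which are corners of the same Azumaya
algebra and whose fibres at all maximal ideals have the same dimension are isomorphic. -/
theorem nonempty_algEquiv_of_corners (hR : LGRing.IsLGRing R)
    {A : Type*} [Ring A] [Algebra R A] {B : Type*} [Ring B] [Algebra R B]
    {T : Type*} [Ring T] [Algebra R T] [IsAzumaya R T]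
    (cA : CornerHom R A T) (cB : CornerHom R B T)
    (hdim : ∀ (m : Ideal R) [m.IsMaximal],
      finrank (R ⧸ m) ((R ⧸ m) ⊗[R] A) = finrank (R ⧸ m) ((R ⧸ m) ⊗[R] B)) :
    Nonempty (A ≃ₐ[R] B) := by
  classical
  obtain ⟨u, v, huv, hvu, h⟩ := exists_unit_conj_of_fibres hR T (cA.i 1) (cB.i 1)
    cA.isIdempotentElem cB.isIdempotentElem (fun m hm => by
      letI : Field (R ⧸ m) := Ideal.Quotient.field m
      haveI : IsAzumaya (R ⧸ m) ((R ⧸ m) ⊗[R] T) :=
        Groth.Agent.Lib.helper8.Az.isAzumaya_baseChange R (R ⧸ m) T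
      haveI : IsSimpleRing ((R ⧸ m) ⊗[R] T) :=
        Groth.Agent.Lib.helper8.Az.isSimpleRing_of_isAzumaya_field (R ⧸ m) _
      obtain ⟨ub, vb, hub, hvb, hfg⟩ :=
        SimpleConj.exists_unit_conj (isIdempotentElem_tmul m cA) (isIdempotentElem_tmul m cB)
          (cornerDataBaseChange m cA) (cornerDataBaseChange m cB) (hdim m)
      obtain ⟨u, hu⟩ := Groth.Agent.S16605.tmul_one_surjective m T ub
      obtain ⟨v, hv⟩ := Groth.Agent.S16605.tmul_one_surjective m T vb
      rw [TensorProduct.mk_apply] at hu hv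
      refine ⟨u, v, ?_, ?_⟩
      · apply Groth.Agent.S16605.mem_smul_top_of_one_tmul_eq_zero
        rw [TensorProduct.tmul_sub, ← one_mul (1 : R ⧸ m), ← Algebra.TensorProduct.tmul_mul_tmul,
          hu, hv, hub, one_mul]
        exact sub_self _
      · apply Groth.Agent.S16605.mem_smul_top_of_one_tmul_eq_zero
        rw [TensorProduct.tmul_sub]
        have e1 : (1 : R ⧸ m) ⊗ₜ[R] (u * cA.i 1) = ub * ((1 : R ⧸ m) ⊗ₜ[R] cA.i 1) := by
          rw [← hu, Algebra.TensorProduct.tmul_mul_tmul, one_mul]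
        have e2 : (1 : R ⧸ m) ⊗ₜ[R] (cB.i 1 * u) = ((1 : R ⧸ m) ⊗ₜ[R] cB.i 1) * ub := by
          rw [← hu, Algebra.TensorProduct.tmul_mul_tmul, one_mul]
        rw [e1, e2, hfg, sub_self])
  exact nonempty_algEquiv_of_conj cA cB u v huv hvu h

end Corner

end Groth.Agent.Lib.Helper10.LGConj
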