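import Mathlib
import Groth.Agent.Lib.Helper10.LGConj

/-!
# Corners of Azumaya algebras

* rank lemmas for finite projective modules over a connected ring;
* the corner `e A e` as an `R`-algebra, with `CornerHom` data;
* the corner lemma: for corners `B₁ = e₁ A e₁`, `B₂ = e₂ A e₂` of an Azumaya algebra `A`,
  `B₁ ⊗ B₂ᵐᵒᵖ ≃ End_R (e₁ A e₂)`.
-/

set_option autoImplicit false
set_option linter.style.haveILetI false
set_option linter.unusedSectionVars false

namespace Groth.Agent.Lib.Helper10.BrauerCorner

open scoped TensorProduct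
open Module MulOpposite

universe u v w

section Rank

variable {R : Type u} [CommRing R]

/-- Over a connected ring a nonzero finite projective module has everywhere positive rank. -/
theorem rankAtStalk_pos_of_connected [ConnectedSpace (PrimeSpectrum R)] (M : Type v)
    [AddCommGroup M] [Module R M] [Module.Finite R M] [Module.Projective R M] [Nontrivial M]
    (p : PrimeSpectrum R) : 0 < rankAtStalk M p := by
  by_contra h
  have h0 : rankAtStalk M p = 0 := by omega
  haveI : Module.FinitePresentation R M := Module.finitePresentation_of_projective R M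
  have hc := isLocallyConstant_rankAtStalk (R := R) (M := M)
  have h1 : rankAtStalk (R := R) M = 0 := by
    ext q
    rw [hc.apply_eq_of_preconnectedSpace q p, h0]
    rfl
  rw [rankAtStalk_eq_zero_iff_subsingleton] at h1
  exact not_subsingleton M h1

/-- A finite flat module of everywhere positive rank is faithful. -/
theorem faithfulSMul_of_rankAtStalk_pos (M : Type v) [AddCommGroup M] [Module R M]
    [Module.Finite R M] [Module.Flat R M] (h : ∀ p : PrimeSpectrum R, 0 < rankAtStalk M p) :
    FaithfulSMul R M := by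
  rw [← Module.annihilator_eq_bot, eq_bot_iff]
  intro r hr
  rw [Module.mem_annihilator] at hr
  rw [Ideal.mem_bot]
  by_contra hne
  let J : Ideal R := LinearMap.ker (LinearMap.toSpanSingleton R R r)
  have hJ : J ≠ ⊤ := by
    intro hJ
    have h1 : (1 : R) ∈ J := by rw [hJ]; trivial
    rw [LinearMap.mem_ker, LinearMap.toSpanSingleton_apply, one_smul] at h1
    exact hne h1
  obtain ⟨m, hm, hJm⟩ := Ideal.exists_le_maximal J hJ
  let p : PrimeSpectrum R := ⟨m, hm.isPrime⟩
  have hp := h p
  haveI : Module.Free (Localization.AtPrime p.asIdeal)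
      (LocalizedModule p.asIdeal.primeCompl M) := free_of_flat_of_isLocalRing
  let b := Module.Free.chooseBasis (Localization.AtPrime p.asIdeal)
    (LocalizedModule p.asIdeal.primeCompl M)
  have hne' : Nonempty (Module.Free.ChooseBasisIndex (Localization.AtPrime p.asIdeal)
      (LocalizedModule p.asIdeal.primeCompl M)) := by
    by_contra hempty
    rw [not_nonempty_iff] at hempty
    have : finrank (Localization.AtPrime p.asIdeal)
        (LocalizedModule p.asIdeal.primeCompl M) = 0 := by
      rw [Module.finrank_eq_card_basis b]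
      exact Fintype.card_eq_zero
    rw [rankAtStalk] at hp
    omega
  obtain ⟨i⟩ := hne'
  have hz : algebraMap R (Localization.AtPrime p.asIdeal) r • b i = 0 := by
    induction b i using LocalizedModule.induction_on with
    | h x s =>
      rw [algebraMap_smul, LocalizedModule.smul'_mk, hr x, LocalizedModule.zero_mk]
  have hz' : algebraMap R (Localization.AtPrime p.asIdeal) r = 0 := by
    have h2 := congrArg b.repr hz
    rw [map_smul, b.repr_self, Finsupp.smul_single, smul_eq_mul, mul_one, map_zero] at h2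
    have h3 := DFunLike.congr_fun h2 i
    rwa [Finsupp.single_eq_same, Finsupp.zero_apply] at h3
  rw [IsLocalization.map_eq_zero_iff p.asIdeal.primeCompl] at hz'
  obtain ⟨s, hs⟩ := hz'
  have hsJ : (s : R) ∈ J := by
    rw [LinearMap.mem_ker, LinearMap.toSpanSingleton_apply, smul_eq_mul]
    exact hs
  exact s.2 (hJm hsJ)

/-- Over a connected ring a nonzero finite projective module is faithful. -/
theorem faithfulSMul_of_connected [ConnectedSpace (PrimeSpectrum R)] (M : Type v)
    [AddCommGroup M] [Module R M] [Module.Finite R M] [Module.Projective R M] [Nontrivial M] :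
    FaithfulSMul R M :=
  faithfulSMul_of_rankAtStalk_pos M (rankAtStalk_pos_of_connected M)

end Rank

section CornerAlg

variable {R : Type u} [CommRing R] {A : Type v} [Ring A] [Algebra R A] {e : A}
  (he : IsIdempotentElem e)

include he in
theorem smul_mem_corner (r : R) : r • e ∈ Subsemigroup.corner e :=
  ⟨r • e, by
    show e * (r • e) * e = r • e
    rw [mul_smul_comm, smul_mul_assoc, he.eq, he.eq]⟩

theorem corner_left_mul (x : he.Corner) : e * x.1 = x.1 :=
  ((Subsemigroup.mem_corner_iff he).mp x.2).1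

theorem corner_mul_right (x : he.Corner) : x.1 * e = x.1 :=
  ((Subsemigroup.mem_corner_iff he).mp x.2).2

/-- the structure map `R → e A e`, `r ↦ r • e` -/
noncomputable def cornerAlgebraMap : R →+* he.Corner where
  toFun r := ⟨r • e, smul_mem_corner he r⟩
  map_one' := Subtype.ext (one_smul _ _)
  map_mul' r s := Subtype.ext (by
    show (r * s) • e = (r • e) * (s • e)
    rw [smul_mul_smul_comm, he.eq])
  map_zero' := Subtype.ext (zero_smul _ _)
  map_add' r s := Subtype.ext (add_smul _ _ _)

noncomputable instance cornerAlgebra : Algebra R he.Corner :=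
  (cornerAlgebraMap he).toAlgebra' (fun r x => Subtype.ext (by
    show (r • e) * x.1 = x.1 * (r • e)
    rw [smul_mul_assoc, mul_smul_comm, corner_left_mul he, corner_mul_right he]))

theorem corner_smul_val (r : R) (x : he.Corner) : (r • x).1 = r • x.1 := by
  show (r • e) * x.1 = r • x.1
  rw [smul_mul_assoc, corner_left_mul he]

/-- the retraction `a ↦ e a e` -/
def cornerR (a : A) : he.Corner := ⟨e * a * e, a, rfl⟩

theorem cornerR_val (a : A) : (cornerR he a).1 = e * a * e := rfl

/-- The corner `e A e` with its corner data. -/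
noncomputable def cornerHom : LGConj.CornerHom R he.Corner A where
  i := { toFun := fun x => x.1
         map_add' := fun _ _ => rfl
         map_smul' := fun r x => corner_smul_val he r x }
  r := { toFun := cornerR he
         map_add' := fun a b => Subtype.ext (by
          show e * (a + b) * e = e * a * e + e * b * e
          rw [mul_add, add_mul])
         map_smul' := fun r a => Subtype.ext (by
          show e * (r • a) * e = (r • cornerR he a).1
          rw [corner_smul_val, cornerR_val, mul_smul_comm, smul_mul_assoc]) }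
  i_mul := fun _ _ => rfl
  ri := fun x => Subtype.ext (by
    show e * x.1 * e = x.1
    rw [corner_left_mul he, corner_mul_right he])
  ir := fun _ => rfl

@[simp] theorem cornerHom_i_one : (cornerHom (R := R) he).i 1 = e := rfl

theorem cornerHom_i_apply (x : he.Corner) : (cornerHom (R := R) he).i x = x.1 := rfl

end CornerAlg

section CornerLemma

variable {R : Type u} [CommRing R]

/-- the opposite of a linear map -/
noncomputable def opMap {B : Type*} [AddCommGroup B] [Module R B] {A : Type*} [AddCommGroup A]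
    [Module R A] (f : B →ₗ[R] A) : Bᵐᵒᵖ →ₗ[R] Aᵐᵒᵖ :=
  (opLinearEquiv R).toLinearMap ∘ₗ f ∘ₗ (opLinearEquiv R).symm.toLinearMap

@[simp] theorem opMap_apply {B : Type*} [AddCommGroup B] [Module R B] {A : Type*} [AddCommGroup A]
    [Module R A] (f : B →ₗ[R] A) (b : Bᵐᵒᵖ) : opMap f b = op (f (unop b)) := rfl

variable {A : Type*} [Ring A] [Algebra R A]
  {B₁ : Type*} [Ring B₁] [Algebra R B₁] {B₂ : Type*} [Ring B₂] [Algebra R B₂]
  (c₁ : LGConj.CornerHom R B₁ A) (c₂ : LGConj.CornerHom R B₂ A)
  {M : Type*} [AddCommGroup M] [Module R M] (j : M →ₗ[R] A) (s : A →ₗ[R] M)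

/-- `f ↦ s ∘ f ∘ j` -/
noncomputable def conjDown : Module.End R A →ₗ[R] Module.End R M where
  toFun f := s ∘ₗ f ∘ₗ j
  map_add' f g := by
    refine LinearMap.ext fun x => ?_
    simp
  map_smul' r f := by
    refine LinearMap.ext fun x => ?_
    simp

/-- `g ↦ j ∘ g ∘ s` -/
noncomputable def conjUp : Module.End R M →ₗ[R] Module.End R A where
  toFun g := j ∘ₗ g ∘ₗ s
  map_add' f g := by
    refine LinearMap.ext fun x => ?_
    simp
  map_smul' r f := by
    refine LinearMap.ext fun x => ?_
    simp

@[simp] theorem conjDown_apply (f : Module.End R A) (m : M) :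
    conjDown j s f m = s (f (j m)) := rfl

@[simp] theorem conjUp_apply (g : Module.End R M) (a : A) :
    conjUp j s g a = j (g (s a)) := rfl

/-- the inclusion `B₁ ⊗ B₂ᵐᵒᵖ → A ⊗ Aᵐᵒᵖ` -/
noncomputable def iota : B₁ ⊗[R] B₂ᵐᵒᵖ →ₗ[R] A ⊗[R] Aᵐᵒᵖ :=
  TensorProduct.map c₁.i (opMap c₂.i)

/-- the retraction `A ⊗ Aᵐᵒᵖ → B₁ ⊗ B₂ᵐᵒᵖ` -/
noncomputable def rho : A ⊗[R] Aᵐᵒᵖ →ₗ[R] B₁ ⊗[R] B₂ᵐᵒᵖ :=
  TensorProduct.map c₁.r (opMap c₂.r)

theorem rho_iota (z : B₁ ⊗[R] B₂ᵐᵒᵖ) : rho c₁ c₂ (iota c₁ c₂ z) = z := by
  induction z using TensorProduct.induction_on with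
  | zero => simp
  | tmul b c =>
    rw [iota, rho, TensorProduct.map_tmul, TensorProduct.map_tmul, opMap_apply, opMap_apply,
      unop_op, c₁.ri, c₂.ri, op_unop]
  | add x y hx hy => rw [map_add, map_add, hx, hy]

/-- The linear map `B₁ ⊗ B₂ᵐᵒᵖ → End_R M`, `b ⊗ c ↦ (m ↦ s (b * j m * c))`. -/
noncomputable def theta : B₁ ⊗[R] B₂ᵐᵒᵖ →ₗ[R] Module.End R M :=
  conjDown j s ∘ₗ (AlgHom.mulLeftRight R A).toLinearMap ∘ₗ iota c₁ c₂

theorem theta_tmul (b : B₁) (c : B₂ᵐᵒᵖ) (m : M) :
    theta c₁ c₂ j s (b ⊗ₜ c) m = s (c₁.i b * j m * c₂.i (unop c)) := by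
  show s (AlgHom.mulLeftRight R A (iota c₁ c₂ (b ⊗ₜ c)) (j m)) = _
  rw [iota, TensorProduct.map_tmul, AlgHom.mulLeftRight_apply, opMap_apply, unop_op]

variable (hsj : ∀ m, s (j m) = m) (hjs : ∀ a, j (s a) = c₁.i 1 * a * c₂.i 1)

include hjs in
/-- the key identity -/
theorem key (w : A ⊗[R] Aᵐᵒᵖ) :
    AlgHom.mulLeftRight R A (iota c₁ c₂ (rho c₁ c₂ w)) =
      conjUp j s (conjDown j s (AlgHom.mulLeftRight R A w)) := by
  induction w using TensorProduct.induction_on with
  | zero => simp
  | tmul a c =>
    refine LinearMap.ext fun x => ?_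
    rw [rho, iota, TensorProduct.map_tmul, TensorProduct.map_tmul, opMap_apply, opMap_apply,
      unop_op, AlgHom.mulLeftRight_apply, unop_op, conjUp_apply, conjDown_apply, hjs, hjs,
      AlgHom.mulLeftRight_apply, ← c₁.ir, ← c₂.ir]
    simp only [mul_assoc]
  | add x y hx hy => simp only [map_add, hx, hy]

include hsj in
theorem conjDown_conjUp (g : Module.End R M) : conjDown j s (conjUp j s g) = g := by
  refine LinearMap.ext fun m => ?_
  rw [conjDown_apply, conjUp_apply, hsj, hsj]

include hsj hjs in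
theorem theta_bijective [IsAzumaya R A] : Function.Bijective (theta c₁ c₂ j s) := by
  let φe : A ⊗[R] Aᵐᵒᵖ ≃ₗ[R] Module.End R A :=
    LinearEquiv.ofBijective (AlgHom.mulLeftRight R A).toLinearMap IsAzumaya.bij
  have hφe : ∀ w, φe w = AlgHom.mulLeftRight R A w := fun _ => rfl
  let psi : Module.End R M → B₁ ⊗[R] B₂ᵐᵒᵖ := fun g => rho c₁ c₂ (φe.symm (conjUp j s g))
  have h1 : ∀ g, theta c₁ c₂ j s (psi g) = g := by
    intro g
    show conjDown j s (AlgHom.mulLeftRight R A (iota c₁ c₂ (rho c₁ c₂ (φe.symm (conjUp j s g)))))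
      = g
    rw [key c₁ c₂ j s hjs, ← hφe, φe.apply_symm_apply, conjDown_conjUp j s hsj,
      conjDown_conjUp j s hsj]
  have h2 : ∀ z, psi (theta c₁ c₂ j s z) = z := by
    intro z
    show rho c₁ c₂ (φe.symm (conjUp j s (conjDown j s
      (AlgHom.mulLeftRight R A (iota c₁ c₂ z))))) = z
    rw [← key c₁ c₂ j s hjs, ← hφe, φe.symm_apply_apply, rho_iota, rho_iota]
  exact ⟨Function.LeftInverse.injective h2, Function.RightInverse.surjective h1⟩

include hsj hjs in
theorem theta_mul (a₁ a₂ : B₁) (b₁ b₂ : B₂ᵐᵒᵖ) :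
    theta c₁ c₂ j s ((a₁ * a₂) ⊗ₜ (b₁ * b₂)) =
      theta c₁ c₂ j s (a₁ ⊗ₜ b₁) * theta c₁ c₂ j s (a₂ ⊗ₜ b₂) := by
  refine LinearMap.ext fun m => ?_
  rw [Module.End.mul_apply, theta_tmul, theta_tmul, theta_tmul, hjs, unop_mul, c₁.i_mul,
    c₂.i_mul]
  congr 1
  have e1 : c₁.i a₁ * c₁.i 1 = c₁.i a₁ := by rw [← c₁.i_mul, mul_one]
  have e2 : c₂.i 1 * c₂.i (unop b₁) = c₂.i (unop b₁) := by rw [← c₂.i_mul, one_mul]
  calc c₁.i a₁ * c₁.i a₂ * j m * (c₂.i (unop b₂) * c₂.i (unop b₁))
      = (c₁.i a₁ * c₁.i 1) * c₁.i a₂ * j m * (c₂.i (unop b₂) * (c₂.i 1 * c₂.i (unop b₁))) := by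
        rw [e1, e2]
    _ = _ := by simp only [mul_assoc]

include hsj hjs in
theorem theta_one : theta c₁ c₂ j s (1 ⊗ₜ 1) = 1 := by
  refine LinearMap.ext fun m => ?_
  rw [theta_tmul, unop_one, ← hjs, hsj, hsj, Module.End.one_apply]

/-- **Corner lemma**: `B₁ ⊗ B₂ᵐᵒᵖ ≃ End_R (e₁ A e₂)`. -/
noncomputable def thetaEquiv [IsAzumaya R A] : B₁ ⊗[R] B₂ᵐᵒᵖ ≃ₐ[R] Module.End R M :=
  AlgEquiv.ofBijective
    (Algebra.TensorProduct.algHomOfLinearMapTensorProduct (theta c₁ c₂ j s)
      (theta_mul c₁ c₂ j s hsj hjs) (theta_one c₁ c₂ j s hsj hjs))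
    (theta_bijective c₁ c₂ j s hsj hjs)

end CornerLemma

section Applications

variable {R : Type u} [CommRing R] {A : Type v} [Ring A] [Algebra R A]

/-- the trivial corner -/
noncomputable def cornerRefl : LGConj.CornerHom R A A where
  i := LinearMap.id
  r := LinearMap.id
  i_mul := fun _ _ => rfl
  ri := fun _ => rfl
  ir := fun x => by simp

/-- the left ideal `A e` as an `R`-module -/
noncomputable def leftIdeal (e : A) : Submodule R A := LinearMap.range (LinearMap.mulRight R e)

theorem mem_leftIdeal {e : A} (he : IsIdempotentElem e) {x : A} :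
    x ∈ leftIdeal (R := R) e ↔ x * e = x := by
  constructor
  · rintro ⟨a, rfl⟩
    rw [LinearMap.mulRight_apply, mul_assoc, he.eq]
  · intro h
    exact ⟨x, h⟩

theorem self_mem_leftIdeal {e : A} (he : IsIdempotentElem e) : e ∈ leftIdeal (R := R) e :=
  (mem_leftIdeal he).mpr he.eq

/-- the retraction `A → A e` -/
noncomputable def leftIdealRetr (e : A) : A →ₗ[R] leftIdeal (R := R) e :=
  (LinearMap.mulRight R e).rangeRestrict

theorem leftIdealRetr_val (e : A) (a : A) : (leftIdealRetr (R := R) e a).1 = a * e := rfl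

theorem leftIdealRetr_subtype {e : A} (he : IsIdempotentElem e) (m : leftIdeal (R := R) e) :
    leftIdealRetr (R := R) e ((leftIdeal (R := R) e).subtype m) = m :=
  Subtype.ext ((mem_leftIdeal he).mp m.2)

instance leftIdeal_finite [Module.Finite R A] (e : A) : Module.Finite R (leftIdeal (R := R) e) :=
  Module.Finite.range _

theorem leftIdeal_projective [Module.Projective R A] {e : A} (he : IsIdempotentElem e) :
    Module.Projective R (leftIdeal (R := R) e) :=
  Module.Projective.of_split (leftIdeal (R := R) e).subtype (leftIdealRetr e)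
    (LinearMap.ext (leftIdealRetr_subtype he))

variable {e : A} (he : IsIdempotentElem e)

instance corner_finite [Module.Finite R A] : Module.Finite R he.Corner :=
  Module.Finite.of_surjective (cornerHom (R := R) he).r
    (fun x => ⟨(cornerHom (R := R) he).i x, (cornerHom (R := R) he).ri x⟩)

instance corner_projective [Module.Projective R A] : Module.Projective R he.Corner :=
  Module.Projective.of_split (cornerHom (R := R) he).i (cornerHom (R := R) he).r
    (LinearMap.ext (cornerHom (R := R) he).ri)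

theorem mulLeftRight_corner_eq :
    (AlgHom.mulLeftRight R he.Corner).toLinearMap =
      theta (cornerHom (R := R) he) (cornerHom (R := R) he) (cornerHom (R := R) he).i
        (cornerHom (R := R) he).r := by
  refine TensorProduct.ext' fun b c => LinearMap.ext fun x => ?_
  rw [AlgHom.toLinearMap_apply, AlgHom.mulLeftRight_apply, theta_tmul,
    ← (cornerHom (R := R) he).i_mul, ← (cornerHom (R := R) he).i_mul, (cornerHom (R := R) he).ri]

/-- A faithful corner of an Azumaya algebra is Azumaya. -/
theorem isAzumaya_corner [IsAzumaya R A] [FaithfulSMul R he.Corner] : IsAzumaya R he.Corner where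
  bij := by
    have h := theta_bijective (cornerHom (R := R) he) (cornerHom (R := R) he)
      (cornerHom (R := R) he).i (cornerHom (R := R) he).r (cornerHom (R := R) he).ri
      (fun a => ((cornerHom (R := R) he).ir a).symm)
    rw [← mulLeftRight_corner_eq] at h
    exact h

/-- `A ⊗ (e A e)ᵐᵒᵖ ≃ End_R (A e)` -/
noncomputable def leftIdealEquiv [IsAzumaya R A] :
    A ⊗[R] (he.Corner)ᵐᵒᵖ ≃ₐ[R] Module.End R (leftIdeal (R := R) e) :=
  thetaEquiv (cornerRefl (R := R) (A := A)) (cornerHom (R := R) he)
    (leftIdeal (R := R) e).subtype (leftIdealRetr e) (leftIdealRetr_subtype he)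
    (fun a => by
      show a * e = 1 * a * e
      rw [one_mul])

/-- **Brauer equivalence of an Azumaya algebra with a faithful corner.** -/
theorem nonempty_algEquiv_corner [IsAzumaya R A] [FaithfulSMul R he.Corner] :
    Nonempty (A ⊗[R] Module.End R he.Corner ≃ₐ[R]
      he.Corner ⊗[R] Module.End R (leftIdeal (R := R) e)) := by
  haveI : IsAzumaya R he.Corner := isAzumaya_corner he
  let μ : he.Corner ⊗[R] (he.Corner)ᵐᵒᵖ ≃ₐ[R] Module.End R he.Corner :=
    AlgEquiv.ofBijective (AlgHom.mulLeftRight R he.Corner) IsAzumaya.bij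
  exact ⟨(Algebra.TensorProduct.congr AlgEquiv.refl μ.symm).trans <|
    (Algebra.TensorProduct.leftComm R A he.Corner (he.Corner)ᵐᵒᵖ).trans <|
    Algebra.TensorProduct.congr AlgEquiv.refl (leftIdealEquiv he)⟩

/-- splitting of `A e` along an idempotent `e' ∈ e A e` -/
noncomputable def leftIdealSplit {e' : A} (he' : IsIdempotentElem e') (h1 : e * e' = e')
    (h2 : e' * e = e') :
    leftIdeal (R := R) e ≃ₗ[R] leftIdeal (R := R) e' × leftIdeal (R := R) (e - e') where
  toFun x := (leftIdealRetr e' x.1, leftIdealRetr (e - e') x.1)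
  map_add' x y := by
    simp only [Submodule.coe_add, map_add, Prod.mk_add_mk]
  map_smul' r x := by
    simp only [Submodule.coe_smul, map_smul, RingHom.id_apply, Prod.smul_mk]
  invFun y := ⟨y.1.1 + y.2.1, by
    have he'' : IsIdempotentElem (e - e') := by
      show (e - e') * (e - e') = e - e'
      rw [mul_sub, sub_mul, sub_mul, he.eq, he'.eq, h1, h2]
      abel
    rw [mem_leftIdeal he, add_mul]
    congr 1
    · have := (mem_leftIdeal he').mp y.1.2
      rw [← this, mul_assoc, h2]
    · have := (mem_leftIdeal he'').mp y.2.2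
      rw [← this, mul_assoc, sub_mul, he.eq, h2]⟩
  left_inv x := by
    apply Subtype.ext
    show x.1 * e' + x.1 * (e - e') = x.1
    rw [← mul_add, add_sub_cancel, (mem_leftIdeal he).mp x.2]
  right_inv y := by
    have he'' : IsIdempotentElem (e - e') := by
      show (e - e') * (e - e') = e - e'
      rw [mul_sub, sub_mul, sub_mul, he.eq, he'.eq, h1, h2]
      abel
    have hy1 := (mem_leftIdeal he').mp y.1.2
    have hy2 := (mem_leftIdeal he'').mp y.2.2
    have z1 : y.2.1 * e' = 0 := by
      rw [← hy2, mul_assoc, sub_mul, h1, he'.eq, sub_self, mul_zero]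
    have z2 : y.1.1 * (e - e') = 0 := by
      rw [← hy1, mul_assoc, mul_sub, h2, he'.eq, sub_self, mul_zero]
    refine Prod.ext (Subtype.ext ?_) (Subtype.ext ?_)
    · show (y.1.1 + y.2.1) * e' = y.1.1
      rw [add_mul, hy1, z1, add_zero]
    · show (y.1.1 + y.2.1) * (e - e') = y.2.1
      rw [add_mul, hy2, z2, zero_add]

end Applications

end Groth.Agent.Lib.Helper10.BrauerCorner
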