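import Groth.Agent.Lib.Helper10.FunFld62

/-!
Constant field extensions of function fields of one variable (helper10), part 1: models
`K' = k' ⊗_k K` of a finite constant extension of a geometric function field are geometric
function fields over `k'`.
-/

set_option autoImplicit false
set_option linter.unusedSectionVars false
set_option linter.style.haveILetI false

universe u v w

open IntermediateField FunFld TensorProduct Polynomial

namespace Groth.Agent.Lib.helper10

namespace CExt

open FF RD PA

theorem injective_of_isField {R S : Type*} [CommRing R] [CommRing S] [Nontrivial S]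
    (hR : IsField R) (f : R →+* S) : Function.Injective f := by
  rw [injective_iff_map_eq_zero]
  intro x hx
  by_contra hne
  obtain ⟨y, hy⟩ := hR.mul_inv_cancel hne
  have h1 := congrArg f hy
  rw [map_mul, hx, zero_mul, map_one] at h1
  exact zero_ne_one h1

section Model

variable {k k' : Type u} {K : Type v} {K' : Type w} [Field k] [Field k'] [Field K] [Field K']
  [Algebra k k'] [Algebra k K] [Algebra K K'] [Algebra k' K'] [Algebra k K']
  [IsScalarTower k k' K'] [IsScalarTower k K K']

/-- The model isomorphism as a `k'`-algebra map. -/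
noncomputable def modelHom (k k' K K' : Type*) [Field k] [Field k'] [Field K] [Field K']
    [Algebra k k'] [Algebra k K] [Algebra K K'] [Algebra k' K'] [Algebra k K']
    [IsScalarTower k k' K'] [IsScalarTower k K K'] : (k' ⊗[k] K) →ₐ[k'] K' :=
  Algebra.TensorProduct.productLeftAlgHom (Algebra.ofId k' K') (IsScalarTower.toAlgHom k K K')

theorem modelHom_apply (w : k' ⊗[k] K) :
    modelHom k k' K K' w = Algebra.TensorProduct.productMap
      (IsScalarTower.toAlgHom k k' K') (IsScalarTower.toAlgHom k K K') w := by
  induction w using TensorProduct.induction_on with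
  | zero => simp
  | tmul a b => rfl
  | add x y hx hy => rw [map_add, map_add, hx, hy]

theorem modelHom_bijective
    (h : Function.Bijective (Algebra.TensorProduct.productMap
      (IsScalarTower.toAlgHom k k' K') (IsScalarTower.toAlgHom k K K'))) :
    Function.Bijective (modelHom k k' K K') := by
  have : ⇑(modelHom k k' K K') = ⇑(Algebra.TensorProduct.productMap
      (IsScalarTower.toAlgHom k k' K') (IsScalarTower.toAlgHom k K K')) := by
    funext w
    exact modelHom_apply w
  rw [this]
  exact h

theorem finrank_model [FiniteDimensional k k']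
    (h : Function.Bijective (Algebra.TensorProduct.productMap
      (IsScalarTower.toAlgHom k k' K') (IsScalarTower.toAlgHom k K K'))) :
    FiniteDimensional K K' ∧ Module.finrank K K' = Module.finrank k k' := by
  classical
  obtain ⟨n, hn⟩ : ∃ n, Module.finrank k k' = n := ⟨_, rfl⟩
  let c : Module.Basis (Fin n) k k' := Module.finBasisOfFinrankEq k k' hn
  obtain ⟨bE, -⟩ := FF.exists_const_basis h c
  refine ⟨Module.Finite.of_basis bE, ?_⟩
  rw [Module.finrank_eq_card_basis bE, hn, Fintype.card_fin]

/-- For a finite extension `k''/k'`, the ring `K' ⊗_{k'} k''` is a field. -/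
theorem isField_tensor_model [FiniteDimensional k k']
    (h : Function.Bijective (Algebra.TensorProduct.productMap
      (IsScalarTower.toAlgHom k k' K') (IsScalarTower.toAlgHom k K K')))
    (hg : IsGeometric k K) (k'' : Type u) [Field k''] [Algebra k' k''] [FiniteDimensional k' k''] :
    IsField (k'' ⊗[k'] K') := by
  letI : Algebra k k'' := ((algebraMap k' k'').comp (algebraMap k k')).toAlgebra
  haveI : IsScalarTower k k' k'' := IsScalarTower.of_algebraMap_eq (fun _ => rfl)
  haveI : FiniteDimensional k k'' := Module.Finite.trans k' k''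
  have h1 : IsField (k'' ⊗[k] K) := hg k'' inferInstance
  let e1 : (k'' ⊗[k'] (k' ⊗[k] K)) ≃ₐ[k'] (k'' ⊗[k] K) :=
    Algebra.TensorProduct.cancelBaseChange k k' k' k'' K
  let e2 : (k' ⊗[k] K) ≃ₐ[k'] K' := AlgEquiv.ofBijective (modelHom k k' K K') (modelHom_bijective h)
  let e3 : (k'' ⊗[k'] (k' ⊗[k] K)) ≃ₐ[k'] (k'' ⊗[k'] K') :=
    Algebra.TensorProduct.congr AlgEquiv.refl e2
  exact MulEquiv.isField h1 ((e3.symm.trans e1).toMulEquiv)


theorem isGeometric_model [FiniteDimensional k k']
    (h : Function.Bijective (Algebra.TensorProduct.productMap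
      (IsScalarTower.toAlgHom k k' K') (IsScalarTower.toAlgHom k K K')))
    (hg : IsGeometric k K) : IsGeometric k' K' := by
  intro k'' _ _ hfin
  haveI := hfin
  exact isField_tensor_model h hg k''

/-- `k'` is algebraically closed in the model `K'`. -/
theorem mem_range_of_isAlgebraic_model [FiniteDimensional k k']
    (h : Function.Bijective (Algebra.TensorProduct.productMap
      (IsScalarTower.toAlgHom k k' K') (IsScalarTower.toAlgHom k K K')))
    (hg : IsGeometric k K) {y : K'} (hy : IsAlgebraic k' y) :
    y ∈ Set.range (algebraMap k' K') := by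
  have hint : IsIntegral k' y := hy.isIntegral
  haveI : Fact (Irreducible (minpoly k' y)) := ⟨minpoly.irreducible hint⟩
  have hp0 : minpoly k' y ≠ 0 := minpoly.ne_zero hint
  haveI : FiniteDimensional k' (AdjoinRoot (minpoly k' y)) :=
    (AdjoinRoot.powerBasis hp0).finite
  have hF : IsField (AdjoinRoot (minpoly k' y) ⊗[k'] K') :=
    isField_tensor_model h hg (AdjoinRoot (minpoly k' y))
  have hF' : IsField (K' ⊗[k'] AdjoinRoot (minpoly k' y)) :=
    MulEquiv.isField hF (Algebra.TensorProduct.comm k' K' (AdjoinRoot (minpoly k' y))).toMulEquiv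
  let g : AdjoinRoot (minpoly k' y) →ₐ[k'] K' :=
    AdjoinRoot.liftAlgHom (minpoly k' y) (Algebra.ofId k' K') y (by
      exact minpoly.aeval k' y)
  let ψ : (K' ⊗[k'] AdjoinRoot (minpoly k' y)) →ₐ[K'] K' :=
    Algebra.TensorProduct.productLeftAlgHom (AlgHom.id K' K') g
  have hinj : Function.Injective ψ := injective_of_isField hF' ψ.toRingHom
  have hle := LinearMap.finrank_le_finrank_of_injective (f := ψ.toLinearMap) hinj
  rw [Module.finrank_self, Module.finrank_baseChange,
    (AdjoinRoot.powerBasis hp0).finrank, AdjoinRoot.powerBasis_dim] at hle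
  have hpos : 0 < (minpoly k' y).natDegree := minpoly.natDegree_pos hint
  have hdeg : (minpoly k' y).degree = 1 := by
    rw [Polynomial.degree_eq_natDegree hp0]
    have : (minpoly k' y).natDegree = 1 := by omega
    rw [this]
    rfl
  exact minpoly.mem_range_of_degree_eq_one k' y hdeg

/-- A model of a finite constant extension of a geometric function field is a function field. -/
theorem isFunctionField_model [FiniteDimensional k k']
    (h : Function.Bijective (Algebra.TensorProduct.productMap
      (IsScalarTower.toAlgHom k k' K') (IsScalarTower.toAlgHom k K K')))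
    (hK : IsFunctionField k K) (hg : IsGeometric k K) : IsFunctionField k' K' := by
  classical
  obtain ⟨⟨x, hx, hfin⟩, -⟩ := hK
  refine ⟨⟨algebraMap K K' x, ?_, ?_⟩, fun y hy => mem_range_of_isAlgebraic_model h hg hy⟩
  · intro halg
    have h1 : IsAlgebraic k (algebraMap K K' x) := halg.restrictScalars k
    exact hx ((isAlgebraic_algebraMap_iff (algebraMap K K').injective).mp h1)
  · haveI : Module.Finite k⟮x⟯ K := hfin
    obtain ⟨s, hs⟩ := (Module.Finite.fg_top : (⊤ : Submodule k⟮x⟯ K).FG)
    have hr : ∀ r ∈ k⟮x⟯, algebraMap K K' r ∈ k'⟮algebraMap K K' x⟯ := by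
      intro r hr
      induction hr using IntermediateField.adjoin_induction with
      | mem y hy =>
        rw [Set.mem_singleton_iff.mp hy]
        exact mem_adjoin_simple_self _ _
      | algebraMap c =>
        rw [← IsScalarTower.algebraMap_apply k K K', IsScalarTower.algebraMap_apply k k' K']
        exact IntermediateField.algebraMap_mem _ _
      | add a b _ _ ha hb => rw [map_add]; exact add_mem ha hb
      | inv a _ ha => rw [map_inv₀]; exact inv_mem ha
      | mul a b _ _ ha hb => rw [map_mul]; exact mul_mem ha hb
    have hspan : Submodule.span k'⟮algebraMap K K' x⟯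
        ((algebraMap K K') '' (s : Set K)) = ⊤ := by
      rw [eq_top_iff]
      rintro z -
      obtain ⟨w, rfl⟩ := h.2 z
      induction w using TensorProduct.induction_on with
      | zero => rw [map_zero]; exact zero_mem _
      | add a b ha hb => rw [map_add]; exact add_mem ha hb
      | tmul c y =>
        rw [Algebra.TensorProduct.productMap_apply_tmul]
        have hy : y ∈ Submodule.span k⟮x⟯ (s : Set K) := by rw [hs]; trivial
        induction hy using Submodule.span_induction with
        | mem b hb =>
          have : (IsScalarTower.toAlgHom k k' K') c * (IsScalarTower.toAlgHom k K K') b =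
              (⟨algebraMap k' K' c, IntermediateField.algebraMap_mem _ c⟩ :
                k'⟮algebraMap K K' x⟯) • algebraMap K K' b := rfl
          rw [this]
          exact Submodule.smul_mem _ _ (Submodule.subset_span ⟨b, hb, rfl⟩)
        | zero => rw [map_zero, mul_zero]; exact zero_mem _
        | add a b _ _ ha hb => rw [map_add, mul_add]; exact add_mem ha hb
        | smul r a _ ha =>
          have : (IsScalarTower.toAlgHom k k' K') c *
              (IsScalarTower.toAlgHom k K K') (r • a) =
              (⟨algebraMap K K' r.1, hr r.1 r.2⟩ : k'⟮algebraMap K K' x⟯) •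
                ((IsScalarTower.toAlgHom k k' K') c * (IsScalarTower.toAlgHom k K K') a) := by
            show algebraMap k' K' c * algebraMap K K' (r • a) =
              algebraMap K K' r.1 * (algebraMap k' K' c * algebraMap K K' a)
            rw [show r • a = (r : K) * a from rfl, map_mul]
            ring
          rw [this]
          exact Submodule.smul_mem _ _ ha
    exact Module.Finite.of_fg_top (by
      rw [← hspan]
      exact Submodule.fg_span (s.finite_toSet.image _))


/-- Existence of a model of `k' ⊗_k K`. -/
theorem exists_model (k' : Type u) [Field k'] [Algebra k k'] [FiniteDimensional k k']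
    (hg : IsGeometric k K) :
    ∃ (K' : Type (max u v)) (_ : Field K') (_ : Algebra K K') (_ : Algebra k' K') (_ : Algebra k K')
      (_ : IsScalarTower k k' K') (_ : IsScalarTower k K K'),
      Function.Bijective (Algebra.TensorProduct.productMap
        (IsScalarTower.toAlgHom k k' K') (IsScalarTower.toAlgHom k K K')) := by
  have hT : IsField (k' ⊗[k] K) := hg k' inferInstance
  have hmax : (⊥ : Ideal (k' ⊗[k] K)).IsMaximal := Ring.isField_iff_maximal_bot.1 hT
  letI : Field ((k' ⊗[k] K) ⧸ (⊥ : Ideal (k' ⊗[k] K))) := Ideal.Quotient.field _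
  letI : Algebra K ((k' ⊗[k] K) ⧸ (⊥ : Ideal (k' ⊗[k] K))) :=
    ((Ideal.Quotient.mk ⊥).comp
      (Algebra.TensorProduct.includeRight : K →ₐ[k] (k' ⊗[k] K)).toRingHom).toAlgebra
  have htow : IsScalarTower k K ((k' ⊗[k] K) ⧸ (⊥ : Ideal (k' ⊗[k] K))) := by
    refine IsScalarTower.of_algebraMap_eq (fun c => ?_)
    show Ideal.Quotient.mk ⊥ (algebraMap k (k' ⊗[k] K) c) =
      Ideal.Quotient.mk ⊥ ((1 : k') ⊗ₜ[k] (algebraMap k K c))
    congr 1
    rw [Algebra.TensorProduct.algebraMap_apply, Algebra.algebraMap_eq_smul_one,
      Algebra.algebraMap_eq_smul_one (A := K), TensorProduct.smul_tmul]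
  refine ⟨(k' ⊗[k] K) ⧸ (⊥ : Ideal (k' ⊗[k] K)), inferInstance, inferInstance, inferInstance,
    inferInstance, inferInstance, htow, ?_⟩
  have hfun : ⇑(Algebra.TensorProduct.productMap
      (IsScalarTower.toAlgHom k k' ((k' ⊗[k] K) ⧸ (⊥ : Ideal (k' ⊗[k] K))))
      (IsScalarTower.toAlgHom k K ((k' ⊗[k] K) ⧸ (⊥ : Ideal (k' ⊗[k] K))))) =
      ⇑(Ideal.Quotient.mk (⊥ : Ideal (k' ⊗[k] K))) := by
    funext w
    induction w using TensorProduct.induction_on with
    | zero => simp
    | tmul a b =>
      rw [Algebra.TensorProduct.productMap_apply_tmul]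
      show Ideal.Quotient.mk ⊥ (algebraMap k' (k' ⊗[k] K) a) *
        Ideal.Quotient.mk ⊥ ((1 : k') ⊗ₜ[k] b) = _
      rw [← map_mul, Algebra.TensorProduct.algebraMap_apply, Algebra.TensorProduct.tmul_mul_tmul,
        mul_one, one_mul]
      rfl
    | add x y hx hy => rw [map_add, map_add, hx, hy]
  rw [hfun]
  refine ⟨?_, Ideal.Quotient.mk_surjective⟩
  rw [injective_iff_map_eq_zero]
  intro x hx
  rw [Ideal.Quotient.eq_zero_iff_mem] at hx
  exact hx

end Model

end CExt

end Groth.Agent.Lib.helper10
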