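import Groth.Agent.Lib.Helper10.CExt9

/-!
Constant field extensions of function fields of one variable (helper10), part 10: nonsingularity
of a place in a tower of constant field extensions.
-/

set_option autoImplicit false
set_option linter.unusedSectionVars false
set_option linter.style.haveILetI false

universe u v w w'

open IntermediateField FunFld TensorProduct Polynomial

namespace Groth.Agent.Lib.helper10

namespace CExt

open FF RD PA

section IntegralIff

variable {k : Type u} {F : Type v} {E : Type w} [Field k] [Field F] [Field E]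
  [Algebra k F] [Algebra F E] [Algebra k E] [IsScalarTower k F E]

theorem le_one_of_isIntegral_map (P : Place k F) {z : E}
    (hz : IsIntegral (P.O.toSubring.map (algebraMap F E)) z) (Q : Place k E) (hQ : IsOver Q P) :
    Q.1 z ≤ 1 := by
  obtain ⟨e, he⟩ := hQ
  apply val_le_one_of_isIntegral Q.1 _ hz
  rintro ⟨_, x, hx, rfl⟩
  show Q.1 (algebraMap F E x) ≤ 1
  rw [he]
  exact pow_le_one' hx e

theorem isIntegral_map_of_le_one [FiniteDimensional F E] (hF : IsFunctionField k F)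
    (P : Place k F) {z : E} (hz : ∀ Q : Place k E, IsOver Q P → Q.1 z ≤ 1) :
    IsIntegral (P.O.toSubring.map (algebraMap F E)) z := by
  classical
  letI : Algebra P.O E := ((algebraMap F E).comp (algebraMap P.O F)).toAlgebra
  haveI : IsScalarTower P.O F E := IsScalarTower.of_algebraMap_eq (fun _ => rfl)
  have hfin := finite_places_over' (E := E) hF P
  have hQs : ∀ Q, Q ∈ hfin.toFinset ↔ IsOver Q P := fun Q => Set.Finite.mem_toFinset hfin
  have hzO : z ∈ semiO hfin.toFinset := by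
    rw [mem_semiO]
    exact fun Q hQ => hz Q ((hQs Q).1 hQ)
  obtain ⟨p, hpm, hp⟩ := isIntegral_of_mem_semiO hF P hfin.toFinset hQs hzO
  let φ : P.O →+* (P.O.toSubring.map (algebraMap F E)) :=
    { toFun := fun x => ⟨algebraMap F E x.1, x.1, x.2, rfl⟩
      map_one' := Subtype.ext (map_one _)
      map_mul' := fun a b => Subtype.ext (map_mul _ _ _)
      map_zero' := Subtype.ext (map_zero _)
      map_add' := fun a b => Subtype.ext (map_add _ _ _) }
  refine ⟨p.map φ, hpm.map φ, ?_⟩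
  rw [Polynomial.eval₂_map]
  exact hp

/-- The easy inclusion: `O_P[k']` is integral over `O_P`. -/
theorem adjoin_le_integralClosure {k' : Type*} [Field k'] [Algebra k k'] [Algebra k' E]
    [IsScalarTower k k' E] [Algebra.IsIntegral k k'] (P : Place k F) :
    Algebra.adjoin (P.O.toSubring.map (algebraMap F E)) (Set.range (algebraMap k' E)) ≤
      integralClosure (P.O.toSubring.map (algebraMap F E)) E := by
  apply Algebra.adjoin_le
  rintro _ ⟨a, rfl⟩
  have h1 : IsIntegral k (algebraMap k' E a) :=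
    (Algebra.IsIntegral.isIntegral (R := k) a).algebraMap
  obtain ⟨p, hpm, hp⟩ := h1
  let j : k →+* (P.O.toSubring.map (algebraMap F E)) :=
    (algebraMap k E).codRestrict _ (fun a => by
      rw [IsScalarTower.algebraMap_apply k F E]
      exact ⟨algebraMap k F a, P.2.1 a, rfl⟩)
  refine ⟨p.map j, hpm.map j, ?_⟩
  rw [Polynomial.eval₂_map]
  exact hp

end IntegralIff

section Tower

variable {k k₁ k₂ : Type u} {K : Type v} {K₁ : Type w} {K₂ : Type w'}
  [Field k] [Field k₁] [Field k₂] [Field K] [Field K₁] [Field K₂]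
  [Algebra k k₁] [Algebra k k₂] [Algebra k₁ k₂] [IsScalarTower k k₁ k₂] [Algebra k K]
  [Algebra K K₁] [Algebra k₁ K₁] [Algebra k K₁] [IsScalarTower k k₁ K₁] [IsScalarTower k K K₁]
  [Algebra K K₂] [Algebra k₂ K₂] [Algebra k K₂] [IsScalarTower k k₂ K₂] [IsScalarTower k K K₂]
  [Algebra K₁ K₂] [Algebra k₁ K₂] [IsScalarTower K K₁ K₂] [IsScalarTower k₁ K₁ K₂]
  [IsScalarTower k₁ k₂ K₂] [IsScalarTower k k₁ K₂] [IsScalarTower k K₁ K₂]
  [FiniteDimensional k k₁] [FiniteDimensional k₁ k₂]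

/-- A place of `K₂` over `P` lies over a place of `K₁` over `P`. -/
theorem exists_mid_place [FiniteDimensional K K₁] [FiniteDimensional K₁ K₂]
    (hK : IsFunctionField k K) (hK₁ : IsFunctionField k₁ K₁)
    {R : Place k K₂} {P : Place k K} (hR : IsOver R P) :
    ∃ Q : Place k K₁, IsOver R Q ∧ IsOver Q P := by
  obtain ⟨Q₁, e₁, he₁⟩ := exists_place_under (k := k₁) hK₁ (Place.up (k₁ := k₁) R)
  have he₁' : IsOverWith R (Place.down (k := k) Q₁) e₁ := fun x => he₁ x
  obtain ⟨P', e', he'⟩ := exists_place_under (k := k) hK (Place.down (k := k) Q₁)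
  obtain ⟨e, he⟩ := hR
  have htr : IsOverWith R P' (e' * e₁) := isOverWith_trans he₁' he'
  have hPP : P = P' := isOverWith_unique_place he htr
  subst hPP
  exact ⟨Place.down (k := k) Q₁, ⟨e₁, he₁'⟩, ⟨e', he'⟩⟩

variable {n₁ n₂ : ℕ}

/-- If `P` is nonsingular with respect to `k₁` and all places of `K₁` over `P` are nonsingular
with respect to `k₂`, then `P` is nonsingular with respect to `k₂`. -/
theorem integralClosure_le_adjoin_tower [FiniteDimensional K K₁] [FiniteDimensional K₁ K₂]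
    (hK : IsFunctionField k K) (hK₁ : IsFunctionField k₁ K₁)
    (c₁ : Module.Basis (Fin n₁) k k₁) (b₁ : Module.Basis (Fin n₁) K K₁)
    (hb₁ : ∀ i, b₁ i = algebraMap k₁ K₁ (c₁ i))
    (c₂ : Module.Basis (Fin n₂) k₁ k₂) (b₂ : Module.Basis (Fin n₂) K₁ K₂)
    (hb₂ : ∀ j, b₂ j = algebraMap k₂ K₂ (c₂ j)) (P : Place k K)
    (h₁ : integralClosure (P.O.toSubring.map (algebraMap K K₁)) K₁ =
      Algebra.adjoin (P.O.toSubring.map (algebraMap K K₁)) (Set.range (algebraMap k₁ K₁)))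
    (h₂ : ∀ Q : Place k K₁, IsOver Q P →
      integralClosure (Q.O.toSubring.map (algebraMap K₁ K₂)) K₂ =
        Algebra.adjoin (Q.O.toSubring.map (algebraMap K₁ K₂)) (Set.range (algebraMap k₂ K₂))) :
    integralClosure (P.O.toSubring.map (algebraMap K K₂)) K₂ ≤
      Algebra.adjoin (P.O.toSubring.map (algebraMap K K₂)) (Set.range (algebraMap k₂ K₂)) := by
  intro z hz
  have hzint : IsIntegral (P.O.toSubring.map (algebraMap K K₂)) z := hz
  have hNS₁ : NS b₁ P := NS_of_integralClosure_eq_adjoin hK c₁ b₁ hb₁ P h₁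
  have hzj : ∀ j, ∀ Q : Place k K₁, IsOver Q P → Q.1 (b₂.repr z j) ≤ 1 := by
    intro j Q hQ
    have hNS₂ : NS b₂ (Place.up (k₁ := k₁) Q) :=
      NS_of_integralClosure_eq_adjoin hK₁ c₂ b₂ hb₂ (Place.up (k₁ := k₁) Q) (h₂ Q hQ)
    refine hNS₂ z ?_ j
    rintro R ⟨e, he⟩
    have hRQ : IsOverWith (Place.down (k := k) R) Q e := fun x => he x
    obtain ⟨e', he'⟩ := hQ
    exact le_one_of_isIntegral_map P hzint (Place.down (k := k) R)
      ⟨_, isOverWith_trans hRQ he'⟩
  have hzij : ∀ j i, P.1 (b₁.repr (b₂.repr z j) i) ≤ 1 := fun j i => hNS₁ _ (hzj j) i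
  rw [← b₂.sum_repr z]
  refine Subalgebra.sum_mem _ fun j _ => ?_
  rw [← b₁.sum_repr (b₂.repr z j), Finset.sum_smul]
  refine Subalgebra.sum_mem _ fun i _ => ?_
  have e : (b₁.repr (b₂.repr z j) i • b₁ i) • b₂ j =
      (⟨algebraMap K K₂ (b₁.repr (b₂.repr z j) i), b₁.repr (b₂.repr z j) i, hzij j i, rfl⟩ :
        P.O.toSubring.map (algebraMap K K₂)) • algebraMap k₂ K₂ (algebraMap k₁ k₂ (c₁ i) * c₂ j) := by
    rw [hb₁, hb₂, Algebra.smul_def, Algebra.smul_def, Algebra.smul_def, map_mul, map_mul,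
      ← IsScalarTower.algebraMap_apply K K₁ K₂, ← IsScalarTower.algebraMap_apply k₁ K₁ K₂,
      ← IsScalarTower.algebraMap_apply k₁ k₂ K₂, mul_assoc]
    rfl
  rw [e]
  exact Subalgebra.smul_mem _ (Algebra.subset_adjoin (Set.mem_range_self _)) _

/-- The `K₁`-linear retraction of `K₂` onto `K₁` induced by a `k₁`-linear retraction of `k₂` onto
`k₁`. -/
noncomputable def retr (c₂ : Module.Basis (Fin n₂) k₁ k₂) (b₂ : Module.Basis (Fin n₂) K₁ K₂)
    (ρ : k₂ →ₗ[k₁] k₁) : K₂ →ₗ[K₁] K₁ :=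
  b₂.constr K₁ (fun j => algebraMap k₁ K₁ (ρ (c₂ j)))

theorem retr_algebraMap (c₂ : Module.Basis (Fin n₂) k₁ k₂) (b₂ : Module.Basis (Fin n₂) K₁ K₂)
    (hb₂ : ∀ j, b₂ j = algebraMap k₂ K₂ (c₂ j)) (ρ : k₂ →ₗ[k₁] k₁) (a : k₂) :
    retr c₂ b₂ ρ (algebraMap k₂ K₂ a) = algebraMap k₁ K₁ (ρ a) := by
  unfold retr
  rw [Module.Basis.constr_apply_fintype]
  simp only [Module.Basis.equivFun_apply, repr_algebraMap_const c₂ b₂ hb₂, smul_eq_mul]
  rw [← map_mul_sum_helper c₂ ρ a]
  simp only [map_sum, map_mul]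
where
  map_mul_sum_helper (c₂ : Module.Basis (Fin n₂) k₁ k₂) (ρ : k₂ →ₗ[k₁] k₁) (a : k₂) :
      ∑ j, c₂.repr a j * ρ (c₂ j) = ρ a := by
    conv_rhs => rw [← c₂.sum_repr a]
    rw [map_sum]
    refine Finset.sum_congr rfl fun j _ => ?_
    rw [map_smul, smul_eq_mul]

theorem retr_algebraMap_base (c₂ : Module.Basis (Fin n₂) k₁ k₂) (b₂ : Module.Basis (Fin n₂) K₁ K₂)
    (hb₂ : ∀ j, b₂ j = algebraMap k₂ K₂ (c₂ j)) (ρ : k₂ →ₗ[k₁] k₁)
    (hρ : ∀ a : k₁, ρ (algebraMap k₁ k₂ a) = a) (y : K₁) :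
    retr c₂ b₂ ρ (algebraMap K₁ K₂ y) = y := by
  have h1 : algebraMap K₁ K₂ y = y • algebraMap k₂ K₂ 1 := by
    rw [map_one, Algebra.smul_def, mul_one]
  rw [h1, map_smul, retr_algebraMap c₂ b₂ hb₂, ← map_one (algebraMap k₁ k₂), hρ, map_one,
    smul_eq_mul, mul_one]

/-- The retraction maps `O_P[k₂]` into `O_P[k₁]`. -/
theorem retr_mem_adjoin (c₂ : Module.Basis (Fin n₂) k₁ k₂) (b₂ : Module.Basis (Fin n₂) K₁ K₂)
    (hb₂ : ∀ j, b₂ j = algebraMap k₂ K₂ (c₂ j)) (ρ : k₂ →ₗ[k₁] k₁) (P : Place k K) {w : K₂}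
    (hw : w ∈ Algebra.adjoin (P.O.toSubring.map (algebraMap K K₂))
      (Set.range (algebraMap k₂ K₂))) :
    retr c₂ b₂ ρ w ∈ Algebra.adjoin (P.O.toSubring.map (algebraMap K K₁))
      (Set.range (algebraMap k₁ K₁)) := by
  have hw' : w ∈ Subalgebra.toSubmodule (Algebra.adjoin (P.O.toSubring.map (algebraMap K K₂))
      (Set.range (algebraMap k₂ K₂))) := hw
  rw [Algebra.adjoin_eq_span] at hw'
  have hcl : (Submonoid.closure (Set.range (algebraMap k₂ K₂)) : Set K₂) =
      Set.range (algebraMap k₂ K₂) := by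
    have : Set.range (algebraMap k₂ K₂) =
        (MonoidHom.mrange ((algebraMap k₂ K₂ : k₂ →+* K₂) : k₂ →* K₂) : Set K₂) :=
      (MonoidHom.coe_mrange _).symm
    rw [this, Submonoid.closure_eq]
  rw [hcl] at hw'
  clear hw
  induction hw' using Submodule.span_induction with
  | mem x hx =>
    obtain ⟨a, rfl⟩ := hx
    rw [retr_algebraMap c₂ b₂ hb₂]
    exact Algebra.subset_adjoin (Set.mem_range_self _)
  | zero =>
    rw [map_zero]
    exact zero_mem _
  | add x y _ _ hx hy =>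
    rw [map_add]
    exact add_mem hx hy
  | smul r x _ hx =>
    obtain ⟨_, y, hy, rfl⟩ := r
    have e : (⟨algebraMap K K₂ y, y, hy, rfl⟩ : P.O.toSubring.map (algebraMap K K₂)) • x =
        (algebraMap K K₁ y) • x := by
      rw [Algebra.smul_def, Algebra.smul_def, ← IsScalarTower.algebraMap_apply K K₁ K₂]
      rfl
    rw [e, map_smul, smul_eq_mul]
    refine mul_mem ?_ hx
    exact Subalgebra.algebraMap_mem _
      (⟨algebraMap K K₁ y, y, hy, rfl⟩ : P.O.toSubring.map (algebraMap K K₁))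

/-- Nonsingularity with respect to `k₂` implies nonsingularity with respect to `k₁`. -/
theorem integralClosure_le_adjoin_bot [FiniteDimensional K K₁] [FiniteDimensional K₁ K₂]
    [FiniteDimensional K K₂]
    (hK : IsFunctionField k K) (hK₁ : IsFunctionField k₁ K₁)
    (c₂ : Module.Basis (Fin n₂) k₁ k₂) (b₂ : Module.Basis (Fin n₂) K₁ K₂)
    (hb₂ : ∀ j, b₂ j = algebraMap k₂ K₂ (c₂ j)) (P : Place k K)
    (h : integralClosure (P.O.toSubring.map (algebraMap K K₂)) K₂ =
      Algebra.adjoin (P.O.toSubring.map (algebraMap K K₂)) (Set.range (algebraMap k₂ K₂))) :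
    integralClosure (P.O.toSubring.map (algebraMap K K₁)) K₁ ≤
      Algebra.adjoin (P.O.toSubring.map (algebraMap K K₁)) (Set.range (algebraMap k₁ K₁)) := by
  intro z hz
  have hzint : IsIntegral (P.O.toSubring.map (algebraMap K K₁)) z := hz
  obtain ⟨ρ, hρ⟩ := LinearMap.exists_leftInverse_of_injective (Algebra.linearMap k₁ k₂)
    (LinearMap.ker_eq_bot.mpr (algebraMap k₁ k₂).injective)
  have hρ' : ∀ a : k₁, ρ (algebraMap k₁ k₂ a) = a := fun a => LinearMap.congr_fun hρ a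
  have hint : IsIntegral (P.O.toSubring.map (algebraMap K K₂)) (algebraMap K₁ K₂ z) := by
    apply isIntegral_map_of_le_one hK P
    intro R hR
    obtain ⟨Q, ⟨e, he⟩, hQP⟩ := exists_mid_place hK hK₁ hR
    rw [he]
    exact pow_le_one' (le_one_of_isIntegral_map P hzint Q hQP) e
  have hmem : algebraMap K₁ K₂ z ∈ integralClosure (P.O.toSubring.map (algebraMap K K₂)) K₂ := hint
  rw [h] at hmem
  have := retr_mem_adjoin c₂ b₂ hb₂ ρ P hmem
  rwa [retr_algebraMap_base c₂ b₂ hb₂ ρ hρ'] at this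

/-- `O_P[k₂] ⊆ O_Q[k₂]` for `Q` over `P`. -/
theorem adjoin_le_adjoin_of_isOver {Q : Place k K₁} {P : Place k K} (hQ : IsOver Q P) {w : K₂}
    (hw : w ∈ Algebra.adjoin (P.O.toSubring.map (algebraMap K K₂))
      (Set.range (algebraMap k₂ K₂))) :
    w ∈ Algebra.adjoin (Q.O.toSubring.map (algebraMap K₁ K₂))
      (Set.range (algebraMap k₂ K₂)) := by
  obtain ⟨e, he⟩ := hQ
  induction hw using Algebra.adjoin_induction with
  | mem x hx => exact Algebra.subset_adjoin hx
  | algebraMap r =>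
    obtain ⟨_, y, hy, rfl⟩ := r
    have hy' : algebraMap K K₁ y ∈ Q.O := by
      show Q.1 _ ≤ 1
      rw [he]
      exact pow_le_one' hy e
    have e1 : algebraMap (P.O.toSubring.map (algebraMap K K₂)) K₂
        ⟨algebraMap K K₂ y, y, hy, rfl⟩ =
        algebraMap (Q.O.toSubring.map (algebraMap K₁ K₂)) K₂
          ⟨algebraMap K₁ K₂ (algebraMap K K₁ y), _, hy', rfl⟩ := by
      show algebraMap K K₂ y = algebraMap K₁ K₂ (algebraMap K K₁ y)
      exact IsScalarTower.algebraMap_apply K K₁ K₂ y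
    rw [e1]
    exact Subalgebra.algebraMap_mem _ _
  | add x y _ _ hx hy => exact add_mem hx hy
  | mul x y _ _ hx hy => exact mul_mem hx hy

/-- Nonsingularity of `P` with respect to `k₂` implies nonsingularity, with respect to `k₂`, of
all places of `K₁` over `P`. -/
theorem integralClosure_eq_adjoin_top [FiniteDimensional K K₁] [FiniteDimensional K₁ K₂]
    [FiniteDimensional K K₂]
    (hK : IsFunctionField k K) (hK₁ : IsFunctionField k₁ K₁)
    (c₂ : Module.Basis (Fin n₂) k₁ k₂) (b₂ : Module.Basis (Fin n₂) K₁ K₂)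
    (hb₂ : ∀ j, b₂ j = algebraMap k₂ K₂ (c₂ j)) (P : Place k K)
    (h : integralClosure (P.O.toSubring.map (algebraMap K K₂)) K₂ =
      Algebra.adjoin (P.O.toSubring.map (algebraMap K K₂)) (Set.range (algebraMap k₂ K₂)))
    (Q : Place k K₁) (hQ : IsOver Q P) :
    integralClosure (Q.O.toSubring.map (algebraMap K₁ K₂)) K₂ =
      Algebra.adjoin (Q.O.toSubring.map (algebraMap K₁ K₂)) (Set.range (algebraMap k₂ K₂)) := by
  classical
  refine integralClosure_eq_adjoin_of_NS c₂ b₂ hb₂ (Place.up (k₁ := k₁) Q) ?_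
  intro z hz j
  have hfinS := finite_places_over' (E := K₂) hK P
  have hfinT := finite_places_over' (E := K₁) hK P
  have hS : ∀ R, R ∈ hfinS.toFinset ↔ IsOver R P := fun R => Set.Finite.mem_toFinset hfinS
  have hT : ∀ Q', Q' ∈ hfinT.toFinset ↔ IsOver Q' P := fun Q' => Set.Finite.mem_toFinset hfinT
  obtain ⟨M, hMdef⟩ : ∃ M : ℕ, M = ∑ R ∈ hfinS.toFinset, (R.ord z).natAbs := ⟨_, rfl⟩
  have hM : ∀ R ∈ hfinS.toFinset, R.1 z ≤ WithZero.exp (M : ℤ) := by
    intro R hR
    refine (Place.val_le_exp_natAbs R z).trans ?_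
    rw [WithZero.exp_le_exp, hMdef]
    have := Finset.single_le_sum (f := fun R' : Place k K₂ => (R'.ord z).natAbs)
      (fun _ _ => Nat.zero_le _) hR
    exact_mod_cast this
  obtain ⟨u, hu⟩ := weak_approx hfinT.toFinset (fun Q' => if Q' = Q then (1 : K₁) else 0) (M + 1)
  have hQT : Q ∈ hfinT.toFinset := (hT Q).2 hQ
  have hlt : WithZero.exp (-((M + 1 : ℕ) : ℤ)) < (1 : WithZero (Multiplicative ℤ)) := by
    rw [← WithZero.exp_zero, WithZero.exp_lt_exp]
    push_cast
    omega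
  have huQ1 : Q.1 u = 1 := by
    have h1 := hu Q hQT
    rw [if_pos rfl] at h1
    have h2 : u = 1 + (u - 1) := by ring
    rw [h2]
    exact Valuation.map_one_add_of_lt _ (lt_of_le_of_lt h1 hlt)
  have huQ' : ∀ Q' ∈ hfinT.toFinset, Q' ≠ Q → Q'.1 u ≤ WithZero.exp (-((M + 1 : ℕ) : ℤ)) := by
    intro Q' hQ' hne
    have h1 := hu Q' hQ'
    rwa [if_neg hne, sub_zero] at h1
  have hwint : IsIntegral (P.O.toSubring.map (algebraMap K K₂)) (algebraMap K₁ K₂ u * z) := by
    apply isIntegral_map_of_le_one hK P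
    intro R hR
    obtain ⟨Q', ⟨e, he⟩, hQ'P⟩ := exists_mid_place hK hK₁ hR
    have hepos := isOverWith_pos he
    rw [map_mul, he]
    by_cases hQQ : Q' = Q
    · subst hQQ
      rw [huQ1, one_pow, one_mul]
      exact hz (Place.up (k₁ := k₁) R) ⟨e, fun x => he x⟩
    · have h1 : Q'.1 u ≤ WithZero.exp (-((M + 1 : ℕ) : ℤ)) := huQ' Q' ((hT Q').2 hQ'P) hQQ
      have h2 : Q'.1 u ^ e ≤ Q'.1 u := by
        have h3 : Q'.1 u ≤ 1 := h1.trans hlt.le
        calc Q'.1 u ^ e ≤ Q'.1 u ^ 1 := pow_le_pow_right_of_le_one' h3 hepos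
          _ = Q'.1 u := pow_one _
      calc Q'.1 u ^ e * R.1 z ≤ WithZero.exp (-((M + 1 : ℕ) : ℤ)) * WithZero.exp (M : ℤ) :=
            mul_le_mul' (h2.trans h1) (hM R ((hS R).2 hR))
        _ ≤ 1 := by
            rw [← WithZero.exp_add, ← WithZero.exp_zero, WithZero.exp_le_exp]
            push_cast
            omega
  have hwmem : algebraMap K₁ K₂ u * z ∈
      integralClosure (P.O.toSubring.map (algebraMap K K₂)) K₂ := hwint
  rw [h] at hwmem
  have hwmem' := adjoin_le_adjoin_of_isOver hQ hwmem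
  have hfin := repr_le_one_of_mem_adjoin c₂ b₂ hb₂ (Place.up (k₁ := k₁) Q) hwmem' j
  have hrepr : b₂.repr (algebraMap K₁ K₂ u * z) j = u * b₂.repr z j := by
    rw [← Algebra.smul_def, map_smul, Finsupp.smul_apply, smul_eq_mul]
  rw [hrepr, map_mul] at hfin
  change Q.1 u * Q.1 (b₂.repr z j) ≤ 1 at hfin
  rw [huQ1, one_mul] at hfin
  exact hfin

end Tower

end CExt

end Groth.Agent.Lib.helper10
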