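import Groth.Agent.Lib.Helper10.CExt10

/-!
Constant field extensions of function fields of one variable (helper10), part 11: finiteness of
the set of places which are singular with respect to a fixed finite constant extension.
-/

set_option autoImplicit false
set_option linter.unusedSectionVars false
set_option linter.style.haveILetI false

universe u v w w'

open IntermediateField FunFld TensorProduct Polynomial

namespace Groth.Agent.Lib.helper10

namespace CExt

open FF RD PA

section Count

variable {k k' : Type u} {K : Type v} {K' : Type w} [Field k] [Field k'] [Field K] [Field K']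
  [Algebra k k'] [Algebra k K] [Algebra K K'] [Algebra k' K'] [Algebra k K']
  [IsScalarTower k k' K'] [IsScalarTower k K K'] [FiniteDimensional k k']

variable {n : ℕ}

theorem repr_smul_const (bE : Module.Basis (Fin n) K K') (a : k) (z : K') (j : Fin n) :
    bE.repr (a • z) j = a • bE.repr z j := by
  rw [← algebraMap_smul K a z, map_smul, Finsupp.smul_apply, smul_eq_mul, ← Algebra.smul_def]

/-- Each place that is singular with respect to `k'` contributes to the genus drop. -/
theorem card_le_of_not_NS
    (h : Function.Bijective (Algebra.TensorProduct.productMap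
      (IsScalarTower.toAlgHom k k' K') (IsScalarTower.toAlgHom k K K')))
    (hK : IsFunctionField k K) (hg : IsGeometric k K)
    (c : Module.Basis (Fin n) k k') (bE : Module.Basis (Fin n) K K')
    (hbE : ∀ i, bE i = algebraMap k' K' (c i)) {r : ℕ} (P : Fin r → Place k K)
    (hP : Function.Injective P) (hsing : ∀ i, ¬ NS bE (P i)) :
    r + n * genus k' K' ≤ n * genus k K := by
  classical
  haveI : FiniteDimensional K K' := Module.Finite.of_basis bE
  have hK' : IsFunctionField k' K' := isFunctionField_model h hK hg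
  have hw : ∀ i, ∃ (w : K') (j : Fin n),
      (∀ Q : Place k K', IsOver Q (P i) → Q.1 w ≤ 1) ∧ 1 < (P i).1 (bE.repr w j) := by
    intro i
    have := hsing i
    unfold NS at this
    push Not at this
    obtain ⟨w, hw, j, hj⟩ := this
    exact ⟨w, j, hw, hj⟩
  choose w jj hwint hwpole using hw
  obtain ⟨Pinf, hPinf⟩ : ∃ Pinf : Place k K, Pinf ∉ Set.range P := by
    by_contra hall
    push Not at hall
    exact infinite_places hK ((Set.finite_range P).subset (fun Q _ => hall Q))
  have hy : ∀ (i : Fin r) (j : Fin n), ∃ y : K,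
      (∀ i', (P i').1 (y - (if i' = i then bE.repr (w i) j else 0)) ≤
        WithZero.exp (-(0 : ℤ))) ∧
      ∀ Q : Place k K, Q ≠ Pinf → Q ∉ Set.range P → Q.1 y ≤ 1 :=
    fun i j => strong_approx_le hK Pinf r P hP hPinf
      (fun i' => if i' = i then bE.repr (w i) j else 0) (fun _ => 0)
  choose y hy1 hy2 using hy
  simp only [neg_zero, WithZero.exp_zero] at hy1
  have hyi : ∀ i j, (P i).1 (y i j - bE.repr (w i) j) ≤ 1 := fun i j => by
    have := hy1 i j i
    rwa [if_pos rfl] at this
  have hyi' : ∀ i j i', i' ≠ i → (P i').1 (y i j) ≤ 1 := fun i j i' hne => by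
    have := hy1 i j i'
    rwa [if_neg hne, sub_zero] at this
  have hypole : ∀ i, 1 < (P i).1 (y i (jj i)) := by
    intro i
    by_contra hle
    rw [not_lt] at hle
    have h1 : bE.repr (w i) (jj i) = y i (jj i) - (y i (jj i) - bE.repr (w i) (jj i)) := by ring
    have h2 : (P i).1 (bE.repr (w i) (jj i)) ≤ 1 := by
      rw [h1]
      exact (Valuation.map_sub _ _ _).trans (max_le hle (hyi i (jj i)))
    exact absurd (hwpole i) (not_lt.mpr h2)
  obtain ⟨m₀, hm₀⟩ : ∃ m₀ : ℕ, ∀ i j, Pinf.1 (y i j) ≤ WithZero.exp (m₀ : ℤ) := by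
    refine ⟨∑ i, ∑ j, (Pinf.ord (y i j)).natAbs, fun i j => ?_⟩
    refine (Place.val_le_exp_natAbs Pinf (y i j)).trans ?_
    rw [WithZero.exp_le_exp]
    have h1 := Finset.single_le_sum (f := fun j' => (Pinf.ord (y i j')).natAbs)
      (fun _ _ => Nat.zero_le _) (Finset.mem_univ j)
    have h2 := Finset.single_le_sum (f := fun i' => ∑ j', (Pinf.ord (y i' j')).natAbs)
      (fun _ _ => Nat.zero_le _) (Finset.mem_univ i)
    exact_mod_cast h1.trans h2
  obtain ⟨m₁, hm₁⟩ := exists_large_divisor hK
    (max (2 * (genus k K : ℤ) - 1) (2 * (genus k' K' : ℤ) - 1)) Pinf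
  obtain ⟨D, hD⟩ : ∃ D : Divisor k K, D = Finsupp.single Pinf ((m₀ + m₁ : ℕ) : ℤ) := ⟨_, rfl⟩
  have hdeg : max (2 * (genus k K : ℤ) - 1) (2 * (genus k' K' : ℤ) - 1) ≤ D.deg := by
    rw [hD, deg_single]
    rw [deg_single] at hm₁
    push_cast
    have : (0 : ℤ) ≤ (m₀ : ℤ) * Pinf.deg := by positivity
    linarith
  have hDP : ∀ i, D (P i) = 0 := by
    intro i
    rw [hD, Finsupp.single_apply, if_neg]
    rintro rfl
    exact hPinf ⟨i, rfl⟩
  have hDinf : D Pinf = ((m₀ + m₁ : ℕ) : ℤ) := by rw [hD, Finsupp.single_eq_same]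
  have hDother : ∀ Q, Q ≠ Pinf → D Q = 0 := fun Q hQ => by
    rw [hD, Finsupp.single_apply, if_neg (Ne.symm hQ)]
  have hstar : ∀ i j (P' : Place k K), P' ≠ P i → P'.1 (y i j) ≤ WithZero.exp (D P') := by
    intro i j P' hne
    by_cases hinf : P' = Pinf
    · rw [hinf, hDinf]
      refine (hm₀ i j).trans ?_
      rw [WithZero.exp_le_exp]
      push_cast
      omega
    · rw [hDother P' hinf, WithZero.exp_zero]
      by_cases hr : P' ∈ Set.range P
      · obtain ⟨i', rfl⟩ := hr
        exact hyi' i j i' (fun h => hne (h ▸ rfl))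
      · exact hy2 i j P' hinf hr
  obtain ⟨z, hz⟩ : ∃ z : Fin r → K', z = fun i => ∑ j, y i j • bE j := ⟨_, rfl⟩
  have hrepr : ∀ i j, bE.repr (z i) j = y i j := fun i j => by
    rw [hz]
    simp only
    rw [bE.repr_sum_self]
  have hbE1 : ∀ (Q : Place k K') j, Q.1 (bE j) ≤ 1 := by
    intro Q j
    rw [hbE]
    exact Place.val_le_one_of_isAlgebraic Q
      ((Algebra.IsAlgebraic.isAlgebraic (R := k) (c j)).algebraMap)
  have hzL : ∀ i, z i ∈ (L (cn k' K' D)).restrictScalars k := by
    intro i
    rw [Submodule.restrictScalars_mem]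
    intro Q'
    obtain ⟨P', e, he⟩ := exists_place_under hK (Place.down (k := k) Q')
    rw [cn_apply hK D he]
    by_cases hPP : P' = P i
    · rw [hPP, hDP, mul_zero, WithZero.exp_zero]
      rw [hPP] at he
      have hsplit : z i = w i + ∑ j, (y i j - bE.repr (w i) j) • bE j := by
        conv_lhs => rw [hz]
        simp only [sub_smul, Finset.sum_sub_distrib, bE.sum_repr]
        ring
      show (Place.down (k := k) Q').1 (z i) ≤ 1
      rw [hsplit]
      refine (Valuation.map_add _ _ _).trans (max_le (hwint i _ ⟨e, he⟩) ?_)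
      refine Valuation.map_sum_le _ fun j _ => ?_
      rw [Algebra.smul_def, map_mul, he]
      exact mul_le_one' (pow_le_one' (hyi i j) e) (hbE1 _ j)
    · show (Place.down (k := k) Q').1 (z i) ≤ _
      rw [hz]
      refine Valuation.map_sum_le _ fun j _ => ?_
      rw [Algebra.smul_def, map_mul, he]
      have h1 := hstar i j P' hPP
      have hexp : WithZero.exp ((e : ℤ) * D P') = WithZero.exp (D P') ^ e := by
        rw [← WithZero.exp_nsmul, nsmul_eq_mul]
      rw [hexp]
      calc P'.1 (y i j) ^ e * (Place.down (k := k) Q').1 (bE j)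
          ≤ WithZero.exp (D P') ^ e * 1 := mul_le_mul' (pow_le_pow_left' h1 e) (hbE1 _ j)
        _ = WithZero.exp (D P') ^ e := mul_one _
  haveI := finite_restrictScalars_L_cn h hK hg D
  haveI := finiteDimensional_L hK D
  let Ψ : ((Fin r → k) × (Fin n → L D)) →ₗ[k] K' :=
    LinearMap.coprod (Fintype.linearCombination k z) (Phi bE D)
  have hΨrange : LinearMap.range Ψ ≤ (L (cn k' K' D)).restrictScalars k := by
    rintro _ ⟨⟨a, x⟩, rfl⟩
    rw [LinearMap.coprod_apply]
    refine Submodule.add_mem _ ?_ (range_Phi_le hK c bE hbE D ⟨x, rfl⟩)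
    rw [Fintype.linearCombination_apply]
    exact Submodule.sum_mem _ fun i _ => Submodule.smul_mem _ _ (hzL i)
  have hΨinj : Function.Injective Ψ := by
    rw [injective_iff_map_eq_zero]
    rintro ⟨a, x⟩ hax
    rw [LinearMap.coprod_apply, Fintype.linearCombination_apply] at hax
    have hcoord : ∀ j, ∑ i, a i • y i j + (x j : K) = 0 := by
      intro j
      have := congrArg (fun v => bE.repr v j) hax
      simp only [map_add, map_sum, Finsupp.add_apply, Finsupp.finsetSum_apply, map_zero,
        Finsupp.zero_apply, repr_smul_const, hrepr] at this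
      rw [repr_Phi] at this
      exact this
    have ha : a = 0 := by
      funext i₀
      by_contra hne
      have hne' : a i₀ ≠ 0 := hne
      have h1 := hcoord (jj i₀)
      have hx : (P i₀).1 (x (jj i₀) : K) ≤ 1 := by
        have := (x (jj i₀)).2 (P i₀)
        rwa [hDP, WithZero.exp_zero] at this
      have h2 : a i₀ • y i₀ (jj i₀) =
          -((x (jj i₀) : K) + ∑ i ∈ Finset.univ.erase i₀, a i • y i (jj i₀)) := by
        rw [← Finset.add_sum_erase _ _ (Finset.mem_univ i₀)] at h1
        linear_combination h1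
      have h3 : (P i₀).1 (a i₀ • y i₀ (jj i₀)) ≤ 1 := by
        rw [h2, Valuation.map_neg]
        refine (Valuation.map_add _ _ _).trans (max_le hx ?_)
        refine Valuation.map_sum_le _ fun i hi => ?_
        rw [Algebra.smul_def, map_mul]
        exact mul_le_one' ((P i₀).2.1 _) (hyi' i _ i₀ (Finset.ne_of_mem_erase hi).symm)
      rw [Algebra.smul_def, map_mul, Place.val_algebraMap_eq_one _ hne', one_mul] at h3
      exact absurd (hypole i₀) (not_lt.mpr h3)
    subst ha
    have hx0 : x = 0 := by
      apply Phi_injective bE D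
      rw [map_zero]
      simpa using hax
    rw [hx0]
    rfl
  have h1 := Submodule.finrank_mono hΨrange
  rw [LinearMap.finrank_range_of_inj hΨinj, finrank_restrictScalars_L_cn, Module.finrank_prod,
    Module.finrank_fin_fun, Module.finrank_pi_fintype, Module.finrank_eq_card_basis c,
    Fintype.card_fin] at h1
  have h2 : (∑ _i : Fin n, Module.finrank k (L D)) = n * ell D := by
    unfold ell
    rw [Finset.sum_const, Finset.card_univ, Fintype.card_fin, smul_eq_mul]
  rw [h2] at h1
  have e1 := ell_of_deg_ge hK (le_trans (le_max_left _ _) hdeg)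
  have e2 := ell_of_deg_ge hK' (D := cn k' K' D)
    (by rw [deg_cn h hK]; exact le_trans (le_max_right _ _) hdeg)
  rw [deg_cn h hK] at e2
  have h1' : (r : ℤ) + n * ell D ≤ n * ell (cn k' K' D) := by exact_mod_cast h1
  rw [e1, e2] at h1'
  have : (r : ℤ) + n * genus k' K' ≤ n * genus k K := by linarith
  exact_mod_cast this

/-- Only finitely many places are singular with respect to a fixed finite constant extension. -/
theorem finite_not_NS
    (h : Function.Bijective (Algebra.TensorProduct.productMap
      (IsScalarTower.toAlgHom k k' K') (IsScalarTower.toAlgHom k K K')))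
    (hK : IsFunctionField k K) (hg : IsGeometric k K)
    (c : Module.Basis (Fin n) k k') (bE : Module.Basis (Fin n) K K')
    (hbE : ∀ i, bE i = algebraMap k' K' (c i)) :
    {P : Place k K | ¬ NS bE P}.Finite := by
  by_contra hinf
  have hinf' : {P : Place k K | ¬ NS bE P}.Infinite := hinf
  let f := hinf'.natEmbedding
  let r := n * genus k K + 1
  have := card_le_of_not_NS h hK hg c bE hbE (r := r) (fun i : Fin r => (f i.1).1)
    (fun i j hij => Fin.ext (f.injective (Subtype.ext hij))) (fun i => (f i.1).2)
  omega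

end Count

end CExt

end Groth.Agent.Lib.helper10
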