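import Groth.Agent.Lib.Helper10.CExt11

/-!
Constant field extensions of function fields of one variable (helper10), part 12: comparison of
nonsingularity along maps of constant fields, composita, and the tensor product form.
-/

set_option autoImplicit false
set_option linter.unusedSectionVars false
set_option linter.style.haveILetI false

universe u v w w'

open IntermediateField FunFld TensorProduct Polynomial

namespace Groth.Agent.Lib.helper10

namespace CExt

open FF RD PA

section Compare

variable {k k₁ k₂ : Type u} {K : Type v} {K₁ : Type w} {K₂ : Type w'}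
  [Field k] [Field k₁] [Field k₂] [Field K] [Field K₁] [Field K₂]
  [Algebra k k₁] [Algebra k k₂] [Algebra k K]
  [Algebra K K₁] [Algebra k₁ K₁] [Algebra k K₁] [IsScalarTower k k₁ K₁] [IsScalarTower k K K₁]
  [Algebra K K₂] [Algebra k₂ K₂] [Algebra k K₂] [IsScalarTower k k₂ K₂] [IsScalarTower k K K₂]

/-- Nonsingularity descends along a map of constant fields. -/
theorem IC_descend [FiniteDimensional k k₁] [FiniteDimensional k k₂]
    (h₁ : Function.Bijective (Algebra.TensorProduct.productMap
      (IsScalarTower.toAlgHom k k₁ K₁) (IsScalarTower.toAlgHom k K K₁)))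
    (h₂ : Function.Bijective (Algebra.TensorProduct.productMap
      (IsScalarTower.toAlgHom k k₂ K₂) (IsScalarTower.toAlgHom k K K₂)))
    (hK : IsFunctionField k K) (hg : IsGeometric k K) (φ : k₁ →ₐ[k] k₂) (P : Place k K)
    (hIC : integralClosure (P.O.toSubring.map (algebraMap K K₂)) K₂ =
      Algebra.adjoin (P.O.toSubring.map (algebraMap K K₂)) (Set.range (algebraMap k₂ K₂))) :
    integralClosure (P.O.toSubring.map (algebraMap K K₁)) K₁ =
      Algebra.adjoin (P.O.toSubring.map (algebraMap K K₁)) (Set.range (algebraMap k₁ K₁)) := by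
  classical
  obtain ⟨ψ, hψ₁, hψ₂⟩ := exists_modelMap (K₂ := K₂) h₁ φ
  letI : Algebra k₁ k₂ := φ.toRingHom.toAlgebra
  haveI : IsScalarTower k k₁ k₂ := IsScalarTower.of_algebraMap_eq (fun c => (φ.commutes c).symm)
  letI : Algebra K₁ K₂ := ψ.toRingHom.toAlgebra
  letI : Algebra k₁ K₂ := ((algebraMap k₂ K₂).comp (algebraMap k₁ k₂)).toAlgebra
  haveI : IsScalarTower K K₁ K₂ := IsScalarTower.of_algebraMap_eq (fun x => (hψ₂ x).symm)
  haveI : IsScalarTower k₁ K₁ K₂ := IsScalarTower.of_algebraMap_eq (fun c => (hψ₁ c).symm)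
  haveI : IsScalarTower k₁ k₂ K₂ := IsScalarTower.of_algebraMap_eq (fun _ => rfl)
  haveI : FiniteDimensional k₁ k₂ := Module.Finite.of_restrictScalars_finite k k₁ k₂
  haveI : IsScalarTower k k₁ K₂ := IsScalarTower.of_algebraMap_eq (fun a => by
    show algebraMap k K₂ a = algebraMap k₂ K₂ (algebraMap k₁ k₂ (algebraMap k k₁ a))
    rw [← IsScalarTower.algebraMap_apply k k₁ k₂, ← IsScalarTower.algebraMap_apply k k₂ K₂])
  haveI : IsScalarTower k K₁ K₂ := IsScalarTower.of_algebraMap_eq (fun a => by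
    rw [IsScalarTower.algebraMap_apply k K K₁, ← IsScalarTower.algebraMap_apply K K₁ K₂,
      ← IsScalarTower.algebraMap_apply k K K₂])
  have h₁₂ := model_tower h₁ h₂ hg
  have hK₁ : IsFunctionField k₁ K₁ := isFunctionField_model h₁ hK hg
  obtain ⟨fd1, -⟩ := finrank_model h₁
  obtain ⟨fd2, -⟩ := finrank_model h₂
  obtain ⟨fd12, -⟩ := finrank_model h₁₂
  haveI := fd1
  haveI := fd2
  haveI := fd12
  obtain ⟨n₂, hn₂⟩ : ∃ n, Module.finrank k₁ k₂ = n := ⟨_, rfl⟩
  let c₂ : Module.Basis (Fin n₂) k₁ k₂ := Module.finBasisOfFinrankEq k₁ k₂ hn₂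
  obtain ⟨b₂, hb₂⟩ := FF.exists_const_basis h₁₂ c₂
  haveI : Algebra.IsIntegral k k₁ := Algebra.IsIntegral.of_finite k k₁
  have hA := integralClosure_le_adjoin_bot hK hK₁ c₂ b₂ hb₂ P hIC
  have hB := adjoin_le_integralClosure (E := K₁) (k' := k₁) P
  exact le_antisymm hA hB

/-- Over a constant field of minimal genus, nonsingularity ascends along every further finite
constant extension. -/
theorem IC_ascend [FiniteDimensional k k₁] [FiniteDimensional k k₂]
    (h₁ : Function.Bijective (Algebra.TensorProduct.productMap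
      (IsScalarTower.toAlgHom k k₁ K₁) (IsScalarTower.toAlgHom k K K₁)))
    (h₂ : Function.Bijective (Algebra.TensorProduct.productMap
      (IsScalarTower.toAlgHom k k₂ K₂) (IsScalarTower.toAlgHom k K K₂)))
    (hK : IsFunctionField k K) (hg : IsGeometric k K) (hmin : IsMinGenus k K k₁ K₁)
    (φ : k₁ →ₐ[k] k₂) (P : Place k K)
    (hIC : integralClosure (P.O.toSubring.map (algebraMap K K₁)) K₁ =
      Algebra.adjoin (P.O.toSubring.map (algebraMap K K₁)) (Set.range (algebraMap k₁ K₁))) :
    integralClosure (P.O.toSubring.map (algebraMap K K₂)) K₂ =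
      Algebra.adjoin (P.O.toSubring.map (algebraMap K K₂)) (Set.range (algebraMap k₂ K₂)) := by
  classical
  obtain ⟨ψ, hψ₁, hψ₂⟩ := exists_modelMap (K₂ := K₂) h₁ φ
  letI : Algebra k₁ k₂ := φ.toRingHom.toAlgebra
  haveI : IsScalarTower k k₁ k₂ := IsScalarTower.of_algebraMap_eq (fun c => (φ.commutes c).symm)
  letI : Algebra K₁ K₂ := ψ.toRingHom.toAlgebra
  letI : Algebra k₁ K₂ := ((algebraMap k₂ K₂).comp (algebraMap k₁ k₂)).toAlgebra
  haveI : IsScalarTower K K₁ K₂ := IsScalarTower.of_algebraMap_eq (fun x => (hψ₂ x).symm)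
  haveI : IsScalarTower k₁ K₁ K₂ := IsScalarTower.of_algebraMap_eq (fun c => (hψ₁ c).symm)
  haveI : IsScalarTower k₁ k₂ K₂ := IsScalarTower.of_algebraMap_eq (fun _ => rfl)
  haveI : FiniteDimensional k₁ k₂ := Module.Finite.of_restrictScalars_finite k k₁ k₂
  haveI : IsScalarTower k k₁ K₂ := IsScalarTower.of_algebraMap_eq (fun a => by
    show algebraMap k K₂ a = algebraMap k₂ K₂ (algebraMap k₁ k₂ (algebraMap k k₁ a))
    rw [← IsScalarTower.algebraMap_apply k k₁ k₂, ← IsScalarTower.algebraMap_apply k k₂ K₂])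
  haveI : IsScalarTower k K₁ K₂ := IsScalarTower.of_algebraMap_eq (fun a => by
    rw [IsScalarTower.algebraMap_apply k K K₁, ← IsScalarTower.algebraMap_apply K K₁ K₂,
      ← IsScalarTower.algebraMap_apply k K K₂])
  have h₁₂ := model_tower h₁ h₂ hg
  have hK₁ : IsFunctionField k₁ K₁ := isFunctionField_model h₁ hK hg
  obtain ⟨fd1, -⟩ := finrank_model h₁
  obtain ⟨fd2, -⟩ := finrank_model h₂
  obtain ⟨fd12, -⟩ := finrank_model h₁₂
  haveI := fd1
  haveI := fd2
  haveI := fd12
  obtain ⟨n₁, hn₁⟩ : ∃ n, Module.finrank k k₁ = n := ⟨_, rfl⟩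
  obtain ⟨n₂, hn₂⟩ : ∃ n, Module.finrank k₁ k₂ = n := ⟨_, rfl⟩
  let c₁ : Module.Basis (Fin n₁) k k₁ := Module.finBasisOfFinrankEq k k₁ hn₁
  let c₂ : Module.Basis (Fin n₂) k₁ k₂ := Module.finBasisOfFinrankEq k₁ k₂ hn₂
  obtain ⟨b₁, hb₁⟩ := FF.exists_const_basis h₁ c₁
  obtain ⟨b₂, hb₂⟩ := FF.exists_const_basis h₁₂ c₂
  haveI : Algebra.IsIntegral k k₂ := Algebra.IsIntegral.of_finite k k₂
  have hQ : ∀ Q : Place k K₁, IsOver Q P →
      integralClosure (Q.O.toSubring.map (algebraMap K₁ K₂)) K₂ =
        Algebra.adjoin (Q.O.toSubring.map (algebraMap K₁ K₂))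
          (Set.range (algebraMap k₂ K₂)) := by
    intro Q _
    exact integralClosure_eq_adjoin_of_NS c₂ b₂ hb₂ (Place.up (k₁ := k₁) Q)
      (NS_of_isMinGenus h₁ h₂ hK hg hmin c₂ b₂ hb₂ (Place.up (k₁ := k₁) Q))
  have hA := integralClosure_le_adjoin_tower hK hK₁ c₁ b₁ hb₁ c₂ b₂ hb₂ P hIC hQ
  have hB := adjoin_le_integralClosure (E := K₂) (k' := k₂) P
  exact le_antisymm hA hB

end Compare

section Compositum

/-- A common finite extension of two finite extensions. -/
theorem exists_compositum (k : Type u) (k₁ k₂ : Type u) [Field k] [Field k₁] [Field k₂]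
    [Algebra k k₁] [Algebra k k₂] [FiniteDimensional k k₁] [FiniteDimensional k k₂] :
    ∃ (k₃ : Type u) (_ : Field k₃) (_ : Algebra k k₃) (_ : FiniteDimensional k k₃),
      Nonempty (k₁ →ₐ[k] k₃) ∧ Nonempty (k₂ →ₐ[k] k₃) := by
  haveI : Algebra.IsAlgebraic k k₁ := Algebra.IsAlgebraic.of_finite k k₁
  haveI : Algebra.IsAlgebraic k k₂ := Algebra.IsAlgebraic.of_finite k k₂
  let φ₁ : k₁ →ₐ[k] AlgebraicClosure k := IsAlgClosed.lift
  let φ₂ : k₂ →ₐ[k] AlgebraicClosure k := IsAlgClosed.lift
  haveI : FiniteDimensional k φ₁.fieldRange :=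
    LinearMap.finiteDimensional_range φ₁.toLinearMap
  haveI : FiniteDimensional k φ₂.fieldRange :=
    LinearMap.finiteDimensional_range φ₂.toLinearMap
  refine ⟨(φ₁.fieldRange ⊔ φ₂.fieldRange : IntermediateField k (AlgebraicClosure k)),
    inferInstance, inferInstance, inferInstance, ⟨?_⟩, ⟨?_⟩⟩
  · exact (IntermediateField.inclusion le_sup_left).comp φ₁.rangeRestrict
  · exact (IntermediateField.inclusion le_sup_right).comp φ₂.rangeRestrict

end Compositum

section Tensor

variable {k k' : Type u} {K : Type v} {K' : Type w} [Field k] [Field k'] [Field K] [Field K']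
  [Algebra k k'] [Algebra k K] [Algebra K K'] [Algebra k' K'] [Algebra k K']
  [IsScalarTower k k' K'] [IsScalarTower k K K'] [FiniteDimensional k k']

/-- Nonsingularity in a model implies nonsingularity in the tensor product form. -/
theorem tensor_eq_of_model
    (h : Function.Bijective (Algebra.TensorProduct.productMap
      (IsScalarTower.toAlgHom k k' K') (IsScalarTower.toAlgHom k K K')))
    (P : Place k K)
    (hIC : integralClosure (P.O.toSubring.map (algebraMap K K')) K' =
      Algebra.adjoin (P.O.toSubring.map (algebraMap K K')) (Set.range (algebraMap k' K'))) :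
    integralClosure (P.O.toSubring.map
        (Algebra.TensorProduct.includeRight : K →ₐ[k] k' ⊗[k] K).toRingHom) (k' ⊗[k] K) =
      Algebra.adjoin (P.O.toSubring.map
        (Algebra.TensorProduct.includeRight : K →ₐ[k] k' ⊗[k] K).toRingHom)
        (Set.range (Algebra.TensorProduct.includeLeftRingHom : k' →+* k' ⊗[k] K)) := by
  let e : (k' ⊗[k] K) ≃ₐ[k] K' := AlgEquiv.ofBijective _ h
  have he1 : ∀ a : k', e (a ⊗ₜ[k] (1 : K)) = algebraMap k' K' a := by
    intro a
    show Algebra.TensorProduct.productMap (IsScalarTower.toAlgHom k k' K')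
      (IsScalarTower.toAlgHom k K K') (a ⊗ₜ[k] (1 : K)) = _
    rw [Algebra.TensorProduct.productMap_apply_tmul, map_one, mul_one]
    rfl
  have he2 : ∀ x : K, e ((1 : k') ⊗ₜ[k] x) = algebraMap K K' x := by
    intro x
    show Algebra.TensorProduct.productMap (IsScalarTower.toAlgHom k k' K')
      (IsScalarTower.toAlgHom k K K') ((1 : k') ⊗ₜ[k] x) = _
    rw [Algebra.TensorProduct.productMap_apply_tmul, map_one, one_mul]
    rfl
  apply le_antisymm
  · intro w hw
    have hwint : IsIntegral (P.O.toSubring.map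
        (Algebra.TensorProduct.includeRight : K →ₐ[k] k' ⊗[k] K).toRingHom) w := hw
    let φ : (P.O.toSubring.map
        (Algebra.TensorProduct.includeRight : K →ₐ[k] k' ⊗[k] K).toRingHom) →+*
        (P.O.toSubring.map (algebraMap K K')) :=
      (e.toAlgHom.toRingHom.comp (Subring.subtype _)).codRestrict _ (fun r => by
        obtain ⟨_, x, hx, rfl⟩ := r
        exact ⟨x, hx, (he2 x).symm⟩)
    have hint : IsIntegral (P.O.toSubring.map (algebraMap K K')) (e w) := by
      have := hwint.map_of_comp_eq φ e.toAlgHom.toRingHom (by ext r; rfl)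
      exact this
    have hmem : e w ∈ integralClosure (P.O.toSubring.map (algebraMap K K')) K' := hint
    rw [hIC] at hmem
    have key : ∀ y : K', y ∈ Algebra.adjoin (P.O.toSubring.map (algebraMap K K'))
        (Set.range (algebraMap k' K')) →
        e.symm y ∈ Algebra.adjoin (P.O.toSubring.map
          (Algebra.TensorProduct.includeRight : K →ₐ[k] k' ⊗[k] K).toRingHom)
          (Set.range (Algebra.TensorProduct.includeLeftRingHom : k' →+* k' ⊗[k] K)) := by
      intro y hy
      induction hy using Algebra.adjoin_induction with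
      | mem y hy =>
        obtain ⟨a, rfl⟩ := hy
        rw [← he1, AlgEquiv.symm_apply_apply]
        exact Algebra.subset_adjoin ⟨a, rfl⟩
      | algebraMap r =>
        obtain ⟨_, x, hx, rfl⟩ := r
        have : e.symm (algebraMap (P.O.toSubring.map (algebraMap K K')) K'
            ⟨algebraMap K K' x, x, hx, rfl⟩) = (1 : k') ⊗ₜ[k] x := by
          rw [AlgEquiv.symm_apply_eq, he2]
          rfl
        rw [this]
        exact Subalgebra.algebraMap_mem _ (⟨(1 : k') ⊗ₜ[k] x, x, hx, rfl⟩ :
          P.O.toSubring.map (Algebra.TensorProduct.includeRight : K →ₐ[k] k' ⊗[k] K).toRingHom)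
      | add x y _ _ hx hy =>
        rw [map_add]
        exact add_mem hx hy
      | mul x y _ _ hx hy =>
        rw [map_mul]
        exact mul_mem hx hy
    have := key _ hmem
    rwa [AlgEquiv.symm_apply_apply] at this
  · apply Algebra.adjoin_le
    rintro _ ⟨a, rfl⟩
    have h1 : IsIntegral k (Algebra.TensorProduct.includeLeftRingHom a : k' ⊗[k] K) := by
      have : IsIntegral k a := Algebra.IsIntegral.isIntegral (R := k) a
      exact this.map (Algebra.TensorProduct.includeLeft : k' →ₐ[k] k' ⊗[k] K)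
    obtain ⟨p, hpm, hp⟩ := h1
    let j : k →+* (P.O.toSubring.map
        (Algebra.TensorProduct.includeRight : K →ₐ[k] k' ⊗[k] K).toRingHom) :=
      (algebraMap k (k' ⊗[k] K)).codRestrict _ (fun a => by
        refine ⟨algebraMap k K a, P.2.1 a, ?_⟩
        show (1 : k') ⊗ₜ[k] (algebraMap k K a) = algebraMap k (k' ⊗[k] K) a
        rw [Algebra.TensorProduct.algebraMap_apply, Algebra.algebraMap_eq_smul_one (A := K),
          Algebra.algebraMap_eq_smul_one (A := k'), TensorProduct.smul_tmul])
    refine ⟨p.map j, hpm.map j, ?_⟩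
    rw [Polynomial.eval₂_map]
    exact hp

end Tensor

end CExt

end Groth.Agent.Lib.helper10
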