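import Groth.Agent.Lib.Helper10.CExt1

/-!
Constant field extensions of function fields of one variable (helper10), part 2: maps between
models and towers of models.
-/

set_option autoImplicit false
set_option linter.unusedSectionVars false
set_option linter.style.haveILetI false

universe u v w w'

open IntermediateField FunFld TensorProduct Polynomial

namespace Groth.Agent.Lib.helper10

namespace CExt

open FF RD PA

section ModelMap

variable {k k₁ k₂ : Type u} {K : Type v} {K₁ : Type w} {K₂ : Type w'}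
  [Field k] [Field k₁] [Field k₂] [Field K] [Field K₁] [Field K₂]
  [Algebra k k₁] [Algebra k k₂] [Algebra k K]
  [Algebra K K₁] [Algebra k₁ K₁] [Algebra k K₁] [IsScalarTower k k₁ K₁] [IsScalarTower k K K₁]
  [Algebra K K₂] [Algebra k₂ K₂] [Algebra k K₂] [IsScalarTower k k₂ K₂] [IsScalarTower k K K₂]

/-- A map of constant fields extends to a map of models. -/
theorem exists_modelMap
    (h₁ : Function.Bijective (Algebra.TensorProduct.productMap
      (IsScalarTower.toAlgHom k k₁ K₁) (IsScalarTower.toAlgHom k K K₁)))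
    (φ : k₁ →ₐ[k] k₂) :
    ∃ ψ : K₁ →ₐ[k] K₂, (∀ c : k₁, ψ (algebraMap k₁ K₁ c) = algebraMap k₂ K₂ (φ c)) ∧
      ∀ x : K, ψ (algebraMap K K₁ x) = algebraMap K K₂ x := by
  let e₁ : (k₁ ⊗[k] K) ≃ₐ[k] K₁ := AlgEquiv.ofBijective _ h₁
  let ρ : (k₁ ⊗[k] K) →ₐ[k] K₂ := Algebra.TensorProduct.productMap
    ((IsScalarTower.toAlgHom k k₂ K₂).comp φ) (IsScalarTower.toAlgHom k K K₂)
  refine ⟨ρ.comp e₁.symm.toAlgHom, fun c => ?_, fun x => ?_⟩
  · have : e₁.symm (algebraMap k₁ K₁ c) = c ⊗ₜ[k] (1 : K) := by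
      rw [AlgEquiv.symm_apply_eq]
      show _ = Algebra.TensorProduct.productMap (IsScalarTower.toAlgHom k k₁ K₁)
        (IsScalarTower.toAlgHom k K K₁) (c ⊗ₜ[k] (1 : K))
      rw [Algebra.TensorProduct.productMap_apply_tmul, map_one, mul_one]
      rfl
    show ρ (e₁.symm (algebraMap k₁ K₁ c)) = _
    rw [this, Algebra.TensorProduct.productMap_apply_tmul, map_one, mul_one]
    rfl
  · have : e₁.symm (algebraMap K K₁ x) = (1 : k₁) ⊗ₜ[k] x := by
      rw [AlgEquiv.symm_apply_eq]
      show _ = Algebra.TensorProduct.productMap (IsScalarTower.toAlgHom k k₁ K₁)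
        (IsScalarTower.toAlgHom k K K₁) ((1 : k₁) ⊗ₜ[k] x)
      rw [Algebra.TensorProduct.productMap_apply_tmul, map_one, one_mul]
      rfl
    show ρ (e₁.symm (algebraMap K K₁ x)) = _
    rw [this, Algebra.TensorProduct.productMap_apply_tmul, map_one, one_mul]
    rfl

end ModelMap

section Tower

variable {k k₁ k₂ : Type u} {K : Type v} {K₁ : Type w} {K₂ : Type w'}
  [Field k] [Field k₁] [Field k₂] [Field K] [Field K₁] [Field K₂]
  [Algebra k k₁] [Algebra k k₂] [Algebra k₁ k₂] [IsScalarTower k k₁ k₂] [Algebra k K]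
  [Algebra K K₁] [Algebra k₁ K₁] [Algebra k K₁] [IsScalarTower k k₁ K₁] [IsScalarTower k K K₁]
  [Algebra K K₂] [Algebra k₂ K₂] [Algebra k K₂] [IsScalarTower k k₂ K₂] [IsScalarTower k K K₂]
  [Algebra K₁ K₂] [Algebra k₁ K₂] [IsScalarTower K K₁ K₂] [IsScalarTower k₁ K₁ K₂]
  [IsScalarTower k₁ k₂ K₂]

/-- If `K₁`, `K₂` are models over `k` of `k₁ ⊗ K`, `k₂ ⊗ K` and `K₁ → K₂` is compatible, then `K₂`
is a model of `k₂ ⊗_{k₁} K₁`. -/
theorem model_tower [FiniteDimensional k k₁] [FiniteDimensional k₁ k₂]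
    (h₁ : Function.Bijective (Algebra.TensorProduct.productMap
      (IsScalarTower.toAlgHom k k₁ K₁) (IsScalarTower.toAlgHom k K K₁)))
    (h₂ : Function.Bijective (Algebra.TensorProduct.productMap
      (IsScalarTower.toAlgHom k k₂ K₂) (IsScalarTower.toAlgHom k K K₂)))
    (hg : IsGeometric k K) :
    Function.Bijective (Algebra.TensorProduct.productMap
      (IsScalarTower.toAlgHom k₁ k₂ K₂) (IsScalarTower.toAlgHom k₁ K₁ K₂)) := by
  refine ⟨?_, ?_⟩
  · have hF : IsField (k₂ ⊗[k₁] K₁) := isField_tensor_model h₁ hg k₂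
    exact injective_of_isField hF (Algebra.TensorProduct.productMap
      (IsScalarTower.toAlgHom k₁ k₂ K₂) (IsScalarTower.toAlgHom k₁ K₁ K₂)).toRingHom
  · intro z
    obtain ⟨w, rfl⟩ := h₂.2 z
    induction w using TensorProduct.induction_on with
    | zero => exact ⟨0, by simp⟩
    | tmul a x =>
      refine ⟨a ⊗ₜ[k₁] (algebraMap K K₁ x), ?_⟩
      rw [Algebra.TensorProduct.productMap_apply_tmul, Algebra.TensorProduct.productMap_apply_tmul]
      show algebraMap k₂ K₂ a * algebraMap K₁ K₂ (algebraMap K K₁ x) =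
        algebraMap k₂ K₂ a * algebraMap K K₂ x
      rw [← IsScalarTower.algebraMap_apply K K₁ K₂]
    | add x y hx hy =>
      obtain ⟨x', hx'⟩ := hx
      obtain ⟨y', hy'⟩ := hy
      exact ⟨x' + y', by rw [map_add, map_add, hx', hy']⟩

/-- If `K₁` is a model of `k₁ ⊗_k K` and `K₂` a model of `k₂ ⊗_{k₁} K₁`, then `K₂` is a model of
`k₂ ⊗_k K`. -/
theorem model_comp [FiniteDimensional k k₁] [FiniteDimensional k₁ k₂]
    (h₁ : Function.Bijective (Algebra.TensorProduct.productMap
      (IsScalarTower.toAlgHom k k₁ K₁) (IsScalarTower.toAlgHom k K K₁)))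
    (h₁₂ : Function.Bijective (Algebra.TensorProduct.productMap
      (IsScalarTower.toAlgHom k₁ k₂ K₂) (IsScalarTower.toAlgHom k₁ K₁ K₂)))
    (hg : IsGeometric k K) :
    Function.Bijective (Algebra.TensorProduct.productMap
      (IsScalarTower.toAlgHom k k₂ K₂) (IsScalarTower.toAlgHom k K K₂)) := by
  haveI : FiniteDimensional k k₂ := Module.Finite.trans k₁ k₂
  refine ⟨?_, ?_⟩
  · have hF : IsField (k₂ ⊗[k] K) := hg k₂ inferInstance
    exact injective_of_isField hF (Algebra.TensorProduct.productMap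
      (IsScalarTower.toAlgHom k k₂ K₂) (IsScalarTower.toAlgHom k K K₂)).toRingHom
  · intro z
    obtain ⟨w, rfl⟩ := h₁₂.2 z
    induction w using TensorProduct.induction_on with
    | zero => exact ⟨0, by simp⟩
    | tmul a y =>
      obtain ⟨w', rfl⟩ := h₁.2 y
      induction w' using TensorProduct.induction_on with
      | zero => exact ⟨0, by simp⟩
      | tmul b x =>
        refine ⟨(a * algebraMap k₁ k₂ b) ⊗ₜ[k] x, ?_⟩
        rw [Algebra.TensorProduct.productMap_apply_tmul,
          Algebra.TensorProduct.productMap_apply_tmul,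
          Algebra.TensorProduct.productMap_apply_tmul]
        show algebraMap k₂ K₂ (a * algebraMap k₁ k₂ b) * algebraMap K K₂ x =
          algebraMap k₂ K₂ a * algebraMap K₁ K₂ (algebraMap k₁ K₁ b * algebraMap K K₁ x)
        rw [map_mul, map_mul, ← IsScalarTower.algebraMap_apply K K₁ K₂,
          ← IsScalarTower.algebraMap_apply k₁ K₁ K₂, ← IsScalarTower.algebraMap_apply k₁ k₂ K₂,
          mul_assoc]
      | add x y hx hy =>
        obtain ⟨x', hx'⟩ := hx
        obtain ⟨y', hy'⟩ := hy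
        refine ⟨x' + y', ?_⟩
        rw [map_add, hx', hy', map_add, TensorProduct.tmul_add, map_add]
    | add x y hx hy =>
      obtain ⟨x', hx'⟩ := hx
      obtain ⟨y', hy'⟩ := hy
      exact ⟨x' + y', by rw [map_add, map_add, hx', hy']⟩

end Tower

end CExt

end Groth.Agent.Lib.helper10
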