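import Groth.Agent.Lib.Helper10.CExt2

/-!
Constant field extensions of function fields of one variable (helper10), part 3: divisors and
Riemann–Roch spaces under change of the constant field, and the conorm to a constant extension.
-/

set_option autoImplicit false
set_option linter.unusedSectionVars false
set_option linter.style.haveILetI false

universe u u' v w

open IntermediateField FunFld TensorProduct Polynomial

namespace Groth.Agent.Lib.helper10

namespace CExt

open FF RD PA

section Up

variable {k : Type u} {k' : Type u'} {E : Type w} [Field k] [Field k'] [Field E]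
  [Algebra k k'] [Algebra k' E] [Algebra k E] [IsScalarTower k k' E] [Algebra.IsAlgebraic k k']

/-- Places over `k` and over an algebraic extension `k'` are the same. -/
def placeEquiv : Place k E ≃ Place k' E where
  toFun := Place.up
  invFun := Place.down
  left_inv := Place.down_up
  right_inv := Place.up_down

/-- Transport of a divisor to the larger constant field. -/
noncomputable def upDiv (D : Divisor k E) : Divisor k' E :=
  Finsupp.equivMapDomain placeEquiv D

theorem upDiv_apply (D : Divisor k E) (Q : Place k' E) :
    upDiv D Q = D (Place.down Q) := by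
  unfold upDiv
  rw [Finsupp.equivMapDomain_apply]
  rfl

theorem deg_upDiv (D : Divisor k E) :
    (Module.finrank k k' : ℤ) * (upDiv (k' := k') D).deg = D.deg := by
  unfold upDiv Divisor.deg
  rw [Finsupp.sum_equivMapDomain, Finsupp.mul_sum]
  refine Finsupp.sum_congr fun P _ => ?_
  have h1 : P.deg = Module.finrank k k' * (Place.up (k₁ := k') P).deg := by
    have := Place.deg_down (k := k) (Place.up (k₁ := k') P)
    rwa [Place.down_up] at this
  rw [h1]
  show (Module.finrank k k' : ℤ) * (D P * ((Place.up (k₁ := k') P).deg : ℤ)) = _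
  push_cast
  ring

theorem mem_L_upDiv (D : Divisor k E) (z : E) : z ∈ L (upDiv (k' := k') D) ↔ z ∈ L D := by
  constructor
  · intro hz Q
    have := hz (Place.up Q)
    rwa [upDiv_apply, Place.down_up] at this
  · intro hz Q
    rw [upDiv_apply]
    exact hz (Place.down Q)

theorem finrank_L_upDiv (D : Divisor k E) :
    Module.finrank k (L D) = Module.finrank k k' * ell (upDiv (k' := k') D) := by
  have h1 := Module.finrank_mul_finrank k k' (L (upDiv (k' := k') D))
  unfold ell
  rw [h1]
  let e : ↥(L D) ≃ₗ[k] ↥(L (upDiv (k' := k') D)) :=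
    { toFun := fun x => ⟨x.1, (mem_L_upDiv D x.1).2 x.2⟩
      invFun := fun x => ⟨x.1, (mem_L_upDiv D x.1).1 x.2⟩
      map_add' := fun _ _ => rfl
      map_smul' := fun _ _ => rfl
      left_inv := fun _ => rfl
      right_inv := fun _ => rfl }
  exact e.finrank_eq

end Up

section Conorm

variable {k k' : Type u} {K : Type v} {K' : Type w} [Field k] [Field k'] [Field K] [Field K']
  [Algebra k k'] [Algebra k K] [Algebra K K'] [Algebra k' K'] [Algebra k K']
  [IsScalarTower k k' K'] [IsScalarTower k K K'] [FiniteDimensional k k']

/-- The conorm of a divisor of `K/k` to the constant extension `K'/k'`. -/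
noncomputable def cn (k' : Type u) (K' : Type w) [Field k'] [Field K'] [Algebra k k']
    [Algebra K K'] [Algebra k' K'] [Algebra k K'] [IsScalarTower k k' K'] [IsScalarTower k K K']
    [FiniteDimensional k k'] (D : Divisor k K) : Divisor k' K' :=
  upDiv (conorm K' D)

theorem deg_cn
    (h : Function.Bijective (Algebra.TensorProduct.productMap
      (IsScalarTower.toAlgHom k k' K') (IsScalarTower.toAlgHom k K K')))
    (hK : IsFunctionField k K) (D : Divisor k K) : (cn k' K' D).deg = D.deg := by
  obtain ⟨hfin, hrank⟩ := finrank_model h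
  haveI := hfin
  have h1 := deg_upDiv (k' := k') (conorm K' D)
  rw [deg_conorm hK D, hrank] at h1
  have hn : (Module.finrank k k' : ℤ) ≠ 0 := by
    have : 0 < Module.finrank k k' := Module.finrank_pos
    exact_mod_cast this.ne'
  exact mul_left_cancel₀ hn h1

theorem algebraMap_mem_L_conorm [FiniteDimensional K K'] (hK : IsFunctionField k K)
    {D : Divisor k K} {x : K} (hx : x ∈ L D) : algebraMap K K' x ∈ L (conorm K' D) := by
  intro Q
  obtain ⟨P, e, he⟩ := exists_place_under hK Q
  have hexp : WithZero.exp ((e : ℤ) * D P) = WithZero.exp (D P) ^ e := by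
    rw [← WithZero.exp_nsmul, nsmul_eq_mul]
  rw [conorm_apply' hK D he, he x, hexp]
  exact pow_le_pow_left₀ zero_le (hx P) e

theorem cn_apply [FiniteDimensional K K'] (hK : IsFunctionField k K) (D : Divisor k K)
    {Q : Place k' K'} {P : Place k K} {e : ℕ} (he : IsOverWith (Place.down (k := k) Q) P e) :
    cn k' K' D Q = e * D P := by
  unfold cn
  rw [upDiv_apply, conorm_apply' hK D he]

variable {n : ℕ}

/-- The map `(xᵢ) ↦ ∑ xᵢ bᵢ` on tuples of elements of `L(D)`. -/
noncomputable def Phi (bE : Module.Basis (Fin n) K K') (D : Divisor k K) :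
    (Fin n → L D) →ₗ[k] K' where
  toFun x := ∑ i, algebraMap K K' (x i : K) * bE i
  map_add' x y := by
    rw [← Finset.sum_add_distrib]
    refine Finset.sum_congr rfl fun i _ => ?_
    rw [Pi.add_apply, Submodule.coe_add, map_add, add_mul]
  map_smul' c x := by
    rw [Finset.smul_sum]
    refine Finset.sum_congr rfl fun i _ => ?_
    rw [Pi.smul_apply, Submodule.coe_smul, RingHom.id_apply, Algebra.smul_def, map_mul,
      ← IsScalarTower.algebraMap_apply k K K', Algebra.smul_def, mul_assoc]

theorem Phi_apply (bE : Module.Basis (Fin n) K K') (D : Divisor k K) (x : Fin n → L D) :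
    Phi bE D x = ∑ i, algebraMap K K' (x i : K) * bE i := rfl

theorem repr_Phi (bE : Module.Basis (Fin n) K K') (D : Divisor k K) (x : Fin n → L D) (i : Fin n) :
    bE.repr (Phi bE D x) i = (x i : K) := by
  have : Phi bE D x = ∑ j, (x j : K) • bE j := by
    rw [Phi_apply]
    refine Finset.sum_congr rfl fun j _ => ?_
    rw [Algebra.smul_def]
  rw [this, bE.repr_sum_self]

theorem Phi_injective (bE : Module.Basis (Fin n) K K') (D : Divisor k K) :
    Function.Injective (Phi bE D) := by
  rw [injective_iff_map_eq_zero]
  intro x hx
  funext i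
  apply Subtype.ext
  have := repr_Phi bE D x i
  rw [hx, map_zero] at this
  exact this.symm

theorem finrank_range_Phi (hK : IsFunctionField k K) (bE : Module.Basis (Fin n) K K')
    (D : Divisor k K) :
    Module.finrank k (LinearMap.range (Phi bE D)) = n * ell D := by
  haveI := finiteDimensional_L hK D
  rw [LinearMap.finrank_range_of_inj (Phi_injective bE D), Module.finrank_pi_fintype]
  unfold ell
  rw [Finset.sum_const, Finset.card_univ, Fintype.card_fin, smul_eq_mul]

theorem range_Phi_le
    (hK : IsFunctionField k K) [FiniteDimensional K K']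
    (c : Module.Basis (Fin n) k k') (bE : Module.Basis (Fin n) K K')
    (hbE : ∀ i, bE i = algebraMap k' K' (c i)) (D : Divisor k K) :
    LinearMap.range (Phi bE D) ≤ (L (cn k' K' D)).restrictScalars k := by
  rintro _ ⟨x, rfl⟩
  rw [Phi_apply]
  refine Submodule.sum_mem _ fun i _ => ?_
  rw [Submodule.restrictScalars_mem, hbE, mul_comm, ← Algebra.smul_def]
  refine Submodule.smul_mem _ _ ?_
  unfold cn
  rw [mem_L_upDiv]
  exact algebraMap_mem_L_conorm hK (x i).2

theorem finrank_restrictScalars_L_cn (D : Divisor k K) :
    Module.finrank k ((L (cn k' K' D)).restrictScalars k) =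
      Module.finrank k k' * ell (cn k' K' D) := by
  have h1 := Module.finrank_mul_finrank k k' (L (cn k' K' D))
  unfold ell
  rw [h1]
  rfl

end Conorm

end CExt

end Groth.Agent.Lib.helper10
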