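import Groth.Agent.Lib.Helper10.CExt3

/-!
Constant field extensions of function fields of one variable (helper10), part 4: the genus does
not increase under a finite constant extension, and it is preserved exactly when every place is
nonsingular with respect to the extension.
-/

set_option autoImplicit false
set_option linter.unusedSectionVars false
set_option linter.style.haveILetI false

universe u u' v w

open IntermediateField FunFld TensorProduct Polynomial

namespace Groth.Agent.Lib.helper10

namespace CExt

open FF RD PA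

section Genus

variable {k k' : Type u} {K : Type v} {K' : Type w} [Field k] [Field k'] [Field K] [Field K']
  [Algebra k k'] [Algebra k K] [Algebra K K'] [Algebra k' K'] [Algebra k K']
  [IsScalarTower k k' K'] [IsScalarTower k K K'] [FiniteDimensional k k']

variable {n : ℕ}

/-- `P` is nonsingular with respect to the constant extension: the coordinates, in a constant
basis, of an element integral at all places above `P` are integral at `P`. -/
def NS (bE : Module.Basis (Fin n) K K') (P : Place k K) : Prop :=
  ∀ z : K', (∀ Q : Place k K', IsOver Q P → Q.1 z ≤ 1) → ∀ i, P.1 (bE.repr z i) ≤ 1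

theorem finite_restrictScalars_L_cn
    (h : Function.Bijective (Algebra.TensorProduct.productMap
      (IsScalarTower.toAlgHom k k' K') (IsScalarTower.toAlgHom k K K')))
    (hK : IsFunctionField k K) (hg : IsGeometric k K) (D : Divisor k K) :
    Module.Finite k ((L (cn k' K' D)).restrictScalars k) := by
  have hK' : IsFunctionField k' K' := isFunctionField_model h hK hg
  haveI : Module.Finite k' (L (cn k' K' D)) := finiteDimensional_L hK' _
  have : Module.Finite k (L (cn k' K' D)) := Module.Finite.trans k' _
  exact this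

theorem ell_le_ell_cn
    (h : Function.Bijective (Algebra.TensorProduct.productMap
      (IsScalarTower.toAlgHom k k' K') (IsScalarTower.toAlgHom k K K')))
    (hK : IsFunctionField k K) (hg : IsGeometric k K) (D : Divisor k K) :
    ell D ≤ ell (cn k' K' D) := by
  classical
  obtain ⟨n, hn⟩ : ∃ n, Module.finrank k k' = n := ⟨_, rfl⟩
  let c : Module.Basis (Fin n) k k' := Module.finBasisOfFinrankEq k k' hn
  obtain ⟨bE, hbE⟩ := FF.exists_const_basis h c
  haveI : FiniteDimensional K K' := Module.Finite.of_basis bE
  haveI := finite_restrictScalars_L_cn h hK hg D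
  have h1 := Submodule.finrank_mono (range_Phi_le hK c bE hbE D)
  rw [finrank_range_Phi hK, finrank_restrictScalars_L_cn, hn] at h1
  have hpos : 0 < n := by
    rw [← hn]
    exact Module.finrank_pos
  exact Nat.le_of_mul_le_mul_left h1 hpos

/-- A divisor of large degree. -/
theorem exists_large_divisor (hK : IsFunctionField k K) (N : ℤ) (P₀ : Place k K) :
    ∃ m : ℕ, N ≤ Divisor.deg (Finsupp.single P₀ (m : ℤ) : Divisor k K) := by
  refine ⟨N.toNat, ?_⟩
  rw [deg_single]
  have h1 : (1 : ℤ) ≤ P₀.deg := by exact_mod_cast Place.deg_pos hK P₀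
  have h2 : N ≤ (N.toNat : ℤ) := Int.self_le_toNat N
  have h3 : (0 : ℤ) ≤ (N.toNat : ℤ) := Int.natCast_nonneg _
  nlinarith

theorem genus_le
    (h : Function.Bijective (Algebra.TensorProduct.productMap
      (IsScalarTower.toAlgHom k k' K') (IsScalarTower.toAlgHom k K K')))
    (hK : IsFunctionField k K) (hg : IsGeometric k K) :
    genus k' K' ≤ genus k K := by
  have hK' : IsFunctionField k' K' := isFunctionField_model h hK hg
  obtain ⟨P₀⟩ := exists_place hK
  obtain ⟨m, hm⟩ := exists_large_divisor hK
    (max (2 * (genus k K : ℤ) - 1) (2 * (genus k' K' : ℤ) - 1)) P₀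
  have h1 := ell_of_deg_ge hK (le_trans (le_max_left _ _) hm)
  have h2 := ell_of_deg_ge hK' (D := cn k' K' (Finsupp.single P₀ (m : ℤ)))
    (by rw [deg_cn h hK]; exact le_trans (le_max_right _ _) hm)
  rw [deg_cn h hK] at h2
  have h3 : (ell (Finsupp.single P₀ (m : ℤ) : Divisor k K) : ℤ) ≤
      ell (cn k' K' (Finsupp.single P₀ (m : ℤ) : Divisor k K)) := by
    exact_mod_cast ell_le_ell_cn h hK hg _
  have : (genus k' K' : ℤ) ≤ genus k K := by linarith
  exact_mod_cast this


theorem repr_mul_algebraMap (bE : Module.Basis (Fin n) K K') (z : K') (a : K) (i : Fin n) :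
    bE.repr (z * algebraMap K K' a) i = bE.repr z i * a := by
  rw [mul_comm z, ← Algebra.smul_def, map_smul, Finsupp.smul_apply, smul_eq_mul, mul_comm]

/-- If all places are nonsingular, the coordinates of an element of `L(N*(D))` lie in `L(D)`. -/
theorem repr_mem_L_of_NS [FiniteDimensional K K'] (hK : IsFunctionField k K)
    (bE : Module.Basis (Fin n) K K')
    (hNS : ∀ P : Place k K, NS bE P) {D : Divisor k K} {z : K'} (hz : z ∈ L (cn k' K' D))
    (i : Fin n) : bE.repr z i ∈ L D := by
  intro P
  obtain ⟨t, ht⟩ := Place.exists_uniformizer P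
  have ht0 : t ≠ 0 := by
    rintro rfl
    rw [Valuation.map_zero] at ht
    exact WithZero.exp_ne_zero ht.symm
  have hz' : z ∈ L (conorm K' D) := by
    unfold cn at hz
    rwa [mem_L_upDiv] at hz
  have hval : P.1 (t ^ (D P)) = WithZero.exp (-(D P)) := by
    rw [map_zpow₀, ht, ← WithZero.exp_zsmul, smul_eq_mul, mul_neg, mul_one]
  have key := hNS P (z * algebraMap K K' (t ^ (D P))) (fun Q hQ => by
    obtain ⟨e, he⟩ := hQ
    have h1 := hz' Q
    rw [conorm_apply' hK D he] at h1
    rw [map_mul, he, hval]
    have hexp : (WithZero.exp (-(D P)) : WithZero (Multiplicative ℤ)) ^ e =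
        WithZero.exp (-((e : ℤ) * D P)) := by
      rw [← WithZero.exp_nsmul, nsmul_eq_mul, mul_neg]
    rw [hexp]
    calc Q.1 z * WithZero.exp (-((e : ℤ) * D P))
        ≤ WithZero.exp ((e : ℤ) * D P) * WithZero.exp (-((e : ℤ) * D P)) :=
          mul_le_mul_left h1 _
      _ = 1 := by rw [← WithZero.exp_add, add_neg_cancel, WithZero.exp_zero]) i
  rw [repr_mul_algebraMap, map_mul, hval] at key
  calc P.1 (bE.repr z i) = P.1 (bE.repr z i) * WithZero.exp (-(D P)) * WithZero.exp (D P) := by
        rw [mul_assoc, ← WithZero.exp_add, neg_add_cancel, WithZero.exp_zero, mul_one]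
    _ ≤ 1 * WithZero.exp (D P) := mul_le_mul_left key _
    _ = WithZero.exp (D P) := one_mul _

theorem range_Phi_eq_of_NS
    (h : Function.Bijective (Algebra.TensorProduct.productMap
      (IsScalarTower.toAlgHom k k' K') (IsScalarTower.toAlgHom k K K')))
    (hK : IsFunctionField k K) [FiniteDimensional K K']
    (c : Module.Basis (Fin n) k k') (bE : Module.Basis (Fin n) K K')
    (hbE : ∀ i, bE i = algebraMap k' K' (c i))
    (hNS : ∀ P : Place k K, NS bE P) (D : Divisor k K) :
    LinearMap.range (Phi bE D) = (L (cn k' K' D)).restrictScalars k := by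
  refine le_antisymm (range_Phi_le hK c bE hbE D) ?_
  intro z hz
  rw [Submodule.restrictScalars_mem] at hz
  refine ⟨fun i => ⟨bE.repr z i, repr_mem_L_of_NS hK bE hNS hz i⟩, ?_⟩
  rw [Phi_apply]
  conv_rhs => rw [← bE.sum_repr z]
  refine Finset.sum_congr rfl fun i _ => ?_
  rw [Algebra.smul_def]

theorem ell_cn_eq_of_NS
    (h : Function.Bijective (Algebra.TensorProduct.productMap
      (IsScalarTower.toAlgHom k k' K') (IsScalarTower.toAlgHom k K K')))
    (hK : IsFunctionField k K) [FiniteDimensional K K']
    (c : Module.Basis (Fin n) k k') (bE : Module.Basis (Fin n) K K')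
    (hbE : ∀ i, bE i = algebraMap k' K' (c i))
    (hNS : ∀ P : Place k K, NS bE P) (D : Divisor k K) :
    ell (cn k' K' D) = ell D := by
  have h1 : Module.finrank k (LinearMap.range (Phi bE D)) =
      Module.finrank k ((L (cn k' K' D)).restrictScalars k) := by
    rw [range_Phi_eq_of_NS h hK c bE hbE hNS D]
  rw [finrank_range_Phi hK, finrank_restrictScalars_L_cn, Module.finrank_eq_card_basis c,
    Fintype.card_fin] at h1
  have hpos : 0 < n := by
    have : 0 < Module.finrank k k' := Module.finrank_pos
    rwa [Module.finrank_eq_card_basis c, Fintype.card_fin] at this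
  exact (Nat.eq_of_mul_eq_mul_left hpos h1).symm

theorem genus_eq_of_NS
    (h : Function.Bijective (Algebra.TensorProduct.productMap
      (IsScalarTower.toAlgHom k k' K') (IsScalarTower.toAlgHom k K K')))
    (hK : IsFunctionField k K) (hg : IsGeometric k K) [FiniteDimensional K K']
    (c : Module.Basis (Fin n) k k') (bE : Module.Basis (Fin n) K K')
    (hbE : ∀ i, bE i = algebraMap k' K' (c i))
    (hNS : ∀ P : Place k K, NS bE P) :
    genus k' K' = genus k K := by
  have hK' : IsFunctionField k' K' := isFunctionField_model h hK hg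
  obtain ⟨P₀⟩ := exists_place hK
  obtain ⟨m, hm⟩ := exists_large_divisor hK
    (max (2 * (genus k K : ℤ) - 1) (2 * (genus k' K' : ℤ) - 1)) P₀
  have h1 := ell_of_deg_ge hK (le_trans (le_max_left _ _) hm)
  have h2 := ell_of_deg_ge hK' (D := cn k' K' (Finsupp.single P₀ (m : ℤ)))
    (by rw [deg_cn h hK]; exact le_trans (le_max_right _ _) hm)
  rw [deg_cn h hK, ell_cn_eq_of_NS h hK c bE hbE hNS] at h2
  have : (genus k' K' : ℤ) = genus k K := by linarith
  exact_mod_cast this


/-- If the genus does not drop, every place is nonsingular. -/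
theorem NS_of_genus_eq
    (h : Function.Bijective (Algebra.TensorProduct.productMap
      (IsScalarTower.toAlgHom k k' K') (IsScalarTower.toAlgHom k K K')))
    (hK : IsFunctionField k K) (hg : IsGeometric k K) [FiniteDimensional K K']
    (c : Module.Basis (Fin n) k k') (bE : Module.Basis (Fin n) K K')
    (hbE : ∀ i, bE i = algebraMap k' K' (c i))
    (heq : genus k' K' = genus k K) (P : Place k K) : NS bE P := by
  classical
  intro z hz i
  have hK' : IsFunctionField k' K' := isFunctionField_model h hK hg
  haveI : Infinite (Place k K) := Set.infinite_univ_iff.1 (infinite_places hK)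
  obtain ⟨Pi, hPi⟩ := exists_ne P
  obtain ⟨D₀, hD₀⟩ : ∃ D₀ : Divisor k K, D₀ = ∑ j, polesDiv k (bE.repr z j) := ⟨_, rfl⟩
  have hD₀mem : ∀ j, bE.repr z j ∈ L D₀ := by
    intro j P'
    refine (val_le_exp_polesDiv hK _ P').trans ?_
    rw [WithZero.exp_le_exp]
    have hle : polesDiv k (bE.repr z j) ≤ D₀ := by
      rw [hD₀]
      exact Finset.single_le_sum (f := fun l => polesDiv k (bE.repr z l))
        (fun l _ => polesDiv_nonneg _) (Finset.mem_univ j)
    exact hle P'
  obtain ⟨m, hm⟩ : ∃ m : ℤ, m = D₀ P := ⟨_, rfl⟩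
  obtain ⟨D₁, hD₁⟩ : ∃ D₁ : Divisor k K, D₁ = D₀ - Finsupp.single P m := ⟨_, rfl⟩
  obtain ⟨N, hN⟩ := exists_large_divisor hK (2 * (genus k K : ℤ) - 1 - D₁.deg) Pi
  obtain ⟨D, hD⟩ : ∃ D : Divisor k K, D = D₁ + Finsupp.single Pi (N : ℤ) := ⟨_, rfl⟩
  have hDP : D P = 0 := by
    rw [hD, hD₁, Finsupp.add_apply, Finsupp.sub_apply, Finsupp.single_apply, if_pos rfl,
      Finsupp.single_apply, if_neg hPi, hm]
    ring
  have hdeg : 2 * (genus k K : ℤ) - 1 ≤ D.deg := by
    rw [hD, deg_add]
    linarith
  have hle : D₀ ≤ D + Finsupp.single P m := by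
    have e : D + Finsupp.single P m = D₀ + Finsupp.single Pi (N : ℤ) := by
      rw [hD, hD₁]
      abel
    rw [e]
    refine le_add_of_nonneg_right ?_
    intro Q
    rw [Finsupp.single_apply]
    split_ifs
    · exact Int.natCast_nonneg _
    · exact le_refl _
  have hz1 : z ∈ L (conorm K' (D + Finsupp.single P m)) := by
    have h1 : z ∈ LinearMap.range (Phi bE (D + Finsupp.single P m)) := by
      refine ⟨fun j => ⟨bE.repr z j, L_mono hle (hD₀mem j)⟩, ?_⟩
      rw [Phi_apply]
      conv_rhs => rw [← bE.sum_repr z]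
      refine Finset.sum_congr rfl fun j _ => ?_
      rw [Algebra.smul_def]
    have h2 := range_Phi_le hK c bE hbE _ h1
    rw [Submodule.restrictScalars_mem] at h2
    unfold cn at h2
    rwa [mem_L_upDiv] at h2
  have hz2 : z ∈ L (cn k' K' D) := by
    unfold cn
    rw [mem_L_upDiv]
    intro Q
    obtain ⟨P', e, he⟩ := exists_place_under hK Q
    rw [conorm_apply' hK D he]
    by_cases hPP : P' = P
    · rw [hPP, hDP, mul_zero, WithZero.exp_zero]
      exact hz Q ⟨e, hPP ▸ he⟩
    · have h3 := hz1 Q
      rw [conorm_apply' hK _ he, Finsupp.add_apply, Finsupp.single_apply,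
        if_neg (Ne.symm hPP), add_zero] at h3
      exact h3
  have hell : ell (cn k' K' D) = ell D := by
    have h1 := ell_of_deg_ge hK hdeg
    have h2 := ell_of_deg_ge hK' (D := cn k' K' D) (by rw [deg_cn h hK, heq]; exact hdeg)
    rw [deg_cn h hK, heq] at h2
    have : (ell (cn k' K' D) : ℤ) = ell D := by linarith
    exact_mod_cast this
  have hrange : LinearMap.range (Phi bE D) = (L (cn k' K' D)).restrictScalars k := by
    haveI := finite_restrictScalars_L_cn h hK hg D
    apply Submodule.eq_of_le_of_finrank_eq (range_Phi_le hK c bE hbE D)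
    rw [finrank_range_Phi hK, finrank_restrictScalars_L_cn, hell,
      Module.finrank_eq_card_basis c, Fintype.card_fin]
  have hzr : z ∈ LinearMap.range (Phi bE D) := by
    rw [hrange]
    exact hz2
  obtain ⟨x, hx⟩ := hzr
  rw [← hx, repr_Phi]
  have h4 := (x i).2 P
  rwa [hDP, WithZero.exp_zero] at h4

end Genus

end CExt

end Groth.Agent.Lib.helper10
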