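import Groth.Agent.Lib.Helper10.FunFld62

/-!
Function fields of one variable (helper10), part 63: inertia groups over intermediate fields.
-/

set_option autoImplicit false
set_option linter.unusedSectionVars false
set_option linter.style.haveILetI false

universe u v w

open IntermediateField FunFld Polynomial

namespace Groth.Agent.Lib.helper10

namespace FF

open RD PA

section Char

variable {k : Type u} {F : Type v} {E : Type w} [Field k] [Field F] [Field E]
  [Algebra k F] [Algebra F E] [Algebra k E] [IsScalarTower k F E]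

theorem mem_decomposition_iff_val (Q : Place k E) (σ : E ≃ₐ[F] E) :
    σ ∈ (Q.O).decompositionSubgroup F ↔ ∀ z : E, Q.1 (σ z) = Q.1 z := by
  constructor
  · intro h z
    exact val_apply_of_mem_decomposition Q h z
  · intro h
    rw [mem_decomposition_iff]
    apply Subtype.ext
    ext z
    exact h z

theorem mem_inertia_iff (Q : Place k E) (σ : (Q.O).decompositionSubgroup F) :
    σ ∈ (Q.O).inertiaSubgroup F ↔ ∀ z : E, Q.1 z ≤ 1 → Q.1 (σ.1 z - z) < 1 := by
  show σ ∈ MonoidHom.ker _ ↔ _
  rw [MonoidHom.mem_ker]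
  constructor
  · intro h z hz
    have h1 : σ • (IsLocalRing.residue Q.O ⟨z, hz⟩) = IsLocalRing.residue Q.O ⟨z, hz⟩ := by
      have := congrArg (fun f : RingAut (IsLocalRing.ResidueField Q.O) => f
        (IsLocalRing.residue Q.O ⟨z, hz⟩)) h
      exact this
    rw [← IsLocalRing.ResidueField.residue_smul, ← sub_eq_zero, ← map_sub,
      Place.residue_eq_zero_iff] at h1
    exact h1
  · intro h
    ext x
    obtain ⟨w, rfl⟩ := IsLocalRing.residue_surjective x
    show σ • (IsLocalRing.residue Q.O w) = IsLocalRing.residue Q.O w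
    rw [← IsLocalRing.ResidueField.residue_smul, ← sub_eq_zero, ← map_sub,
      Place.residue_eq_zero_iff]
    exact h w.1 w.2

/-- An automorphism moving integral elements by non-units of `O_Q` lies in the decomposition
group. -/
theorem mem_decomposition_of_forall_lt (Q : Place k E) (σ : E ≃ₐ[F] E)
    (h : ∀ z : E, Q.1 z ≤ 1 → Q.1 (σ z - z) < 1) :
    σ ∈ (Q.O).decompositionSubgroup F := by
  rw [mem_decomposition_iff]
  symm
  apply Place.eq_of_O_le
  intro z hz
  have hz1 : Q.1 z ≤ 1 := hz
  show Q.1 (σ z) ≤ 1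
  have : σ z = (σ z - z) + z := by ring
  rw [this]
  exact (Q.1.map_add _ _).trans (max_le (h z hz1).le hz1)

end Char

section General

variable {k : Type u} {F : Type v} {E : Type w} [Field k] [Field F] [Field E]
  [Algebra k F] [Algebra F E] [Algebra k E] [IsScalarTower k F E]

theorem isSeparable_residueField_up {k₁ : Type*} [Field k₁] [Algebra k k₁] [Algebra k₁ E]
    [IsScalarTower k k₁ E] [Algebra.IsAlgebraic k k₁] (Q : Place k E)
    [Algebra.IsSeparable k (IsLocalRing.ResidueField Q.O)] :
    Algebra.IsSeparable k₁ (IsLocalRing.ResidueField (Place.up (k₁ := k₁) Q).O) := by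
  letI a1 : Algebra k (IsLocalRing.ResidueField (Place.up (k₁ := k₁) Q).O) := Place.algRes Q
  letI a2 : Algebra k₁ (IsLocalRing.ResidueField (Place.up (k₁ := k₁) Q).O) :=
    Place.algRes (Place.up (k₁ := k₁) Q)
  haveI h2 : IsScalarTower k k₁ (IsLocalRing.ResidueField (Place.up (k₁ := k₁) Q).O) := by
    apply IsScalarTower.of_algebraMap_eq
    intro c
    have h1 : algebraMap k (IsLocalRing.ResidueField (Place.up (k₁ := k₁) Q).O) c =
      IsLocalRing.residue (Place.up (k₁ := k₁) Q).O ⟨algebraMap k E c, Q.2.1 c⟩ := rfl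
    have h2 : algebraMap k₁ (IsLocalRing.ResidueField (Place.up (k₁ := k₁) Q).O)
        (algebraMap k k₁ c) =
      IsLocalRing.residue (Place.up (k₁ := k₁) Q).O
        ⟨algebraMap k₁ E (algebraMap k k₁ c), (Place.up (k₁ := k₁) Q).2.1 _⟩ := rfl
    rw [h1, h2]
    congr 1
    apply Subtype.ext
    exact IsScalarTower.algebraMap_apply k k₁ E c
  haveI h3 : Algebra.IsSeparable k (IsLocalRing.ResidueField (Place.up (k₁ := k₁) Q).O) :=
    ‹Algebra.IsSeparable k (IsLocalRing.ResidueField Q.O)›
  exact Algebra.isSeparable_tower_top_of_isSeparable k k₁ _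

/-- The inertia group has order `e(Q|P)`, for a base field that is a function field over its own
constants. -/
theorem card_inertia_eq' [FiniteDimensional F E] [IsGalois F E]
    (hF : IsFunctionField (algebraicClosure k F) F) {Q : Place k E} {P : Place k F} {e : ℕ}
    (he : IsOverWith Q P e) [Algebra.IsSeparable k (IsLocalRing.ResidueField Q.O)] :
    Nat.card ((Q.O).inertiaSubgroup F) = e := by
  have he₁ : IsOverWith (Place.up (k₁ := algebraicClosure k F) Q)
      (Place.up (k₁ := algebraicClosure k F) P) e := fun z => he z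
  haveI := isSeparable_residueField_up (k₁ := algebraicClosure k F) Q
  have h1 := card_inertia_eq (k := algebraicClosure k F) hF he₁
  have hO : (Place.up (k₁ := algebraicClosure k F) Q).O = Q.O := rfl
  rw [hO] at h1
  exact h1

theorem isOverWith_trans {M : Type*} [Field M] [Algebra k M] [Algebra F M] [Algebra M E]
    [IsScalarTower F M E] {Q : Place k E} {QM : Place k M} {P : Place k F} {e₁ e₂ : ℕ}
    (h₁ : IsOverWith Q QM e₁) (h₂ : IsOverWith QM P e₂) : IsOverWith Q P (e₂ * e₁) := by
  intro z
  rw [IsScalarTower.algebraMap_apply F M E, h₁, h₂, pow_mul]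

end General

section Inter

variable {k : Type u} {F : Type v} {E : Type w} [Field k] [Field F] [Field E]
  [Algebra k F] [Algebra F E] [Algebra k E] [IsScalarTower k F E]

instance isScalarTower_intermediate (M : IntermediateField F E) : IsScalarTower k M E :=
  IsScalarTower.of_algebraMap_eq (fun _ => rfl)

/-- The inertia group as a subgroup of the Galois group. -/
noncomputable abbrev inertiaImage (Q : Place k E) : Subgroup (E ≃ₐ[F] E) :=
  ((Q.O).inertiaSubgroup F).map ((Q.O).decompositionSubgroup F).subtype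

theorem mem_inertiaImage_iff (Q : Place k E) (σ : E ≃ₐ[F] E) :
    σ ∈ inertiaImage (F := F) Q ↔ ∀ z : E, Q.1 z ≤ 1 → Q.1 (σ z - z) < 1 := by
  constructor
  · rintro ⟨τ, hτ, rfl⟩
    exact (mem_inertia_iff Q τ).mp hτ
  · intro h
    have hD := mem_decomposition_of_forall_lt Q σ h
    exact ⟨⟨σ, hD⟩, (mem_inertia_iff Q ⟨σ, hD⟩).mpr h, rfl⟩

theorem inertiaImage_le_decomposition (Q : Place k E) :
    inertiaImage (F := F) Q ≤ (Q.O).decompositionSubgroup F := by
  rintro σ ⟨τ, -, rfl⟩
  exact τ.2

theorem card_inertiaImage (Q : Place k E) :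
    Nat.card (inertiaImage (F := F) Q) = Nat.card ((Q.O).inertiaSubgroup F) :=
  Nat.card_congr (Subgroup.equivMapOfInjective _ _ (Subgroup.subtype_injective _)).symm.toEquiv

/-- The inertia group over an intermediate field. -/
theorem card_inertia_intermediate (Q : Place k E) (M : IntermediateField F E) :
    Nat.card ((Q.O).inertiaSubgroup M) =
      Nat.card ↥(M.fixingSubgroup ⊓ inertiaImage (F := F) Q) := by
  apply Nat.card_congr
  refine Equiv.ofBijective
    (fun τ => ⟨τ.1.1.restrictScalars F, ?_, ?_⟩) ⟨?_, ?_⟩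
  · show _ ∈ M.fixingSubgroup
    rw [IntermediateField.mem_fixingSubgroup_iff]
    intro x hx
    exact τ.1.1.commutes ⟨x, hx⟩
  · show _ ∈ inertiaImage (F := F) Q
    rw [mem_inertiaImage_iff]
    exact (mem_inertia_iff Q τ.1).mp τ.2
  · intro τ τ' h
    have h1 : τ.1.1.restrictScalars F = τ'.1.1.restrictScalars F := congrArg Subtype.val h
    apply Subtype.ext
    apply Subtype.ext
    ext z
    exact congrArg (fun f : E ≃ₐ[F] E => f z) h1
  · rintro ⟨ρ, hfix, hI⟩
    have hI' := (mem_inertiaImage_iff Q ρ).mp hI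
    obtain ⟨τ₀, hτ₀⟩ : ∃ τ₀ : E ≃ₐ[M] E, ∀ z, τ₀ z = ρ z :=
      ⟨IntermediateField.fixingSubgroupEquiv M ⟨ρ, hfix⟩, fun z => rfl⟩
    have h2 : ∀ z : E, Q.1 z ≤ 1 → Q.1 (τ₀ z - z) < 1 := by
      intro z hz
      rw [hτ₀]
      exact hI' z hz
    have hD := mem_decomposition_of_forall_lt Q τ₀ h2
    refine ⟨⟨⟨τ₀, hD⟩, (mem_inertia_iff Q ⟨τ₀, hD⟩).mpr h2⟩, ?_⟩
    apply Subtype.ext
    ext z
    exact hτ₀ z

theorem exists_place_intermediate [FiniteDimensional F E] [IsGalois F E]
    (hF : IsFunctionField k F) (Q : Place k E)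
    [Algebra.IsSeparable k (IsLocalRing.ResidueField Q.O)] (M : IntermediateField F E) :
    ∃ QM : Place k M,
      IsOverWith Q QM (Nat.card ↥(M.fixingSubgroup ⊓ inertiaImage (F := F) Q)) := by
  have hM : IsFunctionField (algebraicClosure k M) M :=
    isFunctionField_algebraicClosure' (F := F) (E := M) hF
  obtain ⟨QM, e, he⟩ := exists_place_under' (F := M) (E := E) hM Q
  have h1 := card_inertia_eq' hM he
  rw [card_inertia_intermediate] at h1
  rw [h1]
  exact ⟨QM, he⟩

/-- **S12521**: `E` is totally ramified at `Q` over the inertia field. -/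
theorem exists_place_inertiaField [FiniteDimensional F E] [IsGalois F E]
    (hF : IsFunctionField k F) (Q : Place k E)
    [Algebra.IsSeparable k (IsLocalRing.ResidueField Q.O)] :
    ∃ Q₁ : Place k (IntermediateField.fixedField (inertiaImage (F := F) Q)),
      IsOverWith Q Q₁ (Module.finrank (IntermediateField.fixedField (inertiaImage (F := F) Q)) E) := by
  obtain ⟨Q₁, h⟩ := exists_place_intermediate hF Q
    (IntermediateField.fixedField (inertiaImage (F := F) Q))
  refine ⟨Q₁, ?_⟩
  rw [IntermediateField.fixingSubgroup_fixedField, inf_idem] at h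
  rw [IntermediateField.finrank_fixedField_eq_card]
  exact h

/-- **S11029**: an intermediate field is unramified below `Q` iff it lies in the inertia field. -/
theorem range_comap_eq_iff_le_inertiaField [FiniteDimensional F E] [IsGalois F E]
    (hF : IsFunctionField k F) (Q : Place k E)
    [Algebra.IsSeparable k (IsLocalRing.ResidueField Q.O)] (M : IntermediateField F E) :
    Set.range (Q.1.comap (algebraMap M E)) = Set.range (Q.1.comap (algebraMap F E)) ↔
      M ≤ IntermediateField.fixedField (inertiaImage (F := F) Q) := by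
  obtain ⟨QM, hQM⟩ := exists_place_intermediate hF Q M
  obtain ⟨P, e, he⟩ := exists_place_under hF Q
  have hn : Nat.card (inertiaImage (F := F) Q) = e := by
    rw [card_inertiaImage]
    exact card_inertia_eq hF he
  obtain ⟨m, hm⟩ : ∃ m : ℕ, m = Nat.card ↥(M.fixingSubgroup ⊓ inertiaImage (F := F) Q) :=
    ⟨_, rfl⟩
  rw [← hm] at hQM
  have hmpos := isOverWith_pos hQM
  have hepos := isOverWith_pos he
  have hle : m ≤ e := by
    rw [hm, ← hn]
    exact Subgroup.card_le_of_le inf_le_right
  have hr1 : Set.range (Q.1.comap (algebraMap M E)) =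
      {γ | ∃ δ : WithZero (Multiplicative ℤ), δ ^ m = γ} := by
    ext γ
    constructor
    · rintro ⟨x, rfl⟩
      exact ⟨QM.1 x, (hQM x).symm⟩
    · rintro ⟨δ, rfl⟩
      obtain ⟨x, rfl⟩ := QM.2.2 δ
      exact ⟨x, hQM x⟩
  have hr2 : Set.range (Q.1.comap (algebraMap F E)) =
      {γ | ∃ δ : WithZero (Multiplicative ℤ), δ ^ e = γ} := by
    ext γ
    constructor
    · rintro ⟨x, rfl⟩
      exact ⟨P.1 x, (he x).symm⟩
    · rintro ⟨δ, rfl⟩
      obtain ⟨x, rfl⟩ := P.2.2 δ
      exact ⟨x, he x⟩
  rw [hr1, hr2, IntermediateField.le_iff_le]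
  constructor
  · intro h
    have hmem : WithZero.exp (-(1 : ℤ)) ^ m ∈
        {γ | ∃ δ : WithZero (Multiplicative ℤ), δ ^ e = γ} := by
      rw [← h]
      exact ⟨_, rfl⟩
    obtain ⟨δ, hδ⟩ := hmem
    have hδ0 : δ ≠ 0 := by
      rintro rfl
      rw [zero_pow (by omega), ← WithZero.exp_nsmul] at hδ
      exact WithZero.exp_ne_zero hδ.symm
    obtain ⟨a, rfl⟩ : ∃ a : ℤ, δ = WithZero.exp a := ⟨WithZero.log δ, (WithZero.exp_log hδ0).symm⟩
    rw [← WithZero.exp_nsmul, ← WithZero.exp_nsmul, WithZero.exp_inj] at hδ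
    simp only [nsmul_eq_mul, mul_neg, mul_one] at hδ
    have hdvd : (e : ℤ) ∣ (m : ℤ) := ⟨-a, by linarith⟩
    have hdvd' : e ∣ m := Int.natCast_dvd_natCast.mp hdvd
    have hme : m = e := le_antisymm hle (Nat.le_of_dvd (by omega) hdvd')
    have heq : M.fixingSubgroup ⊓ inertiaImage (F := F) Q = inertiaImage (F := F) Q := by
      apply Subgroup.eq_of_le_of_card_ge inf_le_right
      rw [hn, ← hm, hme]
    rw [← heq]
    exact inf_le_left
  · intro h
    have heq : M.fixingSubgroup ⊓ inertiaImage (F := F) Q = inertiaImage (F := F) Q :=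
      inf_eq_right.mpr h
    have hme : m = e := by rw [hm, heq, hn]
    rw [hme]

end Inter

end FF

end Groth.Agent.Lib.helper10
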