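import Groth.Agent.Lib.Helper10.CExt4
import Groth.Agent.Lib.Helper10.FunFld63

/-!
Constant field extensions of function fields of one variable (helper10), part 5: the genus of a
constant extension is independent of the model and monotone in the constant field; constant
fields of minimal genus.
-/

set_option autoImplicit false
set_option linter.unusedSectionVars false
set_option linter.style.haveILetI false

universe u v w w'

open IntermediateField FunFld TensorProduct Polynomial

namespace Groth.Agent.Lib.helper10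

namespace CExt

open FF RD PA

section Compare

variable {k k₁ k₂ : Type u} {K : Type v} {K₁ : Type w} {K₂ : Type w'}
  [Field k] [Field k₁] [Field k₂] [Field K] [Field K₁] [Field K₂]
  [Algebra k k₁] [Algebra k k₂] [Algebra k K]
  [Algebra K K₁] [Algebra k₁ K₁] [Algebra k K₁] [IsScalarTower k k₁ K₁] [IsScalarTower k K K₁]
  [Algebra K K₂] [Algebra k₂ K₂] [Algebra k K₂] [IsScalarTower k k₂ K₂] [IsScalarTower k K K₂]

/-- The genus is antitone in the constant field. -/
theorem genus_le_of_algHom [FiniteDimensional k k₁] [FiniteDimensional k k₂]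
    (h₁ : Function.Bijective (Algebra.TensorProduct.productMap
      (IsScalarTower.toAlgHom k k₁ K₁) (IsScalarTower.toAlgHom k K K₁)))
    (h₂ : Function.Bijective (Algebra.TensorProduct.productMap
      (IsScalarTower.toAlgHom k k₂ K₂) (IsScalarTower.toAlgHom k K K₂)))
    (hK : IsFunctionField k K) (hg : IsGeometric k K) (φ : k₁ →ₐ[k] k₂) :
    genus k₂ K₂ ≤ genus k₁ K₁ := by
  obtain ⟨ψ, hψ₁, hψ₂⟩ := exists_modelMap (K₂ := K₂) h₁ φ
  letI : Algebra k₁ k₂ := φ.toRingHom.toAlgebra
  haveI : IsScalarTower k k₁ k₂ := IsScalarTower.of_algebraMap_eq (fun c => (φ.commutes c).symm)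
  letI : Algebra K₁ K₂ := ψ.toRingHom.toAlgebra
  letI : Algebra k₁ K₂ := ((algebraMap k₂ K₂).comp (algebraMap k₁ k₂)).toAlgebra
  haveI : IsScalarTower K K₁ K₂ := IsScalarTower.of_algebraMap_eq (fun x => (hψ₂ x).symm)
  haveI : IsScalarTower k₁ K₁ K₂ := IsScalarTower.of_algebraMap_eq (fun c => (hψ₁ c).symm)
  haveI : IsScalarTower k₁ k₂ K₂ := IsScalarTower.of_algebraMap_eq (fun _ => rfl)
  haveI : FiniteDimensional k₁ k₂ := Module.Finite.of_restrictScalars_finite k k₁ k₂
  have h₁₂ := model_tower h₁ h₂ hg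
  exact genus_le h₁₂ (isFunctionField_model h₁ hK hg) (isGeometric_model h₁ hg)

end Compare

section Same

variable {k k₁ : Type u} {K : Type v} {K₁ : Type w} {K₂ : Type w'}
  [Field k] [Field k₁] [Field K] [Field K₁] [Field K₂]
  [Algebra k k₁] [Algebra k K]
  [Algebra K K₁] [Algebra k₁ K₁] [Algebra k K₁] [IsScalarTower k k₁ K₁] [IsScalarTower k K K₁]
  [Algebra K K₂] [Algebra k₁ K₂] [Algebra k K₂] [IsScalarTower k k₁ K₂] [IsScalarTower k K K₂]

/-- The genus of a constant extension does not depend on the model. -/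
theorem genus_model_eq [FiniteDimensional k k₁]
    (h₁ : Function.Bijective (Algebra.TensorProduct.productMap
      (IsScalarTower.toAlgHom k k₁ K₁) (IsScalarTower.toAlgHom k K K₁)))
    (h₂ : Function.Bijective (Algebra.TensorProduct.productMap
      (IsScalarTower.toAlgHom k k₁ K₂) (IsScalarTower.toAlgHom k K K₂)))
    (hK : IsFunctionField k K) (hg : IsGeometric k K) :
    genus k₁ K₁ = genus k₁ K₂ :=
  le_antisymm (genus_le_of_algHom h₂ h₁ hK hg (AlgHom.id k k₁))
    (genus_le_of_algHom h₁ h₂ hK hg (AlgHom.id k k₁))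

end Same

section Min

variable {k : Type u} {K : Type v} [Field k] [Field K] [Algebra k K]

/-- `(k₁, K₁)` has minimal genus among all finite constant extensions of `K/k`. -/
def IsMinGenus (k : Type u) (K : Type v) [Field k] [Field K] [Algebra k K]
    (k₁ : Type u) (K₁ : Type w) [Field k₁] [Field K₁] [Algebra k₁ K₁] : Prop :=
  ∀ (k₂ : Type u) [Field k₂] [Algebra k k₂] [FiniteDimensional k k₂]
    (K₂ : Type (max u v)) [Field K₂] [Algebra K K₂] [Algebra k₂ K₂] [Algebra k K₂]
    [IsScalarTower k k₂ K₂] [IsScalarTower k K K₂],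
    Function.Bijective (Algebra.TensorProduct.productMap
      (IsScalarTower.toAlgHom k k₂ K₂) (IsScalarTower.toAlgHom k K K₂)) →
    genus k₁ K₁ ≤ genus k₂ K₂

theorem IsMinGenus.le {k₁ : Type u} {K₁ : Type w} [Field k₁] [Field K₁] [Algebra k₁ K₁]
    (hmin : IsMinGenus k K k₁ K₁) (hK : IsFunctionField k K) (hg : IsGeometric k K)
    (k₂ : Type u) [Field k₂] [Algebra k k₂] [FiniteDimensional k k₂]
    (K₂ : Type w') [Field K₂] [Algebra K K₂] [Algebra k₂ K₂] [Algebra k K₂]
    [IsScalarTower k k₂ K₂] [IsScalarTower k K K₂]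
    (h₂ : Function.Bijective (Algebra.TensorProduct.productMap
      (IsScalarTower.toAlgHom k k₂ K₂) (IsScalarTower.toAlgHom k K K₂))) :
    genus k₁ K₁ ≤ genus k₂ K₂ := by
  obtain ⟨K₂', _, _, _, _, _, _, h₂'⟩ := exists_model (k := k) (K := K) k₂ hg
  rw [genus_model_eq h₂ h₂' hK hg]
  exact hmin k₂ K₂' h₂'

theorem exists_min_genus (hK : IsFunctionField k K) (hg : IsGeometric k K) :
    ∃ (k₁ : Type u) (_ : Field k₁) (_ : Algebra k k₁) (_ : FiniteDimensional k k₁)
      (K₁ : Type (max u v)) (_ : Field K₁) (_ : Algebra K K₁) (_ : Algebra k₁ K₁)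
      (_ : Algebra k K₁) (_ : IsScalarTower k k₁ K₁) (_ : IsScalarTower k K K₁),
      Function.Bijective (Algebra.TensorProduct.productMap
        (IsScalarTower.toAlgHom k k₁ K₁) (IsScalarTower.toAlgHom k K K₁)) ∧
      IsMinGenus k K k₁ K₁ := by
  classical
  let S : ℕ → Prop := fun g =>
    ∃ (k₁ : Type u) (_ : Field k₁) (_ : Algebra k k₁) (_ : FiniteDimensional k k₁)
      (K₁ : Type (max u v)) (_ : Field K₁) (_ : Algebra K K₁) (_ : Algebra k₁ K₁)
      (_ : Algebra k K₁) (_ : IsScalarTower k k₁ K₁) (_ : IsScalarTower k K K₁),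
      Function.Bijective (Algebra.TensorProduct.productMap
        (IsScalarTower.toAlgHom k k₁ K₁) (IsScalarTower.toAlgHom k K K₁)) ∧
      genus k₁ K₁ = g
  have hne : ∃ g, S g := by
    obtain ⟨K₁, i1, i2, i3, i4, i5, i6, h₁⟩ := exists_model (k := k) (K := K) k hg
    exact ⟨_, k, inferInstance, inferInstance, inferInstance, K₁, i1, i2, i3, i4, i5, i6, h₁, rfl⟩
  obtain ⟨k₁, i0, j0, f0, K₁, i1, i2, i3, i4, i5, i6, h₁, hgen⟩ := Nat.find_spec hne
  refine ⟨k₁, i0, j0, f0, K₁, i1, i2, i3, i4, i5, i6, h₁, ?_⟩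
  intro k₂ _ _ _ K₂ _ _ _ _ _ _ h₂
  rw [hgen]
  exact Nat.find_min' hne ⟨k₂, inferInstance, inferInstance, inferInstance, K₂, inferInstance,
    inferInstance, inferInstance, inferInstance, inferInstance, inferInstance, h₂, rfl⟩

end Min

section MinNS

variable {k k₁ k₂ : Type u} {K : Type v} {K₁ : Type w} {K₂ : Type w'}
  [Field k] [Field k₁] [Field k₂] [Field K] [Field K₁] [Field K₂]
  [Algebra k k₁] [Algebra k k₂] [Algebra k₁ k₂] [IsScalarTower k k₁ k₂] [Algebra k K]
  [Algebra K K₁] [Algebra k₁ K₁] [Algebra k K₁] [IsScalarTower k k₁ K₁] [IsScalarTower k K K₁]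
  [Algebra K K₂] [Algebra k₂ K₂] [Algebra k K₂] [IsScalarTower k k₂ K₂] [IsScalarTower k K K₂]
  [Algebra K₁ K₂] [Algebra k₁ K₂] [IsScalarTower K K₁ K₂] [IsScalarTower k₁ K₁ K₂]
  [IsScalarTower k₁ k₂ K₂]

/-- Over a constant field of minimal genus every place is nonsingular with respect to every
further finite constant extension. -/
theorem NS_of_isMinGenus [FiniteDimensional k k₁] [FiniteDimensional k₁ k₂]
    (h₁ : Function.Bijective (Algebra.TensorProduct.productMap
      (IsScalarTower.toAlgHom k k₁ K₁) (IsScalarTower.toAlgHom k K K₁)))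
    (h₂ : Function.Bijective (Algebra.TensorProduct.productMap
      (IsScalarTower.toAlgHom k k₂ K₂) (IsScalarTower.toAlgHom k K K₂)))
    (hK : IsFunctionField k K) (hg : IsGeometric k K) (hmin : IsMinGenus k K k₁ K₁)
    {n : ℕ} (c : Module.Basis (Fin n) k₁ k₂) (bE : Module.Basis (Fin n) K₁ K₂)
    (hbE : ∀ i, bE i = algebraMap k₂ K₂ (c i)) (P₁ : Place k₁ K₁) : NS bE P₁ := by
  haveI : FiniteDimensional k k₂ := Module.Finite.trans k₁ k₂
  have h₁₂ := model_tower h₁ h₂ hg
  have hK₁ := isFunctionField_model h₁ hK hg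
  have hg₁ := isGeometric_model h₁ hg
  haveI : FiniteDimensional K₁ K₂ := Module.Finite.of_basis bE
  have heq : genus k₂ K₂ = genus k₁ K₁ :=
    le_antisymm (genus_le h₁₂ hK₁ hg₁) (hmin.le hK hg k₂ K₂ h₂)
  exact NS_of_genus_eq h₁₂ hK₁ hg₁ c bE hbE heq P₁

end MinNS

section Split

/-- A polynomial whose splitting forces all minimal polynomials of a finite extension to split. -/
theorem exists_splitting_poly (k₁ : Type u) (F : Type v) [Field k₁] [Field F] [Algebra k₁ F]
    [FiniteDimensional k₁ F] :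
    ∃ g : k₁[X], g ≠ 0 ∧ ∀ (L : Type u) [Field L] [Algebra k₁ L],
      (g.map (algebraMap k₁ L)).Splits →
      ∀ α : F, ((minpoly k₁ α).map (algebraMap k₁ L)).Splits := by
  classical
  let b := Module.finBasis k₁ F
  have hint : ∀ x : F, IsIntegral k₁ x := fun x => Algebra.IsIntegral.isIntegral x
  have hg0 : (∏ i, minpoly k₁ (b i)) ≠ 0 :=
    Finset.prod_ne_zero_iff.mpr fun i _ => minpoly.ne_zero (hint _)
  refine ⟨∏ i, minpoly k₁ (b i), hg0, ?_⟩
  intro L _ _ hsplit α
  have hmap0 : (∏ i, minpoly k₁ (b i)).map (algebraMap k₁ L) ≠ 0 :=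
    Polynomial.map_ne_zero hg0
  apply IntermediateField.splits_of_mem_adjoin k₁ F (S := Set.range b)
  · rintro _ ⟨i, rfl⟩
    refine ⟨hint _, hsplit.of_dvd hmap0 ?_⟩
    exact Polynomial.map_dvd _ (Finset.dvd_prod_of_mem _ (Finset.mem_univ i))
  · have htop : IntermediateField.adjoin k₁ (Set.range b) = ⊤ := by
      rw [eq_top_iff]
      intro x _
      rw [← b.sum_repr x]
      refine sum_mem fun i _ => ?_
      rw [Algebra.smul_def]
      exact mul_mem (IntermediateField.algebraMap_mem _ _)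
        (IntermediateField.subset_adjoin _ _ ⟨i, rfl⟩)
    rw [htop]
    trivial

/-- The image of an element whose minimal polynomial splits in `k'` lies in `k'`. -/
theorem mem_range_of_splits {k₁ k' F M : Type*} [Field k₁] [Field k'] [Field F] [Field M]
    [Algebra k₁ k'] [Algebra k₁ F] [Algebra k₁ M] [Algebra k' M] [IsScalarTower k₁ k' M]
    (σ : F →ₐ[k₁] M) {α : F} (hα : IsIntegral k₁ α)
    (hs : ((minpoly k₁ α).map (algebraMap k₁ k')).Splits) :
    σ α ∈ Set.range (algebraMap k' M) := by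
  have h0 : (minpoly k₁ α).map (algebraMap k₁ k') ≠ 0 :=
    Polynomial.map_ne_zero (minpoly.ne_zero hα)
  have hroot : (((minpoly k₁ α).map (algebraMap k₁ k')).map (algebraMap k' M)).IsRoot (σ α) := by
    rw [Polynomial.map_map, ← IsScalarTower.algebraMap_eq, Polynomial.IsRoot.def,
      Polynomial.eval_map_algebraMap, Polynomial.aeval_algHom_apply, minpoly.aeval, map_zero]
  exact hs.mem_range_of_isRoot h0 hroot

end Split

end CExt

end Groth.Agent.Lib.helper10
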