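import Groth.Agent.Lib.Helper10.CExt5

/-!
Constant field extensions of function fields of one variable (helper10), part 6: residue fields
above a nonsingular place, and places of degree one.
-/

set_option autoImplicit false
set_option linter.unusedSectionVars false
set_option linter.style.haveILetI false

universe u v w w'

open IntermediateField FunFld TensorProduct Polynomial

namespace Groth.Agent.Lib.helper10

namespace CExt

open FF RD PA

section Approx

variable {k : Type u} {F : Type v} {E : Type w} [Field k] [Field F] [Field E]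
  [Algebra k F] [Algebra F E] [Algebra k E] [IsScalarTower k F E]

/-- Above a nonsingular place, every integral element is congruent to an `O_P`-combination of the
basis. -/
theorem exists_approx_of_NS [FiniteDimensional F E] (hF : IsFunctionField k F) {n : ℕ}
    (bE : Module.Basis (Fin n) F E) (P : Place k F) (hNS : NS bE P) (Q : Place k E)
    (hQ : IsOver Q P) (z : E) (hz : Q.1 z ≤ 1) :
    ∃ a : Fin n → F, (∀ i, P.1 (a i) ≤ 1) ∧ Q.1 (z - ∑ i, algebraMap F E (a i) * bE i) < 1 := by
  classical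
  let Qs := (FF.finite_places_over' (E := E) hF P).toFinset
  have hQs : ∀ Q', Q' ∈ Qs ↔ IsOver Q' P := fun Q' => by
    simp only [Qs, Set.Finite.mem_toFinset, Set.mem_ofPred_eq]
  have hQmem : Q ∈ Qs := (hQs Q).2 hQ
  have hexp : (WithZero.exp (-((1 : ℕ) : ℤ)) : WithZero (Multiplicative ℤ)) < 1 := by
    rw [← WithZero.exp_zero, WithZero.exp_lt_exp]
    norm_num
  obtain ⟨z', hz'⟩ := FF.weak_approx Qs (fun Q' => if Q' = Q then z else 0) 1
  have hz'Q : Q.1 (z' - z) ≤ WithZero.exp (-((1 : ℕ) : ℤ)) := by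
    have := hz' Q hQmem
    rwa [if_pos rfl] at this
  have hz'O : ∀ Q' : Place k E, IsOver Q' P → Q'.1 z' ≤ 1 := by
    intro Q' hQ'
    have h1 := hz' Q' ((hQs Q').2 hQ')
    by_cases hQQ : Q' = Q
    · subst hQQ
      rw [if_pos rfl] at h1
      have e : z' = (z' - z) + z := by ring
      rw [e]
      exact (Valuation.map_add _ _ _).trans (max_le (h1.trans hexp.le) hz)
    · rw [if_neg hQQ, sub_zero] at h1
      exact h1.trans hexp.le
  refine ⟨fun i => bE.repr z' i, hNS z' hz'O, ?_⟩
  have hsum : ∑ i, algebraMap F E (bE.repr z' i) * bE i = z' := by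
    conv_rhs => rw [← bE.sum_repr z']
    refine Finset.sum_congr rfl fun i _ => ?_
    rw [Algebra.smul_def]
  rw [hsum, ← Valuation.map_neg, neg_sub]
  exact lt_of_le_of_lt hz'Q hexp

end Approx

section DegOne

variable {k₁ k' : Type u} {K₁ : Type v} {K' : Type w} [Field k₁] [Field k'] [Field K₁] [Field K']
  [Algebra k₁ k'] [Algebra k₁ K₁] [Algebra K₁ K'] [Algebra k' K'] [Algebra k₁ K']
  [IsScalarTower k₁ k' K'] [IsScalarTower k₁ K₁ K'] [FiniteDimensional k₁ k']

theorem isScalarTower_residue (Q : Place k' K') :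
    letI : Algebra k₁ (IsLocalRing.ResidueField Q.O) := Place.algRes (Place.down (k := k₁) Q)
    IsScalarTower k₁ k' (IsLocalRing.ResidueField Q.O) := by
  letI : Algebra k₁ (IsLocalRing.ResidueField Q.O) := Place.algRes (Place.down (k := k₁) Q)
  exact IsScalarTower.of_algebraMap_eq (fun c => by
    show IsLocalRing.residue _ (algebraMap k₁ (Place.down (k := k₁) Q).O c) =
      IsLocalRing.residue _ (algebraMap k' Q.O (algebraMap k₁ k' c))
    congr 1
    apply Subtype.ext
    exact IsScalarTower.algebraMap_apply k₁ k' K' c)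

/-- A place above a nonsingular place, all of whose residue field elements have minimal
polynomials splitting in `k'`, has degree one over `k'`. -/
theorem deg_eq_one_of_NS [FiniteDimensional K₁ K'] (hK₁ : IsFunctionField k₁ K₁) {n : ℕ}
    (c : Module.Basis (Fin n) k₁ k') (bE : Module.Basis (Fin n) K₁ K')
    (hbE : ∀ i, bE i = algebraMap k' K' (c i))
    (P₁ : Place k₁ K₁) (hNS : NS bE P₁) (Q : Place k' K')
    (hQ : IsOver (Place.down (k := k₁) Q) P₁)
    (hsplit : ∀ α : IsLocalRing.ResidueField P₁.O,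
      ((minpoly k₁ α).map (algebraMap k₁ k')).Splits) :
    Q.deg = 1 := by
  classical
  letI : Algebra k₁ (IsLocalRing.ResidueField Q.O) := Place.algRes (Place.down (k := k₁) Q)
  haveI : IsScalarTower k₁ k' (IsLocalRing.ResidueField Q.O) := isScalarTower_residue Q
  have hfd := Place.finiteDimensional_residueField hK₁ P₁
  haveI hfd' : @Module.Finite k₁ (IsLocalRing.ResidueField P₁.O) _ _ (Place.algRes P₁).toModule :=
    hfd
  have hint : ∀ α : IsLocalRing.ResidueField P₁.O, IsIntegral k₁ α :=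
    fun α => IsIntegral.of_finite k₁ α
  let σ : IsLocalRing.ResidueField P₁.O →ₐ[k₁] IsLocalRing.ResidueField Q.O := Place.mapRes hQ
  unfold Place.deg
  refine Subalgebra.bot_eq_top_iff_finrank_eq_one.mp ?_
  rw [eq_top_iff]
  intro ξ _
  obtain ⟨z, rfl⟩ := IsLocalRing.residue_surjective ξ
  obtain ⟨a, ha, hlt⟩ := exists_approx_of_NS hK₁ bE P₁ hNS (Place.down (k := k₁) Q) hQ z.1 z.2
  have hbQ : ∀ i, Q.1 (bE i) ≤ 1 := by
    intro i
    rw [hbE]
    exact Q.2.1 (c i)
  have haQ : ∀ i, Q.1 (algebraMap K₁ K' (a i)) ≤ 1 := by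
    intro i
    exact (Place.mapO hQ ⟨a i, ha i⟩).2
  have hw : Q.1 (∑ i, algebraMap K₁ K' (a i) * bE i) ≤ 1 := by
    refine Valuation.map_sum_le _ fun i _ => ?_
    rw [map_mul]
    exact mul_le_one' (haQ i) (hbQ i)
  have e1 : IsLocalRing.residue Q.O z =
      IsLocalRing.residue Q.O ⟨∑ i, algebraMap K₁ K' (a i) * bE i, hw⟩ := by
    rw [← sub_eq_zero, ← map_sub, FF.Place.residue_eq_zero_iff]
    exact hlt
  have e2 : (⟨∑ i, algebraMap K₁ K' (a i) * bE i, hw⟩ : Q.O) =
      ∑ i, (⟨algebraMap K₁ K' (a i), haQ i⟩ : Q.O) * ⟨bE i, hbQ i⟩ := by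
    apply Subtype.ext
    rw [AddSubmonoidClass.coe_finsetSum]
    rfl
  rw [e1, e2, map_sum]
  refine Subalgebra.sum_mem _ fun i _ => ?_
  rw [map_mul]
  refine Subalgebra.mul_mem _ ?_ ?_
  · have h1 : IsLocalRing.residue Q.O ⟨algebraMap K₁ K' (a i), haQ i⟩ =
        σ (IsLocalRing.residue P₁.O ⟨a i, ha i⟩) := rfl
    rw [h1]
    obtain ⟨r, hr⟩ := mem_range_of_splits σ (hint _) (hsplit _)
    rw [← hr]
    exact Subalgebra.algebraMap_mem _ r
  · have h2 : IsLocalRing.residue Q.O ⟨bE i, hbQ i⟩ =
        algebraMap k' (IsLocalRing.ResidueField Q.O) (c i) := by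
      show _ = IsLocalRing.residue Q.O (algebraMap k' Q.O (c i))
      congr 1
      apply Subtype.ext
      exact hbE i
    rw [h2]
    exact Subalgebra.algebraMap_mem _ _

end DegOne

end CExt

end Groth.Agent.Lib.helper10
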