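import Groth.Agent.Lib.Helper10.CExt6

/-!
Constant field extensions of function fields of one variable (helper10), part 7: separable
constant extensions are nonsingular at every place and preserve the genus; translation of
nonsingularity into the integral-closure form.
-/

set_option autoImplicit false
set_option linter.unusedSectionVars false
set_option linter.style.haveILetI false

universe u v w w'

open IntermediateField FunFld TensorProduct Polynomial

namespace Groth.Agent.Lib.helper10

namespace CExt

open FF RD PA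

section Reduced

variable {k k' K K' : Type*} [Field k] [Field k'] [Field K] [Field K']
  [Algebra k k'] [Algebra k K] [Algebra K K'] [Algebra k' K'] [Algebra k K']
  [IsScalarTower k k' K'] [IsScalarTower k K K']

/-- If `F_P ⊗_k k'` is reduced, a `k`-basis of `k'` is a local basis at `P`. -/
theorem locIndep_const_of_isReduced (hK : IsFunctionField k K) (P : Place k K)
    (κ : Type*) [Field κ] [Algebra k κ] (hred : IsReduced (κ ⊗[k] k'))
    (res : P.O →ₐ[k] κ) (hres : ∀ x : P.O, res x = 0 ↔ P.1 (x : K) < 1)
    {n : ℕ} (c : Module.Basis (Fin n) k k') (bE : Module.Basis (Fin n) K K')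
    (hbE : ∀ i, bE i = algebraMap k' K' (c i)) (Qs : Finset (Place k K'))
    (hQs : ∀ Q, Q ∈ Qs ↔ IsOver Q P) : LocIndep Qs P bE := by
  classical
  have : FiniteDimensional K K' := Module.Finite.of_basis bE
  have : FiniteDimensional k k' := Module.Finite.of_basis c
  letI : Algebra P.O K' := ((algebraMap K K').comp (algebraMap P.O K)).toAlgebra
  haveI : IsScalarTower P.O K K' := IsScalarTower.of_algebraMap_eq (fun _ => rfl)
  haveI : IsScalarTower k P.O K' := IsScalarTower.of_algebraMap_eq (fun x => by
    rw [IsScalarTower.algebraMap_apply P.O K K', IsScalarTower.algebraMap_apply k K K']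
    rfl)
  have hQs' : ∀ Q ∈ Qs, IsOver Q P := fun Q hQ => (hQs Q).1 hQ
  have hw : ∀ i, bE i ∈ semiO Qs := by
    intro i
    rw [mem_semiO, hbE]
    intro Q' _
    apply Place.val_le_one_of_isAlgebraic
    exact (Algebra.IsAlgebraic.isAlgebraic (c i)).algebraMap
  refine ⟨hw, fun a ha hsum => ?_⟩
  let ψ : (P.O ⊗[k] k') →ₐ[P.O] K' :=
    Algebra.TensorProduct.productLeftAlgHom (Algebra.ofId P.O K') (IsScalarTower.toAlgHom k k' K')
  let ρ : (P.O ⊗[k] k') →ₐ[k] (κ ⊗[k] k') :=
    Algebra.TensorProduct.map res (AlgHom.id k k')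
  let bA := Algebra.TensorProduct.basis P.O c
  let bR := Algebra.TensorProduct.basis κ c
  have hψb : ∀ i, ψ (bA i) = bE i := by
    intro i
    rw [Algebra.TensorProduct.basis_apply, hbE]
    show algebraMap P.O K' 1 * algebraMap k' K' (c i) = _
    rw [map_one, one_mul]
  have hψinj : Function.Injective ψ := by
    rw [injective_iff_map_eq_zero]
    intro x hx
    rw [← bA.sum_repr x, map_sum] at hx
    have hx' : ∑ i, ((bA.repr x i : P.O) : K) • bE i = 0 := by
      rw [← hx]
      refine Finset.sum_congr rfl fun i _ => ?_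
      rw [map_smul, hψb, Algebra.smul_def, Algebra.smul_def,
        IsScalarTower.algebraMap_apply P.O K K']
      rfl
    have hli := bE.linearIndependent
    rw [Fintype.linearIndependent_iff] at hli
    have h0 := hli _ hx'
    rw [← bA.sum_repr x]
    refine Finset.sum_eq_zero fun i _ => ?_
    have : bA.repr x i = 0 := Subtype.ext (h0 i)
    rw [this, zero_smul]
  obtain ⟨u, hu⟩ : ∃ u : P.O ⊗[k] k', u = ∑ i, (⟨a i, ha i⟩ : P.O) • bA i := ⟨_, rfl⟩
  have hψu : ψ u = ∑ i, algebraMap K K' (a i) * bE i := by
    rw [hu, map_sum]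
    refine Finset.sum_congr rfl fun i _ => ?_
    rw [map_smul, hψb, Algebra.smul_def, IsScalarTower.algebraMap_apply P.O K K']
    rfl
  have hρu : ρ u = ∑ i, (res ⟨a i, ha i⟩) • bR i := by
    rw [hu, map_sum]
    refine Finset.sum_congr rfl fun i _ => ?_
    rw [Algebra.TensorProduct.basis_apply, Algebra.TensorProduct.basis_apply,
      TensorProduct.smul_tmul', TensorProduct.smul_tmul', smul_eq_mul, mul_one, smul_eq_mul,
      mul_one]
    rfl
  obtain ⟨t, ht⟩ := Place.exists_uniformizer P
  obtain ⟨v, hv, hzv⟩ := exists_eq_mul_of_mem_semiM hQs' ht hsum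
  have hvint : IsIntegral P.O v := isIntegral_of_mem_semiO hK P Qs hQs hv
  obtain ⟨f, hfm, hfv⟩ := hvint
  have htlt : P.1 t < 1 := by
    rw [ht, ← WithZero.exp_zero, WithZero.exp_lt_exp]
    norm_num
  obtain ⟨t', ht'⟩ : ∃ t' : P.O, t' = ⟨t, htlt.le⟩ := ⟨_, rfl⟩
  have hres_t : res t' = 0 := by
    rw [hres, ht']
    exact htlt
  obtain ⟨q, hq⟩ : ∃ q, q = Polynomial.scaleRoots f t' := ⟨_, rfl⟩
  have hq0 : Polynomial.aeval (ψ u) q = 0 := by
    rw [hψu, hzv, hq]
    have e : algebraMap K K' t = algebraMap P.O K' t' := by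
      rw [ht']
      rfl
    rw [e]
    exact Polynomial.scaleRoots_aeval_eq_zero hfv
  have hq1 : Polynomial.aeval u q = 0 := by
    apply hψinj
    rw [map_zero, ← Polynomial.aeval_algHom_apply]
    exact hq0
  have hqmap : q.map (res : P.O →+* κ) = Polynomial.X ^ f.natDegree := by
    ext i
    rw [Polynomial.coeff_map, hq, Polynomial.coeff_scaleRoots, Polynomial.coeff_X_pow]
    split_ifs with hi
    · subst hi
      rw [Nat.sub_self, pow_zero, mul_one, hfm.coeff_natDegree, map_one]
    · rcases lt_or_gt_of_ne hi with hlt | hgt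
      · have e : f.natDegree - i = (f.natDegree - i - 1) + 1 := by omega
        have hres_t' : (res : P.O →+* κ) t' = 0 := hres_t
        rw [e, pow_succ, ← mul_assoc, map_mul, hres_t', mul_zero]
      · rw [Polynomial.coeff_eq_zero_of_natDegree_lt hgt, zero_mul, map_zero]
  have hnil : (ρ u) ^ f.natDegree = 0 := by
    have h1 : ρ (Polynomial.aeval u q) = 0 := by rw [hq1, map_zero]
    rw [Polynomial.aeval_def] at h1
    have h2 := Polynomial.hom_eval₂ q (algebraMap P.O (P.O ⊗[k] k'))
      (ρ : (P.O ⊗[k] k') →+* (κ ⊗[k] k')) u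
    have hcomp : (ρ : (P.O ⊗[k] k') →+* (κ ⊗[k] k')).comp
        (algebraMap P.O (P.O ⊗[k] k')) =
        (algebraMap κ (κ ⊗[k] k')).comp (res : P.O →+* κ) := by
      ext x
      rfl
    rw [hcomp, ← Polynomial.eval₂_map, hqmap, Polynomial.eval₂_X_pow] at h2
    exact h2.symm.trans h1
  have hρ0 : ρ u = 0 := IsNilpotent.eq_zero ⟨_, hnil⟩
  rw [hρu] at hρ0
  have hli := bR.linearIndependent
  rw [Fintype.linearIndependent_iff] at hli
  intro i
  have h0 := hli _ hρ0 i
  exact (hres _).1 h0

theorem isReduced_tensor_of_isSeparable (κ : Type*) [Field κ] [Algebra k κ]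
    [Algebra.IsSeparable k k'] [FiniteDimensional k k'] : IsReduced (κ ⊗[k] k') := by
  haveI : Algebra.FormallyUnramified k k' := Algebra.FormallyUnramified.of_isSeparable k k'
  exact Algebra.FormallyUnramified.isReduced_of_field κ (κ ⊗[k] k')

/-- A separable finite constant extension is nonsingular at every place. -/
theorem locIndep_const_of_isSeparable_ext [Algebra.IsSeparable k k'] (hK : IsFunctionField k K)
    (P : Place k K)
    {n : ℕ} (c : Module.Basis (Fin n) k k') (bE : Module.Basis (Fin n) K K')
    (hbE : ∀ i, bE i = algebraMap k' K' (c i)) (Qs : Finset (Place k K'))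
    (hQs : ∀ Q, Q ∈ Qs ↔ IsOver Q P) : LocIndep Qs P bE := by
  have : FiniteDimensional k k' := Module.Finite.of_basis c
  exact locIndep_const_of_isReduced hK P (IsLocalRing.ResidueField P.O)
    (isReduced_tensor_of_isSeparable _)
    { IsLocalRing.residue P.O with commutes' := fun _ => rfl }
    (fun x => Place.residue_eq_zero_iff P x) c bE hbE Qs hQs

end Reduced

section NSLoc

variable {k : Type u} {F : Type v} {E : Type w} [Field k] [Field F] [Field E]
  [Algebra k F] [Algebra F E] [Algebra k E] [IsScalarTower k F E]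

theorem NS_of_locIndep [FiniteDimensional F E] {n : ℕ} (bE : Module.Basis (Fin n) F E)
    (P : Place k F) (Qs : Finset (Place k E)) (hQs : ∀ Q, Q ∈ Qs ↔ IsOver Q P)
    (hli : LocIndep Qs P bE) : NS bE P := by
  intro z hz i
  have hn : Module.finrank F E = n := by
    rw [Module.finrank_eq_card_basis bE, Fintype.card_fin]
  have hzO : z ∈ semiO Qs := by
    rw [mem_semiO]
    exact fun Q hQ => hz Q ((hQs Q).1 hQ)
  obtain ⟨a, ha, hza⟩ := LocIndep.exists_repr (fun Q hQ => (hQs Q).1 hQ) hn hli hzO
  have : bE.repr z i = a i := by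
    have e : z = ∑ j, a j • bE j := by
      rw [hza]
      refine Finset.sum_congr rfl fun j _ => ?_
      rw [Algebra.smul_def]
    rw [e, bE.repr_sum_self]
  rw [this]
  exact ha i

end NSLoc

section SepGenus

variable {k k' : Type u} {K : Type v} {K' : Type w} [Field k] [Field k'] [Field K] [Field K']
  [Algebra k k'] [Algebra k K] [Algebra K K'] [Algebra k' K'] [Algebra k K']
  [IsScalarTower k k' K'] [IsScalarTower k K K'] [FiniteDimensional k k']

theorem NS_of_isSeparable [Algebra.IsSeparable k k'] [FiniteDimensional K K']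
    (hK : IsFunctionField k K) {n : ℕ} (c : Module.Basis (Fin n) k k')
    (bE : Module.Basis (Fin n) K K') (hbE : ∀ i, bE i = algebraMap k' K' (c i))
    (P : Place k K) : NS bE P := by
  classical
  have hfin := finite_places_over' (E := K') hK P
  have hQs : ∀ Q, Q ∈ hfin.toFinset ↔ IsOver Q P := fun Q => Set.Finite.mem_toFinset hfin
  exact NS_of_locIndep bE P hfin.toFinset hQs
    (locIndep_const_of_isSeparable_ext hK P c bE hbE hfin.toFinset hQs)

/-- A separable constant extension does not change the genus. -/
theorem genus_eq_of_isSeparable [Algebra.IsSeparable k k']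
    (h : Function.Bijective (Algebra.TensorProduct.productMap
      (IsScalarTower.toAlgHom k k' K') (IsScalarTower.toAlgHom k K K')))
    (hK : IsFunctionField k K) (hg : IsGeometric k K) : genus k' K' = genus k K := by
  classical
  obtain ⟨n, hn⟩ : ∃ n, Module.finrank k k' = n := ⟨_, rfl⟩
  let c : Module.Basis (Fin n) k k' := Module.finBasisOfFinrankEq k k' hn
  obtain ⟨bE, hbE⟩ := FF.exists_const_basis h c
  haveI : FiniteDimensional K K' := Module.Finite.of_basis bE
  exact genus_eq_of_NS h hK hg c bE hbE (fun P => NS_of_isSeparable hK c bE hbE P)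

end SepGenus

section Translate

variable {k k' : Type u} {K : Type v} {K' : Type w} [Field k] [Field k'] [Field K] [Field K']
  [Algebra k k'] [Algebra k K] [Algebra K K'] [Algebra k' K'] [Algebra k K']
  [IsScalarTower k k' K'] [IsScalarTower k K K'] [FiniteDimensional k k']

theorem isIntegral_subring_of_isAlgebraic (P : Place k K) {x : K'} (hx : IsIntegral k x) :
    IsIntegral (P.O.toSubring.map (algebraMap K K')) x := by
  obtain ⟨p, hpm, hp⟩ := hx
  let j : k →+* (P.O.toSubring.map (algebraMap K K')) :=
    (algebraMap k K').codRestrict _ (fun a => by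
      rw [IsScalarTower.algebraMap_apply k K K']
      exact ⟨algebraMap k K a, P.2.1 a, rfl⟩)
  refine ⟨p.map j, hpm.map j, ?_⟩
  rw [Polynomial.eval₂_map]
  exact hp

/-- Nonsingularity in the integral-closure form. -/
theorem integralClosure_eq_adjoin_of_NS [FiniteDimensional K K'] {n : ℕ}
    (c : Module.Basis (Fin n) k k') (bE : Module.Basis (Fin n) K K')
    (hbE : ∀ i, bE i = algebraMap k' K' (c i)) (P : Place k K) (hNS : NS bE P) :
    integralClosure (P.O.toSubring.map (algebraMap K K')) K' =
      Algebra.adjoin (P.O.toSubring.map (algebraMap K K')) (Set.range (algebraMap k' K')) := by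
  apply le_antisymm
  · intro z hz
    have hzint : IsIntegral (P.O.toSubring.map (algebraMap K K')) z := hz
    have hval : ∀ Q : Place k K', IsOver Q P → Q.1 z ≤ 1 := by
      intro Q hQ
      obtain ⟨e, he⟩ := hQ
      apply val_le_one_of_isIntegral Q.1 _ hzint
      rintro ⟨_, x, hx, rfl⟩
      show Q.1 (algebraMap K K' x) ≤ 1
      rw [he]
      exact pow_le_one' hx e
    have ha := hNS z hval
    rw [← bE.sum_repr z]
    refine Subalgebra.sum_mem _ fun i _ => ?_
    have e : bE.repr z i • bE i =
        (⟨algebraMap K K' (bE.repr z i), bE.repr z i, ha i, rfl⟩ :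
          P.O.toSubring.map (algebraMap K K')) • bE i := by
      rw [Algebra.smul_def, Algebra.smul_def]
      rfl
    rw [e]
    refine Subalgebra.smul_mem _ ?_ _
    rw [hbE]
    exact Algebra.subset_adjoin ⟨c i, rfl⟩
  · apply Algebra.adjoin_le
    rintro _ ⟨a, rfl⟩
    have h1 : IsIntegral k (algebraMap k' K' a) :=
      (Algebra.IsIntegral.isIntegral (R := k) a).algebraMap
    exact isIntegral_subring_of_isAlgebraic P h1

end Translate

section FieldTheory

variable {k N : Type*} [Field k] [Field N] [Algebra k N]

/-- The fixed field of the full automorphism group of a normal extension is purely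
inseparable over the base. -/
theorem isPurelyInseparable_fixedField [FiniteDimensional k N] [Normal k N] :
    IsPurelyInseparable k (IntermediateField.fixedField (⊤ : Subgroup (N ≃ₐ[k] N))) := by
  classical
  rw [isPurelyInseparable_iff_natSepDegree_eq_one]
  intro x
  have hint : IsIntegral k (x : N) := Algebra.IsIntegral.isIntegral _
  rw [IntermediateField.minpoly_eq,
    Polynomial.natSepDegree_eq_of_splits (minpoly k (x : N)) (Normal.splits inferInstance (x : N))]
  have hroots : ((minpoly k (x : N)).aroots N).toFinset = {(x : N)} := by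
    ext y
    rw [Multiset.mem_toFinset, Polynomial.mem_aroots, Finset.mem_singleton]
    constructor
    · rintro ⟨-, hy⟩
      obtain ⟨σ, hσ⟩ := minpoly.exists_algEquiv_of_root' hint.isAlgebraic hy
      have hx := (IntermediateField.mem_fixedField_iff _ (x : N)).1 x.2 σ (Subgroup.mem_top σ)
      rw [← hσ, hx]
    · rintro rfl
      exact ⟨minpoly.ne_zero hint, minpoly.aeval k (x : N)⟩
  rw [hroots, Finset.card_singleton]

theorem isGalois_fixedField_top [FiniteDimensional k N] :
    IsGalois (IntermediateField.fixedField (⊤ : Subgroup (N ≃ₐ[k] N))) N :=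
  IsGalois.of_fixed_field N (⊤ : Subgroup (N ≃ₐ[k] N))

end FieldTheory

end CExt

end Groth.Agent.Lib.helper10
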