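import Groth.Agent.Lib.Helper10.CExt7

/-!
Constant field extensions of function fields of one variable (helper10), part 8: genus bounds in
a two-step tower of constant extensions.
-/

set_option autoImplicit false
set_option linter.unusedSectionVars false
set_option linter.style.haveILetI false

universe u v w w' w''

open IntermediateField FunFld TensorProduct Polynomial

namespace Groth.Agent.Lib.helper10

namespace CExt

open FF RD PA

section Tower2

variable {k k' k'' : Type u} {K : Type v} {K' : Type w} {K'' : Type w'}
  [Field k] [Field k'] [Field k''] [Field K] [Field K'] [Field K'']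
  [Algebra k k'] [Algebra k K] [Algebra K K'] [Algebra k' K'] [Algebra k K']
  [IsScalarTower k k' K'] [IsScalarTower k K K'] [FiniteDimensional k k']
  [Algebra k' k''] [FiniteDimensional k' k''] [Algebra K' K''] [Algebra k'' K''] [Algebra k' K'']
  [IsScalarTower k' k'' K''] [IsScalarTower k' K' K'']

/-- In a two-step tower the top is a model over the bottom, for suitable composite structures:
consequences for the genus. -/
theorem genus_tower_ge
    (h' : Function.Bijective (Algebra.TensorProduct.productMap
      (IsScalarTower.toAlgHom k k' K') (IsScalarTower.toAlgHom k K K')))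
    (h'' : Function.Bijective (Algebra.TensorProduct.productMap
      (IsScalarTower.toAlgHom k' k'' K'') (IsScalarTower.toAlgHom k' K' K'')))
    (hK : IsFunctionField k K) (hg : IsGeometric k K)
    {k₁ : Type u} {K₁ : Type w''} [Field k₁] [Field K₁] [Algebra k₁ K₁]
    (hmin : IsMinGenus k K k₁ K₁) : genus k₁ K₁ ≤ genus k'' K'' := by
  letI : Algebra k k'' := ((algebraMap k' k'').comp (algebraMap k k')).toAlgebra
  haveI : IsScalarTower k k' k'' := IsScalarTower.of_algebraMap_eq (fun _ => rfl)
  letI : Algebra K K'' := ((algebraMap K' K'').comp (algebraMap K K')).toAlgebra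
  haveI : IsScalarTower K K' K'' := IsScalarTower.of_algebraMap_eq (fun _ => rfl)
  letI : Algebra k K'' := ((algebraMap k' K'').comp (algebraMap k k')).toAlgebra
  haveI : IsScalarTower k k' K'' := IsScalarTower.of_algebraMap_eq (fun _ => rfl)
  haveI : IsScalarTower k k'' K'' := IsScalarTower.of_algebraMap_eq (fun c => by
    show algebraMap k' K'' (algebraMap k k' c) = algebraMap k'' K'' (algebraMap k' k'' (algebraMap k k' c))
    rw [← IsScalarTower.algebraMap_apply k' k'' K''])
  haveI : IsScalarTower k K K'' := IsScalarTower.of_algebraMap_eq (fun c => by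
    show algebraMap k' K'' (algebraMap k k' c) = algebraMap K' K'' (algebraMap K K' (algebraMap k K c))
    rw [← IsScalarTower.algebraMap_apply k K K', IsScalarTower.algebraMap_apply k k' K',
      ← IsScalarTower.algebraMap_apply k' K' K''])
  haveI : FiniteDimensional k k'' := Module.Finite.trans k' k''
  have h₂ := model_comp h' h'' hg
  exact hmin.le hK hg k'' K'' h₂

theorem genus_tower_le
    (h' : Function.Bijective (Algebra.TensorProduct.productMap
      (IsScalarTower.toAlgHom k k' K') (IsScalarTower.toAlgHom k K K')))
    (h'' : Function.Bijective (Algebra.TensorProduct.productMap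
      (IsScalarTower.toAlgHom k' k'' K'') (IsScalarTower.toAlgHom k' K' K'')))
    (hK : IsFunctionField k K) (hg : IsGeometric k K)
    {k₁ : Type u} {K₁ : Type w''} [Field k₁] [Field K₁] [Algebra k k₁] [Algebra K K₁]
    [Algebra k₁ K₁] [Algebra k K₁] [IsScalarTower k k₁ K₁] [IsScalarTower k K K₁]
    [FiniteDimensional k k₁]
    (h₁ : Function.Bijective (Algebra.TensorProduct.productMap
      (IsScalarTower.toAlgHom k k₁ K₁) (IsScalarTower.toAlgHom k K K₁)))
    (φ : k₁ →+* k'')
    (hφ : ∀ c : k, φ (algebraMap k k₁ c) = algebraMap k' k'' (algebraMap k k' c)) :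
    genus k'' K'' ≤ genus k₁ K₁ := by
  letI : Algebra k k'' := ((algebraMap k' k'').comp (algebraMap k k')).toAlgebra
  haveI : IsScalarTower k k' k'' := IsScalarTower.of_algebraMap_eq (fun _ => rfl)
  letI : Algebra K K'' := ((algebraMap K' K'').comp (algebraMap K K')).toAlgebra
  haveI : IsScalarTower K K' K'' := IsScalarTower.of_algebraMap_eq (fun _ => rfl)
  letI : Algebra k K'' := ((algebraMap k' K'').comp (algebraMap k k')).toAlgebra
  haveI : IsScalarTower k k' K'' := IsScalarTower.of_algebraMap_eq (fun _ => rfl)
  haveI : IsScalarTower k k'' K'' := IsScalarTower.of_algebraMap_eq (fun c => by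
    show algebraMap k' K'' (algebraMap k k' c) = algebraMap k'' K'' (algebraMap k' k'' (algebraMap k k' c))
    rw [← IsScalarTower.algebraMap_apply k' k'' K''])
  haveI : IsScalarTower k K K'' := IsScalarTower.of_algebraMap_eq (fun c => by
    show algebraMap k' K'' (algebraMap k k' c) = algebraMap K' K'' (algebraMap K K' (algebraMap k K c))
    rw [← IsScalarTower.algebraMap_apply k K K', IsScalarTower.algebraMap_apply k k' K',
      ← IsScalarTower.algebraMap_apply k' K' K''])
  haveI : FiniteDimensional k k'' := Module.Finite.trans k' k''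
  have h₂ := model_comp h' h'' hg
  let φ' : k₁ →ₐ[k] k'' := { φ with commutes' := hφ }
  exact genus_le_of_algHom h₁ h₂ hK hg φ'

end Tower2

section NormalPI

/-- Every finite extension embeds in a finite normal extension `N` which is Galois over a purely
inseparable subextension. -/
theorem exists_normal_pi (k k₁ : Type u) [Field k] [Field k₁] [Algebra k k₁]
    [FiniteDimensional k k₁] :
    ∃ (N : Type u) (_ : Field N) (_ : Algebra k N) (_ : FiniteDimensional k N)
      (M : IntermediateField k N), IsPurelyInseparable k M ∧ IsGalois M N ∧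
        Nonempty (k₁ →ₐ[k] N) := by
  haveI : Algebra.IsAlgebraic k k₁ := Algebra.IsAlgebraic.of_finite k k₁
  let f₀ : k₁ →ₐ[k] AlgebraicClosure k := IsAlgClosed.lift
  obtain ⟨N, hN⟩ : ∃ N : IntermediateField k (AlgebraicClosure k),
      N = IntermediateField.normalClosure k k₁ (AlgebraicClosure k) := ⟨_, rfl⟩
  haveI : Normal k N := by
    rw [hN]
    exact normalClosure.normal k k₁ (AlgebraicClosure k)
  haveI : FiniteDimensional k N := by
    rw [hN]
    exact normalClosure.is_finiteDimensional k k₁ (AlgebraicClosure k)
  refine ⟨N, inferInstance, inferInstance, inferInstance,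
    IntermediateField.fixedField (⊤ : Subgroup (N ≃ₐ[k] N)), isPurelyInseparable_fixedField,
    isGalois_fixedField_top, ⟨?_⟩⟩
  exact AlgHom.codRestrict f₀ N.toSubalgebra (fun x => by
    rw [hN]
    exact AlgHom.fieldRange_le_normalClosure f₀ ⟨x, rfl⟩)

end NormalPI

end CExt

end Groth.Agent.Lib.helper10
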