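import Groth.Agent.Lib.Helper10.CExt8

/-!
Constant field extensions of function fields of one variable (helper10), part 9: from the
integral-closure form of nonsingularity back to coordinates.
-/

set_option autoImplicit false
set_option linter.unusedSectionVars false
set_option linter.style.haveILetI false

universe u v w w'

open IntermediateField FunFld TensorProduct Polynomial

namespace Groth.Agent.Lib.helper10

namespace CExt

open FF RD PA

section Converse

variable {k k' : Type u} {K : Type v} {K' : Type w} [Field k] [Field k'] [Field K] [Field K']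
  [Algebra k k'] [Algebra k K] [Algebra K K'] [Algebra k' K'] [Algebra k K']
  [IsScalarTower k k' K'] [IsScalarTower k K K'] [FiniteDimensional k k']

theorem repr_algebraMap_const {n : ℕ} (c : Module.Basis (Fin n) k k')
    (bE : Module.Basis (Fin n) K K') (hbE : ∀ i, bE i = algebraMap k' K' (c i)) (a : k')
    (i : Fin n) : bE.repr (algebraMap k' K' a) i = algebraMap k K (c.repr a i) :=
  repr_map_eq (IsScalarTower.toAlgHom k k' K') c bE (fun i => (hbE i).symm) a i

/-- The coordinates of elements of `O_P[k']` are integral at `P`. -/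
theorem repr_le_one_of_mem_adjoin {n : ℕ} (c : Module.Basis (Fin n) k k')
    (bE : Module.Basis (Fin n) K K') (hbE : ∀ i, bE i = algebraMap k' K' (c i)) (P : Place k K)
    {z : K'} (hz : z ∈ Algebra.adjoin (P.O.toSubring.map (algebraMap K K'))
      (Set.range (algebraMap k' K'))) (i : Fin n) : P.1 (bE.repr z i) ≤ 1 := by
  have hgen : ∀ (a : k') (l : Fin n), P.1 (bE.repr (algebraMap k' K' a) l) ≤ 1 := by
    intro a l
    rw [repr_algebraMap_const c bE hbE]
    exact P.2.1 _
  induction hz using Algebra.adjoin_induction generalizing i with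
  | mem x hx =>
    obtain ⟨a, rfl⟩ := hx
    exact hgen a i
  | algebraMap r =>
    obtain ⟨_, x, hx, rfl⟩ := r
    have e : algebraMap (P.O.toSubring.map (algebraMap K K')) K'
        ⟨algebraMap K K' x, x, hx, rfl⟩ = x • algebraMap k' K' 1 := by
      rw [map_one, Algebra.smul_def, mul_one]
      rfl
    rw [e, map_smul, Finsupp.smul_apply, smul_eq_mul, map_mul]
    exact mul_le_one' hx (hgen 1 i)
  | add x y _ _ hx hy =>
    rw [map_add, Finsupp.add_apply]
    exact (P.1.map_add _ _).trans (max_le (hx i) (hy i))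
  | mul x y _ _ hx hy =>
    have hxe : x = ∑ j, bE.repr x j • bE j := (bE.sum_repr x).symm
    have hye : y = ∑ l, bE.repr y l • bE l := (bE.sum_repr y).symm
    have hprod : x * y = ∑ j, ∑ l, (bE.repr x j * bE.repr y l) • (bE j * bE l) := by
      conv_lhs => rw [hxe, hye]
      rw [Finset.sum_mul_sum]
      refine Finset.sum_congr rfl fun j _ => Finset.sum_congr rfl fun l _ => ?_
      rw [smul_mul_smul_comm]
    rw [hprod, map_sum, Finsupp.finsetSum_apply]
    refine Valuation.map_sum_le _ fun j _ => ?_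
    rw [map_sum, Finsupp.finsetSum_apply]
    refine Valuation.map_sum_le _ fun l _ => ?_
    rw [map_smul, Finsupp.smul_apply, smul_eq_mul, hbE, hbE, ← map_mul (algebraMap k' K'),
      map_mul, map_mul]
    exact mul_le_one' (mul_le_one' (hx j) (hy l)) (hgen _ i)

/-- The integral-closure form of nonsingularity implies the coordinate form. -/
theorem NS_of_integralClosure_eq_adjoin [FiniteDimensional K K'] (hK : IsFunctionField k K)
    {n : ℕ} (c : Module.Basis (Fin n) k k') (bE : Module.Basis (Fin n) K K')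
    (hbE : ∀ i, bE i = algebraMap k' K' (c i)) (P : Place k K)
    (hns : integralClosure (P.O.toSubring.map (algebraMap K K')) K' =
      Algebra.adjoin (P.O.toSubring.map (algebraMap K K')) (Set.range (algebraMap k' K'))) :
    NS bE P := by
  classical
  intro z hz i
  letI : Algebra P.O K' := ((algebraMap K K').comp (algebraMap P.O K)).toAlgebra
  haveI : IsScalarTower P.O K K' := IsScalarTower.of_algebraMap_eq (fun _ => rfl)
  have hfin := finite_places_over' (E := K') hK P
  have hQs : ∀ Q, Q ∈ hfin.toFinset ↔ IsOver Q P := fun Q => Set.Finite.mem_toFinset hfin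
  have hzO : z ∈ semiO hfin.toFinset := by
    rw [mem_semiO]
    exact fun Q hQ => hz Q ((hQs Q).1 hQ)
  obtain ⟨p, hpm, hp⟩ := isIntegral_of_mem_semiO hK P hfin.toFinset hQs hzO
  let φ : P.O →+* (P.O.toSubring.map (algebraMap K K')) :=
    { toFun := fun x => ⟨algebraMap K K' x.1, x.1, x.2, rfl⟩
      map_one' := Subtype.ext (map_one _)
      map_mul' := fun a b => Subtype.ext (map_mul _ _ _)
      map_zero' := Subtype.ext (map_zero _)
      map_add' := fun a b => Subtype.ext (map_add _ _ _) }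
  have hint : IsIntegral (P.O.toSubring.map (algebraMap K K')) z := by
    refine ⟨p.map φ, hpm.map φ, ?_⟩
    rw [Polynomial.eval₂_map]
    exact hp
  have hmem : z ∈ integralClosure (P.O.toSubring.map (algebraMap K K')) K' := hint
  rw [hns] at hmem
  exact repr_le_one_of_mem_adjoin c bE hbE P hmem i

end Converse

section Tau

variable {k k' : Type u} {K : Type v} {K' : Type w} [Field k] [Field k'] [Field K] [Field K']
  [Algebra k k'] [Algebra k K] [Algebra K K'] [Algebra k' K'] [Algebra k K']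
  [IsScalarTower k k' K'] [IsScalarTower k K K'] [FiniteDimensional k k']

theorem algebraMap_residue_bijective {Q : Place k' K'} (hdeg : Q.deg = 1) :
    Function.Bijective (algebraMap k' (IsLocalRing.ResidueField Q.O)) := by
  refine ⟨(algebraMap k' (IsLocalRing.ResidueField Q.O)).injective, ?_⟩
  have h1 : (⊥ : Subalgebra k' (IsLocalRing.ResidueField Q.O)) = ⊤ :=
    Subalgebra.bot_eq_top_iff_finrank_eq_one.mpr hdeg
  intro ξ
  have h2 : ξ ∈ (⊥ : Subalgebra k' (IsLocalRing.ResidueField Q.O)) := by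
    rw [h1]
    trivial
  exact Algebra.mem_bot.mp h2

/-- A degree one place `Q` above `P` gives an embedding of the residue field of `P` into `k'`. -/
theorem exists_tau {P : Place k K} {Q : Place k' K'} (hdeg : Q.deg = 1)
    (hQ : IsOver (Place.down (k := k) Q) P) :
    ∃ τ : IsLocalRing.ResidueField P.O →ₐ[k] k',
      ∀ α, algebraMap k' (IsLocalRing.ResidueField Q.O) (τ α) = Place.mapRes hQ α := by
  letI : Algebra k (IsLocalRing.ResidueField Q.O) := Place.algRes (Place.down (k := k) Q)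
  haveI : IsScalarTower k k' (IsLocalRing.ResidueField Q.O) := isScalarTower_residue Q
  let e : k' ≃ₐ[k'] IsLocalRing.ResidueField Q.O :=
    AlgEquiv.ofBijective (Algebra.ofId k' _) (algebraMap_residue_bijective hdeg)
  let σ : IsLocalRing.ResidueField P.O →ₐ[k] IsLocalRing.ResidueField Q.O := Place.mapRes hQ
  refine ⟨((e.symm : IsLocalRing.ResidueField Q.O →ₐ[k'] k').restrictScalars k).comp σ, ?_⟩
  intro α
  show algebraMap k' _ (e.symm (σ α)) = σ α
  exact e.apply_symm_apply (σ α)

/-- The residue at `Q` of an `O_P`-combination of the constant basis. -/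
theorem residue_sum_eq {P : Place k K} {Q : Place k' K'}
    (hQ : IsOver (Place.down (k := k) Q) P) {n : ℕ}
    (c : Module.Basis (Fin n) k k') (bE : Module.Basis (Fin n) K K')
    (hbE : ∀ i, bE i = algebraMap k' K' (c i))
    (τ : IsLocalRing.ResidueField P.O →ₐ[k] k')
    (hτ : ∀ α, algebraMap k' (IsLocalRing.ResidueField Q.O) (τ α) = Place.mapRes hQ α)
    (a : Fin n → K) (ha : ∀ i, P.1 (a i) ≤ 1) :
    ∃ hw : Q.1 (∑ i, algebraMap K K' (a i) * bE i) ≤ 1,
      IsLocalRing.residue Q.O ⟨∑ i, algebraMap K K' (a i) * bE i, hw⟩ =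
        algebraMap k' (IsLocalRing.ResidueField Q.O)
          (∑ i, τ (IsLocalRing.residue P.O ⟨a i, ha i⟩) * c i) := by
  classical
  have hbQ : ∀ i, Q.1 (bE i) ≤ 1 := by
    intro i
    rw [hbE]
    exact Q.2.1 (c i)
  have haQ : ∀ i, Q.1 (algebraMap K K' (a i)) ≤ 1 := by
    intro i
    exact (Place.mapO hQ ⟨a i, ha i⟩).2
  have hw : Q.1 (∑ i, algebraMap K K' (a i) * bE i) ≤ 1 := by
    refine Valuation.map_sum_le _ fun i _ => ?_
    rw [map_mul]
    exact mul_le_one' (haQ i) (hbQ i)
  refine ⟨hw, ?_⟩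
  have e2 : (⟨∑ i, algebraMap K K' (a i) * bE i, hw⟩ : Q.O) =
      ∑ i, (⟨algebraMap K K' (a i), haQ i⟩ : Q.O) * ⟨bE i, hbQ i⟩ := by
    apply Subtype.ext
    rw [AddSubmonoidClass.coe_finsetSum]
    rfl
  rw [e2, map_sum, map_sum]
  refine Finset.sum_congr rfl fun i _ => ?_
  rw [map_mul, map_mul, hτ]
  congr 1
  show _ = IsLocalRing.residue Q.O (algebraMap k' Q.O (c i))
  congr 1
  apply Subtype.ext
  exact hbE i


/-- Distinct degree one places above a nonsingular place give distinct embeddings. -/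
theorem tau_ne_of_ne [FiniteDimensional K K'] (hK : IsFunctionField k K) {n : ℕ}
    (c : Module.Basis (Fin n) k k') (bE : Module.Basis (Fin n) K K')
    (hbE : ∀ i, bE i = algebraMap k' K' (c i)) {P : Place k K} (hNS : NS bE P)
    {Q₁ Q₂ : Place k' K'} (hQ₁ : IsOver (Place.down (k := k) Q₁) P)
    (hQ₂ : IsOver (Place.down (k := k) Q₂) P) (hne : Q₁ ≠ Q₂)
    (τ₁ τ₂ : IsLocalRing.ResidueField P.O →ₐ[k] k')
    (hτ₁ : ∀ α, algebraMap k' (IsLocalRing.ResidueField Q₁.O) (τ₁ α) = Place.mapRes hQ₁ α)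
    (hτ₂ : ∀ α, algebraMap k' (IsLocalRing.ResidueField Q₂.O) (τ₂ α) = Place.mapRes hQ₂ α) :
    τ₁ ≠ τ₂ := by
  classical
  intro heq
  have hfin := finite_places_over' (E := K') hK P
  have hQs : ∀ Q, Q ∈ hfin.toFinset ↔ IsOver Q P := fun Q => Set.Finite.mem_toFinset hfin
  have hne' : Place.down (k := k) Q₂ ≠ Place.down (k := k) Q₁ := fun h =>
    hne (Place.down_injective h).symm
  have hexp : (WithZero.exp (-((1 : ℕ) : ℤ)) : WithZero (Multiplicative ℤ)) < 1 := by
    rw [← WithZero.exp_zero, WithZero.exp_lt_exp]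
    norm_num
  obtain ⟨z, hz⟩ := FF.weak_approx hfin.toFinset
    (fun Q' => if Q' = Place.down (k := k) Q₁ then (1 : K') else 0) 1
  have hz1 : Q₁.1 (z - 1) < 1 := by
    have := hz _ ((hQs _).2 hQ₁)
    rw [if_pos rfl] at this
    exact lt_of_le_of_lt this hexp
  have hz2 : Q₂.1 z < 1 := by
    have := hz _ ((hQs _).2 hQ₂)
    rw [if_neg hne', sub_zero] at this
    exact lt_of_le_of_lt this hexp
  have hzO : ∀ Q : Place k K', IsOver Q P → Q.1 z ≤ 1 := by
    intro Q hQ
    have h1 := hz Q ((hQs Q).2 hQ)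
    by_cases hQQ : Q = Place.down (k := k) Q₁
    · rw [if_pos hQQ] at h1
      have e : z = (z - 1) + 1 := by ring
      rw [e]
      exact (Valuation.map_add _ _ _).trans (max_le (h1.trans hexp.le) (by rw [map_one]))
    · rw [if_neg hQQ, sub_zero] at h1
      exact h1.trans hexp.le
  have ha := hNS z hzO
  have hsum : ∑ i, algebraMap K K' (bE.repr z i) * bE i = z := by
    conv_rhs => rw [← bE.sum_repr z]
    refine Finset.sum_congr rfl fun i _ => ?_
    rw [Algebra.smul_def]
  obtain ⟨hw₁, hr₁⟩ := residue_sum_eq hQ₁ c bE hbE τ₁ hτ₁ (fun i => bE.repr z i) ha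
  obtain ⟨hw₂, hr₂⟩ := residue_sum_eq hQ₂ c bE hbE τ₂ hτ₂ (fun i => bE.repr z i) ha
  rw [← heq] at hr₂
  obtain ⟨w, hw⟩ : ∃ w : k', w = ∑ i, τ₁ (IsLocalRing.residue P.O ⟨bE.repr z i, ha i⟩) * c i :=
    ⟨_, rfl⟩
  rw [← hw] at hr₁ hr₂
  have h1 : IsLocalRing.residue Q₁.O ⟨∑ i, algebraMap K K' (bE.repr z i) * bE i, hw₁⟩ = 1 := by
    rw [← sub_eq_zero, ← map_one (IsLocalRing.residue Q₁.O), ← map_sub,
      FF.Place.residue_eq_zero_iff]
    show Q₁.1 (∑ i, algebraMap K K' (bE.repr z i) * bE i - 1) < 1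
    rw [hsum]
    exact hz1
  have h2 : IsLocalRing.residue Q₂.O ⟨∑ i, algebraMap K K' (bE.repr z i) * bE i, hw₂⟩ = 0 := by
    rw [FF.Place.residue_eq_zero_iff]
    show Q₂.1 (∑ i, algebraMap K K' (bE.repr z i) * bE i) < 1
    rw [hsum]
    exact hz2
  rw [hr₁] at h1
  rw [hr₂] at h2
  have hw1 : w = 1 := by
    apply (algebraMap k' (IsLocalRing.ResidueField Q₁.O)).injective
    rw [h1, map_one]
  have hw0 : w = 0 := by
    apply (algebraMap k' (IsLocalRing.ResidueField Q₂.O)).injective
    rw [h2, map_zero]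
  rw [hw1] at hw0
  exact one_ne_zero hw0


/-- The number of degree one places above a nonsingular place is at most the separable degree
of the residue field. -/
theorem card_le_finSepDegree [FiniteDimensional K K'] (hK : IsFunctionField k K) {n : ℕ}
    (c : Module.Basis (Fin n) k k') (bE : Module.Basis (Fin n) K K')
    (hbE : ∀ i, bE i = algebraMap k' K' (c i)) {P : Place k K} (hNS : NS bE P)
    (S : Finset (Place k' K')) (hS : ∀ Q ∈ S, IsOver (Place.down (k := k) Q) P)
    (hdeg : ∀ Q ∈ S, Q.deg = 1) :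
    S.card ≤ Field.finSepDegree k (IsLocalRing.ResidueField P.O) := by
  classical
  have hfd := Place.finiteDimensional_residueField hK P
  haveI hfd' : @Module.Finite k (IsLocalRing.ResidueField P.O) _ _ (Place.algRes P).toModule :=
    hfd
  haveI : Algebra.IsAlgebraic k (IsLocalRing.ResidueField P.O) :=
    Algebra.IsAlgebraic.of_finite k _
  rw [Field.finSepDegree_eq_of_isAlgClosed k (IsLocalRing.ResidueField P.O)
    (AlgebraicClosure k')]
  have hτ : ∀ Q : S, ∃ τ : IsLocalRing.ResidueField P.O →ₐ[k] k',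
      ∀ α, algebraMap k' (IsLocalRing.ResidueField Q.1.O) (τ α) =
        Place.mapRes (hS Q.1 Q.2) α := fun Q => exists_tau (hdeg Q.1 Q.2) (hS Q.1 Q.2)
  choose τ hτ' using hτ
  let T : S → (IsLocalRing.ResidueField P.O →ₐ[k] AlgebraicClosure k') := fun Q =>
    (IsScalarTower.toAlgHom k k' (AlgebraicClosure k')).comp (τ Q)
  have hT : Function.Injective T := by
    intro Q₁ Q₂ h12
    by_contra hne
    have hne' : Q₁.1 ≠ Q₂.1 := fun h => hne (Subtype.ext h)
    refine tau_ne_of_ne hK c bE hbE hNS (hS Q₁.1 Q₁.2) (hS Q₂.1 Q₂.2) hne' (τ Q₁) (τ Q₂)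
      (hτ' Q₁) (hτ' Q₂) ?_
    ext α
    have := congrArg (fun f => f α) h12
    exact (algebraMap k' (AlgebraicClosure k')).injective this
  have := Nat.card_le_card_of_injective T hT
  rwa [Nat.card_eq_fintype_card, Fintype.card_coe] at this


/-- If the residue of `y ∈ O_P` is separable over `k`, then `y - τ(ȳ)` vanishes to order at least
`e(Q|P)` at `Q`. -/
theorem val_sub_tau_le {P : Place k K} {Q : Place k' K'} {e : ℕ}
    (he : IsOverWith (Place.down (k := k) Q) P e)
    (τ : IsLocalRing.ResidueField P.O →ₐ[k] k')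
    (hτ : ∀ α, algebraMap k' (IsLocalRing.ResidueField Q.O) (τ α) = Place.mapRes ⟨e, he⟩ α)
    {y : K} (hy : P.1 y ≤ 1)
    (hsep : (minpoly k (IsLocalRing.residue P.O ⟨y, hy⟩)).Separable) :
    Q.1 (algebraMap K K' y - algebraMap k' K' (τ (IsLocalRing.residue P.O ⟨y, hy⟩))) ≤
      WithZero.exp (-(e : ℤ)) := by
  obtain ⟨ybar, hybar⟩ : ∃ ybar, ybar = IsLocalRing.residue P.O ⟨y, hy⟩ := ⟨_, rfl⟩
  rw [← hybar] at hsep ⊢
  obtain ⟨m, hm⟩ : ∃ m : k[X], m = minpoly k ybar := ⟨_, rfl⟩
  rw [← hm] at hsep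
  have hm0 : aeval ybar m = 0 := by rw [hm]; exact minpoly.aeval k ybar
  -- `m(y)` has positive order at `P`
  have h1 : P.1 (aeval y m) ≤ WithZero.exp (-1 : ℤ) := by
    rw [← lt_one_iff_le_exp_neg_one]
    have h2 := Place.residue_aeval P ⟨y, hy⟩ m
    rw [← hybar, hm0, FF.Place.residue_eq_zero_iff, Place.coe_aeval] at h2
    exact h2
  have h3 : Q.1 (algebraMap K K' (aeval y m)) ≤ WithZero.exp (-(e : ℤ)) := by
    have h4 := he (aeval y m)
    have h5 : (Place.down (k := k) Q).1 (algebraMap K K' (aeval y m)) =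
        Q.1 (algebraMap K K' (aeval y m)) := rfl
    rw [← h5, h4]
    calc P.1 (aeval y m) ^ e ≤ WithZero.exp (-1 : ℤ) ^ e := pow_le_pow_left₀ zero_le h1 e
      _ = WithZero.exp (-(e : ℤ)) := by
        rw [← WithZero.exp_nsmul, nsmul_eq_mul, mul_neg, mul_one]
  -- factor `m` over `k'`
  obtain ⟨r, hr⟩ : ∃ r : k', r = τ ybar := ⟨_, rfl⟩
  rw [← hr]
  have hroot : (m.map (algebraMap k k')).IsRoot r := by
    rw [Polynomial.IsRoot.def, Polynomial.eval_map_algebraMap, hr,
      Polynomial.aeval_algHom_apply, hm0, map_zero]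
  obtain ⟨h, hh⟩ : ∃ h : k'[X], m.map (algebraMap k k') = (X - C r) * h :=
    ⟨_, (Polynomial.mul_divByMonic_eq_iff_isRoot.mpr hroot).symm⟩
  have hhr : h.eval r ≠ 0 := by
    have hsep' : (m.map (algebraMap k k')).Separable := hsep.map
    have h6 := hsep'.eval₂_derivative_ne_zero (RingHom.id k') (x := r)
      (by rw [Polynomial.eval₂_id]; exact hroot)
    rw [Polynomial.eval₂_id, hh, Polynomial.derivative_mul, Polynomial.eval_add,
      Polynomial.eval_mul, Polynomial.eval_mul, Polynomial.eval_sub, Polynomial.eval_X,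
      Polynomial.eval_C, sub_self, zero_mul, add_zero, Polynomial.derivative_sub,
      Polynomial.derivative_X, Polynomial.derivative_C, sub_zero, Polynomial.eval_one,
      one_mul] at h6
    exact h6
  -- evaluate at `y` in `K'`
  have hyQ : Q.1 (algebraMap K K' y) ≤ 1 := (Place.mapO ⟨e, he⟩ ⟨y, hy⟩).2
  have hev : algebraMap K K' (aeval y m) =
      (algebraMap K K' y - algebraMap k' K' r) * aeval (algebraMap K K' y) h := by
    rw [← Polynomial.aeval_algebraMap_apply, ← Polynomial.aeval_map_algebraMap k', hh,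
      map_mul, map_sub, Polynomial.aeval_X, Polynomial.aeval_C]
  have hunit : Q.1 (aeval (algebraMap K K' y) h) = 1 := by
    have h7 := Place.coe_aeval Q ⟨algebraMap K K' y, hyQ⟩ h
    have h8 := Place.residue_aeval Q ⟨algebraMap K K' y, hyQ⟩ h
    have h9 : IsLocalRing.residue Q.O ⟨algebraMap K K' y, hyQ⟩ =
        algebraMap k' (IsLocalRing.ResidueField Q.O) r := by
      rw [hr, hτ, hybar]
      rfl
    rw [h9, Polynomial.aeval_algebraMap_apply_eq_algebraMap_eval] at h8
    have h10 : IsLocalRing.residue Q.O (aeval (⟨algebraMap K K' y, hyQ⟩ : Q.O) h) ≠ 0 := by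
      rw [h8]
      simpa using hhr
    rw [Ne, FF.Place.residue_eq_zero_iff, h7, not_lt] at h10
    have h11 : Q.1 (aeval (algebraMap K K' y) h) ≤ 1 := by
      rw [← h7]
      exact (aeval (⟨algebraMap K K' y, hyQ⟩ : Q.O) h).2
    exact le_antisymm h11 h10
  rw [hev, map_mul, hunit, mul_one] at h3
  exact h3


/-- The ramification index of a degree one place above a nonsingular place is at most the
inseparable degree of the residue field. -/
theorem ramIdx_le_finInsepDegree [FiniteDimensional K K'] (hK : IsFunctionField k K) {n : ℕ}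
    (c : Module.Basis (Fin n) k k') (bE : Module.Basis (Fin n) K K')
    (hbE : ∀ i, bE i = algebraMap k' K' (c i)) {P : Place k K} (hNS : NS bE P)
    {Q : Place k' K'} {e : ℕ} (he : IsOverWith (Place.down (k := k) Q) P e)
    (hdeg : Q.deg = 1) :
    e ≤ Module.finrank (separableClosure k (IsLocalRing.ResidueField P.O))
      (IsLocalRing.ResidueField P.O) := by
  classical
  have hfd := Place.finiteDimensional_residueField hK P
  haveI hfd' : @Module.Finite k (IsLocalRing.ResidueField P.O) _ _ (Place.algRes P).toModule :=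
    hfd
  haveI : Algebra.IsAlgebraic k (IsLocalRing.ResidueField P.O) :=
    Algebra.IsAlgebraic.of_finite k _
  obtain ⟨τ, hτ⟩ := exists_tau hdeg ⟨e, he⟩
  have hfin := finite_places_over' (E := K') hK P
  have hQs : ∀ Q', Q' ∈ hfin.toFinset ↔ IsOver Q' P := fun Q' => Set.Finite.mem_toFinset hfin
  obtain ⟨t, ht⟩ := Place.exists_uniformizer Q
  have hexp2 : (WithZero.exp (-((2 : ℕ) : ℤ)) : WithZero (Multiplicative ℤ)) <
      WithZero.exp (-1 : ℤ) := by
    rw [WithZero.exp_lt_exp]
    norm_num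
  have hexp1 : (WithZero.exp (-1 : ℤ) : WithZero (Multiplicative ℤ)) < 1 := by
    rw [← WithZero.exp_zero, WithZero.exp_lt_exp]
    norm_num
  obtain ⟨z, hz⟩ := FF.weak_approx hfin.toFinset
    (fun Q' => if Q' = Place.down (k := k) Q then t else 0) 2
  have hzt : Q.1 (z - t) ≤ WithZero.exp (-((2 : ℕ) : ℤ)) := by
    have := hz _ ((hQs _).2 ⟨e, he⟩)
    rwa [if_pos rfl] at this
  have hzQ : Q.1 z = WithZero.exp (-1 : ℤ) := by
    have e1 : z = (z - t) + t := by ring
    have hlt : Q.1 (z - t) < Q.1 t := by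
      rw [ht]
      exact lt_of_le_of_lt hzt hexp2
    rw [e1, Valuation.map_add_eq_of_lt_right _ hlt, ht]
  have hzO : ∀ Q' : Place k K', IsOver Q' P → Q'.1 z ≤ 1 := by
    intro Q' hQ'
    have h1 := hz Q' ((hQs Q').2 hQ')
    by_cases hQQ : Q' = Place.down (k := k) Q
    · rw [hQQ]
      show Q.1 z ≤ 1
      rw [hzQ]
      exact hexp1.le
    · rw [if_neg hQQ, sub_zero] at h1
      exact h1.trans (hexp2.le.trans hexp1.le)
  have ha := hNS z hzO
  have hsum : ∑ i, algebraMap K K' (bE.repr z i) * bE i = z := by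
    conv_rhs => rw [← bE.sum_repr z]
    refine Finset.sum_congr rfl fun i _ => ?_
    rw [Algebra.smul_def]
  obtain ⟨hw, hr⟩ := residue_sum_eq ⟨e, he⟩ c bE hbE τ hτ (fun i => bE.repr z i) ha
  have hw0 : ∑ i, τ (IsLocalRing.residue P.O ⟨bE.repr z i, ha i⟩) * c i = 0 := by
    apply (algebraMap k' (IsLocalRing.ResidueField Q.O)).injective
    rw [← hr, map_zero, FF.Place.residue_eq_zero_iff]
    show Q.1 (∑ i, algebraMap K K' (bE.repr z i) * bE i) < 1
    rw [hsum, hzQ]
    exact hexp1
  -- the elements `u i`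
  have hzu : z = ∑ i, (algebraMap K K' (bE.repr z i) -
      algebraMap k' K' (τ (IsLocalRing.residue P.O ⟨bE.repr z i, ha i⟩))) * bE i := by
    have h0 : ∑ i, algebraMap k' K' (τ (IsLocalRing.residue P.O ⟨bE.repr z i, ha i⟩)) * bE i =
        0 := by
      have := congrArg (algebraMap k' K') hw0
      rw [map_sum, map_zero] at this
      rw [← this]
      refine Finset.sum_congr rfl fun i _ => ?_
      rw [map_mul, hbE]
    conv_lhs => rw [← hsum, ← sub_zero (∑ i, algebraMap K K' (bE.repr z i) * bE i), ← h0,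
      ← Finset.sum_sub_distrib]
    refine Finset.sum_congr rfl fun i _ => ?_
    rw [sub_mul]
  have hbQ : ∀ i, Q.1 (bE i) ≤ 1 := by
    intro i
    rw [hbE]
    exact Q.2.1 (c i)
  have hex : ∃ i, WithZero.exp (-1 : ℤ) ≤ Q.1 (algebraMap K K' (bE.repr z i) -
      algebraMap k' K' (τ (IsLocalRing.residue P.O ⟨bE.repr z i, ha i⟩))) := by
    by_contra hcon
    push Not at hcon
    have hlt : Q.1 z < WithZero.exp (-1 : ℤ) := by
      rw [hzu]
      refine Valuation.map_sum_lt _ WithZero.exp_ne_zero fun i _ => ?_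
      rw [map_mul]
      calc Q.1 _ * Q.1 (bE i) ≤ Q.1 _ * 1 := mul_le_mul_right (hbQ i) _
        _ = _ := mul_one _
        _ < _ := hcon i
    rw [hzQ] at hlt
    exact lt_irrefl _ hlt
  obtain ⟨i, hi⟩ := hex
  obtain ⟨a, hae⟩ : ∃ a : K, a = bE.repr z i := ⟨_, rfl⟩
  have haP : P.1 a ≤ 1 := hae ▸ ha i
  obtain ⟨α, hα⟩ : ∃ α, α = IsLocalRing.residue P.O ⟨a, haP⟩ := ⟨_, rfl⟩
  have hi' : WithZero.exp (-1 : ℤ) ≤ Q.1 (algebraMap K K' a - algebraMap k' K' (τ α)) := by
    subst hae
    rw [hα]
    exact hi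
  -- purely inseparable part
  obtain ⟨p, hp⟩ := ExpChar.exists (separableClosure k (IsLocalRing.ResidueField P.O))
  haveI := hp
  haveI : IsPurelyInseparable (separableClosure k (IsLocalRing.ResidueField P.O))
      (IsLocalRing.ResidueField P.O) := separableClosure.isPurelyInseparable k _
  obtain ⟨m, β, hmin⟩ := IsPurelyInseparable.minpoly_eq_X_pow_sub_C
    (separableClosure k (IsLocalRing.ResidueField P.O)) p α
  have hαq : α ^ p ^ m = (β : IsLocalRing.ResidueField P.O) := by
    have h1 := minpoly.aeval (separableClosure k (IsLocalRing.ResidueField P.O)) α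
    rw [hmin, map_sub, map_pow, Polynomial.aeval_X, Polynomial.aeval_C, sub_eq_zero] at h1
    exact h1
  have hqle : p ^ m ≤ Module.finrank (separableClosure k (IsLocalRing.ResidueField P.O))
      (IsLocalRing.ResidueField P.O) := by
    have h1 : (minpoly (separableClosure k (IsLocalRing.ResidueField P.O)) α).natDegree ≤
        Module.finrank (separableClosure k (IsLocalRing.ResidueField P.O))
          (IsLocalRing.ResidueField P.O) := minpoly.natDegree_le α
    rw [hmin, Polynomial.natDegree_X_pow_sub_C] at h1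
    exact h1
  refine le_trans ?_ hqle
  -- characteristic of `K'`
  haveI : ExpChar k p := RingHom.expChar
    (algebraMap k (separableClosure k (IsLocalRing.ResidueField P.O)))
    (algebraMap k (separableClosure k (IsLocalRing.ResidueField P.O))).injective p
  haveI : ExpChar K' p := expChar_of_injective_ringHom (algebraMap k K').injective p
  have hyP : P.1 (a ^ p ^ m) ≤ 1 := by
    rw [map_pow]
    exact pow_le_one' haP _
  have hres : IsLocalRing.residue P.O ⟨a ^ p ^ m, hyP⟩ = α ^ p ^ m := by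
    rw [hα, ← map_pow]
    rfl
  have hsep : (minpoly k (IsLocalRing.residue P.O ⟨a ^ p ^ m, hyP⟩)).Separable := by
    rw [hres, hαq]
    exact mem_separableClosure_iff.mp β.2
  have hV := val_sub_tau_le he τ hτ hyP hsep
  rw [hres, map_pow τ, map_pow (algebraMap k' K'), map_pow (algebraMap K K'),
    ← sub_pow_expChar_pow, map_pow] at hV
  have h5 : WithZero.exp (-1 : ℤ) ^ p ^ m ≤ WithZero.exp (-(e : ℤ)) :=
    (pow_le_pow_left₀ zero_le hi' _).trans hV
  rw [← WithZero.exp_nsmul, WithZero.exp_le_exp, nsmul_eq_mul, mul_neg, mul_one,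
    neg_le_neg_iff] at h5
  exact_mod_cast h5


/-- Counting the places above a nonsingular place in a splitting field. -/
theorem count_places [FiniteDimensional K K']
    (h : Function.Bijective (Algebra.TensorProduct.productMap
      (IsScalarTower.toAlgHom k k' K') (IsScalarTower.toAlgHom k K K')))
    (hK : IsFunctionField k K) {n : ℕ}
    (c : Module.Basis (Fin n) k k') (bE : Module.Basis (Fin n) K K')
    (hbE : ∀ i, bE i = algebraMap k' K' (c i)) {P : Place k K} (hNS : NS bE P)
    (hsplit : ∀ Q : Place k' K', IsOver (Place.down (k := k) Q) P → Q.deg = 1) :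
    {Q : Place k' K' | IsOver (Place.down (k := k) Q) P}.Finite ∧
    {Q : Place k' K' | IsOver (Place.down (k := k) Q) P}.ncard =
      Field.finSepDegree k (IsLocalRing.ResidueField P.O) ∧
    ∀ (Q : Place k' K') (e : ℕ), IsOverWith (Place.down (k := k) Q) P e →
      e = Module.finrank (separableClosure k (IsLocalRing.ResidueField P.O))
        (IsLocalRing.ResidueField P.O) := by
  classical
  haveI : Algebra.IsAlgebraic k k' := Algebra.IsAlgebraic.of_finite k k'
  have hfd := Place.finiteDimensional_residueField hK P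
  haveI hfd' : @Module.Finite k (IsLocalRing.ResidueField P.O) _ _ (Place.algRes P).toModule :=
    hfd
  haveI : Algebra.IsAlgebraic k (IsLocalRing.ResidueField P.O) :=
    Algebra.IsAlgebraic.of_finite k _
  have hfin := finite_places_over' (E := K') hK P
  have hQs : ∀ Q', Q' ∈ hfin.toFinset ↔ IsOver Q' P := fun Q' => Set.Finite.mem_toFinset hfin
  let upEmb : Place k K' ↪ Place k' K' := ⟨Place.up (k₁ := k'), Place.up_injective⟩
  obtain ⟨SF, hSFdef⟩ : ∃ SF : Finset (Place k' K'), SF = hfin.toFinset.map upEmb := ⟨_, rfl⟩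
  have hSF : ∀ Q : Place k' K', Q ∈ SF ↔ IsOver (Place.down (k := k) Q) P := by
    intro Q
    rw [hSFdef, Finset.mem_map]
    constructor
    · rintro ⟨Q₀, hQ₀, rfl⟩
      exact (hQs Q₀).1 hQ₀
    · intro hQ
      exact ⟨Place.down (k := k) Q, (hQs _).2 hQ, Place.up_down Q⟩
  have hset : {Q : Place k' K' | IsOver (Place.down (k := k) Q) P} = ↑SF := by
    ext Q
    exact (hSF Q).symm
  obtain ⟨ds, hds⟩ : ∃ ds, ds = Field.finSepDegree k (IsLocalRing.ResidueField P.O) := ⟨_, rfl⟩
  obtain ⟨di, hdi⟩ : ∃ di, di = Module.finrank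
    (separableClosure k (IsLocalRing.ResidueField P.O)) (IsLocalRing.ResidueField P.O) := ⟨_, rfl⟩
  have hmul : ds * di = P.deg := by
    rw [hds, hdi]
    exact Field.finSepDegree_mul_finInsepDegree k (IsLocalRing.ResidueField P.O)
  have hdipos : 0 < di := by
    rw [hdi]
    exact Module.finrank_pos
  have hcard : SF.card ≤ ds := by
    rw [hds]
    exact card_le_finSepDegree hK c bE hbE hNS SF (fun Q hQ => (hSF Q).1 hQ)
      (fun Q hQ => hsplit Q ((hSF Q).1 hQ))
  have hcard' : SF.card = hfin.toFinset.card := by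
    rw [hSFdef, Finset.card_map]
  have hle : ∀ Q₀ ∈ hfin.toFinset, ramIdx Q₀ P ≤ di := by
    intro Q₀ hQ₀
    have hover := (hQs Q₀).1 hQ₀
    rw [hdi]
    exact ramIdx_le_finInsepDegree hK c bE hbE hNS (Q := Place.up (k₁ := k') Q₀)
      (isOverWith_ramIdx hover) (hsplit _ hover)
  have hsum : ∑ Q₀ ∈ hfin.toFinset, ramIdx Q₀ P = P.deg := by
    have h1 := sum_ramIdx_mul_deg hK P hfin.toFinset hQs
    have hdeg : ∀ Q₀ ∈ hfin.toFinset, Q₀.deg = Module.finrank k k' := by
      intro Q₀ hQ₀
      have h2 := Place.deg_down (k := k) (Place.up (k₁ := k') Q₀)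
      rw [Place.down_up, hsplit (Place.up (k₁ := k') Q₀) ((hQs Q₀).1 hQ₀), mul_one] at h2
      exact h2
    rw [Finset.sum_congr rfl (fun Q₀ hQ₀ => by rw [hdeg Q₀ hQ₀]), ← Finset.sum_mul,
      (finrank_model h).2, mul_comm] at h1
    exact Nat.eq_of_mul_eq_mul_left Module.finrank_pos h1
  have hsumle : ∑ Q₀ ∈ hfin.toFinset, ramIdx Q₀ P ≤ hfin.toFinset.card * di := by
    have := Finset.sum_le_card_nsmul hfin.toFinset (fun Q₀ => ramIdx Q₀ P) di hle
    rwa [smul_eq_mul] at this
  have hcardeq : hfin.toFinset.card = ds := by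
    apply le_antisymm (hcard' ▸ hcard)
    have h3 : ds * di ≤ hfin.toFinset.card * di := by
      rw [hmul, ← hsum]
      exact hsumle
    exact Nat.le_of_mul_le_mul_right h3 hdipos
  have hall : ∀ Q₀ ∈ hfin.toFinset, ramIdx Q₀ P = di := by
    by_contra hcon
    push Not at hcon
    obtain ⟨Q₁, hQ₁, hne⟩ := hcon
    have hlt : ramIdx Q₁ P < di := lt_of_le_of_ne (hle Q₁ hQ₁) hne
    have h4 : ∑ Q₀ ∈ hfin.toFinset, ramIdx Q₀ P < ∑ _Q₀ ∈ hfin.toFinset, di :=
      Finset.sum_lt_sum hle ⟨Q₁, hQ₁, hlt⟩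
    rw [Finset.sum_const, smul_eq_mul, hsum, hcardeq, hmul] at h4
    exact lt_irrefl _ h4
  refine ⟨?_, ?_, ?_⟩
  · rw [hset]
    exact SF.finite_toSet
  · rw [hset, Set.ncard_coe_finset, hcard', hcardeq, hds]
  · intro Q e he
    rw [← ramIdx_eq he, ← hdi]
    exact hall _ ((hQs _).2 ⟨e, he⟩)

end Tau

end CExt

end Groth.Agent.Lib.helper10
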