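import Mathlib
import Groth.Prelude.Def_QuadGrp

/-!
The element `w = ∏ (1 - 2 e_{2i} e_{2i+1})` in the Clifford algebra of the split form
(helper10, S17016).
-/

set_option autoImplicit false
set_option linter.unusedSectionVars false
set_option linter.unusedVariables false

universe u

namespace Groth.Agent.Lib.helper10

namespace CliffSplit

section Abstract

variable {C : Type*} [Ring C]

theorem g_sq (a b : C) (haa : a * a = 0) (hbb : b * b = 0) (hab : a * b + b * a = 1) :
    (1 - 2 * (a * b)) * (1 - 2 * (a * b)) = 1 := by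
  have : (1 - 2 * (a * b)) * (1 - 2 * (a * b)) =
      1 + 4 * (a * (a * b + b * a - 1) * b) - 4 * ((a * a) * (b * b)) := by noncomm_ring
  rw [this, hab, haa]
  simp

theorem a_g (a b : C) (haa : a * a = 0) (hab : a * b + b * a = 1) :
    a * (1 - 2 * (a * b)) = -((1 - 2 * (a * b)) * a) := by
  have : a * (1 - 2 * (a * b)) + (1 - 2 * (a * b)) * a = -2 * (a * (a * b + b * a - 1)) := by
    noncomm_ring
  rw [hab] at this
  rw [eq_neg_iff_add_eq_zero, this]
  simp

theorem b_g (a b : C) (hbb : b * b = 0) (hab : a * b + b * a = 1) :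
    b * (1 - 2 * (a * b)) = -((1 - 2 * (a * b)) * b) := by
  have : b * (1 - 2 * (a * b)) + (1 - 2 * (a * b)) * b = -2 * ((a * b + b * a - 1) * b) := by
    noncomm_ring
  rw [hab] at this
  rw [eq_neg_iff_add_eq_zero, this]
  simp

theorem x_g (x a b : C) (hxa : x * a = -(a * x)) (hxb : x * b = -(b * x)) :
    x * (1 - 2 * (a * b)) = (1 - 2 * (a * b)) * x := by
  have : x * (a * b) = (a * b) * x := by
    rw [← mul_assoc, hxa, neg_mul, mul_assoc, hxb, mul_neg, neg_neg, mul_assoc]
  have h2 : x * (1 - 2 * (a * b)) = x - 2 * (x * (a * b)) := by noncomm_ring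
  have h3 : (1 - 2 * (a * b)) * x = x - 2 * ((a * b) * x) := by noncomm_ring
  rw [h2, h3, this]

end Abstract

section Concrete

variable (R : Type u) [CommRing R] (m : ℕ)

theorem splitForm_apply (x : Fin (m * 2) → R) :
    QuadGrp.splitForm R (m * 2) x =
      ∑ i : Fin m, x (finProdFinEquiv (i, 0)) * x (finProdFinEquiv (i, 1)) := by
  have hm : m * 2 % 2 ≠ 1 := by omega
  have hd : m * 2 / 2 = m := by omega
  rw [QuadGrp.splitForm, add_apply, dif_neg hm, zero_apply, add_zero,
    sum_apply]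
  refine Fintype.sum_equiv (finCongr hd) _ _ (fun i => ?_)
  rw [QuadraticMap.linMulLin_apply, LinearMap.proj_apply, LinearMap.proj_apply]
  congr 2
  · apply Fin.ext
    simp [finProdFinEquiv]
  · apply Fin.ext
    simp [finProdFinEquiv]
    omega

/-- The standard basis vectors. -/
def dl (j : Fin (m * 2)) : Fin (m * 2) → R := Pi.single j 1

theorem fpf_ne (i : Fin m) : (finProdFinEquiv (i, (0 : Fin 2)) : Fin (m * 2)) ≠ finProdFinEquiv (i, 1) := by
  intro h
  have := finProdFinEquiv.injective h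
  simp at this

theorem Q_dl (j : Fin (m * 2)) : QuadGrp.splitForm R (m * 2) (dl R m j) = 0 := by
  rw [splitForm_apply]
  apply Finset.sum_eq_zero
  intro i _
  by_cases h : (finProdFinEquiv (i, (0 : Fin 2)) : Fin (m * 2)) = j
  · have h1 : (finProdFinEquiv (i, (1 : Fin 2)) : Fin (m * 2)) ≠ j := by
      rw [← h]
      exact (fpf_ne m i).symm
    rw [dl, Pi.single_eq_of_ne h1, mul_zero]
  · rw [dl, Pi.single_eq_of_ne h, zero_mul]

theorem Q_dl_add_pair (i : Fin m) :
    QuadGrp.splitForm R (m * 2) (dl R m (finProdFinEquiv (i, 0)) + dl R m (finProdFinEquiv (i, 1))) = 1 := by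
  rw [splitForm_apply, Finset.sum_eq_single i]
  · rw [Pi.add_apply, Pi.add_apply, dl, dl, Pi.single_eq_same, Pi.single_eq_same,
      Pi.single_eq_of_ne (fpf_ne m i), Pi.single_eq_of_ne (fpf_ne m i).symm]
    ring
  · intro k _ hk
    have h1 : (finProdFinEquiv (k, (0 : Fin 2)) : Fin (m * 2)) ≠ finProdFinEquiv (i, 0) := by
      intro h
      have := finProdFinEquiv.injective h
      simp at this
      exact hk this
    have h2 : (finProdFinEquiv (k, (0 : Fin 2)) : Fin (m * 2)) ≠ finProdFinEquiv (i, 1) := by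
      intro h
      have := finProdFinEquiv.injective h
      simp at this
    rw [Pi.add_apply, dl, dl, Pi.single_eq_of_ne h1, Pi.single_eq_of_ne h2, add_zero, zero_mul]
  · intro h
    exact absurd (Finset.mem_univ i) h

theorem Q_dl_add_of_ne (i₀ i₁ : Fin m) (c d : Fin 2) (h : i₀ ≠ i₁) :
    QuadGrp.splitForm R (m * 2) (dl R m (finProdFinEquiv (i₀, c)) + dl R m (finProdFinEquiv (i₁, d))) = 0 := by
  rw [splitForm_apply]
  apply Finset.sum_eq_zero
  intro i _
  simp only [Pi.add_apply, dl, Pi.single_apply, EmbeddingLike.apply_eq_iff_eq, Prod.mk.injEq]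
  by_cases h0 : i = i₀
  · have h1 : i ≠ i₁ := fun h1 => h (h0.symm.trans h1)
    simp only [h1, false_and, if_false, add_zero]
    fin_cases c <;> simp
  · simp only [h0, false_and, if_false, zero_add]
    fin_cases d <;> simp

/-! ### The Clifford algebra -/

open CliffordAlgebra

/-- `e_j`. -/
noncomputable def ee (j : Fin (m * 2)) : CliffordAlgebra (QuadGrp.splitForm R (m * 2)) :=
  ι (QuadGrp.splitForm R (m * 2)) (Pi.single j 1)

theorem ee_sq (j : Fin (m * 2)) : ee R m j * ee R m j = 0 := by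
  rw [ee, ι_sq_scalar]
  have := Q_dl R m j
  rw [dl] at this
  rw [this, map_zero]

theorem ee_pair (i : Fin m) :
    ee R m (finProdFinEquiv (i, 0)) * ee R m (finProdFinEquiv (i, 1)) +
      ee R m (finProdFinEquiv (i, 1)) * ee R m (finProdFinEquiv (i, 0)) = 1 := by
  rw [ee, ee, ι_mul_ι_add_swap, QuadraticMap.polar]
  have h1 := Q_dl R m (finProdFinEquiv (i, 0))
  have h2 := Q_dl R m (finProdFinEquiv (i, 1))
  have h3 := Q_dl_add_pair R m i
  rw [dl] at h1 h2
  rw [dl, dl] at h3
  rw [h1, h2, h3, sub_zero, sub_zero, map_one]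

theorem ee_anti (i₀ i₁ : Fin m) (c d : Fin 2) (h : i₀ ≠ i₁) :
    ee R m (finProdFinEquiv (i₀, c)) * ee R m (finProdFinEquiv (i₁, d)) =
      -(ee R m (finProdFinEquiv (i₁, d)) * ee R m (finProdFinEquiv (i₀, c))) := by
  rw [ee, ee]
  apply ι_mul_ι_comm_of_isOrtho
  rw [QuadraticMap.IsOrtho]
  have h1 := Q_dl R m (finProdFinEquiv (i₀, c))
  have h2 := Q_dl R m (finProdFinEquiv (i₁, d))
  have h3 := Q_dl_add_of_ne R m i₀ i₁ c d h
  rw [dl] at h1 h2
  rw [dl, dl] at h3
  rw [h1, h2, h3, add_zero]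

/-- `g_i = 1 - 2 e_{2i} e_{2i+1}`. -/
noncomputable def gg (i : Fin m) : CliffordAlgebra (QuadGrp.splitForm R (m * 2)) :=
  1 - 2 * (ee R m (finProdFinEquiv (i, 0)) * ee R m (finProdFinEquiv (i, 1)))

theorem gg_sq (i : Fin m) : gg R m i * gg R m i = 1 :=
  g_sq _ _ (ee_sq R m _) (ee_sq R m _) (ee_pair R m i)

theorem ee_gg_same (i : Fin m) (c : Fin 2) :
    ee R m (finProdFinEquiv (i, c)) * gg R m i = -(gg R m i * ee R m (finProdFinEquiv (i, c))) := by
  fin_cases c
  · exact a_g _ _ (ee_sq R m _) (ee_pair R m i)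
  · exact b_g _ _ (ee_sq R m _) (ee_pair R m i)

theorem ee_gg_of_ne (i₀ i : Fin m) (c : Fin 2) (h : i₀ ≠ i) :
    ee R m (finProdFinEquiv (i₀, c)) * gg R m i = gg R m i * ee R m (finProdFinEquiv (i₀, c)) :=
  x_g _ _ _ (ee_anti R m i₀ i c 0 h) (ee_anti R m i₀ i c 1 h)

theorem gg_comm (i k : Fin m) : Commute (gg R m i) (gg R m k) := by
  by_cases h : i = k
  · subst h
    exact Commute.refl _
  · have h0 : Commute (ee R m (finProdFinEquiv (i, 0))) (gg R m k) := ee_gg_of_ne R m i k 0 h
    have h1 : Commute (ee R m (finProdFinEquiv (i, 1))) (gg R m k) := ee_gg_of_ne R m i k 1 h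
    have h2 : Commute (ee R m (finProdFinEquiv (i, 0)) * ee R m (finProdFinEquiv (i, 1))) (gg R m k) :=
      h0.mul_left h1
    rw [gg]
    exact (Commute.one_left _).sub_left ((Commute.ofNat_left 2 _).mul_left h2)

/-- The product over a list. -/
noncomputable def ww (l : List (Fin m)) : CliffordAlgebra (QuadGrp.splitForm R (m * 2)) :=
  (l.map (gg R m)).prod

theorem ww_comm (l : List (Fin m)) (i : Fin m) : Commute (ww R m l) (gg R m i) := by
  apply Commute.list_prod_left
  intro x hx
  obtain ⟨k, _, rfl⟩ := List.mem_map.mp hx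
  exact gg_comm R m k i

theorem ww_sq (l : List (Fin m)) : ww R m l * ww R m l = 1 := by
  induction l with
  | nil => simp [ww]
  | cons i l ih =>
    have hc := ww_comm R m l i
    have : ww R m (i :: l) = gg R m i * ww R m l := by simp [ww]
    rw [this, mul_assoc, ← mul_assoc (ww R m l), hc.eq, mul_assoc, ih, mul_one, gg_sq]

theorem ee_ww (i₀ : Fin m) (c : Fin 2) (l : List (Fin m)) (hl : l.Nodup) :
    (i₀ ∈ l → ee R m (finProdFinEquiv (i₀, c)) * ww R m l =
        -(ww R m l * ee R m (finProdFinEquiv (i₀, c)))) ∧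
      (i₀ ∉ l → ee R m (finProdFinEquiv (i₀, c)) * ww R m l =
        ww R m l * ee R m (finProdFinEquiv (i₀, c))) := by
  induction l with
  | nil =>
    refine ⟨fun h => absurd h List.not_mem_nil, fun _ => ?_⟩
    simp [ww]
  | cons i l ih =>
    have hcons : ww R m (i :: l) = gg R m i * ww R m l := by simp [ww]
    obtain ⟨hi, hl'⟩ := List.nodup_cons.mp hl
    obtain ⟨ih1, ih2⟩ := ih hl'
    rw [hcons]
    constructor
    · intro hmem
      rcases List.mem_cons.mp hmem with h | h
      · subst h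
        rw [← mul_assoc, ee_gg_same, neg_mul, mul_assoc, ih2 hi, mul_assoc]
      · have hne : i₀ ≠ i := fun h' => hi (h' ▸ h)
        rw [← mul_assoc, ee_gg_of_ne R m i₀ i c hne, mul_assoc, ih1 h, mul_neg, mul_assoc]
    · intro hmem
      have hne : i₀ ≠ i := fun h' => hmem (h' ▸ List.mem_cons_self)
      have hnl : i₀ ∉ l := fun h' => hmem (List.mem_cons_of_mem _ h')
      rw [← mul_assoc, ee_gg_of_ne R m i₀ i c hne, mul_assoc, ih2 hnl, mul_assoc]

theorem main :
    ww R m (List.finRange m) * ww R m (List.finRange m) = 1 ∧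
      ∀ j : Fin (m * 2), ee R m j * ww R m (List.finRange m) =
        -(ww R m (List.finRange m) * ee R m j) := by
  refine ⟨ww_sq R m _, fun j => ?_⟩
  obtain ⟨⟨i₀, c⟩, rfl⟩ := finProdFinEquiv.surjective j
  exact (ee_ww R m i₀ c _ (List.nodup_finRange m)).1 (List.mem_finRange i₀)

end Concrete

end CliffSplit

end Groth.Agent.Lib.helper10
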