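import Mathlib

/-!
Compositum lemma for discrete valuation rings (helper10), part 1: abstract core.
-/

set_option autoImplicit false
set_option linter.unusedSectionVars false
set_option linter.style.haveILetI false

universe u

open Polynomial

namespace Groth.Agent.Lib.helper10

namespace CompDvr

section VNR

/-- a reduced commutative algebra which is algebraic over a field is von Neumann regular -/
theorem vnr_of_isReduced_of_isAlgebraic {E T : Type*} [Field E] [CommRing T] [Algebra E T]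
    [IsReduced T] [Algebra.IsAlgebraic E T] (t : T) : ∃ u : T, t = t * t * u := by
  obtain ⟨p, hp0, hpt⟩ := Algebra.IsAlgebraic.isAlgebraic (R := E) t
  obtain ⟨q, hq, hnd⟩ := Polynomial.exists_eq_pow_rootMultiplicity_mul_and_not_dvd p hp0 (0 : E)
  set j := p.rootMultiplicity 0 with hj
  rw [C_0, sub_zero] at hq hnd
  have hc : q.coeff 0 ≠ 0 := by
    intro h0
    apply hnd
    rw [X_dvd_iff]; exact h0
  have h1 : t ^ j * aeval t q = 0 := by
    rw [hq, map_mul, map_pow, aeval_X] at hpt; exact hpt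
  have h2 : t * aeval t q = 0 := by
    rcases Nat.eq_zero_or_pos j with hj0 | hjpos
    · rw [hj0, pow_zero, one_mul] at h1; rw [h1, mul_zero]
    · have : (t * aeval t q) ^ j = 0 := by
        obtain ⟨m, hm⟩ : ∃ m, j = m + 1 := ⟨j - 1, by omega⟩
        calc (t * aeval t q) ^ j = t ^ j * aeval t q ^ j := mul_pow _ _ _
          _ = t ^ j * (aeval t q * aeval t q ^ m) := by rw [hm, pow_succ' (aeval t q)]
          _ = (t ^ j * aeval t q) * aeval t q ^ m := by ring
          _ = 0 := by rw [h1, zero_mul]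
      exact pow_eq_zero_iff (by omega) |>.mp this
  have h3 : aeval t q = t * aeval t q.divX + algebraMap E T (q.coeff 0) := by
    conv_lhs => rw [← Polynomial.X_mul_divX_add q]
    rw [map_add, map_mul, aeval_X, aeval_C]
  rw [h3, mul_add] at h2
  refine ⟨- (algebraMap E T (q.coeff 0)⁻¹ * aeval t q.divX), ?_⟩
  have h4 : algebraMap E T (q.coeff 0)⁻¹ * algebraMap E T (q.coeff 0) = 1 := by
    rw [← map_mul, inv_mul_cancel₀ hc, map_one]
  have h5 : t = algebraMap E T (q.coeff 0)⁻¹ * (t * algebraMap E T (q.coeff 0)) := by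
    rw [mul_comm t, ← mul_assoc, h4, one_mul]
  have h6 : t * algebraMap E T (q.coeff 0) = - (t * (t * aeval t q.divX)) := by
    rw [eq_neg_iff_add_eq_zero, add_comm]; exact h2
  conv_lhs => rw [h5, h6]
  ring

end VNR

section Core

variable {F : Type u} [Field F] (v : Valuation F (WithZero (Multiplicative ℤ))) (R : Subring F)
  (π : F)

theorem exp_neg_one_of_lt_one {γ : WithZero (Multiplicative ℤ)} (h : γ < 1) :
    γ ≤ WithZero.exp (-1 : ℤ) := by
  rcases eq_or_ne γ 0 with rfl | h0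
  · exact zero_le
  · rw [← WithZero.exp_log h0] at h ⊢
    rw [← WithZero.exp_zero, WithZero.exp_lt_exp] at h
    rw [WithZero.exp_le_exp]; omega

theorem core_factor (hπR : π ∈ R) (hπ : v π < 1)
    (hint : ∀ r ∈ R, v r ≤ 1)
    (hvnr : ∀ r ∈ R, ∃ u ∈ R, ∃ t ∈ R, r - r * r * u = π * t) :
    ∀ (n : ℕ) (r : F), r ∈ R → r ≠ 0 → WithZero.exp (-(n : ℤ)) ≤ v r →
      ∃ (k : ℕ) (a s : F), a ∈ R ∧ s ∈ R ∧ v a = 1 ∧ v s = 1 ∧ r * s = π ^ k * a := by
  intro n
  induction n with
  | zero =>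
    intro r hr hr0 hv
    rw [Nat.cast_zero, neg_zero, WithZero.exp_zero] at hv
    exact ⟨0, r, 1, hr, R.one_mem, le_antisymm (hint r hr) hv, map_one v, by simp⟩
  | succ n ih =>
    intro r hr hr0 hv
    by_cases h1 : v r = 1
    · exact ⟨0, r, 1, hr, R.one_mem, h1, map_one v, by simp⟩
    have hlt : v r < 1 := lt_of_le_of_ne (hint r hr) h1
    obtain ⟨u, hu, t, ht, hrt⟩ := hvnr r hr
    have hs0 : v (1 - r * u) = 1 := by
      apply Valuation.map_one_sub_of_lt
      rw [map_mul]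
      calc v r * v u ≤ v r * 1 := mul_le_mul' le_rfl (hint u hu)
        _ = v r := mul_one _
        _ < 1 := hlt
    have hs0R : 1 - r * u ∈ R := R.sub_mem R.one_mem (R.mul_mem hr hu)
    have hrt' : r * (1 - r * u) = π * t := by rw [← hrt]; ring
    have hs00 : (1 - r * u) ≠ 0 := by
      intro h; rw [h, map_zero] at hs0; exact zero_ne_one hs0
    have ht0 : t ≠ 0 := by
      rintro rfl
      rw [mul_zero] at hrt'
      exact (mul_ne_zero hr0 hs00) hrt'
    have hπ0 : π ≠ 0 := by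
      rintro rfl
      rw [zero_mul] at hrt'
      exact (mul_ne_zero hr0 hs00) hrt'
    have hvπ0 : v π ≠ 0 := (Valuation.ne_zero_iff v).mpr hπ0
    have hvt : WithZero.exp (-(n : ℤ)) ≤ v t := by
      have h2 : v r = v π * v t := by
        have := congrArg v hrt'
        rwa [map_mul, hs0, mul_one, map_mul] at this
      have h3 : v π ≤ WithZero.exp (-1 : ℤ) := exp_neg_one_of_lt_one hπ
      by_contra hcon
      rw [not_le] at hcon
      have h4 : v r < WithZero.exp (-1 : ℤ) * WithZero.exp (-(n : ℤ)) := by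
        rw [h2]
        calc v π * v t < v π * WithZero.exp (-(n : ℤ)) :=
              mul_lt_mul_of_pos_left hcon (zero_lt_iff.mpr hvπ0)
          _ ≤ WithZero.exp (-1 : ℤ) * WithZero.exp (-(n : ℤ)) := mul_le_mul' h3 le_rfl
      rw [← WithZero.exp_add] at h4
      have h5 : (-1 : ℤ) + -(n : ℤ) = -((n + 1 : ℕ) : ℤ) := by push_cast; ring
      rw [h5] at h4
      exact absurd hv (not_le.mpr h4)
    obtain ⟨k, a, s, ha, hs, hva, hvs, hts⟩ := ih t ht ht0 hvt
    refine ⟨k + 1, a, (1 - r * u) * s, ha, R.mul_mem hs0R hs, hva, ?_, ?_⟩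
    · rw [map_mul, hs0, hvs, one_mul]
    · rw [← mul_assoc, hrt', mul_assoc, hts, pow_succ]; ring

theorem core_factor' (hπR : π ∈ R) (hπ : v π < 1)
    (hint : ∀ r ∈ R, v r ≤ 1)
    (hvnr : ∀ r ∈ R, ∃ u ∈ R, ∃ t ∈ R, r - r * r * u = π * t) (r : F) (hr : r ∈ R) (hr0 : r ≠ 0) :
    ∃ (k : ℕ) (a s : F), a ∈ R ∧ s ∈ R ∧ v a = 1 ∧ v s = 1 ∧ r * s = π ^ k * a := by
  have hv0 : v r ≠ 0 := (Valuation.ne_zero_iff v).mpr hr0
  have hle : WithZero.log (v r) ≤ 0 := by
    have := hint r hr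
    rw [← WithZero.exp_log hv0, ← WithZero.exp_zero, WithZero.exp_le_exp] at this
    exact this
  apply core_factor v R π hπR hπ hint hvnr (-(WithZero.log (v r))).toNat r hr hr0
  rw [Int.toNat_of_nonneg (by omega), neg_neg, WithZero.exp_log hv0]

/-- main abstract statement: `π` is a uniformizer and `R` surjects onto the residue field. -/
theorem core_unif (hπR : π ∈ R) (hπ0 : π ≠ 0) (hπ : v π < 1)
    (hint : ∀ r ∈ R, v r ≤ 1)
    (hvnr : ∀ r ∈ R, ∃ u ∈ R, ∃ t ∈ R, r - r * r * u = π * t)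
    (hgen : ∀ x : F, ∃ a ∈ R, ∃ b ∈ R, b ≠ 0 ∧ x * b = a) :
    (∀ x : F, v x < 1 → v (x / π) ≤ 1) ∧
    (∀ x : F, v x ≤ 1 → ∃ a ∈ R, v (x - a) < 1) := by
  have hvπ0 : v π ≠ 0 := (Valuation.ne_zero_iff v).mpr hπ0
  have hvπpos : 0 < v π := zero_lt_iff.mpr hvπ0
  -- factorization of a general nonzero element
  have hfac : ∀ x : F, x ≠ 0 → ∃ (k l : ℕ) (a s : F), a ∈ R ∧ s ∈ R ∧ v a = 1 ∧ v s = 1 ∧
      x * π ^ l * s = π ^ k * a := by
    intro x hx0
    obtain ⟨a, ha, b, hb, hb0, hxb⟩ := hgen x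
    have ha0 : a ≠ 0 := by rw [← hxb]; exact mul_ne_zero hx0 hb0
    obtain ⟨k, a₁, s₁, ha₁, hs₁, hva₁, hvs₁, e₁⟩ := core_factor' v R π hπR hπ hint hvnr a ha ha0
    obtain ⟨l, a₂, s₂, ha₂, hs₂, hva₂, hvs₂, e₂⟩ := core_factor' v R π hπR hπ hint hvnr b hb hb0
    refine ⟨k, l, a₁ * s₂, s₁ * a₂, R.mul_mem ha₁ hs₂, R.mul_mem hs₁ ha₂, ?_, ?_, ?_⟩
    · rw [map_mul, hva₁, hvs₂, one_mul]
    · rw [map_mul, hvs₁, hva₂, one_mul]
    · have hs20 : s₂ ≠ 0 := by
        intro h; rw [h, map_zero] at hvs₂; exact zero_ne_one hvs₂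
      have : x * (π ^ l * a₂) * s₁ = π ^ k * a₁ * s₂ := by
        rw [← e₂, ← e₁, ← hxb]; ring
      calc x * π ^ l * (s₁ * a₂) = x * (π ^ l * a₂) * s₁ := by ring
        _ = π ^ k * a₁ * s₂ := this
        _ = π ^ k * (a₁ * s₂) := by ring
  have hvfac : ∀ x : F, x ≠ 0 → ∃ (k l : ℕ) (a s : F), a ∈ R ∧ s ∈ R ∧ v a = 1 ∧ v s = 1 ∧
      x * π ^ l * s = π ^ k * a ∧ v x * v π ^ l = v π ^ k := by
    intro x hx0
    obtain ⟨k, l, a, s, ha, hs, hva, hvs, e⟩ := hfac x hx0
    refine ⟨k, l, a, s, ha, hs, hva, hvs, e, ?_⟩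
    have := congrArg v e
    rwa [map_mul, map_mul, map_pow, hvs, mul_one, map_mul, map_pow, hva, mul_one] at this
  constructor
  · intro x hx
    rcases eq_or_ne x 0 with rfl | hx0
    · simp
    obtain ⟨k, l, a, s, ha, hs, hva, hvs, e, hv⟩ := hvfac x hx0
    have hkl : l < k := by
      by_contra hcon
      rw [not_lt] at hcon
      have h1 : v π ^ l ≤ v π ^ k := pow_le_pow_right_of_le_one' hπ.le hcon
      have h2 : v x * v π ^ l < 1 * v π ^ l :=
        mul_lt_mul_of_pos_right hx (pow_pos hvπpos l)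
      rw [hv, one_mul] at h2
      exact absurd h1 (not_le.mpr h2)
    rw [map_div₀, div_le_one₀ hvπpos]
    have h3 : v x * v π ^ l = v π ^ (k - l) * v π ^ l := by
      rw [hv, ← pow_add]; congr 1; omega
    have h4 : v x = v π ^ (k - l) := mul_right_cancel₀ (pow_ne_zero l hvπ0) h3
    rw [h4]
    calc v π ^ (k - l) ≤ v π ^ 1 := pow_le_pow_right_of_le_one' hπ.le (by omega)
      _ = v π := pow_one _
  · intro x hx
    by_cases hx1 : v x < 1
    · exact ⟨0, R.zero_mem, by rwa [sub_zero]⟩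
    have hx1' : v x = 1 := le_antisymm hx (not_lt.mp hx1)
    have hx0 : x ≠ 0 := by
      rintro rfl; rw [map_zero] at hx1'; exact zero_ne_one hx1'
    obtain ⟨k, l, a, s, ha, hs, hva, hvs, e, hv⟩ := hvfac x hx0
    rw [hx1', one_mul] at hv
    have hkl : k = l := by
      by_contra hne
      rcases Nat.lt_or_gt_of_ne hne with h | h
      · have : v π ^ l < v π ^ k := pow_lt_pow_right_of_lt_one₀ hvπpos hπ h
        rw [hv] at this; exact lt_irrefl _ this
      · have : v π ^ k < v π ^ l := pow_lt_pow_right_of_lt_one₀ hvπpos hπ h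
        rw [hv] at this; exact lt_irrefl _ this
    subst hkl
    have e' : x * s = a := by
      have hπk : π ^ k ≠ 0 := pow_ne_zero k hπ0
      apply mul_left_cancel₀ hπk
      rw [← e]; ring
    -- invert s modulo π
    obtain ⟨u, hu, t, ht, hst⟩ := hvnr s hs
    have hs0 : s ≠ 0 := by
      rintro rfl; rw [map_zero] at hvs; exact zero_ne_one hvs
    refine ⟨a * u, R.mul_mem ha hu, ?_⟩
    have h5 : x - a * u = x * (1 - s * u) := by rw [← e']; ring
    have h6 : s * (1 - s * u) = π * t := by rw [← hst]; ring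
    have h7 : v (1 - s * u) < 1 := by
      have := congrArg v h6
      rw [map_mul, hvs, one_mul, map_mul] at this
      rw [this]
      calc v π * v t ≤ v π * 1 := mul_le_mul' le_rfl (hint t ht)
        _ = v π := mul_one _
        _ < 1 := hπ
    rw [h5, map_mul, hx1', one_mul]
    exact h7

end Core

section Frac

variable {F : Type u} [Field F] (R : Subring F)

/-- the fraction field of a subring inside a field, as a subfield -/
def fracField : Subfield F where
  carrier := {x | ∃ a ∈ R, ∃ b ∈ R, b ≠ 0 ∧ x * b = a}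
  mul_mem' := by
    rintro x y ⟨a, ha, b, hb, hb0, e⟩ ⟨a', ha', b', hb', hb0', e'⟩
    exact ⟨a * a', R.mul_mem ha ha', b * b', R.mul_mem hb hb', mul_ne_zero hb0 hb0', by
      rw [← e, ← e']; ring⟩
  one_mem' := ⟨1, R.one_mem, 1, R.one_mem, one_ne_zero, by simp⟩
  add_mem' := by
    rintro x y ⟨a, ha, b, hb, hb0, e⟩ ⟨a', ha', b', hb', hb0', e'⟩
    exact ⟨a * b' + a' * b, R.add_mem (R.mul_mem ha hb') (R.mul_mem ha' hb), b * b',
      R.mul_mem hb hb', mul_ne_zero hb0 hb0', by rw [← e, ← e']; ring⟩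
  zero_mem' := ⟨0, R.zero_mem, 1, R.one_mem, one_ne_zero, by simp⟩
  neg_mem' := by
    rintro x ⟨a, ha, b, hb, hb0, e⟩
    exact ⟨-a, R.neg_mem ha, b, hb, hb0, by rw [← e]; ring⟩
  inv_mem' := by
    rintro x ⟨a, ha, b, hb, hb0, e⟩
    rcases eq_or_ne x 0 with rfl | hx0
    · exact ⟨0, R.zero_mem, 1, R.one_mem, one_ne_zero, by simp⟩
    · have ha0 : a ≠ 0 := by rw [← e]; exact mul_ne_zero hx0 hb0
      exact ⟨b, hb, a, ha, ha0, by rw [← e]; field_simp⟩

theorem mem_fracField (x : F) :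
    x ∈ fracField R ↔ ∃ a ∈ R, ∃ b ∈ R, b ≠ 0 ∧ x * b = a := Iff.rfl

theorem subring_le_fracField : R ≤ (fracField R).toSubring := by
  intro x hx
  exact ⟨x, hx, 1, R.one_mem, one_ne_zero, by simp⟩

end Frac

end CompDvr

end Groth.Agent.Lib.helper10
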