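import Mathlib
import Groth.Agent.Lib.Helper10.CompDvr1

/-!
Compositum lemma for discrete valuation rings (helper10), part 2: two local rings `P`, `Q` over `A`
inside a discretely valued field.
-/

set_option autoImplicit false
set_option linter.unusedSectionVars false
set_option linter.style.haveILetI false

universe u

open IsLocalRing TensorProduct

namespace Groth.Agent.Lib.helper10

namespace CompDvr

section Setup

variable {A P Q F : Type u} [CommRing A] [IsLocalRing A] [CommRing P] [IsLocalRing P]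
  [CommRing Q] [IsLocalRing Q] [Algebra A P] [Algebra A Q] [IsLocalHom (algebraMap A P)]
  [IsLocalHom (algebraMap A Q)] [Field F] (jP : P →+* F) (jQ : Q →+* F)

/-- the subring generated by the images of `P` and `Q` -/
def RR : Subring F := Subring.closure (Set.range jP ∪ Set.range jQ)

theorem jP_mem (p : P) : jP p ∈ RR jP jQ := Subring.subset_closure (Or.inl ⟨p, rfl⟩)

theorem jQ_mem (q : Q) : jQ q ∈ RR jP jQ := Subring.subset_closure (Or.inr ⟨q, rfl⟩)

theorem vnr_mod (hcompat : ∀ a : A, jP (algebraMap A P a) = jQ (algebraMap A Q a))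
    (hwu : (maximalIdeal A).map (algebraMap A P) = maximalIdeal P)
    (πQ : Q) (hπQ : maximalIdeal Q = Ideal.span {πQ})
    (hT : ∀ t : ResidueField P ⊗[ResidueField A] ResidueField Q, ∃ u, t = t * t * u) :
    ∀ r ∈ RR jP jQ, ∃ u ∈ RR jP jQ, ∃ t ∈ RR jP jQ, r - r * r * u = jQ πQ * t := by
  obtain ⟨πR, hπR⟩ : ∃ πR : RR jP jQ, πR = ⟨jQ πQ, jQ_mem jP jQ πQ⟩ := ⟨_, rfl⟩
  obtain ⟨I, hI⟩ : ∃ I : Ideal (RR jP jQ), I = Ideal.span {πR} := ⟨_, rfl⟩
  let φP : P →+* RR jP jQ := jP.codRestrict (RR jP jQ) (jP_mem jP jQ)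
  let φQ : Q →+* RR jP jQ := jQ.codRestrict (RR jP jQ) (jQ_mem jP jQ)
  let gP : P →+* (RR jP jQ) ⧸ I := (Ideal.Quotient.mk I).comp φP
  let gQ : Q →+* (RR jP jQ) ⧸ I := (Ideal.Quotient.mk I).comp φQ
  have hφ : ∀ a : A, φP (algebraMap A P a) = φQ (algebraMap A Q a) :=
    fun a => Subtype.ext (hcompat a)
  have hgQ0 : ∀ q ∈ maximalIdeal Q, gQ q = 0 := by
    intro q hq
    rw [hπQ, Ideal.mem_span_singleton'] at hq
    obtain ⟨c, rfl⟩ := hq
    show Ideal.Quotient.mk I (φQ (c * πQ)) = 0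
    rw [Ideal.Quotient.eq_zero_iff_mem, map_mul, hI]
    apply Ideal.mul_mem_left
    have : φQ πQ = πR := by rw [hπR]; rfl
    rw [this]; exact Ideal.mem_span_singleton_self _
  have hgA0 : ∀ a ∈ maximalIdeal A, gQ (algebraMap A Q a) = 0 := by
    intro a ha
    apply hgQ0
    exact (IsLocalRing.mem_maximalIdeal _).mpr (fun hu =>
      (IsLocalRing.mem_maximalIdeal _).mp ha (isUnit_of_map_unit (algebraMap A Q) a hu))
  have hgP0 : ∀ p ∈ maximalIdeal P, gP p = 0 := by
    have hle : maximalIdeal P ≤ RingHom.ker gP := by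
      rw [← hwu, Ideal.map_le_iff_le_comap]
      intro a ha
      rw [Ideal.mem_comap, RingHom.mem_ker]
      show Ideal.Quotient.mk I (φP (algebraMap A P a)) = 0
      rw [hφ]
      exact hgA0 a ha
    intro p hp
    exact (RingHom.mem_ker).mp (hle hp)
  let gPbar : ResidueField P →+* (RR jP jQ) ⧸ I := Ideal.Quotient.lift (maximalIdeal P) gP hgP0
  let gQbar : ResidueField Q →+* (RR jP jQ) ⧸ I := Ideal.Quotient.lift (maximalIdeal Q) gQ hgQ0
  let gAbar : ResidueField A →+* (RR jP jQ) ⧸ I :=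
    Ideal.Quotient.lift (maximalIdeal A) (gQ.comp (algebraMap A Q)) hgA0
  letI : Algebra (ResidueField A) ((RR jP jQ) ⧸ I) := gAbar.toAlgebra
  let fP : ResidueField P →ₐ[ResidueField A] (RR jP jQ) ⧸ I :=
    { gPbar with
      commutes' := by
        intro r
        obtain ⟨a, rfl⟩ := IsLocalRing.residue_surjective r
        show gPbar (residue P (algebraMap A P a)) = gAbar (residue A a)
        show gP (algebraMap A P a) = gQ (algebraMap A Q a)
        show Ideal.Quotient.mk I (φP (algebraMap A P a)) = Ideal.Quotient.mk I (φQ (algebraMap A Q a))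
        rw [hφ] }
  let fQ : ResidueField Q →ₐ[ResidueField A] (RR jP jQ) ⧸ I :=
    { gQbar with
      commutes' := by
        intro r
        obtain ⟨a, rfl⟩ := IsLocalRing.residue_surjective r
        rfl }
  let ψ : ResidueField P ⊗[ResidueField A] ResidueField Q →ₐ[ResidueField A] (RR jP jQ) ⧸ I :=
    Algebra.TensorProduct.productMap fP fQ
  have hψP : ∀ p : P, ψ (residue P p ⊗ₜ 1) = gP p := by
    intro p
    show Algebra.TensorProduct.productMap fP fQ (residue P p ⊗ₜ 1) = gP p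
    rw [Algebra.TensorProduct.productMap_apply_tmul, map_one, mul_one]
    rfl
  have hψQ : ∀ q : Q, ψ (1 ⊗ₜ residue Q q) = gQ q := by
    intro q
    show Algebra.TensorProduct.productMap fP fQ (1 ⊗ₜ residue Q q) = gQ q
    rw [Algebra.TensorProduct.productMap_apply_tmul, map_one, one_mul]
    rfl
  have hsurj : ∀ (x : F) (hx : x ∈ RR jP jQ), Ideal.Quotient.mk I ⟨x, hx⟩ ∈ ψ.range := by
    intro x hx
    induction hx using Subring.closure_induction with
    | mem x hx =>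
      rcases hx with ⟨p, rfl⟩ | ⟨q, rfl⟩
      · exact ⟨residue P p ⊗ₜ 1, hψP p⟩
      · exact ⟨1 ⊗ₜ residue Q q, hψQ q⟩
    | zero => exact ⟨0, map_zero _⟩
    | one => exact ⟨1, map_one _⟩
    | add x y hx hy ihx ihy =>
      obtain ⟨a, ha⟩ := ihx
      obtain ⟨b, hb⟩ := ihy
      exact ⟨a + b, by rw [map_add, ha, hb]; rfl⟩
    | neg x hx ihx =>
      obtain ⟨a, ha⟩ := ihx
      exact ⟨-a, by rw [map_neg, ha]; rfl⟩
    | mul x y hx hy ihx ihy =>
      obtain ⟨a, ha⟩ := ihx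
      obtain ⟨b, hb⟩ := ihy
      exact ⟨a * b, by rw [map_mul, ha, hb]; rfl⟩
  intro r hr
  obtain ⟨t, ht⟩ := hsurj r hr
  obtain ⟨u, hu⟩ := hT t
  obtain ⟨u', hu'⟩ := Ideal.Quotient.mk_surjective (ψ u)
  have ht' : ψ t = Ideal.Quotient.mk I ⟨r, hr⟩ := ht
  have h1 : Ideal.Quotient.mk I (⟨r, hr⟩ - ⟨r, hr⟩ * ⟨r, hr⟩ * u') = 0 := by
    rw [map_sub, map_mul, map_mul, hu', ← ht', ← map_mul, ← map_mul, ← hu, sub_self]
  rw [Ideal.Quotient.eq_zero_iff_mem, hI, Ideal.mem_span_singleton'] at h1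
  obtain ⟨c, hc⟩ := h1
  refine ⟨u', u'.2, c, c.2, ?_⟩
  rw [hπR] at hc
  have h2 : (c : F) * jQ πQ = r - r * r * (u' : F) := congrArg Subtype.val hc
  rw [← h2, mul_comm]

theorem main (v : Valuation F (WithZero (Multiplicative ℤ)))
    (hcompat : ∀ a : A, jP (algebraMap A P a) = jQ (algebraMap A Q a))
    (hwu : (maximalIdeal A).map (algebraMap A P) = maximalIdeal P)
    (πQ : Q) (hπQ : maximalIdeal Q = Ideal.span {πQ})
    (hT : ∀ t : ResidueField P ⊗[ResidueField A] ResidueField Q, ∃ u, t = t * t * u)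
    (hPint : ∀ p, v (jP p) ≤ 1) (hQint : ∀ q, v (jQ q) ≤ 1)
    (hπv : v (jQ πQ) < 1) (hπ0 : jQ πQ ≠ 0)
    (hgen : ∀ x : F, x ∈ fracField (RR jP jQ)) :
    (∀ x : F, v x < 1 → v (x / jQ πQ) ≤ 1) ∧
    (∀ x : F, v x ≤ 1 → ∃ a ∈ RR jP jQ, v (x - a) < 1) := by
  apply core_unif v (RR jP jQ) (jQ πQ) (jQ_mem jP jQ πQ) hπ0 hπv
  · have hle : RR jP jQ ≤ v.integer := by
      apply Subring.closure_le.mpr
      rintro x (⟨p, rfl⟩ | ⟨q, rfl⟩)
      · exact hPint p
      · exact hQint q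
    exact fun r hr => hle hr
  · exact vnr_mod jP jQ hcompat hwu πQ hπQ hT
  · exact fun x => (mem_fracField _ x).mp (hgen x)

end Setup

end CompDvr

end Groth.Agent.Lib.helper10
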