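import Groth.Agent.Lib.Helper10.DvrExt5

/-!
Finite separable extensions of the fraction field of a discrete valuation ring (helper10), part 6:
valuation computations for roots of `P(z) = ξ` with `P` monic of degree `p`.
-/

set_option autoImplicit false
set_option linter.unusedSectionVars false
set_option linter.style.haveILetI false

universe u

open IsDedekindDomain IsLocalRing Polynomial IntermediateField

namespace Groth.Agent.Lib.helper10

namespace DvrExt

section Poly

variable {A L B : Type u} [CommRing A] [IsDomain A] [IsDiscreteValuationRing A]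
  [Field L] [Algebra A L]
  [CommRing B] [IsDedekindDomain B] [Algebra A B] [Algebra B L] [IsScalarTower A B L]
  [IsFractionRing B L] [Module.IsTorsionFree A B]

theorem val_algebraMap_le_one (w : HeightOneSpectrum B) (a : A) :
    w.valuation L (algebraMap A L a) ≤ 1 := by
  rw [IsScalarTower.algebraMap_apply A B L]; exact w.valuation_le_one _

/-- expansion of a monic polynomial at `z` -/
theorem aeval_monic_eq {P : A[X]} (hP : P.Monic) (z : L) :
    aeval z P = z ^ P.natDegree + ∑ i ∈ Finset.range P.natDegree,
      algebraMap A L (P.coeff i) * z ^ i := by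
  conv_lhs => rw [hP.as_sum]
  simp [aeval_def, eval₂_finsetSum]

theorem val_aeval_of_one_lt (w : HeightOneSpectrum B) {P : A[X]} (hP : P.Monic) {z : L}
    (hz : 1 < w.valuation L z) :
    w.valuation L (aeval z P) = w.valuation L z ^ P.natDegree := by
  rw [aeval_monic_eq hP, ← map_pow]
  apply Valuation.map_add_eq_of_lt_left
  have hz0 : w.valuation L z ≠ 0 := (zero_lt_one.trans hz).ne'
  apply Valuation.map_sum_lt _ (by rw [map_pow]; exact pow_ne_zero _ hz0)
  intro i hi
  rw [Finset.mem_range] at hi
  rw [map_mul, map_pow, map_pow]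
  calc w.valuation L (algebraMap A L (P.coeff i)) * w.valuation L z ^ i
      ≤ 1 * w.valuation L z ^ i := mul_le_mul' (val_algebraMap_le_one w _) le_rfl
    _ = w.valuation L z ^ i := one_mul _
    _ < w.valuation L z ^ P.natDegree := pow_lt_pow_right₀ hz hi

theorem val_aeval_le_one (w : HeightOneSpectrum B) (P : A[X]) {z : L}
    (hz : w.valuation L z ≤ 1) : w.valuation L (aeval z P) ≤ 1 := by
  rw [aeval_eq_sum_range]
  apply Valuation.map_sum_le
  intro i _
  rw [Algebra.smul_def, map_mul, map_pow]
  calc _ ≤ (1 : WithZero (Multiplicative ℤ)) * 1 :=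
        mul_le_mul' (val_algebraMap_le_one w _) (pow_le_one₀ zero_le hz)
    _ = 1 := one_mul _

/-- criterion (B): pole of order prime to `p` forces `p ∣ e`. -/
theorem p_dvd_e_mul (w : HeightOneSpectrum B) [w.asIdeal.LiesOver (maximalIdeal A)] {π : A}
    (hπ : maximalIdeal A = Ideal.span {π}) {P : A[X]} (hP : P.Monic) (z ξ : L)
    (hz : aeval z P = ξ) (n : ℕ) (a : Aˣ)
    (hξ : ξ * algebraMap A L π ^ n = algebraMap A L (a : A)) :
    P.natDegree ∣ eOf A w * n := by
  have h1 : w.valuation L ξ * WithZero.exp (-((eOf A w * n : ℕ) : ℤ)) = 1 := by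
    have := congrArg (w.valuation L) hξ
    rw [map_mul, map_pow, val_pi w hπ, val_unit, ← WithZero.exp_nsmul] at this
    rw [← this]; congr 2; push_cast; ring
  have h2 : w.valuation L ξ = WithZero.exp (((eOf A w * n : ℕ) : ℤ)) := by
    rw [← mul_one (WithZero.exp _), ← h1, mul_comm (w.valuation L ξ), ← mul_assoc,
      ← WithZero.exp_add]
    simp
  by_cases hz1 : w.valuation L z ≤ 1
  · have h3 := val_aeval_le_one w P hz1
    rw [hz, h2, ← WithZero.exp_zero, WithZero.exp_le_exp] at h3
    have : eOf A w * n = 0 := by omega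
    rw [this]; exact dvd_zero _
  · rw [not_le] at hz1
    have h3 := val_aeval_of_one_lt w hP hz1
    rw [hz, h2] at h3
    have hz0 : w.valuation L z ≠ 0 := (zero_lt_one.trans hz1).ne'
    rw [← WithZero.exp_log hz0, ← WithZero.exp_nsmul] at h3
    have h4 := WithZero.exp_injective h3
    rw [← Int.natCast_dvd_natCast, h4, nsmul_eq_mul]
    exact Dvd.intro _ rfl

/-- criterion (C), first half: the rescaled root. -/
theorem exists_y (w : HeightOneSpectrum B) [w.asIdeal.LiesOver (maximalIdeal A)] {π : A}
    (hπ : maximalIdeal A = Ideal.span {π}) {P : A[X]} (hP : P.Monic) (hdeg : 0 < P.natDegree)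
    (z ξ : L) (hz : aeval z P = ξ) (m : ℕ) (hm : 0 < m) (a : A)
    (hξ : ξ * algebraMap A L π ^ (P.natDegree * m) = algebraMap A L a) :
    ∃ y : L, w.valuation L y ≤ 1 ∧ w.valuation L (y ^ P.natDegree - algebraMap A L a) < 1 := by
  obtain ⟨s, hs⟩ : ∃ s : A, s = π ^ m := ⟨_, rfl⟩
  set Q : A[X] := scaleRoots P s with hQ
  have hQm : Q.Monic := (monic_scaleRoots_iff s).mpr hP
  have hQd : Q.natDegree = P.natDegree := natDegree_scaleRoots P s
  set y : L := algebraMap A L s * z with hy
  have hQy : aeval y Q = algebraMap A L a := by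
    rw [aeval_def, hy, hQ, scaleRoots_eval₂_mul, ← aeval_def, hz, ← hξ, hs, map_pow, ← pow_mul,
      mul_comm m, mul_comm]
  have hint : IsIntegral A y := by
    refine ⟨Q - C a, hQm.sub_of_left ?_, ?_⟩
    · rw [degree_eq_natDegree hQm.ne_zero, hQd]
      exact (degree_C_le).trans_lt (by exact_mod_cast hdeg)
    · rw [← aeval_def, map_sub, hQy, aeval_C, sub_self]
  have hy1 : w.valuation L y ≤ 1 := mem_of_isIntegral (Vw (L := L) w) (algebraMap_mem_Vw' w) hint
  have hπ1 : w.valuation L (algebraMap A L π) < 1 := by
    have hmem : π ∈ maximalIdeal A := by rw [hπ]; exact Ideal.mem_span_singleton_self π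
    exact (Vw_val_lt_one w _).mp ((dominates_Vw (A := A) (L := L) w).2 π hmem)
  have hs1 : w.valuation L (algebraMap A L s) < 1 := by
    rw [hs, map_pow, map_pow]
    exact pow_lt_one₀ zero_le hπ1 hm.ne'
  refine ⟨y, hy1, ?_⟩
  have hexp := aeval_monic_eq (L := L) hQm y
  rw [hQy, hQd] at hexp
  have : y ^ P.natDegree - algebraMap A L a =
      - ∑ i ∈ Finset.range P.natDegree, algebraMap A L (Q.coeff i) * y ^ i := by
    rw [hexp]; ring
  rw [this, Valuation.map_neg]
  apply Valuation.map_sum_lt _ one_ne_zero
  intro i hi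
  rw [Finset.mem_range] at hi
  rw [hQ, coeff_scaleRoots]
  simp only [map_mul, map_pow]
  have h1 : w.valuation L (algebraMap A L s) ^ (P.natDegree - i) < 1 :=
    pow_lt_one₀ zero_le hs1 (by omega)
  calc w.valuation L (algebraMap A L (P.coeff i)) *
        w.valuation L (algebraMap A L s) ^ (P.natDegree - i) * w.valuation L y ^ i
      ≤ 1 * w.valuation L (algebraMap A L s) ^ (P.natDegree - i) * 1 :=
        mul_le_mul' (mul_le_mul' (val_algebraMap_le_one w _) le_rfl) (pow_le_one₀ zero_le hy1)
    _ = w.valuation L (algebraMap A L s) ^ (P.natDegree - i) := by rw [one_mul, mul_one]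
    _ < 1 := h1

end Poly

section CritC

variable {A L B : Type u} [CommRing A] [IsDomain A] [IsDiscreteValuationRing A]
  [Field L] [Algebra A L]
  [CommRing B] [IsDedekindDomain B] [Algebra A B] [Algebra B L] [IsScalarTower A B L]
  [IsFractionRing B L] [Module.IsTorsionFree A B] [Module.Finite A B]

/-- criterion (C), second half. -/
theorem crit_C (w : HeightOneSpectrum B) [w.asIdeal.LiesOver (maximalIdeal A)] {p : ℕ}
    (hp : p.Prime) [CharP (ResidueField A) p] (a : A)
    (ha : ∀ r : A, residue A a ≠ residue A r ^ p) (y : L) (hy : w.valuation L y ≤ 1)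
    (hya : w.valuation L (y ^ p - algebraMap A L a) < 1) :
    p ∣ w.asIdeal.inertiaDeg A ∧ ¬ SepAt A L w := by
  have hdom := dominates_Vw (A := A) (L := L) w
  have h := hdom.1
  letI : Algebra A (Vw (L := L) w) :=
    (RingHom.codRestrict (algebraMap A L) (Vw (L := L) w) h).toAlgebra
  haveI : IsLocalHom (algebraMap A (Vw (L := L) w)) := isLocalHom_of_dominates _ hdom
  have hfw := finrank_residue (A := A) w h
  set F := ResidueField A
  set E := ResidueField (Vw (L := L) w)
  let yV : Vw (L := L) w := ⟨y, hy⟩
  let yb : E := residue _ yV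
  let ab : F := residue A a
  have hyb : yb ^ p = algebraMap F E ab := by
    have : residue (Vw (L := L) w) (yV ^ p - algebraMap A (Vw (L := L) w) a) = 0 := by
      rw [residue_eq_zero_iff, ValuationSubring.valuation_lt_one_iff, Vw_val_lt_one]
      exact hya
    rw [map_sub, map_pow, sub_eq_zero] at this
    rw [this]; rfl
  have ha' : ∀ b : F, b ^ p ≠ ab := by
    intro b hb
    obtain ⟨r, rfl⟩ := residue_surjective b
    exact ha r hb.symm
  have hirr : Irreducible (X ^ p - C ab : F[X]) := X_pow_sub_C_irreducible_of_prime hp ha'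
  have hmonic : (X ^ p - C ab : F[X]).Monic := monic_X_pow_sub_C ab hp.ne_zero
  have hroot : aeval yb (X ^ p - C ab : F[X]) = 0 := by
    rw [map_sub, map_pow, aeval_X, aeval_C, hyb, sub_self]
  have hmin : (X ^ p - C ab : F[X]) = minpoly F yb :=
    minpoly.eq_of_irreducible_of_monic hirr hroot hmonic
  have hfpos : 0 < Module.finrank F E := by
    rw [hfw]; haveI := w.isPrime; exact Ideal.inertiaDeg_pos _ A
  haveI : FiniteDimensional F E := Module.finite_of_finrank_pos hfpos
  have hint : IsIntegral F yb := Algebra.IsIntegral.isIntegral yb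
  constructor
  · rw [← hfw]
    have h1 : Module.finrank F F⟮yb⟯ = p := by
      rw [IntermediateField.adjoin.finrank hint, ← hmin, natDegree_X_pow_sub_C]
    rw [← Module.finrank_mul_finrank F F⟮yb⟯ E, h1]
    exact Dvd.intro _ rfl
  · intro hs
    have hsep : Algebra.IsSeparable F E := hs h
    have h1 : (minpoly F yb).Separable := Algebra.IsSeparable.isSeparable F yb
    rw [← hmin, separable_def] at h1
    have hder : derivative (X ^ p - C ab : F[X]) = 0 := by
      rw [derivative_sub, derivative_C, derivative_X_pow, sub_zero]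
      have : (C (p : F) : F[X]) = 0 := by rw [CharP.cast_eq_zero F p, C_0]
      rw [this, zero_mul]
    rw [hder, isCoprime_zero_right] at h1
    exact hirr.not_isUnit h1

end CritC

end DvrExt

end Groth.Agent.Lib.helper10
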