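import Mathlib
import Groth.Prelude.Def_EtRam
import Groth.Agent.Lib.Helper10.DvrExt6

/-!
Totally ramified extensions and weakly unramified base change (helper10), part 1.
-/

set_option autoImplicit false
set_option linter.unusedSectionVars false
set_option linter.style.haveILetI false
set_option linter.deprecated false

universe u

open IsDedekindDomain IsLocalRing

namespace Groth.Agent.Lib.helper10

namespace TotRam

open DvrExt

section VS

variable {F : Type u} [Field F]

theorem val_lt_one_iff (V : ValuationSubring F) (y : F) :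
    V.valuation y < 1 ↔ y = 0 ∨ y⁻¹ ∉ V := by
  by_cases hy : y = 0
  · simp [hy]
  · simp only [hy, false_or]
    rw [← ValuationSubring.valuation_le_one_iff, map_inv₀, not_le]
    have h0 : V.valuation y ≠ 0 := (Valuation.ne_zero_iff _).mpr hy
    rw [one_lt_inv₀ (zero_lt_iff.mpr h0)]

theorem comap_val_lt_one_iff {F' : Type u} [Field F'] (W : ValuationSubring F') (f : F →+* F')
    (y : F) : (W.comap f).valuation y < 1 ↔ W.valuation (f y) < 1 := by
  rw [val_lt_one_iff, val_lt_one_iff, ValuationSubring.mem_comap, map_inv₀, map_eq_zero]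

theorem val_eq_one_iff (V : ValuationSubring F) (y : F) :
    V.valuation y = 1 ↔ y ≠ 0 ∧ y ∈ V ∧ y⁻¹ ∈ V := by
  rw [← ValuationSubring.valuation_le_one_iff, ← ValuationSubring.valuation_le_one_iff, map_inv₀]
  by_cases hy : y = 0
  · simp [hy]
  have h0 : V.valuation y ≠ 0 := (Valuation.ne_zero_iff _).mpr hy
  rw [inv_le_one₀ (zero_lt_iff.mpr h0)]
  exact ⟨fun h => ⟨hy, h.le, h.ge⟩, fun h => le_antisymm h.2.1 h.2.2⟩

theorem comap_val_eq_one_iff {F' : Type u} [Field F'] (W : ValuationSubring F') (f : F →+* F')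
    (y : F) : (W.comap f).valuation y = 1 ↔ W.valuation (f y) = 1 := by
  rw [val_eq_one_iff, val_eq_one_iff, ValuationSubring.mem_comap, ValuationSubring.mem_comap,
    map_inv₀, Ne, Ne, map_eq_zero]

end VS

section Inj

variable {L B : Type u} [Field L] [CommRing B] [IsDedekindDomain B] [Algebra B L]
  [IsFractionRing B L]

theorem Vw_injective {w w' : HeightOneSpectrum B}
    (h : (w.valuation L).valuationSubring = (w'.valuation L).valuationSubring) : w = w' := by
  apply HeightOneSpectrum.ext
  ext b
  have e1 := (Valuation.isEquiv_valuation_valuationSubring (w.valuation L)).lt_one_iff_lt_one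
    (x := algebraMap B L b)
  have e2 := (Valuation.isEquiv_valuation_valuationSubring (w'.valuation L)).lt_one_iff_lt_one
    (x := algebraMap B L b)
  rw [← HeightOneSpectrum.valuation_lt_one_iff_mem (K := L),
    ← HeightOneSpectrum.valuation_lt_one_iff_mem (K := L), e1, e2, h]

end Inj

section A

variable (A K K₁ : Type u) [CommRing A] [IsDomain A] [IsDiscreteValuationRing A]
  [Field K] [Algebra A K] [IsFractionRing A K]
  [Field K₁] [Algebra K K₁] [Algebra A K₁] [IsScalarTower A K K₁]
  [FiniteDimensional K K₁] [Algebra.IsSeparable K K₁]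

theorem exists_unif (ht : EtRam.IsTotallyRamified A (algebraMap A K₁)) {π : A}
    (hπ : maximalIdeal A = Ideal.span {π}) :
    ∃ (V₁ : ValuationSubring K₁) (x u : K₁), EtRam.Dominates A (algebraMap A K₁) V₁ ∧
      (∀ V, EtRam.Dominates A (algebraMap A K₁) V → V = V₁) ∧
      V₁.valuation x < 1 ∧ V₁.valuation u = 1 ∧
      algebraMap A K₁ π = u * x ^ Module.finrank K K₁ := by
  haveI : Module.IsTorsionFree A K₁ := .trans_faithfulSMul A K K₁
  haveI : IsDedekindDomain (integralClosure A K₁) := integralClosure.isDedekindDomain A K K₁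
  haveI : IsFractionRing (integralClosure A K₁) K₁ :=
    integralClosure.isFractionRing_of_finite_extension K K₁
  haveI : Module.Finite A (integralClosure A K₁) :=
    IsIntegralClosure.finite A K K₁ (integralClosure A K₁)
  have hm0 : maximalIdeal A ≠ ⊥ := IsDiscreteValuationRing.not_a_field A
  obtain ⟨⟨V, hV⟩, huniq, hsurj⟩ := ht
  obtain ⟨w₀, hw₀, rfl⟩ := exists_w (integralClosure A K₁) V hV
  -- uniqueness of the prime
  have hprime : ∀ P : Ideal (integralClosure A K₁), P.IsPrime → P.LiesOver (maximalIdeal A) →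
      P = w₀.asIdeal := by
    intro P hP1 hP2
    let w : HeightOneSpectrum (integralClosure A K₁) :=
      ⟨P, hP1, Ideal.ne_bot_of_liesOver_of_ne_bot hm0 P⟩
    haveI : w.asIdeal.LiesOver (maximalIdeal A) := hP2
    have h1 := huniq _ _ (dominates_Vw (A := A) (L := K₁) w) hV
    have h2 : w = w₀ := Vw_injective (L := K₁) h1
    rw [← h2]
  have hfin : IsDedekindDomain.primesOverFinset (maximalIdeal A) (integralClosure A K₁) = {w₀.asIdeal} := by
    rw [Finset.eq_singleton_iff_unique_mem]
    refine ⟨(IsDedekindDomain.mem_primesOverFinset_iff hm0 _).mpr ⟨w₀.isPrime, hw₀⟩, fun P hP => ?_⟩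
    obtain ⟨h1, h2⟩ := (IsDedekindDomain.mem_primesOverFinset_iff hm0 _).mp hP
    exact hprime P h1 h2
  have hsum := Ideal.sum_ramification_inertia (integralClosure A K₁) K K₁ hm0
  rw [hfin, Finset.sum_singleton] at hsum
  haveI := w₀.isMaximal
  -- f = 1
  have hf : (maximalIdeal A).inertiaDeg' w₀.asIdeal = 1 := by
    rw [Ideal.inertiaDeg'_eq_inertiaDeg]
    letI : Algebra A (Vw (L := K₁) w₀) :=
      (RingHom.codRestrict (algebraMap A K₁) (Vw (L := K₁) w₀) hV.1).toAlgebra
    haveI : IsLocalHom (algebraMap A (Vw (L := K₁) w₀)) := isLocalHom_of_dominates _ hV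
    rw [← finrank_residue w₀ hV.1]
    have hs : Function.Surjective (algebraMap (ResidueField A) (ResidueField (Vw (L := K₁) w₀))) := by
      intro y
      obtain ⟨a, ha⟩ := hsurj _ hV y
      exact ⟨residue A a, ha⟩
    rw [← Subalgebra.bot_eq_top_iff_finrank_eq_one]
    exact (Algebra.surjective_algebraMap_iff.mp hs).symm
  rw [hf, mul_one] at hsum
  have hval := val_pi (L := K₁) w₀ hπ
  change _ = WithZero.exp (-(((maximalIdeal A).ramificationIdx' w₀.asIdeal : ℕ) : ℤ)) at hval
  rw [hsum] at hval
  obtain ⟨x, hx⟩ := w₀.valuation_exists_uniformizer K₁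
  have hx0 : x ≠ 0 := by
    rintro rfl
    rw [map_zero] at hx
    exact WithZero.exp_ne_zero hx.symm
  refine ⟨Vw w₀, x, algebraMap A K₁ π / x ^ Module.finrank K K₁, hV,
    fun V' hV' => huniq _ _ hV' hV, ?_, ?_, ?_⟩
  · rw [Vw_val_lt_one, hx, lt_one_iff_le_exp_neg_one]
  · rw [Vw_val_eq_one, map_div₀, map_pow, hval, hx, ← WithZero.exp_nsmul]
    rw [div_eq_one_iff_eq WithZero.exp_ne_zero]
    congr 1
    simp
  · rw [div_mul_cancel₀ _ (pow_ne_zero _ hx0)]

end A

section B

variable (B L M : Type u) [CommRing B] [IsDomain B] [IsDiscreteValuationRing B]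
  [Field L] [Algebra B L] [IsFractionRing B L]
  [Field M] [Algebra L M] [Algebra B M] [IsScalarTower B L M]
  [FiniteDimensional L M] [Algebra.IsSeparable L M]

theorem key (W : ValuationSubring M) (hW : EtRam.Dominates B (algebraMap B M) W) {πB : B}
    (hπ : maximalIdeal B = Ideal.span {πB}) (x u : M) (hx : W.valuation x < 1)
    (hu : W.valuation u = 1) (n : ℕ) (hn : Module.finrank L M ≤ n)
    (h : algebraMap B M πB = u * x ^ n) :
    Module.finrank L M = n ∧ ∀ z : M, W.valuation z < 1 → z / x ∈ W := by
  haveI : Module.IsTorsionFree B M := .trans_faithfulSMul B L M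
  haveI : IsDedekindDomain (integralClosure B M) := integralClosure.isDedekindDomain B L M
  haveI : IsFractionRing (integralClosure B M) M :=
    integralClosure.isFractionRing_of_finite_extension L M
  haveI : Module.Finite B (integralClosure B M) :=
    IsIntegralClosure.finite B L M (integralClosure B M)
  obtain ⟨w, hw, rfl⟩ := exists_w (integralClosure B M) W hW
  haveI : NoZeroSMulDivisors B (integralClosure B M) := by
    rw [noZeroSMulDivisors_iff_right_eq_zero_of_smul]
    intro r hr m hm
    exact (smul_eq_zero_iff_right hr).mp hm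
  have he := Ideal.ramificationIdx_le_finrank (integralClosure B M) L M (p := maximalIdeal B)
    w.asIdeal
  have hval := val_pi (L := M) w hπ
  change _ = WithZero.exp (-(((maximalIdeal B).ramificationIdx' w.asIdeal : ℕ) : ℤ)) at hval
  rw [Vw_val_lt_one, lt_one_iff_le_exp_neg_one] at hx
  rw [Vw_val_eq_one] at hu
  have hpos : 0 < Module.finrank L M := Module.finrank_pos
  have hn0 : n ≠ 0 := by omega
  have h1 := congrArg (w.valuation M) h
  rw [hval, map_mul, hu, one_mul, map_pow] at h1
  have h2 : WithZero.exp (-(((maximalIdeal B).ramificationIdx' w.asIdeal : ℕ) : ℤ)) ≤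
      WithZero.exp (-(n : ℤ)) := by
    rw [h1]
    calc w.valuation M x ^ n ≤ WithZero.exp (-1 : ℤ) ^ n := pow_le_pow_left₀ zero_le hx n
      _ = WithZero.exp (-(n : ℤ)) := by rw [← WithZero.exp_nsmul]; congr 1; simp
  rw [WithZero.exp_le_exp] at h2
  have he2 : (maximalIdeal B).ramificationIdx' w.asIdeal = n := by omega
  have hfr : Module.finrank L M = n := by omega
  refine ⟨hfr, fun z hz => ?_⟩
  rw [he2] at h1
  have hxeq : w.valuation M x = WithZero.exp (-1 : ℤ) := by
    refine le_antisymm hx ?_
    by_contra hlt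
    rw [not_le] at hlt
    have := pow_lt_pow_left₀ hlt zero_le hn0
    rw [← h1, ← WithZero.exp_nsmul] at this
    simp at this
  rw [Vw_val_lt_one, lt_one_iff_le_exp_neg_one, ← hxeq] at hz
  rw [mem_Vw, map_div₀]
  exact div_le_one_of_le₀ hz zero_le

end B

end TotRam

end Groth.Agent.Lib.helper10
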