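import Mathlib
import Groth.Prelude.Def_EtRam
import Groth.Agent.Lib.Helper10.TotRam1
import Groth.Agent.Lib.Helper10.CompDvr2
import Groth.Agent.Lib.Helper13.KA4

/-!
Compositum lemma for discrete valuation rings (helper10), part 3: discrete valuations on finite
extensions (via Krull–Akizuki), uniformizers of contracted valuation rings, generation.
-/

set_option autoImplicit false
set_option linter.unusedSectionVars false
set_option linter.style.haveILetI false

universe u

open IsLocalRing IsDedekindDomain

namespace Groth.Agent.Lib.helper10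

namespace CompDvr

open DvrExt

section D1

variable (B L M : Type u) [CommRing B] [IsDomain B] [IsDiscreteValuationRing B]
  [Field L] [Algebra B L] [IsFractionRing B L]
  [Field M] [Algebra L M] [Algebra B M] [IsScalarTower B L M] [FiniteDimensional L M]

include L in
theorem isDedekindDomain_integralClosure : IsDedekindDomain (integralClosure B M) := by
  have hDK : Function.Injective (algebraMap (integralClosure B M) M) := Subtype.val_injective
  have hN : IsNoetherianRing (integralClosure B M) :=
    helper13.KA.isNoetherianRing_of_between B L M (integralClosure B M) hDK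
  have hD1 : Ring.DimensionLEOne (integralClosure B M) :=
    helper13.KA.dimensionLEOne_of_between B L M (integralClosure B M) hDK
  have hIC : IsIntegrallyClosed (integralClosure B M) :=
    integralClosure.isIntegrallyClosedOfFiniteExtension (K := L)
  exact { hN, hD1, hIC with }

include L in
/-- a valuation subring of a finite extension dominating a DVR is given by a `ℤ`-valued valuation -/
theorem exists_discrete_valuation (W : ValuationSubring M)
    (hW : EtRam.Dominates B (algebraMap B M) W) :
    ∃ v : Valuation M (WithZero (Multiplicative ℤ)), (∀ x, x ∈ W ↔ v x ≤ 1) ∧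
      (∀ x, W.valuation x < 1 ↔ v x < 1) ∧ (∀ x, W.valuation x = 1 ↔ v x = 1) := by
  haveI : Module.IsTorsionFree B M := .trans_faithfulSMul B L M
  haveI : IsDedekindDomain (integralClosure B M) := isDedekindDomain_integralClosure B L M
  haveI : IsFractionRing (integralClosure B M) M :=
    integralClosure.isFractionRing_of_finite_extension L M
  obtain ⟨w, hw, rfl⟩ := exists_w (integralClosure B M) W hW
  exact ⟨w.valuation M, fun x => mem_Vw w x, fun x => Vw_val_lt_one w x, fun x => Vw_val_eq_one w x⟩

end D1

section LocalHom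

variable {A : Type u} [CommRing A] [IsLocalRing A] {F : Type u} [Field F]

theorem isLocalHom_codRestrict (g : A →+* F) (V : ValuationSubring F)
    (hV : EtRam.Dominates A g V) : IsLocalHom (RingHom.codRestrict g V hV.1) := by
  constructor
  intro a ha
  by_contra hna
  have h1 := hV.2 a ((IsLocalRing.mem_maximalIdeal a).mpr hna)
  have h2 := (ValuationSubring.valuation_eq_one_iff V _).mp ha
  have h3 : ((RingHom.codRestrict g V hV.1 a : V) : F) = g a := rfl
  rw [h3] at h2
  rw [h2] at h1
  exact lt_irrefl _ h1

end LocalHom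

section D2

variable {K₁ M : Type u} [Field K₁] [Field M]

/-- the contraction of a discretely valued valuation ring has principal maximal ideal -/
theorem exists_uniformizer_comap (W : ValuationSubring M) (f : K₁ →+* M)
    (v : Valuation M (WithZero (Multiplicative ℤ))) (hv : ∀ x, x ∈ W ↔ v x ≤ 1)
    (hv1 : ∀ x, W.valuation x < 1 ↔ v x < 1)
    (hne : ∃ q : K₁, q ≠ 0 ∧ v (f q) < 1) :
    ∃ πQ : W.comap f, maximalIdeal (W.comap f) = Ideal.span {πQ} ∧ (πQ : K₁) ≠ 0 ∧
      v (f πQ) < 1 := by
  classical
  -- choose an element of maximal valuation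
  have hex : ∃ n : ℕ, ∃ q : K₁, q ≠ 0 ∧ v (f q) < 1 ∧ v (f q) = WithZero.exp (-(n : ℤ)) := by
    obtain ⟨q, hq0, hq⟩ := hne
    have hfq0 : v (f q) ≠ 0 := (Valuation.ne_zero_iff v).mpr ((map_ne_zero f).mpr hq0)
    have hlog : WithZero.log (v (f q)) < 0 := by
      rw [← WithZero.exp_log hfq0, ← WithZero.exp_zero, WithZero.exp_lt_exp] at hq
      exact hq
    refine ⟨(-(WithZero.log (v (f q)))).toNat, q, hq0, hq, ?_⟩
    rw [Int.toNat_of_nonneg (by omega), neg_neg, WithZero.exp_log hfq0]
  obtain ⟨q₀, hq₀0, hq₀lt, hq₀⟩ := Nat.find_spec hex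
  have hmin : ∀ q : K₁, q ≠ 0 → v (f q) < 1 → v (f q) ≤ v (f q₀) := by
    intro q hq0 hq
    have hfq0 : v (f q) ≠ 0 := (Valuation.ne_zero_iff v).mpr ((map_ne_zero f).mpr hq0)
    have hlog : WithZero.log (v (f q)) < 0 := by
      rw [← WithZero.exp_log hfq0, ← WithZero.exp_zero, WithZero.exp_lt_exp] at hq
      exact hq
    have hmem : ∃ q' : K₁, q' ≠ 0 ∧ v (f q') < 1 ∧
        v (f q') = WithZero.exp (-(((-(WithZero.log (v (f q)))).toNat : ℕ) : ℤ)) :=
      ⟨q, hq0, hq, by rw [Int.toNat_of_nonneg (by omega), neg_neg, WithZero.exp_log hfq0]⟩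
    have hle := Nat.find_min' hex hmem
    rw [hq₀, ← WithZero.exp_log hfq0, WithZero.exp_le_exp]
    omega
  have hq₀mem : q₀ ∈ W.comap f := by
    rw [ValuationSubring.mem_comap, hv]; exact hq₀lt.le
  refine ⟨⟨q₀, hq₀mem⟩, ?_, hq₀0, hq₀lt⟩
  apply le_antisymm
  · intro q hq
    rw [ValuationSubring.valuation_lt_one_iff] at hq
    have hq' : v (f (q : K₁)) < 1 := by
      rw [← hv1, ← TotRam.comap_val_lt_one_iff]; exact hq
    rw [Ideal.mem_span_singleton']
    rcases eq_or_ne (q : K₁) 0 with h0 | h0
    · exact ⟨0, by rw [zero_mul]; exact Subtype.ext h0.symm⟩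
    have hdiv : (q : K₁) / q₀ ∈ W.comap f := by
      rw [ValuationSubring.mem_comap, hv, map_div₀, map_div₀]
      exact div_le_one_of_le₀ (hmin _ h0 hq') zero_le
    refine ⟨⟨_, hdiv⟩, Subtype.ext ?_⟩
    show (q : K₁) / q₀ * q₀ = q
    exact div_mul_cancel₀ _ hq₀0
  · rw [Ideal.span_le, Set.singleton_subset_iff, SetLike.mem_coe,
      ValuationSubring.valuation_lt_one_iff]
    show (W.comap f).valuation q₀ < 1
    rw [TotRam.comap_val_lt_one_iff, hv1]; exact hq₀lt

end D2

section D3

variable {L K₁ M : Type u} [Field L] [Field K₁] [Field M] [Algebra L M]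

/-- generation of a compositum by a subring with the right fraction fields -/
theorem gen_of_adjoin (f : K₁ →+* M) (R : Subring M)
    (hL : ∀ l : L, algebraMap L M l ∈ fracField R) (hK : ∀ y : K₁, f y ∈ fracField R)
    (hgen : Algebra.adjoin L (Set.range f) = ⊤) : ∀ x : M, x ∈ fracField R := by
  intro x
  have hx : x ∈ Algebra.adjoin L (Set.range f) := by rw [hgen]; trivial
  induction hx using Algebra.adjoin_induction with
  | mem x hx =>
    obtain ⟨y, rfl⟩ := hx
    exact hK y
  | algebraMap l => exact hL l
  | add x y _ _ ihx ihy => exact (fracField R).add_mem ihx ihy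
  | mul x y _ _ ihx ihy => exact (fracField R).mul_mem ihx ihy

end D3

end CompDvr

end Groth.Agent.Lib.helper10
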