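import Mathlib
import Groth.Prelude.Def_EtRam
import Groth.Agent.Lib.Helper10.CompDvr3

/-!
Compositum lemma for discrete valuation rings (helper10), part 4: valuation subring form.
-/

set_option autoImplicit false
set_option linter.unusedSectionVars false
set_option linter.style.haveILetI false

universe u

open IsLocalRing TensorProduct

namespace Groth.Agent.Lib.helper10

namespace CompDvr

section VNRTensor

variable (k E E' : Type u) [Field k] [Field E] [Field E'] [Algebra k E] [Algebra k E']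

theorem vnr_tensor_right [IsReduced (E ⊗[k] E')] [Algebra.IsIntegral k E'] (t : E ⊗[k] E') :
    ∃ u, t = t * t * u := by
  haveI : Algebra.IsAlgebraic E (E ⊗[k] E') := Algebra.IsIntegral.isAlgebraic
  exact vnr_of_isReduced_of_isAlgebraic (E := E) t

theorem vnr_tensor_left [IsReduced (E' ⊗[k] E)] [Algebra.IsIntegral k E'] (t : E' ⊗[k] E) :
    ∃ u, t = t * t * u := by
  haveI : IsReduced (E ⊗[k] E') :=
    isReduced_of_injective (Algebra.TensorProduct.comm k E E').toRingEquiv.toRingHom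
      (Algebra.TensorProduct.comm k E E').injective
  obtain ⟨u, hu⟩ := vnr_tensor_right k E E' (Algebra.TensorProduct.comm k E' E t)
  refine ⟨(Algebra.TensorProduct.comm k E' E).symm u, ?_⟩
  apply (Algebra.TensorProduct.comm k E' E).injective
  rw [map_mul, map_mul, AlgEquiv.apply_symm_apply]
  exact hu

end VNRTensor

section Apply

variable {A P Q F : Type u} [CommRing A] [IsLocalRing A] [CommRing P] [IsLocalRing P]
  [CommRing Q] [IsLocalRing Q] [Algebra A P] [Algebra A Q] [IsLocalHom (algebraMap A P)]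
  [IsLocalHom (algebraMap A Q)] [Field F] (jP : P →+* F) (jQ : Q →+* F)

theorem apply (W : ValuationSubring F) (v : Valuation F (WithZero (Multiplicative ℤ)))
    (hv : ∀ x, x ∈ W ↔ v x ≤ 1) (hv1 : ∀ x, W.valuation x < 1 ↔ v x < 1)
    (hP : EtRam.Dominates P jP W) (hQ : EtRam.Dominates Q jQ W)
    (hcompat : ∀ a : A, jP (algebraMap A P a) = jQ (algebraMap A Q a))
    (hwu : (maximalIdeal A).map (algebraMap A P) = maximalIdeal P)
    (πQ : Q) (hπQ : maximalIdeal Q = Ideal.span {πQ}) (hπ0 : jQ πQ ≠ 0)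
    (hT : ∀ t : ResidueField P ⊗[ResidueField A] ResidueField Q, ∃ u, t = t * t * u)
    (hgen : ∀ x : F, x ∈ fracField (RR jP jQ)) :
    (∀ x : F, W.valuation x < 1 → ∃ y ∈ W, x = y * jQ πQ) ∧
    (∀ x ∈ W, ∃ a ∈ RR jP jQ, W.valuation (x - a) < 1) := by
  have hπmem : πQ ∈ maximalIdeal Q := by rw [hπQ]; exact Ideal.mem_span_singleton_self _
  obtain ⟨h1, h2⟩ := main jP jQ v hcompat hwu πQ hπQ hT
    (fun p => (hv _).mp (hP.1 p)) (fun q => (hv _).mp (hQ.1 q))
    ((hv1 _).mp (hQ.2 πQ hπmem)) hπ0 hgen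
  refine ⟨fun x hx => ?_, fun x hx => ?_⟩
  · refine ⟨x / jQ πQ, (hv _).mpr (h1 x ((hv1 x).mp hx)), ?_⟩
    rw [div_mul_cancel₀ _ hπ0]
  · obtain ⟨a, ha, hxa⟩ := h2 x ((hv x).mp hx)
    exact ⟨a, ha, (hv1 _).mpr hxa⟩

theorem RR_le (W : ValuationSubring F) (hP : ∀ p, jP p ∈ W) (hQ : ∀ q, jQ q ∈ W) :
    RR jP jQ ≤ W.toSubring := by
  apply Subring.closure_le.mpr
  rintro x (⟨p, rfl⟩ | ⟨q, rfl⟩)
  · exact hP p
  · exact hQ q

/-- residue field generation -/
theorem residue_mem_closure (W : ValuationSubring F) (hP : ∀ p, jP p ∈ W) (hQ : ∀ q, jQ q ∈ W)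
    (h2 : ∀ x ∈ W, ∃ a ∈ RR jP jQ, W.valuation (x - a) < 1) (y : ResidueField W) :
    y ∈ Subring.closure (Set.range (fun p => residue W (RingHom.codRestrict jP W hP p)) ∪
      Set.range (fun q => residue W (RingHom.codRestrict jQ W hQ q))) := by
  obtain ⟨x, rfl⟩ := residue_surjective y
  obtain ⟨a, ha, hxa⟩ := h2 x x.2
  have haW : a ∈ W := RR_le jP jQ W hP hQ ha
  have hres : residue W x = residue W ⟨a, haW⟩ := by
    rw [← sub_eq_zero, ← map_sub, residue_eq_zero_iff, ValuationSubring.valuation_lt_one_iff]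
    exact hxa
  rw [hres]
  clear hres hxa
  induction ha using Subring.closure_induction with
  | mem z hz =>
    apply Subring.subset_closure
    rcases hz with ⟨p, rfl⟩ | ⟨q, rfl⟩
    · exact Or.inl ⟨p, rfl⟩
    · exact Or.inr ⟨q, rfl⟩
  | zero => exact Subring.zero_mem _
  | one => exact Subring.one_mem _
  | add z z' hz hz' ihz ihz' =>
    have hzW := RR_le jP jQ W hP hQ hz
    have hzW' := RR_le jP jQ W hP hQ hz'
    have : residue W ⟨z + z', haW⟩ = residue W ⟨z, hzW⟩ + residue W ⟨z', hzW'⟩ := by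
      rw [← map_add]; rfl
    rw [this]
    exact Subring.add_mem _ (ihz hzW) (ihz' hzW')
  | neg z hz ihz =>
    have hzW := RR_le jP jQ W hP hQ hz
    have : residue W ⟨-z, haW⟩ = - residue W ⟨z, hzW⟩ := by
      rw [← map_neg]; rfl
    rw [this]
    exact Subring.neg_mem _ (ihz hzW)
  | mul z z' hz hz' ihz ihz' =>
    have hzW := RR_le jP jQ W hP hQ hz
    have hzW' := RR_le jP jQ W hP hQ hz'
    have : residue W ⟨z * z', haW⟩ = residue W ⟨z, hzW⟩ * residue W ⟨z', hzW'⟩ := by
      rw [← map_mul]; rfl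
    rw [this]
    exact Subring.mul_mem _ (ihz hzW) (ihz' hzW')

end Apply

end CompDvr

end Groth.Agent.Lib.helper10
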