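import Mathlib
import Groth.Prelude.Def_EtRam
import Groth.Agent.Lib.Helper10.CompDvr4

/-!
Compositum lemma for discrete valuation rings (helper10), part 5: integrality of residue field
extensions, reducedness of quotients of von Neumann regular rings.
-/

set_option autoImplicit false
set_option linter.unusedSectionVars false
set_option linter.style.haveILetI false

universe u

open IsLocalRing IsDedekindDomain TensorProduct

namespace Groth.Agent.Lib.helper10

namespace CompDvr

open DvrExt

section VNRRed

theorem isReduced_of_vnr {T : Type*} [CommRing T] (h : ∀ t : T, ∃ u, t = t * t * u) :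
    IsReduced T := by
  constructor
  rintro t ⟨n, hn⟩
  obtain ⟨u, hu⟩ := h t
  have key : ∀ m : ℕ, t = t ^ (m + 1) * u ^ m := by
    intro m
    induction m with
    | zero => simp
    | succ m ih =>
      calc t = t * t * u := hu
        _ = (t ^ (m + 1) * u ^ m) * t * u := by rw [← ih]
        _ = t ^ (m + 2) * u ^ (m + 1) := by ring
  have := key n
  rw [pow_succ, hn, zero_mul, zero_mul] at this
  exact this

theorem vnr_of_surjective {T S : Type*} [CommRing T] [CommRing S] (φ : T →+* S)
    (hφ : Function.Surjective φ) (h : ∀ t : T, ∃ u, t = t * t * u) (s : S) :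
    ∃ u, s = s * s * u := by
  obtain ⟨t, rfl⟩ := hφ s
  obtain ⟨u, hu⟩ := h t
  exact ⟨φ u, by rw [← map_mul, ← map_mul, ← hu]⟩

end VNRRed

section IntRes

variable (A K K₁ : Type u) [CommRing A] [IsDomain A] [IsDiscreteValuationRing A]
  [Field K] [Algebra A K] [IsFractionRing A K]
  [Field K₁] [Algebra K K₁] [Algebra A K₁] [IsScalarTower A K K₁] [FiniteDimensional K K₁]

include K in
theorem isIntegral_residue (V : ValuationSubring K₁)
    (hV : EtRam.Dominates A (algebraMap A K₁) V) :
    letI : Algebra A V := (RingHom.codRestrict (algebraMap A K₁) V hV.1).toAlgebra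
    ∀ [IsLocalHom (algebraMap A V)], Algebra.IsIntegral (ResidueField A) (ResidueField V) := by
  haveI : Module.IsTorsionFree A K₁ := .trans_faithfulSMul A K K₁
  haveI : IsDedekindDomain (integralClosure A K₁) := isDedekindDomain_integralClosure A K K₁
  haveI : IsFractionRing (integralClosure A K₁) K₁ :=
    integralClosure.isFractionRing_of_finite_extension K K₁
  obtain ⟨w, hw, rfl⟩ := exists_w (integralClosure A K₁) V hV
  letI : Algebra A (Vw (L := K₁) w) :=
    (RingHom.codRestrict (algebraMap A K₁) (Vw (L := K₁) w) hV.1).toAlgebra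
  intro _
  constructor
  intro y
  obtain ⟨xbar, rfl⟩ := (resMap_bijective (L := K₁) w).2 y
  obtain ⟨x, rfl⟩ := Ideal.Quotient.mk_surjective xbar
  rw [resMap_mk]
  have hx : IsIntegral A (x : K₁) := x.2
  have hx' : IsIntegral A (inclw (L := K₁) w x) := by
    obtain ⟨p, hp, hpx⟩ := hx
    refine ⟨p, hp, ?_⟩
    apply Subtype.ext
    have : ((Polynomial.eval₂ (algebraMap A (Vw (L := K₁) w)) (inclw (L := K₁) w x) p :
        Vw (L := K₁) w) : K₁) = Polynomial.eval₂ (algebraMap A K₁) (x : K₁) p := by
      have h := Polynomial.hom_eval₂ p (algebraMap A (Vw (L := K₁) w)) (Vw (L := K₁) w).subtype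
        (inclw (L := K₁) w x)
      exact h
    rw [this, hpx]; rfl
  have hx'' : IsIntegral A (residue (Vw (L := K₁) w) (inclw (L := K₁) w x)) :=
    hx'.map (IsScalarTower.toAlgHom A (Vw (L := K₁) w) (ResidueField (Vw (L := K₁) w)))
  exact hx''.tower_top

end IntRes

end CompDvr

end Groth.Agent.Lib.helper10
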