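import Mathlib
import Groth.Agent.Lib.Helper10.CompDvr5

/-!
Compositum lemma for discrete valuation rings (helper10), part 6: geometric reducedness of a
compositum `E·Q'` over `Q'` when `E/k` is geometrically reduced and `Q'/k` is algebraic.
-/

set_option autoImplicit false
set_option linter.unusedSectionVars false
set_option linter.style.haveILetI false

universe u

open TensorProduct

namespace Groth.Agent.Lib.helper10

namespace CompDvr

section GR

variable (k E Q' W' : Type u) [Field k] [Field E] [Field Q'] [Field W']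
  [Algebra k E] [Algebra k Q'] [Algebra k W'] [Algebra E W'] [Algebra Q' W']
  [IsScalarTower k E W'] [IsScalarTower k Q' W']

theorem geomReduced_compositum [Algebra.IsGeometricallyReduced k E] [Algebra.IsAlgebraic k Q']
    (hgen : ∀ y : W', y ∈ Subring.closure
      (Set.range (algebraMap E W') ∪ Set.range (algebraMap Q' W'))) :
    Algebra.IsGeometricallyReduced Q' W' := by
  rw [Algebra.isGeometricallyReduced_field_iff]
  haveI : Algebra.IsAlgebraic k (AlgebraicClosure Q') :=
    Algebra.IsAlgebraic.trans k Q' (AlgebraicClosure Q')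
  haveI : Algebra.IsIntegral k (AlgebraicClosure Q') := Algebra.IsAlgebraic.isIntegral
  haveI : IsReduced (AlgebraicClosure Q' ⊗[k] E) := inferInstance
  haveI : IsReduced (E ⊗[k] AlgebraicClosure Q') :=
    isReduced_of_injective (Algebra.TensorProduct.comm k E (AlgebraicClosure Q')).toRingEquiv.toRingHom
      (Algebra.TensorProduct.comm k E (AlgebraicClosure Q')).injective
  have hU := vnr_tensor_right k E (AlgebraicClosure Q')
  -- the two maps into S
  let f₁ : E →ₐ[k] AlgebraicClosure Q' ⊗[Q'] W' :=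
    { (Algebra.TensorProduct.includeRight :
          W' →ₐ[Q'] AlgebraicClosure Q' ⊗[Q'] W').toRingHom.comp (algebraMap E W') with
      commutes' := by
        intro r
        show (1 : AlgebraicClosure Q') ⊗ₜ[Q'] (algebraMap E W' (algebraMap k E r)) =
          (algebraMap k (AlgebraicClosure Q') r) ⊗ₜ[Q'] (1 : W')
        rw [← IsScalarTower.algebraMap_apply k E W', IsScalarTower.algebraMap_apply k Q' W',
          IsScalarTower.algebraMap_apply k Q' (AlgebraicClosure Q'),
          Algebra.algebraMap_eq_smul_one (algebraMap k Q' r),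
          Algebra.algebraMap_eq_smul_one (algebraMap k Q' r), TensorProduct.smul_tmul] }
  let g₁ : AlgebraicClosure Q' →ₐ[k] AlgebraicClosure Q' ⊗[Q'] W' :=
    Algebra.TensorProduct.includeLeft
  let Θ : E ⊗[k] AlgebraicClosure Q' →ₐ[k] AlgebraicClosure Q' ⊗[Q'] W' :=
    Algebra.TensorProduct.productMap f₁ g₁
  have hΘ : ∀ (e : E) (ω : AlgebraicClosure Q'), Θ (e ⊗ₜ ω) = ω ⊗ₜ[Q'] algebraMap E W' e := by
    intro e ω
    show Algebra.TensorProduct.productMap f₁ g₁ (e ⊗ₜ ω) = _
    rw [Algebra.TensorProduct.productMap_apply_tmul]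
    show ((1 : AlgebraicClosure Q') ⊗ₜ[Q'] algebraMap E W' e) * (ω ⊗ₜ[Q'] (1 : W')) = _
    rw [Algebra.TensorProduct.tmul_mul_tmul, one_mul, mul_one]
  have hmem : ∀ y : W', y ∈ Subring.closure
      (Set.range (algebraMap E W') ∪ Set.range (algebraMap Q' W')) →
      ∀ ω : AlgebraicClosure Q', ω ⊗ₜ[Q'] y ∈ Θ.range := by
    intro y hy
    induction hy using Subring.closure_induction with
    | mem z hz =>
      intro ω
      rcases hz with ⟨e, rfl⟩ | ⟨q, rfl⟩
      · exact ⟨e ⊗ₜ ω, hΘ e ω⟩
      · refine ⟨1 ⊗ₜ (q • ω), ?_⟩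
        show Θ (1 ⊗ₜ (q • ω)) = _
        rw [hΘ, map_one, Algebra.algebraMap_eq_smul_one q, TensorProduct.smul_tmul]
    | zero => intro ω; rw [TensorProduct.tmul_zero]; exact Subalgebra.zero_mem _
    | one => intro ω; exact ⟨1 ⊗ₜ ω, by show Θ (1 ⊗ₜ ω) = _; rw [hΘ, map_one]⟩
    | add z z' _ _ ihz ihz' =>
      intro ω; rw [TensorProduct.tmul_add]; exact Subalgebra.add_mem _ (ihz ω) (ihz' ω)
    | neg z _ ihz =>
      intro ω; rw [TensorProduct.tmul_neg]; exact Subalgebra.neg_mem _ (ihz ω)
    | mul z z' _ _ ihz ihz' =>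
      intro ω
      have : ω ⊗ₜ[Q'] (z * z') = (ω ⊗ₜ[Q'] z) * ((1 : AlgebraicClosure Q') ⊗ₜ[Q'] z') := by
        rw [Algebra.TensorProduct.tmul_mul_tmul, mul_one]
      rw [this]
      exact Subalgebra.mul_mem _ (ihz ω) (ihz' 1)
  have hsurj : Function.Surjective Θ := by
    intro s
    induction s using TensorProduct.induction_on with
    | zero => exact ⟨0, map_zero _⟩
    | tmul ω y => exact hmem y (hgen y) ω
    | add a b ha hb =>
      obtain ⟨a', rfl⟩ := ha
      obtain ⟨b', rfl⟩ := hb
      exact ⟨a' + b', map_add _ _ _⟩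
  exact isReduced_of_vnr (vnr_of_surjective Θ.toRingHom hsurj hU)

end GR

end CompDvr

end Groth.Agent.Lib.helper10
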