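import Mathlib
import Groth.Agent.Lib.Helper10.CompDvr6

/-!
Compositum lemma for discrete valuation rings (helper10), part 7: adjoining an `n`-th root of a
unit to a von Neumann regular ring (`n` invertible) keeps it von Neumann regular.
-/

set_option autoImplicit false
set_option linter.unusedSectionVars false
set_option linter.style.haveILetI false

universe u

open Polynomial

namespace Groth.Agent.Lib.helper10

namespace CompDvr

section Fibres

theorem isReduced_of_fibres {T T' : Type*} [CommRing T] [CommRing T'] [Algebra T T']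
    (hT : ∀ t : T, ∃ u, t = t * t * u)
    (hfib : ∀ n₀ : Ideal T, n₀.IsMaximal → IsReduced (T' ⧸ n₀.map (algebraMap T T'))) :
    IsReduced T' := by
  constructor
  rintro t' ⟨N, hN⟩
  let I : Ideal T :=
    { carrier := {a | a • t' = 0}
      add_mem' := by
        intro a b ha hb
        change a • t' = 0 at ha; change b • t' = 0 at hb; change (a + b) • t' = 0
        rw [add_smul, ha, hb, add_zero]
      zero_mem' := by simp
      smul_mem' := by
        intro c a ha
        change a • t' = 0 at ha; change (c • a) • t' = 0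
        rw [smul_eq_mul, mul_smul, ha, smul_zero] }
  have hI : I = ⊤ := by
    by_contra hne
    obtain ⟨n₀, hn₀, hle⟩ := Ideal.exists_le_maximal I hne
    haveI := hfib n₀ hn₀
    have h1 : t' ∈ n₀.map (algebraMap T T') := by
      rw [← Ideal.Quotient.eq_zero_iff_mem]
      apply IsNilpotent.eq_zero
      exact ⟨N, by rw [← map_pow, hN, map_zero]⟩
    let J : Ideal T' :=
      { carrier := {y | ∃ s₀ : T, s₀ ∉ n₀ ∧ s₀ • y = 0}
        add_mem' := by
          rintro y y' ⟨s, hs, hsy⟩ ⟨s', hs', hsy'⟩
          refine ⟨s * s', fun h => (hn₀.isPrime.mem_or_mem h).elim hs hs', ?_⟩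
          rw [smul_add, mul_comm s s', mul_smul, hsy, smul_zero, mul_comm s' s, mul_smul, hsy',
            smul_zero, add_zero]
        zero_mem' := ⟨1, fun h => hn₀.ne_top ((Ideal.eq_top_iff_one _).mpr h), by simp⟩
        smul_mem' := by
          rintro c y ⟨s, hs, hsy⟩
          refine ⟨s, hs, ?_⟩
          rw [smul_eq_mul, ← mul_smul_comm, hsy, mul_zero] }
    have hJ : n₀.map (algebraMap T T') ≤ J := by
      rw [Ideal.map_le_iff_le_comap]
      intro a ha
      obtain ⟨u, hu⟩ := hT a
      refine ⟨1 - a * u, fun h => ?_, ?_⟩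
      · have : (1 : T) ∈ n₀ := by
          have h2 : a * u ∈ n₀ := n₀.mul_mem_right u ha
          have := n₀.add_mem h h2
          rwa [sub_add_cancel] at this
        exact hn₀.ne_top ((Ideal.eq_top_iff_one _).mpr this)
      · rw [Algebra.smul_def, ← map_mul]
        have : (1 - a * u) * a = 0 := by
          have h3 : (1 - a * u) * a = a - a * a * u := by ring
          rw [h3, ← hu, sub_self]
        rw [this, map_zero]
    obtain ⟨s₀, hs₀, hs₀t⟩ := hJ h1
    exact hs₀ (hle hs₀t)
  have h1 : (1 : T) ∈ I := by rw [hI]; trivial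
  have h2 : (1 : T) • t' = 0 := h1
  rwa [one_smul] at h2

theorem isReduced_quot_separable (F₀ : Type*) [Field F₀] (g : F₀[X]) (hg : g.Separable) :
    IsReduced (F₀[X] ⧸ Ideal.span {g}) := by
  rw [← Ideal.isRadical_iff_quotient_reduced, ← isRadical_iff_span_singleton]
  exact hg.squarefree.isRadical

theorem isReduced_adjoinRoot (T : Type*) [CommRing T] (hT : ∀ t : T, ∃ u, t = t * t * u)
    (n : ℕ) (c : Tˣ) (hn : IsUnit (n : T)) :
    IsReduced (AdjoinRoot (X ^ n - C (c : T))) := by
  apply isReduced_of_fibres hT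
  intro n₀ hn₀
  letI : Field (T ⧸ n₀) := Ideal.Quotient.field n₀
  rw [AdjoinRoot.algebraMap_eq]
  have hsep : ((X ^ n - C (c : T)).map (Ideal.Quotient.mk n₀)).Separable := by
    rw [Polynomial.map_sub, Polynomial.map_pow, map_X, map_C]
    have := separable_X_pow_sub_C_unit (Units.map (Ideal.Quotient.mk n₀).toMonoidHom c)
      (by simpa using hn.map (Ideal.Quotient.mk n₀))
    exact this
  haveI := isReduced_quot_separable (T ⧸ n₀) _ hsep
  exact isReduced_of_injective
    (AdjoinRoot.quotAdjoinRootEquivQuotPolynomialQuot n₀ (X ^ n - C (c : T))).toRingHom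
    (AdjoinRoot.quotAdjoinRootEquivQuotPolynomialQuot n₀ (X ^ n - C (c : T))).injective

theorem vnr_adjoinRoot (E T : Type*) [Field E] [CommRing T] [Algebra E T]
    [Algebra.IsIntegral E T] (hT : ∀ t : T, ∃ u, t = t * t * u)
    (n : ℕ) (hn0 : n ≠ 0) (c : Tˣ) (hn : IsUnit (n : T))
    (t' : AdjoinRoot (X ^ n - C (c : T))) : ∃ u, t' = t' * t' * u := by
  haveI := isReduced_adjoinRoot T hT n c hn
  have hmonic : (X ^ n - C (c : T)).Monic := monic_X_pow_sub_C _ hn0
  haveI : Module.Finite T (AdjoinRoot (X ^ n - C (c : T))) := hmonic.finite_adjoinRoot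
  haveI : Algebra.IsIntegral T (AdjoinRoot (X ^ n - C (c : T))) := Algebra.IsIntegral.of_finite _ _
  haveI : Algebra.IsIntegral E (AdjoinRoot (X ^ n - C (c : T))) :=
    Algebra.IsIntegral.trans (R := E) T
  haveI : Algebra.IsAlgebraic E (AdjoinRoot (X ^ n - C (c : T))) := Algebra.IsIntegral.isAlgebraic
  exact vnr_of_isReduced_of_isAlgebraic (E := E) t'

end Fibres

end CompDvr

end Groth.Agent.Lib.helper10
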