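import Mathlib
import Groth.Prelude.Def_EtRam
import Groth.Agent.Lib.Helper10.CompDvr8

/-!
Compositum lemma for discrete valuation rings (helper10), part 9: valuation subring form of the
root version, residue field generation, geometric reducedness with a root.
-/

set_option autoImplicit false
set_option linter.unusedSectionVars false
set_option linter.style.haveILetI false

universe u

open IsLocalRing TensorProduct Polynomial

namespace Groth.Agent.Lib.helper10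

namespace CompDvr

section Apply

variable {A P Q F : Type u} [CommRing A] [IsLocalRing A] [CommRing P] [IsLocalRing P]
  [CommRing Q] [IsLocalRing Q] [Algebra A P] [Algebra A Q] [IsLocalHom (algebraMap A P)]
  [IsLocalHom (algebraMap A Q)] [Field F] (jP : P →+* F) (jQ : Q →+* F) (z zi : F)

theorem RRz_le (W : ValuationSubring F) (hP : ∀ p, jP p ∈ W) (hQ : ∀ q, jQ q ∈ W)
    (hzW : z ∈ W) (hziW : zi ∈ W) : RRz jP jQ z zi ≤ W.toSubring := by
  apply Subring.closure_le.mpr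
  rintro x ((⟨p, rfl⟩ | ⟨q, rfl⟩) | (rfl | rfl))
  · exact hP p
  · exact hQ q
  · exact hzW
  · exact hziW

theorem apply_root (W : ValuationSubring F) (v : Valuation F (WithZero (Multiplicative ℤ)))
    (hv : ∀ x, x ∈ W ↔ v x ≤ 1) (hv1 : ∀ x, W.valuation x < 1 ↔ v x < 1)
    (hP : ∀ p, jP p ∈ W) (hQ : ∀ q, jQ q ∈ W) (hzW : z ∈ W) (hziW : zi ∈ W)
    (hcompat : ∀ a : A, jP (algebraMap A P a) = jQ (algebraMap A Q a))
    (π : F) (hπR : π ∈ RRz jP jQ z zi) (hπ0 : π ≠ 0) (hπv : W.valuation π < 1)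
    (hPπ : ∀ p ∈ maximalIdeal P, ∃ t ∈ RRz jP jQ z zi, jP p = π * t)
    (hQπ : ∀ q ∈ maximalIdeal Q, ∃ t ∈ RRz jP jQ z zi, jQ q = π * t)
    (hz : z * zi = 1) (n : ℕ) (hn0 : n ≠ 0) (a₁ : Pˣ) (a₂ : Qˣ)
    (hzn : z ^ n = jP a₁ * jQ a₂) (hnA : (n : ResidueField A) ≠ 0)
    [Algebra.IsIntegral (ResidueField A) (ResidueField Q)]
    (hT : ∀ t : ResidueField P ⊗[ResidueField A] ResidueField Q, ∃ u, t = t * t * u)
    (hgen : ∀ x : F, x ∈ fracField (RR jP jQ)) :
    (∀ x : F, W.valuation x < 1 → ∃ y ∈ W, x = y * π) ∧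
    (∀ x ∈ W, ∃ a ∈ RRz jP jQ z zi, W.valuation (x - a) < 1) := by
  have hle := RRz_le jP jQ z zi W hP hQ hzW hziW
  obtain ⟨h1, h2⟩ := core_unif v (RRz jP jQ z zi) π hπR hπ0 ((hv1 _).mp hπv)
    (fun r hr => (hv r).mp (hle hr))
    (vnr_mod_root jP jQ z zi hcompat π hπR hPπ hQπ hz n hn0 a₁ a₂ hzn hnA hT)
    (fun x => by
      obtain ⟨a, ha, b, hb, hb0, hab⟩ := (mem_fracField _ x).mp (hgen x)
      exact ⟨a, RR_le_RRz jP jQ z zi ha, b, RR_le_RRz jP jQ z zi hb, hb0, hab⟩)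
  refine ⟨fun x hx => ?_, fun x hx => ?_⟩
  · refine ⟨x / π, (hv _).mpr (h1 x ((hv1 x).mp hx)), ?_⟩
    rw [div_mul_cancel₀ _ hπ0]
  · obtain ⟨a, ha, hxa⟩ := h2 x ((hv x).mp hx)
    exact ⟨a, ha, (hv1 _).mpr hxa⟩

/-- residue field generation, root version -/
theorem residue_mem_closure_root (W : ValuationSubring F) (hP : ∀ p, jP p ∈ W)
    (hQ : ∀ q, jQ q ∈ W) (hzW : z ∈ W) (hziW : zi ∈ W)
    (h2 : ∀ x ∈ W, ∃ a ∈ RRz jP jQ z zi, W.valuation (x - a) < 1) (y : ResidueField W) :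
    y ∈ Subring.closure (Set.range (fun p => residue W (RingHom.codRestrict jP W hP p)) ∪
      Set.range (fun q => residue W (RingHom.codRestrict jQ W hQ q)) ∪
      {residue W ⟨z, hzW⟩, residue W ⟨zi, hziW⟩}) := by
  obtain ⟨x, rfl⟩ := residue_surjective y
  obtain ⟨a, ha, hxa⟩ := h2 x x.2
  have hle := RRz_le jP jQ z zi W hP hQ hzW hziW
  have haW : a ∈ W := hle ha
  have hres : residue W x = residue W ⟨a, haW⟩ := by
    rw [← sub_eq_zero, ← map_sub, residue_eq_zero_iff, ValuationSubring.valuation_lt_one_iff]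
    exact hxa
  rw [hres]
  clear hres hxa
  induction ha using Subring.closure_induction with
  | mem w hw =>
    apply Subring.subset_closure
    rcases hw with (⟨p, rfl⟩ | ⟨q, rfl⟩) | (rfl | rfl)
    · exact Or.inl (Or.inl ⟨p, rfl⟩)
    · exact Or.inl (Or.inr ⟨q, rfl⟩)
    · exact Or.inr (Or.inl rfl)
    · exact Or.inr (Or.inr rfl)
  | zero => exact Subring.zero_mem _
  | one => exact Subring.one_mem _
  | add w w' hw hw' ihw ihw' =>
    have hwW := hle hw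
    have hwW' := hle hw'
    have : residue W ⟨w + w', haW⟩ = residue W ⟨w, hwW⟩ + residue W ⟨w', hwW'⟩ := by
      rw [← map_add]; rfl
    rw [this]
    exact Subring.add_mem _ (ihw hwW) (ihw' hwW')
  | neg w hw ihw =>
    have hwW := hle hw
    have : residue W ⟨-w, haW⟩ = - residue W ⟨w, hwW⟩ := by
      rw [← map_neg]; rfl
    rw [this]
    exact Subring.neg_mem _ (ihw hwW)
  | mul w w' hw hw' ihw ihw' =>
    have hwW := hle hw
    have hwW' := hle hw'
    have : residue W ⟨w * w', haW⟩ = residue W ⟨w, hwW⟩ * residue W ⟨w', hwW'⟩ := by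
      rw [← map_mul]; rfl
    rw [this]
    exact Subring.mul_mem _ (ihw hwW) (ihw' hwW')

end Apply

section GR

variable (k E Q' W' : Type u) [Field k] [Field E] [Field Q'] [Field W']
  [Algebra k E] [Algebra k Q'] [Algebra k W'] [Algebra E W'] [Algebra Q' W']
  [IsScalarTower k E W'] [IsScalarTower k Q' W']

theorem geomReduced_compositum_root [Algebra.IsGeometricallyReduced k E]
    [Algebra.IsAlgebraic k Q'] (z zi : W') (hz : z * zi = 1) (n : ℕ) (hn0 : n ≠ 0)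
    (hnk : (n : k) ≠ 0) (e₁ : E) (he₁ : e₁ ≠ 0) (q₁ : Q') (hq₁ : q₁ ≠ 0)
    (hzn : z ^ n = algebraMap E W' e₁ * algebraMap Q' W' q₁)
    (hgen : ∀ y : W', y ∈ Subring.closure
      (Set.range (algebraMap E W') ∪ Set.range (algebraMap Q' W') ∪ {z, zi})) :
    Algebra.IsGeometricallyReduced Q' W' := by
  rw [Algebra.isGeometricallyReduced_field_iff]
  haveI : Algebra.IsAlgebraic k (AlgebraicClosure Q') :=
    Algebra.IsAlgebraic.trans k Q' (AlgebraicClosure Q')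
  haveI : Algebra.IsIntegral k (AlgebraicClosure Q') := Algebra.IsAlgebraic.isIntegral
  haveI : IsReduced (AlgebraicClosure Q' ⊗[k] E) := inferInstance
  haveI : IsReduced (E ⊗[k] AlgebraicClosure Q') :=
    isReduced_of_injective (Algebra.TensorProduct.comm k E (AlgebraicClosure Q')).toRingEquiv.toRingHom
      (Algebra.TensorProduct.comm k E (AlgebraicClosure Q')).injective
  have hU := vnr_tensor_right k E (AlgebraicClosure Q')
  let f₁ : E →ₐ[k] AlgebraicClosure Q' ⊗[Q'] W' :=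
    { (Algebra.TensorProduct.includeRight :
          W' →ₐ[Q'] AlgebraicClosure Q' ⊗[Q'] W').toRingHom.comp (algebraMap E W') with
      commutes' := by
        intro r
        show (1 : AlgebraicClosure Q') ⊗ₜ[Q'] (algebraMap E W' (algebraMap k E r)) =
          (algebraMap k (AlgebraicClosure Q') r) ⊗ₜ[Q'] (1 : W')
        rw [← IsScalarTower.algebraMap_apply k E W', IsScalarTower.algebraMap_apply k Q' W',
          IsScalarTower.algebraMap_apply k Q' (AlgebraicClosure Q'),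
          Algebra.algebraMap_eq_smul_one (algebraMap k Q' r),
          Algebra.algebraMap_eq_smul_one (algebraMap k Q' r), TensorProduct.smul_tmul] }
  let g₁ : AlgebraicClosure Q' →ₐ[k] AlgebraicClosure Q' ⊗[Q'] W' :=
    Algebra.TensorProduct.includeLeft
  let Θ : E ⊗[k] AlgebraicClosure Q' →ₐ[k] AlgebraicClosure Q' ⊗[Q'] W' :=
    Algebra.TensorProduct.productMap f₁ g₁
  have hΘ : ∀ (e : E) (ω : AlgebraicClosure Q'), Θ (e ⊗ₜ ω) = ω ⊗ₜ[Q'] algebraMap E W' e := by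
    intro e ω
    show Algebra.TensorProduct.productMap f₁ g₁ (e ⊗ₜ ω) = _
    rw [Algebra.TensorProduct.productMap_apply_tmul]
    show ((1 : AlgebraicClosure Q') ⊗ₜ[Q'] algebraMap E W' e) * (ω ⊗ₜ[Q'] (1 : W')) = _
    rw [Algebra.TensorProduct.tmul_mul_tmul, one_mul, mul_one]
  -- the unit
  have hq₁' : algebraMap Q' (AlgebraicClosure Q') q₁ ≠ 0 := (_root_.map_ne_zero _).mpr hq₁
  let cU : (E ⊗[k] AlgebraicClosure Q')ˣ :=
    ⟨e₁ ⊗ₜ algebraMap Q' (AlgebraicClosure Q') q₁,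
      e₁⁻¹ ⊗ₜ (algebraMap Q' (AlgebraicClosure Q') q₁)⁻¹, by
      rw [Algebra.TensorProduct.tmul_mul_tmul, mul_inv_cancel₀ he₁, mul_inv_cancel₀ hq₁']; rfl, by
      rw [Algebra.TensorProduct.tmul_mul_tmul, inv_mul_cancel₀ he₁, inv_mul_cancel₀ hq₁']; rfl⟩
  have hnU : IsUnit ((n : ℕ) : E ⊗[k] AlgebraicClosure Q') := by
    have : ((n : ℕ) : E ⊗[k] AlgebraicClosure Q') = algebraMap k _ (n : k) := by simp
    rw [this]
    exact (IsUnit.mk0 _ hnk).map _
  haveI : Algebra.IsIntegral E (E ⊗[k] AlgebraicClosure Q') := inferInstance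
  have hU' := vnr_adjoinRoot E (E ⊗[k] AlgebraicClosure Q') hU n hn0 cU hnU
  have hzc : ((1 : AlgebraicClosure Q') ⊗ₜ[Q'] z) ^ n =
      Θ (cU : E ⊗[k] AlgebraicClosure Q') := by
    show _ = Θ (e₁ ⊗ₜ algebraMap Q' (AlgebraicClosure Q') q₁)
    rw [hΘ, Algebra.TensorProduct.tmul_pow, one_pow, hzn,
      Algebra.algebraMap_eq_smul_one q₁, Algebra.algebraMap_eq_smul_one q₁,
      mul_smul_comm, mul_one, TensorProduct.smul_tmul]
  let Θ' : AdjoinRoot (X ^ n - C (cU : E ⊗[k] AlgebraicClosure Q')) →+*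
      AlgebraicClosure Q' ⊗[Q'] W' :=
    AdjoinRoot.lift Θ.toRingHom ((1 : AlgebraicClosure Q') ⊗ₜ[Q'] z) (by
      rw [eval₂_sub, eval₂_pow, eval₂_X, eval₂_C, hzc]
      exact sub_self _)
  have hΘroot : Θ' (AdjoinRoot.root _) = (1 : AlgebraicClosure Q') ⊗ₜ[Q'] z :=
    AdjoinRoot.lift_root _
  have hΘof : ∀ t, Θ' (AdjoinRoot.of _ t) = Θ t := fun t => AdjoinRoot.lift_of _
  have hzi : ((1 : AlgebraicClosure Q') ⊗ₜ[Q'] zi) ∈ Θ'.range := by
    have h1 : ((1 : AlgebraicClosure Q') ⊗ₜ[Q'] z) * ((1 : AlgebraicClosure Q') ⊗ₜ[Q'] zi) = 1 := by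
      rw [Algebra.TensorProduct.tmul_mul_tmul, one_mul, hz]; rfl
    have h2 : ((1 : AlgebraicClosure Q') ⊗ₜ[Q'] z) * (((1 : AlgebraicClosure Q') ⊗ₜ[Q'] z) ^ (n - 1) *
        Θ ((cU⁻¹ : (E ⊗[k] AlgebraicClosure Q')ˣ) : E ⊗[k] AlgebraicClosure Q')) = 1 := by
      rw [← mul_assoc, ← pow_succ', Nat.sub_add_cancel (Nat.one_le_iff_ne_zero.mpr hn0), hzc,
        ← map_mul, ← Units.val_mul, mul_inv_cancel, Units.val_one, map_one]
    have h3 : ((1 : AlgebraicClosure Q') ⊗ₜ[Q'] zi) = ((1 : AlgebraicClosure Q') ⊗ₜ[Q'] z) ^ (n - 1) *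
        Θ ((cU⁻¹ : (E ⊗[k] AlgebraicClosure Q')ˣ) : E ⊗[k] AlgebraicClosure Q') := by
      calc ((1 : AlgebraicClosure Q') ⊗ₜ[Q'] zi)
          = ((1 : AlgebraicClosure Q') ⊗ₜ[Q'] zi) * (((1 : AlgebraicClosure Q') ⊗ₜ[Q'] z) *
            (((1 : AlgebraicClosure Q') ⊗ₜ[Q'] z) ^ (n - 1) * Θ _)) := by rw [h2, mul_one]
        _ = (((1 : AlgebraicClosure Q') ⊗ₜ[Q'] z) * ((1 : AlgebraicClosure Q') ⊗ₜ[Q'] zi)) *
            (((1 : AlgebraicClosure Q') ⊗ₜ[Q'] z) ^ (n - 1) * Θ _) := by ring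
        _ = _ := by rw [h1, one_mul]
    refine ⟨AdjoinRoot.root _ ^ (n - 1) * AdjoinRoot.of _
      ((cU⁻¹ : (E ⊗[k] AlgebraicClosure Q')ˣ) : E ⊗[k] AlgebraicClosure Q'), ?_⟩
    rw [map_mul, map_pow, hΘroot, hΘof]
    exact h3.symm
  have hmem : ∀ y : W', y ∈ Subring.closure
      (Set.range (algebraMap E W') ∪ Set.range (algebraMap Q' W') ∪ {z, zi}) →
      ∀ ω : AlgebraicClosure Q', ω ⊗ₜ[Q'] y ∈ Θ'.range := by
    intro y hy
    have hω : ∀ ω : AlgebraicClosure Q', ω ⊗ₜ[Q'] (1 : W') ∈ Θ'.range := by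
      intro ω
      exact ⟨AdjoinRoot.of _ (1 ⊗ₜ ω), by rw [hΘof, hΘ, map_one]⟩
    have hsplit : ∀ (ω : AlgebraicClosure Q') (y : W'),
        ω ⊗ₜ[Q'] y = (ω ⊗ₜ[Q'] (1 : W')) * ((1 : AlgebraicClosure Q') ⊗ₜ[Q'] y) := by
      intro ω y
      rw [Algebra.TensorProduct.tmul_mul_tmul, mul_one, one_mul]
    induction hy using Subring.closure_induction with
    | mem w hw =>
      intro ω
      rcases hw with (⟨e, rfl⟩ | ⟨q, rfl⟩) | (rfl | rfl)
      · exact ⟨AdjoinRoot.of _ (e ⊗ₜ ω), by rw [hΘof, hΘ]⟩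
      · refine ⟨AdjoinRoot.of _ (1 ⊗ₜ (q • ω)), ?_⟩
        rw [hΘof, hΘ, map_one, Algebra.algebraMap_eq_smul_one q, TensorProduct.smul_tmul]
      · rw [hsplit]
        exact Subring.mul_mem _ (hω ω) ⟨AdjoinRoot.root _, hΘroot⟩
      · rw [hsplit]
        exact Subring.mul_mem _ (hω ω) hzi
    | zero => intro ω; rw [TensorProduct.tmul_zero]; exact Subring.zero_mem _
    | one => intro ω; exact hω ω
    | add w w' _ _ ihw ihw' =>
      intro ω; rw [TensorProduct.tmul_add]; exact Subring.add_mem _ (ihw ω) (ihw' ω)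
    | neg w _ ihw =>
      intro ω; rw [TensorProduct.tmul_neg]; exact Subring.neg_mem _ (ihw ω)
    | mul w w' _ _ ihw ihw' =>
      intro ω
      have : ω ⊗ₜ[Q'] (w * w') = (ω ⊗ₜ[Q'] w) * ((1 : AlgebraicClosure Q') ⊗ₜ[Q'] w') := by
        rw [Algebra.TensorProduct.tmul_mul_tmul, mul_one]
      rw [this]
      exact Subring.mul_mem _ (ihw ω) (ihw' 1)
  have hsurj : Function.Surjective Θ' := by
    intro s
    induction s using TensorProduct.induction_on with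
    | zero => exact ⟨0, map_zero _⟩
    | tmul ω y => exact hmem y (hgen y) ω
    | add a b ha hb =>
      obtain ⟨a', rfl⟩ := ha
      obtain ⟨b', rfl⟩ := hb
      exact ⟨a' + b', map_add _ _ _⟩
  exact isReduced_of_vnr (vnr_of_surjective Θ' hsurj hU')

end GR

end CompDvr

end Groth.Agent.Lib.helper10
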