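import Mathlib
import Groth.Prelude.Def_EtRam
import Groth.Agent.Lib.Helper10.CompDvr9

/-!
Compositum lemma for discrete valuation rings (helper10), part 10: factorization in contracted
valuation rings and computation of `Ideal.ramificationIdx'`.
-/

set_option autoImplicit false
set_option linter.unusedSectionVars false
set_option linter.style.haveILetI false

universe u

open IsLocalRing

namespace Groth.Agent.Lib.helper10

namespace CompDvr

section Factor

variable {K₁ M : Type u} [Field K₁] [Field M]

theorem factor_comap (W : ValuationSubring M) (f : K₁ →+* M)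
    (v : Valuation M (WithZero (Multiplicative ℤ))) (hv : ∀ x, x ∈ W ↔ v x ≤ 1)
    (πQ : W.comap f) (hπQ : maximalIdeal (W.comap f) = Ideal.span {πQ})
    (hπv : v (f πQ) < 1) :
    ∀ q : W.comap f, q ≠ 0 → ∃ (k : ℕ) (u : (W.comap f)ˣ), q = u * πQ ^ k := by
  have key : ∀ (n : ℕ) (q : W.comap f), q ≠ 0 → WithZero.exp (-(n : ℤ)) ≤ v (f q) →
      ∃ (k : ℕ) (u : (W.comap f)ˣ), q = u * πQ ^ k := by
    intro n
    induction n with
    | zero =>
      intro q hq0 hq
      rw [Nat.cast_zero, neg_zero, WithZero.exp_zero] at hq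
      have hqu : IsUnit q := by
        by_contra hnu
        have hm : q ∈ maximalIdeal (W.comap f) := (IsLocalRing.mem_maximalIdeal _).mpr hnu
        rw [ValuationSubring.valuation_lt_one_iff, TotRam.comap_val_lt_one_iff,
          TotRam.val_lt_one_iff] at hm
        rcases hm with h0 | hinv
        · exact hq0 (Subtype.ext ((map_eq_zero f).mp h0))
        · apply hinv
          rw [hv, map_inv₀]
          have h0 : v (f q) ≠ 0 := by
            intro h; rw [h] at hq; exact absurd hq (not_le.mpr zero_lt_one)
          exact inv_le_one_of_one_le₀ hq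
      exact ⟨0, hqu.unit, by simp⟩
    | succ n ih =>
      intro q hq0 hq
      by_cases hqu : IsUnit q
      · exact ⟨0, hqu.unit, by simp⟩
      have hm : q ∈ maximalIdeal (W.comap f) := (IsLocalRing.mem_maximalIdeal _).mpr hqu
      rw [hπQ, Ideal.mem_span_singleton'] at hm
      obtain ⟨c, hc⟩ := hm
      have hc0 : c ≠ 0 := by
        rintro rfl
        rw [zero_mul] at hc
        exact hq0 hc.symm
      have hπ0 : v (f (πQ : K₁)) ≠ 0 := by
        intro h0
        have h1 : (πQ : K₁) = 0 := (map_eq_zero f).mp ((map_eq_zero v).mp h0)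
        apply hq0
        rw [← hc]
        apply Subtype.ext
        show (c : K₁) * (πQ : K₁) = 0
        rw [h1, mul_zero]
      have hvc : WithZero.exp (-(n : ℤ)) ≤ v (f c) := by
        have h2 : v (f q) = v (f c) * v (f πQ) := by
          rw [← hc]
          show v (f ((c : K₁) * (πQ : K₁))) = _
          rw [map_mul, map_mul]
        have h3 : v (f (πQ : K₁)) ≤ WithZero.exp (-1 : ℤ) := exp_neg_one_of_lt_one hπv
        by_contra hcon
        rw [not_le] at hcon
        have h4 : v (f q) < WithZero.exp (-(n : ℤ)) * WithZero.exp (-1 : ℤ) := by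
          rw [h2]
          calc v (f c) * v (f πQ) < WithZero.exp (-(n : ℤ)) * v (f πQ) :=
                mul_lt_mul_of_pos_right hcon (zero_lt_iff.mpr hπ0)
            _ ≤ WithZero.exp (-(n : ℤ)) * WithZero.exp (-1 : ℤ) := mul_le_mul' le_rfl h3
        rw [← WithZero.exp_add] at h4
        have h5 : -(n : ℤ) + (-1 : ℤ) = -((n + 1 : ℕ) : ℤ) := by push_cast; ring
        rw [h5] at h4
        exact absurd hq (not_le.mpr h4)
      obtain ⟨k, u, hku⟩ := ih c hc0 hvc
      exact ⟨k + 1, u, by rw [← hc, hku, pow_succ, mul_assoc]⟩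
  intro q hq0
  have hfq0 : v (f q) ≠ 0 := by
    intro h0
    exact hq0 (Subtype.ext ((map_eq_zero f).mp ((map_eq_zero v).mp h0)))
  have hle : WithZero.log (v (f q)) ≤ 0 := by
    have := (hv _).mp q.2
    rw [← WithZero.exp_log hfq0, ← WithZero.exp_zero, WithZero.exp_le_exp] at this
    exact this
  apply key (-(WithZero.log (v (f q)))).toNat q hq0
  rw [Int.toNat_of_nonneg (by omega), neg_neg, WithZero.exp_log hfq0]

end Factor

section RamIdx

variable {A Q : Type u} [CommRing A] [IsLocalRing A] [CommRing Q] [IsDomain Q] [IsLocalRing Q]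
  [Algebra A Q]

theorem ramificationIdx'_eq {πA : A} (hπA : maximalIdeal A = Ideal.span {πA}) {πQ : Q}
    (hπQ : maximalIdeal Q = Ideal.span {πQ}) (hπQ0 : πQ ≠ 0) (u : Qˣ) (k : ℕ)
    (h : algebraMap A Q πA = u * πQ ^ k) :
    Ideal.ramificationIdx' (maximalIdeal A) (maximalIdeal Q) = k := by
  have hnu : ¬ IsUnit πQ := by
    intro hu
    have : πQ ∈ maximalIdeal Q := by rw [hπQ]; exact Ideal.mem_span_singleton_self _
    exact (IsLocalRing.mem_maximalIdeal _).mp this hu
  apply Ideal.ramificationIdx'_spec
  · rw [hπA, Ideal.map_span, Set.image_singleton, hπQ, Ideal.span_singleton_pow,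
      Ideal.span_singleton_le_span_singleton, h]
    exact Dvd.intro_left _ rfl
  · rw [hπA, Ideal.map_span, Set.image_singleton, hπQ, Ideal.span_singleton_pow,
      Ideal.span_singleton_le_span_singleton, h]
    rintro ⟨c, hc⟩
    apply hnu
    have h1 : πQ ^ k * (u : Q) = πQ ^ k * (πQ * c) := by
      rw [mul_comm, hc, pow_succ]; ring
    have h2 := mul_left_cancel₀ (pow_ne_zero k hπQ0) h1
    exact isUnit_of_mul_isUnit_left (h2 ▸ u.isUnit)

end RamIdx

end CompDvr

end Groth.Agent.Lib.helper10
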