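import Mathlib
import Groth.Prelude.Def_EtRam
import Groth.Agent.Lib.Helper10.CompDvr10

/-!
Compositum lemma for discrete valuation rings (helper10), part 11: version with an adjoined
`n`-th root of a unit and an extra generator `π` (the uniformizer itself).
-/

set_option autoImplicit false
set_option linter.unusedSectionVars false
set_option linter.style.haveILetI false

universe u

open IsLocalRing TensorProduct Polynomial

namespace Groth.Agent.Lib.helper10

namespace CompDvr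

section Setup

variable {A P Q F : Type u} [CommRing A] [IsLocalRing A] [CommRing P] [IsLocalRing P]
  [CommRing Q] [IsLocalRing Q] [Algebra A P] [Algebra A Q] [IsLocalHom (algebraMap A P)]
  [IsLocalHom (algebraMap A Q)] [Field F] (jP : P →+* F) (jQ : Q →+* F) (z zi π : F)

/-- the subring generated by the images of `P`, `Q` and the elements `z`, `zi`, `π` -/
def RRzp : Subring F := Subring.closure (Set.range jP ∪ Set.range jQ ∪ {z, zi, π})

theorem jP_mem_zp (p : P) : jP p ∈ RRzp jP jQ z zi π :=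
  Subring.subset_closure (Or.inl (Or.inl ⟨p, rfl⟩))

theorem jQ_mem_zp (q : Q) : jQ q ∈ RRzp jP jQ z zi π :=
  Subring.subset_closure (Or.inl (Or.inr ⟨q, rfl⟩))

theorem z_mem_p : z ∈ RRzp jP jQ z zi π := Subring.subset_closure (Or.inr (Or.inl rfl))

theorem zi_mem_p : zi ∈ RRzp jP jQ z zi π := Subring.subset_closure (Or.inr (Or.inr (Or.inl rfl)))

theorem pi_mem_p : π ∈ RRzp jP jQ z zi π :=
  Subring.subset_closure (Or.inr (Or.inr (Or.inr rfl)))

theorem RR_le_RRzp : RR jP jQ ≤ RRzp jP jQ z zi π :=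
  Subring.closure_mono Set.subset_union_left

theorem vnr_mod_root_p (hcompat : ∀ a : A, jP (algebraMap A P a) = jQ (algebraMap A Q a))
    (hPπ : ∀ p ∈ maximalIdeal P, ∃ t ∈ RRzp jP jQ z zi π, jP p = π * t)
    (hQπ : ∀ q ∈ maximalIdeal Q, ∃ t ∈ RRzp jP jQ z zi π, jQ q = π * t)
    (hz : z * zi = 1) (n : ℕ) (hn0 : n ≠ 0) (a₁ : Pˣ) (a₂ : Qˣ)
    (hzn : z ^ n = jP a₁ * jQ a₂) (hnA : (n : ResidueField A) ≠ 0)
    [Algebra.IsIntegral (ResidueField A) (ResidueField Q)]
    (hT : ∀ t : ResidueField P ⊗[ResidueField A] ResidueField Q, ∃ u, t = t * t * u) :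
    ∀ r ∈ RRzp jP jQ z zi π, ∃ u ∈ RRzp jP jQ z zi π, ∃ t ∈ RRzp jP jQ z zi π, r - r * r * u = π * t := by
  have hπR : π ∈ RRzp jP jQ z zi π := pi_mem_p jP jQ z zi π
  obtain ⟨R, hR⟩ : ∃ R : Subring F, R = RRzp jP jQ z zi π := ⟨_, rfl⟩
  rw [← hR] at hπR hPπ hQπ ⊢
  have hjP : ∀ p, jP p ∈ R := fun p => hR ▸ jP_mem_zp jP jQ z zi π p
  have hjQ : ∀ q, jQ q ∈ R := fun q => hR ▸ jQ_mem_zp jP jQ z zi π q
  have hzR : z ∈ R := hR ▸ z_mem_p jP jQ z zi π
  have hziR : zi ∈ R := hR ▸ zi_mem_p jP jQ z zi π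
  obtain ⟨I, hI⟩ : ∃ I : Ideal R, I = Ideal.span {(⟨π, hπR⟩ : R)} := ⟨_, rfl⟩
  let φP : P →+* R := jP.codRestrict R hjP
  let φQ : Q →+* R := jQ.codRestrict R hjQ
  let gP : P →+* R ⧸ I := (Ideal.Quotient.mk I).comp φP
  let gQ : Q →+* R ⧸ I := (Ideal.Quotient.mk I).comp φQ
  have hφ : ∀ a : A, φP (algebraMap A P a) = φQ (algebraMap A Q a) :=
    fun a => Subtype.ext (hcompat a)
  have hgQ0 : ∀ q ∈ maximalIdeal Q, gQ q = 0 := by
    intro q hq
    obtain ⟨t, ht, hqt⟩ := hQπ q hq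
    show Ideal.Quotient.mk I (φQ q) = 0
    rw [Ideal.Quotient.eq_zero_iff_mem, hI, Ideal.mem_span_singleton']
    exact ⟨⟨t, ht⟩, Subtype.ext (by show t * π = jQ q; rw [hqt, mul_comm])⟩
  have hgP0 : ∀ p ∈ maximalIdeal P, gP p = 0 := by
    intro p hp
    obtain ⟨t, ht, hpt⟩ := hPπ p hp
    show Ideal.Quotient.mk I (φP p) = 0
    rw [Ideal.Quotient.eq_zero_iff_mem, hI, Ideal.mem_span_singleton']
    exact ⟨⟨t, ht⟩, Subtype.ext (by show t * π = jP p; rw [hpt, mul_comm])⟩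
  have hgA0 : ∀ a ∈ maximalIdeal A, gQ (algebraMap A Q a) = 0 := by
    intro a ha
    apply hgQ0
    exact (IsLocalRing.mem_maximalIdeal _).mpr (fun hu =>
      (IsLocalRing.mem_maximalIdeal _).mp ha (isUnit_of_map_unit (algebraMap A Q) a hu))
  let gPbar : ResidueField P →+* R ⧸ I := Ideal.Quotient.lift (maximalIdeal P) gP hgP0
  let gQbar : ResidueField Q →+* R ⧸ I := Ideal.Quotient.lift (maximalIdeal Q) gQ hgQ0
  let gAbar : ResidueField A →+* R ⧸ I :=
    Ideal.Quotient.lift (maximalIdeal A) (gQ.comp (algebraMap A Q)) hgA0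
  letI : Algebra (ResidueField A) (R ⧸ I) := gAbar.toAlgebra
  let fP : ResidueField P →ₐ[ResidueField A] R ⧸ I :=
    { gPbar with
      commutes' := by
        intro r
        obtain ⟨a, rfl⟩ := IsLocalRing.residue_surjective r
        show Ideal.Quotient.mk I (φP (algebraMap A P a)) =
          Ideal.Quotient.mk I (φQ (algebraMap A Q a))
        rw [hφ] }
  let fQ : ResidueField Q →ₐ[ResidueField A] R ⧸ I :=
    { gQbar with
      commutes' := by
        intro r
        obtain ⟨a, rfl⟩ := IsLocalRing.residue_surjective r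
        rfl }
  let ψ₀ : ResidueField P ⊗[ResidueField A] ResidueField Q →ₐ[ResidueField A] R ⧸ I :=
    Algebra.TensorProduct.productMap fP fQ
  have hψ₀ : ∀ (p : P) (q : Q), ψ₀ (residue P p ⊗ₜ residue Q q) = gP p * gQ q := by
    intro p q
    show Algebra.TensorProduct.productMap fP fQ (residue P p ⊗ₜ residue Q q) = gP p * gQ q
    rw [Algebra.TensorProduct.productMap_apply_tmul]
    rfl
  -- the unit c
  let cT : (ResidueField P ⊗[ResidueField A] ResidueField Q)ˣ :=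
    ⟨residue P a₁ ⊗ₜ residue Q a₂, residue P (a₁⁻¹ : Pˣ) ⊗ₜ residue Q (a₂⁻¹ : Qˣ), by
      rw [Algebra.TensorProduct.tmul_mul_tmul, ← map_mul, ← map_mul, ← Units.val_mul,
        ← Units.val_mul, mul_inv_cancel, mul_inv_cancel, Units.val_one, Units.val_one, map_one,
        map_one]; rfl, by
      rw [Algebra.TensorProduct.tmul_mul_tmul, ← map_mul, ← map_mul, ← Units.val_mul,
        ← Units.val_mul, inv_mul_cancel, inv_mul_cancel, Units.val_one, Units.val_one, map_one,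
        map_one]; rfl⟩
  have hnT : IsUnit ((n : ℕ) : ResidueField P ⊗[ResidueField A] ResidueField Q) := by
    have : ((n : ℕ) : ResidueField P ⊗[ResidueField A] ResidueField Q) =
        algebraMap (ResidueField A) _ (n : ResidueField A) := by simp
    rw [this]
    exact (IsUnit.mk0 _ hnA).map _
  have hvnr' := vnr_adjoinRoot (ResidueField P) (ResidueField P ⊗[ResidueField A] ResidueField Q)
    hT n hn0 cT hnT
  let zbar : R ⧸ I := Ideal.Quotient.mk I ⟨z, hzR⟩
  let zibar : R ⧸ I := Ideal.Quotient.mk I ⟨zi, hziR⟩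
  have hzz : zbar * zibar = 1 := by
    show Ideal.Quotient.mk I ⟨z, hzR⟩ * Ideal.Quotient.mk I ⟨zi, hziR⟩ = 1
    rw [← map_mul, ← map_one (Ideal.Quotient.mk I)]
    congr 1
    exact Subtype.ext hz
  have hzc : zbar ^ n = ψ₀ (cT : ResidueField P ⊗[ResidueField A] ResidueField Q) := by
    show (Ideal.Quotient.mk I ⟨z, hzR⟩) ^ n = ψ₀ (residue P a₁ ⊗ₜ residue Q a₂)
    rw [hψ₀, ← map_pow]
    show _ = Ideal.Quotient.mk I (φP a₁) * Ideal.Quotient.mk I (φQ a₂)
    rw [← map_mul]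
    congr 1
    exact Subtype.ext hzn
  let ψ : AdjoinRoot (X ^ n - C (cT : ResidueField P ⊗[ResidueField A] ResidueField Q)) →+*
      R ⧸ I :=
    AdjoinRoot.lift ψ₀.toRingHom zbar (by
      rw [eval₂_sub, eval₂_pow, eval₂_X, eval₂_C, hzc]
      exact sub_self _)
  have hψroot : ψ (AdjoinRoot.root _) = zbar := AdjoinRoot.lift_root _
  have hψof : ∀ t, ψ (AdjoinRoot.of _ t) = ψ₀ t := fun t => AdjoinRoot.lift_of _
  have hzibar : zibar = zbar ^ (n - 1) *
      ψ₀ ((cT⁻¹ : (ResidueField P ⊗[ResidueField A] ResidueField Q)ˣ) :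
        ResidueField P ⊗[ResidueField A] ResidueField Q) := by
    have h1 : zbar * (zbar ^ (n - 1) * ψ₀ ((cT⁻¹ : (ResidueField P ⊗[ResidueField A]
        ResidueField Q)ˣ) : ResidueField P ⊗[ResidueField A] ResidueField Q)) = 1 := by
      rw [← mul_assoc, ← pow_succ', Nat.sub_add_cancel (Nat.one_le_iff_ne_zero.mpr hn0), hzc,
        ← map_mul, ← Units.val_mul, mul_inv_cancel, Units.val_one, map_one]
    calc zibar = zibar * (zbar * (zbar ^ (n - 1) * ψ₀ _)) := by rw [h1, mul_one]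
      _ = (zbar * zibar) * (zbar ^ (n - 1) * ψ₀ _) := by ring
      _ = _ := by rw [hzz, one_mul]
  have hsurj : ∀ (x : F) (hx : x ∈ R), Ideal.Quotient.mk I ⟨x, hx⟩ ∈ ψ.range := by
    intro x hx
    have hx' : x ∈ RRzp jP jQ z zi π := hR ▸ hx
    revert hx
    induction hx' using Subring.closure_induction with
    | mem x hx =>
      intro hxR
      rcases hx with (⟨p, rfl⟩ | ⟨q, rfl⟩) | (rfl | rfl | rfl)
      · refine ⟨AdjoinRoot.of _ (residue P p ⊗ₜ 1), ?_⟩
        rw [hψof, ← map_one (residue Q), hψ₀, map_one, mul_one]; rfl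
      · refine ⟨AdjoinRoot.of _ (1 ⊗ₜ residue Q q), ?_⟩
        rw [hψof, ← map_one (residue P), hψ₀, map_one, one_mul]; rfl
      · exact ⟨AdjoinRoot.root _, hψroot⟩
      · refine ⟨AdjoinRoot.root _ ^ (n - 1) * AdjoinRoot.of _ ((cT⁻¹ : (ResidueField P
          ⊗[ResidueField A] ResidueField Q)ˣ) : ResidueField P ⊗[ResidueField A] ResidueField Q),
          ?_⟩
        rw [map_mul, map_pow, hψroot, hψof]
        exact hzibar.symm
      · refine ⟨0, ?_⟩
        rw [map_zero]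
        symm
        rw [Ideal.Quotient.eq_zero_iff_mem, hI]
        exact Ideal.mem_span_singleton_self _
    | zero => intro _; exact ⟨0, map_zero _⟩
    | one => intro _; exact ⟨1, map_one _⟩
    | add x y hx hy ihx ihy =>
      intro _
      obtain ⟨a, ha⟩ := ihx (hR ▸ hx)
      obtain ⟨b, hb⟩ := ihy (hR ▸ hy)
      exact ⟨a + b, by rw [map_add, ha, hb]; rfl⟩
    | neg x hx ihx =>
      intro _
      obtain ⟨a, ha⟩ := ihx (hR ▸ hx)
      exact ⟨-a, by rw [map_neg, ha]; rfl⟩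
    | mul x y hx hy ihx ihy =>
      intro _
      obtain ⟨a, ha⟩ := ihx (hR ▸ hx)
      obtain ⟨b, hb⟩ := ihy (hR ▸ hy)
      exact ⟨a * b, by rw [map_mul, ha, hb]; rfl⟩
  intro r hr
  obtain ⟨t, ht⟩ := hsurj r hr
  obtain ⟨u, hu⟩ := hvnr' t
  obtain ⟨u', hu'⟩ := Ideal.Quotient.mk_surjective (ψ u)
  have h1 : Ideal.Quotient.mk I (⟨r, hr⟩ - ⟨r, hr⟩ * ⟨r, hr⟩ * u') = 0 := by
    rw [map_sub, map_mul, map_mul, hu', ← ht, ← map_mul, ← map_mul, ← hu, sub_self]
  rw [Ideal.Quotient.eq_zero_iff_mem, hI, Ideal.mem_span_singleton'] at h1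
  obtain ⟨c, hc⟩ := h1
  refine ⟨u', u'.2, c, c.2, ?_⟩
  have h2 : (c : F) * π = r - r * r * (u' : F) := congrArg Subtype.val hc
  rw [← h2, mul_comm]

end Setup

end CompDvr

end Groth.Agent.Lib.helper10
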