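import Mathlib
import Groth.Prelude.Def_EtRam
import Groth.Agent.Lib.Helper10.CompDvr11

/-!
Compositum lemma for discrete valuation rings (helper10), part 12: valuation subring form of the
root-and-uniformizer version, residue field generation, monomial algebra in two variables.
-/

set_option autoImplicit false
set_option linter.unusedSectionVars false
set_option linter.style.haveILetI false

universe u

open IsLocalRing TensorProduct Polynomial

namespace Groth.Agent.Lib.helper10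

namespace CompDvr

section Apply

variable {A P Q F : Type u} [CommRing A] [IsLocalRing A] [CommRing P] [IsLocalRing P]
  [CommRing Q] [IsLocalRing Q] [Algebra A P] [Algebra A Q] [IsLocalHom (algebraMap A P)]
  [IsLocalHom (algebraMap A Q)] [Field F] (jP : P →+* F) (jQ : Q →+* F) (z zi π : F)

theorem RRzp_le (W : ValuationSubring F) (hP : ∀ p, jP p ∈ W) (hQ : ∀ q, jQ q ∈ W)
    (hzW : z ∈ W) (hziW : zi ∈ W) (hπW : π ∈ W) : RRzp jP jQ z zi π ≤ W.toSubring := by
  apply Subring.closure_le.mpr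
  rintro x ((⟨p, rfl⟩ | ⟨q, rfl⟩) | (rfl | rfl | rfl))
  · exact hP p
  · exact hQ q
  · exact hzW
  · exact hziW
  · exact hπW

theorem apply_root_p (W : ValuationSubring F) (v : Valuation F (WithZero (Multiplicative ℤ)))
    (hv : ∀ x, x ∈ W ↔ v x ≤ 1) (hv1 : ∀ x, W.valuation x < 1 ↔ v x < 1)
    (hP : ∀ p, jP p ∈ W) (hQ : ∀ q, jQ q ∈ W) (hzW : z ∈ W) (hziW : zi ∈ W)
    (hcompat : ∀ a : A, jP (algebraMap A P a) = jQ (algebraMap A Q a))
    (hπ0 : π ≠ 0) (hπv : W.valuation π < 1)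
    (hPπ : ∀ p ∈ maximalIdeal P, ∃ t ∈ RRzp jP jQ z zi π, jP p = π * t)
    (hQπ : ∀ q ∈ maximalIdeal Q, ∃ t ∈ RRzp jP jQ z zi π, jQ q = π * t)
    (hz : z * zi = 1) (n : ℕ) (hn0 : n ≠ 0) (a₁ : Pˣ) (a₂ : Qˣ)
    (hzn : z ^ n = jP a₁ * jQ a₂) (hnA : (n : ResidueField A) ≠ 0)
    [Algebra.IsIntegral (ResidueField A) (ResidueField Q)]
    (hT : ∀ t : ResidueField P ⊗[ResidueField A] ResidueField Q, ∃ u, t = t * t * u)
    (hgen : ∀ x : F, x ∈ fracField (RR jP jQ)) :
    (∀ x : F, W.valuation x < 1 → ∃ y ∈ W, x = y * π) ∧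
    (∀ x ∈ W, ∃ a ∈ RRzp jP jQ z zi π, W.valuation (x - a) < 1) := by
  have hπW : π ∈ W := (hv π).mpr ((hv1 π).mp hπv).le
  have hle := RRzp_le jP jQ z zi π W hP hQ hzW hziW hπW
  obtain ⟨h1, h2⟩ := core_unif v (RRzp jP jQ z zi π) π (pi_mem_p jP jQ z zi π) hπ0
    ((hv1 _).mp hπv)
    (fun r hr => (hv r).mp (hle hr))
    (vnr_mod_root_p jP jQ z zi π hcompat hPπ hQπ hz n hn0 a₁ a₂ hzn hnA hT)
    (fun x => by
      obtain ⟨a, ha, b, hb, hb0, hab⟩ := (mem_fracField _ x).mp (hgen x)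
      exact ⟨a, RR_le_RRzp jP jQ z zi π ha, b, RR_le_RRzp jP jQ z zi π hb, hb0, hab⟩)
  refine ⟨fun x hx => ?_, fun x hx => ?_⟩
  · refine ⟨x / π, (hv _).mpr (h1 x ((hv1 x).mp hx)), ?_⟩
    rw [div_mul_cancel₀ _ hπ0]
  · obtain ⟨a, ha, hxa⟩ := h2 x ((hv x).mp hx)
    exact ⟨a, ha, (hv1 _).mpr hxa⟩

/-- residue field generation, root-and-uniformizer version -/
theorem residue_mem_closure_root_p (W : ValuationSubring F) (hP : ∀ p, jP p ∈ W)
    (hQ : ∀ q, jQ q ∈ W) (hzW : z ∈ W) (hziW : zi ∈ W) (hπv : W.valuation π < 1)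
    (h2 : ∀ x ∈ W, ∃ a ∈ RRzp jP jQ z zi π, W.valuation (x - a) < 1) (y : ResidueField W) :
    y ∈ Subring.closure (Set.range (fun p => residue W (RingHom.codRestrict jP W hP p)) ∪
      Set.range (fun q => residue W (RingHom.codRestrict jQ W hQ q)) ∪
      {residue W ⟨z, hzW⟩, residue W ⟨zi, hziW⟩}) := by
  obtain ⟨x, rfl⟩ := residue_surjective y
  obtain ⟨a, ha, hxa⟩ := h2 x x.2
  have hπW : π ∈ W := by
    rw [← ValuationSubring.valuation_le_one_iff]; exact hπv.le
  have hle := RRzp_le jP jQ z zi π W hP hQ hzW hziW hπW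
  have haW : a ∈ W := hle ha
  have hres : residue W x = residue W ⟨a, haW⟩ := by
    rw [← sub_eq_zero, ← map_sub, residue_eq_zero_iff, ValuationSubring.valuation_lt_one_iff]
    exact hxa
  rw [hres]
  clear hres hxa
  induction ha using Subring.closure_induction with
  | mem w hw =>
    rcases hw with (⟨p, rfl⟩ | ⟨q, rfl⟩) | (rfl | rfl | rfl)
    · exact Subring.subset_closure (Or.inl (Or.inl ⟨p, rfl⟩))
    · exact Subring.subset_closure (Or.inl (Or.inr ⟨q, rfl⟩))
    · exact Subring.subset_closure (Or.inr (Or.inl rfl))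
    · exact Subring.subset_closure (Or.inr (Or.inr rfl))
    · have : residue W ⟨w, haW⟩ = 0 := by
        rw [residue_eq_zero_iff, ValuationSubring.valuation_lt_one_iff]
        exact hπv
      rw [this]
      exact Subring.zero_mem _
  | zero => exact Subring.zero_mem _
  | one => exact Subring.one_mem _
  | add w w' hw hw' ihw ihw' =>
    have hwW := hle hw
    have hwW' := hle hw'
    have : residue W ⟨w + w', haW⟩ = residue W ⟨w, hwW⟩ + residue W ⟨w', hwW'⟩ := by
      rw [← map_add]; rfl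
    rw [this]
    exact Subring.add_mem _ (ihw hwW) (ihw' hwW')
  | neg w hw ihw =>
    have hwW := hle hw
    have : residue W ⟨-w, haW⟩ = - residue W ⟨w, hwW⟩ := by
      rw [← map_neg]; rfl
    rw [this]
    exact Subring.neg_mem _ (ihw hwW)
  | mul w w' hw hw' ihw ihw' =>
    have hwW := hle hw
    have hwW' := hle hw'
    have : residue W ⟨w * w', haW⟩ = residue W ⟨w, hwW⟩ * residue W ⟨w', hwW'⟩ := by
      rw [← map_mul]; rfl
    rw [this]
    exact Subring.mul_mem _ (ihw hwW) (ihw' hwW')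

end Apply

section Mon

variable {F : Type u} [Field F]

/-- integer powers of an element of a subring whose inverse is also in the subring -/
theorem zpow_mem_of_inv_mem (R : Subring F) {z zi : F} (hz : z ∈ R) (hzi : zi ∈ R)
    (h : z * zi = 1) (n : ℤ) : z ^ n ∈ R := by
  have hzi' : zi = z⁻¹ := eq_inv_of_mul_eq_one_right h
  cases n with
  | ofNat n => rw [Int.ofNat_eq_natCast, zpow_natCast]; exact Subring.pow_mem _ hz n
  | negSucc n =>
    rw [zpow_negSucc, ← inv_pow, ← hzi']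
    exact Subring.pow_mem _ hzi _

/-- the monomial `y^i x^j` -/
def mon (y x : F) (i j : ℤ) : F := y ^ i * x ^ j

theorem mon_mul {y x : F} (hy : y ≠ 0) (hx : x ≠ 0) (i j i' j' : ℤ) :
    mon y x i j * mon y x i' j' = mon y x (i + i') (j + j') := by
  unfold mon
  rw [zpow_add₀ hy, zpow_add₀ hx]; ring

theorem mon_zpow (y x : F) (i j k : ℤ) : mon y x i j ^ k = mon y x (i * k) (j * k) := by
  unfold mon
  rw [mul_zpow, ← zpow_mul, ← zpow_mul]

theorem mon_pow (y x : F) (i j : ℤ) (k : ℕ) : mon y x i j ^ k = mon y x (i * k) (j * k) := by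
  rw [← zpow_natCast, mon_zpow]

theorem mon_one_zero (y x : F) : mon y x 1 0 = y := by
  unfold mon; rw [zpow_one, zpow_zero, mul_one]

theorem mon_zero_one (y x : F) : mon y x 0 1 = x := by
  unfold mon; rw [zpow_one, zpow_zero, one_mul]

theorem mon_zero_zero (y x : F) : mon y x 0 0 = 1 := by
  unfold mon; rw [zpow_zero, zpow_zero, mul_one]

theorem mon_ne_zero {y x : F} (hy : y ≠ 0) (hx : x ≠ 0) (i j : ℤ) : mon y x i j ≠ 0 :=
  mul_ne_zero (zpow_ne_zero _ hy) (zpow_ne_zero _ hx)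

theorem mon_natCast (y x : F) (i j : ℕ) : mon y x i j = y ^ i * x ^ j := by
  unfold mon; rw [zpow_natCast, zpow_natCast]

end Mon

end CompDvr

end Groth.Agent.Lib.helper10
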