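import Mathlib

set_option autoImplicit false

namespace Groth.Agent.Lib.helper10.CompactLim

universe u v

/-- A directed inverse system of nonempty closed subsets of compact Hausdorff spaces has a
compatible family. -/
theorem exists_compatible {ι : Type u} [Preorder ι] [IsDirected ι (· ≤ ·)]
    (X : ι → Type v) [∀ i, TopologicalSpace (X i)] [∀ i, CompactSpace (X i)] [∀ i, T2Space (X i)]
    (f : ∀ ⦃i j : ι⦄, i ≤ j → X j → X i) (hf : ∀ i j (h : i ≤ j), Continuous (f h))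
    (hcomp : ∀ i j k (hij : i ≤ j) (hjk : j ≤ k) (x : X k), f hij (f hjk x) = f (hij.trans hjk) x)
    (S : ∀ i, Set (X i)) (hS : ∀ i, IsClosed (S i)) (hne : ∀ i, (S i).Nonempty)
    (hmap : ∀ i j (h : i ≤ j), ∀ x ∈ S j, f h x ∈ S i) :
    ∃ z : ∀ i, X i, (∀ i, z i ∈ S i) ∧ ∀ i j (h : i ≤ j), f h (z j) = z i := by
  classical
  rcases isEmpty_or_nonempty ι with hι | hι
  · exact ⟨fun i => isEmptyElim i, fun i => isEmptyElim i, fun i => isEmptyElim i⟩
  let C : {p : ι × ι // p.1 ≤ p.2} → Set (∀ i, X i) := fun p =>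
    {z | z p.1.1 ∈ S p.1.1 ∧ z p.1.2 ∈ S p.1.2 ∧ f p.2 (z p.1.2) = z p.1.1}
  have hC : ∀ p, IsClosed (C p) := by
    intro p
    have h1 : IsClosed {z : ∀ i, X i | z p.1.1 ∈ S p.1.1} :=
      (hS _).preimage (continuous_apply _)
    have h2 : IsClosed {z : ∀ i, X i | z p.1.2 ∈ S p.1.2} :=
      (hS _).preimage (continuous_apply _)
    have h3 : IsClosed {z : ∀ i, X i | f p.2 (z p.1.2) = z p.1.1} :=
      isClosed_eq ((hf _ _ p.2).comp (continuous_apply _)) (continuous_apply _)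
    exact h1.inter (h2.inter h3)
  have hfip : ∀ u : Finset {p : ι × ι // p.1 ≤ p.2},
      ((Set.univ : Set (∀ i, X i)) ∩ ⋂ p ∈ u, C p).Nonempty := by
    intro u
    obtain ⟨k, hk⟩ := Finset.exists_le (u.image (fun p => p.1.1) ∪ u.image (fun p => p.1.2))
    obtain ⟨s, hs⟩ := hne k
    choose d hd using hne
    refine ⟨fun i => if h : i ≤ k then f h s else d i, Set.mem_univ _, ?_⟩
    simp only [Set.mem_iInter]
    intro p hp
    have h1 : p.1.1 ≤ k := hk _ (Finset.mem_union_left _ (Finset.mem_image_of_mem _ hp))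
    have h2 : p.1.2 ≤ k := hk _ (Finset.mem_union_right _ (Finset.mem_image_of_mem _ hp))
    refine ⟨?_, ?_, ?_⟩
    · simp only [dif_pos h1]; exact hmap _ _ h1 s hs
    · simp only [dif_pos h2]; exact hmap _ _ h2 s hs
    · simp only [dif_pos h1, dif_pos h2]; exact hcomp _ _ _ p.2 h2 s
  obtain ⟨z, -, hz⟩ := isCompact_univ.inter_iInter_nonempty C hC hfip
  simp only [Set.mem_iInter] at hz
  refine ⟨z, fun i => (hz ⟨(i, i), le_rfl⟩).1, fun i j h => (hz ⟨(i, j), h⟩).2.2⟩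

end Groth.Agent.Lib.helper10.CompactLim
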