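import Mathlib

/-!
# Comparison theorem for complexes of projectives mapping to a resolution (helper10)

`F` a chain complex of projectives with an augmentation `εF : F ⟶ M[0]` (exactness NOT required),
`Q` any chain complex with a quasi-isomorphism `εQ : Q ⟶ N[0]` (terms need not be projective),
`g : M ⟶ N`.  Then `lift g F Q εF εQ : F ⟶ Q` with `lift_commutes`, and `liftHomotopy`: any two
lifts are homotopic.  (Mathlib's `ProjectiveResolution.lift` needs both to be projective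
resolutions.)  Also `Q_exact₀`, `Q_exact_succ`, `epi_ε_zero` for a quasi-iso to a single complex.
-/

set_option autoImplicit false
set_option linter.style.haveILetI false

namespace Groth.Agent.Lib.helper10.CompareRes

open CategoryTheory CategoryTheory.Limits Category HomologicalComplex ChainComplex

section general

universe v' u'

variable {C : Type u'} [Category.{v'} C] [Abelian C]
variable {M N : C} (g : M ⟶ N) (F Q : ChainComplex C ℕ) [hF : ∀ n, Projective (F.X n)]
  (εF : F ⟶ (ChainComplex.single₀ C).obj M) (εQ : Q ⟶ (ChainComplex.single₀ C).obj N)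
  [hQ : QuasiIso εQ]

include hQ in
lemma Q_exactAt_succ (n : ℕ) : Q.ExactAt (n + 1) := by
  rw [← quasiIsoAt_iff_exactAt' εQ (n + 1) (exactAt_succ_single_obj _ _)]
  infer_instance

include hQ in
lemma Q_exact_succ (n : ℕ) :
    (ShortComplex.mk _ _ (Q.d_comp_d (n + 2) (n + 1) n)).Exact :=
  ((HomologicalComplex.exactAt_iff' _ (n + 2) (n + 1) n) (by simp only [ChainComplex.prev]; rfl)
    (by simp)).1 (Q_exactAt_succ Q εQ n)

omit hQ in
@[simp]
theorem ε_f_succ (n : ℕ) : εQ.f (n + 1) = 0 :=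
  (isZero_single_obj_X _ _ _ _ (by simp)).eq_of_tgt _ _

omit hQ in
@[reassoc (attr := simp)]
theorem d_comp_ε_f_zero : Q.d 1 0 ≫ εQ.f 0 = 0 := by
  rw [← εQ.comm 1 0, single_obj_d, comp_zero]

/-- cokernel cofork -/
noncomputable def cokernelCofork : CokernelCofork (Q.d 1 0) :=
  CokernelCofork.ofπ _ (d_comp_ε_f_zero Q εQ)

set_option backward.isDefEq.respectTransparency.types false in
set_option backward.defeqAttrib.useBackward true in
/-- `N` is the cokernel of `Q.X 1 ⟶ Q.X 0` -/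
noncomputable def isColimitCokernelCofork : IsColimit (cokernelCofork Q εQ) := by
  refine IsColimit.ofIsoColimit (Q.opcyclesIsCokernel 1 0 (by simp)) ?_
  refine Cofork.ext (Q.isoHomologyι₀.symm ≪≫ isoOfQuasiIsoAt εQ 0 ≪≫
    singleObjHomologySelfIso _ _ _) ?_
  rw [← cancel_mono (singleObjHomologySelfIso (ComplexShape.down ℕ) 0 _).inv,
    ← cancel_mono (isoHomologyι₀ _).hom]
  dsimp [cokernelCofork]
  simp only [isoHomologyι₀_inv_naturality_assoc, p_opcyclesMap_assoc, single₀_obj_zero, assoc,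
    Iso.hom_inv_id, comp_id, isoHomologyι_inv_hom_id, singleObjHomologySelfIso_inv_homologyι,
    singleObjOpcyclesSelfIso_hom, single₀ObjXSelf, Iso.refl_inv, id_comp]

include hQ in
lemma epi_ε_zero : Epi (εQ.f 0) :=
  epi_of_isColimit_cofork (isColimitCokernelCofork Q εQ)

include hQ in
lemma Q_exact₀ : (ShortComplex.mk _ _ (d_comp_ε_f_zero Q εQ)).Exact :=
  ShortComplex.exact_of_g_is_cokernel _ (isColimitCokernelCofork Q εQ)

set_option backward.isDefEq.respectTransparency false in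
/-- Auxiliary construction for `lift`. -/
noncomputable def liftFZero : F.X 0 ⟶ Q.X 0 :=
  haveI := epi_ε_zero Q εQ
  Projective.factorThru (εF.f 0 ≫ g) (εQ.f 0)

set_option backward.isDefEq.respectTransparency false in
lemma liftFZero_comp : liftFZero g F Q εF εQ ≫ εQ.f 0 = εF.f 0 ≫ g := by
  haveI := epi_ε_zero Q εQ
  exact Projective.factorThru_comp _ _

set_option backward.isDefEq.respectTransparency false in
/-- Auxiliary construction for `lift`. -/
noncomputable def liftFOne : F.X 1 ⟶ Q.X 1 :=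
  (Q_exact₀ Q εQ).liftFromProjective (F.d 1 0 ≫ liftFZero g F Q εF εQ) (by
    change (F.d 1 0 ≫ liftFZero g F Q εF εQ) ≫ εQ.f 0 = 0
    rw [assoc, liftFZero_comp, ← assoc, d_comp_ε_f_zero, zero_comp])

theorem liftFOne_zero_comm :
    liftFOne g F Q εF εQ ≫ Q.d 1 0 = F.d 1 0 ≫ liftFZero g F Q εF εQ :=
  (Q_exact₀ Q εQ).liftFromProjective_comp _ _

/-- Auxiliary construction for `lift`. -/
noncomputable def liftFSucc (n : ℕ)
    (a : F.X n ⟶ Q.X n) (a' : F.X (n + 1) ⟶ Q.X (n + 1))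
    (w : a' ≫ Q.d (n + 1) n = F.d (n + 1) n ≫ a) :
    Σ' a'' : F.X (n + 2) ⟶ Q.X (n + 2),
      a'' ≫ Q.d (n + 2) (n + 1) = F.d (n + 2) (n + 1) ≫ a' :=
  ⟨(Q_exact_succ Q εQ n).liftFromProjective
    (F.d (n + 2) (n + 1) ≫ a') (by
      change (F.d (n + 2) (n + 1) ≫ a') ≫ Q.d (n + 1) n = 0
      rw [assoc, w, ← assoc, F.d_comp_d, zero_comp]),
      (Q_exact_succ Q εQ n).liftFromProjective_comp _ _⟩

/-- the lift -/
noncomputable def lift : F ⟶ Q :=
  ChainComplex.mkHom _ _ (liftFZero g F Q εF εQ) (liftFOne g F Q εF εQ)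
    (liftFOne_zero_comm g F Q εF εQ)
    fun n ⟨a, a', w⟩ => ⟨(liftFSucc F Q εQ n a a' w).1, (liftFSucc F Q εQ n a a' w).2⟩

theorem lift_commutes :
    lift g F Q εF εQ ≫ εQ = εF ≫ (ChainComplex.single₀ C).map g := by
  apply HomologicalComplex.to_single_hom_ext
  rw [HomologicalComplex.comp_f, HomologicalComplex.comp_f]
  have h1 : (lift g F Q εF εQ).f 0 = liftFZero g F Q εF εQ := by
    simp [lift]
  rw [h1, liftFZero_comp]
  simp

/-- An auxiliary definition for `liftHomotopyZero`. -/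
noncomputable def liftHomotopyZeroZero (f : F ⟶ Q) (comm : f ≫ εQ = 0) : F.X 0 ⟶ Q.X 1 :=
  (Q_exact₀ Q εQ).liftFromProjective (f.f 0)
    (congr_fun (congr_arg HomologicalComplex.Hom.f comm) 0)

lemma liftHomotopyZeroZero_comp (f : F ⟶ Q) (comm : f ≫ εQ = 0) :
    liftHomotopyZeroZero F Q εQ f comm ≫ Q.d 1 0 = f.f 0 :=
  (Q_exact₀ Q εQ).liftFromProjective_comp _ _

/-- An auxiliary definition for `liftHomotopyZero`. -/
noncomputable def liftHomotopyZeroOne (f : F ⟶ Q) (comm : f ≫ εQ = 0) : F.X 1 ⟶ Q.X 2 :=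
  (Q_exact_succ Q εQ 0).liftFromProjective (f.f 1 - F.d 1 0 ≫ liftHomotopyZeroZero F Q εQ f comm)
    (by
      change (f.f 1 - F.d 1 0 ≫ liftHomotopyZeroZero F Q εQ f comm) ≫ Q.d 1 0 = 0
      rw [Preadditive.sub_comp, assoc, HomologicalComplex.Hom.comm,
              liftHomotopyZeroZero_comp, sub_self])

lemma liftHomotopyZeroOne_comp (f : F ⟶ Q) (comm : f ≫ εQ = 0) :
    liftHomotopyZeroOne F Q εQ f comm ≫ Q.d 2 1 =
      f.f 1 - F.d 1 0 ≫ liftHomotopyZeroZero F Q εQ f comm :=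
  (Q_exact_succ Q εQ 0).liftFromProjective_comp _ _

/-- An auxiliary definition for `liftHomotopyZero`. -/
noncomputable def liftHomotopyZeroSucc (f : F ⟶ Q) (n : ℕ) (a : F.X n ⟶ Q.X (n + 1))
    (a' : F.X (n + 1) ⟶ Q.X (n + 2))
    (w : f.f (n + 1) = F.d (n + 1) n ≫ a + a' ≫ Q.d (n + 2) (n + 1)) :
    F.X (n + 2) ⟶ Q.X (n + 3) :=
  (Q_exact_succ Q εQ (n + 1)).liftFromProjective (f.f (n + 2) - F.d _ _ ≫ a') (by
    change (f.f (n + 2) - F.d (n + 2) (n + 1) ≫ a') ≫ Q.d (n + 2) (n + 1) = 0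
    rw [Preadditive.sub_comp, assoc, HomologicalComplex.Hom.comm, w, Preadditive.comp_add,
      ← assoc (F.d (n + 2) (n + 1)), F.d_comp_d, zero_comp, zero_add, sub_self])

lemma liftHomotopyZeroSucc_comp (f : F ⟶ Q) (n : ℕ) (a : F.X n ⟶ Q.X (n + 1))
    (a' : F.X (n + 1) ⟶ Q.X (n + 2))
    (w : f.f (n + 1) = F.d (n + 1) n ≫ a + a' ≫ Q.d (n + 2) (n + 1)) :
    liftHomotopyZeroSucc F Q εQ f n a a' w ≫ Q.d (n + 3) (n + 2) =
      f.f (n + 2) - F.d _ _ ≫ a' :=
  (Q_exact_succ Q εQ (n + 1)).liftFromProjective_comp _ _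

/-- Any lift of the zero morphism is homotopic to zero. -/
noncomputable def liftHomotopyZero (f : F ⟶ Q) (comm : f ≫ εQ = 0) : Homotopy f 0 :=
  Homotopy.mkInductive _ (liftHomotopyZeroZero F Q εQ f comm)
    (by simp [liftHomotopyZeroZero_comp])
    (liftHomotopyZeroOne F Q εQ f comm) (by simp [liftHomotopyZeroOne_comp]) fun n ⟨a, a', w⟩ =>
    ⟨liftHomotopyZeroSucc F Q εQ f n a a' w, by simp [liftHomotopyZeroSucc_comp]⟩

/-- Two lifts of the same morphism are homotopic. -/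
noncomputable def liftHomotopy (α β : F ⟶ Q)
    (hα : α ≫ εQ = εF ≫ (ChainComplex.single₀ C).map g)
    (hβ : β ≫ εQ = εF ≫ (ChainComplex.single₀ C).map g) : Homotopy α β :=
  Homotopy.equivSubZero.invFun (liftHomotopyZero F Q εQ _ (by
    rw [Preadditive.sub_comp, hα, hβ, sub_self]))

end general

end Groth.Agent.Lib.helper10.CompareRes
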