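import Mathlib
import Groth.Agent.Lib.Helper26.Depth3

/-!
# Depth of cyclic modules `S ⧸ 𝔞` (helper10): Mayer–Vietoris and regular elements

For a Noetherian ring `S` and an ideal `m`, write `dp m 𝔞` for the `m`-depth of the `S`-module `S ⧸ 𝔞`.
* `dp_inf`: `min (min (dp I) (dp J)) (dp (I ⊔ J) + 1) ≤ dp (I ⊓ J)` (from the exact sequence
  `0 → S/(I ∩ J) → S/I × S/J → S/(I + J) → 0` and the depth lemma);
* `dp_sup_span`: `dp (𝔞 ⊔ (x)) + 1 = dp 𝔞` for `x ∈ m` regular on `S ⧸ 𝔞`.
-/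

set_option autoImplicit false
set_option linter.unusedSectionVars false

universe u

open LocCoh
open scoped Pointwise

namespace Groth.Agent.Lib.helper10.ConeCM

variable {S : Type u} [CommRing S]

section MV

variable (I J : Ideal S)

/-- `S/(I ∩ J) → S/I × S/J`. -/
noncomputable def mvF : (S ⧸ (I ⊓ J)) →ₗ[S] (S ⧸ I) × (S ⧸ J) :=
  LinearMap.prod (Submodule.mapQ (I ⊓ J) I LinearMap.id (by
      rw [Submodule.comap_id]; exact inf_le_left))
    (Submodule.mapQ (I ⊓ J) J LinearMap.id (by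
      rw [Submodule.comap_id]; exact inf_le_right))

/-- `S/I × S/J → S/(I + J)`. -/
noncomputable def mvG : (S ⧸ I) × (S ⧸ J) →ₗ[S] (S ⧸ (I ⊔ J)) :=
  LinearMap.coprod (Submodule.mapQ I (I ⊔ J) LinearMap.id (by
      rw [Submodule.comap_id]; exact le_sup_left))
    (-(Submodule.mapQ J (I ⊔ J) LinearMap.id (by
      rw [Submodule.comap_id]; exact le_sup_right)))

theorem mvF_mk (a : S) :
    mvF I J (Submodule.Quotient.mk a) = (Submodule.Quotient.mk a, Submodule.Quotient.mk a) := rfl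

theorem mvG_mk (a b : S) :
    mvG I J (Submodule.Quotient.mk a, Submodule.Quotient.mk b) =
      Submodule.Quotient.mk (a - b) := by
  unfold mvG
  rw [LinearMap.coprod_apply, LinearMap.neg_apply, Submodule.mapQ_apply, Submodule.mapQ_apply,
    LinearMap.id_apply, LinearMap.id_apply, Submodule.Quotient.mk_sub, sub_eq_add_neg]

theorem mvF_injective : Function.Injective (mvF I J) := by
  rw [← LinearMap.ker_eq_bot, LinearMap.ker_eq_bot']
  intro x hx
  obtain ⟨a, rfl⟩ := Submodule.Quotient.mk_surjective _ x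
  rw [mvF_mk, Prod.mk_eq_zero, Submodule.Quotient.mk_eq_zero, Submodule.Quotient.mk_eq_zero] at hx
  rw [Submodule.Quotient.mk_eq_zero]
  exact ⟨hx.1, hx.2⟩

theorem mvG_surjective : Function.Surjective (mvG I J) := by
  intro x
  obtain ⟨a, rfl⟩ := Submodule.Quotient.mk_surjective _ x
  refine ⟨(Submodule.Quotient.mk a, Submodule.Quotient.mk 0), ?_⟩
  rw [mvG_mk, sub_zero]

theorem mv_exact : Function.Exact (mvF I J) (mvG I J) := by
  intro y
  obtain ⟨u, v⟩ := y
  obtain ⟨a, rfl⟩ := Submodule.Quotient.mk_surjective _ u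
  obtain ⟨b, rfl⟩ := Submodule.Quotient.mk_surjective _ v
  rw [mvG_mk, Submodule.Quotient.mk_eq_zero]
  constructor
  · intro h
    obtain ⟨i, hi, j, hj, hij⟩ := Submodule.mem_sup.1 h
    refine ⟨Submodule.Quotient.mk (a - i), ?_⟩
    rw [mvF_mk, Prod.mk.injEq]
    constructor
    · rw [Submodule.Quotient.eq]
      have : a - i - a = -i := by ring
      rw [this]
      exact I.neg_mem hi
    · rw [Submodule.Quotient.eq]
      have : a - i - b = j := by linear_combination -hij
      rw [this]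
      exact hj
  · rintro ⟨x, hx⟩
    obtain ⟨c, rfl⟩ := Submodule.Quotient.mk_surjective _ x
    rw [mvF_mk, Prod.mk.injEq, Submodule.Quotient.eq, Submodule.Quotient.eq] at hx
    have : a - b = -(c - a) + (c - b) := by ring
    rw [this]
    exact Submodule.add_mem_sup (I.neg_mem hx.1) hx.2

end MV

variable [IsNoetherianRing S] (m : Ideal S)

/-- The `m`-depth of the `S`-module `S ⧸ 𝔞`. -/
noncomputable def dp (𝔞 : Ideal S) : ℕ∞ := idealDepth m (S ⧸ 𝔞)

theorem dp_inf (I J : Ideal S) :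
    min (min (dp m I) (dp m J)) (dp m (I ⊔ J) + 1) ≤ dp m (I ⊓ J) := by
  have h1 := Groth.Agent.Lib.helper26.Depth.min_le_idealDepth_X₁ m (mvF I J) (mvG I J)
    (mvF_injective I J) (mvG_surjective I J) (mv_exact I J)
  have h2 := Groth.Agent.Lib.helper26.Depth.min_le_idealDepth_X₂ m
    (LinearMap.inl S (S ⧸ I) (S ⧸ J)) (LinearMap.snd S (S ⧸ I) (S ⧸ J))
    LinearMap.inl_injective LinearMap.snd_surjective (by
      intro z
      constructor
      · intro h
        refine ⟨z.1, ?_⟩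
        ext
        · rfl
        · exact h.symm
      · rintro ⟨x, rfl⟩
        rfl)
  unfold dp
  exact le_trans (min_le_min_right _ h2) h1

theorem dp_sup_span (𝔞 : Ideal S) (x : S) (hx : x ∈ m) (hreg : ∀ f, x * f ∈ 𝔞 → f ∈ 𝔞) :
    dp m (𝔞 ⊔ Ideal.span {x}) + 1 = dp m 𝔞 := by
  have hreg' : IsSMulRegular (S ⧸ 𝔞) x := by
    intro u v huv
    obtain ⟨a, rfl⟩ := Submodule.Quotient.mk_surjective _ u
    obtain ⟨b, rfl⟩ := Submodule.Quotient.mk_surjective _ v
    simp only at huv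
    rw [← Submodule.Quotient.mk_smul, ← Submodule.Quotient.mk_smul, Submodule.Quotient.eq] at huv
    rw [Submodule.Quotient.eq]
    apply hreg
    rw [mul_sub]
    exact huv
  unfold dp
  rw [← Groth.Agent.Lib.helper26.Depth.idealDepth_quotSMulTop_add_one m (S ⧸ 𝔞) x hx hreg']
  congr 1
  symm
  -- `(S ⧸ 𝔞) / x (S ⧸ 𝔞) ≃ S ⧸ (𝔞 ⊔ (x))`
  obtain ⟨f, hf⟩ : ∃ f : (S ⧸ 𝔞) →ₗ[S] (S ⧸ (𝔞 ⊔ Ideal.span {x})), f =
      Submodule.mapQ 𝔞 (𝔞 ⊔ Ideal.span {x}) LinearMap.id (by
        rw [Submodule.comap_id]; exact le_sup_left) := ⟨_, rfl⟩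
  have hfmk : ∀ a : S, f (Submodule.Quotient.mk a) = Submodule.Quotient.mk a := by
    intro a; rw [hf]; rfl
  have hsurj : Function.Surjective f := by
    intro y
    obtain ⟨a, rfl⟩ := Submodule.Quotient.mk_surjective _ y
    exact ⟨Submodule.Quotient.mk a, hfmk a⟩
  have hker : LinearMap.ker f = x • (⊤ : Submodule S (S ⧸ 𝔞)) := by
    ext y
    obtain ⟨a, rfl⟩ := Submodule.Quotient.mk_surjective _ y
    rw [LinearMap.mem_ker, hfmk, Submodule.Quotient.mk_eq_zero,
      Submodule.mem_smul_pointwise_iff_exists]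
    constructor
    · intro h
      obtain ⟨i, hi, j, hj, hij⟩ := Submodule.mem_sup.1 h
      obtain ⟨c, rfl⟩ := Ideal.mem_span_singleton'.1 hj
      refine ⟨Submodule.Quotient.mk c, Submodule.mem_top, ?_⟩
      rw [← Submodule.Quotient.mk_smul, Submodule.Quotient.eq, smul_eq_mul]
      have : x * c - a = -i := by rw [← hij]; ring
      rw [this]
      exact 𝔞.neg_mem hi
    · rintro ⟨z, -, hz⟩
      obtain ⟨c, rfl⟩ := Submodule.Quotient.mk_surjective _ z
      rw [← Submodule.Quotient.mk_smul, Submodule.Quotient.eq, smul_eq_mul] at hz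
      have : a = -(x * c - a) + c * x := by ring
      rw [this]
      exact Submodule.add_mem_sup (𝔞.neg_mem hz) (Ideal.mem_span_singleton'.2 ⟨c, rfl⟩)
  exact Groth.Agent.Lib.helper26.Depth.idealDepth_congr
    ((Submodule.quotEquivOfEq _ _ hker.symm).trans (f.quotKerEquivOfSurjective hsurj))

end Groth.Agent.Lib.helper10.ConeCM
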