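import Mathlib
import Groth.Agent.Lib.Helper26.GrCM15
import Groth.Agent.Lib.Helper26.KunT
import Groth.Agent.Lib.Helper26.Seg24
import Groth.Agent.Lib.Helper26.DepthCR
import Groth.Agent.Lib.Helper26.GrCM14
import Groth.Agent.Lib.Helper26.Seg13

/-!
# A Cohen–Macaulay criterion for quotients of graded algebras by homogeneous ideals (helper10)

`A` a `ℤ`-graded `k`-algebra of finite type with no negative degrees and `A_0 = k`, `I` a proper homogeneous
ideal, `r = dim A/I`.  Then `A/I` is a Cohen–Macaulay ring iff `r ≤ depth_{A₊} (A/I)`, the depth of `A/I`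
as an `A`-module.  (Plumbing on top of helper26's graded Cohen–Macaulay criterion.)
-/

set_option autoImplicit false
set_option linter.unusedSectionVars false
set_option linter.style.haveILetI false

universe u

open LocCoh

namespace Groth.Agent.Lib.helper10.ConeCM

open Groth.Agent.Lib.helper26.Seg Groth.Agent.Lib.helper26.GrCM Groth.Agent.Lib.helper19.GrConv
  Groth.Agent.Lib.helper26.Kun

variable {k : Type u} [Field k] {A : Type u} [CommRing A] [Algebra k A]
  (𝒜 : ℤ → Submodule k A) [GradedAlgebra 𝒜] (I : HomogeneousIdeal 𝒜)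

theorem map_irr : (irr 𝒜).map (Ideal.Quotient.mk I.toIdeal) = irr (qGr 𝒜 I) := by
  unfold irr
  rw [Ideal.map_span]
  congr 1
  ext z
  simp only [Set.mem_image, Set.mem_iUnion, SetLike.mem_coe, exists_prop]
  constructor
  · rintro ⟨a, ⟨n, hn, ha⟩, rfl⟩
    exact ⟨n, hn, mk_mem_qGr 𝒜 I ha⟩
  · rintro ⟨n, hn, hz⟩
    obtain ⟨a, ha, rfl⟩ := exists_of_mem_qGr 𝒜 I hz
    exact ⟨a, ⟨n, hn, ha⟩, rfl⟩

variable [Algebra.FiniteType k A]
  (hpos : ∀ n : ℤ, n < 0 → 𝒜 n = ⊥) (h0 : 𝒜 0 = Submodule.span k {(1 : A)})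

attribute [local instance] gsmulSelf

/-- The depth of `A/I` over itself at its irrelevant ideal is its depth over `A` at `A₊`. -/
theorem idealDepth_quotient_eq :
    idealDepth (irr 𝒜) (A ⧸ I.toIdeal) = idealDepth (irr (qGr 𝒜 I)) (A ⧸ I.toIdeal) := by
  haveI : IsNoetherianRing A := Algebra.FiniteType.isNoetherianRing k A
  have h1 := Groth.Agent.Lib.helper26.Depth.idealDepth_map_eq (A := A) (B := A ⧸ I.toIdeal)
    (irr 𝒜) (A ⧸ I.toIdeal)
  rw [h1]
  have h2 : (irr 𝒜).map (algebraMap A (A ⧸ I.toIdeal)) = irr (qGr 𝒜 I) := map_irr 𝒜 I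
  rw [h2]

include hpos h0 in
/-- **Graded Cohen–Macaulay criterion**, for quotients by homogeneous ideals. -/
theorem isCohenMacaulayRing_quotient_of_le_idealDepth (hI : I.toIdeal ≠ ⊤) (r : ℕ)
    (hr : ringKrullDim (A ⧸ I.toIdeal) = r)
    (hdepth : (r : ℕ∞) ≤ idealDepth (irr 𝒜) (A ⧸ I.toIdeal)) :
    IsCohenMacaulayRing (A ⧸ I.toIdeal) := by
  haveI : Nontrivial (A ⧸ I.toIdeal) := Ideal.Quotient.nontrivial_iff.2 hI
  haveI : IsNoetherianRing A := Algebra.FiniteType.isNoetherianRing k A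
  rw [idealDepth_quotient_eq 𝒜 I] at hdepth
  rw [isCohenMacaulayRing_iff_forall_localizedModule]
  intro q hq
  exact isCohenMacaulayModule_of_le_idealDepth (qGr 𝒜 I)
    (fun n hn => qGr_eq_bot 𝒜 I (hpos n hn)) (qGr_eq_span_one 𝒜 I h0) (addGr (qGr 𝒜 I)) r
    (by rw [Module.supportDim_self_eq_ringKrullDim, hr]) hdepth q

include hpos h0 in
/-- The converse: Cohen–Macaulayness at the vertex bounds the depth from below. -/
theorem le_idealDepth_of_isCohenMacaulayLocalRing (hI : I.toIdeal ≠ ⊤) (r : ℕ)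
    (hr : ringKrullDim (A ⧸ I.toIdeal) = r) [hp : (irr (qGr 𝒜 I)).IsPrime]
    (hCM : IsCohenMacaulayLocalRing (Localization.AtPrime (irr (qGr 𝒜 I)))) :
    (r : ℕ∞) ≤ idealDepth (irr 𝒜) (A ⧸ I.toIdeal) := by
  haveI : Nontrivial (A ⧸ I.toIdeal) := Ideal.Quotient.nontrivial_iff.2 hI
  haveI : IsNoetherianRing A := Algebra.FiniteType.isNoetherianRing k A
  rw [idealDepth_quotient_eq 𝒜 I]
  exact le_idealDepth_irr (qGr 𝒜 I)
    (fun n hn => qGr_eq_bot 𝒜 I (hpos n hn)) (qGr_eq_span_one 𝒜 I h0) (addGr (qGr 𝒜 I))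
    (Or.inr ((isCohenMacaulayModule_localizedModule_self_iff (A ⧸ I.toIdeal)
      (irr (qGr 𝒜 I))).2 hCM)) r
    (by rw [Module.supportDim_self_eq_ringKrullDim, hr])

end Groth.Agent.Lib.helper10.ConeCM
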