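import Mathlib
import Groth.Agent.Lib.Helper10.ConeCM2
import Groth.Agent.Lib.Helper10.ConeCM1
import Groth.Agent.Lib.Helper12.GradedFT

/-!
# Regrading a graded algebra (helper10)

Change of scalars and of index monoid for a graded algebra: if `𝒜 : ι → Submodule K A` is a grading
and `ℬ : ι' → Submodule k' A` has `ℬ (φ i) = 𝒜 i` (as sets) for an injective `φ : ι →+ ι'` and
`ℬ j = ⊥` off the range of `φ`, then `ℬ` is a grading.
-/

set_option autoImplicit false
set_option linter.unusedSectionVars false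
set_option linter.style.haveILetI false

open DirectSum

namespace Groth.Agent.Lib.helper10.ConeCM

section Regrade

variable {ι ι' : Type*} [DecidableEq ι] [DecidableEq ι'] [AddMonoid ι] [AddMonoid ι']
  {A : Type*} [CommRing A] {K : Type*} [CommSemiring K] [Algebra K A]
  (𝒜 : ι → Submodule K A) [GradedAlgebra 𝒜]
  {k' : Type*} [CommSemiring k'] [Algebra k' A] (ℬ : ι' → Submodule k' A)
  (φ : ι →+ ι') (hφ : Function.Injective φ)
  (hℬ : ∀ (i : ι) (a : A), a ∈ ℬ (φ i) ↔ a ∈ 𝒜 i)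
  (hout : ∀ j : ι', j ∉ Set.range φ → ℬ j = ⊥)

/-- inclusion of components -/
def regIncl (i : ι) : 𝒜 i →+ ℬ (φ i) where
  toFun x := ⟨x.1, (hℬ i _).2 x.2⟩
  map_zero' := rfl
  map_add' _ _ := rfl

/-- the new decomposition map -/
def regD : A →+ ⨁ j, ℬ j :=
  (DirectSum.toAddMonoid fun i => (DirectSum.of (fun j => ℬ j) (φ i)).comp (regIncl 𝒜 ℬ φ hℬ i)).comp
    (DirectSum.decomposeAddEquiv 𝒜).toAddMonoidHom

theorem regD_of_mem {i : ι} {a : A} (ha : a ∈ 𝒜 i) :
    regD 𝒜 ℬ φ hℬ a = DirectSum.of (fun j => ℬ j) (φ i) ⟨a, (hℬ i _).2 ha⟩ := by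
  unfold regD
  simp only [AddMonoidHom.coe_comp, Function.comp_apply, AddEquiv.coe_toAddMonoidHom,
    DirectSum.decomposeAddEquiv_apply]
  rw [DirectSum.decompose_of_mem 𝒜 ha, DirectSum.toAddMonoid_of]
  rfl

include hℬ hout in
theorem regrade_gradedMonoid : SetLike.GradedMonoid ℬ where
  one_mem := by
    have h1 : (1 : A) ∈ 𝒜 0 := SetLike.GradedOne.one_mem
    have := (hℬ 0 1).2 h1
    rwa [map_zero] at this
  mul_mem := by
    intro j j' a b ha hb
    by_cases hj : j ∈ Set.range φ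
    · by_cases hj' : j' ∈ Set.range φ
      · obtain ⟨i, rfl⟩ := hj
        obtain ⟨i', rfl⟩ := hj'
        rw [← map_add]
        exact (hℬ _ _).2 (SetLike.GradedMul.mul_mem ((hℬ _ _).1 ha) ((hℬ _ _).1 hb))
      · rw [hout j' hj', Submodule.mem_bot] at hb
        rw [hb, mul_zero]; exact zero_mem _
    · rw [hout j hj, Submodule.mem_bot] at ha
      rw [ha, zero_mul]; exact zero_mem _

include hout in
/-- the regraded decomposition -/
@[instance_reducible]
def regrade_decomposition : DirectSum.Decomposition ℬ :=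
  DirectSum.Decomposition.ofAddHom ℬ (regD 𝒜 ℬ φ hℬ)
    (by
      ext a
      simp only [AddMonoidHom.coe_comp, Function.comp_apply, AddMonoidHom.id_apply]
      induction a using DirectSum.Decomposition.inductionOn 𝒜 with
      | zero => simp
      | @homogeneous i a => rw [regD_of_mem 𝒜 ℬ φ hℬ a.2, DirectSum.coeAddMonoidHom_of]
      | add a b ha hb => rw [map_add, map_add, ha, hb])
    (by
      refine DirectSum.addHom_ext fun j y => ?_
      simp only [AddMonoidHom.coe_comp, Function.comp_apply, AddMonoidHom.id_apply,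
        DirectSum.coeAddMonoidHom_of]
      by_cases hj : j ∈ Set.range φ
      · obtain ⟨i, rfl⟩ := hj
        rw [regD_of_mem 𝒜 ℬ φ hℬ ((hℬ i _).1 y.2)]
      · have hy : y = 0 := by
          have h3 : ℬ j ≤ ⊥ := (hout j hj).le
          exact Subtype.ext ((Submodule.mem_bot _).1 (h3 y.2))
        rw [hy]
        simp)

include hout in
/-- the regraded algebra -/
@[instance_reducible]
def regrade_gradedAlgebra : GradedAlgebra ℬ :=
  { regrade_gradedMonoid 𝒜 ℬ φ hℬ hout, regrade_decomposition 𝒜 ℬ φ hℬ hout with }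

include hℬ in
theorem isHomogeneous_of_regrade [GradedAlgebra ℬ] {I : Ideal A} (hI : I.IsHomogeneous 𝒜) :
    I.IsHomogeneous ℬ := by
  rw [Ideal.IsHomogeneous.iff_exists] at hI
  obtain ⟨S, rfl⟩ := hI
  apply Ideal.homogeneous_span
  rintro _ ⟨s, _, rfl⟩
  obtain ⟨i, hi⟩ := s.2
  exact ⟨φ i, (hℬ i _).2 hi⟩

end Regrade

section Dim

variable {S : Type*} [CommRing S]

theorem ringKrullDim_quotient_inf_le (I J : Ideal S) :
    ringKrullDim (S ⧸ (I ⊓ J)) ≤ max (ringKrullDim (S ⧸ I)) (ringKrullDim (S ⧸ J)) := by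
  rw [ringKrullDim_quotient, ringKrullDim_quotient, ringKrullDim_quotient]
  unfold Order.krullDim
  refine iSup_le fun p => ?_
  have h0 : (p 0).1 ∈ PrimeSpectrum.zeroLocus (I : Set S) ∨
      (p 0).1 ∈ PrimeSpectrum.zeroLocus (J : Set S) := by
    have h1 := (PrimeSpectrum.mem_zeroLocus _ _).1 (p 0).2
    have h2 : I ⊓ J ≤ (p 0).1.asIdeal := h1
    rcases (Ideal.IsPrime.inf_le (p 0).1.isPrime).1 h2 with h | h
    · exact Or.inl ((PrimeSpectrum.mem_zeroLocus _ _).2 h)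
    · exact Or.inr ((PrimeSpectrum.mem_zeroLocus _ _).2 h)
  have key : ∀ (L : Ideal S), (p 0).1 ∈ PrimeSpectrum.zeroLocus (L : Set S) →
      (p.length : WithBot ℕ∞) ≤ ⨆ q : LTSeries (PrimeSpectrum.zeroLocus (L : Set S)),
        (q.length : WithBot ℕ∞) := by
    intro L hL
    have hmem : ∀ i, (p i).1 ∈ PrimeSpectrum.zeroLocus (L : Set S) := by
      intro i
      have hle : p 0 ≤ p i := p.monotone (Fin.zero_le i)
      rw [PrimeSpectrum.mem_zeroLocus] at hL ⊢
      exact hL.trans hle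
    let q : LTSeries (PrimeSpectrum.zeroLocus (L : Set S)) :=
      { length := p.length
        toFun := fun i => ⟨(p i).1, hmem i⟩
        step := fun i => p.step i }
    exact le_iSup (fun q : LTSeries (PrimeSpectrum.zeroLocus (L : Set S)) =>
      (q.length : WithBot ℕ∞)) q
  rcases h0 with h0 | h0
  · exact (key I h0).trans (le_max_left _ _)
  · exact (key J h0).trans (le_max_right _ _)

theorem ringKrullDim_quotient_inf_eq (I J : Ideal S) (d : WithBot ℕ∞)
    (hI : ringKrullDim (S ⧸ I) = d) (hJ : ringKrullDim (S ⧸ J) = d) :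
    ringKrullDim (S ⧸ (I ⊓ J)) = d := by
  apply le_antisymm
  · have := ringKrullDim_quotient_inf_le I J
    rwa [hI, hJ, max_self] at this
  · rw [← hI]
    exact ringKrullDim_le_of_surjective (Ideal.Quotient.factor inf_le_left)
      (Ideal.Quotient.factor_surjective inf_le_left)

end Dim

section Main

universe u

open LocCoh Groth.Agent.Lib.helper26.Seg Groth.Agent.Lib.helper26.GrCM

variable {k : Type u} [Field k] {A : Type u} [CommRing A] [Algebra k A]
  (ℬ : ℤ → Submodule k A) [GradedAlgebra ℬ] [Algebra.FiniteType k A]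
  (hpos : ∀ n : ℤ, n < 0 → ℬ n = ⊥) (h0 : ℬ 0 = Submodule.span k {(1 : A)})

include hpos h0 in
/-- depth bound from Cohen–Macaulayness of the quotient ring. -/
theorem le_dp_of_isCohenMacaulayRing (I : Ideal A) (hI : I.IsHomogeneous ℬ) (r : ℕ)
    (hdim : ringKrullDim (A ⧸ I) = (r : WithBot ℕ∞)) (hcm : IsCohenMacaulayRing (A ⧸ I)) :
    (r : ℕ∞) ≤ dp (irr ℬ) I := by
  have hnt : Nontrivial (A ⧸ I) := by
    by_contra hns
    rw [not_nontrivial_iff_subsingleton] at hns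
    rw [ringKrullDim_eq_bot_of_subsingleton] at hdim
    exact WithBot.coe_ne_bot hdim.symm
  have hne : I ≠ ⊤ := Ideal.Quotient.nontrivial_iff.mp hnt
  obtain ⟨Ih, rfl⟩ : ∃ Ih : HomogeneousIdeal ℬ, Ih.toIdeal = I := ⟨⟨I, hI⟩, rfl⟩
  have hmax : (irr (qGr ℬ Ih)).IsMaximal :=
    irr_isMaximal (qGr ℬ Ih) (fun n hn => qGr_eq_bot ℬ Ih (hpos n hn)) (qGr_eq_span_one ℬ Ih h0)
  haveI : (irr (qGr ℬ Ih)).IsPrime := hmax.isPrime
  exact le_idealDepth_of_isCohenMacaulayLocalRing ℬ Ih hpos h0 hne r hdim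
    (hcm.isCohenMacaulayLocalRing_localization _)

include hpos h0 in
/-- **Gluing Cohen–Macaulay cones**: `A/I`, `A/J` CM of dimension `e` and `A/(I+J)` CM of dimension
`e-1` imply `A/(I ∩ J)` is CM of dimension `e` at the vertex. -/
theorem cm_inf (I J : Ideal A) (hI : I.IsHomogeneous ℬ) (hJ : J.IsHomogeneous ℬ) (e : ℕ)
    (he : 1 ≤ e)
    (hIcm : IsCohenMacaulayRing (A ⧸ I)) (hJcm : IsCohenMacaulayRing (A ⧸ J))
    (hIJcm : IsCohenMacaulayRing (A ⧸ (I ⊔ J)))
    (hIdim : ringKrullDim (A ⧸ I) = (e : WithBot ℕ∞))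
    (hJdim : ringKrullDim (A ⧸ J) = (e : WithBot ℕ∞))
    (hIJdim : ringKrullDim (A ⧸ (I ⊔ J)) = ((e - 1 : ℕ) : WithBot ℕ∞))
    [hm : ((irr ℬ).map (Ideal.Quotient.mk (I ⊓ J))).IsPrime] :
    IsCohenMacaulayLocalRing (Localization.AtPrime ((irr ℬ).map (Ideal.Quotient.mk (I ⊓ J)))) ∧
      ringKrullDim (Localization.AtPrime ((irr ℬ).map (Ideal.Quotient.mk (I ⊓ J)))) =
        (e : WithBot ℕ∞) := by
  haveI : IsNoetherianRing A := Algebra.FiniteType.isNoetherianRing k A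
  have hdI := le_dp_of_isCohenMacaulayRing ℬ hpos h0 I hI e hIdim hIcm
  have hdJ := le_dp_of_isCohenMacaulayRing ℬ hpos h0 J hJ e hJdim hJcm
  have hdIJ := le_dp_of_isCohenMacaulayRing ℬ hpos h0 (I ⊔ J) (hI.sup hJ) (e - 1) hIJdim hIJcm
  have hdinf : (e : ℕ∞) ≤ dp (irr ℬ) (I ⊓ J) := by
    refine le_trans (le_min (le_min hdI hdJ) ?_) (dp_inf (irr ℬ) I J)
    have : (e : ℕ∞) = ((e - 1 : ℕ) : ℕ∞) + 1 := by
      have : e = (e - 1) + 1 := by omega
      conv_lhs => rw [this]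
      push_cast
      rfl
    rw [this]
    exact add_le_add_left hdIJ 1
  have hdim : ringKrullDim (A ⧸ (I ⊓ J)) = (e : WithBot ℕ∞) :=
    ringKrullDim_quotient_inf_eq I J _ hIdim hJdim
  have hntI : Nontrivial (A ⧸ I) := by
    by_contra hns
    rw [not_nontrivial_iff_subsingleton] at hns
    rw [ringKrullDim_eq_bot_of_subsingleton] at hIdim
    exact WithBot.coe_ne_bot hIdim.symm
  have hneI : I ≠ ⊤ := Ideal.Quotient.nontrivial_iff.mp hntI
  have hne : I ⊓ J ≠ ⊤ := fun h => hneI (top_le_iff.mp (h ▸ inf_le_left))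
  obtain ⟨IJh, hIJh⟩ : ∃ IJh : HomogeneousIdeal ℬ, IJh.toIdeal = I ⊓ J :=
    ⟨⟨I ⊓ J, hI.inf hJ⟩, rfl⟩
  rw [← hIJh] at hdim hne hdinf
  have hcm := isCohenMacaulayRing_quotient_of_le_idealDepth ℬ IJh hpos h0 hne e hdim hdinf
  have hirr : (irr ℬ).map (Ideal.Quotient.mk IJh.toIdeal) = irr (qGr ℬ IJh) := map_irr ℬ IJh
  have hht : (irr (qGr ℬ IJh)).height = e :=
    height_irr (qGr ℬ IJh) (fun n hn => qGr_eq_bot ℬ IJh (hpos n hn)) (qGr_eq_span_one ℬ IJh h0)
      e hdim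
  revert hm
  rw [← hIJh]
  intro hm
  refine ⟨hcm.isCohenMacaulayLocalRing_localization _, ?_⟩
  rw [IsLocalization.AtPrime.ringKrullDim_eq_height
    ((irr ℬ).map (Ideal.Quotient.mk IJh.toIdeal)) (Localization.AtPrime _)]
  have : ((irr ℬ).map (Ideal.Quotient.mk IJh.toIdeal)).height = e := by
    rw [hirr]; exact hht
  rw [this]
  rfl

end Main

section Transport

universe u v

open LocCoh Groth.Agent.Lib.helper26.Seg

variable {K : Type u} [Field K] {A : Type v} [CommRing A] [Algebra K A]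
  (𝒜 : ℕ → Submodule K A) [GradedAlgebra 𝒜]

/-- the irrelevant ideal of a `ℤ`-regrading is the irrelevant ideal of the `ℕ`-grading. -/
theorem irr_eq_irrelevant {k' : Type v} [Field k'] [Algebra k' A] (ℬ : ℤ → Submodule k' A)
    [GradedAlgebra ℬ] (hℬ : ∀ (n : ℕ) (a : A), a ∈ ℬ (n : ℤ) ↔ a ∈ 𝒜 n) :
    irr ℬ = (HomogeneousIdeal.irrelevant 𝒜).toIdeal := by
  classical
  apply le_antisymm
  · unfold irr
    rw [Ideal.span_le]
    intro a ha
    simp only [Set.mem_iUnion, Set.mem_Ioi, SetLike.mem_coe, exists_prop] at ha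
    obtain ⟨z, hz, haz⟩ := ha
    obtain ⟨n, rfl⟩ : ∃ n : ℕ, z = (n : ℤ) := ⟨z.toNat, by omega⟩
    exact HomogeneousIdeal.mem_irrelevant_of_mem 𝒜 (by exact_mod_cast hz) ((hℬ n a).1 haz)
  · intro a ha
    have ha0 : (DirectSum.decompose 𝒜 a 0 : A) = 0 := (HomogeneousIdeal.mem_irrelevant_iff 𝒜 a).1 ha
    rw [← DirectSum.sum_support_decompose 𝒜 a]
    refine Ideal.sum_mem _ fun i _ => ?_
    rcases Nat.eq_zero_or_pos i with hi | hi
    · rw [hi, ha0]; exact Ideal.zero_mem _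
    · exact mem_irr_of_mem ℬ (by exact_mod_cast hi) ((hℬ i _).2 (DirectSum.decompose 𝒜 a i).2)

variable (K A) in
/-- `A` as an algebra over the shrunk field -/
@[reducible] noncomputable def shrinkAlgebra [Small.{v} K] : Algebra (Shrink.{v} K) A :=
  ((algebraMap K A).comp (Shrink.ringEquiv K : Shrink.{v} K →+* K)).toAlgebra

attribute [local instance] shrinkAlgebra

theorem shrink_smul [Small.{v} K] (c : Shrink.{v} K) (a : A) :
    c • a = (Shrink.ringEquiv K c) • a := by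
  rw [Algebra.smul_def, Algebra.smul_def]
  rfl

theorem shrink_algebraMap [Small.{v} K] (c : Shrink.{v} K) :
    algebraMap (Shrink.{v} K) A c = algebraMap K A (Shrink.ringEquiv K c) := rfl

/-- the same grading over the shrunk field -/
noncomputable def natGr [Small.{v} K] (n : ℕ) : Submodule (Shrink.{v} K) A where
  carrier := 𝒜 n
  add_mem' := (𝒜 n).add_mem
  zero_mem' := (𝒜 n).zero_mem
  smul_mem' c x hx := by
    rw [shrink_smul]
    exact (𝒜 n).smul_mem _ hx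

/-- the `ℤ`-grading over the shrunk field -/
noncomputable def intGr [Small.{v} K] (z : ℤ) : Submodule (Shrink.{v} K) A :=
  if 0 ≤ z then natGr 𝒜 z.toNat else ⊥

theorem mem_natGr [Small.{v} K] (n : ℕ) (a : A) : a ∈ natGr 𝒜 n ↔ a ∈ 𝒜 n := Iff.rfl

theorem mem_intGr_natCast [Small.{v} K] (n : ℕ) (a : A) : a ∈ intGr 𝒜 (n : ℤ) ↔ a ∈ 𝒜 n := by
  unfold intGr
  rw [if_pos (Int.natCast_nonneg n), Int.toNat_natCast]
  rfl

theorem intGr_neg [Small.{v} K] (z : ℤ) (hz : z < 0) : intGr 𝒜 z = ⊥ := by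
  unfold intGr
  rw [if_neg (by omega)]

noncomputable instance natGr_gradedAlgebra [Small.{v} K] : GradedAlgebra (natGr 𝒜) :=
  regrade_gradedAlgebra 𝒜 (natGr 𝒜) (AddMonoidHom.id ℕ) (fun _ _ => Iff.rfl)
    (fun j hj => absurd ⟨j, rfl⟩ hj)

noncomputable instance intGr_gradedAlgebra [Small.{v} K] : GradedAlgebra (intGr 𝒜) :=
  regrade_gradedAlgebra 𝒜 (intGr 𝒜) (Nat.castAddMonoidHom ℤ) (fun i a => mem_intGr_natCast 𝒜 i a)
    (fun j hj => intGr_neg 𝒜 j (by
      by_contra hneg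
      exact hj ⟨j.toNat, by simp; omega⟩))

theorem intGr_zero [Small.{v} K] (h0 : ∀ a ∈ 𝒜 0, ∃ c : K, algebraMap K A c = a) :
    intGr 𝒜 0 = Submodule.span (Shrink.{v} K) {(1 : A)} := by
  ext a
  have h := mem_intGr_natCast 𝒜 0 a
  rw [Nat.cast_zero] at h
  rw [h, Submodule.mem_span_singleton]
  constructor
  · intro ha
    obtain ⟨c, rfl⟩ := h0 a ha
    refine ⟨(Shrink.ringEquiv K).symm c, ?_⟩
    rw [shrink_smul, RingEquiv.apply_symm_apply, Algebra.smul_def, mul_one]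
  · rintro ⟨c, rfl⟩
    rw [shrink_smul]
    exact (𝒜 0).smul_mem _ SetLike.GradedOne.one_mem

theorem shrink_finiteType [Small.{v} K] [IsNoetherianRing A]
    (h0 : ∀ a ∈ 𝒜 0, ∃ c : K, algebraMap K A c = a) : Algebra.FiniteType (Shrink.{v} K) A := by
  classical
  have hfg : (HomogeneousIdeal.irrelevant (natGr 𝒜)).toIdeal.FG :=
    (isNoetherianRing_iff_ideal_fg A).mp inferInstance _
  obtain ⟨⟨S, hS⟩⟩ := Groth.Agent.Lib.helper12.GradedFT.finiteType_of_fg (natGr 𝒜) hfg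
  refine ⟨⟨S, ?_⟩⟩
  rw [eq_top_iff]
  intro a _
  have ha : a ∈ Algebra.adjoin (natGr 𝒜 0) (S : Set A) := by rw [hS]; trivial
  refine Algebra.adjoin_induction (p := fun x _ => x ∈ Algebra.adjoin (Shrink.{v} K) (S : Set A))
    ?_ ?_ ?_ ?_ ha
  · intro x hx; exact Algebra.subset_adjoin hx
  · intro r
    obtain ⟨c, hc⟩ := h0 r.1 r.2
    have : algebraMap (natGr 𝒜 0) A r = algebraMap (Shrink.{v} K) A ((Shrink.ringEquiv K).symm c) := by
      rw [shrink_algebraMap, RingEquiv.apply_symm_apply, hc]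
      rfl
    rw [this]
    exact Subalgebra.algebraMap_mem _ _
  · intro x y _ _ hx hy; exact Subalgebra.add_mem _ hx hy
  · intro x y _ _ hx hy; exact Subalgebra.mul_mem _ hx hy

/-- **Gluing Cohen–Macaulay cones**, `ℕ`-graded Noetherian version over a field in any universe. -/
theorem cm_inf_nat [IsNoetherianRing A]
    (h0 : ∀ a ∈ 𝒜 0, ∃ c : K, algebraMap K A c = a) (I J : Ideal A) (hI : I.IsHomogeneous 𝒜)
    (hJ : J.IsHomogeneous 𝒜) (e : ℕ) (he : 1 ≤ e)
    (hIcm : LocCoh.IsCohenMacaulayRing (A ⧸ I)) (hJcm : LocCoh.IsCohenMacaulayRing (A ⧸ J))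
    (hIJcm : LocCoh.IsCohenMacaulayRing (A ⧸ (I ⊔ J)))
    (hIdim : ringKrullDim (A ⧸ I) = (e : WithBot ℕ∞))
    (hJdim : ringKrullDim (A ⧸ J) = (e : WithBot ℕ∞))
    (hIJdim : ringKrullDim (A ⧸ (I ⊔ J)) = ((e - 1 : ℕ) : WithBot ℕ∞))
    [hm : ((HomogeneousIdeal.irrelevant 𝒜).toIdeal.map (Ideal.Quotient.mk (I ⊓ J))).IsPrime] :
    LocCoh.IsCohenMacaulayLocalRing (Localization.AtPrime
        ((HomogeneousIdeal.irrelevant 𝒜).toIdeal.map (Ideal.Quotient.mk (I ⊓ J)))) ∧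
      ringKrullDim (Localization.AtPrime
        ((HomogeneousIdeal.irrelevant 𝒜).toIdeal.map (Ideal.Quotient.mk (I ⊓ J)))) =
          (e : WithBot ℕ∞) := by
  have hntI : Nontrivial (A ⧸ I) := by
    by_contra hns
    rw [not_nontrivial_iff_subsingleton] at hns
    rw [ringKrullDim_eq_bot_of_subsingleton] at hIdim
    exact WithBot.coe_ne_bot hIdim.symm
  haveI : Nontrivial A := (Ideal.Quotient.mk I).domain_nontrivial
  haveI : Small.{v} K := small_of_injective (algebraMap K A).injective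
  haveI : Algebra.FiniteType (Shrink.{v} K) A := shrink_finiteType 𝒜 h0
  have hirr := irr_eq_irrelevant 𝒜 (intGr 𝒜) (mem_intGr_natCast 𝒜)
  have hI' : I.IsHomogeneous (intGr 𝒜) :=
    isHomogeneous_of_regrade 𝒜 (intGr 𝒜) (Nat.castAddMonoidHom ℤ) (mem_intGr_natCast 𝒜) hI
  have hJ' : J.IsHomogeneous (intGr 𝒜) :=
    isHomogeneous_of_regrade 𝒜 (intGr 𝒜) (Nat.castAddMonoidHom ℤ) (mem_intGr_natCast 𝒜) hJ
  revert hm
  rw [← hirr]
  intro hm
  exact cm_inf (intGr 𝒜) (intGr_neg 𝒜) (intGr_zero 𝒜 h0) I J hI' hJ' e he hIcm hJcm hIJcm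
    hIdim hJdim hIJdim

end Transport

end Groth.Agent.Lib.helper10.ConeCM
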