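import Mathlib
import Groth.Prelude.Def_W4bk6serrecg25LocSym

set_option autoImplicit false
set_option linter.style.haveILetI false
set_option linter.unusedSectionVars false

namespace Groth.Agent.Lib.Helper10.CurveBr

open IsDedekindDomain

section DVR

variable (R : Type*) (K : Type*) [CommRing R] [IsDomain R] [IsDiscreteValuationRing R] [Field K]
  [Algebra R K] [IsFractionRing R K]

/-- The DVR valuation as a `ℤᵐ⁰`-valued valuation on `K`. -/
noncomputable def dvrVal : Valuation K (WithZero (Multiplicative ℤ)) :=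
  (IsDiscreteValuationRing.maximalIdeal R).valuation K

theorem ordMonoid_eq_inv_val (a : R) (ha : a ≠ 0) :
    Ring.ordMonoidWithZeroHom R a = (dvrVal R K (algebraMap R K a))⁻¹ := by
  obtain ⟨ϖ, hϖ⟩ := IsDiscreteValuationRing.exists_irreducible R
  obtain ⟨n, u, rfl⟩ := IsDiscreteValuationRing.eq_unit_mul_pow_irreducible ha hϖ
  have hϖ0 : ϖ ≠ 0 := hϖ.ne_zero
  have hmem : (u : R) * ϖ ^ n ∈ nonZeroDivisors R := mem_nonZeroDivisors_of_ne_zero ha
  have hord : Ring.ord R ((u : R) * ϖ ^ n) = n := by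
    rw [Ring.ord_mul_of_isUnit_left u.isUnit, Ring.ord_pow (mem_nonZeroDivisors_of_ne_zero hϖ0),
      Ring.ord_of_irreducible hϖ]
    simp
  rw [Ring.ordMonoidWithZeroHom_eq_coe R hmem hord]
  have hval : dvrVal R K (algebraMap R K ϖ) = WithZero.exp (-1 : ℤ) := by
    unfold dvrVal
    rw [HeightOneSpectrum.valuation_of_algebraMap]
    apply HeightOneSpectrum.intValuation_singleton _ hϖ0
    exact (IsDiscreteValuationRing.irreducible_iff_uniformizer ϖ).mp hϖ
  have hu : dvrVal R K (algebraMap R K (u : R)) = 1 := by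
    unfold dvrVal
    rw [HeightOneSpectrum.valuation_of_algebraMap]
    apply le_antisymm (HeightOneSpectrum.intValuation_le_one _ _)
    by_contra hlt
    rw [not_le] at hlt
    have h1 := (HeightOneSpectrum.intValuation_lt_one_iff_mem _ _).mp hlt
    exact (IsLocalRing.mem_maximalIdeal _).mp h1 u.isUnit
  rw [map_mul, map_mul, map_pow, map_pow, hu, hval, one_mul, ← WithZero.exp_nsmul,
    ← WithZero.exp_neg]
  simp [WithZero.exp]

theorem ringOrdFrac_eq_inv_val (g : K) : Ring.ordFrac R g = (dvrVal R K g)⁻¹ := by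
  obtain ⟨a, b, hb, rfl⟩ := IsFractionRing.div_surjective (A := R) g
  have hb0 : b ≠ 0 := nonZeroDivisors.ne_zero hb
  by_cases ha : a = 0
  · subst ha
    simp
  rw [map_div₀, map_div₀, Ring.ordFrac_eq_ord R ha, Ring.ordFrac_eq_ord R hb0,
    ordMonoid_eq_inv_val R K a ha, ordMonoid_eq_inv_val R K b hb0, inv_div_inv, inv_div]

theorem cycOrdFrac_eq_neg_log (g : K) :
    CycAlg.ordFrac R K g = - WithZero.log (dvrVal R K g) := by
  unfold CycAlg.ordFrac
  have h : IsNoetherianRing R ∧ Ring.KrullDimLE 1 R ∧ Nontrivial R ∧ IsFractionRing R K :=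
    ⟨inferInstance, inferInstance, inferInstance, inferInstance⟩
  rw [dif_pos h, ringOrdFrac_eq_inv_val R K g]
  exact WithZero.log_inv _

theorem mem_range_algebraMap_iff (g : K) :
    g ∈ (algebraMap R K).range ↔ dvrVal R K g ≤ 1 := by
  constructor
  · rintro ⟨r, rfl⟩
    exact HeightOneSpectrum.valuation_le_one _ _
  · intro h
    obtain ⟨a, ha⟩ := IsDiscreteValuationRing.exists_lift_of_le_one (A := R) (K := K) h
    exact ⟨a, ha⟩

theorem dvrVal_lt_one_iff (r : R) :
    dvrVal R K (algebraMap R K r) < 1 ↔ r ∈ IsLocalRing.maximalIdeal R := by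
  unfold dvrVal
  rw [HeightOneSpectrum.valuation_of_algebraMap]
  exact HeightOneSpectrum.intValuation_lt_one_iff_mem _ _

theorem isUnit_iff_dvrVal_eq_one (r : R) :
    IsUnit r ↔ dvrVal R K (algebraMap R K r) = 1 := by
  have hle : dvrVal R K (algebraMap R K r) ≤ 1 := HeightOneSpectrum.valuation_le_one _ _
  rw [← not_iff_not, ← mem_nonunits_iff, ← IsLocalRing.mem_maximalIdeal, ← dvrVal_lt_one_iff R K]
  constructor
  · intro h
    exact h.ne
  · intro h
    exact lt_of_le_of_ne hle h

end DVR

theorem exists_ringHom_of_range_le {A B K : Type*} [CommRing A] [CommRing B] [Field K]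
    (f : A →+* K) (g : B →+* K) (hf : Function.Injective f) (h : g.range ≤ f.range) :
    ∃ e : B →+* A, ∀ b, f (e b) = g b := by
  let ef : A ≃+* f.range := RingEquiv.ofBijective f.rangeRestrict
    ⟨fun a b hab => hf (congrArg Subtype.val hab), f.rangeRestrict_surjective⟩
  refine ⟨ef.symm.toRingHom.comp ((Subring.inclusion h).comp g.rangeRestrict), fun b => ?_⟩
  have h1 : ∀ z : f.range, f (ef.symm z) = z.1 := by
    intro z
    have := ef.apply_symm_apply z
    exact congrArg Subtype.val this
  simp only [RingHom.comp_apply, RingEquiv.toRingHom_eq_coe, RingHom.coe_coe]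
  rw [h1]
  rfl

end Groth.Agent.Lib.Helper10.CurveBr
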