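import Mathlib
import Groth.Prelude.Def_W4bk6serrecg25LocSym
import Groth.Agent.Lib.Helper17.RegSmoothSch
import Groth.Agent.Lib.Helper10.CurveBr1
import Groth.Agent.Lib.Helper4.ValFactor
import Groth.Agent.Lib.Helper10.FunFld39

set_option autoImplicit false
set_option linter.style.haveILetI false
set_option linter.unusedSectionVars false

namespace Groth.Agent.Lib.Helper10.CurveBr

universe u

open CategoryTheory AlgebraicGeometry TopologicalSpace

section Sch

variable {k : Type u} [Field k] {X : Scheme.{u}} (c : X ⟶ Spec (CommRingCat.of k))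

theorem isClosedImmersion_pt [IsSeparated c] (x : LocSym.Pt c) : IsClosedImmersion x.1 := by
  haveI : IsClosedImmersion (x.1 ≫ c) := by
    rw [x.2]
    infer_instance
  exact IsClosedImmersion.of_comp x.1 c

theorem range_pt (x : LocSym.Pt c) : Set.range x.1.base = {x.pt} := by
  ext y
  constructor
  · rintro ⟨z, rfl⟩
    have : z = IsLocalRing.closedPoint k := Subsingleton.elim _ _
    rw [this]
    rfl
  · rintro rfl
    exact ⟨_, rfl⟩

theorem isClosed_singleton_pt [IsSeparated c] (x : LocSym.Pt c) : IsClosed ({x.pt} : Set X) := by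
  haveI := isClosedImmersion_pt c x
  rw [← range_pt c x]
  exact x.1.isClosedEmbedding.isClosed_range

theorem pt_ne_genericPoint [IsIntegral X] [IsSeparated c] (hdim : topologicalKrullDim X = 1)
    (x : LocSym.Pt c) : x.pt ≠ genericPoint X := by
  intro h
  have h1 : IsClosed ({genericPoint X} : Set X) := h ▸ isClosed_singleton_pt c x
  have h2 : closure ({genericPoint X} : Set X) = Set.univ := (genericPoint_spec X).def
  rw [h1.closure_eq] at h2
  have hsub : Subsingleton X := by
    constructor
    intro a b
    have ha : a ∈ ({genericPoint X} : Set X) := h2 ▸ Set.mem_univ a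
    have hb : b ∈ ({genericPoint X} : Set X) := h2 ▸ Set.mem_univ b
    rw [Set.mem_singleton_iff] at ha hb
    rw [ha, hb]
  have h3 : topologicalKrullDim X ≤ 0 := by
    unfold topologicalKrullDim
    have : Subsingleton (IrreducibleCloseds X) := by
      constructor
      intro s t
      apply IrreducibleCloseds.ext
      have hs := s.isIrreducible.nonempty
      have ht := t.isIrreducible.nonempty
      obtain ⟨a, ha⟩ := hs
      obtain ⟨b, hb⟩ := ht
      ext z
      have e1 : z = a := Subsingleton.elim _ _
      have e2 : z = b := Subsingleton.elim _ _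
      constructor
      · intro _; rw [e2]; exact hb
      · intro _; rw [e1]; exact ha
    exact Order.krullDim_nonpos_of_subsingleton
  rw [hdim] at h3
  exact absurd h3 (by norm_num)

/-- (helper18 `RegPoint`) sections of an affine open have dimension at most `dim X`. -/
theorem ringKrullDim_sections_le {U : X.Opens} (hU : IsAffineOpen U) :
    ringKrullDim Γ(X, U) ≤ topologicalKrullDim X := by
  rw [← PrimeSpectrum.topologicalKrullDim_eq_ringKrullDim]
  exact hU.fromSpec.isOpenEmbedding.isInducing.topologicalKrullDim_le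

/-- (helper18 `RegPoint`) -/
theorem ringKrullDim_stalk_le (x : X) :
    ringKrullDim (X.presheaf.stalk x) ≤ topologicalKrullDim X := by
  obtain ⟨U, hU, hxU, -⟩ := exists_isAffineOpen_mem_and_subset (x := x) (U := ⊤) trivial
  set 𝔭 := hU.primeIdealOf ⟨x, hxU⟩ with h𝔭
  letI := X.presheaf.algebra_section_stalk ⟨x, hxU⟩
  haveI : IsLocalization.AtPrime (X.presheaf.stalk x) 𝔭.asIdeal := hU.isLocalization_stalk ⟨x, hxU⟩
  rw [IsLocalization.AtPrime.ringKrullDim_eq_height 𝔭.asIdeal (X.presheaf.stalk x)]
  exact (Ideal.height_le_ringKrullDim_of_ne_top 𝔭.2.ne_top).trans (ringKrullDim_sections_le hU)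

/-- (helper18 `DimOneAmple`) on an integral scheme, a point whose local ring is a field is the
generic point -/
theorem eq_genericPoint_of_isField [IsIntegral X] (x : X) (h : IsField (X.presheaf.stalk x)) :
    x = genericPoint X := by
  have hη : genericPoint X ⤳ x := (genericPoint_spec X).specializes trivial
  have : genericPoint X ∈ Set.range (X.fromSpecStalk x) := by
    rw [Scheme.range_fromSpecStalk]
    exact hη
  obtain ⟨q, hq⟩ := this
  have hbot : ∀ p : Ideal (X.presheaf.stalk x), p.IsPrime → p = ⊥ := by
    intro p hp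
    rw [eq_bot_iff]
    intro a ha
    by_contra ha0
    obtain ⟨b, hb⟩ := h.mul_inv_cancel ha0
    exact hp.ne_top ((Ideal.eq_top_iff_one p).2 (hb ▸ p.mul_mem_right b ha))
  have hsub : q = IsLocalRing.closedPoint (X.presheaf.stalk x) :=
    PrimeSpectrum.ext ((hbot _ q.2).trans (hbot _ (IsLocalRing.closedPoint (X.presheaf.stalk x)).2).symm)
  rw [← hq, hsub, Scheme.fromSpecStalk_closedPoint]

theorem ringKrullDim_stalk_eq_one [IsIntegral X] (hdim : topologicalKrullDim X ≤ 1) (x : X)
    (hx : x ≠ genericPoint X) : ringKrullDim (X.presheaf.stalk x) = 1 := by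
  have h1 : ringKrullDim (X.presheaf.stalk x) ≤ 1 := (ringKrullDim_stalk_le x).trans hdim
  have h0 : ¬ ringKrullDim (X.presheaf.stalk x) ≤ 0 := fun h => by
    haveI : Ring.KrullDimLE 0 (X.presheaf.stalk x) := Ring.krullDimLE_iff.mpr h
    exact hx (eq_genericPoint_of_isField x Ring.KrullDimLE.isField_of_isDomain)
  exact le_antisymm h1 (Order.succ_le_of_lt (lt_of_not_ge h0))

theorem isDVR_stalk [IsIntegral X] [PerfectField k] [IsSeparated c] [Smooth c]
    (hdim : topologicalKrullDim X = 1) (x : LocSym.Pt c) :
    IsDiscreteValuationRing (X.presheaf.stalk x.pt) := by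
  have hreg : IsRegularLocalRing (X.presheaf.stalk x.pt) := by
    rw [← Groth.Agent.Lib.helper17.RegSmooth.mem_smoothLocus_iff_isRegularLocalRing_of_perfectField
      c x.pt, Scheme.Hom.smoothLocus_eq_top]
    trivial
  have hd := ringKrullDim_stalk_eq_one hdim.le x.pt (pt_ne_genericPoint c hdim x)
  have h1 := (IsRegularLocalRing.iff_finrank_cotangentSpace (X.presheaf.stalk x.pt)).mp hreg
  rw [hd] at h1
  exact IsLocalRing.finrank_CotangentSpace_eq_one_iff.mp (by exact_mod_cast h1)

section Place

open IsDedekindDomain FunFld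

variable [IsIntegral X] [Algebra k X.functionField]
  (halg : algebraMap k X.functionField = LocSym.constFun c)

/-- the constants in the stalk: `k → Γ(X, ⊤) → O_{X,x}` -/
noncomputable def constStalk (x : X) : k →+* X.presheaf.stalk x :=
  (X.presheaf.germ ⊤ x trivial).hom.comp
    (c.appTop.hom.comp (Scheme.ΓSpecIso (CommRingCat.of k)).inv.hom)

theorem algebraMap_constStalk (x : X) (a : k) :
    algebraMap (X.presheaf.stalk x) X.functionField (constStalk c x a) = LocSym.constFun c a := by
  haveI : Nonempty (⊤ : X.Opens) := ⟨⟨genericPoint X, trivial⟩⟩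
  unfold constStalk LocSym.constFun
  simp only [RingHom.comp_apply]
  exact Scheme.algebraMap_germ_eq_germToFunctionField (X := X) (U := ⊤) (x := x) trivial _

include halg in
theorem algebraMap_eq_constStalk (x : X) (a : k) :
    algebraMap k X.functionField a =
      algebraMap (X.presheaf.stalk x) X.functionField (constStalk c x a) := by
  rw [halg, algebraMap_constStalk]

variable [PerfectField k] [IsSeparated c] [Smooth c] (hdim : topologicalKrullDim X = 1)

/-- the place of the function field attached to a rational point -/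
noncomputable def placeOf (x : LocSym.Pt c) : Place k X.functionField :=
  haveI := isDVR_stalk c hdim x
  ⟨dvrVal (X.presheaf.stalk x.pt) X.functionField, fun a => by
      rw [algebraMap_eq_constStalk c halg x.pt a]
      exact HeightOneSpectrum.valuation_le_one _ _,
    HeightOneSpectrum.valuation_surjective X.functionField _⟩

theorem placeOf_val (x : LocSym.Pt c) :
    haveI := isDVR_stalk c hdim x
    (placeOf c halg hdim x).1 = dvrVal (X.presheaf.stalk x.pt) X.functionField := rfl

theorem ord_placeOf (x : LocSym.Pt c) (g : X.functionField) :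
    (placeOf c halg hdim x).ord g = x.ord g := by
  haveI := isDVR_stalk c hdim x
  unfold LocSym.Pt.ord
  rw [cycOrdFrac_eq_neg_log]
  rfl

end Place

section Sep

theorem isDominant_SpecMap_of_injective {R S : CommRingCat.{u}} (φ : R ⟶ S)
    (h : Function.Injective φ.hom) : IsDominant (Spec.map φ) := by
  constructor
  show DenseRange (PrimeSpectrum.comap φ.hom)
  rw [PrimeSpectrum.denseRange_comap_iff_ker_le_nilRadical,
    (RingHom.injective_iff_ker_eq_bot _).1 h]
  exact bot_le

/-- separatedness: two points whose local rings have compatible images in the function field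
coincide. -/
theorem eq_of_stalk_hom [IsIntegral X] [IsSeparated c] (p q : X)
    (e' : X.presheaf.stalk q →+* X.presheaf.stalk p) (hloc : IsLocalHom e')
    (he' : ∀ r, algebraMap (X.presheaf.stalk p) X.functionField (e' r) =
      algebraMap (X.presheaf.stalk q) X.functionField r) : p = q := by
  let ℓ₁ : Spec (X.presheaf.stalk p) ⟶ X := X.fromSpecStalk p
  let ε : X.presheaf.stalk q ⟶ X.presheaf.stalk p := CommRingCat.ofHom e'
  let ℓ₂ : Spec (X.presheaf.stalk p) ⟶ X := Spec.map ε ≫ X.fromSpecStalk q
  let ι : Spec X.functionField ⟶ Spec (X.presheaf.stalk p) :=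
    Spec.map (X.presheaf.stalkSpecializes ((genericPoint_spec X).specializes trivial))
  have hι1 : ι ≫ ℓ₁ = X.fromSpecStalk (genericPoint X) :=
    Scheme.SpecMap_stalkSpecializes_fromSpecStalk _
  have hcomp : ε ≫
      X.presheaf.stalkSpecializes (show genericPoint X ⤳ p from (genericPoint_spec X).specializes trivial) =
      X.presheaf.stalkSpecializes (show genericPoint X ⤳ q from (genericPoint_spec X).specializes trivial) := by
    ext r
    exact he' r
  have hι2 : ι ≫ ℓ₂ = X.fromSpecStalk (genericPoint X) := by
    calc ι ≫ ℓ₂ = Spec.map (ε ≫ X.presheaf.stalkSpecializes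
          (show genericPoint X ⤳ p from (genericPoint_spec X).specializes trivial)) ≫
          X.fromSpecStalk q := by
          simp only [ι, ℓ₂, Spec.map_comp, Category.assoc]
      _ = X.fromSpecStalk (genericPoint X) := by
          rw [hcomp]
          exact Scheme.SpecMap_stalkSpecializes_fromSpecStalk _
  haveI : IsDominant ι := isDominant_SpecMap_of_injective _
    (IsFractionRing.injective (X.presheaf.stalk p) X.functionField)
  have h : ℓ₁ ≫ c = ℓ₂ ≫ c := by
    refine ext_of_isDominant ι ?_
    rw [← Category.assoc, ← Category.assoc, hι1, hι2]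
  have h12 : ℓ₁ = ℓ₂ := ext_of_isDominant_of_isSeparated c h ι (hι1.trans hι2.symm)
  have h1 : ℓ₁ (IsLocalRing.closedPoint (X.presheaf.stalk p)) = p := Scheme.fromSpecStalk_closedPoint
  have h2 : ℓ₂ (IsLocalRing.closedPoint (X.presheaf.stalk p)) = q := by
    show (Spec.map ε ≫ X.fromSpecStalk q) _ = q
    rw [Scheme.Hom.comp_apply]
    have : Spec.map ε (IsLocalRing.closedPoint (X.presheaf.stalk p)) =
        IsLocalRing.closedPoint (X.presheaf.stalk q) := IsLocalRing.comap_closedPoint e'
    rw [this]
    exact Scheme.fromSpecStalk_closedPoint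
  rw [← h1, h12, h2]

end Sep

section Inj

open IsDedekindDomain FunFld

variable [IsIntegral X] [Algebra k X.functionField]
  (halg : algebraMap k X.functionField = LocSym.constFun c)
  [PerfectField k] [IsSeparated c] [Smooth c] (hdim : topologicalKrullDim X = 1)

theorem pt_eq_of_val_eq (x y : LocSym.Pt c)
    (h : (placeOf c halg hdim x).1 = (placeOf c halg hdim y).1) : x.pt = y.pt := by
  haveI := isDVR_stalk c hdim x
  haveI := isDVR_stalk c hdim y
  have hv : dvrVal (X.presheaf.stalk x.pt) X.functionField =
      dvrVal (X.presheaf.stalk y.pt) X.functionField := h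
  obtain ⟨e', he'⟩ := exists_ringHom_of_range_le
    (algebraMap (X.presheaf.stalk x.pt) X.functionField)
    (algebraMap (X.presheaf.stalk y.pt) X.functionField)
    (IsFractionRing.injective _ _) (by
      rintro _ ⟨r, rfl⟩
      rw [mem_range_algebraMap_iff, hv, ← mem_range_algebraMap_iff]
      exact ⟨r, rfl⟩)
  have hloc : IsLocalHom e' := ⟨fun r hr => by
    rw [isUnit_iff_dvrVal_eq_one _ X.functionField] at hr ⊢
    rw [he', hv] at hr
    exact hr⟩
  exact eq_of_stalk_hom c x.pt y.pt e' hloc he'

end Inj

section PtExt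

open Groth.Agent.Lib.helper4.ValFactor

theorem pt_ext (x y : LocSym.Pt c) (h : x.pt = y.pt) : x = y := by
  apply Subtype.ext
  obtain ⟨W, hW, hxW⟩ : ∃ W : X.Opens, IsAffineOpen W ∧ x.pt ∈ W := by
    obtain ⟨_, ⟨W, hW, rfl⟩, hxW, -⟩ := X.isBasis_affineOpens.exists_subset_of_mem_open
      (Set.mem_univ x.pt) isOpen_univ
    exact ⟨W, hW, hxW⟩
  obtain ⟨α, hα⟩ := exists_factor_fromSpec x.1 hW hxW
  have hyW : y.pt ∈ W := h ▸ hxW
  obtain ⟨β, hβ⟩ := exists_factor_fromSpec y.1 hW hyW
  -- the structure map
  have hle : W ≤ c ⁻¹ᵁ ⊤ := le_top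
  let κ : CommRingCat.of k ⟶ Γ(X, W) := (Scheme.ΓSpecIso (CommRingCat.of k)).inv ≫ c.appLE ⊤ W hle
  have hκ : hW.fromSpec ≫ c = Spec.map κ := by
    have := IsAffineOpen.SpecMap_appLE_fromSpec c (isAffineOpen_top _) hW hle
    rw [IsAffineOpen.fromSpec_top, Scheme.isoSpec_Spec_inv] at this
    rw [← this, ← Spec.map_comp]
  have hα1 : κ ≫ α = 𝟙 _ := by
    apply Spec.map_injective
    rw [Spec.map_comp, ← hκ, ← Category.assoc, hα, x.2, Spec.map_id]
  have hβ1 : κ ≫ β = 𝟙 _ := by
    apply Spec.map_injective
    rw [Spec.map_comp, ← hκ, ← Category.assoc, hβ, y.2, Spec.map_id]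
  have hker : RingHom.ker α.hom = RingHom.ker β.hom := by
    have h1 : hW.fromSpec (Spec.map α (IsLocalRing.closedPoint k)) =
        hW.fromSpec (Spec.map β (IsLocalRing.closedPoint k)) := by
      rw [← Scheme.Hom.comp_apply, hα, ← Scheme.Hom.comp_apply, hβ]
      exact h
    have h2 := hW.fromSpec.isOpenEmbedding.injective h1
    have h3 := congrArg PrimeSpectrum.asIdeal h2
    have hbot : (IsLocalRing.closedPoint k).asIdeal = ⊥ := IsLocalRing.maximalIdeal_eq_bot
    have e1 : ∀ γ : Γ(X, W) ⟶ CommRingCat.of k,
        (Spec.map γ (IsLocalRing.closedPoint k)).asIdeal = RingHom.ker γ.hom := by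
      intro γ
      show Ideal.comap γ.hom (IsLocalRing.closedPoint k).asIdeal = _
      rw [hbot, RingHom.ker_eq_comap_bot]
    rw [e1, e1] at h3
    exact h3
  have hab : α = β := by
    ext a
    have hα2 : ∀ t : k, α.hom (κ.hom t) = t := fun t => congrArg (fun θ => θ.hom t) hα1
    have hβ2 : ∀ t : k, β.hom (κ.hom t) = t := fun t => congrArg (fun θ => θ.hom t) hβ1
    have h1 : a - κ.hom (α.hom a) ∈ RingHom.ker α.hom := by
      rw [RingHom.mem_ker, map_sub, hα2, sub_self]
    rw [hker, RingHom.mem_ker, map_sub, hβ2, sub_eq_zero] at h1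
    exact h1.symm
  rw [← hα, ← hβ, hab]

end PtExt

section Inj2

open IsDedekindDomain FunFld

variable [IsIntegral X] [Algebra k X.functionField]
  (halg : algebraMap k X.functionField = LocSym.constFun c)
  [PerfectField k] [IsSeparated c] [Smooth c] (hdim : topologicalKrullDim X = 1)

theorem placeOf_injective : Function.Injective (placeOf c halg hdim) :=
  fun x y h => pt_ext c x y (pt_eq_of_val_eq c halg hdim x y (congrArg Subtype.val h))

end Inj2

end Sch

end Groth.Agent.Lib.Helper10.CurveBr
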