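import Mathlib
import Groth.Agent.Lib.Helper10.FunFld39

set_option autoImplicit false
set_option linter.style.haveILetI false
set_option linter.unusedSectionVars false

namespace Groth.Agent.Lib.Helper10.CurveBr

universe u

open Polynomial FunFld Groth.Agent.Lib.helper10 Groth.Agent.Lib.helper10.FF IntermediateField

/-- going up (same proof as helper24 `RegUnram1`, helper1 `IntegralDim`). -/
theorem ringKrullDim_eq_of_isIntegral_of_injective' {A B : Type*} [CommRing A] [CommRing B]
    (f : A →+* B) (hf : f.IsIntegral) (hinj : Function.Injective f) :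
    ringKrullDim A = ringKrullDim B := by
  apply le_antisymm
  · algebraize [f]
    have : Algebra.IsIntegral A B := ⟨hf⟩
    have hinj' : Function.Injective (algebraMap A B) := hinj
    unfold ringKrullDim Order.krullDim
    apply iSup_le
    intro l
    obtain ⟨P, -, hP, hPl⟩ := Ideal.exists_ideal_over_prime_of_isIntegral
      (S := B) l.head.asIdeal (⊥ : Ideal B) (by
        rw [← RingHom.ker_eq_comap_bot, (RingHom.injective_iff_ker_eq_bot _).mp hinj']
        exact bot_le)
    have : P.LiesOver l.head.asIdeal := ⟨hPl.symm⟩
    obtain ⟨L, hL, -, -⟩ := Ideal.exists_ltSeries_of_hasGoingUp l P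
    rw [← hL]
    exact le_iSup (fun p : LTSeries (PrimeSpectrum B) => (p.length : WithBot ℕ∞)) L
  · refine Order.krullDim_le_of_strictMono (PrimeSpectrum.comap f) ?_
    letI := f.toAlgebra
    haveI : Algebra.IsIntegral A B := ⟨hf⟩
    intro p q hpq
    haveI := p.isPrime
    exact Ideal.IsIntegral.comap_lt_comap (R := A) (I := p.asIdeal) (J := q.asIdeal) hpq

/-- The fraction field of a one-dimensional finitely generated domain over an algebraically closed
field is a function field of one variable. -/
theorem isFunctionField_of_finiteType (k A F : Type u) [Field k] [IsAlgClosed k]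
    [CommRing A] [IsDomain A] [Algebra k A] [Algebra.FiniteType k A] (hA : ringKrullDim A = 1)
    [Field F] [Algebra A F] [IsFractionRing A F] [Algebra k F] [IsScalarTower k A F] :
    IsFunctionField k F := by
  classical
  obtain ⟨s, g, hginj, hgfin⟩ := exists_finite_inj_algHom_of_fg k A
  have hs : s = 1 := by
    have h1 := ringKrullDim_eq_of_isIntegral_of_injective' g.toRingHom hgfin.to_isIntegral hginj
    rw [hA, MvPolynomial.ringKrullDim_of_isNoetherianRing, ringKrullDim_eq_zero_of_field,
      zero_add, Nat.card_fin] at h1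
    exact_mod_cast h1
  subst hs
  let ψ : k[X] ≃ₐ[k] MvPolynomial (Fin 1) k :=
    (MvPolynomial.pUnitAlgEquiv k : MvPolynomial PUnit.{1} k ≃ₐ[k] k[X]).symm.trans
      (MvPolynomial.renameEquiv k (Equiv.equivPUnit.{1, 1} (Fin 1)).symm)
  let φ : k[X] →ₐ[k] A := g.comp ψ.toAlgHom
  have hφinj : Function.Injective φ := hginj.comp ψ.injective
  have hφfin : φ.toRingHom.Finite := by
    have h1 : (ψ.toAlgHom : k[X] →ₐ[k] MvPolynomial (Fin 1) k).toRingHom.Finite :=
      RingHom.Finite.of_surjective _ ψ.surjective
    exact RingHom.Finite.comp hgfin h1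
  letI : Algebra k[X] A := φ.toRingHom.toAlgebra
  haveI : IsScalarTower k k[X] A := IsScalarTower.of_algebraMap_eq (fun c => (φ.commutes c).symm)
  haveI : Module.Finite k[X] A := hφfin
  haveI : FaithfulSMul k[X] A := (faithfulSMul_iff_algebraMap_injective _ _).2 hφinj
  letI : Algebra k[X] F := ((algebraMap A F).comp (algebraMap k[X] A)).toAlgebra
  haveI : IsScalarTower k[X] A F := IsScalarTower.of_algebraMap_eq (fun _ => rfl)
  have hinjF : Function.Injective (algebraMap k[X] F) :=
    (IsFractionRing.injective A F).comp hφinj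
  letI : Algebra (RatFunc k) F := (IsFractionRing.lift hinjF).toAlgebra
  haveI : IsScalarTower k[X] (RatFunc k) F :=
    IsScalarTower.of_algebraMap_eq (fun p => (IsFractionRing.lift_algebraMap hinjF p).symm)
  haveI : IsScalarTower k (RatFunc k) F := IsScalarTower.of_algebraMap_eq (fun c => by
    have h1 : algebraMap k (RatFunc k) c = algebraMap k[X] (RatFunc k) (C c) := by
      rw [RatFunc.algebraMap_C]
      rfl
    rw [h1, ← IsScalarTower.algebraMap_apply k[X] (RatFunc k) F,
      IsScalarTower.algebraMap_apply k[X] A F, IsScalarTower.algebraMap_apply k A F]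
    congr 1
    exact (φ.commutes c).symm)
  haveI : Algebra.IsAlgebraic k[X] A := (Algebra.IsIntegral.of_finite k[X] A).isAlgebraic
  haveI : FiniteDimensional (RatFunc k) F :=
    Module.Finite.of_isLocalization k[X] A (nonZeroDivisors k[X])
  -- the transcendental element
  set t : F := algebraMap k[X] F X with ht
  have haeval : ∀ p : k[X], algebraMap k[X] F p = aeval t p := by
    intro p
    induction p using Polynomial.induction_on' with
    | add p q hp hq => rw [map_add, map_add, hp, hq]
    | monomial n a =>
      rw [← C_mul_X_pow_eq_monomial, map_mul, map_mul, map_pow, map_pow, aeval_X, aeval_C]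
      congr 1
      rw [IsScalarTower.algebraMap_apply k[X] A F, IsScalarTower.algebraMap_apply k A F]
      congr 1
      exact φ.commutes a
  have httrans : Transcendental k t := by
    intro halg
    obtain ⟨p, hp0, hp⟩ := halg
    rw [← haeval] at hp
    exact hp0 (hinjF (by rw [hp, map_zero]))
  refine ⟨⟨t, httrans, ?_⟩, ?_⟩
  · have hmem : ∀ r : RatFunc k, algebraMap (RatFunc k) F r ∈ k⟮t⟯ := by
      intro r
      obtain ⟨p, q, hq, rfl⟩ := IsFractionRing.div_surjective (A := k[X]) r
      rw [map_div₀, ← IsScalarTower.algebraMap_apply k[X] (RatFunc k) F,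
        ← IsScalarTower.algebraMap_apply k[X] (RatFunc k) F, haeval, haeval]
      have hp : ∀ p : k[X], aeval t p ∈ k⟮t⟯ := fun p =>
        IntermediateField.algebra_adjoin_le_adjoin k _ (Polynomial.aeval_mem_adjoin_singleton k t)
      exact div_mem (hp p) (hp q)
    let j : RatFunc k →+* k⟮t⟯ := RingHom.codRestrict (algebraMap (RatFunc k) F) k⟮t⟯ hmem
    exact FF.finite_of_ringHom (E := F) j (fun a => rfl)
  · intro y hy
    have hint : IsIntegral k y := hy.isIntegral
    have hdeg := IsAlgClosed.degree_eq_one_of_irreducible k (minpoly.irreducible hint)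
    exact minpoly.mem_range_of_degree_eq_one k y hdeg

end Groth.Agent.Lib.Helper10.CurveBr
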