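import Mathlib
import Groth.Agent.Lib.Helper10.CurveBr2
import Groth.Agent.Lib.Helper10.CurveBr3

set_option autoImplicit false
set_option linter.style.haveILetI false
set_option linter.unusedSectionVars false

namespace Groth.Agent.Lib.Helper10.CurveBr

universe u

open CategoryTheory AlgebraicGeometry TopologicalSpace FunFld

section FF

variable {k : Type u} [Field k] {X : Scheme.{u}} (c : X ⟶ Spec (CommRingCat.of k))

theorem exists_ne_genericPoint [IsIntegral X] (hdim : topologicalKrullDim X = 1) :
    ∃ p : X, p ≠ genericPoint X := by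
  by_contra hcon
  push Not at hcon
  have hsub : Subsingleton X := ⟨fun a b => by rw [hcon a, hcon b]⟩
  have h3 : topologicalKrullDim X ≤ 0 := by
    unfold topologicalKrullDim
    have : Subsingleton (IrreducibleCloseds X) := by
      constructor
      intro s t
      apply IrreducibleCloseds.ext
      obtain ⟨a, ha⟩ := s.isIrreducible.nonempty
      obtain ⟨b, hb⟩ := t.isIrreducible.nonempty
      ext z
      have e1 : z = a := Subsingleton.elim _ _
      have e2 : z = b := Subsingleton.elim _ _
      constructor
      · intro _; rw [e2]; exact hb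
      · intro _; rw [e1]; exact ha
    exact Order.krullDim_nonpos_of_subsingleton
  rw [hdim] at h3
  exact absurd h3 (by norm_num)

theorem isFunctionField [IsAlgClosed k] [IsIntegral X] [Algebra k X.functionField]
    (halg : algebraMap k X.functionField = LocSym.constFun c)
    [LocallyOfFiniteType c] (hdim : topologicalKrullDim X = 1) :
    IsFunctionField k X.functionField := by
  obtain ⟨p, hp⟩ := exists_ne_genericPoint hdim
  obtain ⟨W, hW, hpW⟩ : ∃ W : X.Opens, IsAffineOpen W ∧ p ∈ W := by
    obtain ⟨_, ⟨W, hW, rfl⟩, hxW, -⟩ := X.isBasis_affineOpens.exists_subset_of_mem_open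
      (Set.mem_univ p) isOpen_univ
    exact ⟨W, hW, hxW⟩
  haveI : Nonempty W := ⟨⟨p, hpW⟩⟩
  have hle : W ≤ c ⁻¹ᵁ ⊤ := le_top
  let κ : k →+* Γ(X, W) := (c.appLE ⊤ W hle).hom.comp (Scheme.ΓSpecIso (CommRingCat.of k)).inv.hom
  letI : Algebra k Γ(X, W) := κ.toAlgebra
  haveI : IsFractionRing Γ(X, W) X.functionField :=
    functionField_isFractionRing_of_isAffineOpen X W hW
  haveI : IsScalarTower k Γ(X, W) X.functionField := IsScalarTower.of_algebraMap_eq (fun a => by
    rw [halg]
    unfold LocSym.constFun
    simp only [RingHom.comp_apply]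
    show _ = X.germToFunctionField W (κ a)
    simp only [κ, RingHom.comp_apply, Scheme.Hom.appLE]
    have hη : genericPoint X ∈ W :=
      ((genericPoint_spec X).mem_open_set_iff W.isOpen).mpr ⟨p, trivial, hpW⟩
    exact (X.presheaf.germ_res_apply (homOfLE hle) (genericPoint X) hη _).symm)
  haveI : Algebra.FiniteType k Γ(X, W) := by
    have h1 : (c.appLE ⊤ W hle).hom.FiniteType :=
      Scheme.Hom.finiteType_appLE c (isAffineOpen_top _) hW hle
    have h2 : ((Scheme.ΓSpecIso (CommRingCat.of k)).inv.hom).FiniteType :=
      RingHom.FiniteType.of_surjective _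
        ((ConcreteCategory.bijective_of_isIso (Scheme.ΓSpecIso (CommRingCat.of k)).inv).2)
    have h3 : κ.FiniteType := h1.comp h2
    exact h3
  have hdimW : ringKrullDim Γ(X, W) = 1 := by
    apply le_antisymm
    · exact (ringKrullDim_sections_le hW).trans hdim.le
    · set 𝔭 := hW.primeIdealOf ⟨p, hpW⟩ with h𝔭
      letI := X.presheaf.algebra_section_stalk ⟨p, hpW⟩
      haveI : IsLocalization.AtPrime (X.presheaf.stalk p) 𝔭.asIdeal :=
        hW.isLocalization_stalk ⟨p, hpW⟩
      have h1 := ringKrullDim_stalk_eq_one hdim.le p hp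
      rw [IsLocalization.AtPrime.ringKrullDim_eq_height 𝔭.asIdeal (X.presheaf.stalk p)] at h1
      rw [← h1]
      exact Ideal.height_le_ringKrullDim_of_ne_top 𝔭.2.ne_top
  exact isFunctionField_of_finiteType k Γ(X, W) X.functionField hdimW

end FF

end Groth.Agent.Lib.Helper10.CurveBr
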