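import Groth.Agent.Lib.Helper10.FunFld4

/-!
Function fields of one variable (helper10), part 5: places are determined by their valuation rings,
distinct places are independent, weak approximation.
-/

set_option autoImplicit false
set_option linter.unusedSectionVars false

universe u v w

open IntermediateField Polynomial FunFld

namespace Groth.Agent.Lib.helper10

namespace FF

variable {k : Type u} {K : Type v} [Field k] [Field K] [Algebra k K]

theorem Place.val_eq_one_iff (P : Place k K) {x : K} (hx : x ≠ 0) :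
    P.1 x = 1 ↔ x ∈ P.O ∧ x⁻¹ ∈ P.O := by
  have h0 : P.1 x ≠ 0 := (Valuation.ne_zero_iff _).mpr hx
  rw [Place.mem_O_iff, Place.mem_O_iff, map_inv₀, inv_le_one₀ (zero_lt_iff.mpr h0)]
  exact ⟨fun h => ⟨h.le, h.ge⟩, fun h => le_antisymm h.1 h.2⟩

theorem Place.val_lt_one_iff (P : Place k K) {x : K} (hx : x ≠ 0) :
    P.1 x < 1 ↔ x ∈ P.O ∧ x⁻¹ ∉ P.O := by
  have h0 : P.1 x ≠ 0 := (Valuation.ne_zero_iff _).mpr hx
  rw [Place.mem_O_iff, Place.mem_O_iff, map_inv₀, inv_le_one₀ (zero_lt_iff.mpr h0), not_le]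
  exact ⟨fun h => ⟨h.le, h⟩, fun h => h.2⟩

/-- in `ℤᵐ⁰`, `< 1` means `≤ exp (-1)` -/
theorem lt_one_iff_le_exp_neg_one (γ : WithZero (Multiplicative ℤ)) :
    γ < 1 ↔ γ ≤ WithZero.exp (-1 : ℤ) := by
  by_cases h : γ = 0
  · rw [h]
    exact ⟨fun _ => zero_le, fun _ => zero_lt_one⟩
  · rw [← WithZero.exp_log h, ← WithZero.exp_zero, WithZero.exp_lt_exp, WithZero.exp_le_exp]
    omega

theorem Place.val_zpow_uniformizer (P : Place k K) {t : K} (ht : P.1 t = WithZero.exp (-1 : ℤ))
    (n : ℤ) : P.1 (t ^ n) = WithZero.exp (-n) := by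
  rw [map_zpow₀, ht, ← WithZero.exp_zsmul]
  simp

/-- A place is determined by its valuation ring. -/
theorem Place.eq_of_O_eq (P Q : Place k K) (h : P.O = Q.O) : P = Q := by
  have hunit : ∀ x : K, x ≠ 0 → P.1 x = 1 → Q.1 x = 1 := by
    intro x hx hP
    rw [Place.val_eq_one_iff P hx, h] at hP
    exact (Place.val_eq_one_iff Q hx).mpr hP
  obtain ⟨t, ht⟩ := Place.exists_uniformizer P
  obtain ⟨t', ht'⟩ := Place.exists_uniformizer Q
  have ht0 : t ≠ 0 := by
    intro h0
    rw [h0, Valuation.map_zero] at ht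
    exact WithZero.exp_ne_zero ht.symm
  have ht'0 : t' ≠ 0 := by
    intro h0
    rw [h0, Valuation.map_zero] at ht'
    exact WithZero.exp_ne_zero ht'.symm
  have hPt : P.1 t < 1 := by rw [lt_one_iff_le_exp_neg_one, ht]
  have hQt' : Q.1 t' < 1 := by rw [lt_one_iff_le_exp_neg_one, ht']
  have hQt : Q.1 t < 1 := by
    rw [Place.val_lt_one_iff P ht0, h] at hPt
    exact (Place.val_lt_one_iff Q ht0).mpr hPt
  have hPt' : P.1 t' < 1 := by
    rw [Place.val_lt_one_iff Q ht'0, ← h] at hQt'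
    exact (Place.val_lt_one_iff P ht'0).mpr hQt'
  have hQt_eq : Q.1 t = WithZero.exp (-1 : ℤ) := by
    apply le_antisymm ((lt_one_iff_le_exp_neg_one _).mp hQt)
    have h1 : P.1 (t' / t) ≤ 1 := by
      rw [map_div₀, ht]
      have := (lt_one_iff_le_exp_neg_one _).mp hPt'
      exact div_le_one_of_le₀ this zero_le
    have h2 : Q.1 (t' / t) ≤ 1 := by
      have : t' / t ∈ P.O := h1
      rw [h] at this
      exact this
    rw [map_div₀, ht'] at h2
    have hQt0 : Q.1 t ≠ 0 := (Valuation.ne_zero_iff _).mpr ht0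
    rwa [div_le_one₀ (zero_lt_iff.mpr hQt0)] at h2
  apply Subtype.ext
  apply Valuation.ext
  intro x
  by_cases hx : x = 0
  · rw [hx, Valuation.map_zero, Valuation.map_zero]
  · set n := P.ord x with hn
    have hPx : P.1 x = WithZero.exp (-n) := Place.val_eq_exp_neg_ord P hx
    have hu : P.1 (x * t ^ (-n)) = 1 := by
      rw [Valuation.map_mul, Place.val_zpow_uniformizer P ht, hPx, neg_neg, ← WithZero.exp_add]
      simp
    have hu0 : x * t ^ (-n) ≠ 0 := mul_ne_zero hx (zpow_ne_zero _ ht0)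
    have hQu := hunit _ hu0 hu
    rw [Valuation.map_mul, Place.val_zpow_uniformizer Q hQt_eq, neg_neg] at hQu
    rw [hPx]
    have : Q.1 x = Q.1 x * WithZero.exp n * (WithZero.exp n)⁻¹ := by
      rw [mul_assoc, mul_inv_cancel₀ WithZero.exp_ne_zero, mul_one]
    rw [this, hQu, one_mul, ← WithZero.exp_neg]

/-- Valuation rings of places are pairwise incomparable. -/
theorem Place.eq_of_O_le (P Q : Place k K) (h : P.O ≤ Q.O) : P = Q := by
  apply Place.eq_of_O_eq
  apply le_antisymm h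
  intro z hzQ
  by_contra hzP
  apply Place.O_ne_top Q
  obtain ⟨t, ht⟩ := Place.exists_uniformizer P
  have ht0 : t ≠ 0 := by
    intro h0
    rw [h0, Valuation.map_zero] at ht
    exact WithZero.exp_ne_zero ht.symm
  have hz0 : z ≠ 0 := fun h0 => hzP (h0 ▸ P.O.zero_mem)
  -- every `P`-unit lies in `Q.O`
  have hunit : ∀ x : K, x ≠ 0 → P.1 x = 1 → x ∈ Q.O ∧ x⁻¹ ∈ Q.O := by
    intro x hx hP
    rw [Place.val_eq_one_iff P hx] at hP
    exact ⟨h hP.1, h hP.2⟩
  -- `t⁻¹ ∈ Q.O`
  set m := P.ord z with hm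
  have hPz : P.1 z = WithZero.exp (-m) := Place.val_eq_exp_neg_ord P hz0
  have hmneg : m < 0 := by
    rw [Place.mem_O_iff, not_le] at hzP
    exact (Place.ord_neg_iff P hz0).mpr hzP
  have hu : P.1 (z * t ^ (-m)) = 1 := by
    rw [Valuation.map_mul, Place.val_zpow_uniformizer P ht, hPz, neg_neg, ← WithZero.exp_add]
    simp
  have hu0 : z * t ^ (-m) ≠ 0 := mul_ne_zero hz0 (zpow_ne_zero _ ht0)
  obtain ⟨-, huinv⟩ := hunit _ hu0 hu
  have htQ : t ∈ Q.O := by
    apply h
    rw [Place.mem_O_iff, ht, ← WithZero.exp_zero, WithZero.exp_le_exp]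
    omega
  have htm : t ^ m ∈ Q.O := by
    have e : t ^ m = z * (z * t ^ (-m))⁻¹ := by
      rw [mul_inv, zpow_neg, inv_inv, ← mul_assoc, mul_inv_cancel₀ hz0, one_mul]
    rw [e]
    exact mul_mem hzQ huinv
  have htinv : t⁻¹ ∈ Q.O := by
    obtain ⟨n, hn⟩ : ∃ n : ℕ, m = -(n + 1 : ℤ) := ⟨(-m - 1).toNat, by omega⟩
    have e : t⁻¹ = t ^ n * t ^ m := by
      rw [hn, ← zpow_natCast, ← zpow_add₀ ht0]
      have : (n : ℤ) + -((n : ℤ) + 1) = -1 := by ring
      rw [this, zpow_neg_one]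
    rw [e]
    exact mul_mem (pow_mem htQ n) htm
  have hzpow : ∀ j : ℤ, t ^ j ∈ Q.O := by
    intro j
    rcases Int.le_total 0 j with hj | hj
    · obtain ⟨n, rfl⟩ := Int.eq_ofNat_of_zero_le hj
      rw [zpow_natCast]
      exact pow_mem htQ n
    · obtain ⟨n, hn⟩ : ∃ n : ℕ, j = -(n : ℤ) := ⟨(-j).toNat, by omega⟩
      rw [hn, zpow_neg, zpow_natCast, ← inv_pow]
      exact pow_mem htinv n
  rw [eq_top_iff]
  intro x _
  by_cases hx : x = 0
  · rw [hx]; exact Q.O.zero_mem
  · set n := P.ord x with hn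
    have hPx : P.1 x = WithZero.exp (-n) := Place.val_eq_exp_neg_ord P hx
    have hu' : P.1 (x * t ^ (-n)) = 1 := by
      rw [Valuation.map_mul, Place.val_zpow_uniformizer P ht, hPx, neg_neg, ← WithZero.exp_add]
      simp
    have hu'0 : x * t ^ (-n) ≠ 0 := mul_ne_zero hx (zpow_ne_zero _ ht0)
    obtain ⟨hmem, -⟩ := hunit _ hu'0 hu'
    have e : x = (x * t ^ (-n)) * t ^ n := by
      rw [mul_assoc, ← zpow_add₀ ht0, neg_add_cancel, zpow_zero, mul_one]
    rw [e]
    exact mul_mem hmem (hzpow n)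

/-- Two distinct places: an element small at the first and large at the second. -/
theorem Place.exists_lt_one_gt_one {P Q : Place k K} (hPQ : P ≠ Q) :
    ∃ u : K, P.1 u < 1 ∧ 1 < Q.1 u := by
  have h1 : ¬ P.O ≤ Q.O := fun h => hPQ (Place.eq_of_O_le P Q h)
  have h2 : ¬ Q.O ≤ P.O := fun h => hPQ (Place.eq_of_O_le Q P h).symm
  obtain ⟨y₁, hy₁P, hy₁Q⟩ := SetLike.not_le_iff_exists.mp h1
  obtain ⟨y₂, hy₂Q, hy₂P⟩ := SetLike.not_le_iff_exists.mp h2
  rw [Place.mem_O_iff] at hy₁P hy₂Q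
  rw [Place.mem_O_iff, not_le] at hy₁Q hy₂P
  have hy₂0 : y₂ ≠ 0 := by
    rintro rfl
    rw [Valuation.map_zero] at hy₂P
    exact not_lt_zero hy₂P
  have hP0 : P.1 y₂ ≠ 0 := (Valuation.ne_zero_iff _).mpr hy₂0
  have hQ0 : Q.1 y₂ ≠ 0 := (Valuation.ne_zero_iff _).mpr hy₂0
  refine ⟨y₁ / y₂, ?_, ?_⟩
  · rw [map_div₀, div_lt_one₀ (zero_lt_iff.mpr hP0)]
    exact lt_of_le_of_lt hy₁P hy₂P
  · rw [map_div₀, one_lt_div₀ (zero_lt_iff.mpr hQ0)]
    exact lt_of_le_of_lt hy₂Q hy₁Q

/-- Step 1 of weak approximation: an element small at `P` and large at finitely many other places. -/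
theorem exists_small_large (P : Place k K) (s : Finset (Place k K)) (hP : P ∉ s) :
    ∃ u : K, P.1 u < 1 ∧ ∀ Q ∈ s, 1 < Q.1 u := by
  classical
  induction s using Finset.induction_on with
  | empty =>
    obtain ⟨t, -, ht⟩ := Place.exists_ne_zero_lt_one P
    exact ⟨t, ht, fun Q hQ => absurd hQ (Finset.notMem_empty Q)⟩
  | insert Q s hQs ih =>
    rw [Finset.mem_insert, not_or] at hP
    obtain ⟨y, hyP, hys⟩ := ih hP.2
    obtain ⟨z, hzP, hzQ⟩ := Place.exists_lt_one_gt_one hP.1
    by_cases hyQ : 1 < Q.1 y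
    · refine ⟨y, hyP, fun Q' hQ' => ?_⟩
      rcases Finset.mem_insert.mp hQ' with rfl | h
      · exact hyQ
      · exact hys Q' h
    · rw [not_lt] at hyQ
      have hz0 : z ≠ 0 := by
        rintro rfl
        rw [Valuation.map_zero] at hzQ
        exact not_lt_zero hzQ
      set r : ℕ := 1 + ∑ Q' ∈ s, (Q'.ord y).natAbs with hr
      have hr1 : r ≠ 0 := by omega
      refine ⟨y + z ^ r, ?_, ?_⟩
      · apply lt_of_le_of_lt (Valuation.map_add _ _ _)
        apply max_lt hyP
        rw [Valuation.map_pow]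
        exact pow_lt_one' hzP hr1
      · intro Q' hQ'
        rcases Finset.mem_insert.mp hQ' with rfl | h
        · have h1 : 1 < Q'.1 (z ^ r) := by
            rw [Valuation.map_pow]
            exact one_lt_pow' hzQ hr1
          rw [Valuation.map_add_eq_of_lt_right _ (lt_of_le_of_lt hyQ h1)]
          exact h1
        · have hy1 := hys Q' h
          have hy0 : y ≠ 0 := by
            rintro rfl
            rw [Valuation.map_zero] at hy1
            exact not_lt_zero hy1
          have hne : Q'.1 y ≠ Q'.1 (z ^ r) := by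
            intro heq
            rw [Valuation.map_pow, Place.val_eq_exp_neg_ord Q' hy0, Place.val_eq_exp_neg_ord Q' hz0,
              ← WithZero.exp_nsmul, WithZero.exp_inj, nsmul_eq_mul] at heq
            have hlt : (Q'.ord y).natAbs < r := by
              have := Finset.single_le_sum (f := fun Q'' : Place k K => (Q''.ord y).natAbs)
                (fun i _ => Nat.zero_le _) h
              omega
            have hordy : Q'.ord y < 0 := (Place.ord_neg_iff Q' hy0).mpr hy1
            have h2 : (Q'.ord y).natAbs = r * (Q'.ord z).natAbs := by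
              have : Q'.ord y = (r : ℤ) * Q'.ord z := by linarith
              rw [this, Int.natAbs_mul, Int.natAbs_natCast]
            have h3 : (Q'.ord z).natAbs ≠ 0 := by
              intro h0
              rw [h0, mul_zero] at h2
              omega
            have h4 : r ≤ r * (Q'.ord z).natAbs := Nat.le_mul_of_pos_right r (Nat.pos_of_ne_zero h3)
            omega
          rw [Valuation.map_add_of_distinct_val _ hne]
          exact lt_of_lt_of_le hy1 (le_max_left _ _)

/-- Step 2: an element close to `1` at `P` and close to `0` at finitely many other places. -/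
theorem exists_approx_one (P : Place k K) (s : Finset (Place k K)) (hP : P ∉ s) (N : ℕ) :
    ∃ w : K, P.1 (w - 1) ≤ WithZero.exp (-(N : ℤ)) ∧ ∀ Q ∈ s, Q.1 w ≤ WithZero.exp (-(N : ℤ)) := by
  obtain ⟨u, huP, hus⟩ := exists_small_large P s hP
  set M := N + 1 with hM
  have hPu : P.1 (u ^ M) ≤ WithZero.exp (-(N : ℤ)) := by
    rw [Valuation.map_pow]
    have h1 : P.1 u ≤ WithZero.exp (-1 : ℤ) := (lt_one_iff_le_exp_neg_one _).mp huP
    calc P.1 u ^ M ≤ WithZero.exp (-1 : ℤ) ^ M := pow_le_pow_left' h1 M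
      _ = WithZero.exp (-(M : ℤ)) := by rw [← WithZero.exp_nsmul]; simp
      _ ≤ WithZero.exp (-(N : ℤ)) := by rw [WithZero.exp_le_exp, hM]; push_cast; omega
  have hPu1 : P.1 (u ^ M) < 1 := by
    rw [Valuation.map_pow]
    exact pow_lt_one' huP (by omega)
  have hP1 : P.1 (1 + u ^ M) = 1 := by
    rw [Valuation.map_add_eq_of_lt_left _ (by rw [Valuation.map_one]; exact hPu1), Valuation.map_one]
  have hne : (1 : K) + u ^ M ≠ 0 := by
    intro h
    rw [h, Valuation.map_zero] at hP1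
    exact zero_ne_one hP1
  refine ⟨(1 + u ^ M)⁻¹, ?_, ?_⟩
  · have e : (1 + u ^ M)⁻¹ - 1 = -(u ^ M) * (1 + u ^ M)⁻¹ := by
      field_simp
      ring
    rw [e, Valuation.map_mul, Valuation.map_neg, map_inv₀, hP1, inv_one, mul_one]
    exact hPu
  · intro Q hQ
    have h1 : 1 < Q.1 (u ^ M) := by
      rw [Valuation.map_pow]
      exact one_lt_pow' (hus Q hQ) (by omega)
    have h2 : Q.1 (1 + u ^ M) = Q.1 (u ^ M) := by
      rw [Valuation.map_add_eq_of_lt_right _ (by rw [Valuation.map_one]; exact h1)]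
    have hu0 : u ≠ 0 := by
      rintro rfl
      have := hus Q hQ
      rw [Valuation.map_zero] at this
      exact not_lt_zero this
    have h3 : WithZero.exp (1 : ℤ) ≤ Q.1 u := by
      have h4 := hus Q hQ
      rw [Place.val_eq_exp_neg_ord Q hu0] at h4 ⊢
      rw [← WithZero.exp_zero, WithZero.exp_lt_exp] at h4
      rw [WithZero.exp_le_exp]
      omega
    rw [map_inv₀, h2, Valuation.map_pow]
    have h5 : WithZero.exp (M : ℤ) ≤ Q.1 u ^ M := by
      calc WithZero.exp (M : ℤ) = WithZero.exp (1 : ℤ) ^ M := by rw [← WithZero.exp_nsmul]; simp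
        _ ≤ Q.1 u ^ M := pow_le_pow_left' h3 M
    have h6 : WithZero.exp (-(N : ℤ)) = (WithZero.exp (N : ℤ))⁻¹ := WithZero.exp_neg _
    rw [h6]
    apply inv_anti₀ (zero_lt_iff.mpr WithZero.exp_ne_zero)
    apply le_trans _ h5
    rw [WithZero.exp_le_exp, hM]
    push_cast
    omega

theorem Place.val_le_exp_natAbs (Q : Place k K) (y : K) :
    Q.1 y ≤ WithZero.exp (((Q.ord y).natAbs : ℕ) : ℤ) := by
  by_cases hy : y = 0
  · rw [hy, Valuation.map_zero]; exact zero_le
  · rw [Place.val_eq_exp_neg_ord Q hy, WithZero.exp_le_exp]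
    omega

/-- Step 3 (weak approximation): simultaneous approximation at finitely many places. -/
theorem weak_approx (S : Finset (Place k K)) (y : Place k K → K) (N : ℕ) :
    ∃ z : K, ∀ P ∈ S, P.1 (z - y P) ≤ WithZero.exp (-(N : ℤ)) := by
  classical
  set M : ℕ := ∑ P ∈ S, ∑ Q ∈ S, (Q.ord (y P)).natAbs with hM
  have hMb : ∀ P ∈ S, ∀ Q ∈ S, Q.1 (y P) ≤ WithZero.exp (M : ℤ) := by
    intro P hP Q hQ
    apply le_trans (Place.val_le_exp_natAbs Q (y P))
    rw [WithZero.exp_le_exp]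
    have h1 := Finset.single_le_sum (f := fun Q' : Place k K => (Q'.ord (y P)).natAbs)
      (fun i _ => Nat.zero_le _) hQ
    have h2 := Finset.single_le_sum
      (f := fun P' : Place k K => ∑ Q' ∈ S, (Q'.ord (y P')).natAbs) (fun i _ => Nat.zero_le _) hP
    exact_mod_cast le_trans h1 h2
  choose w hw using fun P : Place k K =>
    exists_approx_one P (S.erase P) (Finset.notMem_erase P S) (N + M)
  have hexp : WithZero.exp (M : ℤ) * WithZero.exp (-((N + M : ℕ) : ℤ)) = WithZero.exp (-(N : ℤ)) := by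
    rw [← WithZero.exp_add]
    congr 1
    push_cast
    ring
  refine ⟨∑ P ∈ S, y P * w P, ?_⟩
  intro Q hQ
  have e : ∑ P ∈ S, y P * w P - y Q = y Q * (w Q - 1) + ∑ P ∈ S.erase Q, y P * w P := by
    rw [← Finset.add_sum_erase S _ hQ]
    ring
  rw [e]
  apply le_trans (Valuation.map_add _ _ _)
  apply max_le
  · rw [Valuation.map_mul, ← hexp]
    exact mul_le_mul' (hMb Q hQ Q hQ) (hw Q).1
  · apply Valuation.map_sum_le
    intro P hP
    have hP' := Finset.mem_erase.mp hP
    have hQP : Q ∈ S.erase P := Finset.mem_erase.mpr ⟨fun h => hP'.1 h.symm, hQ⟩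
    rw [Valuation.map_mul, ← hexp]
    exact mul_le_mul' (hMb P hP'.2 Q hQ) ((hw P).2 Q hQP)

/-- Step 4 (weak approximation with prescribed orders). -/
theorem weak_approx_eq (S : Finset (Place k K)) (x : Place k K → K) (r : Place k K → ℤ) :
    ∃ z : K, ∀ P ∈ S, P.1 (z - x P) = WithZero.exp (-(r P)) := by
  classical
  choose zP hzP using fun P : Place k K => P.2.2 (WithZero.exp (-(r P)))
  set N : ℕ := 1 + ∑ P ∈ S, (r P).natAbs with hN
  have hNr : ∀ P ∈ S, WithZero.exp (-(N : ℤ)) < WithZero.exp (-(r P)) := by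
    intro P hP
    rw [WithZero.exp_lt_exp]
    have := Finset.single_le_sum (f := fun P' : Place k K => (r P').natAbs)
      (fun i _ => Nat.zero_le _) hP
    omega
  obtain ⟨z₁, hz₁⟩ := weak_approx S x N
  obtain ⟨z₂, hz₂⟩ := weak_approx S zP N
  refine ⟨z₁ + z₂, ?_⟩
  intro P hP
  have h2 : P.1 z₂ = WithZero.exp (-(r P)) := by
    have e : z₂ = zP P + (z₂ - zP P) := by ring
    rw [e, Valuation.map_add_eq_of_lt_left _ (by rw [hzP]; exact lt_of_le_of_lt (hz₂ P hP) (hNr P hP)),
      hzP]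
  have e : z₁ + z₂ - x P = z₂ + (z₁ - x P) := by ring
  rw [e, Valuation.map_add_eq_of_lt_left _ (by rw [h2]; exact lt_of_le_of_lt (hz₁ P hP) (hNr P hP)), h2]

end FF

end Groth.Agent.Lib.helper10
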