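import Mathlib
import Groth.Agent.Lib.Helper10.CurveBr4
import Groth.Agent.Lib.Helper4.FunFieldProperLocal
import Groth.Agent.Lib.Helper10.FunFld5

set_option autoImplicit false
set_option linter.style.haveILetI false
set_option linter.unusedSectionVars false

namespace Groth.Agent.Lib.Helper10.CurveBr

universe u

open CategoryTheory AlgebraicGeometry TopologicalSpace FunFld

section Surj

variable {k : Type u} [Field k] {X : Scheme.{u}} (c : X ⟶ Spec (CommRingCat.of k))

theorem isClosed_singleton_of_ne_genericPoint [IsIntegral X] (hdim : topologicalKrullDim X ≤ 1)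
    (x : X) (hx : x ≠ genericPoint X) : IsClosed ({x} : Set X) := by
  rw [← closure_eq_iff_isClosed]
  apply Set.Subset.antisymm _ subset_closure
  intro z hz
  by_contra hzx
  have hxz : x ⤳ z := specializes_iff_mem_closure.mpr hz
  have hηx : genericPoint X ⤳ x := (genericPoint_spec X).specializes trivial
  let a : IrreducibleCloseds X := ⟨closure {z}, isIrreducible_singleton.closure, isClosed_closure⟩
  let b : IrreducibleCloseds X := ⟨closure {x}, isIrreducible_singleton.closure, isClosed_closure⟩
  let t : IrreducibleCloseds X :=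
    ⟨closure {genericPoint X}, isIrreducible_singleton.closure, isClosed_closure⟩
  have hab : a < b := by
    rw [lt_iff_le_and_ne]
    refine ⟨hxz.closure_subset, fun h => ?_⟩
    have h1 : closure ({z} : Set X) = closure {x} := congrArg IrreducibleCloseds.carrier h
    have h2 : z ⤳ x := specializes_iff_closure_subset.mpr h1.ge
    exact hzx (h2.antisymm hxz).eq
  have hbt : b < t := by
    rw [lt_iff_le_and_ne]
    refine ⟨hηx.closure_subset, fun h => ?_⟩
    have h1 : closure ({x} : Set X) = closure {genericPoint X} :=
      congrArg IrreducibleCloseds.carrier h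
    have h2 : x ⤳ genericPoint X := specializes_iff_closure_subset.mpr h1.ge
    exact hx (h2.antisymm hηx).eq
  let s : LTSeries (IrreducibleCloseds X) :=
    { length := 2
      toFun := ![a, b, t]
      step := by
        intro i
        fin_cases i
        · exact hab
        · exact hbt }
  have h2 : (2 : WithBot ℕ∞) ≤ topologicalKrullDim X := by
    have := Order.LTSeries.length_le_krullDim s
    exact this
  have := h2.trans hdim
  exact absurd this (by norm_num)

/-- every element of a stalk of `Spec k` is the image of a scalar -/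
theorem exists_toStalk_eq (y : Spec (CommRingCat.of k))
    (r : (Spec (CommRingCat.of k)).presheaf.stalk y) :
    ∃ a : k, r = (StructureSheaf.toStalk k y).hom a := by
  letI : Algebra k ((Spec (CommRingCat.of k)).presheaf.stalk y) := StructureSheaf.stalkAlgebra k y
  haveI : IsLocalization.AtPrime ((Spec (CommRingCat.of k)).presheaf.stalk y) y.asIdeal :=
    StructureSheaf.IsLocalization.to_stalk k y
  have hb := Field.localization_map_bijective (K := k)
    (Kₘ := (Spec (CommRingCat.of k)).presheaf.stalk y) (M := y.asIdeal.primeCompl)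
    (fun h0 => h0 (Ideal.zero_mem _))
  obtain ⟨a, ha⟩ := hb.2 r
  exact ⟨a, ha.symm⟩

theorem stalkMap_toStalk [IsIntegral X] (a : k) :
    (c.stalkMap (genericPoint X)).hom
      ((StructureSheaf.toStalk k (c.base (genericPoint X))).hom a) = LocSym.constFun c a := by
  exact Scheme.Hom.germ_stalkMap_apply c ⊤ (genericPoint X) trivial _

end Surj

section Surj2

open IsDedekindDomain Groth.Agent.Lib.helper10

variable {k : Type u} [Field k] {X : Scheme.{u}} (c : X ⟶ Spec (CommRingCat.of k))
variable [IsIntegral X] [Algebra k X.functionField]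
  (halg : algebraMap k X.functionField = LocSym.constFun c)
  [IsAlgClosed k] [IsProper c] [Smooth c] (hdim : topologicalKrullDim X = 1)

theorem exists_pt_of_place (P : Place k X.functionField) :
    ∃ x : LocSym.Pt c, placeOf c halg hdim x = P := by
  let A : ValuationSubring X.functionField := P.O
  let y := c.base (genericPoint X)
  have hξ : c.base (genericPoint X) ⤳ y := specializes_rfl
  have hA : ∀ g, A.valuation g ≤ 1 ↔ P.1 g ≤ 1 := fun g => by
    rw [ValuationSubring.valuation_le_one_iff]
    exact Valuation.mem_valuationSubring_iff _ _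
  have h1 : ∀ r : (Spec (CommRingCat.of k)).presheaf.stalk y, A.valuation
      (((Spec (CommRingCat.of k)).presheaf.stalkSpecializes hξ ≫
        c.stalkMap (genericPoint X)) r) ≤ 1 := by
    intro r
    obtain ⟨a, rfl⟩ := exists_toStalk_eq y r
    rw [hA]
    have e : (((Spec (CommRingCat.of k)).presheaf.stalkSpecializes hξ ≫
        c.stalkMap (genericPoint X)) ((StructureSheaf.toStalk k y).hom a)) =
        LocSym.constFun c a := by
      rw [TopCat.Presheaf.stalkSpecializes_refl, Category.id_comp]
      exact stalkMap_toStalk c a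
    rw [e, ← halg]
    exact P.2.1 a
  have h2 : ∀ r ∈ IsLocalRing.maximalIdeal ((Spec (CommRingCat.of k)).presheaf.stalk y),
      A.valuation (((Spec (CommRingCat.of k)).presheaf.stalkSpecializes hξ ≫
        c.stalkMap (genericPoint X)) r) < 1 := by
    intro r hr
    obtain ⟨a, rfl⟩ := exists_toStalk_eq y r
    have ha : a = 0 := by
      by_contra ha
      rw [IsLocalRing.mem_maximalIdeal, mem_nonunits_iff] at hr
      exact hr ((IsUnit.mk0 a ha).map _)
    rw [ha, map_zero]
    erw [map_zero]
    rw [map_zero]
    exact zero_lt_one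
  obtain ⟨x, -, hx1, hx2⟩ :=
    Groth.Agent.Lib.helper4.FunFieldProperLocal.exists_dominated_of_isProper_restrict
      c y hξ ⊤ trivial A h1 h2
  have hxη : x ≠ genericPoint X := by
    rintro rfl
    obtain ⟨z, hz⟩ := P.2.2 (WithZero.exp 1)
    have h3 := hx1 z
    have h4 : X.presheaf.stalkSpecializes (genericPoint_specializes (genericPoint X)) = 𝟙 _ :=
      TopCat.Presheaf.stalkSpecializes_refl _ _
    rw [h4, hA] at h3
    have h5 : P.1 z ≤ 1 := h3
    rw [hz, ← WithZero.exp_zero, WithZero.exp_le_exp] at h5
    omega
  have hxc : IsClosed ({x} : Set X) := isClosed_singleton_of_ne_genericPoint hdim.le x hxη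
  let p : LocSym.Pt c := ⟨pointOfClosedPoint c x hxc, pointOfClosedPoint_comp c x hxc⟩
  have hp : p.pt = x := pointOfClosedPoint_apply c x hxc _
  refine ⟨p, ?_⟩
  apply FF.Place.eq_of_O_le
  intro g hg
  haveI := isDVR_stalk c hdim p
  have hg1 : dvrVal (X.presheaf.stalk p.pt) X.functionField g ≤ 1 :=
    (Valuation.mem_valuationSubring_iff _ _).mp hg
  rw [← mem_range_algebraMap_iff] at hg1
  obtain ⟨r, rfl⟩ := hg1
  have key : ∀ (x' : X) (hx' : x' = x) (r : X.presheaf.stalk x'),
      P.1 (algebraMap (X.presheaf.stalk x') X.functionField r) ≤ 1 := by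
    intro x' hx' r'
    subst hx'
    exact (hA _).mp (hx1 r')
  exact (Valuation.mem_valuationSubring_iff _ _).mpr (key p.pt hp r)

end Surj2

end Groth.Agent.Lib.Helper10.CurveBr
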