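import Mathlib
import Groth.Prelude.Def_W4c1etcurveeff2PicMod
import Groth.Agent.Lib.Helper10.CurveBr11

set_option autoImplicit false
set_option linter.style.haveILetI false
set_option linter.unusedSectionVars false

namespace Groth.Agent.Lib.Helper10.CurveBr

universe v u

open CategoryTheory AlgebraicGeometry TopologicalSpace LocSym W4c1etcurveeff2

section Div

variable {k : Type u} [Field k] [IsAlgClosed k] {X : Scheme.{u}} [IsIntegral X]
  (c : X ⟶ Spec (CommRingCat.of k)) [IsProper c] [Smooth c] (hdim : topologicalKrullDim X = 1)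

/-- the divisor of a rational function -/
noncomputable def divOf (g : X.functionField) : LocSym.Pt c →₀ ℤ :=
  Finsupp.ofSupportFinite (fun x => x.ord g) (finite_ord_ne_zero c hdim g)

theorem divOf_apply (g : X.functionField) (x : LocSym.Pt c) : divOf c hdim g x = x.ord g := rfl

include hdim

theorem isDivOf_divOf {g : X.functionField} (hg : g ≠ 0) : IsDivOf c (divOf c hdim g) g :=
  ⟨hg, fun _ => rfl⟩

theorem isDivOf_iff {D : LocSym.Pt c →₀ ℤ} {g : X.functionField} :
    IsDivOf c D g ↔ g ≠ 0 ∧ D = divOf c hdim g := by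
  constructor
  · rintro ⟨h1, h2⟩
    exact ⟨h1, Finsupp.ext h2⟩
  · rintro ⟨h1, rfl⟩
    exact isDivOf_divOf c hdim h1

theorem divOf_mul {g h : X.functionField} (hg : g ≠ 0) (hh : h ≠ 0) :
    divOf c hdim (g * h) = divOf c hdim g + divOf c hdim h := by
  ext x
  rw [Finsupp.add_apply, divOf_apply, divOf_apply, divOf_apply, ord_mul c hdim x hg hh]

theorem divOf_inv (g : X.functionField) : divOf c hdim g⁻¹ = - divOf c hdim g := by
  ext x
  rw [Finsupp.neg_apply, divOf_apply, divOf_apply, ord_inv c hdim]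

theorem divOf_one : divOf c hdim (1 : X.functionField) = 0 := by
  ext x
  rw [divOf_apply, ord_one c hdim]
  rfl

theorem divOf_const (a : k) : divOf c hdim (LocSym.constFun c a) = 0 := by
  ext x
  rw [divOf_apply, ord_const c hdim]
  rfl

theorem mem_principal_iff (D : LocSym.Pt c →₀ ℤ) :
    D ∈ principal c ↔ ∃ g : X.functionField, IsDivOf c D g := by
  constructor
  · intro h
    unfold principal at h
    induction h using AddSubgroup.closure_induction with
    | mem D hD => exact hD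
    | zero => exact ⟨1, (isDivOf_iff c hdim).mpr ⟨one_ne_zero, (divOf_one c hdim).symm⟩⟩
    | add D E _ _ hD hE =>
      obtain ⟨g, hg⟩ := hD
      obtain ⟨h, hh⟩ := hE
      rw [isDivOf_iff c hdim] at hg hh
      refine ⟨g * h, (isDivOf_iff c hdim).mpr ⟨mul_ne_zero hg.1 hh.1, ?_⟩⟩
      rw [divOf_mul c hdim hg.1 hh.1, ← hg.2, ← hh.2]
    | neg D _ hD =>
      obtain ⟨g, hg⟩ := hD
      rw [isDivOf_iff c hdim] at hg
      refine ⟨g⁻¹, (isDivOf_iff c hdim).mpr ⟨inv_ne_zero hg.1, ?_⟩⟩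
      rw [divOf_inv c hdim, ← hg.2]
  · intro h
    exact AddSubgroup.subset_closure h

theorem cong1_mul {m : LocSym.Pt c →₀ ℕ} {g h : X.functionField} (hg : Cong1 m g)
    (hh : Cong1 m h) : Cong1 m (g * h) :=
  fun x hx => cong1At_mul c hdim hx (hg x hx) (hh x hx)

theorem cong1_inv {m : LocSym.Pt c →₀ ℕ} {g : X.functionField} (hg : Cong1 m g) :
    Cong1 m g⁻¹ :=
  fun x hx => cong1At_inv c hdim hx (hg x hx)

theorem mem_principalMod_iff (m : LocSym.Pt c →₀ ℕ) (D : divAway c m) :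
    D ∈ principalMod c m ↔
      ∃ g : X.functionField, IsDivOf c (D : LocSym.Pt c →₀ ℤ) g ∧ Cong1 m g := by
  constructor
  · intro h
    unfold principalMod at h
    induction h using AddSubgroup.closure_induction with
    | mem D hD => exact hD
    | zero =>
      exact ⟨1, (isDivOf_iff c hdim).mpr ⟨one_ne_zero, (divOf_one c hdim).symm⟩,
        fun x _ => Or.inl rfl⟩
    | add D E _ _ hD hE =>
      obtain ⟨g, hg, hgc⟩ := hD
      obtain ⟨h, hh, hhc⟩ := hE
      rw [isDivOf_iff c hdim] at hg hh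
      refine ⟨g * h, (isDivOf_iff c hdim).mpr ⟨mul_ne_zero hg.1 hh.1, ?_⟩,
        cong1_mul c hdim hgc hhc⟩
      rw [divOf_mul c hdim hg.1 hh.1, ← hg.2, ← hh.2]
      rfl
    | neg D _ hD =>
      obtain ⟨g, hg, hgc⟩ := hD
      rw [isDivOf_iff c hdim] at hg
      refine ⟨g⁻¹, (isDivOf_iff c hdim).mpr ⟨inv_ne_zero hg.1, ?_⟩, cong1_inv c hdim hgc⟩
      rw [divOf_inv c hdim, ← hg.2]
      rfl
  · intro h
    exact AddSubgroup.subset_closure h

theorem exists_ord_eq (S : Finset (LocSym.Pt c)) (D : LocSym.Pt c →₀ ℤ) :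
    ∃ g : X.functionField, g ≠ 0 ∧ ∀ x ∈ S, x.ord g = D x := by
  rcases S.eq_empty_or_nonempty with rfl | ⟨x₀, hx₀⟩
  · exact ⟨1, one_ne_zero, fun x hx => absurd hx (Finset.notMem_empty x)⟩
  obtain ⟨z, hz⟩ := weak_approx_eq c hdim S (fun _ => 0) (fun x => D x)
  simp only [sub_zero] at hz
  exact ⟨z, (hz x₀ hx₀).1, fun x hx => (hz x hx).2⟩

theorem picModToPic_mk (m : LocSym.Pt c →₀ ℕ) (D : divAway c m) :
    picModToPic c m (QuotientAddGroup.mk D) = QuotientAddGroup.mk (D : LocSym.Pt c →₀ ℤ) := rfl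

theorem picModToPic_surjective (m : LocSym.Pt c →₀ ℕ) :
    Function.Surjective (picModToPic c m) := by
  intro y
  obtain ⟨D, rfl⟩ := QuotientAddGroup.mk_surjective y
  obtain ⟨g, hg0, hg⟩ := exists_ord_eq c hdim m.support D
  have hmem : D - divOf c hdim g ∈ divAway c m := by
    intro x hx
    rw [Finsupp.sub_apply, divOf_apply, hg x hx, sub_self]
  refine ⟨QuotientAddGroup.mk ⟨D - divOf c hdim g, hmem⟩, ?_⟩
  rw [picModToPic_mk c hdim]
  rw [QuotientAddGroup.eq]
  rw [mem_principal_iff c hdim]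
  refine ⟨g, (isDivOf_iff c hdim).mpr ⟨hg0, ?_⟩⟩
  show -(D - divOf c hdim g) + D = divOf c hdim g
  abel

theorem divOf_mem_divAway {m : LocSym.Pt c →₀ ℕ} {g : X.functionField} {v : LocSym.Pt c → kˣ}
    (hv : ∀ x ∈ m.support, HasValueAt x g (v x : k)) : divOf c hdim g ∈ divAway c m := by
  intro x hx
  rw [divOf_apply]
  exact ord_eq_zero_of_hasValueAt c hdim (hv x hx) (v x).ne_zero

theorem mk_eq_zero_iff_of_values {m : LocSym.Pt c →₀ ℕ} (hm1 : ∀ x ∈ m.support, m x = 1)
    {g : X.functionField} (hg0 : g ≠ 0) {v : LocSym.Pt c → kˣ}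
    (hv : ∀ x ∈ m.support, HasValueAt x g (v x : k)) (D : divAway c m)
    (hD : (D : LocSym.Pt c →₀ ℤ) = divOf c hdim g) :
    (QuotientAddGroup.mk D : PicMod c m) = 0 ↔ ∃ a : kˣ, ∀ x ∈ m.support, v x = a := by
  rw [QuotientAddGroup.eq_zero_iff, mem_principalMod_iff c hdim]
  constructor
  · rintro ⟨h, hh, hhc⟩
    rw [isDivOf_iff c hdim] at hh
    have hord : ∀ x : LocSym.Pt c, x.ord (g / h) = 0 := by
      intro x
      rw [ord_div c hdim x hg0 hh.1, ← divOf_apply c hdim g, ← divOf_apply c hdim h, ← hD, ← hh.2,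
        sub_self]
    obtain ⟨a, ha⟩ := eq_const_of_ord_nonneg c hdim (g / h) (fun x => (hord x).ge)
    have ha0 : a ≠ 0 := by
      rintro rfl
      rw [map_zero] at ha
      exact div_ne_zero hg0 hh.1 ha
    refine ⟨Units.mk0 a ha0, fun x hx => ?_⟩
    have h1 : HasValueAt x h 1 := (cong1At_iff_hasValueAt c hdim (hm1 x hx) h).mp (hhc x hx)
    have h2 : HasValueAt x (LocSym.constFun c a * h) (a * 1) :=
      hasValueAt_mul c hdim (hasValueAt_const c hdim x a) h1
    have e : LocSym.constFun c a * h = g := by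
      rw [← ha, div_mul_cancel₀ _ hh.1]
    rw [e, mul_one] at h2
    exact Units.ext (hasValueAt_unique c hdim (hv x hx) h2)
  · rintro ⟨a, ha⟩
    have hA0 : LocSym.constFun c (a : k) ≠ 0 := (map_ne_zero (LocSym.constFun c)).mpr a.ne_zero
    refine ⟨g * (LocSym.constFun c (a : k))⁻¹,
      (isDivOf_iff c hdim).mpr ⟨mul_ne_zero hg0 (inv_ne_zero hA0), ?_⟩, ?_⟩
    · rw [divOf_mul c hdim hg0 (inv_ne_zero hA0), divOf_inv c hdim, divOf_const c hdim, neg_zero,
        add_zero, hD]
    · intro x hx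
      rw [cong1At_iff_hasValueAt c hdim (hm1 x hx)]
      have h1 := hv x hx
      rw [ha x hx] at h1
      have h2 := hasValueAt_mul c hdim h1
        (hasValueAt_inv c hdim (hasValueAt_const c hdim x (a : k)) a.ne_zero)
      rwa [mul_inv_cancel₀ a.ne_zero] at h2

end Div

end Groth.Agent.Lib.Helper10.CurveBr
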