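import Mathlib
import Groth.Agent.Lib.Helper10.CurveBr12

set_option autoImplicit false
set_option linter.style.haveILetI false
set_option linter.unusedSectionVars false

namespace Groth.Agent.Lib.Helper10.CurveBr

universe v u

open CategoryTheory AlgebraicGeometry TopologicalSpace LocSym W4c1etcurveeff2

section Phi

variable {k : Type u} [Field k] [IsAlgClosed k] {X : Scheme.{u}} [IsIntegral X]
  (c : X ⟶ Spec (CommRingCat.of k)) [IsProper c] [Smooth c] (hdim : topologicalKrullDim X = 1)
  (m : LocSym.Pt c →₀ ℕ)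

open Classical in
/-- extend a function on the support by `1` -/
noncomputable def ext1 (v : ↥m.support → kˣ) : LocSym.Pt c → kˣ :=
  fun x => if h : x ∈ m.support then v ⟨x, h⟩ else 1

theorem ext1_apply (v : ↥m.support → kˣ) (x : LocSym.Pt c) (hx : x ∈ m.support) :
    ext1 c m v x = v ⟨x, hx⟩ := by
  unfold ext1
  rw [dif_pos hx]

theorem ext1_mul (v w : ↥m.support → kˣ) (x : LocSym.Pt c) :
    ext1 c m (v * w) x = ext1 c m v x * ext1 c m w x := by
  unfold ext1
  split_ifs
  · rfl
  · rw [one_mul]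

/-- a function with the given values on the support -/
noncomputable def gOf (v : ↥m.support → kˣ) : X.functionField :=
  Classical.choose (exists_hasValueAt c hdim m.support (ext1 c m v))

theorem gOf_ne_zero (v : ↥m.support → kˣ) : gOf c hdim m v ≠ 0 :=
  (Classical.choose_spec (exists_hasValueAt c hdim m.support (ext1 c m v))).1

theorem gOf_spec (v : ↥m.support → kˣ) :
    ∀ x ∈ m.support, HasValueAt x (gOf c hdim m v) (ext1 c m v x : k) :=
  (Classical.choose_spec (exists_hasValueAt c hdim m.support (ext1 c m v))).2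

/-- the class in the generalised Picard group attached to a family of values -/
noncomputable def phi (v : ↥m.support → kˣ) : PicMod c m :=
  QuotientAddGroup.mk ⟨divOf c hdim (gOf c hdim m v), divOf_mem_divAway c hdim (gOf_spec c hdim m v)⟩

include hdim

theorem mk_eq_phi (hm1 : ∀ x ∈ m.support, m x = 1) {g : X.functionField} (hg0 : g ≠ 0)
    {v : ↥m.support → kˣ} (hv : ∀ x ∈ m.support, HasValueAt x g (ext1 c m v x : k))
    (D : divAway c m) (hD : (D : LocSym.Pt c →₀ ℤ) = divOf c hdim g) :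
    (QuotientAddGroup.mk D : PicMod c m) = phi c hdim m v := by
  unfold phi
  rw [QuotientAddGroup.eq, mem_principalMod_iff c hdim]
  have h0 := gOf_ne_zero c hdim m v
  refine ⟨g⁻¹ * gOf c hdim m v, (isDivOf_iff c hdim).mpr ⟨mul_ne_zero (inv_ne_zero hg0) h0, ?_⟩, ?_⟩
  · rw [divOf_mul c hdim (inv_ne_zero hg0) h0, divOf_inv c hdim, ← hD]
    rfl
  · intro x hx
    rw [cong1At_iff_hasValueAt c hdim (hm1 x hx)]
    have h1 := hasValueAt_mul c hdim (hasValueAt_inv c hdim (hv x hx) (ext1 c m v x).ne_zero)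
      (gOf_spec c hdim m v x hx)
    rwa [inv_mul_cancel₀ (ext1 c m v x).ne_zero] at h1

theorem phi_mul (hm1 : ∀ x ∈ m.support, m x = 1) (v w : ↥m.support → kˣ) :
    phi c hdim m (v * w) = phi c hdim m v + phi c hdim m w := by
  have h0v := gOf_ne_zero c hdim m v
  have h0w := gOf_ne_zero c hdim m w
  symm
  have := mk_eq_phi c hdim m hm1 (g := gOf c hdim m v * gOf c hdim m w) (mul_ne_zero h0v h0w)
    (v := v * w) (fun x hx => by
      rw [ext1_mul, Units.val_mul]
      exact hasValueAt_mul c hdim (gOf_spec c hdim m v x hx) (gOf_spec c hdim m w x hx))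
    (⟨divOf c hdim (gOf c hdim m v), divOf_mem_divAway c hdim (gOf_spec c hdim m v)⟩ +
      ⟨divOf c hdim (gOf c hdim m w), divOf_mem_divAway c hdim (gOf_spec c hdim m w)⟩)
    (by rw [divOf_mul c hdim h0v h0w]; rfl)
  rw [← this]
  rfl

/-- `phi` as a homomorphism -/
noncomputable def phiHom (hm1 : ∀ x ∈ m.support, m x = 1) :
    (↥m.support → kˣ) →* Multiplicative (PicMod c m) :=
  MonoidHom.mk' (fun v => Multiplicative.ofAdd (phi c hdim m v)) (fun v w => by
    rw [phi_mul c hdim m hm1]
    rfl)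

theorem phi_eq_zero_iff (hm1 : ∀ x ∈ m.support, m x = 1) (v : ↥m.support → kˣ) :
    phi c hdim m v = 0 ↔ ∃ a : kˣ, ∀ x : ↥m.support, v x = a := by
  unfold phi
  rw [mk_eq_zero_iff_of_values c hdim hm1 (gOf_ne_zero c hdim m v) (gOf_spec c hdim m v) _ rfl]
  constructor
  · rintro ⟨a, ha⟩
    exact ⟨a, fun x => by rw [← ha x.1 x.2, ext1_apply c m v x.1 x.2]⟩
  · rintro ⟨a, ha⟩
    exact ⟨a, fun x hx => by rw [ext1_apply c m v x hx, ha]⟩

theorem picModToPic_phi (v : ↥m.support → kˣ) : picModToPic c m (phi c hdim m v) = 0 := by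
  unfold phi
  rw [picModToPic_mk c hdim, QuotientAddGroup.eq_zero_iff, mem_principal_iff c hdim]
  exact ⟨_, isDivOf_divOf c hdim (gOf_ne_zero c hdim m v)⟩

theorem exists_phi_eq (hm1 : ∀ x ∈ m.support, m x = 1) (y : PicMod c m)
    (hy : picModToPic c m y = 0) : ∃ v : ↥m.support → kˣ, y = phi c hdim m v := by
  obtain ⟨D, rfl⟩ := QuotientAddGroup.mk_surjective y
  rw [picModToPic_mk c hdim, QuotientAddGroup.eq_zero_iff, mem_principal_iff c hdim] at hy
  obtain ⟨g, hg⟩ := hy
  have hg' := (isDivOf_iff c hdim).mp hg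
  have hex : ∀ x : ↥m.support, ∃ a : kˣ, HasValueAt x.1 g (a : k) := by
    intro x
    have hord : x.1.ord g = 0 := by
      rw [← divOf_apply c hdim g, ← hg'.2]
      exact D.2 x.1 x.2
    exact exists_value_unit c hdim x.1 hg'.1 hord
  choose v hv using hex
  refine ⟨v, mk_eq_phi c hdim m hm1 hg'.1 (fun x hx => ?_) D hg'.2⟩
  rw [ext1_apply c m v x hx]
  exact hv ⟨x, hx⟩

end Phi

end Groth.Agent.Lib.Helper10.CurveBr
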