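import Mathlib
import Groth.Agent.Lib.Helper10.CurveBr13

set_option autoImplicit false
set_option linter.style.haveILetI false
set_option linter.unusedSectionVars false

namespace Groth.Agent.Lib.Helper10.CurveBr

universe v u

open CategoryTheory AlgebraicGeometry TopologicalSpace LocSym W4c1etcurveeff2

section Count

variable {k : Type u} [Field k] [IsAlgClosed k] {X : Scheme.{u}} [IsIntegral X]
  (c : X ⟶ Spec (CommRingCat.of k)) [IsProper c] [Smooth c] (hdim : topologicalKrullDim X = 1)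
  (m : LocSym.Pt c →₀ ℕ)

theorem exists_unit_pow_eq (a : kˣ) {n : ℕ} (hn : 0 < n) : ∃ b : kˣ, b ^ n = a := by
  obtain ⟨z, hz⟩ := IsAlgClosed.exists_pow_nat_eq (a : k) hn
  have hz0 : z ≠ 0 := by
    rintro rfl
    rw [zero_pow hn.ne'] at hz
    exact a.ne_zero hz.symm
  refine ⟨Units.mk0 z hz0, Units.ext ?_⟩
  rw [Units.val_pow_eq_pow_val, Units.val_mk0, hz]

/-- the homomorphism from families of roots of unity -/
noncomputable def psiHom (hm1 : ∀ x ∈ m.support, m x = 1) (n : ℕ) :
    (↥m.support → rootsOfUnity n k) →* Multiplicative (PicMod c m) :=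
  (phiHom c hdim m hm1).comp (MonoidHom.compLeft (rootsOfUnity n k).subtype ↥m.support)

theorem psiHom_apply (hm1 : ∀ x ∈ m.support, m x = 1) (n : ℕ)
    (w : ↥m.support → rootsOfUnity n k) :
    psiHom c hdim m hm1 n w = Multiplicative.ofAdd (phi c hdim m (fun x => (w x : kˣ))) := rfl

include hdim

theorem phi_pow (hm1 : ∀ x ∈ m.support, m x = 1) (v : ↥m.support → kˣ) (n : ℕ) :
    phi c hdim m (v ^ n) = n • phi c hdim m v := by
  have := map_pow (phiHom c hdim m hm1) v n
  exact congrArg Multiplicative.toAdd this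

theorem mem_range_psiHom_iff (hm1 : ∀ x ∈ m.support, m x = 1) {n : ℕ} (hn : 1 ≤ n)
    (y : PicMod c m) :
    Multiplicative.ofAdd y ∈ (psiHom c hdim m hm1 n).range ↔
      n • y = 0 ∧ picModToPic c m y = 0 := by
  constructor
  · rintro ⟨w, hw⟩
    rw [psiHom_apply] at hw
    have hy : y = phi c hdim m (fun x => (w x : kˣ)) := (Multiplicative.ofAdd.injective hw).symm
    subst hy
    refine ⟨?_, picModToPic_phi c hdim m _⟩
    rw [← phi_pow c hdim m hm1, phi_eq_zero_iff c hdim m hm1]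
    refine ⟨1, fun x => ?_⟩
    rw [Pi.pow_apply]
    exact (mem_rootsOfUnity _ _).mp (w x).2
  · rintro ⟨h1, h2⟩
    obtain ⟨v, rfl⟩ := exists_phi_eq c hdim m hm1 y h2
    rw [← phi_pow c hdim m hm1, phi_eq_zero_iff c hdim m hm1] at h1
    obtain ⟨a, ha⟩ := h1
    obtain ⟨b, hb⟩ := exists_unit_pow_eq a (n := n) (by omega)
    have hmem : ∀ x : ↥m.support, v x * b⁻¹ ∈ rootsOfUnity n k := by
      intro x
      rw [mem_rootsOfUnity, mul_pow, inv_pow, hb, ← ha x, Pi.pow_apply, mul_inv_cancel]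
    refine ⟨fun x => ⟨v x * b⁻¹, hmem x⟩, ?_⟩
    rw [psiHom_apply]
    congr 1
    have e : (fun x : ↥m.support => v x * b⁻¹) = v * (fun _ => b⁻¹) := rfl
    show phi c hdim m (fun x : ↥m.support => v x * b⁻¹) = _
    rw [e, phi_mul c hdim m hm1]
    have : phi c hdim m (fun _ : ↥m.support => b⁻¹) = 0 := by
      rw [phi_eq_zero_iff c hdim m hm1]
      exact ⟨b⁻¹, fun _ => rfl⟩
    rw [this, add_zero]

theorem mem_ker_psiHom_iff (hm1 : ∀ x ∈ m.support, m x = 1) (n : ℕ)
    (w : ↥m.support → rootsOfUnity n k) :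
    w ∈ (psiHom c hdim m hm1 n).ker ↔ ∀ x y : ↥m.support, w x = w y := by
  rw [MonoidHom.mem_ker, psiHom_apply]
  have : (Multiplicative.ofAdd (phi c hdim m (fun x => (w x : kˣ))) = 1) ↔
      phi c hdim m (fun x => (w x : kˣ)) = 0 := Iff.rfl
  rw [this, phi_eq_zero_iff c hdim m hm1]
  constructor
  · rintro ⟨a, ha⟩ x y
    exact Subtype.ext ((ha x).trans (ha y).symm)
  · intro h
    by_cases hne : Nonempty ↥m.support
    · obtain ⟨x₀⟩ := hne
      exact ⟨w x₀, fun x => by rw [h x x₀]⟩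
    · exact ⟨1, fun x => absurd ⟨x⟩ hne⟩

theorem card_torsion_ker (hm1 : ∀ x ∈ m.support, m x = 1) {n : ℕ} (hn : 1 ≤ n)
    (hnk : (n : k) ≠ 0) :
    Nat.card {x : PicMod c m // n • x = 0 ∧ picModToPic c m x = 0} =
      n ^ (m.support.card - 1) := by
  classical
  haveI : NeZero (n : k) := ⟨hnk⟩
  haveI : NeZero n := ⟨by omega⟩
  have hμ : Nat.card (rootsOfUnity n k) = n := HasEnoughRootsOfUnity.natCard_rootsOfUnity k n
  haveI : Finite (rootsOfUnity n k) := Nat.finite_of_card_ne_zero (by rw [hμ]; omega)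
  set Ψ := psiHom c hdim m hm1 n with hΨ
  -- the set is the range
  have h1 : Nat.card {x : PicMod c m // n • x = 0 ∧ picModToPic c m x = 0} = Nat.card Ψ.range := by
    apply Nat.card_congr
    refine Equiv.subtypeEquiv Multiplicative.ofAdd (fun y => ?_)
    exact (mem_range_psiHom_iff c hdim m hm1 hn y).symm
  have h2 : Nat.card Ψ.ker * Nat.card Ψ.range = n ^ m.support.card := by
    rw [← Subgroup.index_ker, Subgroup.card_mul_index, Nat.card_fun, hμ, Nat.card_eq_fintype_card,
      Fintype.card_coe]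
  rw [h1]
  rcases Nat.eq_zero_or_pos m.support.card with h0 | hpos
  · rw [h0] at h2 ⊢
    simp only [pow_zero] at h2 ⊢
    exact Nat.eq_one_of_mul_eq_one_left h2
  · obtain ⟨x₀, hx₀⟩ := Finset.card_pos.mp hpos
    have h3 : Nat.card Ψ.ker = n := by
      refine Eq.trans ?_ hμ
      apply Nat.card_congr
      refine Equiv.ofBijective (fun w => w.1 ⟨x₀, hx₀⟩) ⟨?_, ?_⟩
      · intro w w' hww
        apply Subtype.ext
        funext x
        have e1 := (mem_ker_psiHom_iff c hdim m hm1 n w.1).mp w.2 x ⟨x₀, hx₀⟩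
        have e2 := (mem_ker_psiHom_iff c hdim m hm1 n w'.1).mp w'.2 x ⟨x₀, hx₀⟩
        rw [e1, e2]
        exact hww
      · intro a
        refine ⟨⟨fun _ => a, ?_⟩, rfl⟩
        rw [mem_ker_psiHom_iff c hdim m hm1 n]
        intro x y
        rfl
    rw [h3] at h2
    have e : n ^ m.support.card = n * n ^ (m.support.card - 1) := by
      rw [← pow_succ']
      congr 1
      omega
    rw [e] at h2
    exact Nat.eq_of_mul_eq_mul_left (by omega) h2

end Count

end Groth.Agent.Lib.Helper10.CurveBr
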