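import Groth.Agent.Lib.Helper10.FunFld26
import Groth.Agent.Lib.Helper10.FunFld23
import Groth.Prelude.Def_W4c6gradedringsgwSect

/-!
Function fields of one variable (helper10), part 27: the residue constant at a place over an
algebraically closed constant field, and the leading-coefficient map on the section ring.
-/

set_option autoImplicit false
set_option linter.unusedSectionVars false
set_option linter.style.haveILetI false

universe u v w

open IntermediateField FunFld Polynomial

namespace Groth.Agent.Lib.helper10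

namespace FF

open RD

variable {k : Type u} {K : Type v} [Field k] [Field K] [Algebra k K]

section cst

variable (hK : IsFunctionField k K) [IsAlgClosed k]

/-- The residue constant of `z` at `P` (zero when `z` is not integral at `P`). -/
noncomputable def Place.cst (P : Place k K) (z : K) : k :=
  if hz : P.1 z ≤ 1 then (Place.exists_const_sub_lt hK P hz).choose else 0

theorem Place.cst_spec (P : Place k K) {z : K} (hz : P.1 z ≤ 1) :
    P.1 (z - algebraMap k K (Place.cst hK P z)) < 1 := by
  unfold Place.cst
  rw [dif_pos hz]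
  exact (Place.exists_const_sub_lt hK P hz).choose_spec

theorem Place.cst_unique (P : Place k K) {z : K} (hz : P.1 z ≤ 1) (c : k)
    (h : P.1 (z - algebraMap k K c) < 1) : Place.cst hK P z = c := by
  by_contra hne
  have hne' : Place.cst hK P z - c ≠ 0 := sub_ne_zero.mpr hne
  have h1 := trivOn_of_le_one P.2.1 _ hne'
  have h2 : algebraMap k K (Place.cst hK P z - c) =
      (z - algebraMap k K c) - (z - algebraMap k K (Place.cst hK P z)) := by
    rw [map_sub]; ring
  rw [h2] at h1
  have h3 := Valuation.map_sub_le (v := P.1) h.le (Place.cst_spec hK P hz).le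
  have h4 : P.1 ((z - algebraMap k K c) - (z - algebraMap k K (Place.cst hK P z))) < 1 :=
    lt_of_le_of_lt (Valuation.map_sub P.1 _ _) (max_lt h (Place.cst_spec hK P hz))
  rw [h1] at h4
  exact lt_irrefl _ h4

theorem Place.cst_add (P : Place k K) {z w : K} (hz : P.1 z ≤ 1) (hw : P.1 w ≤ 1) :
    Place.cst hK P (z + w) = Place.cst hK P z + Place.cst hK P w := by
  apply Place.cst_unique hK P (le_trans (Valuation.map_add P.1 _ _) (max_le hz hw))
  have : z + w - algebraMap k K (Place.cst hK P z + Place.cst hK P w) =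
      (z - algebraMap k K (Place.cst hK P z)) + (w - algebraMap k K (Place.cst hK P w)) := by
    rw [map_add]; ring
  rw [this]
  exact lt_of_le_of_lt (Valuation.map_add P.1 _ _)
    (max_lt (Place.cst_spec hK P hz) (Place.cst_spec hK P hw))

theorem Place.cst_mul (P : Place k K) {z w : K} (hz : P.1 z ≤ 1) (hw : P.1 w ≤ 1) :
    Place.cst hK P (z * w) = Place.cst hK P z * Place.cst hK P w := by
  have hzw : P.1 (z * w) ≤ 1 := by
    rw [Valuation.map_mul]; exact mul_le_one' hz hw
  apply Place.cst_unique hK P hzw
  have : z * w - algebraMap k K (Place.cst hK P z * Place.cst hK P w) =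
      (z - algebraMap k K (Place.cst hK P z)) * w +
        algebraMap k K (Place.cst hK P z) * (w - algebraMap k K (Place.cst hK P w)) := by
    rw [map_mul]; ring
  rw [this]
  refine lt_of_le_of_lt (Valuation.map_add P.1 _ _) (max_lt ?_ ?_)
  · rw [Valuation.map_mul]
    calc P.1 (z - algebraMap k K (Place.cst hK P z)) * P.1 w
        ≤ P.1 (z - algebraMap k K (Place.cst hK P z)) * 1 := by gcongr
      _ < 1 := by rw [mul_one]; exact Place.cst_spec hK P hz
  · rw [Valuation.map_mul]
    calc P.1 (algebraMap k K (Place.cst hK P z)) * P.1 (w - algebraMap k K (Place.cst hK P w))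
        ≤ 1 * P.1 (w - algebraMap k K (Place.cst hK P w)) := by
          gcongr
          exact P.2.1 _
      _ < 1 := by rw [one_mul]; exact Place.cst_spec hK P hw

theorem Place.cst_algebraMap (P : Place k K) (c : k) :
    Place.cst hK P (algebraMap k K c) = c := by
  apply Place.cst_unique hK P (P.2.1 c)
  rw [sub_self, Valuation.map_zero]
  exact zero_lt_one

theorem Place.cst_eq_zero_iff (P : Place k K) {z : K} (hz : P.1 z ≤ 1) :
    Place.cst hK P z = 0 ↔ P.1 z < 1 := by
  constructor
  · intro h
    have := Place.cst_spec hK P hz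
    rwa [h, map_zero, sub_zero] at this
  · intro h
    apply Place.cst_unique hK P hz
    rwa [map_zero, sub_zero]

theorem Place.cst_zero (P : Place k K) : Place.cst hK P 0 = 0 := by
  rw [Place.cst_eq_zero_iff hK P (by rw [Valuation.map_zero]; exact zero_le_one),
    Valuation.map_zero]
  exact zero_lt_one

theorem Place.cst_one (P : Place k K) : Place.cst hK P 1 = 1 := by
  have := Place.cst_algebraMap hK P 1
  rwa [map_one] at this

theorem Place.cst_sum (P : Place k K) {ι : Type*} (s : Finset ι) (f : ι → K)
    (hf : ∀ i ∈ s, P.1 (f i) ≤ 1) :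
    Place.cst hK P (∑ i ∈ s, f i) = ∑ i ∈ s, Place.cst hK P (f i) := by
  classical
  induction s using Finset.induction_on with
  | empty => simp [Place.cst_zero]
  | insert a s ha ih =>
    rw [Finset.sum_insert ha, Finset.sum_insert ha,
      Place.cst_add hK P (hf a (Finset.mem_insert_self a s))
        (Valuation.map_sum_le P.1 (fun i hi => hf i (Finset.mem_insert_of_mem hi))),
      ih (fun i hi => hf i (Finset.mem_insert_of_mem hi))]

end cst

section lead

variable (hK : IsFunctionField k K) [IsAlgClosed k]

open W4c6gradedringsgw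

theorem smul_single_one (P : Place k K) (n : ℤ) :
    n • (Finsupp.single P 1 : Divisor k K) = Finsupp.single P n := by
  rw [Finsupp.smul_single, smul_eq_mul, mul_one]

theorem mem_sectRing_iff (P : Place k K) (p : K[X]) :
    p ∈ sectRing (Finsupp.single P 1 : Divisor k K) ↔
      ∀ n : ℕ, p.coeff n ∈ L (Finsupp.single P (n : ℤ) : Divisor k K) := by
  constructor
  · intro h n
    have := h n
    rwa [smul_single_one] at this
  · intro h n
    rw [smul_single_one]
    exact h n

theorem val_pow_unif (P : Place k K) {u : K} (hu : P.1 u = WithZero.exp (-1 : ℤ)) (n : ℕ) :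
    P.1 (u ^ n) = WithZero.exp (-(n : ℤ)) := by
  rw [Valuation.map_pow, hu, ← WithZero.exp_nsmul]
  congr 1
  simp

theorem val_coeff_mul_le (P : Place k K) {u : K} (hu : P.1 u = WithZero.exp (-1 : ℤ))
    {f : K} {n : ℕ} (hf : f ∈ L (Finsupp.single P (n : ℤ) : Divisor k K)) :
    P.1 (f * u ^ n) ≤ 1 := by
  have h1 := hf P
  rw [Finsupp.single_eq_same] at h1
  rw [Valuation.map_mul, val_pow_unif P hu]
  calc P.1 f * WithZero.exp (-(n : ℤ)) ≤ WithZero.exp (n : ℤ) * WithZero.exp (-(n : ℤ)) := by
        gcongr
    _ = 1 := by rw [← WithZero.exp_add, add_neg_cancel, WithZero.exp_zero]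

theorem val_coeff_mul_lt_iff (P : Place k K) {u : K} (hu : P.1 u = WithZero.exp (-1 : ℤ))
    {f : K} {n : ℕ} (hf : f ∈ L (Finsupp.single P (n : ℤ) : Divisor k K)) :
    P.1 (f * u ^ n) < 1 ↔ f ∈ L (Finsupp.single P ((n : ℤ) - 1) : Divisor k K) := by
  classical
  rw [Valuation.map_mul, val_pow_unif P hu]
  have hexp : (WithZero.exp (-(n : ℤ)) : WithZero (Multiplicative ℤ)) ≠ 0 := WithZero.exp_ne_zero
  have key : P.1 f * WithZero.exp (-(n : ℤ)) < 1 ↔ P.1 f < WithZero.exp (n : ℤ) := by
    rw [← mul_lt_mul_iff_of_pos_right (WithZero.exp_pos (a := (n : ℤ))), mul_assoc,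
      ← WithZero.exp_add, neg_add_cancel, WithZero.exp_zero, mul_one, one_mul]
  rw [key, lt_exp_iff_le_exp_sub_one]
  constructor
  · intro h Q
    by_cases hQ : Q = P
    · subst hQ
      rw [Finsupp.single_eq_same]
      exact h
    · have := hf Q
      rw [Finsupp.single_eq_of_ne hQ] at this ⊢
      exact this
  · intro h
    have := h P
    rwa [Finsupp.single_eq_same] at this

/-- Coefficientwise leading-term polynomial. -/
noncomputable def leadPoly (P : Place k K) (u : K) (p : K[X]) : k[X] :=
  ⟨AddMonoidAlgebra.ofCoeff (Finsupp.onFinset p.support (fun n => Place.cst hK P (p.coeff n * u ^ n)) (by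
    intro n hn
    rw [Polynomial.mem_support_iff]
    intro h0
    apply hn
    rw [h0, zero_mul, Place.cst_zero]))⟩

theorem coeff_leadPoly (P : Place k K) (u : K) (p : K[X]) (n : ℕ) :
    (leadPoly hK P u p).coeff n = Place.cst hK P (p.coeff n * u ^ n) := by
  unfold leadPoly
  rw [Polynomial.coeff_ofFinsupp, AddMonoidAlgebra.coeff_ofCoeff, Finsupp.onFinset_apply]

/-- The leading-coefficient homomorphism from the section ring of `P` to `k[X]`. -/
noncomputable def leadHom (P : Place k K) {u : K} (hu : P.1 u = WithZero.exp (-1 : ℤ)) :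
    ↥(sectRing (Finsupp.single P 1 : Divisor k K)) →ₐ[k] k[X] where
  toFun p := leadPoly hK P u p.1
  map_one' := by
    ext n
    rw [coeff_leadPoly]
    show Place.cst hK P ((1 : K[X]).coeff n * u ^ n) = _
    rw [Polynomial.coeff_one, Polynomial.coeff_one]
    split_ifs with h
    · subst h
      rw [pow_zero, mul_one, Place.cst_one]
    · rw [zero_mul, Place.cst_zero]
  map_mul' p q := by
    ext n
    rw [coeff_leadPoly]
    show Place.cst hK P ((p.1 * q.1).coeff n * u ^ n) = _
    have hp := (mem_sectRing_iff P p.1).1 p.2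
    have hq := (mem_sectRing_iff P q.1).1 q.2
    rw [Polynomial.coeff_mul, Polynomial.coeff_mul, Finset.sum_mul]
    have hterm : ∀ x ∈ Finset.HasAntidiagonal.antidiagonal n,
        p.1.coeff x.1 * q.1.coeff x.2 * u ^ n =
          (p.1.coeff x.1 * u ^ x.1) * (q.1.coeff x.2 * u ^ x.2) := by
      intro x hx
      rw [← Finset.HasAntidiagonal.mem_antidiagonal.mp hx, pow_add]
      ring
    rw [Finset.sum_congr rfl hterm, Place.cst_sum hK P]
    · refine Finset.sum_congr rfl fun x _ => ?_
      rw [Place.cst_mul hK P (val_coeff_mul_le P hu (hp x.1)) (val_coeff_mul_le P hu (hq x.2)),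
        coeff_leadPoly, coeff_leadPoly]
    · intro x _
      rw [Valuation.map_mul]
      exact mul_le_one' (val_coeff_mul_le P hu (hp x.1)) (val_coeff_mul_le P hu (hq x.2))
  map_zero' := by
    ext n
    rw [coeff_leadPoly]
    show Place.cst hK P ((0 : K[X]).coeff n * u ^ n) = _
    rw [Polynomial.coeff_zero, zero_mul, Place.cst_zero, Polynomial.coeff_zero]
  map_add' p q := by
    ext n
    rw [coeff_leadPoly]
    show Place.cst hK P ((p.1 + q.1).coeff n * u ^ n) = _
    have hp := (mem_sectRing_iff P p.1).1 p.2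
    have hq := (mem_sectRing_iff P q.1).1 q.2
    rw [Polynomial.coeff_add, add_mul,
      Place.cst_add hK P (val_coeff_mul_le P hu (hp n)) (val_coeff_mul_le P hu (hq n)),
      Polynomial.coeff_add, coeff_leadPoly, coeff_leadPoly]
  commutes' c := by
    ext n
    rw [coeff_leadPoly]
    show Place.cst hK P ((algebraMap k K[X] c).coeff n * u ^ n) = _
    rw [Polynomial.algebraMap_apply, Polynomial.algebraMap_apply, Polynomial.coeff_C,
      Polynomial.coeff_C]
    split_ifs with h
    · subst h
      rw [pow_zero, mul_one, Place.cst_algebraMap, Algebra.algebraMap_self_apply]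
    · rw [zero_mul, Place.cst_zero]

theorem coeff_leadHom (P : Place k K) {u : K} (hu : P.1 u = WithZero.exp (-1 : ℤ))
    (p : ↥(sectRing (Finsupp.single P 1 : Divisor k K))) (n : ℕ) :
    (leadHom hK P hu p).coeff n = Place.cst hK P (p.1.coeff n * u ^ n) :=
  coeff_leadPoly hK P u p.1 n

include hK in
/-- In positive genus, `L(P) = k`. -/
theorem L_single_one_const (P : Place k K) (hg : 0 < genus k K) {a : K}
    (ha : a ∈ L (Finsupp.single P 1 : Divisor k K)) : ∃ c : k, algebraMap k K c = a := by
  classical
  have hdeg : Divisor.deg (Finsupp.single P 1 : Divisor k K) = 1 := by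
    rw [deg_single, Place.deg_eq_one hK P]
    rfl
  have h1 := ell_le_one_of_deg_one hK hg hdeg
  have hle : L (0 : Divisor k K) ≤ L (Finsupp.single P 1 : Divisor k K) := by
    apply L_mono
    intro Q
    by_cases hQ : Q = P
    · subst hQ; simp
    · simp [Finsupp.single_eq_of_ne hQ]
  haveI := finiteDimensional_L hK (Finsupp.single P 1 : Divisor k K)
  have heq : L (0 : Divisor k K) = L (Finsupp.single P 1 : Divisor k K) := by
    apply Submodule.eq_of_le_of_finrank_le hle
    have := ell_zero hK
    unfold ell at this h1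
    omega
  rw [← heq, L_zero hK, Submodule.one_eq_range, LinearMap.mem_range] at ha
  obtain ⟨c, hc⟩ := ha
  exact ⟨c, by rw [← hc, Algebra.linearMap_apply]⟩

/-- Kernel of the leading-coefficient map. -/
theorem leadHom_eq_zero_iff (P : Place k K) {u : K} (hu : P.1 u = WithZero.exp (-1 : ℤ))
    (p : ↥(sectRing (Finsupp.single P 1 : Divisor k K))) :
    leadHom hK P hu p = 0 ↔
      ∀ n : ℕ, p.1.coeff n ∈ L (Finsupp.single P ((n : ℤ) - 1) : Divisor k K) := by
  have hp := (mem_sectRing_iff P p.1).1 p.2
  constructor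
  · intro h n
    have h1 : (leadHom hK P hu p).coeff n = 0 := by rw [h, Polynomial.coeff_zero]
    rw [coeff_leadHom, Place.cst_eq_zero_iff hK P (val_coeff_mul_le P hu (hp n)),
      val_coeff_mul_lt_iff P hu (hp n)] at h1
    exact h1
  · intro h
    ext n
    rw [coeff_leadHom, Polynomial.coeff_zero,
      Place.cst_eq_zero_iff hK P (val_coeff_mul_le P hu (hp n)), val_coeff_mul_lt_iff P hu (hp n)]
    exact h n

include hK in
theorem L_single_neg_one (P : Place k K) {f : K}
    (hf : f ∈ L (Finsupp.single P ((0 : ℤ) - 1) : Divisor k K)) : f = 0 := by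
  classical
  by_contra hne
  have hle : (Finsupp.single P ((0 : ℤ) - 1) : Divisor k K) ≤ 0 := by
    intro Q
    by_cases hQ : Q = P
    · subst hQ; simp
    · simp [Finsupp.single_eq_of_ne hQ]
  have h0 := L_mono hle hf
  rw [L_zero hK, Submodule.one_eq_range, LinearMap.mem_range] at h0
  obtain ⟨c, hc⟩ := h0
  rw [Algebra.linearMap_apply] at hc
  have hc0 : c ≠ 0 := by
    rintro rfl
    exact hne (by rw [← hc, map_zero])
  have h1 := trivOn_of_le_one P.2.1 c hc0
  have h2 := hf P
  rw [Finsupp.single_eq_same, ← hc, h1, ← WithZero.exp_zero, WithZero.exp_le_exp] at h2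
  omega

/-- The kernel of the leading-coefficient map is generated by any nonzero element of degree
one (in positive genus). -/
theorem ker_leadHom (P : Place k K) {u : K} (hu : P.1 u = WithZero.exp (-1 : ℤ))
    (hg : 0 < genus k K)
    (t : ↥(sectRing (Finsupp.single P 1 : Divisor k K))) (a : K) (ha : a ≠ 0)
    (ht : (t : K[X]) = Polynomial.C a * Polynomial.X) :
    RingHom.ker (leadHom hK P hu).toRingHom = Ideal.span {t} := by
  classical
  have hta : a ∈ L (Finsupp.single P ((1 : ℕ) : ℤ) : Divisor k K) := by
    have := (mem_sectRing_iff P t.1).1 t.2 1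
    rwa [ht, Polynomial.coeff_C_mul, Polynomial.coeff_X_one, mul_one] at this
  rw [Nat.cast_one] at hta
  obtain ⟨c, hc⟩ := L_single_one_const hK P hg hta
  have hc0 : c ≠ 0 := by
    rintro rfl
    exact ha (by rw [← hc, map_zero])
  apply le_antisymm
  · intro p hp
    rw [RingHom.mem_ker] at hp
    have hp' := (leadHom_eq_zero_iff hK P hu p).1 hp
    have hp0 : p.1.coeff 0 = 0 := L_single_neg_one hK P (by simpa using hp' 0)
    rw [Ideal.mem_span_singleton']
    have hq : Polynomial.C (algebraMap k K c⁻¹) * Polynomial.divX p.1 ∈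
        sectRing (Finsupp.single P 1 : Divisor k K) := by
      rw [mem_sectRing_iff]
      intro n
      rw [Polynomial.coeff_C_mul, Polynomial.coeff_divX, ← Algebra.smul_def]
      apply Submodule.smul_mem
      have := hp' (n + 1)
      rwa [Nat.cast_add, Nat.cast_one, add_sub_cancel_right] at this
    refine ⟨⟨_, hq⟩, ?_⟩
    apply Subtype.ext
    show Polynomial.C (algebraMap k K c⁻¹) * Polynomial.divX p.1 * t.1 = p.1
    rw [ht, ← hc]
    have h1 : Polynomial.C (algebraMap k K c⁻¹) * Polynomial.divX p.1 *
        (Polynomial.C (algebraMap k K c) * Polynomial.X) =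
        Polynomial.C (algebraMap k K c⁻¹ * algebraMap k K c) * (Polynomial.divX p.1 * Polynomial.X) := by
      rw [Polynomial.C_mul]; ring
    rw [h1, ← map_mul, inv_mul_cancel₀ hc0, map_one, Polynomial.C_1, one_mul]
    have h2 := Polynomial.divX_mul_X_add p.1
    rw [hp0, Polynomial.C_0, add_zero] at h2
    exact h2
  · rw [Ideal.span_le, Set.singleton_subset_iff, SetLike.mem_coe, RingHom.mem_ker]
    show leadHom hK P hu t = 0
    rw [leadHom_eq_zero_iff]
    intro n
    rw [ht, Polynomial.coeff_C_mul, Polynomial.coeff_X, ← hc]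
    split_ifs with h
    · subst h
      rw [mul_one]
      intro Q
      by_cases hQ : Q = P
      · subst hQ
        rw [Finsupp.single_eq_same]
        simp only [Nat.cast_one, sub_self, WithZero.exp_zero]
        exact Q.2.1 c
      · rw [Finsupp.single_eq_of_ne hQ, WithZero.exp_zero]
        exact Q.2.1 c
    · rw [mul_zero]
      exact zero_mem _

include hK in
theorem mem_poleOrders_iff (P : Place k K) (n : ℕ) : n ∈ poleOrders P ↔ ¬ IsGap P n := by
  unfold poleOrders
  rw [Set.mem_ofPred_eq, smul_single_one, smul_single_one]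
  rcases ell_single_step hK P n with ⟨h1, h2⟩ | ⟨h1, h2⟩
  · constructor
    · intro h; omega
    · intro h; exact absurd h1 h
  · exact ⟨fun _ => h1, fun _ => h2⟩

theorem mem_poleOrders_of_coeff_leadHom (P : Place k K) {u : K}
    (hu : P.1 u = WithZero.exp (-1 : ℤ))
    (p : ↥(sectRing (Finsupp.single P 1 : Divisor k K))) (n : ℕ)
    (h : (leadHom hK P hu p).coeff n ≠ 0) : n ∈ poleOrders P := by
  rw [mem_poleOrders_iff hK]
  intro hgap
  apply h
  have hp := (mem_sectRing_iff P p.1).1 p.2
  rw [coeff_leadHom, Place.cst_eq_zero_iff hK P (val_coeff_mul_le P hu (hp n)),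
    val_coeff_mul_lt_iff P hu (hp n)]
  rw [IsGap] at hgap
  rw [← hgap]
  exact hp n

theorem monomial_mem_range_leadHom (P : Place k K) {u : K}
    (hu : P.1 u = WithZero.exp (-1 : ℤ)) (n : ℕ) (hn : n ∈ poleOrders P) :
    Polynomial.monomial n (1 : k) ∈ (leadHom hK P hu).range := by
  classical
  rw [mem_poleOrders_iff hK, not_isGap_iff] at hn
  obtain ⟨f, hf, hfv⟩ := hn
  have hmem : Polynomial.monomial n f ∈ sectRing (Finsupp.single P 1 : Divisor k K) := by
    rw [mem_sectRing_iff]
    intro m
    rw [Polynomial.coeff_monomial]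
    split_ifs with h
    · subst h; exact hf
    · exact zero_mem _
  have hv1 : P.1 (f * u ^ n) = 1 := by
    rw [Valuation.map_mul, val_pow_unif P hu, hfv, ← WithZero.exp_add, add_neg_cancel,
      WithZero.exp_zero]
  have hc : Place.cst hK P (f * u ^ n) ≠ 0 := by
    intro h0
    rw [Place.cst_eq_zero_iff hK P hv1.le, hv1] at h0
    exact lt_irrefl _ h0
  have himg : leadHom hK P hu ⟨_, hmem⟩ = Polynomial.monomial n (Place.cst hK P (f * u ^ n)) := by
    ext m
    rw [coeff_leadHom, Polynomial.coeff_monomial, Polynomial.coeff_monomial]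
    split_ifs with h
    · subst h; rfl
    · rw [zero_mul, Place.cst_zero]
  have h1 : Polynomial.monomial n (1 : k) =
      (Place.cst hK P (f * u ^ n))⁻¹ • Polynomial.monomial n (Place.cst hK P (f * u ^ n)) := by
    rw [Polynomial.smul_monomial, smul_eq_mul, inv_mul_cancel₀ hc]
  rw [h1]
  have h2 : Polynomial.monomial n (Place.cst hK P (f * u ^ n)) ∈ (leadHom hK P hu).range :=
    ⟨_, himg⟩
  exact Subalgebra.smul_mem _ h2 _

end lead

end FF

end Groth.Agent.Lib.helper10
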