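import Groth.Agent.Lib.Helper10.FunFld50

/-!
Function fields of one variable (helper10), part 51: the norm of a principal divisor
(`deg P · v_P(N x) = ∑_{Q | P} deg Q · v_Q(x)`, S11033).
-/

set_option autoImplicit false
set_option linter.unusedSectionVars false
set_option linter.style.haveILetI false

universe u v w

open IntermediateField FunFld

namespace Groth.Agent.Lib.helper10

namespace FF

open RD PA

section QuotDim

variable {k : Type u} {E : Type w} [Field k] [Field E] [Algebra k E]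

/-- The `k`-dimension of `T / (x)` for a ring `T` identified with a semilocal ring of `E`. -/
theorem finrank_quotient_span_semi {T : Type*} [CommRing T] [Algebra k T] (ι : T →ₐ[k] E)
    (hinj : Function.Injective ι) (Qs : Finset (Place k E))
    (hfd : ∀ Q ∈ Qs, FiniteDimensional k (IsLocalRing.ResidueField Q.O))
    (hrange : ∀ z : E, z ∈ Set.range ι ↔ z ∈ semiBall Qs (fun _ => 0))
    {x : T} (hx : x ≠ 0) :
    Module.Finite k (T ⧸ Ideal.span {x}) ∧
      Module.finrank k (T ⧸ Ideal.span {x}) = ∑ Q ∈ Qs, (Q.ord (ι x)).toNat * Q.deg := by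
  have hιx : ι x ≠ 0 := fun h => hx (hinj (by rw [h, map_zero]))
  have hxO : ι x ∈ semiBall Qs (fun _ => 0) := (hrange _).1 ⟨x, rfl⟩
  have hord : ∀ Q ∈ Qs, 0 ≤ Q.ord (ι x) := fun Q hQ => by
    have := hxO Q hQ
    rw [WithZero.exp_zero] at this
    exact (Place.ord_nonneg_iff Q hιx).2 this
  have hcount := relFin_semiBall Qs hfd (fun _ => 0) (fun Q => (Q.ord (ι x)).toNat)
  obtain ⟨U, hU⟩ : ∃ U : Submodule k E,
      U = semiBall Qs (fun Q => (0 : ℤ) - ((Q.ord (ι x)).toNat : ℕ)) := ⟨_, rfl⟩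
  obtain ⟨W, hW⟩ : ∃ W : Submodule k E, W = semiBall Qs (fun _ => 0) := ⟨_, rfl⟩
  rw [← hU, ← hW] at hcount
  have hmemU : ∀ z : E, z ∈ U ↔ ∀ Q ∈ Qs, Q.1 z ≤ Q.1 (ι x) := by
    intro z
    rw [hU, mem_semiBall]
    refine forall₂_congr fun Q hQ => ?_
    rw [Place.val_eq_exp_neg_ord Q hιx, Int.toNat_of_nonneg (hord Q hQ), zero_sub]
  have hmemW' : ∀ z : E, z ∈ W ↔ ∀ Q ∈ Qs, Q.1 z ≤ 1 := by
    intro z
    rw [hW, mem_semiBall]
    simp only [WithZero.exp_zero]
  have hmemW : ∀ z : T, ι.toLinearMap z ∈ W := fun z => by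
    rw [hW]; exact (hrange _).1 ⟨z, rfl⟩
  let g : T →ₗ[k] RQ U W := (Submodule.mkQ _) ∘ₗ (ι.toLinearMap.codRestrict W hmemW)
  have hg : Function.Surjective g := by
    intro q
    obtain ⟨w, rfl⟩ := Submodule.Quotient.mk_surjective _ q
    obtain ⟨z, hz⟩ := (hrange w.1).2 (by rw [← hW]; exact w.2)
    refine ⟨z, ?_⟩
    simp only [g, LinearMap.comp_apply, Submodule.mkQ_apply]
    congr 1
    exact Subtype.ext hz
  have hker : LinearMap.ker g = (Ideal.span {x}).restrictScalars k := by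
    ext z
    rw [LinearMap.mem_ker]
    simp only [g, LinearMap.comp_apply, Submodule.mkQ_apply, Submodule.Quotient.mk_eq_zero,
      Submodule.mem_comap, Submodule.subtype_apply, LinearMap.codRestrict_apply,
      Submodule.restrictScalars_mem, Ideal.mem_span_singleton, AlgHom.toLinearMap_apply]
    rw [hmemU]
    constructor
    · intro hzU
      have hq : ι z / ι x ∈ W := by
        rw [hmemW']
        intro Q hQ
        rw [map_div₀]
        exact div_le_one_of_le₀ (hzU Q hQ) zero_le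
      obtain ⟨w, hw⟩ := (hrange _).2 (by rw [← hW]; exact hq)
      refine ⟨w, hinj ?_⟩
      rw [map_mul, hw, mul_div_cancel₀ _ hιx]
    · rintro ⟨w, rfl⟩
      intro Q hQ
      rw [map_mul, map_mul]
      have h1 : Q.1 (ι w) ≤ 1 := (hmemW' _).1 (hmemW w) Q hQ
      calc Q.1 (ι x) * Q.1 (ι w) ≤ Q.1 (ι x) * 1 := mul_le_mul' le_rfl h1
        _ = _ := mul_one _
  let e : (T ⧸ Ideal.span {x}) ≃ₗ[k] RQ U W :=
    ((Submodule.Quotient.restrictScalarsEquiv k (Ideal.span {x})).symm.trans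
      (Submodule.quotEquivOfEq _ _ hker.symm)).trans (g.quotKerEquivOfSurjective hg)
  haveI : FiniteDimensional k (RQ U W) := hcount.1
  exact ⟨Module.Finite.equiv e.symm, e.finrank_eq.trans hcount.2⟩

end QuotDim

section Norm

variable {k : Type u} {F : Type v} {E : Type w} [Field k] [Field F] [Field E]
  [Algebra k F] [Algebra F E] [Algebra k E] [IsScalarTower k F E]

/-- The semilocal ring above `P` as an `O_P`-subalgebra. -/
def semiAlg (P : Place k F) [Algebra P.O E] [IsScalarTower P.O F E] (Qs : Finset (Place k E))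
    (hQs : ∀ Q ∈ Qs, IsOver Q P) : Subalgebra P.O E where
  carrier := {z | ∀ Q ∈ Qs, Q.1 z ≤ 1}
  mul_mem' {a b} ha hb Q hQ := by
    rw [map_mul]
    exact mul_le_one' (ha Q hQ) (hb Q hQ)
  one_mem' Q _ := by rw [map_one]
  add_mem' {a b} ha hb Q hQ := (Q.1.map_add a b).trans (max_le (ha Q hQ) (hb Q hQ))
  zero_mem' Q _ := by rw [map_zero]; exact zero_le
  algebraMap_mem' r Q hQ := by
    rw [IsScalarTower.algebraMap_apply P.O F E]
    obtain ⟨e, he⟩ := hQs Q hQ
    rw [he]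
    exact pow_le_one' r.2 e

theorem mem_semiAlg (P : Place k F) [Algebra P.O E] [IsScalarTower P.O F E]
    (Qs : Finset (Place k E)) (hQs : ∀ Q ∈ Qs, IsOver Q P) (z : E) :
    z ∈ semiAlg P Qs hQs ↔ ∀ Q ∈ Qs, Q.1 z ≤ 1 := Iff.rfl

theorem Place.ord_prod {ι : Type*} (P : Place k F) (s : Finset ι) (f : ι → F)
    (hf : ∀ i ∈ s, f i ≠ 0) : P.ord (∏ i ∈ s, f i) = ∑ i ∈ s, P.ord (f i) := by
  classical
  induction s using Finset.induction_on with
  | empty => simp [Place.ord_one]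
  | insert a s ha ih =>
    rw [Finset.prod_insert ha, Finset.sum_insert ha,
      Place.ord_mul P (hf a (Finset.mem_insert_self a s))
        (Finset.prod_ne_zero_iff.2 fun i hi => hf i (Finset.mem_insert_of_mem hi)),
      ih fun i hi => hf i (Finset.mem_insert_of_mem hi)]

/-- `k`-dimension of `O_P / (a)`. -/
theorem finrank_quotient_span_O (hF : IsFunctionField k F) (P : Place k F) {a : P.O}
    (ha : a ≠ 0) :
    Module.Finite k (P.O ⧸ Ideal.span {a}) ∧
      Module.finrank k (P.O ⧸ Ideal.span {a}) = (P.ord (a : F)).toNat * P.deg := by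
  classical
  let ι : P.O →ₐ[k] F :=
    { toRingHom := P.O.subtype
      commutes' := fun _ => rfl }
  have hinj : Function.Injective ι := Subtype.val_injective
  have hfd : ∀ Q ∈ ({P} : Finset (Place k F)),
      FiniteDimensional k (IsLocalRing.ResidueField Q.O) := fun Q _ =>
    Place.finiteDimensional_residueField hF Q
  have hrange : ∀ z : F, z ∈ Set.range ι ↔ z ∈ semiBall ({P} : Finset (Place k F)) (fun _ => 0) := by
    intro z
    rw [mem_semiBall]
    simp only [Finset.mem_singleton, forall_eq, WithZero.exp_zero]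
    constructor
    · rintro ⟨w, rfl⟩
      exact w.2
    · intro h
      exact ⟨⟨z, h⟩, rfl⟩
  have h := finrank_quotient_span_semi ι hinj {P} hfd hrange ha
  rw [Finset.sum_singleton] at h
  exact h

/-- The norm formula for elements of the semilocal ring. -/
theorem deg_mul_ord_norm_of_mem_semiO [FiniteDimensional F E] (hF : IsFunctionField k F)
    (P : Place k F) (Qs : Finset (Place k E)) (hQs : ∀ Q, Q ∈ Qs ↔ IsOver Q P) {x : E}
    (hx0 : x ≠ 0) (hx : x ∈ semiO Qs) :
    (P.deg : ℤ) * P.ord (Algebra.norm F x) = ∑ Q ∈ Qs, (Q.deg : ℤ) * Q.ord x := by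
  classical
  letI : Algebra P.O E := ((algebraMap F E).comp (algebraMap P.O F)).toAlgebra
  haveI : IsScalarTower P.O F E := IsScalarTower.of_algebraMap_eq (fun _ => rfl)
  haveI : IsScalarTower k P.O E := IsScalarTower.of_algebraMap_eq (fun c => by
    rw [IsScalarTower.algebraMap_apply k F E]
    rfl)
  haveI := Place.isDVR hF P
  have hQs' : ∀ Q ∈ Qs, IsOver Q P := fun Q hQ => (hQs Q).1 hQ
  obtain ⟨n, hn⟩ : ∃ n, Module.finrank F E = n := ⟨_, rfl⟩
  obtain ⟨y, hy, hli, hspan⟩ := exists_local_basis hF P Qs hQs n hn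
  obtain ⟨S, hS⟩ : ∃ S : Subalgebra P.O E, S = semiAlg P Qs hQs' := ⟨_, rfl⟩
  have hmemS : ∀ z : E, z ∈ S ↔ z ∈ semiO Qs := fun z => by
    rw [hS, mem_semiO, mem_semiAlg]
  -- the basis of `S` over `O_P`
  let y' : Fin n → S := fun i => ⟨y i, (hmemS _).2 (hy.1 i)⟩
  have hliO : LinearIndependent P.O y := by
    refine hli.restrict_scalars ?_
    intro a b hab
    simp only [Algebra.smul_def, mul_one] at hab
    exact Subtype.ext hab
  have hli' : LinearIndependent P.O y' := by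
    refine LinearIndependent.of_comp S.val.toLinearMap ?_
    exact hliO
  have hsp' : ⊤ ≤ Submodule.span P.O (Set.range y') := by
    intro z _
    obtain ⟨a, ha, hz⟩ := hspan z.1 ((hmemS _).1 z.2)
    have e : z = ∑ i, (⟨a i, ha i⟩ : P.O) • y' i := by
      apply Subtype.ext
      rw [hz]
      simp only [AddSubmonoidClass.coe_finsetSum, Subalgebra.coe_smul]
      refine Finset.sum_congr rfl fun i _ => ?_
      rw [Algebra.smul_def, IsScalarTower.algebraMap_apply P.O F E]
      rfl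
    rw [e]
    exact Submodule.sum_mem _ fun i _ => Submodule.smul_mem _ _ (Submodule.subset_span ⟨i, rfl⟩)
  let b : Module.Basis (Fin n) P.O S := Module.Basis.mk hli' hsp'
  have hb : ∀ i, ((b i : S) : E) = y i := fun i => by
    simp only [b, Module.Basis.mk_apply, y']
  have hcard : Fintype.card (Fin n) = Module.finrank F E := by rw [Fintype.card_fin, hn]
  let bE : Module.Basis (Fin n) F E := basisOfLinearIndependentOfCardEqFinrank' y hli hcard
  have hbE : ∀ i, bE i = y i := fun i => by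
    simp only [bE, coe_basisOfLinearIndependentOfCardEqFinrank']
  -- coordinates agree
  have hrepr : ∀ (s : S) (i : Fin n), bE.repr (s : E) i = ((b.repr s i : P.O) : F) := by
    intro s i
    have hs : (s : E) = ∑ j, ((b.repr s j : P.O) : F) • bE j := by
      conv_lhs => rw [← b.sum_repr s]
      simp only [AddSubmonoidClass.coe_finsetSum, Subalgebra.coe_smul]
      refine Finset.sum_congr rfl fun j _ => ?_
      rw [hb, hbE, Algebra.smul_def, Algebra.smul_def, IsScalarTower.algebraMap_apply P.O F E]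
      rfl
    rw [hs, bE.repr_sum_self]
  let x' : S := ⟨x, (hmemS _).2 hx⟩
  have hx'0 : x' ≠ 0 := fun h => hx0 (congrArg Subtype.val h)
  have hnorm : algebraMap P.O F (Algebra.norm P.O x') = Algebra.norm F x := by
    rw [Algebra.norm_eq_matrix_det b, Algebra.norm_eq_matrix_det bE, RingHom.map_det]
    congr 1
    ext i j
    rw [RingHom.mapMatrix_apply, Matrix.map_apply, Algebra.leftMulMatrix_eq_repr_mul,
      Algebra.leftMulMatrix_eq_repr_mul]
    have h1 := hrepr (x' * b j) i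
    have h2 : ((x' * b j : S) : E) = x * bE j := by
      simp only [MulMemClass.coe_mul, hb, hbE, x']
    rw [h2] at h1
    rw [h1]
    rfl
  have hI : Ideal.span ({x'} : Set S) ≠ ⊥ := Ideal.span_singleton_eq_bot.not.2 hx'0
  have hassoc := associated_norm_prod_smith b hx'0
  -- the dimension of `S / (x)`
  let ιS : S →ₐ[k] E :=
    { toRingHom := S.val.toRingHom
      commutes' := fun _ => rfl }
  have hinjS : Function.Injective ιS := Subtype.val_injective
  have hfdS : ∀ Q ∈ Qs, FiniteDimensional k (IsLocalRing.ResidueField Q.O) := fun Q _ =>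
    Place.finiteDimensional_residueField' hF Q
  have hrangeS : ∀ z : E, z ∈ Set.range ιS ↔ z ∈ semiBall Qs (fun _ => 0) := by
    intro z
    constructor
    · rintro ⟨w, rfl⟩
      exact (hmemS _).1 w.2
    · intro h
      exact ⟨⟨z, (hmemS _).2 h⟩, rfl⟩
  have hdimS := finrank_quotient_span_semi ιS hinjS Qs hfdS hrangeS hx'0
  have hιx : ιS x' = x := rfl
  rw [hιx] at hdimS
  -- the dimensions of `O_P / (a_i)`
  have ha0 : ∀ i, Ideal.smithCoeffs b _ hI i ≠ 0 := Ideal.smithCoeffs_ne_zero b _ hI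
  have hdimO := fun i => finrank_quotient_span_O hF P (ha0 i)
  haveI : ∀ i, Module.Finite k (P.O ⧸ Ideal.span {Ideal.smithCoeffs b _ hI i}) :=
    fun i => (hdimO i).1
  have hsum := Ideal.finrank_quotient_eq_sum k hI b
  rw [hdimS.2, Finset.sum_congr rfl fun i _ => (hdimO i).2] at hsum
  -- orders
  have hordQ : ∀ Q ∈ Qs, ((Q.ord x).toNat : ℤ) = Q.ord x := fun Q hQ =>
    Int.toNat_of_nonneg ((Place.ord_nonneg_iff Q hx0).2 ((mem_semiO.1 hx) Q hQ))
  have ha0' : ∀ i, ((Ideal.smithCoeffs b _ hI i : P.O) : F) ≠ 0 := fun i h =>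
    ha0 i (Subtype.ext h)
  have hordP : ∀ i, ((P.ord ((Ideal.smithCoeffs b _ hI i : P.O) : F)).toNat : ℤ) =
      P.ord ((Ideal.smithCoeffs b _ hI i : P.O) : F) := fun i =>
    Int.toNat_of_nonneg ((Place.ord_nonneg_iff P (ha0' i)).2 (Ideal.smithCoeffs b _ hI i).2)
  -- the norm
  obtain ⟨u, hu⟩ := hassoc
  have hu1 : P.1 ((u : P.O) : F) = 1 := by
    have h1 : P.1 ((u : P.O) : F) ≤ 1 := (u : P.O).2
    have h2 : P.1 (((u⁻¹ : (P.O)ˣ) : P.O) : F) ≤ 1 := ((u⁻¹ : (P.O)ˣ) : P.O).2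
    have h3 : P.1 ((u : P.O) : F) * P.1 (((u⁻¹ : (P.O)ˣ) : P.O) : F) = 1 := by
      rw [← map_mul, ← MulMemClass.coe_mul, Units.mul_inv, OneMemClass.coe_one, map_one]
    refine le_antisymm h1 ?_
    calc (1 : WithZero (Multiplicative ℤ)) = _ := h3.symm
      _ ≤ P.1 ((u : P.O) : F) * 1 := mul_le_mul' le_rfl h2
      _ = _ := mul_one _
  have hN0 : Algebra.norm F x ≠ 0 := Algebra.norm_ne_zero_iff.2 hx0
  have hnormord : P.ord (Algebra.norm F x) =
      ∑ i, P.ord ((Ideal.smithCoeffs b _ hI i : P.O) : F) := by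
    have h1 : ((∏ i, Ideal.smithCoeffs b _ hI i : P.O) : F) =
        Algebra.norm F x * ((u : P.O) : F) := by
      rw [← hu, ← hnorm]
      rfl
    have h2 : ((∏ i, Ideal.smithCoeffs b _ hI i : P.O) : F) =
        ∏ i, ((Ideal.smithCoeffs b _ hI i : P.O) : F) := by
      simp only [SubmonoidClass.coe_finsetProd]
    have hu0 : ((u : P.O) : F) ≠ 0 := by
      intro h
      rw [h, Valuation.map_zero] at hu1
      exact zero_ne_one hu1
    have h3 := Place.ord_prod P Finset.univ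
      (fun i => ((Ideal.smithCoeffs b _ hI i : P.O) : F)) (fun i _ => ha0' i)
    have hu2 : P.ord ((u : P.O) : F) = 0 := by
      unfold Place.ord
      rw [hu1, WithZero.log_one, neg_zero]
    rw [← h2, h1, Place.ord_mul P hN0 hu0, hu2, add_zero] at h3
    exact h3
  rw [hnormord, Finset.mul_sum]
  have hsumZ : (∑ Q ∈ Qs, ((Q.ord x).toNat : ℤ) * (Q.deg : ℤ)) =
      ∑ i, ((P.ord ((Ideal.smithCoeffs b _ hI i : P.O) : F)).toNat : ℤ) * (P.deg : ℤ) := by
    exact_mod_cast hsum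
  have e1 : ∑ Q ∈ Qs, ((Q.ord x).toNat : ℤ) * (Q.deg : ℤ) = ∑ Q ∈ Qs, (Q.deg : ℤ) * Q.ord x :=
    Finset.sum_congr rfl fun Q hQ => by rw [hordQ Q hQ, mul_comm]
  have e2 : ∑ i, ((P.ord ((Ideal.smithCoeffs b _ hI i : P.O) : F)).toNat : ℤ) * (P.deg : ℤ) =
      ∑ i, (P.deg : ℤ) * P.ord ((Ideal.smithCoeffs b _ hI i : P.O) : F) :=
    Finset.sum_congr rfl fun i _ => by rw [hordP i, mul_comm]
  rw [← e1, hsumZ, e2]

/-- **S11033**: `deg P · v_P(N_{E/F} x) = ∑_{Q | P} deg Q · v_Q(x)`. -/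
theorem deg_mul_ord_norm [FiniteDimensional F E] (hF : IsFunctionField k F)
    (P : Place k F) (Qs : Finset (Place k E)) (hQs : ∀ Q, Q ∈ Qs ↔ IsOver Q P) (x : E) :
    (P.deg : ℤ) * P.ord (Algebra.norm F x) = ∑ Q ∈ Qs, (Q.deg : ℤ) * Q.ord x := by
  by_cases hx0 : x = 0
  · subst hx0
    rw [Algebra.norm_zero, Place.ord_zero, mul_zero]
    symm
    apply Finset.sum_eq_zero
    intro Q _
    rw [Place.ord_zero, mul_zero]
  obtain ⟨t, ht⟩ := Place.exists_uniformizer P
  have ht0 : t ≠ 0 := by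
    rintro rfl
    rw [Valuation.map_zero] at ht
    exact WithZero.exp_ne_zero ht.symm
  obtain ⟨τ, hτdef⟩ : ∃ τ : E, τ = algebraMap F E t := ⟨_, rfl⟩
  have hτ0 : τ ≠ 0 := by
    rw [hτdef]
    exact (_root_.map_ne_zero _).2 ht0
  have hτle : ∀ Q ∈ Qs, Q.1 τ ≤ WithZero.exp (-1 : ℤ) := by
    intro Q hQ
    obtain ⟨e, he⟩ := (hQs Q).1 hQ
    have hepos := isOverWith_pos he
    rw [hτdef, he t, ht]
    refine pow_le_of_le_one zero_le ?_ (by omega)
    rw [← WithZero.exp_zero, WithZero.exp_le_exp]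
    norm_num
  obtain ⟨j, hj⟩ : ∃ j : ℕ, τ ^ j * x ∈ semiO Qs := by
    refine ⟨∑ Q ∈ Qs, (Q.ord x).natAbs, ?_⟩
    rw [mem_semiO]
    intro Q hQ
    rw [map_mul, map_pow]
    have h1 := Finset.single_le_sum (f := fun Q' : Place k E => (Q'.ord x).natAbs)
      (fun i _ => Nat.zero_le _) hQ
    calc Q.1 τ ^ (∑ Q ∈ Qs, (Q.ord x).natAbs) * Q.1 x
        ≤ WithZero.exp (-1 : ℤ) ^ (∑ Q ∈ Qs, (Q.ord x).natAbs) *
            WithZero.exp (((Q.ord x).natAbs : ℕ) : ℤ) :=
          mul_le_mul' (pow_le_pow_left' (hτle Q hQ) _) (Place.val_le_exp_natAbs Q x)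
      _ ≤ 1 := by
          rw [← WithZero.exp_nsmul, ← WithZero.exp_add, ← WithZero.exp_zero, WithZero.exp_le_exp,
            nsmul_eq_mul]
          push_cast
          have : ((Q.ord x).natAbs : ℤ) ≤ ∑ Q ∈ Qs, ((Q.ord x).natAbs : ℤ) := by
            exact_mod_cast h1
          linarith
  have hτj : τ ^ j ∈ semiO Qs := by
    rw [mem_semiO]
    intro Q hQ
    rw [map_pow]
    refine pow_le_one' ((hτle Q hQ).trans ?_) j
    rw [← WithZero.exp_zero, WithZero.exp_le_exp]
    norm_num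
  have hτj0 : τ ^ j ≠ 0 := pow_ne_zero _ hτ0
  have hz0 : τ ^ j * x ≠ 0 := mul_ne_zero hτj0 hx0
  have h1 := deg_mul_ord_norm_of_mem_semiO hF P Qs hQs hz0 hj
  have h2 := deg_mul_ord_norm_of_mem_semiO hF P Qs hQs hτj0 hτj
  have hN1 : Algebra.norm F (τ ^ j) ≠ 0 := Algebra.norm_ne_zero_iff.2 hτj0
  have hN2 : Algebra.norm F x ≠ 0 := Algebra.norm_ne_zero_iff.2 hx0
  have e3 : ∑ Q ∈ Qs, (Q.deg : ℤ) * Q.ord (τ ^ j * x) =
      ∑ Q ∈ Qs, (Q.deg : ℤ) * Q.ord (τ ^ j) + ∑ Q ∈ Qs, (Q.deg : ℤ) * Q.ord x := by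
    rw [← Finset.sum_add_distrib]
    refine Finset.sum_congr rfl fun Q _ => ?_
    rw [Place.ord_mul Q hτj0 hx0, mul_add]
  rw [map_mul, Place.ord_mul P hN1 hN2, mul_add, h2, e3] at h1
  exact add_left_cancel h1

end Norm

end FF

end Groth.Agent.Lib.helper10
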