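import Mathlib

/-!
Relative quotients `W / (U ∩ W)` of subspaces of a vector space, maps between them, and dimension
counts along short exact sequences (helper10).
-/

set_option autoImplicit false
set_option linter.unusedSectionVars false
set_option linter.style.haveILetI false

universe u v v' v''

namespace Groth.Agent.Lib.helper10

namespace RD

variable {k : Type u} [Field k] {V : Type v} [AddCommGroup V] [Module k V]
  {V' : Type v'} [AddCommGroup V'] [Module k V'] {V'' : Type v''} [AddCommGroup V''] [Module k V'']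

/-- The relative quotient `W / (U ∩ W)`. -/
abbrev RQ (U W : Submodule k V) : Type v := W ⧸ U.comap W.subtype

/-- The map induced on relative quotients by a linear map. -/
noncomputable def relMap (φ : V →ₗ[k] V') {U W : Submodule k V} {U' W' : Submodule k V'}
    (hW : ∀ x ∈ W, φ x ∈ W') (hU : ∀ x ∈ W, x ∈ U → φ x ∈ U') : RQ U W →ₗ[k] RQ U' W' :=
  Submodule.mapQ _ _ (φ.restrict hW) (fun x hx => hU x.1 x.2 hx)

theorem relMap_mk (φ : V →ₗ[k] V') {U W : Submodule k V} {U' W' : Submodule k V'}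
    (hW : ∀ x ∈ W, φ x ∈ W') (hU : ∀ x ∈ W, x ∈ U → φ x ∈ U') (x : W) :
    relMap φ hW hU (Submodule.Quotient.mk x) = Submodule.Quotient.mk ⟨φ x.1, hW x.1 x.2⟩ := rfl

theorem relMap_injective (φ : V →ₗ[k] V') {U W : Submodule k V} {U' W' : Submodule k V'}
    (hW : ∀ x ∈ W, φ x ∈ W') (hU : ∀ x ∈ W, x ∈ U → φ x ∈ U')
    (h : ∀ x ∈ W, φ x ∈ U' → x ∈ U) : Function.Injective (relMap φ hW hU) := by
  rw [← LinearMap.ker_eq_bot, eq_bot_iff]
  intro q hq
  obtain ⟨x, rfl⟩ := Submodule.Quotient.mk_surjective _ q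
  rw [LinearMap.mem_ker, relMap_mk, Submodule.Quotient.mk_eq_zero] at hq
  rw [Submodule.mem_bot, Submodule.Quotient.mk_eq_zero]
  exact h x.1 x.2 hq

theorem relMap_surjective (φ : V →ₗ[k] V') {U W : Submodule k V} {U' W' : Submodule k V'}
    (hW : ∀ x ∈ W, φ x ∈ W') (hU : ∀ x ∈ W, x ∈ U → φ x ∈ U')
    (h : ∀ y ∈ W', ∃ x ∈ W, y - φ x ∈ U') : Function.Surjective (relMap φ hW hU) := by
  intro q
  obtain ⟨y, rfl⟩ := Submodule.Quotient.mk_surjective _ q
  obtain ⟨x, hx, hxy⟩ := h y.1 y.2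
  refine ⟨Submodule.Quotient.mk ⟨x, hx⟩, ?_⟩
  rw [relMap_mk, eq_comm, Submodule.Quotient.eq]
  exact hxy

theorem relMap_exact (φ : V →ₗ[k] V') (ψ : V' →ₗ[k] V'') {U W : Submodule k V}
    {U' W' : Submodule k V'} {U'' W'' : Submodule k V''}
    (hW : ∀ x ∈ W, φ x ∈ W') (hU : ∀ x ∈ W, x ∈ U → φ x ∈ U')
    (hW' : ∀ x ∈ W', ψ x ∈ W'') (hU' : ∀ x ∈ W', x ∈ U' → ψ x ∈ U'')
    (h0 : ∀ x ∈ W, ψ (φ x) ∈ U'')
    (h : ∀ y ∈ W', ψ y ∈ U'' → ∃ x ∈ W, y - φ x ∈ U') :
    LinearMap.range (relMap φ hW hU) = LinearMap.ker (relMap ψ hW' hU') := by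
  apply le_antisymm
  · rintro _ ⟨q, rfl⟩
    obtain ⟨x, rfl⟩ := Submodule.Quotient.mk_surjective _ q
    rw [LinearMap.mem_ker, relMap_mk, relMap_mk, Submodule.Quotient.mk_eq_zero]
    exact h0 x.1 x.2
  · intro q hq
    obtain ⟨y, rfl⟩ := Submodule.Quotient.mk_surjective _ q
    rw [LinearMap.mem_ker, relMap_mk, Submodule.Quotient.mk_eq_zero] at hq
    obtain ⟨x, hx, hxy⟩ := h y.1 y.2 hq
    refine ⟨Submodule.Quotient.mk ⟨x, hx⟩, ?_⟩
    rw [relMap_mk, eq_comm, Submodule.Quotient.eq]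
    exact hxy

/-- Dimension count along a short exact sequence. -/
theorem finrank_of_exact {A : Type*} {B : Type*} {C : Type*} [AddCommGroup A] [Module k A]
    [AddCommGroup B] [Module k B] [AddCommGroup C] [Module k C]
    (f : A →ₗ[k] B) (g : B →ₗ[k] C) (hf : Function.Injective f) (hg : Function.Surjective g)
    (hfg : LinearMap.range f = LinearMap.ker g) [FiniteDimensional k A] [FiniteDimensional k C] :
    FiniteDimensional k B ∧ Module.finrank k B = Module.finrank k A + Module.finrank k C := by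
  have e1 : A ≃ₗ[k] LinearMap.ker g := (LinearEquiv.ofInjective f hf).trans (LinearEquiv.ofEq _ _ hfg)
  have e2 : (B ⧸ LinearMap.ker g) ≃ₗ[k] C := g.quotKerEquivOfSurjective hg
  haveI : FiniteDimensional k (LinearMap.ker g) := Module.Finite.equiv e1
  haveI : FiniteDimensional k (B ⧸ LinearMap.ker g) := Module.Finite.equiv e2.symm
  haveI : FiniteDimensional k B := Module.Finite.of_submodule_quotient (LinearMap.ker g)
  refine ⟨inferInstance, ?_⟩
  have h := Submodule.finrank_quotient_add_finrank (LinearMap.ker g)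
  rw [e2.finrank_eq, ← e1.finrank_eq] at h
  omega

/-- The relative dimension. -/
noncomputable def relDim (U W : Submodule k V) : ℕ := Module.finrank k (RQ U W)

/-- Relative finiteness. -/
def RelFin (U W : Submodule k V) : Prop := FiniteDimensional k (RQ U W)

theorem relFin_exact (φ : V →ₗ[k] V') (ψ : V' →ₗ[k] V'') {U W : Submodule k V}
    {U' W' : Submodule k V'} {U'' W'' : Submodule k V''}
    (hW : ∀ x ∈ W, φ x ∈ W') (hU : ∀ x ∈ W, x ∈ U → φ x ∈ U')
    (hW' : ∀ x ∈ W', ψ x ∈ W'') (hU' : ∀ x ∈ W', x ∈ U' → ψ x ∈ U'')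
    (hinj : ∀ x ∈ W, φ x ∈ U' → x ∈ U)
    (hsurj : ∀ y ∈ W'', ∃ x ∈ W', y - ψ x ∈ U'')
    (h0 : ∀ x ∈ W, ψ (φ x) ∈ U'')
    (h : ∀ y ∈ W', ψ y ∈ U'' → ∃ x ∈ W, y - φ x ∈ U')
    (h1 : RelFin U W) (h3 : RelFin U'' W'') :
    RelFin U' W' ∧ relDim U' W' = relDim U W + relDim U'' W'' := by
  haveI : FiniteDimensional k (RQ U W) := h1
  haveI : FiniteDimensional k (RQ U'' W'') := h3
  exact finrank_of_exact (relMap φ hW hU) (relMap ψ hW' hU') (relMap_injective φ hW hU hinj)
    (relMap_surjective ψ hW' hU' hsurj) (relMap_exact φ ψ hW hU hW' hU' h0 h)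

/-- If the middle term of a short exact sequence of relative quotients is finite, so are the ends. -/
theorem relFin_of_injective (φ : V →ₗ[k] V') {U W : Submodule k V} {U' W' : Submodule k V'}
    (hW : ∀ x ∈ W, φ x ∈ W') (hU : ∀ x ∈ W, x ∈ U → φ x ∈ U')
    (hinj : ∀ x ∈ W, φ x ∈ U' → x ∈ U) (h2 : RelFin U' W') :
    RelFin U W ∧ relDim U W ≤ relDim U' W' := by
  haveI : FiniteDimensional k (RQ U' W') := h2
  have hi := relMap_injective φ hW hU hinj
  exact ⟨FiniteDimensional.of_injective _ hi, LinearMap.finrank_le_finrank_of_injective hi⟩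

theorem relFin_of_surjective (φ : V →ₗ[k] V') {U W : Submodule k V} {U' W' : Submodule k V'}
    (hW : ∀ x ∈ W, φ x ∈ W') (hU : ∀ x ∈ W, x ∈ U → φ x ∈ U')
    (hsurj : ∀ y ∈ W', ∃ x ∈ W, y - φ x ∈ U') (h1 : RelFin U W) :
    RelFin U' W' ∧ relDim U' W' ≤ relDim U W := by
  haveI : FiniteDimensional k (RQ U W) := h1
  have hs := relMap_surjective φ hW hU hsurj
  exact ⟨FiniteDimensional.of_surjective _ hs, LinearMap.finrank_le_finrank_of_surjective hs⟩   

theorem relFin_of_bijective (φ : V →ₗ[k] V') {U W : Submodule k V} {U' W' : Submodule k V'}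
    (hW : ∀ x ∈ W, φ x ∈ W') (hU : ∀ x ∈ W, x ∈ U → φ x ∈ U')
    (hinj : ∀ x ∈ W, φ x ∈ U' → x ∈ U)
    (hsurj : ∀ y ∈ W', ∃ x ∈ W, y - φ x ∈ U') :
    (RelFin U W ↔ RelFin U' W') ∧ relDim U W = relDim U' W' := by
  have e : RQ U W ≃ₗ[k] RQ U' W' := LinearEquiv.ofBijective (relMap φ hW hU)
    ⟨relMap_injective φ hW hU hinj, relMap_surjective φ hW hU hsurj⟩
  refine ⟨⟨fun h => ?_, fun h => ?_⟩, e.finrank_eq⟩
  · haveI : FiniteDimensional k (RQ U W) := h
    exact Module.Finite.equiv e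
  · haveI : FiniteDimensional k (RQ U' W') := h
    exact Module.Finite.equiv e.symm

theorem relFin_self (U : Submodule k V) : RelFin U U ∧ relDim U U = 0 := by
  have : Subsingleton (RQ U U) := by
    apply Submodule.Quotient.subsingleton_iff.mpr
    rw [eq_top_iff]
    intro x _
    exact x.2
  exact ⟨inferInstanceAs (FiniteDimensional k (RQ U U)), Module.finrank_zero_of_subsingleton⟩

/-- Chain rule for relative dimensions. -/
theorem relFin_chain {U U' W : Submodule k V} (h1 : U ≤ U') (h2 : U' ≤ W) (hf1 : RelFin U U')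
    (hf2 : RelFin U' W) : RelFin U W ∧ relDim U W = relDim U U' + relDim U' W := by
  refine relFin_exact (LinearMap.id) (LinearMap.id) (fun x hx => h2 hx) (fun x _ hx => hx)
    (fun x hx => hx) (fun x _ hx => h1 hx) (fun x _ hx => hx) (fun y hy => ⟨y, hy, ?_⟩)
    (fun x hx => hx) (fun y _ hy => ⟨y, hy, ?_⟩) hf1 hf2
  · simp
  · simp

/-- Modular rule for relative dimensions. -/
theorem relFin_modular {U W : Submodule k V} (X : Submodule k V) (h : U ≤ W)
    (hf1 : RelFin (U ⊓ X) (W ⊓ X)) (hf2 : RelFin (U ⊔ X) (W ⊔ X)) :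
    RelFin U W ∧ relDim U W = relDim (U ⊓ X) (W ⊓ X) + relDim (U ⊔ X) (W ⊔ X) := by
  refine relFin_exact (LinearMap.id) (LinearMap.id) (fun x hx => hx.1) (fun x _ hx => hx.1)
    (fun x hx => Submodule.mem_sup_left hx) (fun x _ hx => Submodule.mem_sup_left hx)
    (fun x hx hxU => ⟨hxU, hx.2⟩) ?_ (fun x hx => Submodule.mem_sup_right hx.2) ?_ hf1 hf2
  · intro y hy
    obtain ⟨w, hw, x, hx, rfl⟩ := Submodule.mem_sup.mp hy
    refine ⟨w, hw, ?_⟩
    simp only [LinearMap.id_coe, id_eq, add_sub_cancel_left]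
    exact Submodule.mem_sup_right hx
  · intro y hy hyU
    obtain ⟨u, hu, x, hx, rfl⟩ := Submodule.mem_sup.mp hyU
    refine ⟨x, ⟨?_, hx⟩, ?_⟩
    · have : x = (u + x) - u := by abel
      rw [this]
      exact W.sub_mem hy (h hu)
    · simp only [LinearMap.id_coe, id_eq, add_sub_cancel_right]
      exact hu

/-- From a finite-dimensional subspace and finite relative quotient to the bigger space. -/
theorem finite_of_relFin {U W : Submodule k V} (h : U ≤ W) (hU : FiniteDimensional k U)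
    (hf : RelFin U W) : FiniteDimensional k W ∧ Module.finrank k W = Module.finrank k U + relDim U W := by
  have e : (U.comap W.subtype) ≃ₗ[k] U := Submodule.comapSubtypeEquivOfLe h
  haveI : FiniteDimensional k (U.comap W.subtype) := Module.Finite.equiv e.symm
  haveI : FiniteDimensional k (RQ U W) := hf
  haveI : FiniteDimensional k W := Module.Finite.of_submodule_quotient (U.comap W.subtype)
  refine ⟨inferInstance, ?_⟩
  have := Submodule.finrank_quotient_add_finrank (U.comap W.subtype)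
  rw [e.finrank_eq] at this
  unfold relDim
  rw [← this]
  exact add_comm _ _

end RD

end Groth.Agent.Lib.helper10
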