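import Groth.Agent.Lib.Helper10.FunFld16

/-!
Function fields of one variable (helper10), part 17: rational function fields, genus zero,
places of degree one.
-/

set_option autoImplicit false
set_option linter.unusedSectionVars false
set_option linter.style.haveILetI false

universe u v w

open IntermediateField FunFld

namespace Groth.Agent.Lib.helper10

namespace FF

open RD

variable {k : Type u} {K : Type v} [Field k] [Field K] [Algebra k K]

/-- An effective divisor of degree one is a place of degree one. -/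
theorem eq_single_of_deg_eq_one (hK : IsFunctionField k K) {E : Divisor k K} (h0 : 0 ≤ E)
    (hd : E.deg = 1) : ∃ P : Place k K, P.deg = 1 ∧ E = Finsupp.single P 1 := by
  classical
  have hne : E ≠ 0 := by
    rintro rfl
    rw [deg_zero] at hd
    omega
  obtain ⟨P, hP⟩ : ∃ P, E P ≠ 0 := by
    by_contra hno
    push Not at hno
    exact hne (Finsupp.ext hno)
  have hpos : 1 ≤ E P := by
    have := h0 P
    simp only [Finsupp.coe_zero, Pi.zero_apply] at this
    omega
  have h1 : 0 ≤ E - Finsupp.single P 1 := by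
    intro Q
    rw [Finsupp.sub_apply]
    by_cases hQ : Q = P
    · subst hQ
      simp only [Finsupp.coe_zero, Pi.zero_apply, Finsupp.single_eq_same]
      omega
    · have := h0 Q
      simp only [Finsupp.coe_zero, Pi.zero_apply] at this ⊢
      rw [Finsupp.single_apply, if_neg (Ne.symm hQ)]
      omega
  have h2 := deg_nonneg h1
  rw [deg_sub, deg_single, hd] at h2
  have hdP : (1 : ℤ) ≤ P.deg := by exact_mod_cast Place.deg_pos hK P
  have hdP1 : (P.deg : ℤ) = 1 := by linarith
  have h3 : (E - Finsupp.single P 1).deg = 0 := by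
    rw [deg_sub, deg_single, hd, hdP1]
    ring
  have h4 := eq_zero_of_nonneg_of_deg_eq_zero hK h1 h3
  exact ⟨P, by exact_mod_cast hdP1, sub_eq_zero.mp h4⟩

theorem adjoin_eq_top_of_deg_polesDiv (hK : IsFunctionField k K) {x : K} (hx : Transcendental k x)
    (h : (polesDiv k x).deg = 1) : k⟮x⟯ = ⊤ := by
  rw [deg_polesDiv hK hx] at h
  apply IntermediateField.finrank_eq_one_iff_eq_top.mp
  exact_mod_cast h

theorem transcendental_of_adjoin_eq_top (hK : IsFunctionField k K) {x : K} (h : k⟮x⟯ = ⊤) :
    Transcendental k x := by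
  apply transcendental_of_not_mem_range hK
  intro hx
  obtain ⟨x₀, hx₀, -⟩ := hK.1
  apply not_mem_range_of_transcendental hx₀
  have h1 : k⟮x⟯ = ⊥ := by
    rw [IntermediateField.adjoin_simple_eq_bot_iff, IntermediateField.mem_bot]
    exact hx
  have h2 : x₀ ∈ (⊥ : IntermediateField k K) := by
    rw [← h1, h]
    exact IntermediateField.mem_top
  exact IntermediateField.mem_bot.mp h2

/-- The pole divisor of a generator of a rational function field is a place of degree one. -/
theorem polesDiv_of_adjoin_eq_top (hK : IsFunctionField k K) {x : K} (h : k⟮x⟯ = ⊤) :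
    ∃ P : Place k K, P.deg = 1 ∧ polesDiv k x = Finsupp.single P 1 := by
  have hx := transcendental_of_adjoin_eq_top hK h
  apply eq_single_of_deg_eq_one hK (polesDiv_nonneg x)
  rw [deg_polesDiv hK hx, h, IntermediateField.finrank_top]
  rfl

theorem polesDiv_eq_single_iff (hK : IsFunctionField k K) (x : K) (P : Place k K) :
    polesDiv k x = Finsupp.single P 1 ↔ (P.ord x = -1 ∧ ∀ Q : Place k K, Q ≠ P → 0 ≤ Q.ord x) := by
  classical
  constructor
  · intro h
    constructor
    · have := congrArg (fun E : Divisor k K => E P) h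
      simp only [Finsupp.single_eq_same] at this
      rw [polesDiv_apply hK] at this
      omega
    · intro Q hQ
      have := congrArg (fun E : Divisor k K => E Q) h
      beta_reduce at this
      rw [polesDiv_apply hK, Finsupp.single_apply, if_neg (Ne.symm hQ)] at this
      omega
  · rintro ⟨h1, h2⟩
    ext Q
    rw [polesDiv_apply hK]
    by_cases hQ : Q = P
    · subst hQ
      rw [Finsupp.single_eq_same, h1]
      rfl
    · rw [Finsupp.single_apply, if_neg (Ne.symm hQ)]
      have := h2 Q hQ
      omega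

/-- An element with a simple pole at a place of degree one (and no other pole) generates `K`. -/
theorem adjoin_eq_top_of_simple_pole (hK : IsFunctionField k K) {x : K} {P : Place k K}
    (hP : P.deg = 1) (h1 : P.ord x = -1) (h2 : ∀ Q : Place k K, Q ≠ P → 0 ≤ Q.ord x) :
    k⟮x⟯ = ⊤ := by
  have hx : Transcendental k x := by
    apply transcendental_of_not_mem_range hK
    rintro ⟨c, rfl⟩
    rw [Place.ord_algebraMap] at h1
    omega
  apply adjoin_eq_top_of_deg_polesDiv hK hx
  rw [(polesDiv_eq_single_iff hK x P).mpr ⟨h1, h2⟩, deg_single, hP]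
  rfl

/-- S10995 -/
theorem exists_simple_pole_iff (hK : IsFunctionField k K) :
    (∃ (x : K) (P : Place k K), P.deg = 1 ∧ P.ord x = -1 ∧
        ∀ Q : Place k K, Q ≠ P → 0 ≤ Q.ord x) ↔ ∃ x : K, k⟮x⟯ = ⊤ := by
  constructor
  · rintro ⟨x, P, hP, h1, h2⟩
    exact ⟨x, adjoin_eq_top_of_simple_pole hK hP h1 h2⟩
  · rintro ⟨x, hx⟩
    obtain ⟨P, hP, hPx⟩ := polesDiv_of_adjoin_eq_top hK hx
    obtain ⟨h1, h2⟩ := (polesDiv_eq_single_iff hK x P).mp hPx
    exact ⟨x, P, hP, h1, h2⟩

theorem ell_smul_polesDiv_ge (hK : IsFunctionField k K) {y : K} (hy : Transcendental k y) (l : ℕ) :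
    ((l : ℤ) + 1) ≤ ell ((l : ℤ) • polesDiv k y) := by
  set B := polesDiv k y with hB
  have hB0 : 0 ≤ B := polesDiv_nonneg y
  have hBP : ∀ P : Place k K, 0 ≤ B P := fun P => hB0 P
  set D : Divisor k K := (l : ℤ) • B with hD
  have hmem : ∀ (i : Fin (l + 1)), y ^ (i : ℕ) ∈ L D := by
    intro i P
    rw [map_pow]
    calc P.1 y ^ (i : ℕ) ≤ WithZero.exp (B P) ^ (i : ℕ) :=
          pow_le_pow_left' (val_le_exp_polesDiv hK y P) _
      _ = WithZero.exp (((i : ℕ) : ℤ) * B P) := by
          rw [← WithZero.exp_nsmul]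
          simp
      _ ≤ WithZero.exp ((l : ℤ) * B P) := by
          rw [WithZero.exp_le_exp]
          apply mul_le_mul_of_nonneg_right _ (hBP P)
          have := i.2
          omega
      _ = WithZero.exp (D P) := by
          rw [hD, Finsupp.smul_apply, smul_eq_mul]
  let w : Fin (l + 1) → L D := fun i => ⟨y ^ (i : ℕ), hmem i⟩
  have hli : LinearIndependent k w := by
    apply LinearIndependent.of_comp (L D).subtype
    exact (linearIndependent_pow_of_transcendental hy).comp (fun i : Fin (l + 1) => (i : ℕ))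
      Fin.val_injective
  haveI := finiteDimensional_L hK D
  have h2 := hli.fintype_card_le_finrank
  rw [Fintype.card_fin] at h2
  unfold ell
  exact_mod_cast h2

theorem genus_eq_zero_of_adjoin_eq_top (hK : IsFunctionField k K) {x : K} (h : k⟮x⟯ = ⊤) :
    genus k K = 0 := by
  have hx := transcendental_of_adjoin_eq_top hK h
  obtain ⟨P, hP, hPx⟩ := polesDiv_of_adjoin_eq_top hK h
  set l : ℕ := 2 * genus k K with hl
  have h1 := ell_smul_polesDiv_ge hK hx l
  have hdeg : ((l : ℤ) • polesDiv k x).deg = l := by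
    rw [deg_zsmul, hPx, deg_single, hP]
    simp
  have h2 := ell_of_deg_ge hK (D := (l : ℤ) • polesDiv k x) (by
    rw [hdeg, hl]
    push_cast
    omega)
  rw [hdeg] at h2
  have : (genus k K : ℤ) ≤ 0 := by linarith
  omega

/-- S10994 -/
theorem genus_zero_iff (hK : IsFunctionField k K) :
    (genus k K = 0 ∧ ∃ P : Place k K, P.deg = 1) ↔ ∃ x : K, k⟮x⟯ = ⊤ := by
  constructor
  · rintro ⟨hg, P, hP⟩
    have hdeg : Divisor.deg (Finsupp.single P 1 : Divisor k K) = 1 := by
      rw [deg_single, hP]
      rfl
    have h1 := ell_of_deg_ge hK (D := (Finsupp.single P 1 : Divisor k K)) (by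
      rw [hdeg, hg]
      norm_num)
    rw [hdeg, hg] at h1
    have h2 : ell (Finsupp.single P 1 : Divisor k K) = 2 := by
      have : (ell (Finsupp.single P 1 : Divisor k K) : ℤ) = 2 := by
        rw [h1]
        norm_num
      exact_mod_cast this
    -- a nonconstant element of `L(P)`
    have hex : ∃ x : K, x ∈ L (Finsupp.single P 1 : Divisor k K) ∧
        x ∉ Set.range (algebraMap k K) := by
      by_contra hno
      push Not at hno
      have hle : L (Finsupp.single P 1 : Divisor k K) ≤ L (0 : Divisor k K) := by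
        intro x hx
        obtain ⟨c, rfl⟩ := hno x hx
        rw [L_zero hK, Submodule.one_eq_range]
        exact ⟨c, rfl⟩
      haveI := (finite_L_zero hK).1
      have := Submodule.finrank_mono hle
      rw [(finite_L_zero hK).2] at this
      unfold ell at h2
      omega
    obtain ⟨x, hxL, hxk⟩ := hex
    have hx := transcendental_of_not_mem_range hK hxk
    have hx0 : x ≠ 0 := by
      rintro rfl
      exact hxk ⟨0, map_zero _⟩
    refine ⟨x, adjoin_eq_top_of_deg_polesDiv hK hx ?_⟩
    have hle : polesDiv k x ≤ Finsupp.single P 1 := by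
      intro Q
      rw [polesDiv_apply hK]
      have h3 := hxL Q
      rw [Place.val_eq_exp_neg_ord Q hx0, WithZero.exp_le_exp] at h3
      have h4 : (0 : ℤ) ≤ (Finsupp.single P 1 : Divisor k K) Q := single_nonneg' P zero_le_one Q
      exact max_le h3 h4
    have h5 := deg_mono hle
    rw [hdeg] at h5
    have h6 : (1 : ℤ) ≤ (polesDiv k x).deg := by
      rw [deg_polesDiv hK hx]
      haveI : FiniteDimensional k⟮x⟯ K := finiteDimensional_adjoin hK hx
      have : 0 < Module.finrank k⟮x⟯ K := Module.finrank_pos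
      exact_mod_cast this
    omega
  · rintro ⟨x, hx⟩
    obtain ⟨P, hP, -⟩ := polesDiv_of_adjoin_eq_top hK hx
    exact ⟨genus_eq_zero_of_adjoin_eq_top hK hx, P, hP⟩

/-- S10996 -/
theorem eq_of_single_sub_single_eq_div (hK : IsFunctionField k K) (hg : 0 < genus k K)
    {P P' : Place k K} (hP' : P'.deg = 1) {x : K}
    (h : Finsupp.single P 1 - Finsupp.single P' 1 = FunFld.div k x) : P = P' := by
  classical
  by_contra hne
  have h1 : P'.ord x = -1 := by
    rw [← div_apply hK, ← h, Finsupp.sub_apply, Finsupp.single_eq_same, Finsupp.single_apply,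
      if_neg hne]
    rfl
  have h2 : ∀ Q : Place k K, Q ≠ P' → 0 ≤ Q.ord x := by
    intro Q hQ
    rw [← div_apply hK, ← h, Finsupp.sub_apply, Finsupp.single_apply, Finsupp.single_apply,
      if_neg (Ne.symm hQ), sub_zero]
    split_ifs <;> norm_num
  have h3 := adjoin_eq_top_of_simple_pole hK hP' h1 h2
  have h4 := genus_eq_zero_of_adjoin_eq_top hK h3
  omega

/-- S10999 -/
theorem genus_one_class (hK : IsFunctionField k K) (hg : genus k K = 1) {P₀ : Place k K}
    (hP : P₀.deg = 1) {D : Divisor k K} (hD : D.deg = 0) :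
    ∃! P : Place k K, P.deg = 1 ∧
      ∃ x : K, x ≠ 0 ∧ D = Finsupp.single P 1 - Finsupp.single P₀ 1 + FunFld.div k x := by
  set A : Divisor k K := D + Finsupp.single P₀ 1 with hA
  have hdegA : A.deg = 1 := by
    rw [hA, deg_add, deg_single, hD, hP]
    rfl
  have h1 := ell_of_deg_ge hK (D := A) (by
    rw [hdegA, hg]
    norm_num)
  rw [hdegA, hg] at h1
  have hpos : 0 < ell A := by
    have : (0 : ℤ) < ell A := by
      rw [h1]
      norm_num
    exact_mod_cast this
  obtain ⟨z, hz0, hz⟩ := exists_ne_zero_mem_L hK hpos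
  rw [mem_L_iff_div hK hz0] at hz
  have hdegE : (A + FunFld.div k z).deg = 1 := by rw [deg_add_div hK, hdegA]
  obtain ⟨P, hPdeg, hPE⟩ := eq_single_of_deg_eq_one hK hz hdegE
  refine ⟨P, ⟨hPdeg, z⁻¹, inv_ne_zero hz0, ?_⟩, ?_⟩
  · rw [div_inv hK, ← hPE, hA]
    abel
  · rintro P' ⟨hP'deg, x', hx'0, hx'⟩
    symm
    apply eq_of_single_sub_single_eq_div hK (by omega) hP'deg (x := z * x')
    rw [div_mul hK hz0 hx'0, ← hPE, hA]
    have : FunFld.div k x' = D - Finsupp.single P' 1 + Finsupp.single P₀ 1 := by
      rw [hx']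
      abel
    rw [this]
    abel

end FF

end Groth.Agent.Lib.helper10
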