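import Mathlib

/-!
# Dehomogenization of polynomials with respect to a variable (helper10)

* `exists_homogeneous_sub_mem`: every polynomial is congruent modulo `X i - 1` to a homogeneous
  polynomial.
* `aeval_mul_of_isHomogeneous`: scaling the point scales the value of a homogeneous polynomial.
* `exists_scaled_integral`: denominators of integral elements.
-/

set_option autoImplicit false
set_option linter.unusedSectionVars false
set_option linter.style.haveILetI false

open MvPolynomial

namespace Groth.Agent.Lib.helper10.DetV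

section Homog

variable {K : Type*} [CommRing K] {σ : Type*}

/-- Homogenization with respect to a variable. -/
theorem exists_homogeneous_sub_mem (i : σ) (f : MvPolynomial σ K) :
    ∃ (D : ℕ) (fh : MvPolynomial σ K), fh.IsHomogeneous D ∧ f - fh ∈ Ideal.span {X i - 1} := by
  classical
  refine ⟨f.totalDegree, ∑ k ∈ Finset.range (f.totalDegree + 1),
    homogeneousComponent k f * X i ^ (f.totalDegree - k), ?_, ?_⟩
  · apply IsHomogeneous.sum
    intro k hk
    rw [Finset.mem_range] at hk
    have h1 := (homogeneousComponent_isHomogeneous k f).mul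
      (isHomogeneous_X_pow (R := K) i (f.totalDegree - k))
    have h2 : k + (f.totalDegree - k) = f.totalDegree := by omega
    rw [h2] at h1
    exact h1
  · have h1 : f - ∑ k ∈ Finset.range (f.totalDegree + 1),
        homogeneousComponent k f * X i ^ (f.totalDegree - k) =
        ∑ k ∈ Finset.range (f.totalDegree + 1),
          homogeneousComponent k f * (1 - X i ^ (f.totalDegree - k)) := by
      simp only [mul_sub, mul_one, Finset.sum_sub_distrib]
      rw [sum_homogeneousComponent]
    rw [h1]
    apply Ideal.sum_mem
    intro k _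
    apply Ideal.mul_mem_left
    have h2 : (1 : MvPolynomial σ K) - X i ^ (f.totalDegree - k) =
        -(X i ^ (f.totalDegree - k) - 1 ^ (f.totalDegree - k)) := by
      rw [one_pow]
      ring
    rw [h2]
    apply neg_mem
    exact Ideal.mem_span_singleton.2 (sub_dvd_pow_sub_pow (X i) 1 _)

/-- Scaling the point scales the value of a homogeneous polynomial. -/
theorem aeval_mul_of_isHomogeneous {R : Type*} [CommRing R] [Algebra K R] (c : R) (y : σ → R)
    {g : MvPolynomial σ K} {D : ℕ} (hg : g.IsHomogeneous D) :
    aeval (fun θ => c * y θ) g = c ^ D * aeval y g := by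
  classical
  conv_lhs => rw [g.as_sum]
  conv_rhs => rw [g.as_sum]
  rw [map_sum, map_sum, Finset.mul_sum]
  apply Finset.sum_congr rfl
  intro s hs
  rw [aeval_monomial, aeval_monomial]
  have h1 : (s.prod fun i k => (c * y i) ^ k) = c ^ D * s.prod fun i k => y i ^ k := by
    simp only [mul_pow]
    rw [Finsupp.prod_mul]
    congr 1
    rw [Finsupp.prod, Finset.prod_pow_eq_pow_sum, ← hg.degree_eq_sum_deg_support hs]
  rw [h1]
  ring

end Homog

section Integral

/-- Denominators of integral elements: let `A` be an integrally closed domain with fraction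
field `F`, `x ∈ A`, and `B` a ring mapping to `F` all of whose elements land in `A` after
multiplication by a power of `x`.  Then every element of `F` integral over `B` lands in `A`
after multiplication by a power of `x`. -/
theorem exists_pow_mul_eq_of_isIntegral {A F B : Type*} [CommRing A] [IsDomain A] [Field F]
    [Algebra A F] [IsFractionRing A F] [IsIntegrallyClosed A] [CommRing B] [Algebra B F]
    (x : A)
    (hB : ∀ b : B, ∃ (k : ℕ) (a : A), algebraMap A F x ^ k * algebraMap B F b = algebraMap A F a)
    (z : F) (hz : IsIntegral B z) :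
    ∃ (L : ℕ) (a : A), algebraMap A F x ^ L * z = algebraMap A F a := by
  classical
  obtain ⟨p, hmonic, hp⟩ := hz
  choose k a hka using hB
  obtain ⟨L, hL⟩ : ∃ L, L = (Finset.range (p.natDegree + 1)).sup fun i => k (p.coeff i) :=
    ⟨_, rfl⟩
  have hcoef : ∀ i, i ≤ p.natDegree →
      ∃ a' : A, algebraMap A F x ^ L * algebraMap B F (p.coeff i) = algebraMap A F a' := by
    intro i hi
    have hle : k (p.coeff i) ≤ L := by
      rw [hL]
      exact Finset.le_sup (f := fun i => k (p.coeff i)) (Finset.mem_range.2 (by omega))
    refine ⟨x ^ (L - k (p.coeff i)) * a (p.coeff i), ?_⟩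
    rw [map_mul, map_pow, ← hka, ← mul_assoc, ← pow_add, Nat.sub_add_cancel hle]
  obtain ⟨p', hp'⟩ : ∃ p', p' = p.map (algebraMap B F) := ⟨_, rfl⟩
  have hmonic' : p'.Monic := by rw [hp']; exact hmonic.map _
  have hnat : p'.natDegree = p.natDegree := by rw [hp']; exact hmonic.natDegree_map _
  have hroot : Polynomial.eval z p' = 0 := by
    rw [hp', Polynomial.eval_map]
    exact hp
  obtain ⟨q, hq⟩ : ∃ q, q = Polynomial.scaleRoots p' (algebraMap A F x ^ L) := ⟨_, rfl⟩
  have hqmonic : q.Monic := by rw [hq]; exact (Polynomial.monic_scaleRoots_iff _).2 hmonic'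
  have hqroot : Polynomial.eval (algebraMap A F x ^ L * z) q = 0 := by
    rw [hq, Polynomial.scaleRoots_eval_mul, hroot, mul_zero]
  have hlifts : q ∈ Polynomial.lifts (algebraMap A F) := by
    rw [Polynomial.lifts_iff_coeff_lifts]
    intro i
    rw [hq, Polynomial.coeff_scaleRoots, hnat]
    rcases lt_trichotomy i p.natDegree with hi | hi | hi
    · obtain ⟨a', ha'⟩ := hcoef i hi.le
      obtain ⟨j, hj⟩ : ∃ j, p.natDegree - i = j + 1 := ⟨p.natDegree - i - 1, by omega⟩
      refine ⟨a' * x ^ (L * j), ?_⟩
      rw [map_mul, ← ha', hp', Polynomial.coeff_map, hj, pow_succ, map_pow, ← pow_mul]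
      ring
    · refine ⟨1, ?_⟩
      rw [hi, Nat.sub_self, pow_zero, mul_one, map_one, ← hnat]
      exact hmonic'.coeff_natDegree.symm
    · refine ⟨0, ?_⟩
      rw [map_zero, Polynomial.coeff_eq_zero_of_natDegree_lt (by rw [hnat]; exact hi), zero_mul]
  obtain ⟨q', hq'map, -, hq'monic⟩ := Polynomial.lifts_and_degree_eq_and_monic hlifts hqmonic
  have hint : IsIntegral A (algebraMap A F x ^ L * z) := by
    refine ⟨q', hq'monic, ?_⟩
    rw [← Polynomial.eval_map, hq'map]
    exact hqroot
  obtain ⟨a', ha'⟩ := (isIntegrallyClosed_iff F).1 inferInstance hint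
  exact ⟨L, a', ha'.symm⟩

end Integral

end Groth.Agent.Lib.helper10.DetV
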