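import Groth.Agent.Lib.Helper10.DetV9

/-!
# The second fundamental theorem for `GL_n` (helper10), part 2
-/

set_option autoImplicit false
set_option linter.unusedSectionVars false
set_option linter.style.haveILetI false

universe u

open MvPolynomial W4bk4grassmannian

namespace Groth.Agent.Lib.helper10.DetV

open Groth.Agent.Lib.helper10.SMT Groth.Agent.Lib.helper10.FFT

section SFT

variable (K : Type u) [Field K] [Infinite K] (n m q : ℕ)

/-- The last `n` columns. -/
def lastCols (hnq : n < q) (k : Fin n) : Fin q := ⟨q - n + k.val, by have := k.isLt; omega⟩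

theorem lastCols_injective (hnq : n < q) : Function.Injective (lastCols n q hnq) := by
  intro a b hab
  have := congrArg Fin.val hab
  apply Fin.ext
  unfold lastCols at this
  simp only at this
  omega

theorem sum_lastCols {M : Type*} [AddCommMonoid M] (hnq : n < q) (F : Fin q → M)
    (hF : ∀ c : Fin q, c.val < q - n → F c = 0) :
    ∑ c, F c = ∑ k : Fin n, F (lastCols n q hnq k) := by
  classical
  rw [← Finset.sum_image (f := F) (g := lastCols n q hnq)
    (fun a _ b _ hab => lastCols_injective n q hnq hab)]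
  symm
  apply Finset.sum_subset (Finset.subset_univ _)
  intro c _ hc
  apply hF
  by_contra hcon
  apply hc
  rw [Finset.mem_image]
  refine ⟨⟨c.val - (q - n), by have := c.isLt; omega⟩, Finset.mem_univ _, ?_⟩
  apply Fin.ext
  unfold lastCols
  simp only
  omega

/-- The bottom block of a matrix of the shape `tauDet` has only `n` nonzero columns. -/
theorem shape_bottom_eq_zero (hnm : n < m) (hnq : n < q) (Y : Matrix (Fin (q + m)) (Fin q) K)
    (hY : ∀ s c, (tauDet m q (n + 1) (by omega) hnm).1 c < s → Y s c = 0)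
    (i : Fin m) (c : Fin q) (hc : c.val < q - n) : Y (Fin.natAdd q i) c = 0 := by
  apply hY
  rw [Fin.lt_def, tauDet_apply, if_pos (by omega)]
  show c.val + (n + 1) - 1 < q + i.val
  omega

theorem ker_pairingMap_le (hnm : n < m) (hnq : n < q) :
    RingHom.ker (pairingMap K n m q).toRingHom ≤
      CAlgX.minorIdeal (genMatrix K m q) (n + 1) := by
  intro f hf
  rw [RingHom.mem_ker] at hf
  have hf' : pairingMap K n m q f = 0 := hf
  have ht : 1 ≤ n + 1 := by omega
  have hq : 0 < q := by omega
  obtain ⟨τ, hτ⟩ : ∃ τ, τ = tauDet m q (n + 1) ht hnm := ⟨_, rfl⟩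
  obtain ⟨g, rfl⟩ := detEval_surjective K m q f
  have hcomap := comap_detEval K m q (n + 1) ht hnm hnq hq
  suffices hg : g ∈ cellQ K τ by
    rw [hτ, ← hcomap, Ideal.mem_comap] at hg
    exact hg
  obtain ⟨D, gh, hgh, hsub⟩ := exists_homogeneous_sub_mem (iotaDet m q) g
  have hdet : detEval K m q gh = detEval K m q g := by
    have h1 : detEval K m q (g - gh) = 0 := by
      have hle : Ideal.span {(X (iotaDet m q) : PlRing K q (q + m)) - 1} ≤
          RingHom.ker (detEval K m q).toRingHom := by
        rw [Ideal.span_le]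
        intro x hx
        rw [Set.mem_singleton_iff] at hx
        rw [hx, SetLike.mem_coe, RingHom.mem_ker]
        show detEval K m q (X (iotaDet m q) - 1) = 0
        rw [map_sub, detEval_X_iota, map_one, sub_self]
      exact hle hsub
    rw [map_sub, sub_eq_zero] at h1
    exact h1.symm
  suffices hmem : gh ∈ schubertVanishing K q (q + m) τ by
    unfold cellQ
    rw [iotaOf_eq_iotaDet]
    have : g = gh + (g - gh) := by ring
    rw [this]
    exact Ideal.add_mem _ (Ideal.mem_sup_left hmem) (Ideal.mem_sup_right hsub)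
  rw [mem_schubertVanishing_iff K hq τ]
  have hΔ : shapeEval K τ (X (iotaDet m q)) ≠ 0 := by
    intro h0
    have h2 := wtMinor_ne_zero K τ (iotaDet m q) (by
      rw [← iotaOf_eq_iotaDet m q τ]; exact iotaOf_le τ τ)
    apply h2
    unfold wtMinor
    rw [← shapeEval_X, h0, map_zero]
  have hprod : shapeEval K τ gh * shapeEval K τ (X (iotaDet m q)) = 0 := by
    apply MvPolynomial.funext
    intro x
    rw [map_mul, map_zero, eval_shapeEval, eval_shapeEval, evalMinors_X]
    obtain ⟨Y₀, hY₀⟩ : ∃ Y₀, Y₀ = (shapeMat K τ).map (eval x) := ⟨_, rfl⟩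
    rw [← hY₀]
    by_cases hdet0 : (Y₀.submatrix (iotaDet m q).1 id).det = 0
    · rw [hdet0, mul_zero]
    · obtain ⟨T, hT⟩ : ∃ T, T = Y₀.submatrix (iotaDet m q).1 id := ⟨_, rfl⟩
      rw [← hT] at hdet0
      have hunit : IsUnit T.det := isUnit_iff_ne_zero.2 hdet0
      have hY : Y₀ = (Y₀ * T⁻¹) * T := by
        rw [Matrix.mul_assoc, Matrix.nonsing_inv_mul _ hunit, Matrix.mul_one]
      have htop : (Y₀ * T⁻¹).submatrix (iotaDet m q).1 id = 1 := by
        rw [submatrix_mul_right, ← hT, Matrix.mul_nonsing_inv _ hunit]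
      have hbig := eq_bigMat_of_top K m q (Y₀ * T⁻¹) htop
      -- the factorization of the bottom block
      obtain ⟨U₀, hU₀⟩ : ∃ U₀ : Matrix (Fin m) (Fin n) K,
          U₀ = Matrix.of fun i k => Y₀ (Fin.natAdd q i) (lastCols n q hnq k) := ⟨_, rfl⟩
      obtain ⟨W₀, hW₀⟩ : ∃ W₀ : Matrix (Fin n) (Fin q) K,
          W₀ = Matrix.of fun k j => T⁻¹ (lastCols n q hnq k) j := ⟨_, rfl⟩
      have hfac : (Matrix.of fun i j => (Y₀ * T⁻¹) (Fin.natAdd q i) j) = U₀ * W₀ := by
        refine Matrix.ext fun i j => ?_
        rw [Matrix.of_apply, Matrix.mul_apply, Matrix.mul_apply,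
          sum_lastCols n q hnq (fun c => Y₀ (Fin.natAdd q i) c * T⁻¹ c j)]
        · apply Finset.sum_congr rfl
          intro k _
          rw [hU₀, hW₀, Matrix.of_apply, Matrix.of_apply]
        · intro c hc
          rw [shape_bottom_eq_zero K n m q hnm hnq Y₀ _ i c hc, zero_mul]
          intro s c' hs
          rw [hY₀, Matrix.map_apply, shapeMat_apply, if_neg (not_le.2 (by rw [hτ]; exact hs)),
            map_zero]
      have h0 : evalMinors K q (q + m) Y₀ gh = 0 := by
        rw [hY, evalMinors_mul K _ _ hgh, hbig, ← eval_detEval, hdet, hfac, ← eval_pairingMap, hf',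
          map_zero, mul_zero]
      rw [h0, zero_mul]
  rcases mul_eq_zero.1 hprod with h | h
  · exact h
  · exact absurd h hΔ

/-- **The second fundamental theorem for `GL_n`.** -/
theorem ker_pairingMap :
    RingHom.ker (pairingMap K n m q).toRingHom = CAlgX.minorIdeal (genMatrix K m q) (n + 1) := by
  apply le_antisymm _ (minorIdeal_le_ker_pairingMap K n m q)
  by_cases hnm : n < m
  · by_cases hnq : n < q
    · exact ker_pairingMap_le K n m q hnm hnq
    · have hinj := pairingMap_injective_of_le_right K n m q (not_lt.1 hnq)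
      have hbot : RingHom.ker (pairingMap K n m q).toRingHom = ⊥ :=
        (RingHom.injective_iff_ker_eq_bot _).1 hinj
      rw [hbot]
      exact bot_le
  · have hinj := pairingMap_injective_of_le_left K n m q (not_lt.1 hnm)
    have hbot : RingHom.ker (pairingMap K n m q).toRingHom = ⊥ :=
      (RingHom.injective_iff_ker_eq_bot _).1 hinj
    rw [hbot]
    exact bot_le

end SFT

end Groth.Agent.Lib.helper10.DetV
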