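import Groth.Agent.Lib.Helper10.DetV1

/-!
# Dehomogenization of a homogeneous prime ideal with respect to a variable (helper10)

`J` a homogeneous prime ideal of a polynomial ring `P = K[σ]` over a field, `i` a variable not
in `J`, `A = P/J`.  Then `P/(J + (X_i - 1))` embeds into the fraction field of `A` (as the ring of
elements of degree zero of `A[1/x_i]`); it is a domain, integrally closed if `A` is.
-/

set_option autoImplicit false
set_option linter.unusedSectionVars false
set_option linter.style.haveILetI false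

universe u

open MvPolynomial

namespace Groth.Agent.Lib.helper10.DetV

section Dehom

variable (K : Type u) [Field K] {σ : Type} (J : Ideal (MvPolynomial σ K)) [J.IsPrime] (i : σ)

/-- The dehomogenization map `X_θ ↦ x_θ / x_i` to the fraction field of `P/J`. -/
noncomputable def dehom : MvPolynomial σ K →ₐ[K] FractionRing (MvPolynomial σ K ⧸ J) :=
  MvPolynomial.aeval fun θ : σ =>
    (algebraMap (MvPolynomial σ K ⧸ J) (FractionRing (MvPolynomial σ K ⧸ J))
      (Ideal.Quotient.mk J (X i)))⁻¹ *
    algebraMap (MvPolynomial σ K ⧸ J) (FractionRing (MvPolynomial σ K ⧸ J))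
      (Ideal.Quotient.mk J (X θ))

theorem aeval_mk (g : MvPolynomial σ K) :
    MvPolynomial.aeval (fun θ : σ => algebraMap (MvPolynomial σ K ⧸ J)
      (FractionRing (MvPolynomial σ K ⧸ J)) (Ideal.Quotient.mk J (X θ))) g =
    algebraMap (MvPolynomial σ K ⧸ J) (FractionRing (MvPolynomial σ K ⧸ J))
      (Ideal.Quotient.mk J g) := by
  have h : MvPolynomial.aeval (fun θ : σ => algebraMap (MvPolynomial σ K ⧸ J)
      (FractionRing (MvPolynomial σ K ⧸ J)) (Ideal.Quotient.mk J (X θ))) =
      (IsScalarTower.toAlgHom K (MvPolynomial σ K ⧸ J)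
        (FractionRing (MvPolynomial σ K ⧸ J))).comp (Ideal.Quotient.mkₐ K J) := by
    apply MvPolynomial.algHom_ext
    intro θ
    rw [aeval_X]
    rfl
  rw [h]
  rfl

theorem dehom_of_isHomogeneous {g : MvPolynomial σ K} {D : ℕ} (hg : g.IsHomogeneous D) :
    dehom K J i g = ((algebraMap (MvPolynomial σ K ⧸ J) (FractionRing (MvPolynomial σ K ⧸ J))
      (Ideal.Quotient.mk J (X i)))⁻¹) ^ D *
      algebraMap (MvPolynomial σ K ⧸ J) (FractionRing (MvPolynomial σ K ⧸ J))
        (Ideal.Quotient.mk J g) := by
  unfold dehom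
  rw [aeval_mul_of_isHomogeneous _ _ hg, aeval_mk]

variable (hi : (X i : MvPolynomial σ K) ∉ J)

include hi in
theorem algebraMap_mk_X_ne_zero :
    algebraMap (MvPolynomial σ K ⧸ J) (FractionRing (MvPolynomial σ K ⧸ J))
      (Ideal.Quotient.mk J (X i)) ≠ 0 := by
  intro h
  rw [map_eq_zero_iff _ (IsFractionRing.injective _ _), Ideal.Quotient.eq_zero_iff_mem] at h
  exact hi h

include hi in
theorem dehom_X_self : dehom K J i (X i) = 1 := by
  unfold dehom
  rw [aeval_X]
  exact inv_mul_cancel₀ (algebraMap_mk_X_ne_zero K J i hi)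

theorem pow_eq_zero_iff_of_pos_aux {F : Type*} [Field F] {x : F} {D : ℕ} (h : x ^ D = 0) :
    x = 0 := by
  exact eq_zero_of_pow_eq_zero h

include hi in
theorem dehom_eq_zero_iff_of_isHomogeneous {g : MvPolynomial σ K} {D : ℕ}
    (hg : g.IsHomogeneous D) : dehom K J i g = 0 ↔ g ∈ J := by
  rw [dehom_of_isHomogeneous K J i hg, mul_eq_zero]
  constructor
  · rintro (h | h)
    · exact absurd (pow_eq_zero_iff_of_pos_aux h) (inv_ne_zero (algebraMap_mk_X_ne_zero K J i hi))
    · rw [map_eq_zero_iff _ (IsFractionRing.injective _ _), Ideal.Quotient.eq_zero_iff_mem] at h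
      exact h
  · intro h
    right
    rw [Ideal.Quotient.eq_zero_iff_mem.2 h, map_zero]

variable (hJ : ∀ f ∈ J, ∀ k, homogeneousComponent k f ∈ J)

include hi hJ in
/-- The kernel of the dehomogenization map. -/
theorem ker_dehom : RingHom.ker (dehom K J i).toRingHom = J ⊔ Ideal.span {X i - 1} := by
  apply le_antisymm
  · intro f hf
    rw [RingHom.mem_ker] at hf
    obtain ⟨D, fh, hfh, hsub⟩ := exists_homogeneous_sub_mem i f
    have h1 : dehom K J i (f - fh) = 0 := by
      have hle : Ideal.span {(X i : MvPolynomial σ K) - 1} ≤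
          RingHom.ker (dehom K J i).toRingHom := by
        rw [Ideal.span_le]
        intro x hx
        rw [Set.mem_singleton_iff] at hx
        rw [hx, SetLike.mem_coe, RingHom.mem_ker]
        show dehom K J i (X i - 1) = 0
        rw [map_sub, dehom_X_self K J i hi, map_one, sub_self]
      exact hle hsub
    have h2 : dehom K J i fh = 0 := by
      rw [map_sub, sub_eq_zero] at h1
      rw [← h1]
      exact hf
    have h3 := (dehom_eq_zero_iff_of_isHomogeneous K J i hi hfh).1 h2
    have : f = fh + (f - fh) := by ring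
    rw [this]
    exact Ideal.add_mem _ (Ideal.mem_sup_left h3) (Ideal.mem_sup_right hsub)
  · apply sup_le
    · intro f hf
      rw [RingHom.mem_ker]
      show dehom K J i f = 0
      rw [← sum_homogeneousComponent f, map_sum]
      apply Finset.sum_eq_zero
      intro k _
      exact (dehom_eq_zero_iff_of_isHomogeneous K J i hi
        (homogeneousComponent_isHomogeneous k f)).2 (hJ f hf k)
    · rw [Ideal.span_le]
      intro x hx
      rw [Set.mem_singleton_iff] at hx
      rw [hx, SetLike.mem_coe, RingHom.mem_ker]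
      show dehom K J i (X i - 1) = 0
      rw [map_sub, dehom_X_self K J i hi, map_one, sub_self]

include hi hJ in
/-- The dehomogenized ring is a domain. -/
theorem isPrime_sup : (J ⊔ Ideal.span {(X i : MvPolynomial σ K) - 1}).IsPrime := by
  rw [← ker_dehom K J i hi hJ]
  exact RingHom.ker_isPrime _

end Dehom

section Criterion

/-- A domain embedded in a field `F` is integrally closed as soon as every element of `F` which
is a quotient of two of its elements and is integral over it belongs to it. -/
theorem isIntegrallyClosed_of_injective {B F : Type*} [CommRing B] [IsDomain B] [Field F]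
    (g : B →+* F) (hg : Function.Injective g)
    (h : ∀ (z : F) (b₁ b₂ : B), b₂ ≠ 0 → z * g b₂ = g b₁ → g.IsIntegralElem z → ∃ b, g b = z) :
    IsIntegrallyClosed B := by
  rw [isIntegrallyClosed_iff (FractionRing B)]
  intro y hy
  obtain ⟨b₁, b₂, hb₂, rfl⟩ := IsFractionRing.div_surjective B y
  have hb₂0 : b₂ ≠ 0 := nonZeroDivisors.ne_zero hb₂
  obtain ⟨L, hL⟩ : ∃ L : FractionRing B →+* F, L = IsFractionRing.lift hg := ⟨_, rfl⟩
  have hLalg : ∀ b, L (algebraMap B (FractionRing B) b) = g b := by
    intro b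
    rw [hL, IsFractionRing.lift_algebraMap]
  have hgb₂ : g b₂ ≠ 0 := by
    intro h0
    apply hb₂0
    apply hg
    rw [h0, map_zero]
  obtain ⟨b, hb⟩ := h (L (algebraMap B (FractionRing B) b₁ / algebraMap B (FractionRing B) b₂))
    b₁ b₂ hb₂0 (by
      rw [map_div₀, hLalg, hLalg, div_mul_cancel₀ _ hgb₂]) (by
      obtain ⟨p, hmonic, hp⟩ := hy
      refine ⟨p, hmonic, ?_⟩
      have h1 := congrArg L hp
      rw [map_zero, Polynomial.hom_eval₂] at h1
      have h2 : L.comp (algebraMap B (FractionRing B)) = g := by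
        ext b
        exact hLalg b
      rw [h2] at h1
      exact h1)
  refine ⟨b, ?_⟩
  apply L.injective
  rw [hLalg, hb]

end Criterion

section HomogLemmas

variable {K : Type*} [CommRing K] {σ : Type*}

theorem homogeneousComponent_mul_of_isHomogeneous (f G : MvPolynomial σ K) {M : ℕ}
    (hG : G.IsHomogeneous M) (j : ℕ) :
    homogeneousComponent (j + M) (f * G) = homogeneousComponent j f * G := by
  classical
  conv_lhs => rw [← sum_homogeneousComponent f]
  rw [Finset.sum_mul, map_sum]
  have hterm : ∀ k ∈ Finset.range (f.totalDegree + 1),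
      homogeneousComponent (j + M) (homogeneousComponent k f * G) =
        if k = j then homogeneousComponent j f * G else 0 := by
    intro k _
    have h1 : homogeneousComponent k f * G ∈ homogeneousSubmodule σ K (k + M) :=
      (homogeneousComponent_isHomogeneous k f).mul hG
    rw [homogeneousComponent_of_mem h1]
    by_cases hkj : k = j
    · subst hkj
      rw [if_pos rfl, if_pos rfl]
    · rw [if_neg hkj, if_neg]
      omega
  rw [Finset.sum_congr rfl hterm, Finset.sum_ite_eq' (Finset.range (f.totalDegree + 1)) j]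
  split_ifs with h
  · rfl
  · rw [Finset.mem_range] at h
    rw [homogeneousComponent_eq_zero j f (by omega), zero_mul]

/-- If `f G ≡ G'` modulo a homogeneous prime ideal `J`, with `G ∉ J` homogeneous of degree `M`
and `G'` homogeneous of degree `M + L`, then `f` is congruent modulo `J` to its homogeneous
component of degree `L`. -/
theorem sub_homogeneousComponent_mem (J : Ideal (MvPolynomial σ K)) [J.IsPrime]
    (hJ : ∀ f ∈ J, ∀ k, homogeneousComponent k f ∈ J) (f G G' : MvPolynomial σ K) {M L : ℕ}
    (hG : G.IsHomogeneous M) (hGJ : G ∉ J) (hG' : G'.IsHomogeneous (M + L))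
    (hrel : f * G - G' ∈ J) : f - homogeneousComponent L f ∈ J := by
  classical
  have hcomp : ∀ j, j ≠ L → homogeneousComponent j f ∈ J := by
    intro j hj
    have h1 := hJ _ hrel (j + M)
    rw [map_sub, homogeneousComponent_mul_of_isHomogeneous f G hG j,
      homogeneousComponent_of_mem (show G' ∈ homogeneousSubmodule σ K (M + L) from hG'),
      if_neg (by omega), sub_zero] at h1
    rcases Ideal.IsPrime.mem_or_mem inferInstance h1 with h | h
    · exact h
    · exact absurd h hGJ
  have h2 : f - homogeneousComponent L f =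
      ∑ k ∈ (Finset.range (f.totalDegree + 1)).erase L, homogeneousComponent k f := by
    by_cases hL : L ∈ Finset.range (f.totalDegree + 1)
    · have h3 := sum_homogeneousComponent f
      rw [← Finset.add_sum_erase _ _ hL] at h3
      rw [eq_comm, ← sub_eq_zero]
      have h4 : ∑ k ∈ (Finset.range (f.totalDegree + 1)).erase L, homogeneousComponent k f -
          (f - homogeneousComponent L f) = (homogeneousComponent L f +
            ∑ k ∈ (Finset.range (f.totalDegree + 1)).erase L, homogeneousComponent k f) - f := by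
        ring
      rw [h4, h3, sub_self]
    · rw [Finset.erase_eq_of_notMem hL, sum_homogeneousComponent,
        homogeneousComponent_eq_zero L f (by rw [Finset.mem_range] at hL; omega), sub_zero]
  rw [h2]
  apply Ideal.sum_mem
  intro k hk
  exact hcomp k (Finset.mem_erase.1 hk).1

end HomogLemmas

section Normal

variable (K : Type u) [Field K] {σ : Type} (J : Ideal (MvPolynomial σ K)) [J.IsPrime] (i : σ)
  (hi : (X i : MvPolynomial σ K) ∉ J) (hJ : ∀ f ∈ J, ∀ k, homogeneousComponent k f ∈ J)

/-- The embedding of the dehomogenized ring into the fraction field of `P/J`. -/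
noncomputable def dehomQ : (MvPolynomial σ K ⧸ (J ⊔ Ideal.span {(X i : MvPolynomial σ K) - 1})) →+*
    FractionRing (MvPolynomial σ K ⧸ J) :=
  Ideal.Quotient.lift _ (dehom K J i).toRingHom (by
    intro a ha
    rw [← ker_dehom K J i hi hJ] at ha
    exact ha)

theorem dehomQ_mk (f : MvPolynomial σ K) :
    dehomQ K J i hi hJ (Ideal.Quotient.mk _ f) = dehom K J i f := by
  unfold dehomQ
  rw [Ideal.Quotient.lift_mk]
  rfl

theorem dehomQ_injective : Function.Injective (dehomQ K J i hi hJ) := by
  unfold dehomQ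
  apply RingHom.lift_injective_of_ker_le_ideal
  rw [ker_dehom K J i hi hJ]

include hi hJ in
/-- Every value of the dehomogenization map is the class of a homogeneous polynomial divided by
a power of `x_i`. -/
theorem exists_dehom_eq (f : MvPolynomial σ K) :
    ∃ (D : ℕ) (fh : MvPolynomial σ K), fh.IsHomogeneous D ∧ dehom K J i f = dehom K J i fh ∧
      (algebraMap (MvPolynomial σ K ⧸ J) (FractionRing (MvPolynomial σ K ⧸ J))
        (Ideal.Quotient.mk J (X i))) ^ D * dehom K J i f =
      algebraMap (MvPolynomial σ K ⧸ J) (FractionRing (MvPolynomial σ K ⧸ J))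
        (Ideal.Quotient.mk J fh) := by
  obtain ⟨D, fh, hfh, hsub⟩ := exists_homogeneous_sub_mem i f
  have h1 : dehom K J i (f - fh) = 0 := by
    have h2 : f - fh ∈ RingHom.ker (dehom K J i).toRingHom := by
      rw [ker_dehom K J i hi hJ]
      exact Ideal.mem_sup_right hsub
    exact h2
  rw [map_sub, sub_eq_zero] at h1
  refine ⟨D, fh, hfh, h1, ?_⟩
  rw [h1, dehom_of_isHomogeneous K J i hfh, ← mul_assoc, ← mul_pow,
    mul_inv_cancel₀ (algebraMap_mk_X_ne_zero K J i hi), one_pow, one_mul]

include hi hJ in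
/-- The dehomogenization of a normal graded domain is normal. -/
theorem isIntegrallyClosed_quotient_sup [IsIntegrallyClosed (MvPolynomial σ K ⧸ J)] :
    haveI := isPrime_sup K J i hi hJ
    IsIntegrallyClosed (MvPolynomial σ K ⧸ (J ⊔ Ideal.span {(X i : MvPolynomial σ K) - 1})) := by
  haveI := isPrime_sup K J i hi hJ
  obtain ⟨x, hx⟩ : ∃ x, x = algebraMap (MvPolynomial σ K ⧸ J)
    (FractionRing (MvPolynomial σ K ⧸ J)) (Ideal.Quotient.mk J (X i)) := ⟨_, rfl⟩
  have hx0 : x ≠ 0 := by rw [hx]; exact algebraMap_mk_X_ne_zero K J i hi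
  apply isIntegrallyClosed_of_injective (dehomQ K J i hi hJ) (dehomQ_injective K J i hi hJ)
  intro z b₁ b₂ hb₂ hz hint
  obtain ⟨f₁, rfl⟩ := Ideal.Quotient.mk_surjective b₁
  obtain ⟨f₂, rfl⟩ := Ideal.Quotient.mk_surjective b₂
  rw [dehomQ_mk, dehomQ_mk] at hz
  -- denominators
  letI : Algebra (MvPolynomial σ K ⧸ (J ⊔ Ideal.span {(X i : MvPolynomial σ K) - 1}))
      (FractionRing (MvPolynomial σ K ⧸ J)) := (dehomQ K J i hi hJ).toAlgebra
  have hint' : IsIntegral (MvPolynomial σ K ⧸ (J ⊔ Ideal.span {(X i : MvPolynomial σ K) - 1})) z :=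
    hint
  obtain ⟨L, a, hLa⟩ := exists_pow_mul_eq_of_isIntegral (Ideal.Quotient.mk J (X i)) (by
    intro b
    obtain ⟨f, rfl⟩ := Ideal.Quotient.mk_surjective b
    obtain ⟨D, fh, -, -, h3⟩ := exists_dehom_eq K J i hi hJ f
    refine ⟨D, Ideal.Quotient.mk J fh, ?_⟩
    rw [← h3]
    congr 1) z hint'
  rw [← hx] at hLa
  obtain ⟨fa, rfl⟩ := Ideal.Quotient.mk_surjective a
  obtain ⟨D₁, G₁, hG₁, hd₁, he₁⟩ := exists_dehom_eq K J i hi hJ f₁
  obtain ⟨D₂, G₂, hG₂, hd₂, he₂⟩ := exists_dehom_eq K J i hi hJ f₂
  rw [← hx] at he₁ he₂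
  have hG₂J : G₂ ∉ J := by
    intro hmem
    apply hb₂
    apply dehomQ_injective K J i hi hJ
    rw [dehomQ_mk, map_zero, hd₂]
    exact (dehom_eq_zero_iff_of_isHomogeneous K J i hi hG₂).2 hmem
  -- the relation in `A`
  have hrel : fa * (G₂ * X i ^ D₁) - G₁ * X i ^ (D₂ + L) ∈ J := by
    rw [← Ideal.Quotient.eq_zero_iff_mem]
    apply IsFractionRing.injective (MvPolynomial σ K ⧸ J) (FractionRing (MvPolynomial σ K ⧸ J))
    rw [map_zero, map_sub, map_sub, map_mul, map_mul, map_mul, map_mul, map_mul, map_mul,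
      map_pow, map_pow, map_pow, map_pow, ← hx, ← hLa, ← he₁, ← he₂, ← hz]
    ring
  have hX : (X i ^ D₁ : MvPolynomial σ K) ∉ J := fun h => hi (Ideal.IsPrime.mem_of_pow_mem inferInstance _ h)
  have hG₂' : G₂ * X i ^ D₁ ∉ J := by
    intro h
    rcases Ideal.IsPrime.mem_or_mem inferInstance h with h | h
    · exact hG₂J h
    · exact hX h
  have hkey := sub_homogeneousComponent_mem J hJ fa (G₂ * X i ^ D₁) (G₁ * X i ^ (D₂ + L))
    (M := D₂ + D₁) (L := L) (hG₂.mul (isHomogeneous_X_pow i D₁)) hG₂' (by
      have := hG₁.mul (isHomogeneous_X_pow (R := K) i (D₂ + L))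
      have e : D₁ + (D₂ + L) = D₂ + D₁ + L := by ring
      rw [e] at this
      exact this) hrel
  refine ⟨Ideal.Quotient.mk _ (homogeneousComponent L fa), ?_⟩
  rw [dehomQ_mk, dehom_of_isHomogeneous K J i (homogeneousComponent_isHomogeneous L fa), ← hx]
  have h5 : Ideal.Quotient.mk J (homogeneousComponent L fa) = Ideal.Quotient.mk J fa :=
    (Ideal.Quotient.eq.2 hkey).symm
  rw [h5, ← hLa, ← mul_assoc, ← mul_pow, inv_mul_cancel₀ hx0, one_pow, one_mul]

end Normal

end Groth.Agent.Lib.helper10.DetV
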