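import Groth.Agent.Lib.Helper10.DetV2
import Groth.Agent.Lib.Helper17.LciCM
import Groth.Agent.Lib.Helper24.HypersurfaceCM
import Groth.Agent.Lib.Helper26.CMPoly1

/-!
# Dehomogenization: Cohen–Macaulayness and dimension (helper10)
-/

set_option autoImplicit false
set_option linter.unusedSectionVars false
set_option linter.style.haveILetI false

universe u

open MvPolynomial

namespace Groth.Agent.Lib.helper10.DetV

section CMQuot

/-- The quotient of a Cohen–Macaulay ring by a nonzerodivisor is Cohen–Macaulay. -/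
theorem isCohenMacaulayRing_quotient_span_singleton (R : Type u) [CommRing R]
    [hR : LocCoh.IsCohenMacaulayRing R] (r : R) (hr : r ∈ nonZeroDivisors R) :
    LocCoh.IsCohenMacaulayRing (R ⧸ Ideal.span {r}) := by
  haveI : IsNoetherianRing R := inferInstance
  apply Groth.Agent.Lib.helper17.LciCM.isCohenMacaulayRing_quotient_of_local
  intro Q _ hQ
  haveI := hR.isCohenMacaulayLocalRing_localization Q
  have hmap : (Ideal.span {r}).map (algebraMap R (Localization.AtPrime Q)) =
      Ideal.span {algebraMap R (Localization.AtPrime Q) r} := by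
    rw [Ideal.map_span, Set.image_singleton]
  have hmem : algebraMap R (Localization.AtPrime Q) r ∈
      IsLocalRing.maximalIdeal (Localization.AtPrime Q) := by
    rw [← Localization.AtPrime.map_eq_maximalIdeal]
    exact Ideal.mem_map_of_mem _ (hQ (Ideal.subset_span rfl))
  have hreg : IsSMulRegular (Localization.AtPrime Q) (algebraMap R (Localization.AtPrime Q) r) := by
    have h1 : algebraMap R (Localization.AtPrime Q) r ∈ nonZeroDivisors (Localization.AtPrime Q) :=
      IsLocalization.map_nonZeroDivisors_le Q.primeCompl (Localization.AtPrime Q)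
        (Submonoid.mem_map_of_mem _ hr)
    rw [isSMulRegular_iff_right_eq_zero_of_smul]
    intro y hy
    rw [smul_eq_mul, mul_comm] at hy
    exact (mem_nonZeroDivisors_iff_right.1 h1) y hy
  haveI := Groth.Agent.Lib.Helper24.HypersurfaceCM.cm_quotient_regular (Localization.AtPrime Q)
    (algebraMap R (Localization.AtPrime Q) r) hmem hreg
  exact Groth.Agent.S9808.cm_of_ringEquiv (Ideal.quotEquivOfEq hmap.symm)

end CMQuot

section DehomCM

variable (K : Type u) [Field K] {σ : Type} (J : Ideal (MvPolynomial σ K)) [J.IsPrime] (i : σ)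
  (hJ : ∀ f ∈ J, ∀ k, homogeneousComponent k f ∈ J)

include hJ in
theorem X_sub_one_notMem : (X i - 1 : MvPolynomial σ K) ∉ J := by
  intro h
  have h1 := hJ _ h 0
  rw [map_sub, homogeneousComponent_of_mem (show (X i : MvPolynomial σ K) ∈
      homogeneousSubmodule σ K 1 from isHomogeneous_X K i),
    homogeneousComponent_of_mem (show (1 : MvPolynomial σ K) ∈
      homogeneousSubmodule σ K 0 from isHomogeneous_one σ K), if_neg (by omega), if_pos rfl,
    zero_sub] at h1
  have h2 : (1 : MvPolynomial σ K) ∈ J := by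
    have := J.neg_mem h1
    rwa [neg_neg] at this
  exact (Ideal.IsPrime.ne_top inferInstance) ((Ideal.eq_top_iff_one J).2 h2)

/-- The dehomogenized ring as a quotient of `P/J` by `x_i - 1`. -/
noncomputable def quotEquiv : ((MvPolynomial σ K ⧸ J) ⧸
    Ideal.span {Ideal.Quotient.mk J (X i) - 1}) ≃+*
    (MvPolynomial σ K ⧸ (J ⊔ Ideal.span {(X i : MvPolynomial σ K) - 1})) :=
  (Ideal.quotEquivOfEq (by
    rw [Ideal.map_span, Set.image_singleton, map_sub, map_one])).trans
    (DoubleQuot.quotQuotEquivQuotSup J (Ideal.span {(X i : MvPolynomial σ K) - 1}))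

include hJ in
theorem mk_X_sub_one_mem_nonZeroDivisors :
    Ideal.Quotient.mk J (X i) - 1 ∈ nonZeroDivisors (MvPolynomial σ K ⧸ J) := by
  apply mem_nonZeroDivisors_of_ne_zero
  intro h
  have h1 : Ideal.Quotient.mk J (X i - 1) = 0 := by rw [map_sub, map_one]; exact h
  rw [Ideal.Quotient.eq_zero_iff_mem] at h1
  exact X_sub_one_notMem K J i hJ h1

include hJ in
/-- The dehomogenization of a Cohen–Macaulay graded domain is Cohen–Macaulay. -/
theorem isCohenMacaulayRing_quotient_sup [LocCoh.IsCohenMacaulayRing (MvPolynomial σ K ⧸ J)] :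
    LocCoh.IsCohenMacaulayRing
      (MvPolynomial σ K ⧸ (J ⊔ Ideal.span {(X i : MvPolynomial σ K) - 1})) := by
  haveI := isCohenMacaulayRing_quotient_span_singleton (MvPolynomial σ K ⧸ J)
    (Ideal.Quotient.mk J (X i) - 1) (mk_X_sub_one_mem_nonZeroDivisors K J i hJ)
  exact Groth.Agent.Lib.helper26.CMPoly.isCohenMacaulayRing_of_ringEquiv
    (R := (MvPolynomial σ K ⧸ J) ⧸ Ideal.span {Ideal.Quotient.mk J (X i) - 1}) (quotEquiv K J i)

include hJ in
/-- Dehomogenization drops the dimension by at least one. -/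
theorem ringKrullDim_quotient_sup_succ_le :
    ringKrullDim (MvPolynomial σ K ⧸ (J ⊔ Ideal.span {(X i : MvPolynomial σ K) - 1})) + 1 ≤
      ringKrullDim (MvPolynomial σ K ⧸ J) := by
  rw [← ringKrullDim_eq_of_ringEquiv
    (R := (MvPolynomial σ K ⧸ J) ⧸ Ideal.span {Ideal.Quotient.mk J (X i) - 1}) (quotEquiv K J i)]
  exact ringKrullDim_quotient_succ_le_of_nonZeroDivisor (mk_X_sub_one_mem_nonZeroDivisors K J i hJ)

end DehomCM

end Groth.Agent.Lib.helper10.DetV
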