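import Mathlib

/-!
# Factors of homogeneous elements in a `ℤ`-graded domain are homogeneous (helper10)
-/

set_option autoImplicit false

namespace Groth.Agent.Lib.helper10.GradedDomain

open DirectSum

variable {K A : Type*} [CommRing K] [CommRing A] [IsDomain A] [Algebra K A]
  (𝒜 : ℤ → Submodule K A) [GradedAlgebra 𝒜]

theorem homogeneous_left_of_mul (a b : A) (N : ℤ) (hab : a * b ∈ 𝒜 N) (h0 : a * b ≠ 0) :
    ∃ i, a ∈ 𝒜 i := by
  classical
  have ha0 : a ≠ 0 := left_ne_zero_of_mul h0
  have hb0 : b ≠ 0 := right_ne_zero_of_mul h0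
  obtain ⟨ra, hra⟩ : ∃ ra, ra = DirectSum.decompose 𝒜 a := ⟨_, rfl⟩
  obtain ⟨rb, hrb⟩ : ∃ rb, rb = DirectSum.decompose 𝒜 b := ⟨_, rfl⟩
  have hsa : ra.support.Nonempty := by
    rw [Finset.nonempty_iff_ne_empty]
    intro h
    apply ha0
    have h1 := DirectSum.sum_support_decompose 𝒜 a
    rw [← hra, h, Finset.sum_empty] at h1
    exact h1.symm
  have hsb : rb.support.Nonempty := by
    rw [Finset.nonempty_iff_ne_empty]
    intro h
    apply hb0
    have h1 := DirectSum.sum_support_decompose 𝒜 b
    rw [← hrb, h, Finset.sum_empty] at h1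
    exact h1.symm
  have key : ∀ n : ℤ, ((DirectSum.decompose 𝒜 (a * b)) n : A) =
      ∑ ij ∈ ra.support ×ˢ rb.support with ij.1 + ij.2 = n, ((ra ij.1 : A) * (rb ij.2 : A)) := by
    intro n
    rw [DirectSum.decompose_mul, ← hra, ← hrb]
    exact DirectSum.coe_mul_apply 𝒜 ra rb n
  have hzero : ∀ n : ℤ, n ≠ N → ((DirectSum.decompose 𝒜 (a * b)) n : A) = 0 := by
    intro n hn
    exact DirectSum.decompose_of_mem_ne 𝒜 hab (Ne.symm hn)
  have hne : ∀ i ∈ ra.support, (ra i : A) ≠ 0 := by
    intro i hi h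
    rw [DFinsupp.mem_support_iff] at hi
    exact hi (Subtype.ext h)
  have hne' : ∀ i ∈ rb.support, (rb i : A) ≠ 0 := by
    intro i hi h
    rw [DFinsupp.mem_support_iff] at hi
    exact hi (Subtype.ext h)
  -- the lowest term
  have hlow : ra.support.min' hsa + rb.support.min' hsb = N := by
    by_contra hcon
    have h1 := hzero _ hcon
    rw [key, Finset.sum_eq_single (ra.support.min' hsa, rb.support.min' hsb)] at h1
    · rcases mul_eq_zero.1 h1 with h | h
      · exact hne _ (Finset.min'_mem _ hsa) h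
      · exact hne' _ (Finset.min'_mem _ hsb) h
    · rintro ⟨i, j⟩ hij hneq
      rw [Finset.mem_filter, Finset.mem_product] at hij
      exfalso
      apply hneq
      have h2 := Finset.min'_le _ i hij.1.1
      have h3 := Finset.min'_le _ j hij.1.2
      have h4 : i + j = ra.support.min' hsa + rb.support.min' hsb := hij.2
      have h5 : i = ra.support.min' hsa := by omega
      have h6 : j = rb.support.min' hsb := by omega
      rw [h5, h6]
    · intro hnot
      exfalso
      apply hnot
      rw [Finset.mem_filter, Finset.mem_product]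
      exact ⟨⟨Finset.min'_mem _ hsa, Finset.min'_mem _ hsb⟩, rfl⟩
  -- the highest term
  have hhigh : ra.support.max' hsa + rb.support.max' hsb = N := by
    by_contra hcon
    have h1 := hzero _ hcon
    rw [key, Finset.sum_eq_single (ra.support.max' hsa, rb.support.max' hsb)] at h1
    · rcases mul_eq_zero.1 h1 with h | h
      · exact hne _ (Finset.max'_mem _ hsa) h
      · exact hne' _ (Finset.max'_mem _ hsb) h
    · rintro ⟨i, j⟩ hij hneq
      rw [Finset.mem_filter, Finset.mem_product] at hij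
      exfalso
      apply hneq
      have h2 := Finset.le_max' _ i hij.1.1
      have h3 := Finset.le_max' _ j hij.1.2
      have h4 : i + j = ra.support.max' hsa + rb.support.max' hsb := hij.2
      have h5 : i = ra.support.max' hsa := by omega
      have h6 : j = rb.support.max' hsb := by omega
      rw [h5, h6]
    · intro hnot
      exfalso
      apply hnot
      rw [Finset.mem_filter, Finset.mem_product]
      exact ⟨⟨Finset.max'_mem _ hsa, Finset.max'_mem _ hsb⟩, rfl⟩
  have h7 := Finset.min'_le_max' ra.support hsa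
  have h8 := Finset.min'_le_max' rb.support hsb
  have h9 : ra.support.min' hsa = ra.support.max' hsa := by omega
  refine ⟨ra.support.min' hsa, ?_⟩
  have hsup : ra.support = {ra.support.min' hsa} := by
    ext i
    rw [Finset.mem_singleton]
    constructor
    · intro hi
      have h10 := Finset.min'_le _ i hi
      have h11 := Finset.le_max' _ i hi
      omega
    · rintro rfl
      exact Finset.min'_mem _ hsa
  have h12 := DirectSum.sum_support_decompose 𝒜 a
  rw [← hra, hsup, Finset.sum_singleton] at h12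
  rw [← h12]
  exact (ra _).2

theorem homogeneous_right_of_mul (a b : A) (N : ℤ) (hab : a * b ∈ 𝒜 N) (h0 : a * b ≠ 0) :
    ∃ j, b ∈ 𝒜 j := by
  rw [mul_comm] at hab h0
  exact homogeneous_left_of_mul 𝒜 b a N hab h0

/-- In a graded domain with no negative degrees and `A_0 = K`, `K` a field, nonzero elements of degree
one are irreducible. -/
theorem irreducible_of_mem_one {K A : Type*} [Field K] [CommRing A] [IsDomain A] [Algebra K A]
    (𝒜 : ℤ → Submodule K A) [GradedAlgebra 𝒜]
    (hpos : ∀ n : ℤ, n < 0 → 𝒜 n = ⊥) (h0 : 𝒜 0 = Submodule.span K {(1 : A)})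
    (x : A) (hx : x ∈ 𝒜 1) (hx0 : x ≠ 0) : Irreducible x := by
  have hunit : ∀ a : A, a ≠ 0 → a ∈ 𝒜 0 → IsUnit a := by
    intro a ha0 ha
    rw [h0] at ha
    obtain ⟨c, rfl⟩ := Submodule.mem_span_singleton.1 ha
    have hc : c ≠ 0 := by
      rintro rfl
      exact ha0 (zero_smul K (1 : A))
    rw [Algebra.smul_def, mul_one]
    exact (IsUnit.mk0 c hc).map (algebraMap K A)
  have hdeg : ∀ (a : A) (i : ℤ), a ≠ 0 → a ∈ 𝒜 i → 0 ≤ i := by
    intro a i ha0 ha
    by_contra hneg
    rw [hpos i (not_le.1 hneg)] at ha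
    exact ha0 ((Submodule.mem_bot K).1 ha)
  refine ⟨?_, ?_⟩
  · intro hu
    -- a unit of degree one: `x * y = 1`
    obtain ⟨y, hy⟩ := hu.exists_right_inv
    have h1 : x * y ∈ 𝒜 0 := by rw [hy]; exact SetLike.GradedOne.one_mem
    have h2 : x * y ≠ 0 := by rw [hy]; exact one_ne_zero
    obtain ⟨j, hj⟩ := homogeneous_right_of_mul 𝒜 x y 0 h1 h2
    have hy0 : y ≠ 0 := right_ne_zero_of_mul h2
    have h3 : x * y ∈ 𝒜 (1 + j) := SetLike.GradedMul.mul_mem hx hj
    have h4 : (1 : ℤ) + j = 0 := by
      by_contra hne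
      exact h2 (DirectSum.decompose_of_mem_ne 𝒜 h3 hne ▸ by
        rw [DirectSum.decompose_of_mem_same 𝒜 h1])
    have h5 := hdeg y j hy0 hj
    omega
  · intro a b hab
    have h1 : a * b ∈ 𝒜 1 := by rw [← hab]; exact hx
    have h2 : a * b ≠ 0 := by rw [← hab]; exact hx0
    obtain ⟨i, hi⟩ := homogeneous_left_of_mul 𝒜 a b 1 h1 h2
    obtain ⟨j, hj⟩ := homogeneous_right_of_mul 𝒜 a b 1 h1 h2
    have ha0 : a ≠ 0 := left_ne_zero_of_mul h2
    have hb0 : b ≠ 0 := right_ne_zero_of_mul h2
    have h3 : a * b ∈ 𝒜 (i + j) := SetLike.GradedMul.mul_mem hi hj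
    have h4 : i + j = 1 := by
      by_contra hne
      exact h2 (DirectSum.decompose_of_mem_ne 𝒜 h3 hne ▸ by
        rw [DirectSum.decompose_of_mem_same 𝒜 h1])
    have h5 := hdeg a i ha0 hi
    have h6 := hdeg b j hb0 hj
    rcases (show i = 0 ∨ j = 0 by omega) with h | h
    · left
      rw [h] at hi
      exact hunit a ha0 hi
    · right
      rw [h] at hj
      exact hunit b hb0 hj

end Groth.Agent.Lib.helper10.GradedDomain
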