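import Groth.Agent.Lib.Helper10.SMT22
import Groth.Agent.Lib.Helper10.GradedDomain

/-!
# Standard monomial theory for the Grassmannian (helper10), part 23: factoriality of the cone
over a Schubert variety
-/

set_option autoImplicit false
set_option linter.unusedSectionVars false
set_option linter.style.haveILetI false

universe u

open MvPolynomial W4bk4grassmannian

namespace Groth.Agent.Lib.helper10.SMT

open Groth.Agent.Lib.helper26.Seg Groth.Agent.Lib.helper26.GrCM

attribute [local instance] MvPolynomial.weightedGradedAlgebra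

variable {d n : ℕ}

section Irred

variable (K : Type u) [Field K] [Infinite K] (hd : 0 < d) (τ : Idx d n)

include hd in
theorem irreducible_mk_X :
    Irreducible (Ideal.Quotient.mk (schubertVanishing K d n τ) (X τ)) := by
  obtain ⟨J, hJ⟩ : ∃ J : HomogeneousIdeal (stdGr K (Idx d n)),
      J.toIdeal = schubertVanishing K d n τ :=
    ⟨⟨schubertVanishing K d n τ, schubertVanishing_isHomogeneous K hd τ⟩, rfl⟩
  have hdom : IsDomain (PlRing K d n ⧸ J.toIdeal) := by
    rw [hJ]
    exact isDomain_schubert K hd τ
  have hne : Ideal.Quotient.mk J.toIdeal (X τ) ≠ 0 := by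
    intro h0
    rw [Ideal.Quotient.eq_zero_iff_mem, hJ] at h0
    exact mk_X_ne_zero K hd τ (Ideal.Quotient.eq_zero_iff_mem.2 h0)
  have h1 := Groth.Agent.Lib.helper10.GradedDomain.irreducible_of_mem_one
    (qGr (stdGr K (Idx d n)) J)
    (fun m hm => qGr_eq_bot _ _ (stdGr_eq_bot m hm)) (qGr_eq_span_one _ _ stdGr_zero)
    (Ideal.Quotient.mk J.toIdeal (X τ))
    (mk_mem_qGr _ _ (X_mem_stdGr τ)) hne
  revert h1
  rw [hJ]
  exact fun h => h

include hd in
theorem prime_mk_X_of_ufd
    (h : UniqueFactorizationMonoid (PlRing K d n ⧸ schubertVanishing K d n τ)) :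
    Prime (Ideal.Quotient.mk (schubertVanishing K d n τ) (X τ)) := by
  haveI := isDomain_schubert K hd τ
  exact UniqueFactorizationMonoid.irreducible_iff_prime.1 (irreducible_mk_X K hd τ)

end Irred

section Indep

variable (K : Type u) [Field K] [Infinite K] (hd : 0 < d) (τ : Idx d n)

include hd in
/-- The cell coordinates together with the minor on the rows `τ` are algebraically independent. -/
theorem cellGen_injective : Function.Injective (cellGen K hd τ) := by
  classical
  haveI := isDomain_schubert K hd τ
  rw [injective_iff_map_eq_zero]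
  intro f hf
  by_contra hf0
  -- the range
  obtain ⟨C, hC⟩ : ∃ C : Subalgebra K (FractionRing (MvPolynomial (Fin n × Fin d) K)),
      C = (cellGen K hd τ).range := ⟨_, rfl⟩
  -- upper bound for the dimension of the range
  have hup : ringKrullDim C ≤ (((codeg τ : ℕ) : ℕ∞) : WithBot ℕ∞) := by
    subst hC
    have h1 := ringKrullDim_succ_le_of_surjective
      (cellGen K hd τ).rangeRestrict.toRingHom (AlgHom.rangeRestrict_surjective _)
      (mem_nonZeroDivisors_of_ne_zero hf0) (by
        apply Subtype.ext
        exact hf)
    rw [MvPolynomial.ringKrullDim_of_isNoetherianRing, ringKrullDim_eq_zero_of_field, zero_add,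
      Nat.card_eq_fintype_card, Fintype.card_option, card_good] at h1
    have h2 : (((codeg τ + 1 : ℕ) : ℕ∞) : WithBot ℕ∞) =
        (((codeg τ : ℕ) : ℕ∞) : WithBot ℕ∞) + 1 := by
      push_cast
      rfl
    have h3 : ((codeg τ + 1 : ℕ) : WithBot ℕ∞) = (((codeg τ + 1 : ℕ) : ℕ∞) : WithBot ℕ∞) := rfl
    rw [h3, h2] at h1
    exact ENat.WithBot.add_le_add_one_right_iff.1 h1
  -- lower bound
  obtain ⟨s, g, hinj, hint⟩ := exists_integral_inj_algHom_of_fg K
    (PlRing K d n ⧸ schubertVanishing K d n τ)
  have h1 : ringKrullDim (PlRing K d n ⧸ schubertVanishing K d n τ) ≤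
      ringKrullDim (MvPolynomial (Fin s) K) :=
    Groth.Agent.Lib.helper19.FibreCone.ringKrullDim_le_of_isIntegral g.toRingHom hint
  rw [MvPolynomial.ringKrullDim_of_isNoetherianRing, ringKrullDim_eq_zero_of_field, zero_add,
    Nat.card_fin, krullDim_schubert K hd τ] at h1
  have hs : codeg τ + 1 ≤ s := by exact_mod_cast h1
  have hy : AlgebraicIndependent K (fun i : Fin s => g (X i)) := by
    have h2 : g = MvPolynomial.aeval (fun i : Fin s => g (X i)) := by
      apply MvPolynomial.algHom_ext
      intro i
      rw [aeval_X]
    show Function.Injective (MvPolynomial.aeval (fun i : Fin s => g (X i)))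
    rw [← h2]
    exact hinj
  have h3 : AlgebraicIndependent K (embL K τ ∘ fun i : Fin s => g (X i)) :=
    hy.map' (embL_injective K hd τ)
  have hmem : ∀ i, embL K τ (g (X i)) ∈ C := fun i => by rw [hC]; exact embL_mem K hd τ _
  have h4 : AlgebraicIndependent K (fun i => (⟨embL K τ (g (X i)), hmem i⟩ : C)) := by
    apply AlgebraicIndependent.of_comp C.val
    exact h3
  haveI : Algebra.FiniteType K C := by
    subst hC
    exact Algebra.FiniteType.of_surjective (cellGen K hd τ).rangeRestrict
      (AlgHom.rangeRestrict_surjective _)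
  have h5 := Groth.Agent.Lib.helper19.FibreCone.le_ringKrullDim_of_algebraicIndependent_of_isDomain
    K C s _ h4
  have h6 := h5.trans hup
  have h7 : s ≤ codeg τ := by exact_mod_cast h6
  omega

end Indep

section UFD

variable (K : Type u) [Field K] [Infinite K] (hd : 0 < d) (τ : Idx d n)

/-- The embedding of the coordinate ring of the cone into the polynomial ring on the cell
coordinates and the minor on the rows `τ`. -/
noncomputable def gam : (PlRing K d n ⧸ schubertVanishing K d n τ) →ₐ[K]
    MvPolynomial (Option (Good τ)) K :=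
  ((AlgEquiv.ofInjective (cellGen K hd τ) (cellGen_injective K hd τ)).symm :
    (cellGen K hd τ).range →ₐ[K] MvPolynomial (Option (Good τ)) K).comp
    ((embL K τ).codRestrict (cellGen K hd τ).range (embL_mem K hd τ))

theorem cellGen_gam (c : PlRing K d n ⧸ schubertVanishing K d n τ) :
    cellGen K hd τ (gam K hd τ c) = embL K τ c := by
  unfold gam
  rw [AlgHom.comp_apply]
  have h := (AlgEquiv.ofInjective (cellGen K hd τ) (cellGen_injective K hd τ)).apply_symm_apply
    ((embL K τ).codRestrict (cellGen K hd τ).range (embL_mem K hd τ) c)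
  have h2 := congrArg Subtype.val h
  rw [AlgEquiv.ofInjective_apply] at h2
  exact h2

theorem gam_injective : Function.Injective (gam K hd τ) := by
  intro a b hab
  apply embL_injective K hd τ
  rw [← cellGen_gam K hd τ, ← cellGen_gam K hd τ, hab]

theorem cellGen_X_none : cellGen K hd τ (X none) = topL K τ := by
  unfold cellGen
  rw [aeval_X]
  rfl

theorem embL_mk (a : PlRing K d n) :
    embL K τ (Ideal.Quotient.mk (schubertVanishing K d n τ) a) =
      algebraMap (MvPolynomial (Fin n × Fin d) K) (FractionRing (MvPolynomial (Fin n × Fin d) K))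
        (shapeEval K τ a) := by
  unfold embL
  rw [AlgHom.comp_apply, evA_mk]
  rfl

theorem gam_mk_X : gam K hd τ (Ideal.Quotient.mk (schubertVanishing K d n τ) (X τ)) = X none := by
  apply cellGen_injective K hd τ
  rw [cellGen_gam, cellGen_X_none, embL_mk, ← pow_one (X τ), ← topL_pow, pow_one]

theorem cellGen_range_le : (cellGen K hd τ).range ≤ cellAlg K τ := by
  have h1 : (cellGen K hd τ).range = Algebra.adjoin K (Set.range fun o : Option (Good τ) =>
      Option.elim o (topL K τ) (fun p => rho K hd τ (X p.1))) := by
    unfold cellGen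
    rw [Algebra.adjoin_range_eq_range_aeval]
  rw [h1]
  apply Algebra.adjoin_le
  rintro _ ⟨o, rfl⟩
  cases o with
  | none =>
    show topL K τ ∈ cellAlg K τ
    rw [mem_cellAlg]
    exact ⟨X τ, 0, by rw [pow_zero, mul_one, ← pow_one (X τ), ← topL_pow, pow_one]⟩
  | some p => exact rho_mem_cellAlg K hd τ (X p.1)

/-- Every polynomial in the cell coordinates becomes, after multiplication by a power of the
minor on the rows `τ`, an element of the coordinate ring of the cone. -/
theorem exists_gam_eq (q : MvPolynomial (Option (Good τ)) K) :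
    ∃ (a : PlRing K d n ⧸ schubertVanishing K d n τ) (k : ℕ),
      q * X none ^ k = gam K hd τ a := by
  have h1 : cellGen K hd τ q ∈ cellAlg K τ := cellGen_range_le K hd τ ⟨q, rfl⟩
  rw [mem_cellAlg] at h1
  obtain ⟨a, k, hak⟩ := h1
  refine ⟨Ideal.Quotient.mk _ a, k, ?_⟩
  apply cellGen_injective K hd τ
  rw [cellGen_gam, embL_mk, ← hak, map_mul, map_pow, cellGen_X_none]

include hd in
/-- If the class of the Plücker coordinate `X τ` is prime, the coordinate ring of the cone over
the Schubert variety is factorial. -/
theorem ufd_of_prime_mk_X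
    (h : Prime (Ideal.Quotient.mk (schubertVanishing K d n τ) (X τ))) :
    UniqueFactorizationMonoid (PlRing K d n ⧸ schubertVanishing K d n τ) := by
  haveI := isDomain_schubert K hd τ
  letI : Algebra (PlRing K d n ⧸ schubertVanishing K d n τ)
      (Localization.Away (X none : MvPolynomial (Option (Good τ)) K)) :=
    ((algebraMap (MvPolynomial (Option (Good τ)) K)
      (Localization.Away (X none : MvPolynomial (Option (Good τ)) K))).comp
        (gam K hd τ).toRingHom).toAlgebra
  have halg : ∀ c : PlRing K d n ⧸ schubertVanishing K d n τ,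
      algebraMap (PlRing K d n ⧸ schubertVanishing K d n τ)
        (Localization.Away (X none : MvPolynomial (Option (Good τ)) K)) c =
      algebraMap (MvPolynomial (Option (Good τ)) K)
        (Localization.Away (X none : MvPolynomial (Option (Good τ)) K)) (gam K hd τ c) :=
    fun c => rfl
  have hinjL : Function.Injective (algebraMap (MvPolynomial (Option (Good τ)) K)
      (Localization.Away (X none : MvPolynomial (Option (Good τ)) K))) := by
    apply IsLocalization.injective _
      (M := Submonoid.powers (X none : MvPolynomial (Option (Good τ)) K))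
    apply powers_le_nonZeroDivisors_of_noZeroDivisors
    exact X_ne_zero _
  haveI : IsLocalization.Away (Ideal.Quotient.mk (schubertVanishing K d n τ) (X τ))
      (Localization.Away (X none : MvPolynomial (Option (Good τ)) K)) := by
    show IsLocalization (Submonoid.powers _) _
    rw [isLocalization_iff]
    refine ⟨?_, ?_, ?_⟩
    · rintro ⟨y, k, rfl⟩
      show IsUnit (algebraMap _ _ (_ ^ k))
      rw [map_pow, halg, gam_mk_X]
      apply IsUnit.pow
      exact IsLocalization.Away.algebraMap_isUnit _
    · intro z
      obtain ⟨⟨q, ⟨_, j, rfl⟩⟩, hq⟩ := IsLocalization.surj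
        (Submonoid.powers (X none : MvPolynomial (Option (Good τ)) K)) z
      obtain ⟨a, k, hak⟩ := exists_gam_eq K hd τ q
      refine ⟨⟨a, ⟨_, j + k, rfl⟩⟩, ?_⟩
      show z * algebraMap _ _ (_ ^ (j + k)) = algebraMap _ _ a
      rw [halg, halg, ← hak, map_pow, gam_mk_X, map_mul, ← hq, pow_add, map_mul]
      ring
    · intro a b hab
      rw [halg, halg] at hab
      have := gam_injective K hd τ (hinjL hab)
      exact ⟨1, by rw [this]⟩
  exact (UniqueFactorizationMonoid.iff_of_isLocalizationAway_of_prime h
    (Localization.Away (X none : MvPolynomial (Option (Good τ)) K))).2 inferInstance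

end UFD

end Groth.Agent.Lib.helper10.SMT
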