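import Groth.Agent.Lib.Helper10.DetV3
import Groth.Agent.Lib.Helper10.SMT23

/-!
# The opposite big cell of a Schubert variety (helper10)

For `τ ∈ I(d,n)`, the ring `K[X_θ]/(J(τ) + (X_ι - 1))` (`ι` the least element) — the coordinate
ring of the intersection of the Schubert variety `X(τ)` with the opposite big cell — is a normal
Cohen–Macaulay domain of dimension `codeg τ`.
-/

set_option autoImplicit false
set_option linter.unusedSectionVars false
set_option linter.style.haveILetI false

universe u

open MvPolynomial W4bk4grassmannian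

namespace Groth.Agent.Lib.helper10.DetV

open Groth.Agent.Lib.helper10.SMT
open Groth.Agent.Lib.helper26.Seg Groth.Agent.Lib.helper26.GrCM

attribute [local instance] MvPolynomial.weightedGradedAlgebra

variable {d n : ℕ}

theorem weightedHomogeneousComponent_one_eq {K : Type*} [CommRing K] {σ : Type*} (k : ℕ)
    (p : MvPolynomial σ K) :
    weightedHomogeneousComponent (fun _ : σ => (1 : ℤ)) (k : ℤ) p = homogeneousComponent k p := by
  classical
  ext s
  rw [coeff_weightedHomogeneousComponent, coeff_homogeneousComponent]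
  have h1 : Finsupp.weight (fun _ : σ => (1 : ℤ)) s = ((s.degree : ℕ) : ℤ) := by
    rw [Finsupp.weight_apply, Finsupp.degree_apply, Finsupp.sum]
    push_cast
    refine Finset.sum_congr rfl fun i _ => ?_
    simp
  rw [h1]
  by_cases h : s.degree = k
  · rw [if_pos h, if_pos (by rw [h])]
  · rw [if_neg h, if_neg (by exact_mod_cast h)]

section Schubert

variable (K : Type u) [Field K] [Infinite K] (hd : 0 < d) (τ : Idx d n)

include hd in
theorem homogeneousComponent_mem_schubertVanishing (f : PlRing K d n)
    (hf : f ∈ schubertVanishing K d n τ) (k : ℕ) :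
    homogeneousComponent k f ∈ schubertVanishing K d n τ := by
  classical
  rw [← weightedHomogeneousComponent_one_eq]
  exact weightedHomogeneousComponent_mem_of_mem K _ (schubertVanishing_isHomogeneous K hd τ) hf _

include hd in
theorem isPrime_schubertVanishing : (schubertVanishing K d n τ).IsPrime :=
  (Ideal.Quotient.isDomain_iff_prime _).1 (isDomain_schubert K hd τ)

theorem X_notMem_schubertVanishing (θ : Idx d n) (h : θ ≤ τ) :
    (X θ : PlRing K d n) ∉ schubertVanishing K d n τ := by
  intro h0
  have h1 := shapeEval_eq_zero_of_mem K τ _ h0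
  have h2 := wtMinor_ne_zero K τ θ h
  apply h2
  unfold wtMinor
  rw [← shapeEval_X, h1, map_zero]

/-- The ideal of the intersection of the Schubert variety with the opposite big cell. -/
noncomputable def cellQ : Ideal (PlRing K d n) :=
  schubertVanishing K d n τ ⊔ Ideal.span {(X (iotaOf τ) : PlRing K d n) - 1}

include hd in
theorem cellQ_isPrime : (cellQ K τ).IsPrime := by
  haveI := isPrime_schubertVanishing K hd τ
  exact isPrime_sup K (schubertVanishing K d n τ) (iotaOf τ)
    (X_notMem_schubertVanishing K τ _ (iotaOf_le τ τ))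
    (homogeneousComponent_mem_schubertVanishing K hd τ)

include hd in
theorem cellQ_isCohenMacaulayRing
    [LocCoh.IsCohenMacaulayRing (PlRing K d n ⧸ schubertVanishing K d n τ)] :
    LocCoh.IsCohenMacaulayRing (PlRing K d n ⧸ cellQ K τ) := by
  haveI := isPrime_schubertVanishing K hd τ
  exact isCohenMacaulayRing_quotient_sup K (schubertVanishing K d n τ) (iotaOf τ)
    (homogeneousComponent_mem_schubertVanishing K hd τ)

include hd in
theorem cellQ_isIntegrallyClosed
    [IsIntegrallyClosed (PlRing K d n ⧸ schubertVanishing K d n τ)] :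
    IsIntegrallyClosed (PlRing K d n ⧸ cellQ K τ) := by
  haveI := isPrime_schubertVanishing K hd τ
  exact isIntegrallyClosed_quotient_sup K (schubertVanishing K d n τ) (iotaOf τ)
    (X_notMem_schubertVanishing K τ _ (iotaOf_le τ τ))
    (homogeneousComponent_mem_schubertVanishing K hd τ)

include hd in
theorem X_notMem_cellQ (θ : Idx d n) (h : θ ≤ τ) : (X θ : PlRing K d n) ∉ cellQ K τ := by
  haveI := isPrime_schubertVanishing K hd τ
  intro hmem
  unfold cellQ at hmem
  rw [← ker_dehom K (schubertVanishing K d n τ) (iotaOf τ)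
    (X_notMem_schubertVanishing K τ _ (iotaOf_le τ τ))
    (homogeneousComponent_mem_schubertVanishing K hd τ), RingHom.mem_ker] at hmem
  have h1 := (dehom_eq_zero_iff_of_isHomogeneous K (schubertVanishing K d n τ) (iotaOf τ)
    (X_notMem_schubertVanishing K τ _ (iotaOf_le τ τ)) (isHomogeneous_X K θ)).1 hmem
  exact X_notMem_schubertVanishing K τ θ h h1

theorem iotaOf_eq (φ τ : Idx d n) : iotaOf φ = iotaOf τ := by
  apply Subtype.ext
  funext t
  apply Fin.ext
  rfl

theorem cellQ_mono {φ τ : Idx d n} (h : φ ≤ τ) : cellQ K τ ≤ cellQ K φ := by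
  unfold cellQ
  rw [iotaOf_eq φ τ]
  exact sup_le_sup_right (schubertVanishing_mono K h) _

include hd in
theorem cellQ_dim_lower : ∀ (c : ℕ) (τ : Idx d n), codeg τ = c →
    (((c : ℕ) : ℕ∞) : WithBot ℕ∞) ≤ ringKrullDim (PlRing K d n ⧸ cellQ K τ) := by
  intro c
  induction c with
  | zero =>
    intro τ _
    haveI := cellQ_isPrime K hd τ
    haveI : Nontrivial (PlRing K d n ⧸ cellQ K τ) := Ideal.Quotient.nontrivial_iff.2
      (Ideal.IsPrime.ne_top inferInstance)
    exact ringKrullDim_nonneg_of_nontrivial
  | succ c ih =>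
    intro τ hτ
    obtain ⟨φ₀, hφ₀⟩ := exists_lt_of_codeg_pos τ (by omega)
    obtain ⟨φ, hφ, -⟩ := Groth.Agent.S11268.result d n φ₀ τ hφ₀
    have hcφ : codeg φ = c := by
      have := hφ.2
      omega
    haveI := cellQ_isPrime K hd τ
    have hle : cellQ K τ ≤ cellQ K φ := cellQ_mono K hφ.1.le
    have hnz : Ideal.Quotient.mk (cellQ K τ) (X τ) ∈ nonZeroDivisors (PlRing K d n ⧸ cellQ K τ) := by
      apply mem_nonZeroDivisors_of_ne_zero
      intro h0
      rw [Ideal.Quotient.eq_zero_iff_mem] at h0
      exact X_notMem_cellQ K hd τ τ le_rfl h0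
    have h1 := ringKrullDim_succ_le_of_surjective (Ideal.Quotient.factor hle)
      (Ideal.Quotient.factor_surjective hle) hnz (by
        rw [Ideal.Quotient.factor_mk, Ideal.Quotient.eq_zero_iff_mem]
        unfold cellQ
        exact Ideal.mem_sup_left (X_mem_schubertVanishing K φ τ (not_le_of_gt hφ.1)))
    refine le_trans ?_ h1
    have h2 := ih φ hcφ
    have h3 : (((c + 1 : ℕ) : ℕ∞) : WithBot ℕ∞) = (((c : ℕ) : ℕ∞) : WithBot ℕ∞) + 1 := by
      push_cast
      rfl
    rw [h3]
    exact add_le_add_left h2 1

include hd in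
/-- The dimension of the opposite cell of a Schubert variety. -/
theorem cellQ_dim : ringKrullDim (PlRing K d n ⧸ cellQ K τ) =
    (((codeg τ : ℕ) : ℕ∞) : WithBot ℕ∞) := by
  apply le_antisymm _ (cellQ_dim_lower K hd (codeg τ) τ rfl)
  haveI := isPrime_schubertVanishing K hd τ
  have h1 := ringKrullDim_quotient_sup_succ_le K (schubertVanishing K d n τ) (iotaOf τ)
    (homogeneousComponent_mem_schubertVanishing K hd τ)
  rw [krullDim_schubert K hd τ] at h1
  have h2 : (((codeg τ + 1 : ℕ) : ℕ∞) : WithBot ℕ∞) =
      (((codeg τ : ℕ) : ℕ∞) : WithBot ℕ∞) + 1 := by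
    push_cast
    rfl
  rw [h2] at h1
  exact ENat.WithBot.add_le_add_one_right_iff.1 h1

end Schubert

end Groth.Agent.Lib.helper10.DetV
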