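import Mathlib
import Groth.Prelude.Def_CAlgX

/-!
# Minors of the matrix `[1; X]` (helper10)

* `bigMat X`: the `(n + m) × n` matrix with the identity on top of the `m × n` matrix `X`.
* `det_bigMat_updateRows`: replacing the rows `g k` of the identity by the rows `f k` of `X`
  gives the determinant of `X.submatrix f g`.
* `det_bigMat_mem_minorIdeal`: a maximal minor of `[1; X]` using at least `t` rows of `X` lies in
  the ideal of `t × t` minors of `X`.
-/

set_option autoImplicit false
set_option linter.unusedSectionVars false
set_option linter.style.haveILetI false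

namespace Groth.Agent.Lib.helper10.DetV

section BigMat

variable {R : Type*} [CommRing R] {m n : ℕ}

/-- The `(n + m) × n` matrix with the identity on top of `X`. -/
def bigMat (X : Matrix (Fin m) (Fin n) R) : Matrix (Fin (n + m)) (Fin n) R :=
  Matrix.of fun s j => Fin.addCases (motive := fun _ => R)
    (fun c : Fin n => (1 : Matrix (Fin n) (Fin n) R) c j) (fun i : Fin m => X i j) s

theorem bigMat_castAdd (X : Matrix (Fin m) (Fin n) R) (c j : Fin n) :
    bigMat X (Fin.castAdd m c) j = (1 : Matrix (Fin n) (Fin n) R) c j := by
  unfold bigMat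
  rw [Matrix.of_apply, Fin.addCases_left]

theorem bigMat_natAdd (X : Matrix (Fin m) (Fin n) R) (i : Fin m) (j : Fin n) :
    bigMat X (Fin.natAdd n i) j = X i j := by
  unfold bigMat
  rw [Matrix.of_apply, Fin.addCases_right]

theorem bigMat_map {S : Type*} [CommRing S] (f : R →+* S) (X : Matrix (Fin m) (Fin n) R) :
    (bigMat X).map f = bigMat (X.map f) := by
  ext s j
  rw [Matrix.map_apply]
  induction s using Fin.addCases with
  | left c =>
    rw [bigMat_castAdd, bigMat_castAdd, Matrix.one_apply, Matrix.one_apply]
    split_ifs
    · exact map_one f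
    · exact map_zero f
  | right i =>
    rw [bigMat_natAdd, bigMat_natAdd, Matrix.map_apply]

/-- Replacing the rows `g k` of the identity by the rows `f k` of `X`. -/
noncomputable def updRows {t : ℕ} (f : Fin t → Fin m) (g : Fin t → Fin n) (c : Fin n) :
    Fin (n + m) :=
  open Classical in
  if h : ∃ k, g k = c then Fin.natAdd n (f h.choose) else Fin.castAdd m c

theorem updRows_apply_of_eq {t : ℕ} (f : Fin t → Fin m) (g : Fin t → Fin n)
    (hg : Function.Injective g) (k : Fin t) : updRows f g (g k) = Fin.natAdd n (f k) := by
  unfold updRows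
  have h : ∃ k', g k' = g k := ⟨k, rfl⟩
  rw [dif_pos h]
  have := hg h.choose_spec
  rw [this]

theorem updRows_apply_of_ne {t : ℕ} (f : Fin t → Fin m) (g : Fin t → Fin n) (c : Fin n)
    (hc : ∀ k, g k ≠ c) : updRows f g c = Fin.castAdd m c := by
  unfold updRows
  rw [dif_neg]
  rintro ⟨k, hk⟩
  exact hc k hk

theorem det_bigMat_updRows (X : Matrix (Fin m) (Fin n) R) {t : ℕ} (f : Fin t → Fin m)
    (g : Fin t → Fin n) (hg : Function.Injective g) :
    ((bigMat X).submatrix (updRows f g) id).det = (X.submatrix f g).det := by
  classical
  obtain ⟨U, hU⟩ : ∃ U : Matrix (Fin n) (Fin t) R,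
      U = Matrix.of fun c k => if g k = c then 1 else 0 := ⟨_, rfl⟩
  obtain ⟨V, hV⟩ : ∃ V : Matrix (Fin t) (Fin n) R,
      V = Matrix.of fun k j => X (f k) j - if g k = j then 1 else 0 := ⟨_, rfl⟩
  have h1 : (bigMat X).submatrix (updRows f g) id = 1 + U * V := by
    refine Matrix.ext fun c j => ?_
    rw [Matrix.submatrix_apply, id, Matrix.add_apply, Matrix.mul_apply]
    by_cases hc : ∃ k, g k = c
    · obtain ⟨k, rfl⟩ := hc
      rw [updRows_apply_of_eq f g hg, bigMat_natAdd, Finset.sum_eq_single k]
      · rw [hU, hV, Matrix.of_apply, Matrix.of_apply, if_pos rfl, one_mul, Matrix.one_apply]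
        ring
      · intro k' _ hk'
        rw [hU, Matrix.of_apply, if_neg (fun h => hk' (hg h)), zero_mul]
      · intro h
        exact absurd (Finset.mem_univ _) h
    · push Not at hc
      rw [updRows_apply_of_ne f g c hc, bigMat_castAdd, Finset.sum_eq_zero, add_zero]
      intro k _
      rw [hU, Matrix.of_apply, if_neg (hc k), zero_mul]
  have h2 : X.submatrix f g = 1 + V * U := by
    refine Matrix.ext fun k k' => ?_
    rw [Matrix.submatrix_apply, Matrix.add_apply, Matrix.mul_apply, Finset.sum_eq_single (g k')]
    · rw [hU, hV, Matrix.of_apply, Matrix.of_apply, if_pos rfl, mul_one, Matrix.one_apply]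
      by_cases hkk : k = k'
      · subst hkk
        rw [if_pos rfl, if_pos rfl]
        ring
      · rw [if_neg hkk, if_neg (fun h => hkk (hg h))]
        ring
    · intro c _ hc
      rw [hU, Matrix.of_apply, if_neg (fun h => hc h.symm), mul_zero]
    · intro h
      exact absurd (Finset.mem_univ _) h
  rw [h1, h2, Matrix.det_one_add_mul_comm]

/-- The number of rows of `X` among the rows `a`. -/
def cntX {k : ℕ} (a : Fin k → Fin (n + m)) : ℕ :=
  (Finset.univ.filter fun i => n ≤ (a i).val).card

theorem cntX_succAbove {k : ℕ} (a : Fin (k + 1) → Fin (n + m)) (i₀ : Fin (k + 1)) :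
    cntX (m := m) (n := n) a =
      (if n ≤ (a i₀).val then 1 else 0) + cntX (m := m) (n := n) (a ∘ i₀.succAbove) := by
  unfold cntX
  rw [Finset.card_filter, Finset.card_filter, Fin.sum_univ_succAbove _ i₀]
  rfl

theorem cntX_le {k : ℕ} (a : Fin k → Fin (n + m)) : cntX (m := m) (n := n) a ≤ k := by
  unfold cntX
  have := Finset.card_filter_le (Finset.univ : Finset (Fin k)) (fun i => n ≤ (a i).val)
  rw [Finset.card_univ, Fintype.card_fin] at this
  exact this

/-- A minor of `[1; X]` using at least `t` rows of `X` lies in the ideal of `t × t` minors of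
`X`. -/
theorem det_bigMat_mem_minorIdeal (X : Matrix (Fin m) (Fin n) R) (t : ℕ) (ht : 1 ≤ t) :
    ∀ (k : ℕ) (a : Fin k → Fin (n + m)) (b : Fin k → Fin n), t ≤ cntX (m := m) (n := n) a →
      ((bigMat X).submatrix a b).det ∈ CAlgX.minorIdeal X t := by
  intro k
  induction k with
  | zero =>
    intro a b h
    have := cntX_le (m := m) (n := n) a
    omega
  | succ k ih =>
    intro a b h
    -- expansion along a row `i₀` such that the remaining rows still contain `t` rows of `X`
    have hexp : ∀ i₀ : Fin (k + 1), t ≤ cntX (m := m) (n := n) (a ∘ i₀.succAbove) →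
        ((bigMat X).submatrix a b).det ∈ CAlgX.minorIdeal X t := by
      intro i₀ hi₀
      rw [Matrix.det_succ_row _ i₀]
      apply Ideal.sum_mem
      intro j _
      apply Ideal.mul_mem_left
      have : ((bigMat X).submatrix a b).submatrix i₀.succAbove j.succAbove =
          (bigMat X).submatrix (a ∘ i₀.succAbove) (b ∘ j.succAbove) := rfl
      rw [this]
      exact ih _ _ hi₀
    by_cases hunit : ∃ i₀, (a i₀).val < n
    · obtain ⟨i₀, hi₀⟩ := hunit
      apply hexp i₀
      have := cntX_succAbove (m := m) (n := n) a i₀
      rw [if_neg (by omega)] at this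
      omega
    · push Not at hunit
      by_cases hk : t ≤ k
      · apply hexp 0
        have := cntX_succAbove (m := m) (n := n) a 0
        rw [if_pos (hunit 0)] at this
        have hcnt : cntX (m := m) (n := n) a = k + 1 := by
          unfold cntX
          rw [Finset.filter_true_of_mem (fun i _ => hunit i), Finset.card_univ, Fintype.card_fin]
        omega
      · have hkt : k + 1 = t := by
          have := cntX_le (m := m) (n := n) a
          omega
        subst hkt
        have hM : (bigMat X).submatrix a b =
            X.submatrix (fun i => (⟨(a i).val - n, by have := (a i).isLt; have := hunit i; omega⟩ :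
              Fin m)) b := by
          refine Matrix.ext fun i j => ?_
          rw [Matrix.submatrix_apply, Matrix.submatrix_apply]
          have : a i = Fin.natAdd n (⟨(a i).val - n, by
              have := (a i).isLt; have := hunit i; omega⟩ : Fin m) := by
            apply Fin.ext
            show (a i).val = n + ((a i).val - n)
            have := hunit i
            omega
          conv_lhs => rw [this]
          rw [bigMat_natAdd]
        rw [hM]
        exact Ideal.subset_span ⟨(_, b), rfl⟩

end BigMat

end Groth.Agent.Lib.helper10.DetV
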