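import Groth.Agent.Lib.Helper10.SMT17
import Groth.Agent.Lib.Helper19.FibreCone3
import Groth.Agent.S11268

/-!
# Standard monomial theory for the Grassmannian (helper10), part 18: the Krull dimension of the
cone over a Schubert variety
-/

set_option autoImplicit false
set_option linter.unusedSectionVars false
set_option linter.style.haveILetI false

universe u

open MvPolynomial W4bk4grassmannian

namespace Groth.Agent.Lib.helper10.SMT

variable {d n : ℕ}

/-! ### Combinatorics -/

theorem val_le_idx (τ : Idx d n) (t : Fin d) : t.val ≤ (τ.1 t).val := by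
  obtain ⟨k, hk⟩ := t
  induction k with
  | zero => exact Nat.zero_le _
  | succ k ih =>
    have h1 := ih (by omega)
    have h2 : τ.1 ⟨k, by omega⟩ < τ.1 ⟨k + 1, hk⟩ := τ.2 (by
      rw [Fin.lt_def]; exact Nat.lt_succ_self k)
    rw [Fin.lt_def] at h2
    show k + 1 ≤ _
    simp only at h1
    omega

/-- The smallest element of `I(d,n)` (which exists as soon as `I(d,n)` is nonempty). -/
def iotaOf (τ : Idx d n) : Idx d n :=
  ⟨fun t => ⟨t.val, lt_of_le_of_lt (val_le_idx τ t) (τ.1 t).isLt⟩, fun a b hab => by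
    rw [Fin.lt_def] at hab ⊢; exact hab⟩

theorem iotaOf_le (τ φ : Idx d n) : iotaOf τ ≤ φ := by
  intro t
  rw [Fin.le_def]
  exact val_le_idx φ t

theorem codeg_iotaOf (τ : Idx d n) : codeg (iotaOf τ) = 0 := by
  unfold codeg
  apply Finset.sum_eq_zero
  intro t _
  show t.val - t.val = 0
  omega

theorem exists_lt_of_codeg_pos (τ : Idx d n) (h : 0 < codeg τ) : ∃ φ : Idx d n, φ < τ := by
  refine ⟨iotaOf τ, lt_of_le_of_ne (iotaOf_le τ τ) ?_⟩
  intro heq
  rw [← heq, codeg_iotaOf] at h
  exact lt_irrefl _ h

/-! ### The lower bound -/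

section Lower

variable (K : Type u) [Field K] [Infinite K] (hd : 0 < d)

/-- Evaluation at the zero matrix, on the quotient. -/
noncomputable def evZero (τ : Idx d n) : (PlRing K d n ⧸ schubertVanishing K d n τ) →+* K :=
  Ideal.Quotient.lift (schubertVanishing K d n τ) (evalMinors K d n 0).toRingHom (by
    intro f hf
    unfold schubertVanishing at hf
    rw [Ideal.mem_iInf] at hf
    have h1 := hf 0
    rw [Ideal.mem_iInf] at h1
    have h2 := h1 (by
      intro φ _
      haveI : Nonempty (Fin d) := ⟨⟨0, hd⟩⟩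
      have : (0 : Matrix (Fin n) (Fin d) K).submatrix φ.1 id = 0 := rfl
      rw [this, Matrix.det_zero])
    exact h2)

include hd in
theorem evZero_mk_X (τ θ : Idx d n) :
    evZero K hd τ (Ideal.Quotient.mk (schubertVanishing K d n τ) (X θ)) = 0 := by
  unfold evZero
  rw [Ideal.Quotient.lift_mk]
  show evalMinors K d n 0 (X θ) = 0
  unfold evalMinors
  rw [aeval_X]
  haveI : Nonempty (Fin d) := ⟨⟨0, hd⟩⟩
  have : (0 : Matrix (Fin n) (Fin d) K).submatrix θ.1 id = 0 := rfl
  rw [this, Matrix.det_zero]

include hd in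
theorem evZero_surjective (τ : Idx d n) : Function.Surjective (evZero K hd τ) := by
  intro c
  refine ⟨Ideal.Quotient.mk _ (C c), ?_⟩
  unfold evZero
  rw [Ideal.Quotient.lift_mk]
  show evalMinors K d n 0 (C c) = c
  rw [← MvPolynomial.algebraMap_eq, AlgHom.commutes]
  rfl

include hd in
theorem mk_X_mem_nonZeroDivisors (τ : Idx d n) :
    Ideal.Quotient.mk (schubertVanishing K d n τ) (X τ) ∈
      nonZeroDivisors (PlRing K d n ⧸ schubertVanishing K d n τ) := by
  haveI := isDomain_schubert K hd τ
  exact mem_nonZeroDivisors_of_ne_zero (mk_X_ne_zero K hd τ)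

include hd in
theorem krullDim_lower : ∀ (c : ℕ) (τ : Idx d n), codeg τ = c →
    (((c + 1 : ℕ) : ℕ∞) : WithBot ℕ∞) ≤
      ringKrullDim (PlRing K d n ⧸ schubertVanishing K d n τ) := by
  intro c
  induction c with
  | zero =>
    intro τ _
    have h1 := ringKrullDim_succ_le_of_surjective (evZero K hd τ) (evZero_surjective K hd τ)
      (mk_X_mem_nonZeroDivisors K hd τ) (evZero_mk_X K hd τ τ)
    rw [ringKrullDim_eq_zero_of_field, zero_add] at h1
    refine le_trans ?_ h1
    norm_num
  | succ c ih =>
    intro τ hτ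
    obtain ⟨φ₀, hφ₀⟩ := exists_lt_of_codeg_pos τ (by omega)
    obtain ⟨φ, hφ, -⟩ := Groth.Agent.S11268.result d n φ₀ τ hφ₀
    have hcφ : codeg φ = c := by
      have := hφ.2
      omega
    have hle : schubertVanishing K d n τ ≤ schubertVanishing K d n φ :=
      schubertVanishing_mono K hφ.1.le
    have h1 := ringKrullDim_succ_le_of_surjective (Ideal.Quotient.factor hle)
      (Ideal.Quotient.factor_surjective hle)
      (mk_X_mem_nonZeroDivisors K hd τ) (by
        rw [Ideal.Quotient.factor_mk, Ideal.Quotient.eq_zero_iff_mem]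
        exact X_mem_schubertVanishing K φ τ (not_le_of_gt hφ.1))
    refine le_trans ?_ h1
    have h2 := ih φ hcφ
    have h3 : (((c + 1 + 1 : ℕ) : ℕ∞) : WithBot ℕ∞) =
        (((c + 1 : ℕ) : ℕ∞) : WithBot ℕ∞) + 1 := by
      push_cast
      rfl
    rw [h3]
    exact add_le_add_left h2 1

end Lower

/-! ### Counting the cell coordinates -/

section Count

/-- The positions of the cell coordinates. -/
abbrev Good (τ : Idx d n) : Type :=
  {p : Fin n × Fin d // p.1 < τ.1 p.2 ∧ ∀ t' : Fin d, τ.1 t' ≠ p.1}

noncomputable instance (τ : Idx d n) : Fintype (Good τ) := by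
  classical
  infer_instance

theorem card_fibre (τ : Idx d n) (t : Fin d) :
    Fintype.card {s : Fin n // s < τ.1 t ∧ ∀ t' : Fin d, τ.1 t' ≠ s} = (τ.1 t).val - t.val := by
  classical
  rw [Fintype.card_subtype]
  have h1 : (Finset.univ.filter fun s : Fin n => s < τ.1 t ∧ ∀ t' : Fin d, τ.1 t' ≠ s) =
      Finset.Iio (τ.1 t) \ (Finset.Iio t).image τ.1 := by
    ext s
    rw [Finset.mem_filter, Finset.mem_sdiff, Finset.mem_Iio, Finset.mem_image]
    constructor
    · rintro ⟨-, h1, h2⟩
      exact ⟨h1, fun ⟨t', _, ht'⟩ => h2 t' ht'⟩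
    · rintro ⟨h1, h2⟩
      refine ⟨Finset.mem_univ _, h1, fun t' ht' => h2 ⟨t', ?_, ht'⟩⟩
      rw [Finset.mem_Iio]
      rw [← ht'] at h1
      exact τ.2.lt_iff_lt.1 h1
  rw [h1, Finset.card_sdiff_of_subset, Fin.card_Iio,
    Finset.card_image_of_injective _ τ.2.injective, Fin.card_Iio]
  intro s hs
  rw [Finset.mem_image] at hs
  obtain ⟨t', ht', rfl⟩ := hs
  rw [Finset.mem_Iio] at ht' ⊢
  exact τ.2 ht'

/-- The cell coordinates, fibred over the columns. -/
def goodEquiv (τ : Idx d n) :
    Good τ ≃ Σ t : Fin d, {s : Fin n // s < τ.1 t ∧ ∀ t' : Fin d, τ.1 t' ≠ s} where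
  toFun p := ⟨p.1.2, ⟨p.1.1, p.2⟩⟩
  invFun x := ⟨(x.2.1, x.1), x.2.2⟩
  left_inv _ := rfl
  right_inv _ := rfl

theorem card_good (τ : Idx d n) : Fintype.card (Good τ) = codeg τ := by
  classical
  rw [Fintype.card_congr (goodEquiv τ), Fintype.card_sigma]
  unfold codeg
  exact Finset.sum_congr rfl fun t _ => card_fibre τ t

end Count

/-! ### The upper bound -/

section Upper

variable (K : Type u) [Field K] [Infinite K] (hd : 0 < d) (τ : Idx d n)

/-- The cell coordinates together with the minor on the rows `τ`. -/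
noncomputable def cellGen : MvPolynomial (Option (Good τ)) K →ₐ[K]
    FractionRing (MvPolynomial (Fin n × Fin d) K) :=
  MvPolynomial.aeval fun o : Option (Good τ) =>
    Option.elim o (topL K τ) (fun p => rho K hd τ (X p.1))

theorem topL_mem_cellGen : topL K τ ∈ (cellGen K hd τ).range :=
  ⟨X none, by
    show cellGen K hd τ (X none) = topL K τ
    unfold cellGen
    rw [aeval_X]
    rfl⟩

theorem rho_X_mem_cellGen (p : Fin n × Fin d) :
    rho K hd τ (X p) ∈ (cellGen K hd τ).range := by
  have hrho : rho K hd τ (X p) = scaleD K hd τ p.2 * ((topL K τ)⁻¹ *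
      algebraMap (MvPolynomial (Fin n × Fin d) K)
        (FractionRing (MvPolynomial (Fin n × Fin d) K)) (cellNum K τ p.1 p.2)) := by
    unfold rho
    rw [aeval_X]
  by_cases h1 : τ.1 p.2 < p.1
  · rw [hrho, cellNum_eq_zero K τ p.1 p.2 h1, map_zero, mul_zero, mul_zero]
    exact Subalgebra.zero_mem _
  · by_cases h2 : p.1 = τ.1 p.2
    · have hc : cellNum K τ p.1 p.2 = (topBlock K τ).det := by
        rw [cellNum_apply, h2, Function.update_eq_self]
        rfl
      have e : algebraMap (MvPolynomial (Fin n × Fin d) K)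
          (FractionRing (MvPolynomial (Fin n × Fin d) K)) (topBlock K τ).det = topL K τ := rfl
      rw [hrho, hc, e, inv_mul_cancel₀ (topL_ne_zero K τ), mul_one]
      unfold scaleD
      split_ifs
      · exact topL_mem_cellGen K hd τ
      · exact Subalgebra.one_mem _
    · have h3 : p.1 < τ.1 p.2 := lt_of_le_of_ne (not_lt.1 h1) h2
      by_cases h4 : ∃ t' : Fin d, τ.1 t' = p.1
      · obtain ⟨t', ht'⟩ := h4
        have hne : t' ≠ p.2 := by
          rintro rfl
          exact h2 ht'.symm
        have hc : cellNum K τ p.1 p.2 = 0 := by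
          rw [cellNum_apply]
          apply Matrix.det_zero_of_row_eq hne
          ext c
          rw [Matrix.submatrix_apply, Matrix.submatrix_apply, Function.update_of_ne hne,
            Function.update_self, ht']
        rw [hrho, hc, map_zero, mul_zero, mul_zero]
        exact Subalgebra.zero_mem _
      · push Not at h4
        refine ⟨X (some ⟨p, h3, h4⟩), ?_⟩
        show cellGen K hd τ (X (some ⟨p, h3, h4⟩)) = rho K hd τ (X p)
        unfold cellGen
        rw [aeval_X]
        rfl

theorem rho_range_le : (rho K hd τ).range ≤ (cellGen K hd τ).range := by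
  have h1 : (rho K hd τ).range = Algebra.adjoin K (Set.range fun p : Fin n × Fin d =>
      rho K hd τ (X p)) := by
    have h2 : rho K hd τ = MvPolynomial.aeval (fun p : Fin n × Fin d => rho K hd τ (X p)) := by
      apply MvPolynomial.algHom_ext
      intro p
      rw [aeval_X]
    rw [Algebra.adjoin_range_eq_range_aeval, ← h2]
  rw [h1]
  apply Algebra.adjoin_le
  rintro _ ⟨p, rfl⟩
  exact rho_X_mem_cellGen K hd τ p

/-- The embedding of the coordinate ring of the cone into the fraction field of the polynomial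
ring. -/
noncomputable def embL : (PlRing K d n ⧸ schubertVanishing K d n τ) →ₐ[K]
    FractionRing (MvPolynomial (Fin n × Fin d) K) :=
  (IsScalarTower.toAlgHom K (MvPolynomial (Fin n × Fin d) K)
    (FractionRing (MvPolynomial (Fin n × Fin d) K))).comp (evA K τ)

include hd in
theorem embL_injective : Function.Injective (embL K τ) := by
  unfold embL
  rw [AlgHom.coe_comp]
  exact (IsFractionRing.injective (MvPolynomial (Fin n × Fin d) K)
    (FractionRing (MvPolynomial (Fin n × Fin d) K))).comp (evA_injective K hd τ)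

theorem embL_mem (c : PlRing K d n ⧸ schubertVanishing K d n τ) :
    embL K τ c ∈ (cellGen K hd τ).range := by
  apply rho_range_le K hd τ
  obtain ⟨c', rfl⟩ := Ideal.Quotient.mk_surjective c
  refine ⟨shapeEval K τ c', ?_⟩
  unfold embL
  rw [AlgHom.comp_apply, evA_mk]
  exact rho_shapeEval K hd τ c'

include hd in
open Cardinal in
theorem card_le_of_algebraicIndependent (s : ℕ)
    (y : Fin s → PlRing K d n ⧸ schubertVanishing K d n τ) (hy : AlgebraicIndependent K y) :
    s ≤ codeg τ + 1 := by
  classical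
  have h1 : AlgebraicIndependent K (embL K τ ∘ y) := hy.map' (embL_injective K hd τ)
  obtain ⟨C, hC⟩ : ∃ C : Subalgebra K (FractionRing (MvPolynomial (Fin n × Fin d) K)),
      C = (cellGen K hd τ).range := ⟨_, rfl⟩
  have hmem : ∀ i, embL K τ (y i) ∈ C := fun i => by rw [hC]; exact embL_mem K hd τ (y i)
  have h2 : AlgebraicIndependent K (fun i => (⟨embL K τ (y i), hmem i⟩ : C)) := by
    apply AlgebraicIndependent.of_comp C.val
    exact h1
  have h3 := h2.lift_cardinalMk_le_trdeg
  have h4 : Algebra.trdeg K C ≤ Algebra.trdeg K (MvPolynomial (Option (Good τ)) K) := by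
    subst hC
    exact trdeg_le_of_surjective (cellGen K hd τ).rangeRestrict
      (AlgHom.rangeRestrict_surjective _)
  rw [MvPolynomial.trdeg_of_isDomain] at h4
  have h5 : lift.{u} #(Fin s) ≤ lift.{0} (lift.{u} #(Option (Good τ))) :=
    h3.trans (lift_le.2 h4)
  rw [Cardinal.mk_fin, Cardinal.mk_fintype, Fintype.card_option, card_good] at h5
  simp only [Cardinal.lift_natCast] at h5
  exact_mod_cast h5

include hd in
theorem krullDim_upper :
    ringKrullDim (PlRing K d n ⧸ schubertVanishing K d n τ) ≤
      (((codeg τ + 1 : ℕ) : ℕ∞) : WithBot ℕ∞) := by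
  haveI := isDomain_schubert K hd τ
  obtain ⟨s, g, hinj, hint⟩ := exists_integral_inj_algHom_of_fg K
    (PlRing K d n ⧸ schubertVanishing K d n τ)
  have h1 : ringKrullDim (PlRing K d n ⧸ schubertVanishing K d n τ) ≤
      ringKrullDim (MvPolynomial (Fin s) K) :=
    Groth.Agent.Lib.helper19.FibreCone.ringKrullDim_le_of_isIntegral g.toRingHom hint
  rw [MvPolynomial.ringKrullDim_of_isNoetherianRing, ringKrullDim_eq_zero_of_field, zero_add,
    Nat.card_fin] at h1
  refine h1.trans ?_
  have hy : AlgebraicIndependent K (fun i : Fin s => g (X i)) := by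
    have h2 : g = MvPolynomial.aeval (fun i : Fin s => g (X i)) := by
      apply MvPolynomial.algHom_ext
      intro i
      rw [aeval_X]
    show Function.Injective (MvPolynomial.aeval (fun i : Fin s => g (X i)))
    rw [← h2]
    exact hinj
  have h3 := card_le_of_algebraicIndependent K hd τ s _ hy
  exact_mod_cast h3

include hd in
/-- The Krull dimension of the cone over the Schubert variety `X(τ)`. -/
theorem krullDim_schubert :
    ringKrullDim (PlRing K d n ⧸ schubertVanishing K d n τ) =
      (((codeg τ + 1 : ℕ) : ℕ∞) : WithBot ℕ∞) :=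
  le_antisymm (krullDim_upper K hd τ) (krullDim_lower K hd (codeg τ) τ rfl)

end Upper

end Groth.Agent.Lib.helper10.SMT
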