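import Groth.Agent.Lib.Helper10.FFT1
import Groth.Agent.Lib.Helper10.SMT18

/-!
# The first fundamental theorem for `SL_d` acting on `n × d` matrices (helper10), part 2
-/

set_option autoImplicit false
set_option linter.unusedSectionVars false
set_option linter.style.haveILetI false

universe u

open MvPolynomial W4bk4grassmannian

namespace Groth.Agent.Lib.helper10.FFT

open Groth.Agent.Lib.helper10.SMT

variable {d n : ℕ}

/-! ### The top element of `I(d,n)` -/

section Top

theorem idx_add_le (φ : Idx d n) : ∀ (k : ℕ) (t : Fin d) (h : t.val + k < d),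
    (φ.1 t).val + k ≤ (φ.1 ⟨t.val + k, h⟩).val := by
  intro k
  induction k with
  | zero => intro t h; exact le_rfl
  | succ k ih =>
    intro t h
    have h1 := ih t (by omega)
    have h2 : φ.1 ⟨t.val + k, by omega⟩ < φ.1 ⟨t.val + (k + 1), h⟩ := φ.2 (by
      rw [Fin.lt_def]; show t.val + k < t.val + (k + 1); omega)
    rw [Fin.lt_def] at h2
    omega

/-- The largest element `(n - d, …, n - 1)` of `I(d,n)`. -/
def topIdx (hdn : d ≤ n) : Idx d n :=
  ⟨fun t => ⟨n - d + t.val, by have := t.isLt; omega⟩, fun a b hab => by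
    rw [Fin.lt_def] at hab ⊢; show n - d + a.val < n - d + b.val; omega⟩

theorem le_topIdx (hdn : d ≤ n) (φ : Idx d n) : φ ≤ topIdx hdn := by
  intro t
  rw [Fin.le_def]
  show (φ.1 t).val ≤ n - d + t.val
  have h1 := idx_add_le φ (d - 1 - t.val) t (by have := t.isLt; omega)
  have h2 := (φ.1 ⟨t.val + (d - 1 - t.val), by have := t.isLt; omega⟩).isLt
  have := t.isLt
  omega

theorem exists_lt_topIdx (hd : 0 < d) (hdn : d < n) : ∃ φ : Idx d n, φ < topIdx hdn.le := by
  refine ⟨iotaOf (topIdx hdn.le), lt_of_le_of_ne (iotaOf_le _ _) ?_⟩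
  intro heq
  have h1 := congrArg (fun φ : Idx d n => (φ.1 ⟨0, hd⟩).val) heq
  simp only [iotaOf, topIdx] at h1
  omega

end Top

section Main

variable (K : Type u) [Field K] [Infinite K] (hd : 0 < d)

/-- The generic matrix. -/
noncomputable def Xm : Matrix (Fin n) (Fin d) (MatRing K d n) := Matrix.of fun s t => X (s, t)

theorem minor_eq (a : Fin d → Fin n) : minor K d n a = ((Xm K).submatrix a id).det := rfl

theorem pluckerMap_coord (a : Fin d → Fin n) :
    pluckerMap K d n (coord K d n a) = ((Xm K).submatrix a id).det := by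
  unfold pluckerMap
  exact aeval_minors_coord K (Xm K) a

theorem evalMinors_eq (A : Matrix (Fin n) (Fin d) K) (F : PlRing K d n) :
    evalMinors K d n A F = evM K A (pluckerMap K d n F) := by
  have e : evalMinors K d n A = (evM K A).comp (pluckerMap K d n) := by
    apply MvPolynomial.algHom_ext
    intro θ
    rw [AlgHom.comp_apply]
    unfold evalMinors pluckerMap
    rw [aeval_X, aeval_X, minor_eq, AlgHom.map_det]
    congr 1
    ext s t
    rw [AlgHom.mapMatrix_apply, Matrix.map_apply, Matrix.submatrix_apply, Matrix.submatrix_apply]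
    unfold Xm
    rw [Matrix.of_apply, evM_X]
  rw [e]
  rfl

/-- A polynomial function on matrices vanishing at all points is zero. -/
theorem eq_zero_of_evM (f : MatRing K d n) (h : ∀ Y : Matrix (Fin n) (Fin d) K, evM K Y f = 0) :
    f = 0 := by
  apply MvPolynomial.funext
  intro y
  rw [map_zero]
  have h1 := h (Matrix.of fun s t => y (s, t))
  unfold evM at h1
  rw [MvPolynomial.aeval_def, MvPolynomial.eval₂_eq_eval_map] at h1
  simpa using h1

theorem aeval_mem_range (g : Fin n × Fin d → MatRing K d n)
    (hg : ∀ p, g p ∈ (pluckerMap K d n).range) (f : MatRing K d n) :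
    MvPolynomial.aeval g f ∈ (pluckerMap K d n).range := by
  induction f using MvPolynomial.induction_on with
  | C a =>
    rw [← MvPolynomial.algebraMap_eq, AlgHom.commutes]
    exact Subalgebra.algebraMap_mem _ _
  | add p q hp hq =>
    rw [map_add]
    exact Subalgebra.add_mem _ hp hq
  | mul_X p i hp =>
    rw [map_mul, aeval_X]
    exact Subalgebra.mul_mem _ hp (hg i)

variable (hdn : d < n)

/-- The minor on the last `d` rows. -/
noncomputable def delta : MatRing K d n := ((Xm K).submatrix (topIdx hdn.le).1 id).det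

theorem delta_eq : delta K hdn = pluckerMap K d n (X (topIdx hdn.le)) := by
  unfold pluckerMap delta
  rw [aeval_X]
  rfl

theorem evM_delta (Y : Matrix (Fin n) (Fin d) K) :
    evM K Y (delta K hdn) = (Y.submatrix (topIdx hdn.le).1 id).det := by
  unfold delta
  rw [AlgHom.map_det]
  congr 1
  ext s t
  rw [AlgHom.mapMatrix_apply, Matrix.map_apply, Matrix.submatrix_apply, Matrix.submatrix_apply]
  unfold Xm
  rw [Matrix.of_apply, evM_X]

theorem delta_ne_zero : delta K hdn ≠ 0 := by
  intro h0
  -- evaluate at the matrix with the identity in the last `d` rows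
  have h1 := evM_delta K hdn (Matrix.of fun s t => if s = (topIdx hdn.le).1 t then (1 : K) else 0)
  rw [h0, map_zero] at h1
  have h2 : (Matrix.of fun s t => if s = (topIdx hdn.le).1 t then (1 : K) else 0).submatrix
      (topIdx hdn.le).1 id = 1 := by
    ext s t
    rw [Matrix.submatrix_apply, Matrix.of_apply, Matrix.one_apply, id]
    by_cases hst : s = t
    · rw [if_pos hst, if_pos (by rw [hst])]
    · rw [if_neg hst, if_neg (fun h => hst ((topIdx hdn.le).2.injective h))]
  rw [h2, Matrix.det_one] at h1
  exact zero_ne_one h1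

/-- The matrix of cell numerators `X · adj(X_top)`. -/
noncomputable def adjM : Matrix (Fin n) (Fin d) (MatRing K d n) :=
  Xm K * ((Xm K).submatrix (topIdx hdn.le).1 id).adjugate

theorem adjM_apply (s : Fin n) (t : Fin d) :
    adjM K hdn s t = ((Xm K).submatrix (Function.update (topIdx hdn.le).1 t s) id).det := by
  have h1 : adjM K hdn s t =
      (((Xm K).submatrix (topIdx hdn.le).1 id).updateRow t (Xm K s)).det := by
    unfold adjM
    rw [← Matrix.cramer_transpose_apply, Matrix.cramer_eq_adjugate_mulVec,
      ← Matrix.adjugate_transpose, Matrix.mulVec_transpose]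
    rfl
  rw [h1]
  congr 1
  refine Matrix.ext fun r c => ?_
  simp only [Matrix.updateRow_apply, Matrix.submatrix_apply, id, Function.update_apply]
  split_ifs with hr
  · rfl
  · rfl

theorem adjM_mem (p : Fin n × Fin d) : adjM K hdn p.1 p.2 ∈ (pluckerMap K d n).range := by
  rw [adjM_apply, ← pluckerMap_coord]
  exact ⟨_, rfl⟩

theorem evM_adjM (Y : Matrix (Fin n) (Fin d) K) (s : Fin n) (t : Fin d) :
    evM K Y (adjM K hdn s t) = (Y * (Y.submatrix (topIdx hdn.le).1 id).adjugate) s t := by
  unfold adjM
  have h1 : (Xm K).map (evM K Y).toRingHom = Y := by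
    refine Matrix.ext fun s t => ?_
    rw [Matrix.map_apply]
    unfold Xm
    rw [Matrix.of_apply]
    exact evM_X K Y (s, t)
  have h2 : ((Xm K).submatrix (topIdx hdn.le).1 id).map (evM K Y).toRingHom =
      Y.submatrix (topIdx hdn.le).1 id := by
    conv_rhs => rw [← h1]
    rfl
  have h3 := Matrix.map_mul (L := Xm K) (M := ((Xm K).submatrix (topIdx hdn.le).1 id).adjugate)
    (f := (evM K Y).toRingHom)
  have h5 : ((Xm K).submatrix (topIdx hdn.le).1 id).adjugate.map (evM K Y).toRingHom =
      (Y.submatrix (topIdx hdn.le).1 id).adjugate := by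
    rw [← h2]
    exact (RingHom.map_adjugate (evM K Y).toRingHom _)
  have h4 := congrFun (congrFun h3 s) t
  rw [h5, h1] at h4
  exact h4

include hd in
/-- The key identity: substituting the cell numerators into a semi-invariant component. -/
theorem aeval_adjM_comp (f : MatRing K d n)
    (hf : ∀ g : Matrix.SpecialLinearGroup (Fin d) K, rightTranslate K d n g f = f) (a : ℕ) :
    MvPolynomial.aeval (fun p : Fin n × Fin d => adjM K hdn p.1 p.2) (comp K hd a f) =
      delta K hdn ^ ((d - 1) * a) * comp K hd a f := by
  have hδ := delta_ne_zero K hdn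
  have h1 : (MvPolynomial.aeval (fun p : Fin n × Fin d => adjM K hdn p.1 p.2) (comp K hd a f) -
      delta K hdn ^ ((d - 1) * a) * comp K hd a f) * delta K hdn = 0 := by
    apply eq_zero_of_evM
    intro Y
    rw [map_mul, map_sub, map_mul, map_pow, evM_delta]
    by_cases h0 : (Y.submatrix (topIdx hdn.le).1 id).det = 0
    · rw [h0, mul_zero]
    · have e : (evM K Y).comp (MvPolynomial.aeval (fun p : Fin n × Fin d => adjM K hdn p.1 p.2)) =
          evM K (Y * (Y.submatrix (topIdx hdn.le).1 id).adjugate) := by
        apply MvPolynomial.algHom_ext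
        intro p
        rw [AlgHom.comp_apply, aeval_X, evM_X, evM_adjM]
      have h2 : evM K Y (MvPolynomial.aeval (fun p : Fin n × Fin d => adjM K hdn p.1 p.2)
          (comp K hd a f)) =
          evM K (Y * (Y.submatrix (topIdx hdn.le).1 id).adjugate) (comp K hd a f) := by
        rw [← e]
        rfl
      have hdet : (Y.submatrix (topIdx hdn.le).1 id).adjugate.det =
          (Y.submatrix (topIdx hdn.le).1 id).det ^ (d - 1) := by
        rw [Matrix.det_adjugate, Fintype.card_fin]
      rw [h2, evM_comp_of_invariant K hd f hf a Y _ (by rw [hdet]; exact pow_ne_zero _ h0), hdet,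
        ← pow_mul, sub_self, zero_mul]
  rcases mul_eq_zero.1 h1 with h | h
  · exact sub_eq_zero.1 h
  · exact absurd h hδ

end Main

end Groth.Agent.Lib.helper10.FFT
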