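import Groth.Agent.Lib.Helper10.DetV4
import Groth.Agent.Lib.Helper10.DetV5
import Groth.Agent.Lib.Helper10.FFT2

/-!
# Determinantal varieties as opposite cells of Schubert varieties (helper10), part 1:
the index `τ` and the evaluation at `[1; X]`
-/

set_option autoImplicit false
set_option linter.unusedSectionVars false
set_option linter.style.haveILetI false

universe u

open MvPolynomial W4bk4grassmannian

namespace Groth.Agent.Lib.helper10.DetV

open Groth.Agent.Lib.helper10.SMT Groth.Agent.Lib.helper10.FFT

section Tau

variable (m n t : ℕ) (ht : 1 ≤ t) (htm : t ≤ m) (htn : t ≤ n)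

/-- The index `(t - 1, t, …, n - 1, n + m - t + 1, …, n + m - 1)` of the Schubert variety whose
opposite cell is the variety of `m × n` matrices of rank `< t`. -/
def tauDet : Idx n (n + m) :=
  ⟨fun j => if j.val + t ≤ n then ⟨j.val + t - 1, by have := j.isLt; omega⟩
    else ⟨m + j.val, by have := j.isLt; omega⟩, by
    intro a b hab
    rw [Fin.lt_def] at hab
    have ha := a.isLt
    have hb := b.isLt
    dsimp only
    split_ifs with h1 h2 h2
    · rw [Fin.lt_def]; show a.val + t - 1 < b.val + t - 1; omega
    · rw [Fin.lt_def]; show a.val + t - 1 < m + b.val; omega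
    · omega
    · rw [Fin.lt_def]; show m + a.val < m + b.val; omega⟩

theorem tauDet_apply (j : Fin n) : ((tauDet m n t ht htm).1 j).val =
    if j.val + t ≤ n then j.val + t - 1 else m + j.val := by
  unfold tauDet
  dsimp only
  split_ifs <;> rfl

include htn in
theorem le_tauDet_iff (φ : Idx n (n + m)) :
    φ ≤ tauDet m n t ht htm ↔ (φ.1 ⟨n - t, by omega⟩).val < n := by
  constructor
  · intro h
    have h1 := h ⟨n - t, by omega⟩
    rw [Fin.le_def, tauDet_apply, if_pos (by show n - t + t ≤ n; omega)] at h1
    have : (⟨n - t, by omega⟩ : Fin n).val = n - t := rfl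
    omega
  · intro h j
    rw [Fin.le_def, tauDet_apply]
    have hj := j.isLt
    split_ifs with hjt
    · have h2 := idx_add_le φ (n - t - j.val) j (by omega)
      have h3 : (⟨j.val + (n - t - j.val), by omega⟩ : Fin n) = ⟨n - t, by omega⟩ := by
        apply Fin.ext
        show j.val + (n - t - j.val) = n - t
        omega
      rw [h3] at h2
      omega
    · have h2 := idx_add_le φ (n - 1 - j.val) j (by omega)
      have h3 := (φ.1 ⟨j.val + (n - 1 - j.val), by omega⟩).isLt
      omega

include htn in
theorem cntX_of_not_le (φ : Idx n (n + m)) (h : ¬ φ ≤ tauDet m n t ht htm) :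
    t ≤ cntX (m := m) (n := n) φ.1 := by
  rw [le_tauDet_iff m n t ht htm htn, not_lt] at h
  unfold cntX
  have hsub : Finset.Ici (⟨n - t, by omega⟩ : Fin n) ⊆
      Finset.univ.filter fun i => n ≤ (φ.1 i).val := by
    intro j hj
    rw [Finset.mem_Ici] at hj
    rw [Finset.mem_filter]
    refine ⟨Finset.mem_univ _, le_trans h ?_⟩
    exact Fin.le_def.1 (φ.2.monotone hj)
  have := Finset.card_le_card hsub
  rw [Fin.card_Ici] at this
  have e : (⟨n - t, by omega⟩ : Fin n).val = n - t := rfl
  omega

include htn in
theorem not_le_of_cntX (φ : Idx n (n + m)) (h : t ≤ cntX (m := m) (n := n) φ.1) :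
    ¬ φ ≤ tauDet m n t ht htm := by
  rw [le_tauDet_iff m n t ht htm htn, not_lt]
  by_contra hcon
  push Not at hcon
  unfold cntX at h
  have hsub : (Finset.univ.filter fun i => n ≤ (φ.1 i).val) ⊆
      Finset.Ioi (⟨n - t, by omega⟩ : Fin n) := by
    intro j hj
    rw [Finset.mem_filter] at hj
    rw [Finset.mem_Ioi]
    by_contra hle
    have h1 : φ.1 j ≤ φ.1 ⟨n - t, by omega⟩ := φ.2.monotone (not_lt.1 hle)
    rw [Fin.le_def] at h1
    omega
  have := Finset.card_le_card hsub
  rw [Fin.card_Ioi] at this
  have e : (⟨n - t, by omega⟩ : Fin n).val = n - t := rfl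
  omega

include htn in
theorem codeg_tauDet : codeg (tauDet m n t ht htm) = (t - 1) * (m + n - t + 1) := by
  unfold codeg
  have h1 : ∀ j : Fin n, ((tauDet m n t ht htm).1 j).val - j.val =
      if j.val + t ≤ n then t - 1 else m := by
    intro j
    rw [tauDet_apply]
    split_ifs <;> omega
  rw [Finset.sum_congr rfl (fun j _ => h1 j), Finset.sum_ite, Finset.sum_const, Finset.sum_const,
    smul_eq_mul, smul_eq_mul]
  have hc1 : (Finset.univ.filter fun j : Fin n => j.val + t ≤ n).card = n - t + 1 := by
    have : (Finset.univ.filter fun j : Fin n => j.val + t ≤ n) =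
        Finset.Iic (⟨n - t, by omega⟩ : Fin n) := by
      ext j
      rw [Finset.mem_filter, Finset.mem_Iic, Fin.le_def]
      constructor
      · rintro ⟨-, h⟩
        show j.val ≤ n - t
        omega
      · intro h
        refine ⟨Finset.mem_univ _, ?_⟩
        have : j.val ≤ n - t := h
        omega
    rw [this, Fin.card_Iic]
  have hc2 : (Finset.univ.filter fun j : Fin n => ¬ j.val + t ≤ n).card = t - 1 := by
    have := Finset.card_filter_add_card_filter_not (s := (Finset.univ : Finset (Fin n)))
      (fun j : Fin n => j.val + t ≤ n)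
    rw [hc1, Finset.card_univ, Fintype.card_fin] at this
    omega
  rw [hc1, hc2]
  have e : m + n - t + 1 = (n - t + 1) + m := by omega
  rw [e]
  ring

end Tau

section Eval

variable (K : Type u) [Field K] (m n : ℕ)

/-- The least element of `I(n, n + m)`: the rows of the identity block. -/
def iotaDet : Idx n (n + m) :=
  ⟨fun c => Fin.castAdd m c, fun a b hab => by
    rw [Fin.lt_def] at hab ⊢; exact hab⟩

theorem iotaOf_eq_iotaDet (τ : Idx n (n + m)) : iotaOf τ = iotaDet m n := by
  apply Subtype.ext
  funext c
  apply Fin.ext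
  rfl

/-- Evaluation of Plücker polynomials at the maximal minors of `[1; X]`, `X` the generic
`m × n` matrix. -/
noncomputable def detEval : PlRing K n (n + m) →ₐ[K] MvPolynomial (Fin m × Fin n) K :=
  MvPolynomial.aeval fun θ : Idx n (n + m) =>
    ((bigMat (genMatrix K m n)).submatrix θ.1 id).det

theorem detEval_X (θ : Idx n (n + m)) :
    detEval K m n (X θ) = ((bigMat (genMatrix K m n)).submatrix θ.1 id).det := by
  unfold detEval
  rw [aeval_X]

theorem detEval_coord (a : Fin n → Fin (n + m)) :
    detEval K m n (coord K n (n + m) a) = ((bigMat (genMatrix K m n)).submatrix a id).det := by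
  unfold detEval
  exact aeval_minors_coord K (bigMat (genMatrix K m n)) a

theorem detEval_X_iota : detEval K m n (X (iotaDet m n)) = 1 := by
  rw [detEval_X]
  have : (bigMat (genMatrix K m n)).submatrix (iotaDet m n).1 id = 1 := by
    refine Matrix.ext fun c j => ?_
    rw [Matrix.submatrix_apply, id]
    exact bigMat_castAdd _ c j
  rw [this, Matrix.det_one]

/-- Evaluating at a point `B` is evaluating at the minors of `[1; B]`. -/
theorem eval_detEval (B : Matrix (Fin m) (Fin n) K) (f : PlRing K n (n + m)) :
    MvPolynomial.eval (fun p : Fin m × Fin n => B p.1 p.2) (detEval K m n f) =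
      evalMinors K n (n + m) (bigMat B) f := by
  have h : (MvPolynomial.aeval (fun p : Fin m × Fin n => B p.1 p.2) :
      MvPolynomial (Fin m × Fin n) K →ₐ[K] K).comp (detEval K m n) =
      evalMinors K n (n + m) (bigMat B) := by
    apply MvPolynomial.algHom_ext
    intro θ
    rw [AlgHom.comp_apply, detEval_X]
    unfold evalMinors
    rw [aeval_X, AlgHom.map_det]
    congr 1
    have h1 : (bigMat (genMatrix K m n)).map
        (MvPolynomial.aeval (fun p : Fin m × Fin n => B p.1 p.2) :
          MvPolynomial (Fin m × Fin n) K →ₐ[K] K).toRingHom = bigMat B := by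
      rw [bigMat_map]
      congr 1
      refine Matrix.ext fun i j => ?_
      rw [Matrix.map_apply]
      unfold genMatrix
      rw [Matrix.of_apply]
      exact aeval_X _ _
    rw [← h1]
    rfl
  have h1 := DFunLike.congr_fun h f
  rw [AlgHom.comp_apply] at h1
  rw [← h1]
  rfl

theorem X_mem_range_detEval (p : Fin m × Fin n) :
    (X p : MvPolynomial (Fin m × Fin n) K) ∈ (detEval K m n).range := by
  refine ⟨coord K n (n + m) (updRows (fun _ : Fin 1 => p.1) (fun _ : Fin 1 => p.2)), ?_⟩
  show detEval K m n _ = _
  rw [detEval_coord, det_bigMat_updRows _ _ _ (fun a b _ => Subsingleton.elim a b),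
    Matrix.det_fin_one, Matrix.submatrix_apply]
  unfold genMatrix
  rw [Matrix.of_apply]

theorem detEval_surjective : Function.Surjective (detEval K m n) := by
  rw [← AlgHom.range_eq_top, eq_top_iff, ← MvPolynomial.adjoin_range_X]
  apply Algebra.adjoin_le
  rintro _ ⟨p, rfl⟩
  exact X_mem_range_detEval K m n p

end Eval

end Groth.Agent.Lib.helper10.DetV
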