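import Groth.Agent.Lib.Helper10.DetV6

/-!
# Determinantal varieties as opposite cells of Schubert varieties (helper10), part 2:
the kernel of the evaluation at `[1; X]` and the comparison of ideals
-/

set_option autoImplicit false
set_option linter.unusedSectionVars false
set_option linter.style.haveILetI false

universe u

open MvPolynomial W4bk4grassmannian

namespace Groth.Agent.Lib.helper10.DetV

open Groth.Agent.Lib.helper10.SMT Groth.Agent.Lib.helper10.FFT

section Kernel

variable (K : Type u) [Field K] [Infinite K] (m n : ℕ)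

theorem vanishing_le_ker_detEval :
    vanishing K n (n + m) ≤ RingHom.ker (detEval K m n).toRingHom := by
  intro f hf
  rw [RingHom.mem_ker]
  show detEval K m n f = 0
  apply MvPolynomial.funext
  intro x
  rw [map_zero]
  have h1 := eval_detEval K m n (Matrix.of fun i j => x (i, j)) f
  have h2 : (fun p : Fin m × Fin n => (Matrix.of fun i j => x (i, j)) p.1 p.2) = x := by
    funext p
    rfl
  rw [h2] at h1
  rw [h1]
  unfold vanishing at hf
  rw [Ideal.mem_iInf] at hf
  exact hf (bigMat (Matrix.of fun i j => x (i, j)))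

theorem submatrix_mul_right {N d : ℕ} (Y : Matrix (Fin N) (Fin d) K) (T : Matrix (Fin d) (Fin d) K)
    (θ : Fin d → Fin N) : (Y * T).submatrix θ id = Y.submatrix θ id * T := by
  refine Matrix.ext fun r c => ?_
  rw [Matrix.submatrix_apply, Matrix.mul_apply, Matrix.mul_apply]
  rfl

/-- A homogeneous Plücker polynomial scales under right multiplication of the matrix. -/
theorem evalMinors_mul {N d : ℕ} (Y : Matrix (Fin N) (Fin d) K) (T : Matrix (Fin d) (Fin d) K)
    {F : PlRing K d N} {D : ℕ} (hF : F.IsHomogeneous D) :
    evalMinors K d N (Y * T) F = T.det ^ D * evalMinors K d N Y F := by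
  unfold evalMinors
  rw [← aeval_mul_of_isHomogeneous _ _ hF]
  congr 2
  funext θ
  rw [submatrix_mul_right, Matrix.det_mul, mul_comm]

theorem evalMinors_X {N d : ℕ} (Y : Matrix (Fin N) (Fin d) K) (θ : Idx d N) :
    evalMinors K d N Y (X θ) = (Y.submatrix θ.1 id).det := by
  unfold evalMinors
  rw [aeval_X]

/-- A matrix whose top block is the identity is of the form `[1; B]`. -/
theorem eq_bigMat_of_top (Y : Matrix (Fin (n + m)) (Fin n) K)
    (h : Y.submatrix (iotaDet m n).1 id = 1) :
    Y = bigMat (Matrix.of fun i j => Y (Fin.natAdd n i) j) := by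
  refine Matrix.ext fun s j => ?_
  induction s using Fin.addCases with
  | left c =>
    rw [bigMat_castAdd]
    have := congrFun (congrFun h c) j
    rw [Matrix.submatrix_apply, id] at this
    exact this
  | right i =>
    rw [bigMat_natAdd, Matrix.of_apply]

theorem ker_detEval_le : RingHom.ker (detEval K m n).toRingHom ≤
    vanishing K n (n + m) ⊔ Ideal.span {(X (iotaDet m n) : PlRing K n (n + m)) - 1} := by
  intro f hf
  rw [RingHom.mem_ker] at hf
  obtain ⟨D, fh, hfh, hsub⟩ := exists_homogeneous_sub_mem (iotaDet m n) f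
  have hsub0 : detEval K m n (f - fh) = 0 := by
    have hle : Ideal.span {(X (iotaDet m n) : PlRing K n (n + m)) - 1} ≤
        RingHom.ker (detEval K m n).toRingHom := by
      rw [Ideal.span_le]
      intro x hx
      rw [Set.mem_singleton_iff] at hx
      rw [hx, SetLike.mem_coe, RingHom.mem_ker]
      show detEval K m n (X (iotaDet m n) - 1) = 0
      rw [map_sub, detEval_X_iota, map_one, sub_self]
    exact hle hsub
  have hfh0 : detEval K m n fh = 0 := by
    rw [map_sub, sub_eq_zero] at hsub0
    rw [← hsub0]
    exact hf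
  -- `fh` vanishes at the minors of every matrix
  have hvan : fh ∈ vanishing K n (n + m) := by
    obtain ⟨P, hP⟩ : ∃ P, P = pluckerMap K n (n + m) fh := ⟨_, rfl⟩
    obtain ⟨Δ, hΔ⟩ : ∃ Δ, Δ = pluckerMap K n (n + m) (X (iotaDet m n)) := ⟨_, rfl⟩
    have hprod : P * Δ = 0 := by
      apply eq_zero_of_evM K
      intro Y
      rw [map_mul, hP, hΔ, ← evalMinors_eq, ← evalMinors_eq, evalMinors_X]
      by_cases hdet : (Y.submatrix (iotaDet m n).1 id).det = 0
      · rw [hdet, mul_zero]
      · obtain ⟨T, hT⟩ : ∃ T, T = Y.submatrix (iotaDet m n).1 id := ⟨_, rfl⟩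
        rw [← hT] at hdet
        have hunit : IsUnit T.det := isUnit_iff_ne_zero.2 hdet
        have hY : Y = (Y * T⁻¹) * T := by
          rw [Matrix.mul_assoc, Matrix.nonsing_inv_mul _ hunit, Matrix.mul_one]
        have htop : (Y * T⁻¹).submatrix (iotaDet m n).1 id = 1 := by
          rw [submatrix_mul_right, ← hT, Matrix.mul_nonsing_inv _ hunit]
        have hbig := eq_bigMat_of_top K m n (Y * T⁻¹) htop
        have h0 : evalMinors K n (n + m) Y fh = 0 := by
          rw [hY, evalMinors_mul K _ _ hfh, hbig, ← eval_detEval, hfh0, map_zero, mul_zero]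
        rw [h0, zero_mul]
    have hΔ0 : Δ ≠ 0 := by
      intro h0
      have h1 := evalMinors_eq K (bigMat (0 : Matrix (Fin m) (Fin n) K)) (X (iotaDet m n))
      rw [← hΔ, h0, map_zero, evalMinors_X] at h1
      have h2 : (bigMat (0 : Matrix (Fin m) (Fin n) K)).submatrix (iotaDet m n).1 id = 1 := by
        refine Matrix.ext fun c j => ?_
        rw [Matrix.submatrix_apply, id]
        exact bigMat_castAdd _ c j
      rw [h2, Matrix.det_one] at h1
      exact one_ne_zero h1
    have hP0 : P = 0 := by
      rcases mul_eq_zero.1 hprod with h | h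
      · exact h
      · exact absurd h hΔ0
    unfold vanishing
    rw [Ideal.mem_iInf]
    intro A
    rw [RingHom.mem_ker]
    show evalMinors K n (n + m) A fh = 0
    rw [evalMinors_eq, ← hP, hP0, map_zero]
  have : f = fh + (f - fh) := by ring
  rw [this]
  exact Ideal.add_mem _ (Ideal.mem_sup_left hvan) (Ideal.mem_sup_right hsub)

end Kernel

end Groth.Agent.Lib.helper10.DetV
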