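import Groth.Agent.Lib.Helper10.DetV7

/-!
# Determinantal varieties as opposite cells of Schubert varieties (helper10), part 3:
the determinantal ideal is the preimage of the ideal of the opposite cell; determinantal rings are
normal Cohen–Macaulay domains
-/

set_option autoImplicit false
set_option linter.unusedSectionVars false
set_option linter.style.haveILetI false

universe u

open MvPolynomial W4bk4grassmannian

namespace Groth.Agent.Lib.helper10.DetV

open Groth.Agent.Lib.helper10.SMT Groth.Agent.Lib.helper10.FFT

section Compare

variable (K : Type u) [Field K] [Infinite K] (m n t : ℕ) (ht : 1 ≤ t) (htm : t ≤ m) (htn : t ≤ n)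

include htn in
/-- The signed Plücker coordinate of the rows obtained from the identity by inserting `t` rows of
`X` vanishes on the Schubert variety. -/
theorem coord_updRows_mem (f : Fin t → Fin m) (g : Fin t → Fin n) (hg : Function.Injective g) :
    coord K n (n + m) (updRows f g) ∈ schubertVanishing K n (n + m) (tauDet m n t ht htm) := by
  classical
  unfold coord
  split_ifs with h
  · apply Ideal.mul_mem_left
    apply X_mem_schubertVanishing K
    apply not_le_of_cntX m n t ht htm htn
    have hinj := injective_of_card_image (updRows f g) h
    unfold cntX
    have h1 : (Finset.univ.filter fun j : Fin n =>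
        n ≤ ((sortIdx n (n + m) (updRows f g) h).1 j).val).card =
        ((Finset.univ.image (updRows f g)).filter fun s : Fin (n + m) => n ≤ s.val).card := by
      rw [← Finset.image_orderEmbOfFin_univ (Finset.univ.image (updRows f g)) h,
        Finset.filter_image, Finset.card_image_of_injective _
          ((Finset.univ.image (updRows f g)).orderEmbOfFin h).injective]
      rfl
    rw [h1]
    have hsub : (Finset.univ.image g).image (updRows f g) ⊆
        (Finset.univ.image (updRows f g)).filter fun s : Fin (n + m) => n ≤ s.val := by
      intro s hs
      rw [Finset.mem_image] at hs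
      obtain ⟨c, hc, rfl⟩ := hs
      rw [Finset.mem_image] at hc
      obtain ⟨k, -, rfl⟩ := hc
      rw [Finset.mem_filter]
      refine ⟨Finset.mem_image_of_mem _ (Finset.mem_univ _), ?_⟩
      rw [updRows_apply_of_eq f g hg]
      show n ≤ n + (f k).val
      omega
    have h2 := Finset.card_le_card hsub
    rw [Finset.card_image_of_injective _ hinj, Finset.card_image_of_injective _ hg,
      Finset.card_univ, Fintype.card_fin] at h2
    exact h2
  · exact zero_mem _

include htn in
/-- **The determinantal ideal is the preimage of the ideal of the opposite cell.** -/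
theorem comap_detEval (hn : 0 < n) :
    (CAlgX.minorIdeal (genMatrix K m n) t).comap (detEval K m n).toRingHom =
      cellQ K (tauDet m n t ht htm) := by
  classical
  have hker : RingHom.ker (detEval K m n).toRingHom ≤ cellQ K (tauDet m n t ht htm) := by
    refine le_trans (ker_detEval_le K m n) ?_
    unfold cellQ
    rw [iotaOf_eq_iotaDet]
    apply sup_le_sup_right
    unfold vanishing schubertVanishing
    apply le_iInf
    intro A
    apply le_iInf
    intro _
    exact iInf_le _ A
  apply le_antisymm
  · -- generators
    obtain ⟨gens, hgens⟩ : ∃ gens : (Fin t → Fin m) × (Fin t → Fin n) → PlRing K n (n + m),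
        gens = fun fg => if Function.Injective fg.2 then coord K n (n + m) (updRows fg.1 fg.2)
          else 0 := ⟨_, rfl⟩
    have hmap : Ideal.map (detEval K m n).toRingHom (Ideal.span (Set.range gens)) =
        CAlgX.minorIdeal (genMatrix K m n) t := by
      rw [Ideal.map_span]
      unfold CAlgX.minorIdeal
      congr 1
      rw [← Set.range_comp]
      congr 1
      funext fg
      rw [Function.comp_apply, hgens]
      dsimp only
      split_ifs with hinj
      · show detEval K m n _ = _
        rw [detEval_coord, det_bigMat_updRows _ _ _ hinj]
      · rw [map_zero]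
        rw [Function.Injective] at hinj
        push Not at hinj
        obtain ⟨k, k', hkk, hne⟩ := hinj
        symm
        apply Matrix.det_zero_of_column_eq hne
        intro r
        rw [Matrix.submatrix_apply, Matrix.submatrix_apply, hkk]
    rw [← hmap, Ideal.comap_map_of_surjective (detEval K m n).toRingHom
      (detEval_surjective K m n)]
    apply sup_le
    · rw [Ideal.span_le]
      rintro _ ⟨fg, rfl⟩
      rw [hgens]
      dsimp only
      split_ifs with hinj
      · unfold cellQ
        exact Ideal.mem_sup_left (coord_updRows_mem K m n t ht htm htn fg.1 fg.2 hinj)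
      · exact zero_mem _
    · exact hker
  · unfold cellQ
    apply sup_le
    · rw [← plIdeal_eq_schubertVanishing K hn, plIdeal_eq_sup]
      apply sup_le
      · refine le_trans (plIdealTop_le_vanishing K) (le_trans (vanishing_le_ker_detEval K m n) ?_)
        intro x hx
        rw [Ideal.mem_comap]
        rw [RingHom.mem_ker] at hx
        rw [hx]
        exact zero_mem _
      · rw [Ideal.span_le]
        rintro _ ⟨φ, hφ, rfl⟩
        rw [SetLike.mem_coe, Ideal.mem_comap]
        show detEval K m n (X φ) ∈ _
        rw [detEval_X]
        exact det_bigMat_mem_minorIdeal _ t ht n φ.1 id (cntX_of_not_le m n t ht htm htn φ hφ)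
    · rw [Ideal.span_le]
      intro x hx
      rw [Set.mem_singleton_iff] at hx
      rw [hx, SetLike.mem_coe, Ideal.mem_comap, iotaOf_eq_iotaDet]
      show detEval K m n (X (iotaDet m n) - 1) ∈ _
      rw [map_sub, detEval_X_iota, map_one, sub_self]
      exact zero_mem _

include htn in
/-- The determinantal ring is the coordinate ring of the opposite cell of a Schubert variety. -/
theorem nonempty_ringEquiv (hn : 0 < n) :
    Nonempty ((PlRing K n (n + m) ⧸ cellQ K (tauDet m n t ht htm)) ≃+*
      (MvPolynomial (Fin m × Fin n) K ⧸ CAlgX.minorIdeal (genMatrix K m n) t)) := by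
  obtain ⟨φ, hφ⟩ : ∃ φ : PlRing K n (n + m) →+*
      (MvPolynomial (Fin m × Fin n) K ⧸ CAlgX.minorIdeal (genMatrix K m n) t),
      φ = (Ideal.Quotient.mk _).comp (detEval K m n).toRingHom := ⟨_, rfl⟩
  have hsurj : Function.Surjective φ := by
    rw [hφ]
    exact Ideal.Quotient.mk_surjective.comp (detEval_surjective K m n)
  have hker : RingHom.ker φ = cellQ K (tauDet m n t ht htm) := by
    rw [hφ, ← RingHom.comap_ker, Ideal.mk_ker]
    exact comap_detEval K m n t ht htm htn hn
  exact ⟨(Ideal.quotEquivOfEq hker.symm).trans (RingHom.quotientKerEquivOfSurjective hsurj)⟩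

end Compare

end Groth.Agent.Lib.helper10.DetV
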