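import Groth.Agent.Lib.Helper10.DetV8

/-!
# The second fundamental theorem for `GL_n` (helper10): the kernel of `y ↦ u ξ` is generated by
the `(n + 1) × (n + 1)` minors
-/

set_option autoImplicit false
set_option linter.unusedSectionVars false
set_option linter.style.haveILetI false

universe u

open MvPolynomial W4bk4grassmannian

namespace Groth.Agent.Lib.helper10.DetV

open Groth.Agent.Lib.helper10.SMT Groth.Agent.Lib.helper10.FFT

section ProductMinors

variable {R : Type*} [CommRing R]

/-- The determinant of a product of an `(n + 1) × n` and an `n × (n + 1)` matrix vanishes. -/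
theorem det_mul_eq_zero_of_lt {n : ℕ} (A : Matrix (Fin (n + 1)) (Fin n) R)
    (B : Matrix (Fin n) (Fin (n + 1)) R) : (A * B).det = 0 := by
  obtain ⟨A', hA'⟩ : ∃ A' : Matrix (Fin (n + 1)) (Fin (n + 1)) R,
      A' = Matrix.of fun (i : Fin (n + 1)) (k : Fin (n + 1)) =>
        if h : k.val < n then A i ⟨k.val, h⟩ else 0 := ⟨_, rfl⟩
  obtain ⟨B', hB'⟩ : ∃ B' : Matrix (Fin (n + 1)) (Fin (n + 1)) R,
      B' = Matrix.of fun (k : Fin (n + 1)) (j : Fin (n + 1)) =>
        if h : k.val < n then B ⟨k.val, h⟩ j else 0 := ⟨_, rfl⟩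
  have h1 : A * B = A' * B' := by
    refine Matrix.ext fun i j => ?_
    rw [Matrix.mul_apply, Matrix.mul_apply, Fin.sum_univ_castSucc, hA', hB']
    simp only [Matrix.of_apply, Fin.val_castSucc, Fin.val_last, lt_irrefl, dite_false, mul_zero,
      add_zero]
    apply Finset.sum_congr rfl
    intro k _
    rw [dif_pos k.isLt, dif_pos k.isLt]
  have h2 : A'.det = 0 := by
    apply Matrix.det_eq_zero_of_column_eq_zero (Fin.last n)
    intro i
    rw [hA', Matrix.of_apply, dif_neg]
    rw [Fin.val_last]
    exact lt_irrefl n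
  rw [h1, Matrix.det_mul, h2, zero_mul]

end ProductMinors

section Pairing

variable (K : Type u) [Field K] (n m q : ℕ)

/-- The generic `m × n` matrix `U` in the coordinate ring of pairs. -/
noncomputable def Umat : Matrix (Fin m) (Fin n) (PairRing K n m q) :=
  Matrix.of fun i k => X (Sum.inl (i, k))

/-- The generic `n × q` matrix `W` in the coordinate ring of pairs. -/
noncomputable def Wmat : Matrix (Fin n) (Fin q) (PairRing K n m q) :=
  Matrix.of fun k j => X (Sum.inr (k, j))

theorem pairingMap_X (p : Fin m × Fin q) :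
    pairingMap K n m q (X p) = (Umat K n m q * Wmat K n m q) p.1 p.2 := by
  unfold pairingMap
  rw [aeval_X, Matrix.mul_apply]
  rfl

theorem pairingMap_minor (f : Fin (n + 1) → Fin m) (g : Fin (n + 1) → Fin q) :
    pairingMap K n m q ((genMatrix K m q).submatrix f g).det = 0 := by
  rw [AlgHom.map_det]
  have h1 : (pairingMap K n m q).mapMatrix ((genMatrix K m q).submatrix f g) =
      (Umat K n m q).submatrix f id * (Wmat K n m q).submatrix id g := by
    refine Matrix.ext fun r c => ?_
    rw [AlgHom.mapMatrix_apply, Matrix.map_apply, Matrix.submatrix_apply]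
    unfold genMatrix
    rw [Matrix.of_apply, pairingMap_X, Matrix.mul_apply, Matrix.mul_apply]
    rfl
  rw [h1]
  exact det_mul_eq_zero_of_lt _ _

theorem minorIdeal_le_ker_pairingMap :
    CAlgX.minorIdeal (genMatrix K m q) (n + 1) ≤ RingHom.ker (pairingMap K n m q).toRingHom := by
  unfold CAlgX.minorIdeal
  rw [Ideal.span_le]
  rintro _ ⟨fg, rfl⟩
  rw [SetLike.mem_coe, RingHom.mem_ker]
  exact pairingMap_minor K n m q fg.1 fg.2

/-- Evaluating the pairing at `(U₀, W₀)` is evaluating at the product `U₀ W₀`. -/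
theorem eval_pairingMap (U₀ : Matrix (Fin m) (Fin n) K) (W₀ : Matrix (Fin n) (Fin q) K)
    (f : MvPolynomial (Fin m × Fin q) K) :
    MvPolynomial.eval (Sum.elim (fun p : Fin m × Fin n => U₀ p.1 p.2)
      (fun p : Fin n × Fin q => W₀ p.1 p.2)) (pairingMap K n m q f) =
    MvPolynomial.eval (fun p : Fin m × Fin q => (U₀ * W₀) p.1 p.2) f := by
  have h : (MvPolynomial.aeval (Sum.elim (fun p : Fin m × Fin n => U₀ p.1 p.2)
      (fun p : Fin n × Fin q => W₀ p.1 p.2)) : PairRing K n m q →ₐ[K] K).comp
      (pairingMap K n m q) =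
      MvPolynomial.aeval (fun p : Fin m × Fin q => (U₀ * W₀) p.1 p.2) := by
    apply MvPolynomial.algHom_ext
    intro p
    rw [AlgHom.comp_apply, aeval_X]
    unfold pairingMap
    rw [aeval_X, map_sum, Matrix.mul_apply]
    apply Finset.sum_congr rfl
    intro k _
    rw [map_mul, aeval_X, aeval_X]
    rfl
  have h1 := DFunLike.congr_fun h f
  rw [AlgHom.comp_apply] at h1
  exact h1

theorem pairingMap_injective_of_le_left (h : m ≤ n) :
    Function.Injective (pairingMap K n m q) := by
  obtain ⟨ρ, hρ⟩ : ∃ ρ : PairRing K n m q →ₐ[K] MvPolynomial (Fin m × Fin q) K,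
      ρ = MvPolynomial.aeval (Sum.elim
        (fun p : Fin m × Fin n => if p.1.val = p.2.val then (1 : MvPolynomial (Fin m × Fin q) K)
          else 0)
        (fun p : Fin n × Fin q => if h : p.1.val < m then X (⟨p.1.val, h⟩, p.2) else 0)) :=
    ⟨_, rfl⟩
  have hcomp : ρ.comp (pairingMap K n m q) = AlgHom.id K _ := by
    apply MvPolynomial.algHom_ext
    intro p
    rw [AlgHom.comp_apply, AlgHom.id_apply]
    unfold pairingMap
    rw [aeval_X, map_sum, Finset.sum_eq_single (⟨p.1.val, lt_of_lt_of_le p.1.isLt h⟩ : Fin n)]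
    · rw [map_mul, hρ, aeval_X, aeval_X]
      simp only [Sum.elim_inl, Sum.elim_inr]
      rw [if_pos trivial, dif_pos p.1.isLt, one_mul]
    · intro k _ hk
      rw [map_mul, hρ, aeval_X]
      simp only [Sum.elim_inl]
      rw [if_neg, zero_mul]
      intro heq
      apply hk
      apply Fin.ext
      exact heq.symm
    · intro h0
      exact absurd (Finset.mem_univ _) h0
  intro a b hab
  have := congrArg ρ hab
  rw [← AlgHom.comp_apply, ← AlgHom.comp_apply, hcomp] at this
  exact this

theorem pairingMap_injective_of_le_right (h : q ≤ n) :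
    Function.Injective (pairingMap K n m q) := by
  obtain ⟨ρ, hρ⟩ : ∃ ρ : PairRing K n m q →ₐ[K] MvPolynomial (Fin m × Fin q) K,
      ρ = MvPolynomial.aeval (Sum.elim
        (fun p : Fin m × Fin n => if h : p.2.val < q then X (p.1, ⟨p.2.val, h⟩) else 0)
        (fun p : Fin n × Fin q => if p.1.val = p.2.val then (1 : MvPolynomial (Fin m × Fin q) K)
          else 0)) :=
    ⟨_, rfl⟩
  have hcomp : ρ.comp (pairingMap K n m q) = AlgHom.id K _ := by
    apply MvPolynomial.algHom_ext
    intro p
    rw [AlgHom.comp_apply, AlgHom.id_apply]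
    unfold pairingMap
    rw [aeval_X, map_sum, Finset.sum_eq_single (⟨p.2.val, lt_of_lt_of_le p.2.isLt h⟩ : Fin n)]
    · rw [map_mul, hρ, aeval_X, aeval_X]
      simp only [Sum.elim_inl, Sum.elim_inr]
      rw [dif_pos p.2.isLt, if_pos trivial, mul_one]
    · intro k _ hk
      rw [map_mul, hρ, aeval_X, aeval_X]
      simp only [Sum.elim_inr]
      rw [if_neg, mul_zero]
      intro heq
      apply hk
      apply Fin.ext
      exact heq
    · intro h0
      exact absurd (Finset.mem_univ _) h0
  intro a b hab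
  have := congrArg ρ hab
  rw [← AlgHom.comp_apply, ← AlgHom.comp_apply, hcomp] at this
  exact this

end Pairing

end Groth.Agent.Lib.helper10.DetV
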