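import Mathlib

/-!
# Dévissage for modules over a Noetherian ring via residue fields (helper10)

A property of modules over a Noetherian ring `A` which holds for zero modules, is invariant under
isomorphism, passes to the middle and to the left term of short exact sequences, passes to
filtered colimits and holds for all residue fields `κ(p)`, holds for all modules.
Also: every module is the filtered colimit of its finitely generated submodules.
-/

set_option autoImplicit false
set_option linter.style.haveILetI false
set_option linter.unusedVariables false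
universe u

namespace Groth.Agent.Lib.helper10.Devissage

open CategoryTheory CategoryTheory.Limits

variable {A : Type u} [CommRing A]

section fg

variable (N : Type u) [AddCommGroup N] [Module A N]

/-- the directed set of finitely generated submodules -/
abbrev FGSub : Type u := {N' : Submodule A N // N'.FG}

instance : Nonempty (FGSub (A := A) N) := ⟨⟨⊥, Submodule.fg_bot⟩⟩

instance : IsDirected (FGSub (A := A) N) (· ≤ ·) :=
  ⟨fun a b => ⟨⟨a.1 ⊔ b.1, a.2.sup b.2⟩, le_sup_left, le_sup_right⟩⟩

instance : IsFiltered (FGSub (A := A) N) := isFiltered_of_directed_le_nonempty _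

/-- the diagram of finitely generated submodules -/
noncomputable def fgDiag : FGSub (A := A) N ⥤ ModuleCat.{u} A where
  obj N' := ModuleCat.of A N'.1
  map {X Y} h := ModuleCat.ofHom (Submodule.inclusion (leOfHom h))
  map_id X := rfl
  map_comp f g := rfl

/-- the cocone of finitely generated submodules -/
noncomputable def fgCocone : Cocone (fgDiag (A := A) N) where
  pt := ModuleCat.of A N
  ι := { app := fun N' => ModuleCat.ofHom N'.1.subtype
         naturality := fun X Y f => rfl }

/-- a module is the filtered colimit of its finitely generated submodules -/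
noncomputable def fgIsColimit : IsColimit (fgCocone (A := A) N) := by
  apply isColimitOfReflects (forget (ModuleCat.{u} A))
  refine Types.FilteredColimit.isColimitOf' _ _ ?_ ?_
  · intro x
    change N at x
    exact ⟨⟨Submodule.span A {x}, Submodule.fg_span_singleton x⟩,
      ⟨x, Submodule.mem_span_singleton_self x⟩, rfl⟩
  · intro i x y hxy
    change ↥i.1 at x y
    refine ⟨i, 𝟙 i, ?_⟩
    have : x = y := Subtype.ext hxy
    rw [this]

end fg

section main

variable (Q : ModuleCat.{u} A → Prop)
  (zero : ∀ L : ModuleCat.{u} A, IsZero L → Q L)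
  (iso : ∀ L L' : ModuleCat.{u} A, (L ≅ L') → Q L → Q L')
  (mid : ∀ S : ShortComplex (ModuleCat.{u} A), S.ShortExact → Q S.X₁ → Q S.X₃ → Q S.X₂)
  (left : ∀ S : ShortComplex (ModuleCat.{u} A), S.ShortExact → Q S.X₂ → Q S.X₃ → Q S.X₁)
  (colim : ∀ (J : Type u) [SmallCategory J] [IsFiltered J] (D : J ⥤ ModuleCat.{u} A)
    (c : Cocone D), IsColimit c → (∀ j, Q (D.obj j)) → Q c.pt)

include colim in
theorem of_fg (N : Type u) [AddCommGroup N] [Module A N]
    (h : ∀ N' : Submodule A N, N'.FG → Q (ModuleCat.of A N')) : Q (ModuleCat.of A N) :=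
  colim _ _ _ (fgIsColimit (A := A) N) (fun j => h j.1 j.2)

variable [IsNoetherianRing A]

include zero iso mid in
theorem of_lt_annihilator (p : Ideal A)
    (IH : ∀ q : Ideal A, q.IsPrime → p < q → Q (ModuleCat.of A (A ⧸ q)))
    (L : Type u) [AddCommGroup L] [Module A L] (hfin : Module.Finite A L) :
    p < Module.annihilator A L → Q (ModuleCat.of A L) := by
  induction hfin using IsNoetherianRing.induction_on_isQuotientEquivQuotientPrime A with
  | subsingleton N =>
    intro _
    exact zero _ (ModuleCat.isZero_of_subsingleton _)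
  | quotient N q f =>
    intro h
    have : Module.annihilator A N = q.1 := by rw [f.annihilator_eq, Ideal.annihilator_quotient]
    rw [this] at h
    exact iso _ _ (f.symm.toModuleIso) (IH q.1 q.2 h)
  | exact N₁ N₂ N₃ f g hf hg hfg h₁ h₃ =>
    intro h
    have hS : (ModuleCat.shortComplexOfCompEqZero f g hfg.linearMap_comp_eq_zero).ShortExact :=
      ModuleCat.shortComplex_shortExact _ hfg hf hg
    exact mid _ hS (h₁ (lt_of_lt_of_le h (f.annihilator_le_of_injective hf)))
      (h₃ (lt_of_lt_of_le h (g.annihilator_le_of_surjective hg)))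

include zero iso mid in
theorem of_finite (h : ∀ q : Ideal A, q.IsPrime → Q (ModuleCat.of A (A ⧸ q)))
    (L : Type u) [AddCommGroup L] [Module A L] (hfin : Module.Finite A L) :
    Q (ModuleCat.of A L) := by
  induction hfin using IsNoetherianRing.induction_on_isQuotientEquivQuotientPrime A with
  | subsingleton N => exact zero _ (ModuleCat.isZero_of_subsingleton _)
  | quotient N q f => exact iso _ _ (f.symm.toModuleIso) (h q.1 q.2)
  | exact N₁ N₂ N₃ f g hf hg hfg h₁ h₃ =>
    have hS : (ModuleCat.shortComplexOfCompEqZero f g hfg.linearMap_comp_eq_zero).ShortExact :=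
      ModuleCat.shortComplex_shortExact _ hfg hf hg
    exact mid _ hS h₁ h₃

omit [IsNoetherianRing A] in
theorem exists_kill (p : Ideal A) [hp : p.IsPrime]
    (φ : (A ⧸ p) →ₗ[A] p.ResidueField)
    (hφ : ∀ a : A ⧸ p, φ a = algebraMap (A ⧸ p) p.ResidueField a)
    (L : Submodule A (p.ResidueField ⧸ LinearMap.range φ)) (hL : L.FG) :
    ∃ f : A, f ∉ p ∧ ∀ y ∈ L, f • y = 0 := by
  refine Submodule.fg_induction (motive := fun L _ => ∃ f : A, f ∉ p ∧ ∀ y ∈ L, f • y = 0)
    ?_ ?_ L hL
  · intro y
    obtain ⟨k, rfl⟩ := Submodule.mkQ_surjective _ y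
    obtain ⟨a, s, hs, rfl⟩ := IsFractionRing.div_surjective (A := A ⧸ p) k
    obtain ⟨f, rfl⟩ := Ideal.Quotient.mk_surjective s
    have hf : f ∉ p := by
      intro hf
      have : (Ideal.Quotient.mk p f) = 0 := Ideal.Quotient.eq_zero_iff_mem.mpr hf
      rw [this] at hs
      exact zero_notMem_nonZeroDivisors hs
    refine ⟨f, hf, ?_⟩
    have hne : algebraMap (A ⧸ p) p.ResidueField (Ideal.Quotient.mk p f) ≠ 0 := by
      intro h0
      have := (IsFractionRing.injective (A ⧸ p) p.ResidueField) (h0.trans (map_zero _).symm)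
      rw [this] at hs
      exact zero_notMem_nonZeroDivisors hs
    have h1 : f • (Submodule.mkQ (LinearMap.range φ)
        (algebraMap (A ⧸ p) p.ResidueField a /
          algebraMap (A ⧸ p) p.ResidueField (Ideal.Quotient.mk p f))) = 0 := by
      rw [← map_smul, Submodule.mkQ_apply, Submodule.Quotient.mk_eq_zero]
      refine ⟨a, ?_⟩
      rw [hφ, Algebra.smul_def, IsScalarTower.algebraMap_apply A (A ⧸ p) p.ResidueField,
        Ideal.Quotient.algebraMap_eq, mul_div_cancel₀ _ hne]
    intro y hy
    obtain ⟨c, rfl⟩ := Submodule.mem_span_singleton.mp hy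
    rw [smul_comm, h1, smul_zero]
  · intro L₁ L₂ _ _ h₁ h₂
    obtain ⟨f₁, hf₁, hk₁⟩ := h₁
    obtain ⟨f₂, hf₂, hk₂⟩ := h₂
    refine ⟨f₁ * f₂, fun h => (hp.mem_or_mem h).elim hf₁ hf₂, ?_⟩
    intro y hy
    obtain ⟨y₁, hy₁, y₂, hy₂, rfl⟩ := Submodule.mem_sup.mp hy
    have e1 : (f₁ * f₂) • y₁ = 0 := by rw [mul_comm, mul_smul, hk₁ y₁ hy₁, smul_zero]
    have e2 : (f₁ * f₂) • y₂ = 0 := by rw [mul_smul, hk₂ y₂ hy₂, smul_zero]
    rw [smul_add, e1, e2, add_zero]

include zero iso mid left colim in
theorem quot_prime (p : Ideal A) [hp : p.IsPrime]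
    (IH : ∀ q : Ideal A, q.IsPrime → p < q → Q (ModuleCat.of A (A ⧸ q)))
    (hK : Q (ModuleCat.of A p.ResidueField)) : Q (ModuleCat.of A (A ⧸ p)) := by
  let φ : (A ⧸ p) →ₗ[A] p.ResidueField :=
    (IsScalarTower.toAlgHom A (A ⧸ p) p.ResidueField).toLinearMap
  have hφ' : ∀ a : A ⧸ p, φ a = algebraMap (A ⧸ p) p.ResidueField a := fun a => rfl
  have hφ : Function.Injective φ := IsFractionRing.injective (A ⧸ p) p.ResidueField
  have hS : (ModuleCat.shortComplexOfCompEqZero φ (LinearMap.range φ).mkQ
      (LinearMap.range_mkQ_comp φ)).ShortExact :=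
    ModuleCat.shortComplex_shortExact _ (LinearMap.exact_map_mkQ_range φ) hφ
      (Submodule.mkQ_surjective _)
  refine left _ hS hK ?_
  apply of_fg Q colim
  intro L hL
  haveI : Module.Finite A L := Module.Finite.iff_fg.mpr hL
  apply of_lt_annihilator Q zero iso mid p IH L inferInstance
  obtain ⟨f, hf, hk⟩ := exists_kill p φ hφ' L hL
  rw [SetLike.lt_iff_le_and_exists]
  refine ⟨?_, f, ?_, hf⟩
  · intro a ha
    rw [Module.mem_annihilator]
    rintro ⟨y, hy⟩
    apply Subtype.ext
    change a • y = 0
    obtain ⟨k, rfl⟩ := Submodule.mkQ_surjective _ y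
    rw [← map_smul, Algebra.smul_def, Ideal.algebraMap_residueField_eq_zero.mpr ha, zero_mul,
      map_zero]
  · rw [Module.mem_annihilator]
    rintro ⟨y, hy⟩
    apply Subtype.ext
    exact hk y hy

include zero iso mid left colim in
/-- dévissage: the property holds for all `A ⧸ p` -/
theorem quot_prime_all (res : ∀ (p : Ideal A) [p.IsPrime], Q (ModuleCat.of A p.ResidueField))
    (p : Ideal A) (hp : p.IsPrime) : Q (ModuleCat.of A (A ⧸ p)) := by
  induction p using WellFoundedGT.induction with
  | ind p IH =>
    haveI := hp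
    exact quot_prime Q zero iso mid left colim p (fun q hq hpq => IH q hpq hq) (res p)

include zero iso mid left colim in
/-- dévissage: the property holds for all finite modules -/
theorem finite (res : ∀ (p : Ideal A) [p.IsPrime], Q (ModuleCat.of A p.ResidueField))
    (L : Type u) [AddCommGroup L] [Module A L] [Module.Finite A L] : Q (ModuleCat.of A L) :=
  of_finite Q zero iso mid (quot_prime_all Q zero iso mid left colim res) L inferInstance

include zero iso mid left colim in
/-- dévissage: the property holds for all modules -/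
theorem all (res : ∀ (p : Ideal A) [p.IsPrime], Q (ModuleCat.of A p.ResidueField))
    (L : ModuleCat.{u} A) : Q L :=
  of_fg Q colim L (fun N' hN' =>
    of_finite Q zero iso mid (quot_prime_all Q zero iso mid left colim res) N'
      (Module.Finite.iff_fg.mpr hN'))

end main

end Groth.Agent.Lib.helper10.Devissage
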