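import Mathlib
import Groth.Agent.S9568

set_option autoImplicit false

namespace Groth.Agent.Lib.helper10

open scoped TensorProduct

/-- `1 ⊗ z = 0` in `(A/𝔪) ⊗ N` for `z ∈ 𝔪 N` (any surjective algebra map with kernel `I`). -/
lemma one_tmul_eq_zero_of_mem_smul_top {A κ N : Type*} [CommRing A] [CommRing κ] [Algebra A κ]
    [AddCommGroup N] [Module A N] (I : Ideal A) (hI : ∀ a ∈ I, algebraMap A κ a = 0) (z : N)
    (hz : z ∈ I • (⊤ : Submodule A N)) : (1 : κ) ⊗ₜ[A] z = 0 := by
  refine Submodule.smul_induction_on hz (fun a ha n _ => ?_) (fun x y hx hy => ?_)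
  · rw [← TensorProduct.smul_tmul, Algebra.smul_def, hI a ha, zero_mul, TensorProduct.zero_tmul]
  · rw [TensorProduct.tmul_add, hx, hy, add_zero]

theorem projective_quotient_of_inter_le {R : Type*} [CommRing R] {P : Type*} [AddCommGroup P]
    [Module R P] [Module.Finite R P] [Module.Projective R P] (K : Submodule R P) (hK : K.FG)
    (h : ∀ 𝔪 : Ideal R, 𝔪.IsMaximal → K ⊓ 𝔪 • ⊤ ≤ 𝔪 • K) : Module.Projective R (P ⧸ K) := by
  have : Module.FinitePresentation R P := Module.finitePresentation_of_projective R P
  have : Module.FinitePresentation R (P ⧸ K) :=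
    Module.finitePresentation_of_surjective K.mkQ (Submodule.mkQ_surjective K)
      (by rwa [Submodule.ker_mkQ])
  have : Module.Finite R K := Module.Finite.iff_fg.mpr hK
  refine Module.projective_of_localization_maximal fun 𝔪 h𝔪 => ?_
  have := h𝔪
  set S := 𝔪.primeCompl with hS
  let f : LocalizedModule S K →ₗ[Localization.AtPrime 𝔪] LocalizedModule S P :=
    LocalizedModule.map S K.subtype
  let g : LocalizedModule S P →ₗ[Localization.AtPrime 𝔪] LocalizedModule S (P ⧸ K) :=
    LocalizedModule.map S K.mkQ
  have hg : Function.Surjective g :=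
    LocalizedModule.map_surjective S _ (Submodule.mkQ_surjective K)
  have hfg : Function.Exact f g :=
    LocalizedModule.map_exact S _ _ (LinearMap.exact_subtype_mkQ K)
  have : Module.Free (Localization.AtPrime 𝔪) (LocalizedModule S P) :=
    Module.free_of_flat_of_isLocalRing
  set κ := IsLocalRing.ResidueField (Localization.AtPrime 𝔪) with hκ
  have hres : Function.Surjective (algebraMap (Localization.AtPrime 𝔪) κ) :=
    IsLocalRing.residue_surjective
  have hker : ∀ a ∈ IsLocalRing.maximalIdeal (Localization.AtPrime 𝔪),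
      algebraMap (Localization.AtPrime 𝔪) κ a = 0 := fun a ha =>
    (IsLocalRing.residue_eq_zero_iff a).mpr ha
  -- elements of `𝔪_𝔪 • P_𝔪` come from `𝔪 • P`
  have hL2 : ∀ y ∈ IsLocalRing.maximalIdeal (Localization.AtPrime 𝔪) •
      (⊤ : Submodule (Localization.AtPrime 𝔪) (LocalizedModule S P)),
      ∃ m ∈ 𝔪 • (⊤ : Submodule R P), ∃ s : S, y = LocalizedModule.mk m s := by
    intro y hy
    refine Submodule.smul_induction_on hy (fun r hr n _ => ?_) (fun x y hx hy => ?_)
    · obtain ⟨a, s₁, rfl⟩ := IsLocalization.exists_mk'_eq S r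
      induction n using LocalizedModule.induction_on with
      | h q s₂ =>
        rw [IsLocalization.AtPrime.mk'_mem_maximal_iff (Localization.AtPrime 𝔪) 𝔪] at hr
        refine ⟨a • q, Submodule.smul_mem_smul hr Submodule.mem_top, s₁ * s₂, ?_⟩
        rw [← Localization.mk_eq_mk', LocalizedModule.mk_smul_mk]
    · obtain ⟨m₁, hm₁, s₁, rfl⟩ := hx
      obtain ⟨m₂, hm₂, s₂, rfl⟩ := hy
      refine ⟨s₂ • m₁ + s₁ • m₂, ?_, s₁ * s₂, LocalizedModule.mk_add_mk⟩
      exact add_mem (Submodule.smul_mem _ _ hm₁) (Submodule.smul_mem _ _ hm₂)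
  have hinj : Function.Injective (f.lTensor κ) := by
    rw [injective_iff_map_eq_zero]
    intro x hx
    obtain ⟨z, rfl⟩ := TensorProduct.mk_surjective (Localization.AtPrime 𝔪)
      (LocalizedModule S K) κ hres x
    induction z using LocalizedModule.induction_on with
    | h kk s =>
      simp only [TensorProduct.mk_apply, LinearMap.lTensor_tmul, f, LocalizedModule.map_mk,
        Submodule.subtype_apply] at hx ⊢
      have h1 := Groth.Agent.S9568.mem_smul_top_of_tmul_eq_zero hres _ hx
      have hker' : RingHom.ker (algebraMap (Localization.AtPrime 𝔪) κ) =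
          IsLocalRing.maximalIdeal (Localization.AtPrime 𝔪) := IsLocalRing.ker_residue
      rw [hker'] at h1
      obtain ⟨m, hm, s', hms⟩ := hL2 _ h1
      rw [LocalizedModule.mk_eq] at hms
      obtain ⟨u, hu⟩ := hms
      -- t = u * s'
      have htk : ((u * s' : S) : R) • (kk : P) ∈ K ⊓ 𝔪 • ⊤ := by
        refine ⟨K.smul_mem _ kk.2, ?_⟩
        have : ((u * s' : S) : R) • (kk : P) = u • s • m := by
          rw [← hu, Submonoid.coe_mul, mul_smul]; rfl
        rw [this]
        exact Submodule.smul_mem _ _ (Submodule.smul_mem _ _ hm)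
      have htk' := h 𝔪 h𝔪 htk
      have htk'' : ((u * s' : S) : R) • kk ∈ 𝔪 • (⊤ : Submodule R K) := by
        rw [Submodule.mem_smul_top_iff]
        exact htk'
      have hz : (LocalizedModule.mk kk s : LocalizedModule S K) =
          LocalizedModule.mk (((u * s' : S) : R) • kk) ((u * s') * s) :=
        (LocalizedModule.mk_cancel_common_left (u * s') s kk).symm
      rw [hz]
      -- now show 1 ⊗ mk w t = 0 for w ∈ 𝔪 • ⊤
      generalize ((u * s' : S) : R) • kk = w at htk''
      generalize (u * s') * s = t
      refine Submodule.smul_induction_on htk'' (fun a ha n _ => ?_) (fun x y hx hy => ?_)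
      · have : (LocalizedModule.mk (a • n) t : LocalizedModule S K) =
            (algebraMap R (Localization.AtPrime 𝔪) a) • LocalizedModule.mk n t := by
          rw [algebraMap_smul, LocalizedModule.smul'_mk]
        rw [this, ← TensorProduct.smul_tmul, Algebra.smul_def, mul_one]
        have : algebraMap (Localization.AtPrime 𝔪) κ
            (algebraMap R (Localization.AtPrime 𝔪) a) = 0 := by
          apply hker
          rw [IsLocalization.AtPrime.to_map_mem_maximal_iff (Localization.AtPrime 𝔪) 𝔪]
          exact ha
        rw [this, TensorProduct.zero_tmul]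
      · have : (LocalizedModule.mk (x + y) t : LocalizedModule S K) =
            LocalizedModule.mk x t + LocalizedModule.mk y t := by
          rw [LocalizedModule.mk_add_mk, ← smul_add]
          exact (LocalizedModule.mk_cancel_common_left t t (x + y)).symm
        rw [this, TensorProduct.tmul_add, hx, hy, add_zero]
  have := Module.free_of_lTensor_residueField_injective f g hg hfg hinj
  infer_instance

end Groth.Agent.Lib.helper10
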