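import Mathlib

set_option autoImplicit false

namespace Groth.Agent.Lib.helper10

/-- If `M` is projective over a quotient `S` of `W`, then `M / I M` is projective over `W / I`,
provided `S` maps to `W / I`. -/
theorem projective_quotient_smul_top {W : Type*} [CommRing W] (I : Ideal W) {S : Type*}
    [CommRing S] [Algebra W S] (hS : Function.Surjective (algebraMap W S))
    (ρ : S →ₐ[W] W ⧸ I) {M : Type*} [AddCommGroup M] [Module W M] [Module S M]
    [IsScalarTower W S M] [Module.Projective S M] :
    Module.Projective (W ⧸ I) (M ⧸ I • (⊤ : Submodule W M)) := by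
  classical
  obtain ⟨s, hs⟩ := (Module.projective_def' (R := S) (P := M)).mp inferInstance
  let t : M →ₗ[W] (M →₀ (W ⧸ I)) :=
    (Finsupp.mapRange.linearMap ρ.toLinearMap) ∘ₗ (s.restrictScalars W)
  have ht : I • (⊤ : Submodule W M) ≤ LinearMap.ker t := by
    rw [Submodule.smul_le]
    intro a ha m _
    rw [LinearMap.mem_ker, map_smul]
    ext c
    rw [Finsupp.smul_apply, Finsupp.zero_apply, Algebra.smul_def, Ideal.Quotient.algebraMap_eq,
      Ideal.Quotient.eq_zero_iff_mem.mpr ha, zero_mul]
  let t' : (M ⧸ I • (⊤ : Submodule W M)) →ₗ[W] (M →₀ (W ⧸ I)) := Submodule.liftQ _ t ht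
  let s' : (M ⧸ I • (⊤ : Submodule W M)) →ₗ[W ⧸ I] (M →₀ (W ⧸ I)) :=
    t'.extendScalarsOfSurjective Ideal.Quotient.mk_surjective
  let π' : (M →₀ (W ⧸ I)) →ₗ[W ⧸ I] (M ⧸ I • (⊤ : Submodule W M)) :=
    Finsupp.linearCombination (W ⧸ I) (fun m : M => (Submodule.Quotient.mk m : M ⧸ I • (⊤ : Submodule W M)))
  have key : ∀ v : M →₀ S, π' (Finsupp.mapRange.linearMap ρ.toLinearMap v) =
      Submodule.Quotient.mk (Finsupp.linearCombination S id v) := by
    intro v
    induction v using Finsupp.induction_linear with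
    | zero => simp
    | add f g hf hg => simp only [map_add, hf, hg, Submodule.Quotient.mk_add]
    | single c r =>
      obtain ⟨w, rfl⟩ := hS r
      simp only [Finsupp.mapRange.linearMap_apply, Finsupp.mapRange_single, AlgHom.toLinearMap_apply,
        AlgHom.commutes, π', Finsupp.linearCombination_single, id, Ideal.Quotient.algebraMap_eq,
        algebraMap_smul]
      rfl
  refine Module.Projective.of_split s' π' ?_
  ext x
  obtain ⟨m, rfl⟩ := Submodule.Quotient.mk_surjective _ x
  have h1 : s' (Submodule.Quotient.mk m) = Finsupp.mapRange.linearMap ρ.toLinearMap (s m) := rfl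
  rw [LinearMap.comp_apply, h1, key, LinearMap.id_apply]
  congr 1
  exact DFunLike.congr_fun hs m

end Groth.Agent.Lib.helper10
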