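import Mathlib

set_option autoImplicit false

namespace Groth.Agent.Lib.helper10

/-- Saturation: if `π z ∈ 𝔄 M` for a projective module over a quotient `S` of `W`
then `z ∈ 𝔄 M + π M`, given the corresponding statement for the ring. -/
theorem mem_sup_of_smul_mem {W : Type*} [CommRing W] (π : W) (𝔄 : Ideal W) {S : Type*}
    [CommRing S] [Algebra W S] (hS : Function.Surjective (algebraMap W S))
    (hring : ∀ t : W, π * t ∈ 𝔄 ⊔ RingHom.ker (algebraMap W S) → t ∈ 𝔄 ⊔ Ideal.span {π})
    {M : Type*} [AddCommGroup M] [Module W M] [Module S M] [IsScalarTower W S M]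
    [Module.Projective S M] (z : M) (hz : π • z ∈ 𝔄 • (⊤ : Submodule W M)) :
    z ∈ 𝔄 • (⊤ : Submodule W M) ⊔ Ideal.span {π} • (⊤ : Submodule W M) := by
  classical
  obtain ⟨s, hs⟩ := (Module.projective_def' (R := S) (P := M)).mp inferInstance
  have h1 : ∀ x ∈ 𝔄 • (⊤ : Submodule W M), ∀ c : M, ∃ a ∈ 𝔄, s x c = algebraMap W S a := by
    intro x hx c
    refine Submodule.smul_induction_on hx (fun a ha m _ => ?_) (fun x y hx hy => ?_)
    · obtain ⟨w, hw⟩ := hS (s m c)
      refine ⟨a * w, 𝔄.mul_mem_right _ ha, ?_⟩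
      rw [← algebraMap_smul S a m, map_smul, Finsupp.smul_apply, smul_eq_mul, ← hw, map_mul]
    · obtain ⟨a, ha, e1⟩ := hx
      obtain ⟨b, hb, e2⟩ := hy
      exact ⟨a + b, 𝔄.add_mem ha hb, by rw [map_add, Finsupp.add_apply, e1, e2, map_add]⟩
  have h2 : ∀ c, ∃ t ∈ 𝔄 ⊔ Ideal.span {π}, s z c = algebraMap W S t := by
    intro c
    obtain ⟨t, ht⟩ := hS (s z c)
    obtain ⟨a, ha, e⟩ := h1 _ hz c
    have h3 : algebraMap W S (π * t) = algebraMap W S a := by
      rw [map_mul, ht, ← e, ← algebraMap_smul S π z, map_smul, Finsupp.smul_apply, smul_eq_mul]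
    have hmem : π * t ∈ 𝔄 ⊔ RingHom.ker (algebraMap W S) := by
      have h4 : π * t - a ∈ RingHom.ker (algebraMap W S) := by
        rw [RingHom.mem_ker, map_sub, h3, sub_self]
      have e3 : π * t = a + (π * t - a) := by ring
      rw [e3]
      exact Submodule.add_mem_sup ha h4
    exact ⟨t, hring t hmem, ht.symm⟩
  have hz2 : z = Finsupp.linearCombination S id (s z) := (DFunLike.congr_fun hs z).symm
  rw [hz2, Finsupp.linearCombination_apply, Finsupp.sum]
  apply Submodule.sum_mem
  intro c _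
  obtain ⟨t, ht, e⟩ := h2 c
  rw [e, id, algebraMap_smul, ← Submodule.sup_smul]
  exact Submodule.smul_mem_smul ht Submodule.mem_top

end Groth.Agent.Lib.helper10
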