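import Mathlib

set_option autoImplicit false

universe u

namespace Groth.Agent.Lib.helper10

/-- For a prime `𝔮 ∋ p` of `W(k)` (`k` perfect), the ideal `𝔄 = W(y)` of Witt vectors with all
coefficients in the corresponding prime `y` of `k`. -/
theorem exists_witt_ideal (p : ℕ) [Fact p.Prime] (k : Type u) [CommRing k] [CharP k p]
    [PerfectRing k p] (𝔮 : Ideal (WittVector p k)) [𝔮.IsPrime] (hp : (p : WittVector p k) ∈ 𝔮) :
    ∃ 𝔄 : Ideal (WittVector p k), 𝔄 ≤ 𝔮 ∧ 𝔮 ≤ 𝔄 ⊔ Ideal.span {(p : WittVector p k)} ∧
      (∀ x ∈ 𝔄, WittVector.frobenius x ∈ 𝔄) ∧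
      (∀ x ∈ 𝔄, (WittVector.frobeniusEquiv p k).symm x ∈ 𝔄) ∧
      (∀ x, (p : WittVector p k) * x ∈ 𝔄 → x ∈ 𝔄) := by
  have hp0 : p ≠ 0 := (Fact.out : p.Prime).ne_zero
  have hspan : Ideal.span {(p : WittVector p k)} ≤ 𝔮 := by
    rw [Ideal.span_le, Set.singleton_subset_iff]; exact hp
  set y : Ideal k := Ideal.map (WittVector.constantCoeff : WittVector p k →+* k) 𝔮 with hy
  -- membership in `y` via Teichmüller lifts
  have hF1 : ∀ a : k, a ∈ y ↔ WittVector.teichmuller p a ∈ 𝔮 := by
    intro a
    constructor
    · intro ha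
      rw [hy, Ideal.mem_map_iff_of_surjective _ (WittVector.constantCoeff_surjective p)] at ha
      obtain ⟨x, hx, hxa⟩ := ha
      have h0 : (WittVector.teichmuller p a - x) ∈ Ideal.span {(p : WittVector p k)} := by
        rw [WittVector.mem_span_p_iff_coeff_zero_eq_zero]
        have : (WittVector.constantCoeff (WittVector.teichmuller p a - x) : k) = 0 := by
          rw [map_sub, hxa]
          simp [WittVector.constantCoeff_apply]
        simpa [WittVector.constantCoeff_apply] using this
      have : WittVector.teichmuller p a = (WittVector.teichmuller p a - x) + x := by ring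
      rw [this]
      exact 𝔮.add_mem (hspan h0) hx
    · intro ha
      have := Ideal.mem_map_of_mem (WittVector.constantCoeff : WittVector p k →+* k) ha
      simpa [WittVector.constantCoeff_apply] using this
  have hF2 : ∀ a : k, a ^ p ∈ y → a ∈ y := by
    intro a ha
    rw [hF1] at ha ⊢
    rw [map_pow] at ha
    exact Ideal.IsPrime.mem_of_pow_mem inferInstance _ ha
  let 𝔄 : Ideal (WittVector p k) := RingHom.ker (WittVector.map (Ideal.Quotient.mk y))
  have hF0 : ∀ x : WittVector p k, x ∈ 𝔄 ↔ ∀ i, x.coeff i ∈ y := by
    intro x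
    simp only [𝔄, RingHom.mem_ker, WittVector.ext_iff, WittVector.map_coeff, WittVector.zero_coeff,
      Ideal.Quotient.eq_zero_iff_mem]
  have hsub : ∀ x : WittVector p k, x.coeff 0 ∈ y → x ∈ 𝔮 := by
    intro x hx
    have h1 := (hF1 _).mp hx
    have h0 : (x - WittVector.teichmuller p (x.coeff 0)) ∈ Ideal.span {(p : WittVector p k)} := by
      rw [WittVector.mem_span_p_iff_coeff_zero_eq_zero]
      have : (WittVector.constantCoeff (x - WittVector.teichmuller p (x.coeff 0)) : k) = 0 := by
        rw [map_sub]
        simp [WittVector.constantCoeff_apply]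
      simpa [WittVector.constantCoeff_apply] using this
    have : x = (x - WittVector.teichmuller p (x.coeff 0)) + WittVector.teichmuller p (x.coeff 0) := by
      ring
    rw [this]
    exact 𝔮.add_mem (hspan h0) h1
  refine ⟨𝔄, ?_, ?_, ?_, ?_, ?_⟩
  · intro x hx
    exact hsub x ((hF0 x).mp hx 0)
  · intro x hx
    have ha : x.coeff 0 ∈ y := by
      have := Ideal.mem_map_of_mem (WittVector.constantCoeff : WittVector p k →+* k) hx
      simpa [WittVector.constantCoeff_apply] using this
    have h1 : WittVector.teichmuller p (x.coeff 0) ∈ 𝔄 := by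
      rw [hF0]
      intro i
      rcases Nat.eq_zero_or_pos i with rfl | hi
      · simpa using ha
      · rw [WittVector.teichmuller_coeff_pos p _ i hi]; exact y.zero_mem
    have h0 : (x - WittVector.teichmuller p (x.coeff 0)) ∈ Ideal.span {(p : WittVector p k)} := by
      rw [WittVector.mem_span_p_iff_coeff_zero_eq_zero]
      have : (WittVector.constantCoeff (x - WittVector.teichmuller p (x.coeff 0)) : k) = 0 := by
        rw [map_sub]
        simp [WittVector.constantCoeff_apply]
      simpa [WittVector.constantCoeff_apply] using this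
    have : x = WittVector.teichmuller p (x.coeff 0) + (x - WittVector.teichmuller p (x.coeff 0)) := by
      ring
    rw [this]
    exact Submodule.add_mem_sup h1 h0
  · intro x hx
    rw [hF0] at hx ⊢
    intro i
    rw [WittVector.coeff_frobenius_charP]
    exact Ideal.pow_mem_of_mem _ (hx i) _ (Nat.pos_of_ne_zero hp0)
  · intro x hx
    rw [hF0] at hx ⊢
    intro i
    apply hF2
    have := hx i
    have e : WittVector.frobenius ((WittVector.frobeniusEquiv p k).symm x) = x := by
      rw [← WittVector.frobeniusEquiv_apply]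
      exact RingEquiv.apply_symm_apply _ _
    rw [← e, WittVector.coeff_frobenius_charP] at this
    exact this
  · intro x hx
    rw [hF0] at hx ⊢
    intro i
    apply hF2
    have := hx (i + 1)
    rwa [mul_comm, WittVector.mul_charP_coeff_succ] at this

end Groth.Agent.Lib.helper10
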