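import Mathlib
import Groth.Agent.Lib.Helper10.Dieu1
import Groth.Agent.Lib.Helper10.Dieu4

set_option autoImplicit false
set_option linter.unusedSectionVars false

universe u v

namespace Groth.Agent.Lib.helper10

section Core

variable (p : ℕ) [Fact p.Prime] (k : Type u) [CommRing k] [CharP k p] [PerfectRing k p]
  {M : Type v} [AddCommGroup M] [Module (WittVector p k) M]
  (F : M →ₛₗ[(WittVector.frobenius : WittVector p k →+* WittVector p k)] M)
  (V : M →ₛₗ[((WittVector.frobeniusEquiv p k).symm : WittVector p k →+* WittVector p k)] M)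

/-- `V (frobenius w • m) = w • V m`. -/
theorem V_frob_smul (w : WittVector p k) (m : M) : V (WittVector.frobenius w • m) = w • V m := by
  rw [LinearMap.map_smulₛₗ]
  congr 1
  change (WittVector.frobeniusEquiv p k).symm (WittVector.frobenius w) = w
  rw [← WittVector.frobeniusEquiv_apply]
  exact RingEquiv.symm_apply_apply _ _

theorem V_smul' (w : WittVector p k) (m : M) :
    V (w • m) = (WittVector.frobeniusEquiv p k).symm w • V m := by
  rw [LinearMap.map_smulₛₗ]
  rfl

theorem V_p_smul (m : M) : V ((p : WittVector p k) • m) = (p : WittVector p k) • V m := by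
  rw [V_smul', map_natCast]

theorem mem_pM_iff' (x : M) :
    x ∈ Ideal.span {(p : WittVector p k)} • (⊤ : Submodule (WittVector p k) M) ↔
      ∃ y : M, x = (p : WittVector p k) • y := by
  rw [Submodule.ideal_span_singleton_smul]
  constructor
  · intro h
    obtain ⟨y, _, rfl⟩ := (Submodule.mem_smul_pointwise_iff_exists _ _ _).mp h
    exact ⟨y, rfl⟩
  · rintro ⟨y, rfl⟩
    exact Submodule.smul_mem_pointwise_smul _ _ _ Submodule.mem_top

variable [Module.Finite (WittVector p k) M]

/-- Core theorem: `M/VM` is projective over `W/p`. -/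
theorem dieu_core
    (hFV : ∀ m : M, F (V m) = (p : WittVector p k) • m)
    (hVF : ∀ m : M, V (F m) = (p : WittVector p k) • m)
    [Module.Projective (WittVector p k ⧸ Ideal.span {(p : WittVector p k)})
      (M ⧸ (Ideal.span {(p : WittVector p k)} • (⊤ : Submodule (WittVector p k) M)))]
    (hsat : ∀ 𝔄 : Ideal (WittVector p k), (∀ x, (p : WittVector p k) * x ∈ 𝔄 → x ∈ 𝔄) →
      ∀ z : M, (p : WittVector p k) • z ∈ 𝔄 • (⊤ : Submodule (WittVector p k) M) →
        z ∈ 𝔄 • (⊤ : Submodule (WittVector p k) M) ⊔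
          Ideal.span {(p : WittVector p k)} • (⊤ : Submodule (WittVector p k) M)) :
    Module.Projective (WittVector p k ⧸ Ideal.span {(p : WittVector p k)})
      ((M ⧸ (Ideal.span {(p : WittVector p k)} • (⊤ : Submodule (WittVector p k) M))) ⧸
        Submodule.span (WittVector p k ⧸ Ideal.span {(p : WittVector p k)})
          (Set.range fun m : M =>
            (Ideal.span {(p : WittVector p k)} • (⊤ : Submodule (WittVector p k) M)).mkQ (V m))) := by
  classical
  set I : Ideal (WittVector p k) := Ideal.span {(p : WittVector p k)} with hI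
  set pM : Submodule (WittVector p k) M := I • (⊤ : Submodule (WittVector p k) M) with hpM
  set N : Submodule (WittVector p k ⧸ I) (M ⧸ pM) :=
    Submodule.span (WittVector p k ⧸ I) (Set.range fun m : M => pM.mkQ (V m)) with hN
  have hsmul : ∀ (w : WittVector p k) (m : M),
      (Ideal.Quotient.mk I w) • (pM.mkQ m) = pM.mkQ (w • m) := fun w m => rfl
  have hpkill : ∀ m : M, pM.mkQ ((p : WittVector p k) • m) = 0 := by
    intro m
    rw [Submodule.mkQ_apply, Submodule.Quotient.mk_eq_zero]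
    exact Submodule.smul_mem_smul (Ideal.mem_span_singleton_self _) Submodule.mem_top
  have : Module.Finite (WittVector p k ⧸ I) (M ⧸ pM) :=
    Module.Finite.of_restrictScalars_finite (WittVector p k) _ _
  -- (b) elements of N are of the form q (V m)
  have hb : ∀ x ∈ N, ∃ m : M, x = pM.mkQ (V m) := by
    intro x hx
    refine Submodule.span_induction (p := fun x _ => ∃ m : M, x = pM.mkQ (V m)) ?_ ?_ ?_ ?_ hx
    · rintro _ ⟨m, rfl⟩
      exact ⟨m, rfl⟩
    · exact ⟨0, by simp⟩
    · rintro x y _ _ ⟨m₁, rfl⟩ ⟨m₂, rfl⟩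
      exact ⟨m₁ + m₂, by simp⟩
    · rintro r x _ ⟨m, rfl⟩
      obtain ⟨w, rfl⟩ := Ideal.Quotient.mk_surjective r
      exact ⟨WittVector.frobenius w • m, by rw [V_frob_smul, hsmul]⟩
  -- (c) N is finitely generated
  have hfg : N.FG := by
    obtain ⟨S, hS⟩ := (Module.Finite.fg_top : (⊤ : Submodule (WittVector p k) M).FG)
    have hNS : N = Submodule.span (WittVector p k ⧸ I) ((fun m : M => pM.mkQ (V m)) '' (S : Set M)) := by
      apply le_antisymm
      · rw [hN, Submodule.span_le]
        rintro _ ⟨m, rfl⟩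
        have hm : m ∈ Submodule.span (WittVector p k) (S : Set M) := by rw [hS]; trivial
        refine Submodule.span_induction
          (p := fun m _ => pM.mkQ (V m) ∈ Submodule.span (WittVector p k ⧸ I)
            ((fun m : M => pM.mkQ (V m)) '' (S : Set M))) ?_ ?_ ?_ ?_ hm
        · intro m hm
          exact Submodule.subset_span ⟨m, hm, rfl⟩
        · simp
        · intro x y _ _ hx hy
          rw [map_add, map_add]
          exact add_mem hx hy
        · intro w x _ hx
          rw [V_smul', ← hsmul]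
          exact Submodule.smul_mem _ _ hx
      · apply Submodule.span_mono
        rintro _ ⟨m, _, rfl⟩
        exact ⟨m, rfl⟩
    rw [hNS]
    exact Submodule.fg_span ((S.finite_toSet).image _)
  refine projective_quotient_of_inter_le N hfg ?_
  intro 𝔪 h𝔪
  have := h𝔪
  set 𝔮 : Ideal (WittVector p k) := 𝔪.comap (Ideal.Quotient.mk I) with h𝔮
  have h𝔮prime : 𝔮.IsPrime := Ideal.comap_isPrime _ _
  have hp𝔮 : (p : WittVector p k) ∈ 𝔮 := by
    rw [h𝔮, Ideal.mem_comap]
    have : Ideal.Quotient.mk I (p : WittVector p k) = 0 :=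
      Ideal.Quotient.eq_zero_iff_mem.mpr (Ideal.mem_span_singleton_self _)
    rw [this]
    exact 𝔪.zero_mem
  obtain ⟨𝔄, h𝔄q, hq𝔄, hσ, hσinv, hsatA⟩ := exists_witt_ideal p k 𝔮 hp𝔮
  -- (d1)
  have hd1 : ∀ x ∈ 𝔪 • (⊤ : Submodule (WittVector p k ⧸ I) (M ⧸ pM)),
      ∃ z ∈ 𝔮 • (⊤ : Submodule (WittVector p k) M), pM.mkQ z = x := by
    intro x hx
    refine Submodule.smul_induction_on hx (fun r hr n _ => ?_) (fun x y hx hy => ?_)
    · obtain ⟨w, rfl⟩ := Ideal.Quotient.mk_surjective r
      obtain ⟨n', rfl⟩ := Submodule.mkQ_surjective pM n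
      exact ⟨w • n', Submodule.smul_mem_smul hr Submodule.mem_top, (hsmul w n').symm⟩
    · obtain ⟨z₁, hz₁, rfl⟩ := hx
      obtain ⟨z₂, hz₂, rfl⟩ := hy
      exact ⟨z₁ + z₂, add_mem hz₁ hz₂, map_add _ _ _⟩
  -- F preserves 𝔄 • ⊤
  have hF𝔄 : ∀ u ∈ 𝔄 • (⊤ : Submodule (WittVector p k) M),
      F u ∈ 𝔄 • (⊤ : Submodule (WittVector p k) M) := by
    intro u hu
    refine Submodule.smul_induction_on hu (fun a ha n _ => ?_) (fun x y hx hy => ?_)
    · rw [LinearMap.map_smulₛₗ]
      exact Submodule.smul_mem_smul (hσ a ha) Submodule.mem_top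
    · rw [map_add]; exact add_mem hx hy
  -- (d5)
  have hd5 : ∀ u ∈ 𝔄 • (⊤ : Submodule (WittVector p k) M), pM.mkQ (V u) ∈ 𝔪 • N := by
    intro u hu
    refine Submodule.smul_induction_on hu (fun a ha n _ => ?_) (fun x y hx hy => ?_)
    · rw [V_smul', ← hsmul]
      refine Submodule.smul_mem_smul ?_ (Submodule.subset_span ⟨n, rfl⟩)
      exact h𝔄q (hσinv a ha)
    · rw [map_add, map_add]; exact add_mem hx hy
  rintro x ⟨hxN, hx𝔪⟩
  obtain ⟨m, rfl⟩ := hb x hxN
  obtain ⟨z, hz, hzx⟩ := hd1 _ hx𝔪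
  -- V m ∈ 𝔄 • ⊤ ⊔ pM
  have hVm : V m ∈ 𝔄 • (⊤ : Submodule (WittVector p k) M) ⊔ pM := by
    have h1 : V m - z ∈ pM := by
      rw [← Submodule.Quotient.mk_eq_zero pM, Submodule.Quotient.mk_sub]
      have : (Submodule.Quotient.mk z : M ⧸ pM) = Submodule.Quotient.mk (V m) := hzx
      rw [this, sub_self]
    have h2 : z ∈ 𝔄 • (⊤ : Submodule (WittVector p k) M) ⊔ pM := by
      have : 𝔮 • (⊤ : Submodule (WittVector p k) M) ≤ 𝔄 • (⊤ : Submodule (WittVector p k) M) ⊔ pM := by
        rw [hpM, ← Submodule.sup_smul]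
        exact Submodule.smul_mono_left hq𝔄
      exact this hz
    have : V m = z + (V m - z) := by abel
    rw [this]
    exact add_mem h2 (Submodule.mem_sup_right h1)
  -- (d3)
  obtain ⟨u₀, hu₀, w₀, hw₀, huw⟩ := Submodule.mem_sup.mp hVm
  obtain ⟨m', rfl⟩ := (mem_pM_iff' p k w₀).mp hw₀
  have hV1 : V (m - F m') = u₀ := by
    rw [map_sub, hVF, ← huw]; abel
  have hF1 : (p : WittVector p k) • (m - F m') ∈ 𝔄 • (⊤ : Submodule (WittVector p k) M) := by
    rw [← hFV, hV1]
    exact hF𝔄 u₀ hu₀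
  have h3 := hsat 𝔄 hsatA _ hF1
  obtain ⟨u, hu, w₁, hw₁, huw₁⟩ := Submodule.mem_sup.mp h3
  obtain ⟨m₂, rfl⟩ := (mem_pM_iff' p k w₁).mp hw₁
  have hm : m = F m' + (p : WittVector p k) • m₂ + u := by
    have : m - F m' = u + (p : WittVector p k) • m₂ := huw₁.symm
    rw [sub_eq_iff_eq_add] at this
    rw [this]; abel
  have hx : pM.mkQ (V m) = pM.mkQ (V u) := by
    have e1 : V m = (p : WittVector p k) • m' + (p : WittVector p k) • V m₂ + V u := by
      conv_lhs => rw [hm]
      rw [map_add, map_add, hVF, V_p_smul]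
    rw [e1, map_add, map_add, hpkill, hpkill, zero_add, zero_add]
  rw [hx]
  exact hd5 u hu

end Core

end Groth.Agent.Lib.helper10
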