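import Mathlib
import Groth.Prelude.Def_W4c6eohyperellchar2Gc

/-!
Basis computations in the explicit Dieudonné-type module `GcMod c k` (helper10).
-/

set_option autoImplicit false
set_option linter.unusedSectionVars false
set_option linter.unusedVariables false

namespace Groth.Agent.Lib.helper10

namespace DieuGc

open W4c6eohyperellchar2

variable (c : ℕ) (k : Type*) [Field k] [CharP k 2] [PerfectRing k 2]

theorem coefX_X (n m : ℕ) :
    coefX (X c k n) m = if 1 ≤ m ∧ m ≤ c ∧ m = n then 1 else 0 := by
  unfold coefX X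
  by_cases h : 1 ≤ m ∧ m ≤ c
  · rw [dif_pos h]
    by_cases h2 : m = n
    · rw [if_pos ⟨h.1, h.2, h2⟩]
      simp only
      rw [if_pos (by omega)]
    · rw [if_neg (fun h' => h2 h'.2.2)]
      simp only
      rw [if_neg (by omega)]
  · rw [dif_neg h, if_neg (fun h' => h ⟨h'.1, h'.2.1⟩)]

theorem coefY_X (n m : ℕ) : coefY (X c k n) m = 0 := by
  unfold coefY X
  split_ifs <;> rfl

theorem coefX_Y (n m : ℕ) : coefX (Y c k n) m = 0 := by
  unfold coefX Y
  split_ifs <;> rfl

theorem coefY_Y (n m : ℕ) :
    coefY (Y c k n) m = if 1 ≤ m ∧ m ≤ c ∧ m = n then 1 else 0 := by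
  unfold coefY Y
  by_cases h : 1 ≤ m ∧ m ≤ c
  · rw [dif_pos h]
    by_cases h2 : m = n
    · rw [if_pos ⟨h.1, h.2, h2⟩]
      simp only
      rw [if_pos (by omega)]
    · rw [if_neg (fun h' => h2 h'.2.2)]
      simp only
      rw [if_neg (by omega)]
  · rw [dif_neg h, if_neg (fun h' => h ⟨h'.1, h'.2.1⟩)]

theorem F_Y (n : ℕ) : F c k (Y c k n) = 0 := by
  unfold F
  apply Prod.ext
  · funext i
    simp only [coefX_Y]
    show (0 : k) ^ 2 = 0
    ring
  · funext i
    simp only [coefX_Y]
    show (0 : k) ^ 2 = 0
    ring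

theorem F_X_even (m : ℕ) (hm : 2 * m ≤ c) : F c k (X c k (2 * m)) = X c k m := by
  unfold F
  apply Prod.ext
  · funext i
    simp only [coefX_X]
    show (if _ then (1 : k) else 0) ^ 2 = if i.val + 1 = m then 1 else 0
    have hi := i.2
    by_cases h : i.val + 1 = m
    · rw [if_pos h, if_pos (by omega), one_pow]
    · rw [if_neg h, if_neg (by omega)]
      ring
  · funext i
    simp only [coefX_X]
    show (if _ then (1 : k) else 0) ^ 2 = 0
    rw [if_neg (by omega)]
    ring

theorem F_X_odd (n : ℕ) (hn : Odd n) (hnc : n ≤ c) :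
    F c k (X c k n) = Y c k (c - (n - 1) / 2) := by
  obtain ⟨r, rfl⟩ := hn
  unfold F
  apply Prod.ext
  · funext i
    simp only [coefX_X]
    show (if _ then (1 : k) else 0) ^ 2 = 0
    rw [if_neg (by omega)]
    ring
  · funext i
    simp only [coefX_X]
    show (if _ then (1 : k) else 0) ^ 2 = if i.val + 1 = c - (2 * r + 1 - 1) / 2 then 1 else 0
    have hi := i.2
    by_cases h : i.val + 1 = c - (2 * r + 1 - 1) / 2
    · rw [if_pos h, if_pos (by omega), one_pow]
    · rw [if_neg h, if_neg (by omega)]
      ring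

theorem V_X (n : ℕ) (hn : c < 2 * n) (hnc : n ≤ c) :
    V c k (X c k n) = Y c k (2 * c - 2 * n + 1) := by
  unfold V
  apply Prod.ext
  · rfl
  · funext i
    simp only [coefX_X, coefY_X]
    show (if (i.val + 1) % 2 = 0 then (frobeniusEquiv k 2).symm 0 else
      (frobeniusEquiv k 2).symm (if _ then 1 else 0)) = if i.val + 1 = 2 * c - 2 * n + 1 then 1 else 0
    have hi := i.2
    by_cases h0 : (i.val + 1) % 2 = 0
    · rw [if_pos h0, map_zero, if_neg (by omega)]
    · rw [if_neg h0]
      by_cases h : i.val + 1 = 2 * c - 2 * n + 1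
      · rw [if_pos h, if_pos (by omega), map_one]
      · rw [if_neg h, if_neg (by omega), map_zero]

theorem V_X_small (n : ℕ) (hn : 2 * n ≤ c) : V c k (X c k n) = 0 := by
  unfold V
  apply Prod.ext
  · rfl
  · funext i
    simp only [coefX_X, coefY_X]
    show (if (i.val + 1) % 2 = 0 then (frobeniusEquiv k 2).symm 0 else
      (frobeniusEquiv k 2).symm (if _ then 1 else 0)) = 0
    have hi := i.2
    by_cases h0 : (i.val + 1) % 2 = 0
    · rw [if_pos h0, map_zero]
    · rw [if_neg h0, if_neg (by omega), map_zero]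

theorem V_Y (m : ℕ) : V c k (Y c k m) = Y c k (2 * m) := by
  unfold V
  apply Prod.ext
  · rfl
  · funext i
    simp only [coefX_Y, coefY_Y]
    show (if (i.val + 1) % 2 = 0 then (frobeniusEquiv k 2).symm (if _ then 1 else 0) else
      (frobeniusEquiv k 2).symm 0) = if i.val + 1 = 2 * m then 1 else 0
    have hi := i.2
    by_cases h0 : (i.val + 1) % 2 = 0
    · rw [if_pos h0]
      by_cases h : i.val + 1 = 2 * m
      · rw [if_pos h, if_pos (by omega), map_one]
      · rw [if_neg h, if_neg (by omega), map_zero]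
    · rw [if_neg h0, map_zero, if_neg (by omega)]

theorem F_iterate_X (e l : ℕ) (h : 2 ^ e * l ≤ c) : (F c k)^[e] (X c k (2 ^ e * l)) = X c k l := by
  induction e with
  | zero => simp
  | succ e ih =>
    rw [Function.iterate_succ_apply]
    have h1 : 2 ^ (e + 1) * l = 2 * (2 ^ e * l) := by ring
    rw [h1, F_X_even c k _ (by omega)]
    exact ih (by omega)

theorem V_iterate_Y (n m : ℕ) : (V c k)^[n] (Y c k m) = Y c k (2 ^ n * m) := by
  induction n generalizing m with
  | zero => simp
  | succ n ih =>
    rw [Function.iterate_succ_apply, V_Y, ih]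
    congr 1
    ring

theorem add_self (v : GcMod c k) : v + v = 0 := by
  have : v + v = (2 : k) • v := (two_smul k v).symm
  rw [this, CharTwo.two_eq_zero, zero_smul]

/-- **S19041**. -/
theorem relation (j e l : ℕ) (hj : j = 2 ^ e * l) (hl : Odd l) (hjc : j ≤ c)
    (j' n : ℕ) (hj'c : j' ≤ c) (hcj' : c < 2 * j')
    (hn : 2 ^ n * (2 * c - 2 * j' + 1) = c - (l - 1) / 2) :
    (F c k)^[e + 1] (X c k j) + (V c k)^[n + 1] (X c k j') = 0 := by
  have hlc : l ≤ c := by
    have : l ≤ 2 ^ e * l := Nat.le_mul_of_pos_left _ (by positivity)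
    omega
  rw [Function.iterate_succ_apply', hj, F_iterate_X c k e l (by omega), F_X_odd c k l hl hlc,
    Function.iterate_succ_apply, V_X c k j' hcj' hj'c, V_iterate_Y, hn]
  exact add_self c k _

theorem eq_sum_basis (v : GcMod c k) :
    v = ∑ i : Fin c, (v.1 i • X c k (i.val + 1) + v.2 i • Y c k (i.val + 1)) := by
  apply Prod.ext
  · funext j
    rw [Prod.fst_sum, Finset.sum_apply, Finset.sum_eq_single j]
    · simp [X, Y]
    · intro i _ hij
      have : ¬ (j.val = i.val) := fun h => hij (Fin.ext (by omega))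
      simp [X, Y, this]
    · intro h
      exact absurd (Finset.mem_univ j) h
  · funext j
    rw [Prod.snd_sum, Finset.sum_apply, Finset.sum_eq_single j]
    · simp [X, Y]
    · intro i _ hij
      have : ¬ (j.val = i.val) := fun h => hij (Fin.ext (by omega))
      simp [X, Y, this]
    · intro h
      exact absurd (Finset.mem_univ j) h

/-- **S19042**. -/
theorem generated (N : Submodule k (GcMod c k))
    (hF : ∀ v ∈ N, F c k v ∈ N) (hV : ∀ v ∈ N, V c k v ∈ N)
    (hX : ∀ j : ℕ, c < 2 * j → j ≤ c → X c k j ∈ N) : N = ⊤ := by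
  have hXall : ∀ d i : ℕ, c - i ≤ d → 1 ≤ i → i ≤ c → X c k i ∈ N := by
    intro d
    induction d with
    | zero =>
      intro i hd h1 hic
      exact hX i (by omega) hic
    | succ d ih =>
      intro i hd h1 hic
      by_cases h2 : c < 2 * i
      · exact hX i h2 hic
      · rw [← F_X_even c k i (by omega)]
        exact hF _ (ih (2 * i) (by omega) (by omega) (by omega))
  have hYall : ∀ m : ℕ, Y c k m ∈ N := by
    intro m
    induction m using Nat.strong_induction_on with
    | _ m ih =>
      by_cases hm : 1 ≤ m ∧ m ≤ c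
      · rcases Nat.even_or_odd m with he | ho
        · obtain ⟨r, hr⟩ := he
          have hr' : m = 2 * r := by omega
          rw [hr', ← V_Y]
          exact hV _ (ih r (by omega))
        · obtain ⟨r, hr⟩ := ho
          have h1 : Y c k m = V c k (X c k (c - r)) := by
            rw [V_X c k (c - r) (by omega) (by omega)]
            congr 1
            omega
          rw [h1]
          exact hV _ (hXall c (c - r) (by omega) (by omega) (by omega))
      · have h0 : Y c k m = 0 := by
          unfold Y
          apply Prod.ext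
          · rfl
          · funext i
            have hi := i.2
            show (if i.val + 1 = m then (1 : k) else 0) = 0
            rw [if_neg (by omega)]
        rw [h0]
        exact N.zero_mem
  rw [eq_top_iff]
  intro v _
  rw [eq_sum_basis c k v]
  apply Submodule.sum_mem
  intro i _
  have hi := i.2
  exact N.add_mem (N.smul_mem _ (hXall c (i.val + 1) (by omega) (by omega) (by omega)))
    (N.smul_mem _ (hYall _))

/-- The span of the images of `F` and `V`. -/
noncomputable abbrev FVspan : Submodule k (GcMod c k) :=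
  Submodule.span k (Set.range (F c k) ∪ Set.range (V c k))

theorem Y_mem_FVspan (m : ℕ) : Y c k m ∈ FVspan c k := by
  by_cases hm : 1 ≤ m ∧ m ≤ c
  · rcases Nat.even_or_odd m with he | ho
    · obtain ⟨r, hr⟩ := he
      have hr' : m = 2 * r := by omega
      rw [hr', ← V_Y]
      exact Submodule.subset_span (Or.inr ⟨_, rfl⟩)
    · obtain ⟨r, hr⟩ := ho
      have h1 : Y c k m = V c k (X c k (c - r)) := by
        rw [V_X c k (c - r) (by omega) (by omega)]
        congr 1
        omega
      rw [h1]
      exact Submodule.subset_span (Or.inr ⟨_, rfl⟩)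
  · have h0 : Y c k m = 0 := by
      unfold Y
      apply Prod.ext
      · rfl
      · funext i
        have hi := i.2
        show (if i.val + 1 = m then (1 : k) else 0) = 0
        rw [if_neg (by omega)]
    rw [h0]
    exact Submodule.zero_mem _

theorem X_mem_FVspan (i : ℕ) (hi : 2 * i ≤ c) : X c k i ∈ FVspan c k := by
  rw [← F_X_even c k i hi]
  exact Submodule.subset_span (Or.inl ⟨_, rfl⟩)

/-- Elements of the span of the images have no `X_j`-coordinate for `2j > c`. -/
theorem coord_eq_zero_of_mem_FVspan {v : GcMod c k} (hv : v ∈ FVspan c k) (i : Fin c)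
    (hi : c < 2 * (i.val + 1)) : v.1 i = 0 := by
  have hle : FVspan c k ≤ LinearMap.ker
      ((LinearMap.proj i : (Fin c → k) →ₗ[k] k) ∘ₗ (LinearMap.fst k (Fin c → k) (Fin c → k))) := by
    apply Submodule.span_le.mpr
    rintro w (⟨u, rfl⟩ | ⟨u, rfl⟩)
    · show (F c k u).1 i = 0
      unfold F
      show coefX u (2 * (i.val + 1)) ^ 2 = 0
      unfold coefX
      rw [dif_neg (by omega)]
      ring
    · rfl
  exact hle hv

/-- **S19043**. -/
theorem quotient_basis :
    LinearIndependent k (fun j : {j : ℕ // c < 2 * j ∧ j ≤ c} =>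
        Submodule.mkQ (FVspan c k) (X c k j.1)) ∧
      Submodule.span k (Set.range (fun j : {j : ℕ // c < 2 * j ∧ j ≤ c} =>
        Submodule.mkQ (FVspan c k) (X c k j.1))) = ⊤ := by
  constructor
  · rw [linearIndependent_iff']
    intro s g hsum i₀ hi₀
    have h1 : ∑ i ∈ s, g i • X c k i.1 ∈ FVspan c k := by
      rw [← Submodule.Quotient.mk_eq_zero, ← Submodule.mkQ_apply, map_sum]
      rw [← hsum]
      apply Finset.sum_congr rfl
      intro i _
      rw [map_smul]
    have hlt : i₀.1 - 1 < c := by
      have := i₀.2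
      omega
    have h2 := coord_eq_zero_of_mem_FVspan c k h1 ⟨i₀.1 - 1, hlt⟩ (by
      have := i₀.2
      show c < 2 * (i₀.1 - 1 + 1)
      omega)
    rw [Prod.fst_sum, Finset.sum_apply, Finset.sum_eq_single i₀] at h2
    · have h3 : (g i₀ • X c k i₀.1).1 ⟨i₀.1 - 1, hlt⟩ = g i₀ := by
        have := i₀.2
        show g i₀ * (if i₀.1 - 1 + 1 = i₀.1 then 1 else 0) = g i₀
        rw [if_pos (by omega), mul_one]
      rw [h3] at h2
      exact h2
    · intro i _ hne
      have hne' : i.1 ≠ i₀.1 := fun h => hne (Subtype.ext h)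
      have := i₀.2
      show g i * (if i₀.1 - 1 + 1 = i.1 then 1 else 0) = 0
      rw [if_neg (by omega), mul_zero]
    · intro h
      exact absurd hi₀ h
  · rw [eq_top_iff]
    intro q _
    obtain ⟨v, rfl⟩ := Submodule.mkQ_surjective (FVspan c k) q
    rw [eq_sum_basis c k v, map_sum]
    apply Submodule.sum_mem
    intro i _
    rw [map_add, map_smul, map_smul]
    apply Submodule.add_mem
    · apply Submodule.smul_mem
      by_cases h : c < 2 * (i.val + 1)
      · exact Submodule.subset_span ⟨⟨i.val + 1, h, i.2⟩, rfl⟩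
      · have : Submodule.mkQ (FVspan c k) (X c k (i.val + 1)) = 0 := by
          rw [Submodule.mkQ_apply, Submodule.Quotient.mk_eq_zero]
          exact X_mem_FVspan c k _ (by omega)
        rw [this]
        exact Submodule.zero_mem _
    · apply Submodule.smul_mem
      have : Submodule.mkQ (FVspan c k) (Y c k (i.val + 1)) = 0 := by
        rw [Submodule.mkQ_apply, Submodule.Quotient.mk_eq_zero]
        exact Y_mem_FVspan c k _
      rw [this]
      exact Submodule.zero_mem _

end DieuGc

end Groth.Agent.Lib.helper10
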