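import Mathlib

/-!
The largest `F,V`-stable submodule of `Hom(M, N)` (helper10, S16416).
-/

set_option autoImplicit false
set_option linter.unusedSectionVars false
set_option linter.unusedVariables false

universe u v w

namespace Groth.Agent.Lib.helper10

namespace DieuHom

section Abstract

variable {W : Type u} [CommRing W] (σ : W ≃+* W) (p : ℕ)
  {M : Type v} [AddCommGroup M] [Module W M] {N : Type w} [AddCommGroup N] [Module W N]
  (FM VM : M →+ M) (FN VN : N →+ N)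

theorem V_smul (hVN : ∀ (a : W) (n : N), VN (σ a • n) = a • VN n) (a : W) (z : N) :
    VN (a • z) = σ.symm a • VN z := by
  have := hVN (σ.symm a) z
  rwa [RingEquiv.apply_symm_apply] at this

theorem V_iter_smul (hVN : ∀ (a : W) (n : N), VN (σ a • n) = a • VN n) (n : ℕ) (a : W) (z : N) :
    (⇑VN)^[n] (a • z) = (⇑σ.symm)^[n] a • (⇑VN)^[n] z := by
  induction n generalizing a z with
  | zero => rfl
  | succ n ih =>
    rw [Function.iterate_succ_apply, Function.iterate_succ_apply, Function.iterate_succ_apply,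
      V_smul σ VN hVN, ih]

theorem iter_natCast_smul {X : Type*} [AddCommGroup X] [Module W X] (f : X →+ X) (n : ℕ) (z : X) :
    (⇑f)^[n] ((p : W) • z) = (p : W) • (⇑f)^[n] z := by
  rw [Nat.cast_smul_eq_nsmul, Nat.cast_smul_eq_nsmul, iterate_map_nsmul]

/-- The submodule of maps on which all powers of `V` are defined. -/
def S (hVN : ∀ (a : W) (n : N), VN (σ a • n) = a • VN n) : Submodule W (M →ₗ[W] N) where
  carrier := {h | ∀ n : ℕ, ∃ h' : M →ₗ[W] N, ∀ m : M, h' ((⇑VM)^[n] m) = (⇑VN)^[n] (h m)}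
  zero_mem' := by
    intro n
    refine ⟨0, fun m => ?_⟩
    rw [LinearMap.zero_apply, LinearMap.zero_apply, iterate_map_zero]
  add_mem' := by
    intro h₁ h₂ hh₁ hh₂ n
    obtain ⟨g₁, hg₁⟩ := hh₁ n
    obtain ⟨g₂, hg₂⟩ := hh₂ n
    refine ⟨g₁ + g₂, fun m => ?_⟩
    rw [LinearMap.add_apply, LinearMap.add_apply, hg₁, hg₂, iterate_map_add]
  smul_mem' := by
    intro a h hh n
    obtain ⟨g, hg⟩ := hh n
    refine ⟨(⇑σ.symm)^[n] a • g, fun m => ?_⟩
    rw [LinearMap.smul_apply, LinearMap.smul_apply, hg, V_iter_smul σ VN hVN]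

theorem mem_S (hVN : ∀ (a : W) (n : N), VN (σ a • n) = a • VN n) (h : M →ₗ[W] N) :
    h ∈ S σ VM VN hVN ↔
      ∀ n : ℕ, ∃ h' : M →ₗ[W] N, ∀ m : M, h' ((⇑VM)^[n] m) = (⇑VN)^[n] (h m) := Iff.rfl

/-- `F · h = F ∘ h ∘ V`. -/
def Fh (hVM : ∀ (a : W) (m : M), VM (σ a • m) = a • VM m)
    (hFN : ∀ (a : W) (n : N), FN (a • n) = σ a • FN n) (h : M →ₗ[W] N) : M →ₗ[W] N where
  toFun m := FN (h (VM m))
  map_add' a b := by rw [map_add, map_add, map_add]
  map_smul' a m := by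
    rw [V_smul σ VM hVM, map_smul, hFN, RingEquiv.apply_symm_apply, RingHom.id_apply]

theorem main (hN : ∀ n : N, (p : W) • n = 0 → n = 0)
    (hVM : ∀ (a : W) (m : M), VM (σ a • m) = a • VM m)
    (hVFM : ∀ m : M, VM (FM m) = (p : W) • m)
    (hFN : ∀ (a : W) (n : N), FN (a • n) = σ a • FN n)
    (hVN : ∀ (a : W) (n : N), VN (σ a • n) = a • VN n)
    (hVFN : ∀ n : N, VN (FN n) = (p : W) • n)
    (H₁ : Submodule W (M →ₗ[W] N))
    (hV : ∀ h ∈ H₁, ∃ h' ∈ H₁, ∀ m : M, h' (VM m) = VN (h m))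
    (hmax : ∀ S : Submodule W (M →ₗ[W] N),
      (∀ h ∈ S, ∃ h' ∈ S, ∀ m : M, h' m = FN (h (VM m))) →
      (∀ h ∈ S, ∃ h' ∈ S, ∀ m : M, h' (VM m) = VN (h m)) → S ≤ H₁)
    (y : M →ₗ[W] N) (x : M →ₗ[W] N) (hx : x ∈ H₁)
    (hxy : ∀ m : M, x (VM m) = VN (y m)) :
    y ∈ H₁ := by
  have hFS : ∀ h ∈ S σ VM VN hVN, ∃ h' ∈ S σ VM VN hVN, ∀ m : M, h' m = FN (h (VM m)) := by
    intro h hh
    refine ⟨Fh σ VM FN hVM hFN h, ?_, fun m => rfl⟩
    intro n
    cases n with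
    | zero => exact ⟨Fh σ VM FN hVM hFN h, fun m => rfl⟩
    | succ n =>
      obtain ⟨g, hg⟩ := hh n
      refine ⟨(p : W) • g, fun m => ?_⟩
      rw [LinearMap.smul_apply, Function.iterate_succ_apply, hg, Function.iterate_succ_apply]
      show _ = (⇑VN)^[n] (VN (FN (h (VM m))))
      rw [hVFN, iter_natCast_smul]
  have hVS : ∀ h ∈ S σ VM VN hVN, ∃ h' ∈ S σ VM VN hVN, ∀ m : M, h' (VM m) = VN (h m) := by
    intro h hh
    obtain ⟨h₁, hh₁⟩ := hh 1
    have hh₁' : ∀ m : M, h₁ (VM m) = VN (h m) := hh₁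
    refine ⟨h₁, ?_, hh₁'⟩
    intro n
    obtain ⟨g, hg⟩ := hh (n + 1)
    refine ⟨g, fun m => ?_⟩
    have key : (p : W) • (g ((⇑VM)^[n] m) - (⇑VN)^[n] (h₁ m)) = 0 := by
      rw [smul_sub, ← map_smul, ← iter_natCast_smul, ← hVFM, ← Function.iterate_succ_apply, hg,
        Function.iterate_succ_apply, ← hh₁', hVFM, map_smul, iter_natCast_smul, sub_self]
    exact sub_eq_zero.mp (hN _ key)
  have hle := hmax (S σ VM VN hVN) hFS hVS
  apply hle
  have hxn : ∀ n : ℕ, ∃ g ∈ H₁, ∀ m : M, g ((⇑VM)^[n] m) = (⇑VN)^[n] (x m) := by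
    intro n
    induction n with
    | zero => exact ⟨x, hx, fun m => rfl⟩
    | succ n ih =>
      obtain ⟨g, hg, hgm⟩ := ih
      obtain ⟨g', hg', hgm'⟩ := hV g hg
      refine ⟨g', hg', fun m => ?_⟩
      rw [Function.iterate_succ_apply', hgm', hgm, Function.iterate_succ_apply']
  intro n
  cases n with
  | zero => exact ⟨y, fun m => rfl⟩
  | succ n =>
    obtain ⟨g, _, hgm⟩ := hxn n
    refine ⟨g, fun m => ?_⟩
    rw [Function.iterate_succ_apply, hgm, hxy, Function.iterate_succ_apply]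

end Abstract

end DieuHom

end Groth.Agent.Lib.helper10
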