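import Mathlib
import Groth.Prelude.Def_W4c6eohyperellchar2Gc
import Groth.Agent.Lib.Helper10.DieuGc

/-!
The nilpotent block `NF`, `NV` on `GcMod c k` and its final filtration `Nfil` (helper10, S19048).
-/

set_option autoImplicit false
set_option linter.unusedSectionVars false
set_option linter.unusedVariables false

namespace Groth.Agent.Lib.helper10

namespace DieuNil

open W4c6eohyperellchar2

variable (c : ℕ) (k : Type*) [Field k] [CharP k 2] [PerfectRing k 2]

/-- Coordinate description of `Nfil c k i`. -/
def Wc (i : ℕ) : Submodule k (GcMod c k) where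
  carrier := {v | (∀ j : Fin c, j.val + 1 ≤ 2 * c - i → v.1 j = 0) ∧
                  (∀ j : Fin c, min i c < j.val + 1 → v.2 j = 0)}
  add_mem' := by
    rintro v w ⟨hv1, hv2⟩ ⟨hw1, hw2⟩
    refine ⟨fun j hj => ?_, fun j hj => ?_⟩
    · show v.1 j + w.1 j = 0
      rw [hv1 j hj, hw1 j hj, add_zero]
    · show v.2 j + w.2 j = 0
      rw [hv2 j hj, hw2 j hj, add_zero]
  zero_mem' := ⟨fun _ _ => rfl, fun _ _ => rfl⟩
  smul_mem' := by
    rintro r v ⟨hv1, hv2⟩
    refine ⟨fun j hj => ?_, fun j hj => ?_⟩
    · show r * v.1 j = 0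
      rw [hv1 j hj, mul_zero]
    · show r * v.2 j = 0
      rw [hv2 j hj, mul_zero]

theorem mem_Wc {i : ℕ} {v : GcMod c k} : v ∈ Wc c k i ↔
    (∀ j : Fin c, j.val + 1 ≤ 2 * c - i → v.1 j = 0) ∧
      (∀ j : Fin c, min i c < j.val + 1 → v.2 j = 0) := Iff.rfl

theorem X_mem_Wc {i n : ℕ} (hn : 2 * c - i < n) : X c k n ∈ Wc c k i := by
  refine ⟨fun j hj => ?_, fun j hj => rfl⟩
  show (if j.val + 1 = n then (1 : k) else 0) = 0
  rw [if_neg (by omega)]

theorem Y_mem_Wc {i n : ℕ} (hn : n ≤ min i c) : Y c k n ∈ Wc c k i := by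
  refine ⟨fun j hj => rfl, fun j hj => ?_⟩
  show (if j.val + 1 = n then (1 : k) else 0) = 0
  rw [if_neg (by omega)]

theorem Nfil_eq_Wc (i : ℕ) : Nfil c k i = Wc c k i := by
  apply le_antisymm
  · unfold Nfil
    rw [Submodule.span_le]
    rintro w (⟨n, ⟨h1, h2⟩, rfl⟩ | ⟨n, ⟨h1, h2⟩, rfl⟩)
    · exact Y_mem_Wc c k h2
    · exact X_mem_Wc c k h1
  · intro v hv
    obtain ⟨hv1, hv2⟩ := hv
    rw [DieuGc.eq_sum_basis c k v]
    apply Submodule.sum_mem
    intro j _
    have hj := j.2
    apply Submodule.add_mem
    · by_cases h : j.val + 1 ≤ 2 * c - i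
      · rw [hv1 j h, zero_smul]
        exact Submodule.zero_mem _
      · apply Submodule.smul_mem
        apply Submodule.subset_span
        right
        exact ⟨j.val + 1, ⟨by omega, by omega⟩, rfl⟩
    · by_cases h : min i c < j.val + 1
      · rw [hv2 j h, zero_smul]
        exact Submodule.zero_mem _
      · apply Submodule.smul_mem
        apply Submodule.subset_span
        left
        exact ⟨j.val + 1, ⟨by omega, by omega⟩, rfl⟩

/-! ### dimension -/

theorem Wc_zero : Wc c k 0 = ⊥ := by
  rw [eq_bot_iff]
  rintro v ⟨hv1, hv2⟩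
  rw [Submodule.mem_bot]
  apply Prod.ext
  · funext j
    have := j.2
    exact hv1 j (by omega)
  · funext j
    exact hv2 j (by omega)

theorem Wc_top : Wc c k (2 * c) = ⊤ := by
  rw [eq_top_iff]
  intro v _
  refine ⟨fun j hj => ?_, fun j hj => ?_⟩
  · omega
  · have := j.2
    omega

theorem Wc_succ_le (i : ℕ) (hi : i < 2 * c) :
    ∃ g : GcMod c k, Wc c k (i + 1) ≤ Wc c k i ⊔ Submodule.span k {g} := by
  by_cases hic : i < c
  · refine ⟨Y c k (i + 1), ?_⟩
    rintro v ⟨hv1, hv2⟩
    have hdec : v = (v - v.2 ⟨i, hic⟩ • Y c k (i + 1)) + v.2 ⟨i, hic⟩ • Y c k (i + 1) := by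
      rw [sub_add_cancel]
    rw [hdec]
    apply Submodule.add_mem_sup
    · refine ⟨fun j hj => ?_, fun j hj => ?_⟩
      · have := j.2
        show v.1 j - v.2 ⟨i, hic⟩ * 0 = 0
        rw [hv1 j (by omega), mul_zero, sub_zero]
      · show v.2 j - v.2 ⟨i, hic⟩ * (if j.val + 1 = i + 1 then (1 : k) else 0) = 0
        by_cases hji : j.val = i
        · rw [if_pos (by omega), mul_one]
          have : j = ⟨i, hic⟩ := Fin.ext hji
          rw [this, sub_self]
        · rw [if_neg (by omega), mul_zero, sub_zero]
          exact hv2 j (by omega)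
    · exact Submodule.smul_mem _ _ (Submodule.mem_span_singleton_self _)
  · have hlt : 2 * c - i - 1 < c := by omega
    refine ⟨X c k (2 * c - i), ?_⟩
    rintro v ⟨hv1, hv2⟩
    have hdec : v = (v - v.1 ⟨2 * c - i - 1, hlt⟩ • X c k (2 * c - i)) +
        v.1 ⟨2 * c - i - 1, hlt⟩ • X c k (2 * c - i) := by
      rw [sub_add_cancel]
    rw [hdec]
    apply Submodule.add_mem_sup
    · refine ⟨fun j hj => ?_, fun j hj => ?_⟩
      · show v.1 j - v.1 ⟨2 * c - i - 1, hlt⟩ * (if j.val + 1 = 2 * c - i then (1 : k) else 0) = 0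
        by_cases hji : j.val + 1 = 2 * c - i
        · rw [if_pos hji, mul_one]
          have : j = ⟨2 * c - i - 1, hlt⟩ := Fin.ext (by simp only; omega)
          rw [this, sub_self]
        · rw [if_neg hji, mul_zero, sub_zero]
          exact hv1 j (by omega)
      · have := j.2
        show v.2 j - v.1 ⟨2 * c - i - 1, hlt⟩ * 0 = 0
        rw [hv2 j (by omega), mul_zero, sub_zero]
    · exact Submodule.smul_mem _ _ (Submodule.mem_span_singleton_self _)

theorem finrank_Wc_succ_le (i : ℕ) (hi : i < 2 * c) :
    Module.finrank k (Wc c k (i + 1)) ≤ Module.finrank k (Wc c k i) + 1 := by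
  obtain ⟨g, hg⟩ := Wc_succ_le c k i hi
  calc Module.finrank k (Wc c k (i + 1))
      ≤ Module.finrank k ((Wc c k i ⊔ Submodule.span k {g} : Submodule k (GcMod c k))) :=
        Submodule.finrank_mono hg
    _ ≤ Module.finrank k (Wc c k i) + Module.finrank k (Submodule.span k ({g} : Set (GcMod c k))) :=
        Submodule.finrank_add_le_finrank_add_finrank _ _
    _ ≤ Module.finrank k (Wc c k i) + 1 := by
        have := finrank_span_le_card (R := k) ({g} : Set (GcMod c k))
        simp only [Set.toFinset_singleton, Finset.card_singleton] at this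
        omega

theorem finrank_Wc_le (i : ℕ) (hi : i ≤ 2 * c) : Module.finrank k (Wc c k i) ≤ i := by
  induction i with
  | zero =>
    rw [Wc_zero]
    simp
  | succ i ih =>
    have := finrank_Wc_succ_le c k i (by omega)
    have := ih (by omega)
    omega

theorem finrank_Wc_add_le (i d : ℕ) (hi : i + d ≤ 2 * c) :
    Module.finrank k (Wc c k (i + d)) ≤ Module.finrank k (Wc c k i) + d := by
  induction d with
  | zero => simp
  | succ d ih =>
    have h1 := finrank_Wc_succ_le c k (i + d) (by omega)
    have h2 := ih (by omega)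
    have : i + (d + 1) = i + d + 1 := by ring
    rw [this]
    omega

theorem finrank_Wc (i : ℕ) (hi : i ≤ 2 * c) : Module.finrank k (Wc c k i) = i := by
  apply le_antisymm (finrank_Wc_le c k i hi)
  have h := finrank_Wc_add_le c k i (2 * c - i) (by omega)
  have h2 : i + (2 * c - i) = 2 * c := by omega
  rw [h2, Wc_top, finrank_top] at h
  have h3 : Module.finrank k (GcMod c k) = c + c := by
    show Module.finrank k ((Fin c → k) × (Fin c → k)) = c + c
    rw [Module.finrank_prod, Module.finrank_fin_fun]
  omega

/-! ### coordinates -/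

theorem coefY_add (v w : GcMod c k) (n : ℕ) : coefY (v + w) n = coefY v n + coefY w n := by
  unfold coefY
  split_ifs
  · rfl
  · rw [add_zero]

theorem coefY_smul (r : k) (v : GcMod c k) (n : ℕ) : coefY (r • v) n = r * coefY v n := by
  unfold coefY
  split_ifs
  · rfl
  · rw [mul_zero]

theorem coefY_eq (v : GcMod c k) (j : Fin c) : coefY v (j.val + 1) = v.2 j := by
  unfold coefY
  rw [dif_pos ⟨by omega, by have := j.2; omega⟩]
  rfl

theorem coefY_of_lt (v : GcMod c k) (n : ℕ) (h : c < n) : coefY v n = 0 := by
  unfold coefY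
  rw [dif_neg (by omega)]

theorem coefX_eq (v : GcMod c k) (j : Fin c) : coefX v (j.val + 1) = v.1 j := by
  unfold coefX
  rw [dif_pos ⟨by omega, by have := j.2; omega⟩]
  rfl

/-! ### `NV` is inverse-Frobenius-semilinear -/

variable (a : ℕ → k)

theorem NV_add (v w : GcMod c k) : NV c k a (v + w) = NV c k a v + NV c k a w := by
  apply Prod.ext
  · show (0 : Fin c → k) = 0 + 0
    rw [add_zero]
  · funext l
    show (frobeniusEquiv k 2).symm (coefY (v + w) (2 * (l.val + 1))) +
        Finset.univ.sum (fun j : Fin c =>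
          if (j.val + 1) % 2 = 1 ∧ (l.val + 1) + j.val / 2 ≤ c then
            (frobeniusEquiv k 2).symm ((v.1 j + w.1 j) * a ((l.val + 1) + j.val / 2)) else 0) =
      ((frobeniusEquiv k 2).symm (coefY v (2 * (l.val + 1))) +
        Finset.univ.sum (fun j : Fin c =>
          if (j.val + 1) % 2 = 1 ∧ (l.val + 1) + j.val / 2 ≤ c then
            (frobeniusEquiv k 2).symm (v.1 j * a ((l.val + 1) + j.val / 2)) else 0)) +
      ((frobeniusEquiv k 2).symm (coefY w (2 * (l.val + 1))) +
        Finset.univ.sum (fun j : Fin c =>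
          if (j.val + 1) % 2 = 1 ∧ (l.val + 1) + j.val / 2 ≤ c then
            (frobeniusEquiv k 2).symm (w.1 j * a ((l.val + 1) + j.val / 2)) else 0))
    rw [coefY_add, map_add, add_add_add_comm, ← Finset.sum_add_distrib]
    congr 1
    apply Finset.sum_congr rfl
    intro j _
    split_ifs
    · rw [add_mul, map_add]
    · rw [add_zero]

theorem NV_sq_smul (s : k) (v : GcMod c k) : NV c k a (s ^ 2 • v) = s • NV c k a v := by
  apply Prod.ext
  · show (0 : Fin c → k) = s • (0 : Fin c → k)
    rw [smul_zero]
  · funext l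
    show (frobeniusEquiv k 2).symm (coefY (s ^ 2 • v) (2 * (l.val + 1))) +
        Finset.univ.sum (fun j : Fin c =>
          if (j.val + 1) % 2 = 1 ∧ (l.val + 1) + j.val / 2 ≤ c then
            (frobeniusEquiv k 2).symm ((s ^ 2 * v.1 j) * a ((l.val + 1) + j.val / 2)) else 0) =
      s * ((frobeniusEquiv k 2).symm (coefY v (2 * (l.val + 1))) +
        Finset.univ.sum (fun j : Fin c =>
          if (j.val + 1) % 2 = 1 ∧ (l.val + 1) + j.val / 2 ≤ c then
            (frobeniusEquiv k 2).symm (v.1 j * a ((l.val + 1) + j.val / 2)) else 0))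
    rw [coefY_smul, map_mul, frobeniusEquiv_symm_pow, mul_add s, Finset.mul_sum]
    congr 1
    apply Finset.sum_congr rfl
    intro j _
    split_ifs
    · rw [mul_assoc, map_mul, frobeniusEquiv_symm_pow]
    · rw [mul_zero]

theorem NV_zero : NV c k a 0 = 0 := by
  have := NV_sq_smul c k a 0 0
  rw [zero_smul, smul_zero] at this
  exact this

/-- The image of `Wc i` under `NV`, as a submodule. -/
def imNV (i : ℕ) : Submodule k (GcMod c k) where
  carrier := NV c k a '' (Wc c k i : Set (GcMod c k))
  add_mem' := by
    rintro _ _ ⟨x, hx, rfl⟩ ⟨y, hy, rfl⟩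
    exact ⟨x + y, (Wc c k i).add_mem hx hy, NV_add c k a x y⟩
  zero_mem' := ⟨0, (Wc c k i).zero_mem, NV_zero c k a⟩
  smul_mem' := by
    rintro s _ ⟨x, hx, rfl⟩
    exact ⟨s ^ 2 • x, (Wc c k i).smul_mem _ hx, NV_sq_smul c k a s x⟩

theorem NV_Y (m : ℕ) (hm : 2 * m ≤ c) : NV c k a (Y c k (2 * m)) = Y c k m := by
  apply Prod.ext
  · rfl
  · funext l
    show (frobeniusEquiv k 2).symm (coefY (Y c k (2 * m)) (2 * (l.val + 1))) +
        Finset.univ.sum (fun j : Fin c =>
          if (j.val + 1) % 2 = 1 ∧ (l.val + 1) + j.val / 2 ≤ c then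
            (frobeniusEquiv k 2).symm ((0 : k) * a ((l.val + 1) + j.val / 2)) else 0) =
      if l.val + 1 = m then 1 else 0
    have hsum : Finset.univ.sum (fun j : Fin c =>
          if (j.val + 1) % 2 = 1 ∧ (l.val + 1) + j.val / 2 ≤ c then
            (frobeniusEquiv k 2).symm ((0 : k) * a ((l.val + 1) + j.val / 2)) else 0) = 0 := by
      apply Finset.sum_eq_zero
      intro j _
      split_ifs
      · rw [zero_mul, map_zero]
      · rfl
    rw [hsum, add_zero, DieuGc.coefY_Y]
    have hl := l.2
    by_cases h : l.val + 1 = m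
    · rw [if_pos h, if_pos ⟨by omega, by omega, by omega⟩, map_one]
    · rw [if_neg h, if_neg (by omega), map_zero]

theorem NV_X (n : ℕ) (h1 : 1 ≤ n) (hn : n ≤ c) (hodd : n % 2 = 1) (l : Fin c) :
    (NV c k a (X c k n)).2 l =
      if (l.val + 1) + (n - 1) / 2 ≤ c then
        (frobeniusEquiv k 2).symm (a ((l.val + 1) + (n - 1) / 2)) else 0 := by
  show (frobeniusEquiv k 2).symm (coefY (X c k n) (2 * (l.val + 1))) +
      Finset.univ.sum (fun j : Fin c =>
        if (j.val + 1) % 2 = 1 ∧ (l.val + 1) + j.val / 2 ≤ c then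
          (frobeniusEquiv k 2).symm ((if j.val + 1 = n then (1 : k) else 0) *
            a ((l.val + 1) + j.val / 2)) else 0) = _
  rw [DieuGc.coefY_X, map_zero, zero_add]
  have hn1 : n - 1 < c := by omega
  rw [Finset.sum_eq_single (⟨n - 1, hn1⟩ : Fin c)]
  · simp only
    have e1 : n - 1 + 1 = n := by omega
    by_cases h : (l.val + 1) + (n - 1) / 2 ≤ c
    · rw [if_pos ⟨by omega, h⟩, if_pos h, if_pos e1, one_mul]
    · rw [if_neg (fun h' => h h'.2), if_neg h]
  · intro j _ hj
    have hjn : ¬ (j.val + 1 = n) := by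
      intro h
      apply hj
      apply Fin.ext
      simp only
      omega
    rw [if_neg hjn, zero_mul, map_zero]
    split_ifs <;> rfl
  · intro h
    exact absurd (Finset.mem_univ _) h

theorem Y_mem_imNV (ha : a c ≠ 0) (i : ℕ) (hi : i ≤ 2 * c) :
    ∀ m : ℕ, 1 ≤ m → m ≤ i / 2 → Y c k m ∈ imNV c k a i := by
  intro m
  induction m using Nat.strong_induction_on with
  | _ m ih =>
    intro h1 hm
    by_cases h2 : 2 * m ≤ c
    · exact ⟨Y c k (2 * m), Y_mem_Wc c k (by omega), NV_Y c k a m h2⟩
    · have hn1 : 1 ≤ 2 * c - 2 * m + 1 := by omega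
      have hnc : 2 * c - 2 * m + 1 ≤ c := by omega
      have hodd : (2 * c - 2 * m + 1) % 2 = 1 := by omega
      have hmem : NV c k a (X c k (2 * c - 2 * m + 1)) ∈ imNV c k a i :=
        ⟨_, X_mem_Wc c k (by omega), rfl⟩
      have hY1 : ∀ n, (Y c k n).1 = 0 := fun n => rfl
      have hdec : NV c k a (X c k (2 * c - 2 * m + 1)) =
          (frobeniusEquiv k 2).symm (a c) • Y c k m +
            ∑ l : Fin c, (if l.val + 1 < m then
              (frobeniusEquiv k 2).symm (a (l.val + 1 + (c - m))) else 0) • Y c k (l.val + 1) := by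
        apply Prod.ext
        · show (0 : Fin c → k) = _
          simp only [Prod.fst_add, Prod.smul_fst, Prod.fst_sum, hY1, smul_zero,
            Finset.sum_const_zero, add_zero]
        · funext l
          rw [NV_X c k a _ hn1 hnc hodd l]
          have hl := l.2
          have e1 : (2 * c - 2 * m + 1 - 1) / 2 = c - m := by omega
          rw [e1, Prod.snd_add, Prod.smul_snd, Prod.snd_sum, Pi.add_apply, Finset.sum_apply,
            Pi.smul_apply]
          rw [Finset.sum_eq_single l]
          · show _ = (frobeniusEquiv k 2).symm (a c) * (if l.val + 1 = m then (1 : k) else 0) +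
              (if l.val + 1 < m then
                (frobeniusEquiv k 2).symm (a (l.val + 1 + (c - m))) else 0) *
                  (if l.val + 1 = l.val + 1 then (1 : k) else 0)
            rw [if_pos rfl, mul_one]
            by_cases hlm : l.val + 1 = m
            · rw [if_pos (by omega), if_pos hlm, if_neg (by omega), mul_one, add_zero]
              congr 2
              omega
            · by_cases hlt : l.val + 1 < m
              · rw [if_pos (by omega), if_neg hlm, if_pos hlt, mul_zero, zero_add]
              · rw [if_neg (by omega), if_neg hlm, if_neg hlt, mul_zero, zero_add]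
          · intro l' _ hl'
            have hne : ¬ (l.val + 1 = l'.val + 1) := by
              intro h
              apply hl'
              apply Fin.ext
              omega
            show (if l'.val + 1 < m then
                (frobeniusEquiv k 2).symm (a (l'.val + 1 + (c - m))) else 0) *
                  (if l.val + 1 = l'.val + 1 then (1 : k) else 0) = 0
            rw [if_neg hne, mul_zero]
          · intro h
            exact absurd (Finset.mem_univ _) h
      have hsum : (∑ l : Fin c, (if l.val + 1 < m then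
              (frobeniusEquiv k 2).symm (a (l.val + 1 + (c - m))) else 0) • Y c k (l.val + 1)) ∈
          imNV c k a i := by
        apply Submodule.sum_mem
        intro l _
        by_cases hlt : l.val + 1 < m
        · exact Submodule.smul_mem _ _ (ih (l.val + 1) hlt (by omega) (by omega))
        · rw [if_neg hlt, zero_smul]
          exact Submodule.zero_mem _
      have hs : (frobeniusEquiv k 2).symm (a c) ≠ 0 :=
        (map_ne_zero_iff _ (frobeniusEquiv k 2).symm.injective).mpr ha
      have h3 : (frobeniusEquiv k 2).symm (a c) • Y c k m ∈ imNV c k a i := by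
        have := Submodule.sub_mem _ hmem hsum
        rwa [hdec, add_sub_cancel_right] at this
      have h4 := Submodule.smul_mem (imNV c k a i) ((frobeniusEquiv k 2).symm (a c))⁻¹ h3
      rwa [smul_smul, inv_mul_cancel₀ hs, one_smul] at h4

theorem NV_image (ha : a c ≠ 0) (i : ℕ) (hi : i ≤ 2 * c) :
    NV c k a '' (Wc c k i : Set (GcMod c k)) = (Wc c k (i / 2) : Set (GcMod c k)) := by
  apply Set.Subset.antisymm
  · rintro _ ⟨v, ⟨hv1, hv2⟩, rfl⟩
    refine ⟨fun j hj => rfl, fun j hj => ?_⟩
    have hjc := j.2
    show (frobeniusEquiv k 2).symm (coefY v (2 * (j.val + 1))) +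
        Finset.univ.sum (fun j' : Fin c =>
          if (j'.val + 1) % 2 = 1 ∧ (j.val + 1) + j'.val / 2 ≤ c then
            (frobeniusEquiv k 2).symm (v.1 j' * a ((j.val + 1) + j'.val / 2)) else 0) = 0
    have h1 : coefY v (2 * (j.val + 1)) = 0 := by
      by_cases h : 2 * (j.val + 1) ≤ c
      · have h' : 2 * (j.val + 1) - 1 < c := by omega
        have := coefY_eq c k v ⟨2 * (j.val + 1) - 1, h'⟩
        simp only at this
        rw [show 2 * (j.val + 1) - 1 + 1 = 2 * (j.val + 1) by omega] at this
        rw [this]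
        apply hv2
        simp only
        omega
      · exact coefY_of_lt c k v _ (by omega)
    rw [h1, map_zero, zero_add]
    apply Finset.sum_eq_zero
    intro j' _
    split_ifs with hc
    · obtain ⟨hc1, hc2⟩ := hc
      rw [hv1 j' (by omega), zero_mul, map_zero]
    · rfl
  · intro w hw
    change w ∈ imNV c k a i
    obtain ⟨hw1, hw2⟩ := hw
    rw [DieuGc.eq_sum_basis c k w]
    apply Submodule.sum_mem
    intro j _
    have hj := j.2
    apply Submodule.add_mem
    · rw [hw1 j (by omega), zero_smul]
      exact Submodule.zero_mem _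
    · by_cases h : min (i / 2) c < j.val + 1
      · rw [hw2 j h, zero_smul]
        exact Submodule.zero_mem _
      · exact Submodule.smul_mem _ _
          (Y_mem_imNV c k a ha i hi (j.val + 1) (by omega) (by omega))

theorem NF_preimage (ha : a c ≠ 0) (i : ℕ) (hi : i ≤ 2 * c) :
    NF c k a ⁻¹' (Wc c k i : Set (GcMod c k)) =
      (Wc c k (c + (i + 1) / 2) : Set (GcMod c k)) := by
  ext v
  rw [Set.mem_preimage, SetLike.mem_coe, SetLike.mem_coe, mem_Wc, mem_Wc]
  have hNF1 : ∀ l : Fin c, (NF c k a v).1 l =
      if (l.val + 1) % 2 = 0 then coefX v ((l.val + 1) / 2) ^ 2 else 0 := fun l => rfl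
  have hNF2 : ∀ l : Fin c, (NF c k a v).2 l = if (l.val + 1) % 2 = 1 then
      Finset.univ.sum (fun j : Fin c =>
        if c < 2 * (j.val + 1) ∧ (j.val + 1) + l.val / 2 ≤ c then
          v.1 j ^ 2 * a ((j.val + 1) + l.val / 2) else 0)
    else 0 := fun l => rfl
  constructor
  · rintro ⟨hA, hB⟩
    refine ⟨?_, fun j hj => ?_⟩
    · have key : ∀ n : ℕ, ∀ j : Fin c, j.val = n →
          j.val + 1 ≤ 2 * c - (c + (i + 1) / 2) → v.1 j = 0 := by
        intro n
        induction n using Nat.strong_induction_on with
        | _ n ih =>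
          intro j hjn hj
          have hjc := j.2
          by_cases h2 : 2 * (j.val + 1) ≤ c
          · have hl : 2 * j.val + 1 < c := by omega
            have h := hA ⟨2 * j.val + 1, hl⟩ (by simp only; omega)
            rw [hNF1] at h
            simp only at h
            rw [if_pos (by omega)] at h
            have e : (2 * j.val + 1 + 1) / 2 = j.val + 1 := by omega
            rw [e, coefX_eq] at h
            exact (pow_eq_zero_iff (by norm_num)).mp h
          · have hl : 2 * (c - (j.val + 1)) < c := by omega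
            have h := hB ⟨2 * (c - (j.val + 1)), hl⟩ (by simp only; omega)
            rw [hNF2] at h
            simp only at h
            rw [if_pos (by omega)] at h
            rw [Finset.sum_eq_single j] at h
            · rw [if_pos ⟨by omega, by omega⟩] at h
              have e : j.val + 1 + 2 * (c - (j.val + 1)) / 2 = c := by omega
              rw [e] at h
              have h' := (mul_eq_zero.mp h).resolve_right ha
              exact (pow_eq_zero_iff (by norm_num)).mp h'
            · intro j' _ hj'
              split_ifs with hc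
              · obtain ⟨hc1, hc2⟩ := hc
                have hlt : j'.val < j.val := by
                  have : j'.val ≠ j.val := fun h => hj' (Fin.ext h)
                  omega
                rw [ih j'.val (by omega) j' rfl (by omega)]
                rw [zero_pow (by norm_num), zero_mul]
              · rfl
            · intro h
              exact absurd (Finset.mem_univ _) h
      exact fun j hj => key j.val j rfl hj
    · have := j.2
      omega
  · rintro ⟨hA', _⟩
    refine ⟨fun l hl => ?_, fun l hl => ?_⟩
    · rw [hNF1]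
      split_ifs with he
      · have hlc := l.2
        have h1 : (l.val + 1) / 2 - 1 < c := by omega
        have := coefX_eq c k v ⟨(l.val + 1) / 2 - 1, h1⟩
        simp only at this
        rw [show (l.val + 1) / 2 - 1 + 1 = (l.val + 1) / 2 by omega] at this
        rw [this, hA' _ (by simp only; omega), zero_pow (by norm_num)]
      · rfl
    · rw [hNF2]
      split_ifs with ho
      · apply Finset.sum_eq_zero
        intro j _
        split_ifs with hc
        · obtain ⟨hc1, hc2⟩ := hc
          have hlc := l.2
          rw [hA' j (by omega), zero_pow (by norm_num), zero_mul]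
        · rfl
      · rfl

/-- **S19048**. -/
theorem finalFiltration (ha : a c ≠ 0) (i : ℕ) (hi : i ≤ 2 * c) :
    Module.finrank k (Nfil c k i) = i ∧
      NV c k a '' (Nfil c k i : Set (GcMod c k)) = (Nfil c k (i / 2) : Set (GcMod c k)) ∧
      NF c k a ⁻¹' (Nfil c k i : Set (GcMod c k)) =
        (Nfil c k (c + (i + 1) / 2) : Set (GcMod c k)) := by
  rw [Nfil_eq_Wc, Nfil_eq_Wc, Nfil_eq_Wc]
  exact ⟨finrank_Wc c k i hi, NV_image c k a ha i hi, NF_preimage c k a ha i hi⟩

end DieuNil

end Groth.Agent.Lib.helper10
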