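import Mathlib

/-!
`F^h e_1` for a display in normal form (helper10, S15494).
-/

set_option autoImplicit false
set_option linter.unusedSectionVars false
set_option linter.unusedVariables false

universe u v

namespace Groth.Agent.Lib.helper10

namespace DieuNF

variable {W : Type u} [CommRing W] (σ : W →+* W) (p : ℕ)
  {M : Type v} [AddCommGroup M] [Module W M]
  (F : M →+ M) (hF : ∀ (w : W) (m : M), F (w • m) = σ w • F m)
  (d c : ℕ) (a : ℕ → ℕ → W) (e : ℕ → M)

include hF in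
theorem F_sum_smul {ι : Type*} (s : Finset ι) (w : ι → W) (x : ι → M) :
    F (∑ i ∈ s, w i • x i) = ∑ i ∈ s, σ (w i) • F (x i) := by
  rw [map_sum]
  exact Finset.sum_congr rfl (fun i _ => hF _ _)

theorem E_eq (h1 : ∀ i : ℕ, 1 ≤ i → i < d → F (e i) = e (i + 1)) :
    ∀ i : ℕ, 1 ≤ i → i ≤ d → (⇑F)^[i - 1] (e 1) = e i := by
  intro i
  induction i with
  | zero => intro h; omega
  | succ i ih =>
    intro _ hid
    rcases Nat.eq_zero_or_pos i with h0 | hpos
    · subst h0; rfl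
    · have e1 : i + 1 - 1 = (i - 1) + 1 := by omega
      rw [e1, Function.iterate_succ_apply', ih hpos (by omega), h1 i hpos (by omega)]

/-- The double sum at stage `j = d + t`. -/
noncomputable def T (t : ℕ) : M :=
  ∑ i ∈ Finset.Icc 1 d, ∑ l ∈ Finset.Icc d (d + t),
    ((p : W) ^ (l - d) * (⇑σ)^[d + t - l] (a i l)) • (⇑F)^[d + t + i - l - 1] (e 1)

include hF in
theorem F_T (t : ℕ) :
    F (T σ p F d a e t) = ∑ i ∈ Finset.Icc 1 d, ∑ l ∈ Finset.Icc d (d + t),
      ((p : W) ^ (l - d) * (⇑σ)^[d + (t + 1) - l] (a i l)) • (⇑F)^[d + (t + 1) + i - l - 1] (e 1) := by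
  rw [T, map_sum]
  refine Finset.sum_congr rfl (fun i hi => ?_)
  rw [F_sum_smul σ F hF]
  refine Finset.sum_congr rfl (fun l hl => ?_)
  have hi1 : 1 ≤ i := (Finset.mem_Icc.mp hi).1
  obtain ⟨hl1, hl2⟩ := Finset.mem_Icc.mp hl
  have e1 : d + (t + 1) - l = (d + t - l) + 1 := by omega
  have e2 : d + (t + 1) + i - l - 1 = (d + t + i - l - 1) + 1 := by omega
  rw [e1, e2, Function.iterate_succ_apply', Function.iterate_succ_apply', map_mul, map_pow,
    map_natCast]

include hF in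
theorem T_succ (h1 : ∀ i : ℕ, 1 ≤ i → i < d → F (e i) = e (i + 1)) (t : ℕ) :
    T σ p F d a e (t + 1) =
      F (T σ p F d a e t) + ∑ i ∈ Finset.Icc 1 d, ((p : W) ^ (t + 1) * a i (d + (t + 1))) • e i := by
  rw [F_T σ p F hF, ← Finset.sum_add_distrib, T]
  refine Finset.sum_congr rfl (fun i hi => ?_)
  obtain ⟨hi1, hi2⟩ := Finset.mem_Icc.mp hi
  have hle : d ≤ d + t + 1 := by omega
  have e0 : d + (t + 1) = d + t + 1 := rfl
  rw [e0, Finset.sum_Icc_succ_top hle]
  congr 1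
  have e1 : d + t + 1 - d = t + 1 := by omega
  have e2 : d + t + 1 - (d + t + 1) = 0 := by omega
  have e3 : d + t + 1 + i - (d + t + 1) - 1 = i - 1 := by omega
  rw [e1, e2, e3, Function.iterate_zero, id, E_eq F d e h1 i hi1 hi2]

theorem smul_step (t j : ℕ) :
    (p : W) ^ t • ((∑ i ∈ Finset.Icc 1 d, ((p : W) * a i j) • e i) + (p : W) • e (j + 1)) =
      (∑ i ∈ Finset.Icc 1 d, ((p : W) ^ (t + 1) * a i j) • e i) + (p : W) ^ (t + 1) • e (j + 1) := by
  rw [smul_add, Finset.smul_sum, smul_smul, ← pow_succ]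
  congr 1
  refine Finset.sum_congr rfl (fun i _ => ?_)
  rw [smul_smul, pow_succ, mul_assoc]

theorem smul_step' (t j : ℕ) :
    (p : W) ^ t • (∑ i ∈ Finset.Icc 1 d, ((p : W) * a i j) • e i) =
      (∑ i ∈ Finset.Icc 1 d, ((p : W) ^ (t + 1) * a i j) • e i) := by
  rw [Finset.smul_sum]
  refine Finset.sum_congr rfl (fun i _ => ?_)
  rw [smul_smul, pow_succ, mul_assoc]

include hF in
theorem stage (hd : 0 < d)
    (h1 : ∀ i : ℕ, 1 ≤ i → i < d → F (e i) = e (i + 1))
    (h2 : F (e d) = (∑ i ∈ Finset.Icc 1 d, a i d • e i) + e (d + 1))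
    (h3 : ∀ j : ℕ, d < j → j < d + c →
      F (e j) = (∑ i ∈ Finset.Icc 1 d, ((p : W) * a i j) • e i) + (p : W) • e (j + 1)) :
    ∀ t : ℕ, t < c →
      (⇑F)^[d + t] (e 1) = T σ p F d a e t + (p : W) ^ t • e (d + t + 1) := by
  intro t
  induction t with
  | zero =>
    intro _
    have hT0 : T σ p F d a e 0 = ∑ i ∈ Finset.Icc 1 d, a i d • e i := by
      rw [T]
      refine Finset.sum_congr rfl (fun i hi => ?_)
      obtain ⟨hi1, hi2⟩ := Finset.mem_Icc.mp hi
      rw [Nat.add_zero, Finset.Icc_self, Finset.sum_singleton]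
      have e3 : d + i - d - 1 = i - 1 := by omega
      rw [Nat.sub_self, pow_zero, one_mul, Function.iterate_zero, id, e3, E_eq F d e h1 i hi1 hi2]
    have e1 : d + 0 = (d - 1) + 1 := by omega
    have e2 : d + 0 + 1 = d + 1 := rfl
    rw [e1, Function.iterate_succ_apply', E_eq F d e h1 d hd le_rfl, h2, pow_zero, one_smul, hT0,
      ← e1, e2]
  | succ t ih =>
    intro ht
    have e1 : d + (t + 1) = (d + t) + 1 := rfl
    have hT := T_succ σ p F hF d a e h1 t
    rw [e1, Function.iterate_succ_apply', ih (by omega), map_add, hF, map_pow, map_natCast,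
      h3 (d + t + 1) (by omega) (by omega), smul_step, hT, ← e1]
    abel

include hF in
theorem main (hd : 0 < d) (hc : 0 < c)
    (h1 : ∀ i : ℕ, 1 ≤ i → i < d → F (e i) = e (i + 1))
    (h2 : F (e d) = (∑ i ∈ Finset.Icc 1 d, a i d • e i) + e (d + 1))
    (h3 : ∀ j : ℕ, d < j → j < d + c →
      F (e j) = (∑ i ∈ Finset.Icc 1 d, ((p : W) * a i j) • e i) + (p : W) • e (j + 1))
    (h4 : F (e (d + c)) = ∑ i ∈ Finset.Icc 1 d, ((p : W) * a i (d + c)) • e i) :
    (⇑F)^[d + c] (e 1) = T σ p F d a e c := by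
  obtain ⟨t, rfl⟩ : ∃ t, c = t + 1 := ⟨c - 1, by omega⟩
  have e1 : d + (t + 1) = (d + t) + 1 := rfl
  have hT := T_succ σ p F hF d a e h1 t
  rw [e1, Function.iterate_succ_apply', stage σ p F hF d (t + 1) a e hd h1 h2 h3 t (by omega),
    map_add, hF, map_pow, map_natCast, ← e1, h4, smul_step', hT]

end DieuNF

end Groth.Agent.Lib.helper10
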