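import Mathlib

/-!
`F`-nilpotent part of a `V`-reduced module is killed by a fixed power of `F` (helper10, S16418).
-/

set_option autoImplicit false
set_option linter.unusedSectionVars false
set_option linter.unusedVariables false

universe u v

namespace Groth.Agent.Lib.helper10

namespace DieuRed

variable {W : Type u} [CommRing W] (σ : W →+* W) (p : ℕ)
  {M : Type v} [AddCommGroup M] [Module W M] (F V : M →+ M)

theorem F_iter_smul (hF : ∀ (a : W) (m : M), F (a • m) = σ a • F m) (n : ℕ) (a : W) (m : M) :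
    (⇑F)^[n] (a • m) = (⇑σ)^[n] a • (⇑F)^[n] m := by
  induction n generalizing a m with
  | zero => rfl
  | succ n ih =>
    rw [Function.iterate_succ_apply, Function.iterate_succ_apply, Function.iterate_succ_apply,
      hF, ih]

theorem F_iter_V (hFV : ∀ m : M, F (V m) = (p : W) • m) (hVF : ∀ m : M, V (F m) = (p : W) • m)
    (n : ℕ) (m : M) : (⇑F)^[n] (V m) = V ((⇑F)^[n] m) := by
  have hc : Function.Commute (⇑F) (⇑V) := fun m => by rw [hFV, hVF]
  exact (hc.iterate_left n) m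

/-- The kernel of `F^n` as a submodule. -/
def K (hF : ∀ (a : W) (m : M), F (a • m) = σ a • F m) (n : ℕ) : Submodule W M where
  carrier := {x | (⇑F)^[n] x = 0}
  zero_mem' := iterate_map_zero F n
  add_mem' := by
    intro a b ha hb
    show (⇑F)^[n] (a + b) = 0
    rw [iterate_map_add, ha, hb, add_zero]
  smul_mem' := by
    intro a x hx
    show (⇑F)^[n] (a • x) = 0
    rw [F_iter_smul σ F hF, hx, smul_zero]

theorem mem_K (hF : ∀ (a : W) (m : M), F (a • m) = σ a • F m) (n : ℕ) (x : M) :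
    x ∈ K σ F hF n ↔ (⇑F)^[n] x = 0 := Iff.rfl

theorem K_mono (hF : ∀ (a : W) (m : M), F (a • m) = σ a • F m) : Monotone (K σ F hF) := by
  intro a b hab x hx
  obtain ⟨c, rfl⟩ := Nat.exists_eq_add_of_le hab
  rw [mem_K] at hx ⊢
  rw [add_comm, Function.iterate_add_apply, hx, iterate_map_zero]

theorem mem_span_range (hV : ∀ (a : W) (m : M), V (σ a • m) = a • V m) (z : M)
    (hz : z ∈ Submodule.span W (Set.range V)) : ∃ m : M, z = V m := by
  induction hz using Submodule.span_induction with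
  | mem x hx =>
    obtain ⟨m, rfl⟩ := hx
    exact ⟨m, rfl⟩
  | zero => exact ⟨0, (map_zero V).symm⟩
  | add x y _ _ hx hy =>
    obtain ⟨a, rfl⟩ := hx
    obtain ⟨b, rfl⟩ := hy
    exact ⟨a + b, (map_add V a b).symm⟩
  | smul a x _ hx =>
    obtain ⟨m, rfl⟩ := hx
    exact ⟨σ a • m, (hV a m).symm⟩

theorem partA [IsNoetherianRing W]
    (hF : ∀ (a : W) (m : M), F (a • m) = σ a • F m)
    (hV : ∀ (a : W) (m : M), V (σ a • m) = a • V m)
    (hFV : ∀ m : M, F (V m) = (p : W) • m)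
    (hVF : ∀ m : M, V (F m) = (p : W) • m)
    (hVinj : Function.Injective V)
    (hsep : ∀ x : M, (∀ n : ℕ, ∃ y : M, x = (⇑V)^[n] y) → x = 0)
    (hfin : Module.Finite W (M ⧸ Submodule.span W (Set.range V))) :
    ∃ c : ℕ, ∀ x : M, (∃ n : ℕ, (⇑F)^[n] x = 0) → (⇑F)^[c] x = 0 := by
  have hnoeth : IsNoetherian W (M ⧸ Submodule.span W (Set.range V)) :=
    isNoetherian_of_isNoetherianRing_of_finite W _
  let π := (Submodule.span W (Set.range V)).mkQ
  let f : ℕ →o Submodule W (M ⧸ Submodule.span W (Set.range V)) :=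
    ⟨fun n => (K σ F hF n).map π, fun a b hab => Submodule.map_mono (K_mono σ F hF hab)⟩
  obtain ⟨n₀, hn₀⟩ := monotone_stabilizes_iff_noetherian.mpr hnoeth f
  refine ⟨n₀, ?_⟩
  -- decomposition step
  have step : ∀ x : M, (∃ n : ℕ, (⇑F)^[n] x = 0) →
      ∃ x' : M, (∃ n : ℕ, (⇑F)^[n] x' = 0) ∧ (⇑F)^[n₀] x = V ((⇑F)^[n₀] x') := by
    rintro x ⟨n, hn⟩
    have hx1 : x ∈ K σ F hF (max n n₀) := K_mono σ F hF (le_max_left n n₀) hn
    have hx2 : π x ∈ f (max n n₀) := Submodule.mem_map_of_mem hx1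
    rw [← hn₀ (max n n₀) (le_max_right n n₀)] at hx2
    obtain ⟨y, hy, hyx⟩ := Submodule.mem_map.mp hx2
    have hxy : x - y ∈ Submodule.span W (Set.range V) := by
      rw [← Submodule.Quotient.mk_eq_zero]
      have : π (x - y) = 0 := by rw [map_sub, hyx, sub_self]
      exact this
    obtain ⟨x', hx'⟩ := mem_span_range σ V hV _ hxy
    have hy0 : (⇑F)^[n₀] y = 0 := hy
    refine ⟨x', ⟨max n n₀, ?_⟩, ?_⟩
    · apply hVinj
      rw [← F_iter_V p F V hFV hVF, ← hx', map_zero]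
      have : x - y ∈ K σ F hF (max n n₀) :=
        Submodule.sub_mem _ hx1 (K_mono σ F hF (le_max_right n n₀) hy)
      exact this
    · rw [← F_iter_V p F V hFV hVF, ← hx', iterate_map_sub, hy0, sub_zero]
  have key : ∀ J : ℕ, ∀ x : M, (∃ n : ℕ, (⇑F)^[n] x = 0) → ∃ z : M, (⇑F)^[n₀] x = (⇑V)^[J] z := by
    intro J
    induction J with
    | zero => exact fun x _ => ⟨_, rfl⟩
    | succ J ih =>
      intro x hx
      obtain ⟨x', hx', hxx'⟩ := step x hx
      obtain ⟨z, hz⟩ := ih x' hx'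
      exact ⟨z, by rw [hxx', hz, Function.iterate_succ_apply']⟩
  intro x hx
  exact hsep _ (fun J => key J x hx)

theorem partB
    (hFV : ∀ m : M, F (V m) = (p : W) • m)
    (hVF : ∀ m : M, V (F m) = (p : W) • m)
    (hVinj : Function.Injective V)
    (c : ℕ) (hc : ∀ x : M, (∃ n : ℕ, (⇑F)^[n] x = 0) → (⇑F)^[c] x = 0) :
    ∀ x : M, (∀ n : ℕ, ∃ (m : ℕ) (y : M), (⇑V)^[m] x = (⇑F)^[n] y) → F x = 0 → x = 0 := by
  intro x hx hFx
  obtain ⟨m, y, hy⟩ := hx c
  have hcomm : Function.Commute (⇑F) (⇑V) := fun m => by rw [hFV, hVF]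
  have h1 : (⇑F)^[c + 1] y = 0 := by
    rw [Function.iterate_succ_apply', ← hy]
    have := (hcomm.iterate_right m) x
    rw [this, hFx, iterate_map_zero]
  have h2 := hc y ⟨c + 1, h1⟩
  rw [h2] at hy
  have hinj : Function.Injective (⇑V)^[m] := hVinj.iterate m
  apply hinj
  rw [hy, iterate_map_zero]

end DieuRed

end Groth.Agent.Lib.helper10
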