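import Groth.Agent.Lib.Helper10.BCDescent
import Groth.Prelude.Def_Disp2

set_option autoImplicit false

namespace Groth.Agent.Lib.helper10.DispDescent

open Dieu

universe u v

theorem mem_Q_iff (p : ℕ) [Fact p.Prime]
    (S R : Type u) [CommRing S] [CommRing R] [Algebra S R] [Module.FaithfullyFlat S R]
    (P : Type v) [AddCommGroup P] [Module (WittVector p S) P] (D : W4c1extbt610.Display3n p S P)
    (DR : W4c1extbt610.Display3n p R (Dieu.BC (WittVector.map (algebraMap S R) : WittVector p S →+* WittVector p R) P))
    (hDR : Dieu.IsDispBaseChange (algebraMap S R) D DR) (x : P) :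
    x ∈ D.Q ↔ Dieu.BC.ι (WittVector.map (algebraMap S R) : WittVector p S →+* WittVector p R) P x ∈ DR.Q := by
  rw [hDR.Q_eq, LinearMap.mem_ker, BC.ι_apply, Dieu.bcQuotMap_tmul, map_one]
  constructor
  · intro hx
    rw [Submodule.mkQ_apply, (Submodule.Quotient.mk_eq_zero D.Q).mpr hx]
    exact BC.tmul_zero _ _
  · intro hx
    have hπ : Function.Surjective (WittVector.constantCoeff : WittVector p S →+* S) := by
      intro s
      exact ⟨WittVector.teichmuller p s, WittVector.teichmuller_coeff_zero p s⟩
    have hker : ∀ a : WittVector p S, (WittVector.constantCoeff : WittVector p S →+* S) a = 0 →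
        ∀ n : P ⧸ D.Q, a • n = 0 := by
      intro a ha n
      obtain ⟨y, rfl⟩ := D.Q.mkQ_surjective n
      have ha0 : a.coeff 0 = 0 := ha
      have hav : WittVector.verschiebung (a.shift 1) = a := by
        have := WittVector.verschiebung_shift a 0 (by
          intro i hi
          have : i = 0 := by omega
          rw [this, ha0])
        rw [this]
        ext n
        rw [WittVector.shift_coeff, zero_add]
      rw [← map_smul, Submodule.mkQ_apply, Submodule.Quotient.mk_eq_zero]
      apply D.IV_smul_le
      rw [← hav]
      exact Submodule.smul_mem_smul (W4c1extbt610.verschiebung_mem_IV p S _) Submodule.mem_top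
    have hh : (WittVector.constantCoeff : WittVector p R →+* R).comp
        (WittVector.map (algebraMap S R) : WittVector p S →+* WittVector p R) =
        (algebraMap S R).comp (WittVector.constantCoeff : WittVector p S →+* S) := by
      ext w
      change (WittVector.map (algebraMap S R) w).coeff 0 = algebraMap S R (w.coeff 0)
      rw [WittVector.map_coeff]
    have hinj := Groth.Agent.Lib.helper10.BCDescent.tmul_one_injective
      (WittVector.constantCoeff : WittVector p S →+* S) hπ (N := P ⧸ D.Q) hker _ hh
    have h0 : BC.tmul ((WittVector.constantCoeff : WittVector p R →+* R).comp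
        (WittVector.map (algebraMap S R) : WittVector p S →+* WittVector p R)) (1 : R)
        (D.Q.mkQ x) = BC.tmul _ (1 : R) (0 : P ⧸ D.Q) := by
      rw [hx, BC.tmul_zero]
    have := hinj h0
    exact (Submodule.Quotient.mk_eq_zero D.Q).mp this

theorem descent (p : ℕ) [Fact p.Prime]
    (S R : Type u) [CommRing S] [CommRing R] [Algebra S R] [Module.FaithfullyFlat S R] (hp : IsNilpotent (p : S))
    (e₁ : (WittVector.map (Algebra.TensorProduct.includeLeftRingHom : R →+* TensorProduct S R R) : WittVector p R →+* WittVector p (TensorProduct S R R)).comp (WittVector.map (algebraMap S R) : WittVector p S →+* WittVector p R) = (WittVector.map (algebraMap S (TensorProduct S R R)) : WittVector p S →+* WittVector p (TensorProduct S R R)))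
    (e₂ : (WittVector.map ((Algebra.TensorProduct.includeRight : R →ₐ[S] TensorProduct S R R) : R →+* TensorProduct S R R) : WittVector p R →+* WittVector p (TensorProduct S R R)).comp (WittVector.map (algebraMap S R) : WittVector p S →+* WittVector p R) = (WittVector.map (algebraMap S (TensorProduct S R R)) : WittVector p S →+* WittVector p (TensorProduct S R R)))
    (P P' : Type v) [AddCommGroup P] [Module (WittVector p S) P] [AddCommGroup P'] [Module (WittVector p S) P']
    (D : W4c1extbt610.Display3n p S P) (D' : W4c1extbt610.Display3n p S P')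
    (hD : Dieu.IsDisplay D) (hD' : Dieu.IsDisplay D')
    (DR : W4c1extbt610.Display3n p R (Dieu.BC (WittVector.map (algebraMap S R) : WittVector p S →+* WittVector p R) P)) (hDR : Dieu.IsDispBaseChange (algebraMap S R) D DR)
    (DR' : W4c1extbt610.Display3n p R (Dieu.BC (WittVector.map (algebraMap S R) : WittVector p S →+* WittVector p R) P')) (hDR' : Dieu.IsDispBaseChange (algebraMap S R) D' DR')
    (χ : Dieu.BC (WittVector.map (algebraMap S R) : WittVector p S →+* WittVector p R) P →ₗ[WittVector p R] Dieu.BC (WittVector.map (algebraMap S R) : WittVector p S →+* WittVector p R) P') (hχ : W4c1extbt610.IsHom DR DR' χ)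
    (hdesc : ∀ (z₁ : Dieu.BC (WittVector.map (Algebra.TensorProduct.includeLeftRingHom : R →+* TensorProduct S R R) : WittVector p R →+* WittVector p (TensorProduct S R R)) (Dieu.BC (WittVector.map (algebraMap S R) : WittVector p S →+* WittVector p R) P)) (z₂ : Dieu.BC (WittVector.map ((Algebra.TensorProduct.includeRight : R →ₐ[S] TensorProduct S R R) : R →+* TensorProduct S R R) : WittVector p R →+* WittVector p (TensorProduct S R R)) (Dieu.BC (WittVector.map (algebraMap S R) : WittVector p S →+* WittVector p R) P)),
      (Dieu.BC.castHom (P := P) e₁).comp (Dieu.BC.lift (WittVector.map (Algebra.TensorProduct.includeLeftRingHom : R →+* TensorProduct S R R) : WittVector p R →+* WittVector p (TensorProduct S R R)) (Dieu.BC.push (WittVector.map (algebraMap S R) : WittVector p S →+* WittVector p R) (WittVector.map (Algebra.TensorProduct.includeLeftRingHom : R →+* TensorProduct S R R) : WittVector p R →+* WittVector p (TensorProduct S R R)))) z₁ = (Dieu.BC.castHom (P := P) e₂).comp (Dieu.BC.lift (WittVector.map ((Algebra.TensorProduct.includeRight : R →ₐ[S] TensorProduct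 S R R) : R →+* TensorProduct S R R) : WittVector p R →+* WittVector p (TensorProduct S R R)) (Dieu.BC.push (WittVector.map (algebraMap S R) : WittVector p S →+* WittVector p R) (WittVector.map ((Algebra.TensorProduct.includeRight : R →ₐ[S] TensorProduct S R R) : R →+* TensorProduct S R R) : WittVector p R →+* WittVector p (TensorProduct S R R)))) z₂ →
        (Dieu.BC.castHom (P := P') e₁).comp (Dieu.BC.lift (WittVector.map (Algebra.TensorProduct.includeLeftRingHom : R →+* TensorProduct S R R) : WittVector p R →+* WittVector p (TensorProduct S R R)) (Dieu.BC.push (WittVector.map (algebraMap S R) : WittVector p S →+* WittVector p R) (WittVector.map (Algebra.TensorProduct.includeLeftRingHom : R →+* TensorProduct S R R) : WittVector p R →+* WittVector p (TensorProduct S R R)))) (Dieu.BC.map (WittVector.map (Algebra.TensorProduct.includeLeftRingHom : R →+* TensorProduct S R R) : WittVector p R →+* WittVector p (TensorProduct S R R)) χ z₁) =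
          (Dieu.BC.castHom (P := P') e₂).comp (Dieu.BC.lift (WittVector.map ((Algebra.TensorProduct.includeRight : R →ₐ[S] TensorProduct S R R) : R →+* TensorProduct S R R) : WittVector p R →+* WittVector p (TensorProduct S R R)) (Dieu.BC.push (WittVector.map (algebraMap S R) : WittVector p S →+* WittVector p R) (WittVector.map ((Algebra.TensorProduct.includeRight : R →ₐ[S] TensorProduct S R R) : R →+* TensorProduct S R R) : WittVector p R →+* WittVector p (TensorProduct S R R)))) (Dieu.BC.map (WittVector.map ((Algebra.TensorProduct.includeRight : R →ₐ[S] TensorProduct S R R) : R →+* TensorProduct S R R) : WittVector p R →+* WittVector p (TensorProduct S R R)) χ z₂)) :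
    ∃! ψ : P →ₗ[WittVector p S] P', W4c1extbt610.IsHom D D' ψ ∧ Dieu.BC.map (WittVector.map (algebraMap S R) : WittVector p S →+* WittVector p R) ψ = χ := by
  classical
  have hproj : Module.Projective (WittVector p S) P' := D'.projective
  have hflat : Module.Flat (WittVector p S) P' := Module.Flat.of_projective
  -- abbreviations
  have castHom_trans : ∀ {A B : Type u} [CommRing A] [CommRing B] {Pm : Type v} [AddCommGroup Pm]
      [Module A Pm] {g g' g'' : A →+* B} (e : g = g') (e' : g' = g'') (z : Dieu.BC g Pm),
      Dieu.BC.castHom e' (Dieu.BC.castHom e z) = Dieu.BC.castHom (e.trans e') z := by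
    intro A B _ _ Pm _ _ g g' g'' e e' z
    subst e; subst e'; rfl
  have hmain := @Groth.Agent.Lib.helper10.BCDescent.main _ _ _ _ _ _
    (WittVector.map (algebraMap S R) : WittVector p S →+* WittVector p R)
    (WittVector.map (Algebra.TensorProduct.includeLeftRingHom : R →+* TensorProduct S R R) : WittVector p R →+* WittVector p (TensorProduct S R R))
    (WittVector.map ((Algebra.TensorProduct.includeRight : R →ₐ[S] TensorProduct S R R) : R →+* TensorProduct S R R) : WittVector p R →+* WittVector p (TensorProduct S R R))
    (e₁.trans e₂.symm) P' _ _ hflat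
    (WittVector.map_injective _ (FaithfulSMul.algebraMap_injective S R))
    (by
      intro b hb
      have heff := Algebra.IsEffective.eqLocus_includeLeft_includeRight
        (Algebra.IsEffective.of_faithfullyFlat S R)
      have hc : ∀ n : ℕ, b.coeff n ∈ Set.range (algebraMap S R) := by
        intro n
        rw [← heff]
        have := congrArg (fun w : WittVector p (TensorProduct S R R) => w.coeff n) hb
        simp only [WittVector.map_coeff] at this
        exact this
      choose c hcn using hc
      refine ⟨WittVector.mk p c, ?_⟩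
      ext n
      rw [WittVector.map_coeff, WittVector.coeff_mk, hcn])
  obtain ⟨hιinj, hrange⟩ := hmain
  -- every χ (ι x) is in the range of ι
  have hex : ∀ x : P, ∃ y : P', Dieu.BC.ι (WittVector.map (algebraMap S R) : WittVector p S →+* WittVector p R) P' y =
      χ (Dieu.BC.ι (WittVector.map (algebraMap S R) : WittVector p S →+* WittVector p R) P x) := by
    intro x
    have h := hdesc (Dieu.BC.tmul _ 1 (Dieu.BC.tmul _ 1 x)) (Dieu.BC.tmul _ 1 (Dieu.BC.tmul _ 1 x)) (by
      simp only [LinearMap.comp_apply, Dieu.BC.lift_tmul, one_smul, Dieu.BC.push_tmul, map_one,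
        Dieu.BC.castHom_tmul])
    simp only [LinearMap.comp_apply, Dieu.BC.map_tmul, Dieu.BC.lift_tmul, one_smul] at h
    have h' := congrArg (Dieu.BC.castHom e₂.symm) h
    rw [castHom_trans, castHom_trans] at h'
    have h'' : Dieu.BC.castHom (e₂.trans e₂.symm) (Dieu.BC.push (WittVector.map (algebraMap S R) : WittVector p S →+* WittVector p R) (WittVector.map ((Algebra.TensorProduct.includeRight : R →ₐ[S] TensorProduct S R R) : R →+* TensorProduct S R R) : WittVector p R →+* WittVector p (TensorProduct S R R)) (χ (Dieu.BC.tmul _ 1 x))) = Dieu.BC.push _ _ (χ (Dieu.BC.tmul _ 1 x)) := rfl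
    rw [h''] at h'
    obtain ⟨y, hy⟩ := (hrange _).mp h'
    exact ⟨y, hy⟩
  choose ψf hψf using hex
  let ψ : P →ₗ[WittVector p S] P' :=
    { toFun := ψf
      map_add' := by
        intro x x'
        apply hιinj
        rw [map_add, hψf, hψf, hψf, map_add, map_add]
      map_smul' := by
        intro a x
        apply hιinj
        rw [RingHom.id_apply, LinearMap.map_smulₛₗ, hψf, hψf, LinearMap.map_smulₛₗ, map_smul] }
  have hψ : ∀ x : P, Dieu.BC.ι (WittVector.map (algebraMap S R) : WittVector p S →+* WittVector p R) P' (ψ x) =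
      χ (Dieu.BC.ι (WittVector.map (algebraMap S R) : WittVector p S →+* WittVector p R) P x) := hψf
  have hmapψ : Dieu.BC.map (WittVector.map (algebraMap S R) : WittVector p S →+* WittVector p R) ψ = χ := by
    apply Dieu.BC.ext
    intro x
    rw [Dieu.BC.map_tmul]
    exact hψ x
  have hmaps : ∀ q : P, q ∈ D.Q → ψ q ∈ D'.Q := by
    intro q hq
    rw [Groth.Agent.Lib.helper10.DispDescent.mem_Q_iff p S R P' D' DR' hDR', hψ]
    exact hχ.mapsTo _ ((Groth.Agent.Lib.helper10.DispDescent.mem_Q_iff p S R P D DR hDR q).mp hq)
  refine ⟨ψ, ⟨⟨hmaps, ?_, ?_⟩, hmapψ⟩, ?_⟩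
  · -- comm_F
    intro x
    apply hιinj
    rw [hψ, Dieu.BC.ι_apply, Dieu.BC.ι_apply]
    have h1 := hDR.F_tmul 1 x
    rw [map_one] at h1
    rw [← h1, hχ.comm_F]
    have h2 := hψ x
    rw [Dieu.BC.ι_apply, Dieu.BC.ι_apply] at h2
    rw [← h2]
    have h3 := hDR'.F_tmul 1 (ψ x)
    rw [map_one] at h3
    exact h3
  · -- comm_Vinv
    intro q
    apply hιinj
    rw [hψ, Dieu.BC.ι_apply, Dieu.BC.ι_apply]
    have hq1 : Dieu.BC.tmul (WittVector.map (algebraMap S R) : WittVector p S →+* WittVector p R) 1 (q : P) ∈ DR.Q :=
      (Groth.Agent.Lib.helper10.DispDescent.mem_Q_iff p S R P D DR hDR q).mp q.2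
    have h1 := hDR.Vinv_tmul 1 q hq1
    rw [map_one] at h1
    rw [← h1, hχ.comm_Vinv ⟨_, hq1⟩]
    have hq2 : Dieu.BC.tmul (WittVector.map (algebraMap S R) : WittVector p S →+* WittVector p R) 1 (ψ q) ∈ DR'.Q :=
      (Groth.Agent.Lib.helper10.DispDescent.mem_Q_iff p S R P' D' DR' hDR' (ψ q)).mp (hmaps q q.2)
    have h3 := hDR'.Vinv_tmul 1 ⟨ψ q, hmaps q q.2⟩ hq2
    rw [map_one] at h3
    rw [← h3]
    congr 1
    apply Subtype.ext
    have h2 := hψ q
    rw [Dieu.BC.ι_apply, Dieu.BC.ι_apply] at h2
    exact h2.symm
  · -- uniqueness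
    rintro ψ' ⟨-, hψ'⟩
    apply LinearMap.ext
    intro x
    apply hιinj
    rw [hψ, ← hψ', Dieu.BC.ι_apply, Dieu.BC.ι_apply, Dieu.BC.map_tmul]

end Groth.Agent.Lib.helper10.DispDescent
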