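import Mathlib
import Groth.Prelude.Def_Disp2

/-!
# Iterating the operator `V^#` against a Frobenius-semilinear endomorphism of a target module

If `g : P → M` is linear, `Φ : M → M` is Frobenius-semilinear and `g = Φ^# ∘ (1 ⊗ g) ∘ V^#`, then
`g = (Φ^(n+1))^# ∘ (1 ⊗ g) ∘ V^{(n+1)#}`; hence the nilpotence condition forces
`g(P) ⊆ (I_R + p) M`.
-/

set_option autoImplicit false

namespace Groth.Agent.Lib.helper10.VSharpIter

open Dieu

universe u v w

variable {p : ℕ} [Fact p.Prime] {R : Type u} [CommRing R]
variable {P : Type v} [AddCommGroup P] [Module (WittVector p R) P]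
variable {M : Type w} [AddCommGroup M] [Module (WittVector p R) M]

/-- `Φ^n` as a `σ^n`-semilinear map -/
noncomputable def powSL (Φ : M →ₛₗ[(WittVector.frobenius : WittVector p R →+* WittVector p R)] M) (n : ℕ) :
    M →ₛₗ[(WittVector.frobenius : WittVector p R →+* WittVector p R) ^ n] M where
  toFun := (⇑Φ)^[n]
  map_add' x y := by
    induction n with
    | zero => simp
    | succ n ih => rw [Function.iterate_succ_apply', Function.iterate_succ_apply',
        Function.iterate_succ_apply', ih, map_add]
  map_smul' a x := by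
    induction n with
    | zero => simp
    | succ n ih =>
      rw [Function.iterate_succ_apply', Function.iterate_succ_apply', ih, map_smulₛₗ]
      congr 1
      rw [pow_succ']
      rfl

@[simp] lemma powSL_apply
    (Φ : M →ₛₗ[(WittVector.frobenius : WittVector p R →+* WittVector p R)] M) (n : ℕ) (x : M) :
    powSL Φ n x = (⇑Φ)^[n] x := rfl

/-- the linear map `w ⊗ x ↦ w • Φ^(n+1) (g x)` -/
noncomputable def Psi (Φ : M →ₛₗ[(WittVector.frobenius : WittVector p R →+* WittVector p R)] M)
    (g : P →ₗ[WittVector p R] M) (n : ℕ) :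
    BC ((WittVector.frobenius : WittVector p R →+* WittVector p R) ^ (n + 1)) P
      →ₗ[WittVector p R] M :=
  BC.lift _ ((powSL Φ (n + 1)).comp g)

lemma Psi_tmul (Φ : M →ₛₗ[(WittVector.frobenius : WittVector p R →+* WittVector p R)] M)
    (g : P →ₗ[WittVector p R] M) (n : ℕ) (b : WittVector p R) (x : P) :
    Psi Φ g n (BC.tmul _ b x) = b • (⇑Φ)^[n + 1] (g x) := by
  rw [Psi, BC.lift_tmul]
  rfl

theorem Psi_vSharpPow
    (Vs : P →ₗ[WittVector p R] BC (WittVector.frobenius : WittVector p R →+* WittVector p R) P)
    (Φ : M →ₛₗ[(WittVector.frobenius : WittVector p R →+* WittVector p R)] M)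
    (g : P →ₗ[WittVector p R] M)
    (H : ∀ x, BC.lift _ Φ (BC.map _ g (Vs x)) = g x) (n : ℕ) (x : P) :
    Psi Φ g n (vSharpPow Vs n x) = g x := by
  induction n generalizing x with
  | zero =>
    rw [vSharpPow_zero_apply, ← H x]
    generalize Vs x = z
    induction z using BC.induction_on with
    | zero => simp
    | tmul b y =>
      rw [BC.castHom_tmul, Psi_tmul, BC.map_tmul, BC.lift_tmul]
      rfl
    | add z₁ z₂ h₁ h₂ => rw [map_add, map_add, map_add, map_add, h₁, h₂]
  | succ n ih =>
    rw [vSharpPow_succ_apply, ← H x]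
    generalize Vs x = z
    -- the inner claim
    have inner : ∀ z' : BC ((WittVector.frobenius : WittVector p R →+* WittVector p R) ^ (n + 1)) P,
        Psi Φ g (n + 1) (BC.castHom
          (comp_pow_eq_pow_succ (WittVector.frobenius : WittVector p R →+* WittVector p R) (n + 1))
          (BC.push _ (WittVector.frobenius : WittVector p R →+* WittVector p R) z'))
        = Φ (Psi Φ g n z') := by
      intro z'
      induction z' using BC.induction_on with
      | zero => simp
      | tmul c y =>
        rw [BC.push_tmul, BC.castHom_tmul, Psi_tmul, Psi_tmul, map_smulₛₗ,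
          Function.iterate_succ_apply' (⇑Φ) (n + 1)]
      | add z₁ z₂ h₁ h₂ => rw [map_add, map_add, map_add, map_add, map_add, h₁, h₂]
    induction z using BC.induction_on with
    | zero => simp
    | tmul b y =>
      rw [BC.map_tmul, BC.lift_tmul, map_smul, map_smul, inner, ih, BC.map_tmul, BC.lift_tmul]
    | add z₁ z₂ h₁ h₂ =>
      rw [map_add, map_add, map_add, map_add, map_add, map_add, h₁, h₂]

/-- Consequence of the nilpotence condition. -/
theorem mem_smul_top_of_isVNilpotent
    (Vs : P →ₗ[WittVector p R] BC (WittVector.frobenius : WittVector p R →+* WittVector p R) P)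
    (hVs : IsVNilpotent Vs)
    (Φ : M →ₛₗ[(WittVector.frobenius : WittVector p R →+* WittVector p R)] M)
    (g : P →ₗ[WittVector p R] M)
    (H : ∀ x, BC.lift _ Φ (BC.map _ g (Vs x)) = g x) (x : P) :
    g x ∈ (W4c1extbt610.IV p R ⊔ Ideal.span {(p : WittVector p R)}) •
      (⊤ : Submodule (WittVector p R) M) := by
  obtain ⟨n, hn⟩ := hVs
  rw [← Psi_vSharpPow Vs Φ g H n x]
  have h := Submodule.mem_map_of_mem (f := Psi Φ g n) (hn x)
  rw [Submodule.map_smul''] at h
  exact Submodule.smul_mono le_rfl le_top h

end Groth.Agent.Lib.helper10.VSharpIter
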