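import Mathlib

/-!
Frobenius is nilpotent on `W(𝔞)` when `p` is nilpotent and `𝔞` is nil of bounded exponent (helper10).
-/

set_option autoImplicit false

noncomputable section

namespace Groth.Agent.Lib.helper10.FrobNil

set_option linter.style.haveILetI false
set_option linter.unusedSectionVars false

universe u

open MvPolynomial

variable (p : ℕ) [Fact p.Prime]

theorem constantCoeff_frobeniusPolyAux (n : ℕ) :
    constantCoeff (WittVector.frobeniusPolyAux p n) = 0 := by
  have h1 : (WittVector.frobenius (0 : WittVector p ℤ)).coeff n =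
      aeval (0 : WittVector p ℤ).coeff (WittVector.frobeniusPoly p n) := WittVector.coeff_frobenius _ _
  rw [map_zero] at h1
  have h2 : (0 : WittVector p ℤ).coeff = (0 : ℕ → ℤ) := by
    funext i; exact WittVector.zero_coeff p ℤ i
  rw [h2, aeval_zero] at h1
  have h3 : constantCoeff (WittVector.frobeniusPoly p n) = 0 := by
    simpa using h1.symm
  unfold WittVector.frobeniusPoly at h3
  rw [map_add, map_pow, constantCoeff_X, zero_pow (Fact.out : p.Prime).ne_zero, zero_add, map_mul,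
    constantCoeff_C] at h3
  rcases mul_eq_zero.1 h3 with h | h
  · exact absurd h (by exact_mod_cast (Fact.out : p.Prime).ne_zero)
  · exact h

variable {S : Type u} [CommRing S]

theorem aeval_mem_of_constantCoeff_eq_zero (𝔟 : Ideal S) (x : ℕ → S) (hx : ∀ i, x i ∈ 𝔟)
    (q : MvPolynomial ℕ ℤ) (hq : constantCoeff q = 0) : aeval x q ∈ 𝔟 := by
  rw [← Ideal.Quotient.eq_zero_iff_mem, map_aeval]
  have h1 : (fun i => Ideal.Quotient.mk 𝔟 (x i)) = fun _ => (0 : S ⧸ 𝔟) := by
    funext i; exact Ideal.Quotient.eq_zero_iff_mem.2 (hx i)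
  rw [h1, eval₂Hom_zero'_apply, hq, map_zero]

/-- all Witt components lie in the ideal -/
def CoeffsIn (𝔟 : Ideal S) (x : WittVector p S) : Prop := ∀ n, x.coeff n ∈ 𝔟

variable {p}

theorem coeff_frobenius_of_coeffsIn {𝔟 : Ideal S} {x : WittVector p S} (hx : CoeffsIn p 𝔟 x) (n : ℕ) :
    ∃ b ∈ 𝔟, (WittVector.frobenius x).coeff n = x.coeff n ^ p + (p : S) * b := by
  refine ⟨aeval x.coeff (WittVector.frobeniusPolyAux p n),
    aeval_mem_of_constantCoeff_eq_zero 𝔟 _ hx _ (constantCoeff_frobeniusPolyAux p n), ?_⟩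
  rw [WittVector.coeff_frobenius]
  unfold WittVector.frobeniusPoly
  rw [map_add, map_pow, aeval_X, map_mul, aeval_C]
  simp

theorem coeffsIn_frobenius {𝔟 : Ideal S} {x : WittVector p S} (hx : CoeffsIn p 𝔟 x) :
    CoeffsIn p 𝔟 (WittVector.frobenius x) := by
  intro n
  obtain ⟨b, hb, h⟩ := coeff_frobenius_of_coeffsIn hx n
  rw [h]
  exact 𝔟.add_mem (𝔟.pow_mem_of_mem (hx n) p (Fact.out : p.Prime).pos) (𝔟.mul_mem_left _ hb)

theorem coeffsIn_iterate {𝔟 : Ideal S} {x : WittVector p S} (hx : CoeffsIn p 𝔟 x) (t : ℕ) :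
    CoeffsIn p 𝔟 (WittVector.frobenius^[t] x) := by
  induction t with
  | zero => simpa using hx
  | succ t ih =>
    rw [Function.iterate_succ_apply']
    exact coeffsIn_frobenius ih

theorem coeff_iterate_sub {𝔟 : Ideal S} {x : WittVector p S} (hx : CoeffsIn p 𝔟 x) (t n : ℕ) :
    (WittVector.frobenius^[t] x).coeff n - x.coeff n ^ (p ^ t) ∈ Ideal.span {(p : S)} * 𝔟 := by
  induction t with
  | zero => simp
  | succ t ih =>
    rw [Function.iterate_succ_apply']
    obtain ⟨b, hb, h⟩ := coeff_frobenius_of_coeffsIn (coeffsIn_iterate hx t) n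
    rw [h]
    set y := (WittVector.frobenius^[t] x).coeff n with hy
    set u := x.coeff n ^ (p ^ t) with hu
    have h1 : y ^ p - u ^ p ∈ Ideal.span {(p : S)} * 𝔟 := by
      rw [← Ideal.Quotient.eq] at ih ⊢
      rw [map_pow, map_pow, ih]
    have h2 : x.coeff n ^ (p ^ (t + 1)) = u ^ p := by
      rw [hu, ← pow_mul, pow_succ]
    rw [h2]
    have h3 : y ^ p + (p : S) * b - u ^ p = (y ^ p - u ^ p) + (p : S) * b := by ring
    rw [h3]
    exact Ideal.add_mem _ h1 (Ideal.mul_mem_mul (Ideal.mem_span_singleton_self _) hb)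

theorem coeffsIn_mul_of_nil {𝔟 : Ideal S} {N t : ℕ} (hN : ∀ b ∈ 𝔟, b ^ N = 0) (ht : N ≤ p ^ t)
    {x : WittVector p S} (hx : CoeffsIn p 𝔟 x) :
    CoeffsIn p (Ideal.span {(p : S)} * 𝔟) (WittVector.frobenius^[t] x) := by
  intro n
  have h1 := coeff_iterate_sub hx t n
  have h2 : x.coeff n ^ (p ^ t) = 0 := by
    obtain ⟨c, hc⟩ := Nat.exists_eq_add_of_le ht
    rw [hc, pow_add, hN _ (hx n), zero_mul]
  rwa [h2, sub_zero] at h1

theorem iterate_eq_zero_aux {N t : ℕ} (ht : N ≤ p ^ t) (r : ℕ) :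
    ∀ (𝔟 : Ideal S), (∀ b ∈ 𝔟, b ^ N = 0) → Ideal.span {(p : S)} ^ r * 𝔟 = ⊥ →
      ∀ x : WittVector p S, CoeffsIn p 𝔟 x → WittVector.frobenius^[t * r] x = 0 := by
  induction r with
  | zero =>
    intro 𝔟 _ h0 x hx
    rw [pow_zero, one_mul] at h0
    simp only [Nat.mul_zero, Function.iterate_zero, id_eq]
    ext n
    have := hx n
    rw [h0, Ideal.mem_bot] at this
    rw [this, WittVector.zero_coeff]
  | succ r ih =>
    intro 𝔟 hN h0 x hx
    have h1 : t * (r + 1) = t * r + t := by ring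
    rw [h1, Function.iterate_add_apply]
    apply ih (Ideal.span {(p : S)} * 𝔟)
    · intro b hb
      exact hN b (Ideal.mul_le_right hb)
    · rw [← mul_assoc, ← pow_succ]; exact h0
    · exact coeffsIn_mul_of_nil hN ht hx

/-- Frobenius is nilpotent on Witt vectors with components in a nil ideal of bounded exponent,
when `p` is nilpotent. -/
theorem exists_iterate_eq_zero (hp : IsNilpotent (p : S)) (𝔟 : Ideal S) (N : ℕ)
    (hN : ∀ b ∈ 𝔟, b ^ N = 0) :
    ∃ M : ℕ, ∀ x : WittVector p S, CoeffsIn p 𝔟 x → WittVector.frobenius^[M] x = 0 := by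
  obtain ⟨r, hr⟩ := hp
  have ht : N ≤ p ^ N := (Nat.lt_pow_self (Fact.out : p.Prime).one_lt).le
  refine ⟨N * r, fun x hx => iterate_eq_zero_aux ht r 𝔟 hN ?_ x hx⟩
  rw [Ideal.span_singleton_pow, hr]
  simp

theorem exists_iterate_eq_zero_ker {R : Type u} [CommRing R] (φ : S →+* R) (hp : IsNilpotent (p : S))
    (N : ℕ) (hN : ∀ a : S, φ a = 0 → a ^ N = 0) :
    ∃ M : ℕ, ∀ x ∈ RingHom.ker (WittVector.map (p := p) φ), WittVector.frobenius^[M] x = 0 := by
  obtain ⟨M, hM⟩ := exists_iterate_eq_zero hp (RingHom.ker φ) N (fun b hb => hN b hb)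
  refine ⟨M, fun x hx => hM x ?_⟩
  intro n
  rw [RingHom.mem_ker]
  have h1 : (WittVector.map φ x).coeff n = 0 := by
    rw [(RingHom.mem_ker).1 hx, WittVector.zero_coeff]
  rwa [WittVector.map_coeff] at h1

end Groth.Agent.Lib.helper10.FrobNil
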