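import Mathlib
import Groth.Agent.S18590
import Groth.Agent.Lib.Helper10.FrobNil

/-!
# The ideal `W(𝔞)` of Witt vectors with coefficients in an ideal, Teichmüller additivity modulo
# products, and the shift operator
-/

set_option autoImplicit false

namespace Groth.Agent.Lib.helper10.WittIdeal

open WittVector

universe u

section TeichAdd

variable (p : ℕ) [hp : Fact p.Prime]

open Polynomial in
/-- In `W(ℤ[x][y])`, every coefficient of `[x] + [y] - [x + y]` is divisible by `x y`. -/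
theorem teich_add_poly (n : ℕ) :
    ∃ h : ℤ[X][X], ((teichmuller p (C (X : ℤ[X])) + teichmuller p (X : ℤ[X][X])
        - teichmuller p (C (X : ℤ[X]) + (X : ℤ[X][X])) : WittVector p ℤ[X][X])).coeff n
      = C (X : ℤ[X]) * (X : ℤ[X][X]) * h := by
  set δ : WittVector p ℤ[X][X] := teichmuller p (C (X : ℤ[X])) + teichmuller p (X : ℤ[X][X])
        - teichmuller p (C (X : ℤ[X]) + (X : ℤ[X][X])) with hδ
  set f := δ.coeff n with hf
  -- y ↦ 0
  have h1 : f.coeff 0 = 0 := by
    have e : WittVector.map (Polynomial.evalRingHom (0 : ℤ[X])) δ = 0 := by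
      rw [hδ, map_sub, map_add, map_teichmuller, map_teichmuller, map_teichmuller]
      simp
    have := congrArg (fun w => w.coeff n) e
    simp only [WittVector.map_coeff, WittVector.zero_coeff] at this
    rw [Polynomial.coeff_zero_eq_eval_zero]
    exact this
  -- x ↦ 0
  have h2 : ∀ j, (X : ℤ[X]) ∣ f.coeff j := by
    have e : WittVector.map (Polynomial.mapRingHom (Polynomial.evalRingHom (0 : ℤ))) δ = 0 := by
      rw [hδ, map_sub, map_add, map_teichmuller, map_teichmuller, map_teichmuller]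
      simp
    have := congrArg (fun w => w.coeff n) e
    simp only [WittVector.map_coeff, WittVector.zero_coeff] at this
    intro j
    have hj := congrArg (fun q => q.coeff j) this
    simp only [Polynomial.coe_mapRingHom, Polynomial.coeff_map, Polynomial.coeff_zero,
      Polynomial.coe_evalRingHom] at hj
    rw [Polynomial.X_dvd_iff, Polynomial.coeff_zero_eq_eval_zero]
    exact hj
  obtain ⟨g, hg⟩ := Polynomial.X_dvd_iff.2 h1
  have h3 : ∀ j, (X : ℤ[X]) ∣ g.coeff j := by
    intro j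
    have := h2 (j + 1)
    rwa [hg, Polynomial.coeff_X_mul] at this
  obtain ⟨h, hh⟩ := (Polynomial.C_dvd_iff_dvd_coeff _ _).2 h3
  exact ⟨h, by rw [hg, hh]; ring⟩

variable {p}

/-- Teichmüller representatives are additive modulo products: every coefficient of
`[a] + [c] - [a + c]` is a multiple of `a c`. -/
theorem teich_add_coeff {S : Type u} [CommRing S] (a c : S) (n : ℕ) :
    ∃ s : S, ((teichmuller p a + teichmuller p c - teichmuller p (a + c) :
      WittVector p S)).coeff n = a * c * s := by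
  obtain ⟨h, hh⟩ := teich_add_poly p n
  let ev : Polynomial (Polynomial ℤ) →+* S :=
    Polynomial.eval₂RingHom (Polynomial.eval₂RingHom (Int.castRingHom S) a) c
  have e1 : ev (Polynomial.C Polynomial.X) = a := by simp [ev]
  have e2 : ev Polynomial.X = c := by simp [ev]
  have e : WittVector.map ev (teichmuller p (Polynomial.C (Polynomial.X : Polynomial ℤ))
      + teichmuller p (Polynomial.X : Polynomial (Polynomial ℤ))
      - teichmuller p (Polynomial.C (Polynomial.X : Polynomial ℤ) + Polynomial.X)) =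
      teichmuller p a + teichmuller p c - teichmuller p (a + c) := by
    rw [map_sub, map_add, map_teichmuller, map_teichmuller, map_teichmuller, map_add, e1, e2]
  refine ⟨ev h, ?_⟩
  rw [← e, WittVector.map_coeff, hh, map_mul, map_mul, e1, e2]

end TeichAdd

section WI

variable {p : ℕ} [hp : Fact p.Prime] {S : Type u} [CommRing S]

/-- the ideal `W(𝔞)` of Witt vectors all of whose coefficients lie in `𝔞` -/
noncomputable def WI (𝔞 : Ideal S) : Ideal (WittVector p S) :=
  RingHom.ker (WittVector.map (p := p) (Ideal.Quotient.mk 𝔞))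

lemma mem_WI {𝔞 : Ideal S} {x : WittVector p S} : x ∈ WI 𝔞 ↔ ∀ n, x.coeff n ∈ 𝔞 := by
  rw [WI, RingHom.mem_ker, WittVector.ext_iff]
  simp only [WittVector.map_coeff, WittVector.zero_coeff, Ideal.Quotient.eq_zero_iff_mem]

lemma WI_mono {𝔞 𝔟 : Ideal S} (h : 𝔟 ≤ 𝔞) : (WI 𝔟 : Ideal (WittVector p S)) ≤ WI 𝔞 := by
  intro x hx
  rw [mem_WI] at hx ⊢
  exact fun n => h (hx n)

lemma WI_bot : (WI (⊥ : Ideal S) : Ideal (WittVector p S)) = ⊥ := by
  rw [eq_bot_iff]
  intro x hx
  rw [mem_WI] at hx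
  rw [Ideal.mem_bot]
  ext n
  simpa using hx n

lemma verschiebung_mem_WI {𝔞 : Ideal S} {x : WittVector p S} :
    verschiebung x ∈ WI 𝔞 ↔ x ∈ WI 𝔞 := by
  rw [mem_WI, mem_WI]
  constructor
  · intro h n
    have := h (n + 1)
    rwa [verschiebung_coeff_succ] at this
  · intro h n
    cases n with
    | zero => rw [verschiebung_coeff_zero]; exact 𝔞.zero_mem
    | succ n => rw [verschiebung_coeff_succ]; exact h n

lemma teichmuller_mem_WI {𝔞 : Ideal S} {a : S} (ha : a ∈ 𝔞) :
    (teichmuller p a : WittVector p S) ∈ WI 𝔞 := by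
  rw [mem_WI]
  intro n
  cases n with
  | zero => rw [teichmuller_coeff_zero]; exact ha
  | succ n => rw [teichmuller_coeff_pos p a _ (Nat.succ_pos n)]; exact 𝔞.zero_mem

/-- the shift operator: drop the zeroth coefficient -/
noncomputable def sh (x : WittVector p S) : WittVector p S :=
  WittVector.mk p (fun i => x.coeff (i + 1))

omit hp in
@[simp] lemma sh_coeff (x : WittVector p S) (i : ℕ) : (sh x).coeff i = x.coeff (i + 1) := by
  rw [sh, WittVector.coeff_mk]

lemma sh_mem_WI {𝔞 : Ideal S} {x : WittVector p S} (hx : x ∈ WI 𝔞) : sh x ∈ WI 𝔞 := by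
  rw [mem_WI] at hx ⊢
  intro n
  rw [sh_coeff]
  exact hx _

lemma teich_add_verschiebung_coeff_zero (a : S) (y : WittVector p S) :
    (teichmuller p a + verschiebung y).coeff 0 = a := by
  rw [WittVector.add_coeff_zero, teichmuller_coeff_zero, verschiebung_coeff_zero, add_zero]

lemma teich_add_verschiebung_coeff_succ (a : S) (y : WittVector p S) (n : ℕ) :
    (teichmuller p a + verschiebung y).coeff (n + 1) = y.coeff n := by
  rw [WittVector.coeff_add_of_disjoint, teichmuller_coeff_pos p a _ (Nat.succ_pos n),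
    verschiebung_coeff_succ, zero_add]
  intro m
  cases m with
  | zero => right; exact verschiebung_coeff_zero y
  | succ m => left; exact teichmuller_coeff_pos p a _ (Nat.succ_pos m)

/-- `x = [x₀] + V (sh x)` -/
lemma eq_teich_add_verschiebung_sh (x : WittVector p S) :
    x = teichmuller p (x.coeff 0) + verschiebung (sh x) := by
  ext n
  cases n with
  | zero => rw [teich_add_verschiebung_coeff_zero]
  | succ n => rw [teich_add_verschiebung_coeff_succ, sh_coeff]

lemma sh_teich_add_verschiebung (a : S) (y : WittVector p S) :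
    sh (teichmuller p a + verschiebung y) = y := by
  ext n
  rw [sh_coeff, teich_add_verschiebung_coeff_succ]

lemma eq_verschiebung_sh_of_coeff_zero {x : WittVector p S} (h : x.coeff 0 = 0) :
    x = verschiebung (sh x) := by
  conv_lhs => rw [eq_teich_add_verschiebung_sh x, h, teichmuller_zero, zero_add]

variable {𝔞 𝔟 : Ideal S}

/-- Frobenius maps `W(𝔞)` into `W(𝔟)` when `𝔞² ≤ 𝔟` and `p𝔞 ≤ 𝔟`. -/
lemma frobenius_mem_WI (h1 : 𝔞 * 𝔞 ≤ 𝔟) (h2 : ∀ a ∈ 𝔞, (p : S) * a ∈ 𝔟)
    {x : WittVector p S} (hx : x ∈ WI 𝔞) : frobenius x ∈ WI 𝔟 := by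
  rw [mem_WI] at hx ⊢
  intro n
  obtain ⟨b, hb, h⟩ := FrobNil.coeff_frobenius_of_coeffsIn (p := p) (𝔟 := 𝔞) (x := x) hx n
  rw [h]
  refine 𝔟.add_mem ?_ (h2 b hb)
  have hp2 : 2 ≤ p := hp.out.two_le
  obtain ⟨k, rfl⟩ := Nat.exists_eq_add_of_le hp2
  have : x.coeff n ^ (2 + k) = x.coeff n * x.coeff n * x.coeff n ^ k := by ring
  rw [this]
  exact 𝔟.mul_mem_right _ (h1 (Ideal.mul_mem_mul (hx n) (hx n)))

/-- `V(y) · a ∈ W(𝔟)` for `a ∈ W(𝔞)`. -/
lemma verschiebung_mul_mem_WI (h1 : 𝔞 * 𝔞 ≤ 𝔟) (h2 : ∀ a ∈ 𝔞, (p : S) * a ∈ 𝔟)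
    (y : WittVector p S) {a : WittVector p S} (ha : a ∈ WI 𝔞) :
    verschiebung y * a ∈ WI 𝔟 := by
  rw [← verschiebung_mul_frobenius, verschiebung_mem_WI]
  exact Ideal.mul_mem_left _ _ (frobenius_mem_WI h1 h2 ha)

/-- the shift is additive modulo `W(𝔟)` on `W(𝔞)` -/
lemma sh_add_sub_mem (h1 : 𝔞 * 𝔞 ≤ 𝔟) {c d : WittVector p S} (hc : c ∈ WI 𝔞) (hd : d ∈ WI 𝔞) :
    sh (c + d) - (sh c + sh d) ∈ WI 𝔟 := by
  set δ : WittVector p S := teichmuller p (c.coeff 0) + teichmuller p (d.coeff 0)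
    - teichmuller p (c.coeff 0 + d.coeff 0) with hδ
  have hδ0 : δ.coeff 0 = 0 := by
    obtain ⟨s, hs⟩ := teich_add_coeff (p := p) (c.coeff 0) (d.coeff 0) 0
    have e : δ + teichmuller p (c.coeff 0 + d.coeff 0) =
        teichmuller p (c.coeff 0) + teichmuller p (d.coeff 0) := by rw [hδ]; ring
    have := congrArg (fun w => w.coeff 0) e
    simp only [WittVector.add_coeff_zero, teichmuller_coeff_zero] at this
    linear_combination this
  have hδB : δ ∈ WI 𝔟 := by
    rw [mem_WI]
    intro n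
    obtain ⟨s, hs⟩ := teich_add_coeff (p := p) (c.coeff 0) (d.coeff 0) n
    rw [hδ, hs]
    exact 𝔟.mul_mem_right _ (h1 (Ideal.mul_mem_mul ((mem_WI.1 hc) 0) ((mem_WI.1 hd) 0)))
  have hsum : c + d = teichmuller p (c.coeff 0 + d.coeff 0)
      + verschiebung (sh δ + (sh c + sh d)) := by
    have e1 : verschiebung (sh δ + (sh c + sh d))
        = δ + (verschiebung (sh c) + verschiebung (sh d)) := by
      rw [map_add verschiebung, map_add verschiebung, ← eq_verschiebung_sh_of_coeff_zero hδ0]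
    rw [e1]
    conv_lhs => rw [eq_teich_add_verschiebung_sh c, eq_teich_add_verschiebung_sh d]
    rw [hδ]
    abel
  have : sh (c + d) = sh δ + (sh c + sh d) := by
    rw [hsum, sh_teich_add_verschiebung]
  rw [this, add_sub_cancel_right]
  exact sh_mem_WI hδB

/-- the shift is Frobenius-semilinear modulo `W(𝔟)` on `W(𝔞)` -/
lemma sh_mul_sub_mem (h1 : 𝔞 * 𝔞 ≤ 𝔟) (h2 : ∀ a ∈ 𝔞, (p : S) * a ∈ 𝔟)
    (w : WittVector p S) {c : WittVector p S} (hc : c ∈ WI 𝔞) :
    sh (w * c) - frobenius w * sh c ∈ WI 𝔟 := by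
  have hc0 : (teichmuller p (c.coeff 0) : WittVector p S) ∈ WI 𝔞 :=
    teichmuller_mem_WI ((mem_WI.1 hc) 0)
  set b : WittVector p S := sh w * frobenius (teichmuller p (c.coeff 0)) with hb
  have hbB : b ∈ WI 𝔟 := Ideal.mul_mem_left _ _ (frobenius_mem_WI h1 h2 hc0)
  have hprod : w * c = teichmuller p (w.coeff 0 * c.coeff 0)
      + verschiebung (b + frobenius w * sh c) := by
    have e1 : verschiebung (sh w) * teichmuller p (c.coeff 0) = verschiebung b := by
      rw [hb, verschiebung_mul_frobenius]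
    have e2 : w * verschiebung (sh c) = verschiebung (frobenius w * sh c) := by
      rw [mul_comm (frobenius w), verschiebung_mul_frobenius, mul_comm]
    have e3 : w * teichmuller p (c.coeff 0)
        = teichmuller p (w.coeff 0 * c.coeff 0) + verschiebung b := by
      rw [map_mul, ← e1]
      conv_lhs => rw [eq_teich_add_verschiebung_sh w]
      rw [add_mul]
    calc w * c = w * (teichmuller p (c.coeff 0) + verschiebung (sh c)) := by
          rw [← eq_teich_add_verschiebung_sh c]
      _ = w * teichmuller p (c.coeff 0) + w * verschiebung (sh c) := mul_add _ _ _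
      _ = _ := by rw [e3, e2, map_add verschiebung]; abel
  rw [hprod, sh_teich_add_verschiebung, add_sub_cancel_right]
  exact hbB

/-- elements whose zeroth coefficient is a multiple of `p` multiply `W(𝔞)` into `W(𝔟)` -/
lemma mul_mem_WI_of_coeff_zero (h1 : 𝔞 * 𝔞 ≤ 𝔟) (h2 : ∀ a ∈ 𝔞, (p : S) * a ∈ 𝔟)
    {c : WittVector p S} (hc : c.coeff 0 ∈ Ideal.span {(p : S)})
    {a : WittVector p S} (ha : a ∈ WI 𝔞) : c * a ∈ WI 𝔟 := by
  rw [eq_teich_add_verschiebung_sh c, add_mul]
  refine Ideal.add_mem _ ?_ (verschiebung_mul_mem_WI h1 h2 _ ha)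
  rw [mem_WI]
  intro n
  rw [Groth.Agent.S18590.teich_mul_coeff]
  obtain ⟨s, hs⟩ := Ideal.mem_span_singleton'.1 hc
  have hpn : p ^ n ≠ 0 := pow_ne_zero _ hp.out.ne_zero
  obtain ⟨k, hk⟩ := Nat.exists_eq_succ_of_ne_zero hpn
  rw [hk, pow_succ, ← hs]
  have : (s * (p : S)) ^ k * (s * (p : S)) * a.coeff n
      = (p : S) * ((s * (p : S)) ^ k * s * a.coeff n) := by ring
  rw [this]
  exact h2 _ (𝔞.mul_mem_left _ ((mem_WI.1 ha) n))

end WI

end Groth.Agent.Lib.helper10.WittIdeal
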