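import Mathlib
import Groth.Prelude.Def_Disp2
import Groth.Agent.Lib.Helper10.WittIdeal
import Groth.Agent.Lib.Helper10.VSharpIter

/-!
# Rigidity of homomorphisms of displays: preparations
-/

set_option autoImplicit false

namespace Groth.Agent.Lib.helper10.DispRigid

open WittVector Dieu W4c1extbt610 Groth.Agent.Lib.helper10.WittIdeal

universe u v

variable {p : ℕ} [hp : Fact p.Prime] {S : Type u} [CommRing S]

lemma coeff_zero_mem_of_mem_IV_sup {c : WittVector p S}
    (hc : c ∈ IV p S ⊔ Ideal.span {(p : WittVector p S)}) :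
    c.coeff 0 ∈ Ideal.span {(p : S)} := by
  have hle : IV p S ⊔ Ideal.span {(p : WittVector p S)} ≤
      Ideal.comap (WittVector.constantCoeff (p := p) (R := S)) (Ideal.span {(p : S)}) := by
    refine sup_le ?_ ?_
    · rw [IV, Ideal.span_le]
      rintro _ ⟨x, rfl⟩
      rw [SetLike.mem_coe, Ideal.mem_comap]
      have : WittVector.constantCoeff (verschiebung x) = 0 := verschiebung_coeff_zero x
      rw [this]
      exact Ideal.zero_mem _
    · rw [Ideal.span_le]
      rintro _ rfl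
      rw [SetLike.mem_coe, Ideal.mem_comap, map_natCast]
      exact Ideal.subset_span rfl
  exact hle hc

lemma coeff_zero_eq_zero_of_mem_IV {c : WittVector p S} (hc : c ∈ IV p S) : c.coeff 0 = 0 := by
  have hle : IV p S ≤ RingHom.ker (WittVector.constantCoeff (p := p) (R := S)) := by
    rw [IV, Ideal.span_le]
    rintro _ ⟨x, rfl⟩
    exact verschiebung_coeff_zero x
  exact hle hc

variable {P' : Type v} [AddCommGroup P'] [Module (WittVector p S) P']

/-- a linear functional maps `I • ⊤` into `I` -/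
lemma functional_mem {I : Ideal (WittVector p S)} (l : P' →ₗ[WittVector p S] WittVector p S)
    {N : Submodule (WittVector p S) P'} {z : P'} (hz : z ∈ I • N) : l z ∈ I := by
  refine Submodule.smul_induction_on hz (fun a ha x _ => ?_) (fun x y hx hy => ?_)
  · rw [map_smul, smul_eq_mul]; exact I.mul_mem_right _ ha
  · rw [map_add]; exact I.add_mem hx hy

/-- Dual-basis data for the `T`-part of a normal decomposition. -/
theorem exists_dual_data [Module.Finite (WittVector p S) P'] [Module.Projective (WittVector p S) P']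
    (L T : Submodule (WittVector p S) P') (hLT : IsCompl L T) :
    ∃ (n : ℕ) (t : Fin n → P') (lam : Fin n → (P' →ₗ[WittVector p S] WittVector p S)),
      (∀ j, t j ∈ T) ∧ (∀ j, ∀ x ∈ L, lam j x = 0) ∧
        ∀ z, z - ∑ j, lam j z • t j ∈ L := by
  classical
  let π : P' →ₗ[WittVector p S] T := T.projectionOnto L hLT.symm
  have hπsurj : Function.Surjective π := Submodule.projectionOnto_surjective hLT.symm
  have : Module.Finite (WittVector p S) T := Module.Finite.of_surjective π hπsurj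
  have : Module.Projective (WittVector p S) T :=
    Module.Projective.of_split T.subtype π (Submodule.projectionOnto_comp_subtype hLT.symm)
  obtain ⟨n, f, g, -, -, hfg⟩ := Module.Finite.exists_comp_eq_id_of_projective (WittVector p S) T
  have hfg' : ∀ y, f (g y) = y := fun y => by
    have := congrArg (fun l => l y) hfg
    simpa using this
  refine ⟨n, fun j => (f (Pi.single j 1) : P'),
    fun j => (LinearMap.proj j) ∘ₗ g ∘ₗ π, fun j => (f _).2, ?_, ?_⟩
  · intro j x hx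
    have : π x = 0 := Submodule.projectionOnto_apply_of_mem_right hLT.symm hx
    simp [this]
  · intro z
    have hsum : ∑ j, ((LinearMap.proj j) ∘ₗ g ∘ₗ π) z • (f (Pi.single j 1) : P') = (π z : P') := by
      have h1 : g (π z) = ∑ j, g (π z) j • (Pi.single j (1 : WittVector p S) : Fin n → WittVector p S) := by
        ext i
        simp [Finset.sum_apply, Pi.single_apply]
      have h2 : π z = ∑ j, g (π z) j • f (Pi.single j 1) := by
        conv_lhs => rw [← hfg' (π z), h1, map_sum]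
        simp only [map_smul]
      conv_rhs => rw [h2]
      simp
    rw [hsum]
    have h3 := Submodule.projection_add_projection_eq_self hLT z
    have h4 : (π z : P') = T.projection L hLT.symm z := Submodule.coe_projectionOnto_apply _ _
    rw [h4]
    have h5 : z - T.projection L hLT.symm z = L.projection T hLT z := by
      rw [sub_eq_iff_eq_add]; exact h3.symm
    rw [h5, ← Submodule.coe_projectionOnto_apply]
    exact (L.projectionOnto T hLT z).2


section Construction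

variable {P' : Type v} [AddCommGroup P'] [Module (WittVector p S) P']
variable (D' : Display3n p S P') {n : ℕ} (t : Fin n → P')
  (lam : Fin n → (P' →ₗ[WittVector p S] WittVector p S))

/-- `Ψ₀ z = Σ_j sh(λ_j z) • F'(t_j)` -/
noncomputable def Psi0 (z : P') : P' := ∑ j, sh (lam j z) • D'.F (t j)

lemma Psi0_mem (𝔠 : Ideal S) {z : P'}
    (hz : z ∈ (WI 𝔠 : Ideal (WittVector p S)) • (⊤ : Submodule (WittVector p S) P')) :
    Psi0 D' t lam z ∈ (WI 𝔠 : Ideal (WittVector p S)) • (⊤ : Submodule (WittVector p S) P') := by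
  unfold Psi0
  refine Submodule.sum_mem _ fun j _ => ?_
  exact Submodule.smul_mem_smul (sh_mem_WI (functional_mem (lam j) hz)) Submodule.mem_top

variable {𝔞 𝔟 : Ideal S}

lemma Psi0_add (h1 : 𝔞 * 𝔞 ≤ 𝔟) {z z' : P'}
    (hz : z ∈ (WI 𝔞 : Ideal (WittVector p S)) • (⊤ : Submodule (WittVector p S) P'))
    (hz' : z' ∈ (WI 𝔞 : Ideal (WittVector p S)) • (⊤ : Submodule (WittVector p S) P')) :
    Psi0 D' t lam (z + z') - (Psi0 D' t lam z + Psi0 D' t lam z') ∈
      (WI 𝔟 : Ideal (WittVector p S)) • (⊤ : Submodule (WittVector p S) P') := by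
  unfold Psi0
  rw [← Finset.sum_add_distrib, ← Finset.sum_sub_distrib]
  refine Submodule.sum_mem _ fun j _ => ?_
  rw [← add_smul, ← sub_smul, map_add]
  exact Submodule.smul_mem_smul
    (sh_add_sub_mem h1 (functional_mem (lam j) hz) (functional_mem (lam j) hz')) Submodule.mem_top

lemma Psi0_smul (h1 : 𝔞 * 𝔞 ≤ 𝔟) (h2 : ∀ a ∈ 𝔞, (p : S) * a ∈ 𝔟) (w : WittVector p S) {z : P'}
    (hz : z ∈ (WI 𝔞 : Ideal (WittVector p S)) • (⊤ : Submodule (WittVector p S) P')) :
    Psi0 D' t lam (w • z) - frobenius w • Psi0 D' t lam z ∈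
      (WI 𝔟 : Ideal (WittVector p S)) • (⊤ : Submodule (WittVector p S) P') := by
  unfold Psi0
  rw [Finset.smul_sum, ← Finset.sum_sub_distrib]
  refine Submodule.sum_mem _ fun j _ => ?_
  rw [smul_smul, ← sub_smul, map_smul, smul_eq_mul]
  exact Submodule.smul_mem_smul
    (sh_mul_sub_mem h1 h2 w (functional_mem (lam j) hz)) Submodule.mem_top

/-- `V⁻¹` maps `W(𝔞) • L` into `W(𝔟) P'` -/
lemma Vinv_mem_of_mem_smul (h1 : 𝔞 * 𝔞 ≤ 𝔟) (h2 : ∀ a ∈ 𝔞, (p : S) * a ∈ 𝔟)
    (L : Submodule (WittVector p S) P') (hLQ : L ≤ D'.Q) {x : P'}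
    (hx : x ∈ (WI 𝔞 : Ideal (WittVector p S)) • L) :
    ∃ hxQ : x ∈ D'.Q, D'.Vinv ⟨x, hxQ⟩ ∈
      (WI 𝔟 : Ideal (WittVector p S)) • (⊤ : Submodule (WittVector p S) P') := by
  refine Submodule.smul_induction_on hx (fun a ha l hl => ?_) (fun x y hx hy => ?_)
  · refine ⟨D'.Q.smul_mem a (hLQ hl), ?_⟩
    have : (⟨a • l, D'.Q.smul_mem a (hLQ hl)⟩ : D'.Q) = a • ⟨l, hLQ hl⟩ := rfl
    rw [this, map_smulₛₗ]
    exact Submodule.smul_mem_smul (frobenius_mem_WI h1 h2 ha) Submodule.mem_top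
  · obtain ⟨hxQ, hx'⟩ := hx
    obtain ⟨hyQ, hy'⟩ := hy
    refine ⟨D'.Q.add_mem hxQ hyQ, ?_⟩
    have : (⟨x + y, D'.Q.add_mem hxQ hyQ⟩ : D'.Q) = ⟨x, hxQ⟩ + ⟨y, hyQ⟩ := rfl
    rw [this, map_add]
    exact Submodule.add_mem _ hx' hy'

/-- the key compatibility: on `W(𝔞)P' ∩ Q'`, `V⁻¹ ≡ Ψ₀` modulo `W(𝔟)P'` -/
theorem Vinv_sub_Psi0_mem (h1 : 𝔞 * 𝔞 ≤ 𝔟) (h2 : ∀ a ∈ 𝔞, (p : S) * a ∈ 𝔟)
    (L T : Submodule (WittVector p S) P') (hLT : IsCompl L T)
    (hQ : D'.Q = L ⊔ IV p S • T)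
    (ht : ∀ j, t j ∈ T) (hlamL : ∀ j, ∀ x ∈ L, lam j x = 0)
    (hdec : ∀ z, z - ∑ j, lam j z • t j ∈ L)
    {z : P'} (hzA : z ∈ (WI 𝔞 : Ideal (WittVector p S)) • (⊤ : Submodule (WittVector p S) P'))
    (hzQ : z ∈ D'.Q) :
    D'.Vinv ⟨z, hzQ⟩ - Psi0 D' t lam z ∈
      (WI 𝔟 : Ideal (WittVector p S)) • (⊤ : Submodule (WittVector p S) P') := by
  classical
  have hLQ : L ≤ D'.Q := by rw [hQ]; exact le_sup_left
  set zT : P' := ∑ j, lam j z • t j with hzT
  have hzT_T : zT ∈ T := Submodule.sum_mem _ fun j _ => T.smul_mem _ (ht j)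
  have hzL_L : z - zT ∈ L := hdec z
  have hzT_A : zT ∈ (WI 𝔞 : Ideal (WittVector p S)) • (⊤ : Submodule (WittVector p S) P') :=
    Submodule.sum_mem _ fun j _ =>
      Submodule.smul_mem_smul (functional_mem (lam j) hzA) Submodule.mem_top
  have hzL_A : z - zT ∈ (WI 𝔞 : Ideal (WittVector p S)) • (⊤ : Submodule (WittVector p S) P') :=
    Submodule.sub_mem _ hzA hzT_A
  have hzL_Q : z - zT ∈ D'.Q := hLQ hzL_L
  have hzT_Q : zT ∈ D'.Q := by
    have : zT = z - (z - zT) := by abel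
    rw [this]
    exact D'.Q.sub_mem hzQ hzL_Q
  -- zT ∈ IV • T
  have hzT_IV : zT ∈ IV p S • T := by
    have hmem := hzT_Q
    rw [hQ, Submodule.mem_sup] at hmem
    obtain ⟨l, hl, i, hi, hli⟩ := hmem
    have hiT : i ∈ T := Submodule.smul_le_right hi
    have hlT : l ∈ T := by
      have : l = zT - i := by rw [← hli]; abel
      rw [this]
      exact T.sub_mem hzT_T hiT
    have hl0 : l = 0 := by
      have := hLT.disjoint
      rw [Submodule.disjoint_def] at this
      exact this l hl hlT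
    rw [← hli, hl0, zero_add]
    exact hi
  -- the coefficients are in IV
  have hlam : ∀ j, lam j z = verschiebung (sh (lam j z)) := by
    intro j
    apply eq_verschiebung_sh_of_coeff_zero
    have e : lam j z = lam j zT := by
      have : z = (z - zT) + zT := by abel
      conv_lhs => rw [this, map_add, hlamL j _ hzL_L, zero_add]
    rw [e]
    exact coeff_zero_eq_zero_of_mem_IV (functional_mem (lam j) hzT_IV)
  -- V⁻¹ on the T-part
  have hT_part : D'.Vinv ⟨zT, hzT_Q⟩ = Psi0 D' t lam z := by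
    have hmemj : ∀ j, verschiebung (sh (lam j z)) • t j ∈ D'.Q := fun j =>
      D'.IV_smul_le (Submodule.smul_mem_smul (verschiebung_mem_IV p S _) Submodule.mem_top)
    have e : (⟨zT, hzT_Q⟩ : D'.Q) = ∑ j, ⟨verschiebung (sh (lam j z)) • t j, hmemj j⟩ := by
      apply Subtype.ext
      rw [Submodule.coe_sum]
      simp only [hzT]
      exact Finset.sum_congr rfl fun j _ => by rw [← hlam j]
    rw [e, map_sum]
    unfold Psi0
    exact Finset.sum_congr rfl fun j _ => D'.Vinv_verschiebung_smul _ _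
  -- V⁻¹ on the L-part
  have hL_part : D'.Vinv ⟨z - zT, hzL_Q⟩ ∈
      (WI 𝔟 : Ideal (WittVector p S)) • (⊤ : Submodule (WittVector p S) P') := by
    have hmem : z - zT ∈ (WI 𝔞 : Ideal (WittVector p S)) • L := by
      have hproj : L.projection T hLT (z - zT) = z - zT := by
        rw [← Submodule.coe_projectionOnto_apply,
          Submodule.projectionOnto_apply_of_mem_left hLT hzL_L]
      rw [← hproj]
      have h := Submodule.mem_map_of_mem (f := L.projection T hLT) hzL_A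
      rw [Submodule.map_smul''] at h
      refine Submodule.smul_mono le_rfl ?_ h
      rintro _ ⟨y, -, rfl⟩
      rw [← Submodule.coe_projectionOnto_apply]
      exact (L.projectionOnto T hLT y).2
    obtain ⟨_, h⟩ := Vinv_mem_of_mem_smul D' h1 h2 L hLQ hmem
    exact h
  have hsplit : (⟨z, hzQ⟩ : D'.Q) = ⟨z - zT, hzL_Q⟩ + ⟨zT, hzT_Q⟩ := by
    apply Subtype.ext
    simp
  rw [hsplit, map_add, hT_part, add_sub_cancel_right]
  exact hL_part

end Construction


section Step

variable {P : Type v} [AddCommGroup P] [Module (WittVector p S) P]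
variable {P' : Type v} [AddCommGroup P'] [Module (WittVector p S) P']

/-- **Step lemma**: a homomorphism from a display which vanishes modulo `W(𝔞)` vanishes modulo
`W(𝔟)`, if `𝔞² ≤ 𝔟` and `p𝔞 ≤ 𝔟`. -/
theorem step (D : Display3n p S P) (D' : Display3n p S P')
    (Vs : P →ₗ[WittVector p S] BC (WittVector.frobenius : WittVector p S →+* WittVector p S) P)
    (hVs : IsVSharp D Vs) (hnil : IsVNilpotent Vs)
    (u : P →ₗ[WittVector p S] P') (hu : IsHom D D' u)
    {𝔞 𝔟 : Ideal S} (h1 : 𝔞 * 𝔞 ≤ 𝔟) (h2 : ∀ a ∈ 𝔞, (p : S) * a ∈ 𝔟)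
    (hA : ∀ x, u x ∈ (WI 𝔞 : Ideal (WittVector p S)) • (⊤ : Submodule (WittVector p S) P')) :
    ∀ x, u x ∈ (WI 𝔟 : Ideal (WittVector p S)) • (⊤ : Submodule (WittVector p S) P') := by
  classical
  haveI := D'.finite
  haveI := D'.projective
  obtain ⟨L, T, hLT, hQ⟩ := D'.exists_normal
  obtain ⟨n, t, lam, ht, hlamL, hdec⟩ := exists_dual_data L T hLT
  -- the modules
  set AP : Submodule (WittVector p S) P' :=
    (WI 𝔞 : Ideal (WittVector p S)) • (⊤ : Submodule (WittVector p S) P') with hAP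
  set BP : Submodule (WittVector p S) P' :=
    (WI 𝔟 : Ideal (WittVector p S)) • (⊤ : Submodule (WittVector p S) P') with hBP
  let K : Submodule (WittVector p S) AP := BP.comap AP.subtype
  -- the semilinear map Φ₀ : AP → AP ⧸ K
  let Φ₀ : AP →ₛₗ[(WittVector.frobenius : WittVector p S →+* WittVector p S)] (AP ⧸ K) :=
    { toFun := fun z => K.mkQ ⟨Psi0 D' t lam z.1, Psi0_mem D' t lam 𝔞 z.2⟩
      map_add' := fun x y => by
        rw [← map_add, ← sub_eq_zero, ← map_sub, Submodule.mkQ_apply,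
          Submodule.Quotient.mk_eq_zero]
        show (Psi0 D' t lam (x.1 + y.1) - (Psi0 D' t lam x.1 + Psi0 D' t lam y.1)) ∈ BP
        exact Psi0_add D' t lam h1 x.2 y.2
      map_smul' := fun w x => by
        rw [← map_smul, ← sub_eq_zero, ← map_sub, Submodule.mkQ_apply,
          Submodule.Quotient.mk_eq_zero]
        show (Psi0 D' t lam (w • x.1) - frobenius w • Psi0 D' t lam x.1) ∈ BP
        exact Psi0_smul D' t lam h1 h2 w x.2 }
  have hΦ₀K : K ≤ LinearMap.ker Φ₀ := by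
    intro z hz
    rw [LinearMap.mem_ker]
    show K.mkQ ⟨Psi0 D' t lam z.1, _⟩ = 0
    rw [Submodule.mkQ_apply, Submodule.Quotient.mk_eq_zero]
    exact Psi0_mem D' t lam 𝔟 hz
  let Φ : (AP ⧸ K) →ₛₗ[(WittVector.frobenius : WittVector p S →+* WittVector p S)] (AP ⧸ K) :=
    K.liftQ Φ₀ hΦ₀K
  have hΦ : ∀ z : AP, Φ (K.mkQ z) = K.mkQ ⟨Psi0 D' t lam z.1, Psi0_mem D' t lam 𝔞 z.2⟩ :=
    fun z => rfl
  -- the map g
  let g : P →ₗ[WittVector p S] (AP ⧸ K) := K.mkQ ∘ₗ (u.codRestrict AP hA)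
  have hg : ∀ x, g x = K.mkQ ⟨u x, hA x⟩ := fun x => rfl
  -- the identity
  have H : ∀ x, BC.lift _ Φ (BC.map _ g (Vs x)) = g x := by
    have hEq : (BC.lift _ Φ) ∘ₗ (BC.map _ g) ∘ₗ Vs = g := by
      refine LinearMap.ext_on D.span_range_Vinv ?_
      rintro _ ⟨y, rfl⟩
      have hv : Vs (D.Vinv y) = BC.tmul _ 1 (y : P) := by
        have := hVs.app_smul_Vinv 1 y
        rwa [one_smul] at this
      rw [LinearMap.comp_apply, LinearMap.comp_apply, hv, BC.map_tmul, BC.lift_tmul, one_smul,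
        hg, hg, hΦ, ← sub_eq_zero, ← map_sub, Submodule.mkQ_apply, Submodule.Quotient.mk_eq_zero]
      show (Psi0 D' t lam (u y) - u (D.Vinv y)) ∈ BP
      rw [hu.comm_Vinv y]
      have := Vinv_sub_Psi0_mem D' t lam h1 h2 L T hLT hQ ht hlamL hdec (hA y)
        (hu.mapsTo y y.2)
      have h' := BP.neg_mem this
      rwa [neg_sub] at h'
    intro x
    exact congrArg (fun l => l x) hEq
  -- conclusion from nilpotence
  intro x
  have hmem := VSharpIter.mem_smul_top_of_isVNilpotent Vs hnil Φ g H x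
  -- (IV + p) kills the quotient
  have hzero : (IV p S ⊔ Ideal.span {(p : WittVector p S)}) •
      (⊤ : Submodule (WittVector p S) (AP ⧸ K)) = ⊥ := by
    rw [eq_bot_iff, Submodule.smul_le]
    intro c hc m _
    obtain ⟨z, rfl⟩ := K.mkQ_surjective m
    rw [Submodule.mem_bot, ← map_smul, Submodule.mkQ_apply, Submodule.Quotient.mk_eq_zero]
    show c • z.1 ∈ BP
    have hz := z.2
    refine Submodule.smul_induction_on hz (fun a ha y _ => ?_) (fun y y' hy hy' => ?_)
    · rw [smul_smul]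
      exact Submodule.smul_mem_smul
        (mul_mem_WI_of_coeff_zero h1 h2 (coeff_zero_mem_of_mem_IV_sup hc) ha) Submodule.mem_top
    · rw [smul_add]
      exact BP.add_mem hy hy'
  rw [hzero, Submodule.mem_bot, hg, Submodule.mkQ_apply, Submodule.Quotient.mk_eq_zero] at hmem
  exact hmem

/-- **Rigidity**: a homomorphism from a display to a 3n-display which vanishes modulo `W(𝔞)` for
a nilpotent ideal `𝔞` is zero (`p` nilpotent in `S`). -/
theorem rigidity (hpS : IsNilpotent (p : S)) (D : Display3n p S P) (D' : Display3n p S P')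
    (hD : IsDisplay D)
    (u : P →ₗ[WittVector p S] P') (hu : IsHom D D' u)
    (𝔞 : Ideal S) (h𝔞 : IsNilpotent 𝔞)
    (hA : ∀ x, u x ∈ (WI 𝔞 : Ideal (WittVector p S)) • (⊤ : Submodule (WittVector p S) P')) :
    u = 0 := by
  obtain ⟨Vs, hVs, hnil⟩ := hD
  -- the chain 𝔠^k * 𝔞 with 𝔠 = 𝔞 + (p)
  set 𝔠 : Ideal S := 𝔞 ⊔ Ideal.span {(p : S)} with h𝔠
  have h𝔠nil : IsNilpotent 𝔠 := by
    obtain ⟨m, hm⟩ := h𝔞
    obtain ⟨r, hr⟩ := hpS
    refine ⟨m + r, ?_⟩
    rw [Ideal.zero_eq_bot, eq_bot_iff]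
    refine (Ideal.sup_pow_add_le_pow_sup_pow (I := 𝔞) (J := Ideal.span {(p : S)})).trans ?_
    rw [hm, Ideal.span_singleton_pow, hr, Ideal.zero_eq_bot, bot_sup_eq, Ideal.span_le]
    rintro _ rfl
    exact Ideal.zero_mem _
  have hp𝔠 : (p : S) ∈ 𝔠 := Ideal.mem_sup_right (Ideal.subset_span rfl)
  have h𝔞𝔠 : 𝔞 ≤ 𝔠 := le_sup_left
  have hchain : ∀ k : ℕ, ∀ x, u x ∈ (WI (𝔠 ^ k * 𝔞) : Ideal (WittVector p S)) •
      (⊤ : Submodule (WittVector p S) P') := by
    intro k
    induction k with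
    | zero =>
      intro x
      rw [pow_zero, one_mul]
      exact hA x
    | succ k ih =>
      have hle : 𝔠 ^ k * 𝔞 ≤ 𝔠 := Ideal.mul_le_right.trans h𝔞𝔠
      have e : 𝔠 ^ (k + 1) * 𝔞 = 𝔠 * (𝔠 ^ k * 𝔞) := by rw [pow_succ', mul_assoc]
      have h1 : (𝔠 ^ k * 𝔞) * (𝔠 ^ k * 𝔞) ≤ 𝔠 ^ (k + 1) * 𝔞 := by
        rw [e]
        exact Ideal.mul_mono_left hle
      have h2 : ∀ a ∈ 𝔠 ^ k * 𝔞, (p : S) * a ∈ 𝔠 ^ (k + 1) * 𝔞 := by
        intro a ha
        rw [e]
        exact Ideal.mul_mem_mul hp𝔠 ha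
      exact step D D' Vs hVs hnil u hu h1 h2 ih
  obtain ⟨N, hN⟩ := h𝔠nil
  ext x
  have h := hchain N x
  rw [hN, Ideal.zero_eq_bot, Ideal.bot_mul, WI_bot, Submodule.bot_smul, Submodule.mem_bot] at h
  rw [h, LinearMap.zero_apply]

end Step

end Groth.Agent.Lib.helper10.DispRigid
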