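import Mathlib
import Groth.Prelude.Def_Disp2
import Groth.Agent.Lib.Helper10.DispRigid
import Groth.Agent.S16535

/-!
# Lifting homomorphisms of displays along nilpotent thickenings (in-place version)

Infrastructure for Zink's Proposition 40: `Hom(P, P') → Hom(P_R, P'_R)` has `p`-torsion cokernel for
`S → R` surjective with nilpotent kernel.  Everything is done "in place" over `S`, with homomorphisms
modulo `W(𝔞)`.
-/

set_option autoImplicit false
set_option linter.style.haveILetI false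
set_option linter.unusedSectionVars false

namespace Groth.Agent.Lib.helper10.DispLift

open WittVector Dieu W4c1extbt610 Groth.Agent.Lib.helper10.WittIdeal
  Groth.Agent.Lib.helper10.DispRigid

universe u v

variable {p : ℕ} [hp : Fact p.Prime] {S : Type u} [CommRing S]

section WittLemmas

variable {𝔞 𝔟 : Ideal S}

/-- the shift is additive modulo `W(𝔟)` on elements with zeroth coefficient in `𝔞` -/
lemma sh_add_sub_mem' (h1 : 𝔞 * 𝔞 ≤ 𝔟) {c d : WittVector p S} (hc : c.coeff 0 ∈ 𝔞)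
    (hd : d.coeff 0 ∈ 𝔞) :
    sh (c + d) - (sh c + sh d) ∈ WI 𝔟 := by
  set δ : WittVector p S := teichmuller p (c.coeff 0) + teichmuller p (d.coeff 0)
    - teichmuller p (c.coeff 0 + d.coeff 0) with hδ
  have hδ0 : δ.coeff 0 = 0 := by
    have e : δ + teichmuller p (c.coeff 0 + d.coeff 0) =
        teichmuller p (c.coeff 0) + teichmuller p (d.coeff 0) := by rw [hδ]; ring
    have := congrArg (fun w => w.coeff 0) e
    simp only [WittVector.add_coeff_zero, teichmuller_coeff_zero] at this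
    linear_combination this
  have hδB : δ ∈ WI 𝔟 := by
    rw [mem_WI]
    intro n
    obtain ⟨s, hs⟩ := teich_add_coeff (p := p) (c.coeff 0) (d.coeff 0) n
    rw [hδ, hs]
    exact 𝔟.mul_mem_right _ (h1 (Ideal.mul_mem_mul hc hd))
  have hsum : c + d = teichmuller p (c.coeff 0 + d.coeff 0)
      + verschiebung (sh δ + (sh c + sh d)) := by
    have e1 : verschiebung (sh δ + (sh c + sh d))
        = δ + (verschiebung (sh c) + verschiebung (sh d)) := by
      rw [map_add verschiebung, map_add verschiebung, ← eq_verschiebung_sh_of_coeff_zero hδ0]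
    rw [e1]
    conv_lhs => rw [eq_teich_add_verschiebung_sh c, eq_teich_add_verschiebung_sh d]
    rw [hδ]
    abel
  have : sh (c + d) = sh δ + (sh c + sh d) := by
    rw [hsum, sh_teich_add_verschiebung]
  rw [this, add_sub_cancel_right]
  exact sh_mem_WI hδB

/-- the shift is Frobenius-semilinear modulo `W(𝔟)` on elements with zeroth coefficient in `𝔞` -/
lemma sh_mul_sub_mem' (h1 : 𝔞 * 𝔞 ≤ 𝔟) (h2 : ∀ a ∈ 𝔞, (p : S) * a ∈ 𝔟)
    (w : WittVector p S) {c : WittVector p S} (hc : c.coeff 0 ∈ 𝔞) :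
    sh (w * c) - frobenius w * sh c ∈ WI 𝔟 := by
  have hc0 : (teichmuller p (c.coeff 0) : WittVector p S) ∈ WI 𝔞 :=
    teichmuller_mem_WI hc
  set b : WittVector p S := sh w * frobenius (teichmuller p (c.coeff 0)) with hb
  have hbB : b ∈ WI 𝔟 := Ideal.mul_mem_left _ _ (frobenius_mem_WI h1 h2 hc0)
  have hprod : w * c = teichmuller p (w.coeff 0 * c.coeff 0)
      + verschiebung (b + frobenius w * sh c) := by
    have e1 : verschiebung (sh w) * teichmuller p (c.coeff 0) = verschiebung b := by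
      rw [hb, verschiebung_mul_frobenius]
    have e2 : w * verschiebung (sh c) = verschiebung (frobenius w * sh c) := by
      rw [mul_comm (frobenius w), verschiebung_mul_frobenius, mul_comm]
    have e3 : w * teichmuller p (c.coeff 0)
        = teichmuller p (w.coeff 0 * c.coeff 0) + verschiebung b := by
      rw [map_mul, ← e1]
      conv_lhs => rw [eq_teich_add_verschiebung_sh w]
      rw [add_mul]
    calc w * c = w * (teichmuller p (c.coeff 0) + verschiebung (sh c)) := by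
          rw [← eq_teich_add_verschiebung_sh c]
      _ = w * teichmuller p (c.coeff 0) + w * verschiebung (sh c) := mul_add _ _ _
      _ = _ := by rw [e3, e2, map_add verschiebung]; abel
  rw [hprod, sh_teich_add_verschiebung, add_sub_cancel_right]
  exact hbB

end WittLemmas

variable {P' : Type v} [AddCommGroup P'] [Module (WittVector p S) P']

/-- Normal decomposition of a 3n-display together with dual-basis data for the `T`-part. -/
structure NData (D' : Display3n p S P') where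
  L : Submodule (WittVector p S) P'
  T : Submodule (WittVector p S) P'
  hLT : IsCompl L T
  hQ : D'.Q = L ⊔ IV p S • T
  n : ℕ
  t : Fin n → P'
  lam : Fin n → (P' →ₗ[WittVector p S] WittVector p S)
  ht : ∀ j, t j ∈ T
  hlamL : ∀ j, ∀ x ∈ L, lam j x = 0
  hdec : ∀ z, z - ∑ j, lam j z • t j ∈ L

theorem exists_NData (D' : Display3n p S P') : Nonempty (NData D') := by
  haveI := D'.finite
  haveI := D'.projective
  obtain ⟨L, T, hLT, hQ⟩ := D'.exists_normal
  obtain ⟨n, t, lam, ht, hlamL, hdec⟩ := exists_dual_data L T hLT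
  exact ⟨⟨L, T, hLT, hQ, n, t, lam, ht, hlamL, hdec⟩⟩

namespace NData

variable {D' : Display3n p S P'} (N : NData D')

/-- the `T`-component -/
noncomputable def zT (z : P') : P' := ∑ j, N.lam j z • N.t j

lemma zT_mem_T (z : P') : N.zT z ∈ N.T :=
  Submodule.sum_mem _ fun j _ => N.T.smul_mem _ (N.ht j)

lemma sub_zT_mem_L (z : P') : z - N.zT z ∈ N.L := N.hdec z

lemma hLQ : N.L ≤ D'.Q := by rw [N.hQ]; exact le_sup_left

lemma proj_L (z : P') : N.L.projection N.T N.hLT z = z - N.zT z := by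
  have e : z = (z - N.zT z) + N.zT z := by abel
  conv_lhs => rw [e, map_add, Submodule.projection_apply_of_mem_left N.hLT (N.sub_zT_mem_L z),
    Submodule.projection_apply_of_mem_right N.hLT (N.zT_mem_T z), add_zero]

lemma proj_T (z : P') : N.T.projection N.L N.hLT.symm z = N.zT z := by
  have e : z = (z - N.zT z) + N.zT z := by abel
  conv_lhs => rw [e, map_add, Submodule.projection_apply_of_mem_right N.hLT.symm (N.sub_zT_mem_L z),
    Submodule.projection_apply_of_mem_left N.hLT.symm (N.zT_mem_T z), zero_add]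

lemma lam_zT (j : Fin N.n) (z : P') : N.lam j (N.zT z) = N.lam j z := by
  have e : z = (z - N.zT z) + N.zT z := by abel
  conv_rhs => rw [e, map_add, N.hlamL j _ (N.sub_zT_mem_L z), zero_add]

lemma zT_mem_IV_of_mem_Q {z : P'} (hz : z ∈ D'.Q) : N.zT z ∈ IV p S • N.T := by
  rw [← N.proj_T]
  exact Groth.Agent.S16538.pT_mem_of_mem_Q D' N.L N.T N.hLT N.hQ z hz

lemma lam_coeff_zero_of_mem_Q {z : P'} (hz : z ∈ D'.Q) (j : Fin N.n) :
    (N.lam j z).coeff 0 = 0 := by
  rw [← N.lam_zT]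
  exact coeff_zero_eq_zero_of_mem_IV (functional_mem (N.lam j) (N.zT_mem_IV_of_mem_Q hz))

/-- `Q̂_𝔞 = Q + W(𝔞)P'`, described by the functionals -/
def Qhat (𝔞 : Ideal S) : Submodule (WittVector p S) P' where
  carrier := {v | ∀ j, (N.lam j v).coeff 0 ∈ 𝔞}
  add_mem' := by
    intro a b ha hb j
    rw [map_add, WittVector.add_coeff_zero]
    exact 𝔞.add_mem (ha j) (hb j)
  zero_mem' := by
    intro j
    rw [map_zero, WittVector.zero_coeff]
    exact 𝔞.zero_mem
  smul_mem' := by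
    intro c x hx j
    rw [map_smul, smul_eq_mul, WittVector.mul_coeff_zero]
    exact 𝔞.mul_mem_left _ (hx j)

lemma mem_Qhat {𝔞 : Ideal S} {v : P'} : v ∈ N.Qhat 𝔞 ↔ ∀ j, (N.lam j v).coeff 0 ∈ 𝔞 := Iff.rfl

lemma Q_le_Qhat (𝔞 : Ideal S) : D'.Q ≤ N.Qhat 𝔞 := by
  intro z hz j
  rw [N.lam_coeff_zero_of_mem_Q hz j]
  exact 𝔞.zero_mem

lemma smul_top_le_Qhat (𝔞 : Ideal S) :
    (WI 𝔞 : Ideal (WittVector p S)) • (⊤ : Submodule (WittVector p S) P') ≤ N.Qhat 𝔞 := by
  intro z hz j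
  exact (mem_WI.1 (functional_mem (N.lam j) hz)) 0

lemma Qhat_mono {𝔞 𝔟 : Ideal S} (h : 𝔟 ≤ 𝔞) : N.Qhat 𝔟 ≤ N.Qhat 𝔞 := fun _ hz j => h (hz j)

lemma mem_Q_of_mem_Qhat_bot {v : P'} (hv : v ∈ N.Qhat ⊥) : v ∈ D'.Q := by
  have e : v = (v - N.zT v) + N.zT v := by abel
  rw [e]
  refine D'.Q.add_mem (N.hLQ (N.sub_zT_mem_L v)) ?_
  refine D'.IV_smul_le ?_
  unfold zT
  refine Submodule.sum_mem _ fun j _ => ?_
  refine Submodule.smul_mem_smul ?_ Submodule.mem_top
  have h0 : (N.lam j v).coeff 0 = 0 := by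
    have := hv j
    rwa [Ideal.mem_bot] at this
  rw [eq_verschiebung_sh_of_coeff_zero h0]
  exact verschiebung_mem_IV p S _

/-- the extended `V⁻¹`, a function on all of `P'` -/
noncomputable def Vhat (v : P') : P' :=
  D'.Vinv (Groth.Agent.S16538.pLQ D' N.L N.T N.hLT N.hQ v) + Psi0 D' N.t N.lam v

/-- `V⁻¹` of the `T`-component of an element of `Q` -/
lemma Vinv_zT {z : P'} (hz : z ∈ D'.Q) :
    ∃ h : N.zT z ∈ D'.Q, D'.Vinv ⟨N.zT z, h⟩ = Psi0 D' N.t N.lam z := by
  have hzT_Q : N.zT z ∈ D'.Q := by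
    have : N.zT z = z - (z - N.zT z) := by abel
    rw [this]
    exact D'.Q.sub_mem hz (N.hLQ (N.sub_zT_mem_L z))
  refine ⟨hzT_Q, ?_⟩
  have hlam : ∀ j, N.lam j z = verschiebung (sh (N.lam j z)) := fun j =>
    eq_verschiebung_sh_of_coeff_zero (N.lam_coeff_zero_of_mem_Q hz j)
  have hmemj : ∀ j, verschiebung (sh (N.lam j z)) • N.t j ∈ D'.Q := fun j =>
    D'.IV_smul_le (Submodule.smul_mem_smul (verschiebung_mem_IV p S _) Submodule.mem_top)
  have e : (⟨N.zT z, hzT_Q⟩ : D'.Q) = ∑ j, ⟨verschiebung (sh (N.lam j z)) • N.t j, hmemj j⟩ := by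
    apply Subtype.ext
    rw [Submodule.coe_sum]
    show N.zT z = ∑ j, verschiebung (sh (N.lam j z)) • N.t j
    unfold zT
    exact Finset.sum_congr rfl fun j _ => by rw [← hlam j]
  rw [e, map_sum]
  unfold Psi0
  exact Finset.sum_congr rfl fun j _ => D'.Vinv_verschiebung_smul _ _

lemma Vhat_of_mem_Q {z : P'} (hz : z ∈ D'.Q) : N.Vhat z = D'.Vinv ⟨z, hz⟩ := by
  obtain ⟨h, e⟩ := N.Vinv_zT hz
  unfold Vhat
  rw [← e, ← map_add]
  congr 1
  apply Subtype.ext
  rw [Submodule.coe_add, Groth.Agent.S16538.pLQ_coe, N.proj_L]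
  simp

variable {𝔞 𝔟 : Ideal S}

lemma Psi0_add' (h1 : 𝔞 * 𝔞 ≤ 𝔟) {z z' : P'} (hz : z ∈ N.Qhat 𝔞) (hz' : z' ∈ N.Qhat 𝔞) :
    Psi0 D' N.t N.lam (z + z') - (Psi0 D' N.t N.lam z + Psi0 D' N.t N.lam z') ∈
      (WI 𝔟 : Ideal (WittVector p S)) • (⊤ : Submodule (WittVector p S) P') := by
  unfold Psi0
  rw [← Finset.sum_add_distrib, ← Finset.sum_sub_distrib]
  refine Submodule.sum_mem _ fun j _ => ?_
  rw [← add_smul, ← sub_smul, map_add]
  exact Submodule.smul_mem_smul (sh_add_sub_mem' h1 (hz j) (hz' j)) Submodule.mem_top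

lemma Psi0_smul' (h1 : 𝔞 * 𝔞 ≤ 𝔟) (h2 : ∀ a ∈ 𝔞, (p : S) * a ∈ 𝔟) (w : WittVector p S) {z : P'}
    (hz : z ∈ N.Qhat 𝔞) :
    Psi0 D' N.t N.lam (w • z) - frobenius w • Psi0 D' N.t N.lam z ∈
      (WI 𝔟 : Ideal (WittVector p S)) • (⊤ : Submodule (WittVector p S) P') := by
  unfold Psi0
  rw [Finset.smul_sum, ← Finset.sum_sub_distrib]
  refine Submodule.sum_mem _ fun j _ => ?_
  rw [smul_smul, ← sub_smul, map_smul, smul_eq_mul]
  exact Submodule.smul_mem_smul (sh_mul_sub_mem' h1 h2 w (hz j)) Submodule.mem_top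

lemma Vhat_add (h1 : 𝔞 * 𝔞 ≤ 𝔟) {z z' : P'} (hz : z ∈ N.Qhat 𝔞) (hz' : z' ∈ N.Qhat 𝔞) :
    N.Vhat (z + z') - (N.Vhat z + N.Vhat z') ∈
      (WI 𝔟 : Ideal (WittVector p S)) • (⊤ : Submodule (WittVector p S) P') := by
  unfold Vhat
  rw [map_add, map_add]
  have := N.Psi0_add' h1 hz hz'
  convert this using 1
  abel

lemma Vhat_smul (h1 : 𝔞 * 𝔞 ≤ 𝔟) (h2 : ∀ a ∈ 𝔞, (p : S) * a ∈ 𝔟) (w : WittVector p S) {z : P'}
    (hz : z ∈ N.Qhat 𝔞) :
    N.Vhat (w • z) - frobenius w • N.Vhat z ∈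
      (WI 𝔟 : Ideal (WittVector p S)) • (⊤ : Submodule (WittVector p S) P') := by
  unfold Vhat
  rw [map_smul, map_smulₛₗ, smul_add]
  have := N.Psi0_smul' h1 h2 w hz
  convert this using 1
  abel

/-- on `W(𝔞)P'`, `V̂ ≡ Ψ₀` modulo `W(𝔟)P'` -/
lemma Vhat_sub_Psi0_mem (h1 : 𝔞 * 𝔞 ≤ 𝔟) (h2 : ∀ a ∈ 𝔞, (p : S) * a ∈ 𝔟) {z : P'}
    (hz : z ∈ (WI 𝔞 : Ideal (WittVector p S)) • (⊤ : Submodule (WittVector p S) P')) :
    N.Vhat z - Psi0 D' N.t N.lam z ∈
      (WI 𝔟 : Ideal (WittVector p S)) • (⊤ : Submodule (WittVector p S) P') := by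
  unfold Vhat
  rw [add_sub_cancel_right]
  have hmem : N.L.projection N.T N.hLT z ∈ (WI 𝔞 : Ideal (WittVector p S)) • N.L := by
    have h := Submodule.mem_map_of_mem (f := N.L.projection N.T N.hLT) hz
    rw [Submodule.map_smul''] at h
    refine Submodule.smul_mono le_rfl ?_ h
    rintro _ ⟨y, -, rfl⟩
    rw [← Submodule.coe_projectionOnto_apply]
    exact (N.L.projectionOnto N.T N.hLT y).2
  obtain ⟨hq, h⟩ := Vinv_mem_of_mem_smul D' h1 h2 N.L N.hLQ hmem
  exact h

end NData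


/-! ### The module `W(𝔞)P' / W(𝔟)P'` and its Frobenius-semilinear endomorphism -/

section Quot

variable (p P') in
/-- `W(𝔞)P'` -/
noncomputable abbrev AP (𝔞 : Ideal S) : Submodule (WittVector p S) P' :=
  (WI 𝔞 : Ideal (WittVector p S)) • (⊤ : Submodule (WittVector p S) P')

variable (p P') in
/-- `W(𝔟)P' ∩ W(𝔞)P'` as a submodule of `W(𝔞)P'` -/
noncomputable abbrev KK (𝔞 𝔟 : Ideal S) : Submodule (WittVector p S) (AP p P' 𝔞) :=
  (AP p P' 𝔟).comap (AP p P' 𝔞).subtype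

variable (p P') in
/-- `W(𝔞)P' / W(𝔟)P'` -/
abbrev MM (𝔞 𝔟 : Ideal S) : Type v := AP p P' 𝔞 ⧸ KK p P' 𝔞 𝔟

lemma mk_eq_zero_iff {𝔞 𝔟 : Ideal S} (z : AP p P' 𝔞) :
    (KK p P' 𝔞 𝔟).mkQ z = 0 ↔ (z : P') ∈ AP p P' 𝔟 := by
  rw [Submodule.mkQ_apply, Submodule.Quotient.mk_eq_zero]
  rfl

lemma mk_eq_mk_iff {𝔞 𝔟 : Ideal S} (z z' : AP p P' 𝔞) :
    (KK p P' 𝔞 𝔟).mkQ z = (KK p P' 𝔞 𝔟).mkQ z' ↔ (z : P') - (z' : P') ∈ AP p P' 𝔟 := by
  rw [← sub_eq_zero, ← map_sub, mk_eq_zero_iff]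
  rfl

variable {D' : Display3n p S P'} (N : NData D') {𝔞 𝔟 : Ideal S}

/-- `Ψ₀` as a semilinear map `W(𝔞)P' → W(𝔞)P'/W(𝔟)P'` -/
noncomputable def PhiM₀ (h1 : 𝔞 * 𝔞 ≤ 𝔟) (h2 : ∀ a ∈ 𝔞, (p : S) * a ∈ 𝔟) :
    AP p P' 𝔞 →ₛₗ[(WittVector.frobenius : WittVector p S →+* WittVector p S)] MM p P' 𝔞 𝔟 where
  toFun z := (KK p P' 𝔞 𝔟).mkQ ⟨Psi0 D' N.t N.lam z.1, Psi0_mem D' N.t N.lam 𝔞 z.2⟩
  map_add' x y := by
    rw [← map_add, mk_eq_mk_iff]
    exact Psi0_add D' N.t N.lam h1 x.2 y.2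
  map_smul' w x := by
    rw [← map_smul, mk_eq_mk_iff]
    exact Psi0_smul D' N.t N.lam h1 h2 w x.2

/-- the induced semilinear endomorphism of `W(𝔞)P'/W(𝔟)P'` -/
noncomputable def PhiM (h1 : 𝔞 * 𝔞 ≤ 𝔟) (h2 : ∀ a ∈ 𝔞, (p : S) * a ∈ 𝔟) :
    MM p P' 𝔞 𝔟 →ₛₗ[(WittVector.frobenius : WittVector p S →+* WittVector p S)] MM p P' 𝔞 𝔟 :=
  (KK p P' 𝔞 𝔟).liftQ (PhiM₀ N h1 h2) (by
    intro z hz
    rw [LinearMap.mem_ker]
    show (KK p P' 𝔞 𝔟).mkQ ⟨Psi0 D' N.t N.lam z.1, _⟩ = 0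
    rw [mk_eq_zero_iff]
    exact Psi0_mem D' N.t N.lam 𝔟 hz)

lemma PhiM_mk (h1 : 𝔞 * 𝔞 ≤ 𝔟) (h2 : ∀ a ∈ 𝔞, (p : S) * a ∈ 𝔟) (z : AP p P' 𝔞) :
    PhiM N h1 h2 ((KK p P' 𝔞 𝔟).mkQ z) =
      (KK p P' 𝔞 𝔟).mkQ ⟨Psi0 D' N.t N.lam z.1, Psi0_mem D' N.t N.lam 𝔞 z.2⟩ := rfl

/-- `I_S + pW(S)` kills `W(𝔞)P'/W(𝔟)P'` -/
lemma MM_killed (h1 : 𝔞 * 𝔞 ≤ 𝔟) (h2 : ∀ a ∈ 𝔞, (p : S) * a ∈ 𝔟) :
    (IV p S ⊔ Ideal.span {(p : WittVector p S)}) •
      (⊤ : Submodule (WittVector p S) (MM p P' 𝔞 𝔟)) = ⊥ := by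
  rw [eq_bot_iff, Submodule.smul_le]
  intro c hc m _
  obtain ⟨z, rfl⟩ := (KK p P' 𝔞 𝔟).mkQ_surjective m
  rw [Submodule.mem_bot, ← map_smul, mk_eq_zero_iff]
  show c • z.1 ∈ AP p P' 𝔟
  have hz := z.2
  refine Submodule.smul_induction_on hz (fun a ha y _ => ?_) (fun y y' hy hy' => ?_)
  · rw [smul_smul]
    exact Submodule.smul_mem_smul
      (mul_mem_WI_of_coeff_zero h1 h2 (coeff_zero_mem_of_mem_IV_sup hc) ha) Submodule.mem_top
  · rw [smul_add]
    exact (AP p P' 𝔟).add_mem hy hy'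

end Quot

/-! ### The operator `g ↦ Φ^# ∘ (1 ⊗ g) ∘ V^#` and its nilpotence -/

section Iter

variable {P : Type v} [AddCommGroup P] [Module (WittVector p S) P]
variable {M : Type v} [AddCommGroup M] [Module (WittVector p S) M]

/-- `U g = Φ^# ∘ (1 ⊗ g) ∘ V^#` -/
noncomputable def Uop
    (Vs : P →ₗ[WittVector p S] BC (WittVector.frobenius : WittVector p S →+* WittVector p S) P)
    (Φ : M →ₛₗ[(WittVector.frobenius : WittVector p S →+* WittVector p S)] M)
    (g : P →ₗ[WittVector p S] M) : P →ₗ[WittVector p S] M :=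
  (BC.lift _ Φ) ∘ₗ (BC.map _ g) ∘ₗ Vs

lemma Uop_apply
    (Vs : P →ₗ[WittVector p S] BC (WittVector.frobenius : WittVector p S →+* WittVector p S) P)
    (Φ : M →ₛₗ[(WittVector.frobenius : WittVector p S →+* WittVector p S)] M)
    (g : P →ₗ[WittVector p S] M) (x : P) :
    Uop Vs Φ g x = BC.lift _ Φ (BC.map _ g (Vs x)) := rfl

lemma Uop_add
    (Vs : P →ₗ[WittVector p S] BC (WittVector.frobenius : WittVector p S →+* WittVector p S) P)
    (Φ : M →ₛₗ[(WittVector.frobenius : WittVector p S →+* WittVector p S)] M)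
    (g g' : P →ₗ[WittVector p S] M) : Uop Vs Φ (g + g') = Uop Vs Φ g + Uop Vs Φ g' := by
  ext x
  rw [LinearMap.add_apply, Uop_apply, Uop_apply, Uop_apply]
  generalize Vs x = z
  induction z using BC.induction_on with
  | zero => simp
  | tmul b y => simp only [BC.map_tmul, BC.lift_tmul, LinearMap.add_apply, map_add, smul_add]
  | add z₁ z₂ h₁ h₂ => rw [map_add, map_add, map_add, map_add, map_add, map_add, h₁, h₂]; abel

lemma Uop_zero
    (Vs : P →ₗ[WittVector p S] BC (WittVector.frobenius : WittVector p S →+* WittVector p S) P)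
    (Φ : M →ₛₗ[(WittVector.frobenius : WittVector p S →+* WittVector p S)] M) :
    Uop Vs Φ (0 : P →ₗ[WittVector p S] M) = 0 := by
  have := Uop_add Vs Φ (0 : P →ₗ[WittVector p S] M) 0
  rw [add_zero] at this
  exact left_eq_add.mp this

open Groth.Agent.Lib.helper10.VSharpIter in
theorem Psi_vSharpPow_iter
    (Vs : P →ₗ[WittVector p S] BC (WittVector.frobenius : WittVector p S →+* WittVector p S) P)
    (Φ : M →ₛₗ[(WittVector.frobenius : WittVector p S →+* WittVector p S)] M)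
    (n : ℕ) : ∀ (g : P →ₗ[WittVector p S] M) (x : P),
    Psi Φ g n (vSharpPow Vs n x) = ((Uop Vs Φ)^[n + 1] g) x := by
  induction n with
  | zero =>
    intro g x
    rw [vSharpPow_zero_apply, Function.iterate_one, Uop_apply]
    generalize Vs x = z
    induction z using BC.induction_on with
    | zero => simp
    | tmul b y =>
      rw [BC.castHom_tmul, Psi_tmul, BC.map_tmul, BC.lift_tmul]
      rfl
    | add z₁ z₂ h₁ h₂ => rw [map_add, map_add, map_add, map_add, h₁, h₂]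
  | succ n ih =>
    intro g x
    rw [vSharpPow_succ_apply, Function.iterate_succ_apply', Uop_apply]
    generalize Vs x = z
    have inner : ∀ z' : BC ((WittVector.frobenius : WittVector p S →+* WittVector p S) ^ (n + 1)) P,
        Psi Φ g (n + 1) (BC.castHom
          (comp_pow_eq_pow_succ (WittVector.frobenius : WittVector p S →+* WittVector p S) (n + 1))
          (BC.push _ (WittVector.frobenius : WittVector p S →+* WittVector p S) z'))
        = Φ (Psi Φ g n z') := by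
      intro z'
      induction z' using BC.induction_on with
      | zero => simp
      | tmul c y =>
        rw [BC.push_tmul, BC.castHom_tmul, Psi_tmul, Psi_tmul, map_smulₛₗ,
          Function.iterate_succ_apply' (⇑Φ) (n + 1)]
      | add z₁ z₂ h₁ h₂ => rw [map_add, map_add, map_add, map_add, map_add, h₁, h₂]
    induction z using BC.induction_on with
    | zero => simp
    | tmul b y =>
      rw [BC.map_tmul, BC.lift_tmul, map_smul, map_smul, inner, ih, BC.map_tmul, BC.lift_tmul]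
    | add z₁ z₂ h₁ h₂ =>
      rw [map_add, map_add, map_add, map_add, map_add, map_add, h₁, h₂]

open Groth.Agent.Lib.helper10.VSharpIter in
/-- the operator `U` is nilpotent if the target is killed by `I_S + p` -/
theorem exists_Uop_iterate_eq_zero
    (Vs : P →ₗ[WittVector p S] BC (WittVector.frobenius : WittVector p S →+* WittVector p S) P)
    (hVs : IsVNilpotent Vs)
    (Φ : M →ₛₗ[(WittVector.frobenius : WittVector p S →+* WittVector p S)] M)
    (hkill : (IV p S ⊔ Ideal.span {(p : WittVector p S)}) •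
      (⊤ : Submodule (WittVector p S) M) = ⊥) :
    ∃ n : ℕ, ∀ g : P →ₗ[WittVector p S] M, (Uop Vs Φ)^[n] g = 0 := by
  obtain ⟨n, hn⟩ := hVs
  refine ⟨n + 1, fun g => ?_⟩
  ext x
  rw [← Psi_vSharpPow_iter Vs Φ n g x, LinearMap.zero_apply]
  have h := Submodule.mem_map_of_mem (f := Psi Φ g n) (hn x)
  rw [Submodule.map_smul''] at h
  have h' : Psi Φ g n (vSharpPow Vs n x) ∈ (IV p S ⊔ Ideal.span {(p : WittVector p S)}) •
      (⊤ : Submodule (WittVector p S) M) := Submodule.smul_mono le_rfl le_top h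
  rwa [hkill, Submodule.mem_bot] at h'

/-- solving `g = U g + c` -/
theorem exists_fixed
    (Vs : P →ₗ[WittVector p S] BC (WittVector.frobenius : WittVector p S →+* WittVector p S) P)
    (hVs : IsVNilpotent Vs)
    (Φ : M →ₛₗ[(WittVector.frobenius : WittVector p S →+* WittVector p S)] M)
    (hkill : (IV p S ⊔ Ideal.span {(p : WittVector p S)}) •
      (⊤ : Submodule (WittVector p S) M) = ⊥)
    (c : P →ₗ[WittVector p S] M) :
    ∃ g : P →ₗ[WittVector p S] M, g = Uop Vs Φ g + c := by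
  obtain ⟨n, hn⟩ := exists_Uop_iterate_eq_zero Vs hVs Φ hkill
  refine ⟨∑ k ∈ Finset.range n, (Uop Vs Φ)^[k] c, ?_⟩
  have hsum : ∀ m : ℕ, Uop Vs Φ (∑ k ∈ Finset.range m, (Uop Vs Φ)^[k] c) =
      ∑ k ∈ Finset.range m, (Uop Vs Φ)^[k + 1] c := by
    intro m
    induction m with
    | zero => simp [Uop_zero]
    | succ m ih =>
      rw [Finset.sum_range_succ, Uop_add, ih, Finset.sum_range_succ,
        Function.iterate_succ_apply']
  rw [hsum n]
  have h2 : ∑ k ∈ Finset.range n, (Uop Vs Φ)^[k + 1] c + c =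
      ∑ k ∈ Finset.range (n + 1), (Uop Vs Φ)^[k] c := by
    rw [Finset.sum_range_succ' (fun k => (Uop Vs Φ)^[k] c) n, Function.iterate_zero, id]
  rw [h2, Finset.sum_range_succ, hn c, add_zero]

end Iter


/-! ### Homomorphisms modulo `W(𝔟)` and the lifting step -/

section Lift

variable {P : Type v} [AddCommGroup P] [Module (WittVector p S) P]

/-- induction principle for elements of `Q = L ⊕ I_S T` -/
theorem Q_induction (D : Display3n p S P) (L T : Submodule (WittVector p S) P)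
    (hQ : D.Q = L ⊔ IV p S • T) {C : D.Q → Prop}
    (hL : ∀ l (hl : l ∈ L), C ⟨l, Groth.Agent.S16538.hLQ D L T hQ hl⟩)
    (hT : ∀ (b : WittVector p S) (t : P), t ∈ T → C ⟨verschiebung b • t,
      D.IV_smul_le (Submodule.smul_mem_smul (verschiebung_mem_IV p S b) Submodule.mem_top)⟩)
    (hadd : ∀ x y, C x → C y → C (x + y)) (y : D.Q) : C y := by
  obtain ⟨y, hy⟩ := y
  have hy' : y ∈ L ⊔ IV p S • T := hQ ▸ hy
  obtain ⟨l, hl, t', ht', rfl⟩ := Submodule.mem_sup.mp hy'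
  have hTx : ∃ hq : t' ∈ D.Q, C ⟨t', hq⟩ := by
    refine Submodule.smul_induction_on
      (p := fun t' => ∃ hq : t' ∈ D.Q, C ⟨t', hq⟩) ht' ?_ ?_
    · intro a ha t ht
      have ha' : a = verschiebung (sh a) :=
        eq_verschiebung_sh_of_coeff_zero (coeff_zero_eq_zero_of_mem_IV ha)
      have hq : a • t ∈ D.Q := D.IV_smul_le (Submodule.smul_mem_smul ha Submodule.mem_top)
      refine ⟨hq, ?_⟩
      have h2 := hT (sh a) t ht
      have e : (⟨a • t, hq⟩ : D.Q) = ⟨verschiebung (sh a) • t,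
          D.IV_smul_le (Submodule.smul_mem_smul (verschiebung_mem_IV p S (sh a))
            Submodule.mem_top)⟩ := by
        apply Subtype.ext
        show a • t = verschiebung (sh a) • t
        rw [← ha']
      rw [e]
      exact h2
    · rintro x y ⟨hx, ex⟩ ⟨hy, ey⟩
      refine ⟨D.Q.add_mem hx hy, ?_⟩
      have : (⟨x + y, D.Q.add_mem hx hy⟩ : D.Q) = ⟨x, hx⟩ + ⟨y, hy⟩ := rfl
      rw [this]
      exact hadd _ _ ex ey
  obtain ⟨hq, e⟩ := hTx
  have : (⟨l + t', hy⟩ : D.Q) = ⟨l, Groth.Agent.S16538.hLQ D L T hQ hl⟩ + ⟨t', hq⟩ := rfl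
  rw [this]
  exact hadd _ _ (hL l hl) e

variable (D : Display3n p S P) {D' : Display3n p S P'} (N : NData D')

/-- `α` is a homomorphism of 3n-displays modulo `W(𝔟)` -/
structure HomMod (𝔟 : Ideal S) (α : P →ₗ[WittVector p S] P') : Prop where
  mapsTo : ∀ y ∈ D.Q, α y ∈ N.Qhat 𝔟
  comm : ∀ y : D.Q, α (D.Vinv y) - N.Vhat (α y) ∈ AP p P' 𝔟

variable {D N}

/-- `F`-commutation modulo `W(𝔟)` -/
lemma HomMod.comm_F {𝔟 : Ideal S} {α : P →ₗ[WittVector p S] P'} (hα : HomMod D N 𝔟 α) (x : P) :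
    α (D.F x) - D'.F (α x) ∈ AP p P' 𝔟 := by
  have hq : verschiebung (1 : WittVector p S) • x ∈ D.Q :=
    D.IV_smul_le (Submodule.smul_mem_smul (verschiebung_mem_IV p S 1) Submodule.mem_top)
  have h := hα.comm ⟨_, hq⟩
  have e1 : D.Vinv ⟨_, hq⟩ = D.F x := by
    rw [D.Vinv_verschiebung_smul 1 x, one_smul]
  have hq' : verschiebung (1 : WittVector p S) • α x ∈ D'.Q :=
    D'.IV_smul_le (Submodule.smul_mem_smul (verschiebung_mem_IV p S 1) Submodule.mem_top)
  have e2 : N.Vhat (α (verschiebung (1 : WittVector p S) • x)) = D'.F (α x) := by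
    rw [map_smul, N.Vhat_of_mem_Q hq', D'.Vinv_verschiebung_smul 1 (α x), one_smul]
  rw [e1] at h
  rw [← e2]
  exact h

/-- the case `𝔟 = ⊥`: an honest homomorphism -/
theorem HomMod.isHom {α : P →ₗ[WittVector p S] P'} (hα : HomMod D N ⊥ α) : IsHom D D' α := by
  have hmaps : ∀ q : P, q ∈ D.Q → α q ∈ D'.Q := fun q hq =>
    N.mem_Q_of_mem_Qhat_bot (hα.mapsTo q hq)
  have hbot : AP p P' (⊥ : Ideal S) = ⊥ := by
    rw [AP, WI_bot, Submodule.bot_smul]
  refine ⟨hmaps, ?_, ?_⟩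
  · intro x
    have h := hα.comm_F x
    rwa [hbot, Submodule.mem_bot, sub_eq_zero] at h
  · intro q
    have h := hα.comm q
    rwa [hbot, Submodule.mem_bot, sub_eq_zero, N.Vhat_of_mem_Q (hmaps q q.2)] at h


set_option maxHeartbeats 1600000 in
/-- **The lifting step**: a homomorphism modulo `W(𝔞)` gives, after multiplication by `p` and a
correction with values in `W(𝔞)P'`, a homomorphism modulo `W(𝔟)`, if `𝔞² ≤ 𝔟` and `p𝔞 ≤ 𝔟`. -/
theorem lift_step (hpS : IsNilpotent (p : S))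
    (Vs : P →ₗ[WittVector p S] BC (WittVector.frobenius : WittVector p S →+* WittVector p S) P)
    (hVs : IsVSharp D Vs) (hnil : IsVNilpotent Vs)
    {𝔞 𝔟 : Ideal S} (h1 : 𝔞 * 𝔞 ≤ 𝔟) (h2 : ∀ a ∈ 𝔞, (p : S) * a ∈ 𝔟)
    (α : P →ₗ[WittVector p S] P') (hα : HomMod D N 𝔞 α) :
    ∃ α' : P →ₗ[WittVector p S] P', HomMod D N 𝔟 α' ∧
      ∀ x, α' x - (p : WittVector p S) • α x ∈ AP p P' 𝔞 := by
  classical
  haveI := D.finite
  haveI := D.projective
  obtain ⟨L, T, hLT, hQ⟩ := D.exists_normal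
  obtain ⟨c, hc⟩ := hpS
  have hbij := Groth.Agent.S16535.Phi_bijective D L T hLT hQ c hc
  let e : BC (WittVector.frobenius : WittVector p S →+* WittVector p S) P ≃ₗ[WittVector p S] P :=
    LinearEquiv.ofBijective (Groth.Agent.S16535.Phi D L T hLT hQ) hbij
  have he : ∀ (w : WittVector p S) (x : P),
      e (BC.tmul (WittVector.frobenius : WittVector p S →+* WittVector p S) w x) =
        w • Groth.Agent.S16538.GS D L T hLT hQ x :=
    fun w x => Groth.Agent.S16535.Phi_tmul D L T hLT hQ w x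
  let Φ := PhiM N h1 h2
  have hkill := MM_killed (p := p) (P' := P') h1 h2
  -- the defect `ω`
  let ω : D.Q →ₛₗ[(WittVector.frobenius : WittVector p S →+* WittVector p S)] MM p P' 𝔞 𝔟 :=
    { toFun := fun y => (KK p P' 𝔞 𝔟).mkQ ⟨α (D.Vinv y) - N.Vhat (α y), hα.comm y⟩
      map_add' := fun y y' => by
        rw [← map_add, mk_eq_mk_iff]
        show (α (D.Vinv (y + y')) - N.Vhat (α ((y + y' : D.Q) : P))) -
          ((α (D.Vinv y) - N.Vhat (α y)) + (α (D.Vinv y') - N.Vhat (α y'))) ∈ AP p P' 𝔟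
        have hV := N.Vhat_add h1 (hα.mapsTo y y.2) (hα.mapsTo y' y'.2)
        have := (AP p P' 𝔟).neg_mem hV
        convert this using 1
        rw [map_add, map_add, Submodule.coe_add, map_add]
        abel
      map_smul' := fun w y => by
        rw [← map_smul, mk_eq_mk_iff]
        show (α (D.Vinv (w • y)) - N.Vhat (α ((w • y : D.Q) : P))) -
          frobenius w • (α (D.Vinv y) - N.Vhat (α y)) ∈ AP p P' 𝔟
        have hV := N.Vhat_smul h1 h2 w (hα.mapsTo y y.2)
        have := (AP p P' 𝔟).neg_mem hV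
        convert this using 1
        rw [map_smulₛₗ, map_smul, Submodule.coe_smul, map_smul, smul_sub]
        abel }
  have hω : ∀ y : D.Q, ω y =
      (KK p P' 𝔞 𝔟).mkQ ⟨α (D.Vinv y) - N.Vhat (α y), hα.comm y⟩ := fun y => rfl
  -- the `F`-defect `δ`
  let δ : P →ₛₗ[(WittVector.frobenius : WittVector p S →+* WittVector p S)] MM p P' 𝔞 𝔟 :=
    { toFun := fun x => (KK p P' 𝔞 𝔟).mkQ ⟨α (D.F x) - D'.F (α x), hα.comm_F x⟩
      map_add' := fun x x' => by
        rw [← map_add]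
        congr 1
        apply Subtype.ext
        show α (D.F (x + x')) - D'.F (α (x + x')) =
          (α (D.F x) - D'.F (α x)) + (α (D.F x') - D'.F (α x'))
        rw [map_add, map_add, map_add, map_add]; abel
      map_smul' := fun w x => by
        rw [← map_smul]
        congr 1
        apply Subtype.ext
        show α (D.F (w • x)) - D'.F (α (w • x)) = frobenius w • (α (D.F x) - D'.F (α x))
        rw [map_smulₛₗ, map_smul, map_smul, map_smulₛₗ, smul_sub] }
  have hδ : ∀ x : P, δ x =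
      (KK p P' 𝔞 𝔟).mkQ ⟨α (D.F x) - D'.F (α x), hα.comm_F x⟩ := fun x => rfl
  have hstar : ∀ (b : WittVector p S) (x : P), ω ⟨verschiebung b • x,
      D.IV_smul_le (Submodule.smul_mem_smul (verschiebung_mem_IV p S b) Submodule.mem_top)⟩ =
        b • δ x := by
    intro b x
    rw [hω, hδ, ← map_smul]
    congr 1
    apply Subtype.ext
    show α (D.Vinv ⟨verschiebung b • x, _⟩) - N.Vhat (α (verschiebung b • x)) =
      b • (α (D.F x) - D'.F (α x))
    have hq' : verschiebung b • α x ∈ D'.Q :=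
      D'.IV_smul_le (Submodule.smul_mem_smul (verschiebung_mem_IV p S b) Submodule.mem_top)
    rw [D.Vinv_verschiebung_smul b x, map_smul, map_smul, N.Vhat_of_mem_Q hq',
      D'.Vinv_verschiebung_smul b (α x), smul_sub]
  let η : P →ₛₗ[(WittVector.frobenius : WittVector p S →+* WittVector p S)] MM p P' 𝔞 𝔟 :=
    ω.comp (Groth.Agent.S16538.pLQ D L T hLT hQ) + δ.comp (T.projection L hLT.symm)
  have hη : ∀ x : P, η x = ω (Groth.Agent.S16538.pLQ D L T hLT hQ x) +
      δ (T.projection L hLT.symm x) := fun x => rfl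
  let cc : P →ₗ[WittVector p S] MM p P' 𝔞 𝔟 :=
    -((BC.lift (WittVector.frobenius : WittVector p S →+* WittVector p S) η) ∘ₗ
      e.symm.toLinearMap)
  have hcc : ∀ x : P, cc x =
      -(BC.lift (WittVector.frobenius : WittVector p S →+* WittVector p S) η (e.symm x)) :=
    fun x => rfl
  obtain ⟨βb, hβb⟩ := exists_fixed Vs hnil Φ hkill cc
  have hc_claim : ∀ y : D.Q, cc (D.Vinv y) = - ω y := by
    intro y
    refine Q_induction D L T hQ (C := fun y => cc (D.Vinv y) = - ω y) ?_ ?_ ?_ y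
    · intro l hl
      have e1 : D.Vinv ⟨l, Groth.Agent.S16538.hLQ D L T hQ hl⟩ =
          e (BC.tmul (WittVector.frobenius : WittVector p S →+* WittVector p S) 1 l) := by
        rw [he, one_smul, Groth.Agent.S16538.GS_of_mem_L D L T hLT hQ l hl]
      show cc (D.Vinv ⟨l, _⟩) = - ω ⟨l, _⟩
      rw [hcc, e1, LinearEquiv.symm_apply_apply, BC.lift_tmul, one_smul, hη,
        Submodule.projection_apply_of_mem_right hLT.symm hl, map_zero, add_zero]
      congr 2
      apply Subtype.ext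
      rw [Groth.Agent.S16538.pLQ_coe]
      exact Submodule.projection_apply_of_mem_left hLT hl
    · intro b t ht
      have e1 : D.Vinv ⟨verschiebung b • t,
          D.IV_smul_le (Submodule.smul_mem_smul (verschiebung_mem_IV p S b) Submodule.mem_top)⟩ =
          e (BC.tmul (WittVector.frobenius : WittVector p S →+* WittVector p S) b t) := by
        rw [he, Groth.Agent.S16538.GS_of_mem_T D L T hLT hQ t ht, D.Vinv_verschiebung_smul]
      show cc (D.Vinv ⟨verschiebung b • t, _⟩) = - ω ⟨verschiebung b • t, _⟩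
      rw [hcc, e1, LinearEquiv.symm_apply_apply, BC.lift_tmul, hstar, hη]
      have h0 : Groth.Agent.S16538.pLQ D L T hLT hQ t = 0 := by
        apply Subtype.ext
        rw [Groth.Agent.S16538.pLQ_coe]
        exact Submodule.projection_apply_of_mem_right hLT ht
      rw [h0, map_zero, zero_add, Submodule.projection_apply_of_mem_left hLT.symm ht]
    · intro x y hx hy
      show cc (D.Vinv (x + y)) = - ω (x + y)
      rw [map_add, map_add, map_add, hx, hy, neg_add]
  have hkey : ∀ y : D.Q, βb (D.Vinv y) = Φ (βb y) - ω y := by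
    intro y
    have h := congrArg (fun l => l (D.Vinv y)) hβb
    simp only [LinearMap.add_apply] at h
    rw [h, hc_claim y, Uop_apply]
    have hv : Vs (D.Vinv y) =
        BC.tmul (WittVector.frobenius : WittVector p S →+* WittVector p S) 1 (y : P) := by
      have := hVs.app_smul_Vinv 1 y
      rwa [one_smul] at this
    rw [hv, BC.map_tmul, BC.lift_tmul, one_smul, sub_eq_add_neg]
  -- lift `βb` to `W(𝔞)P'`
  obtain ⟨h, hh⟩ := Module.projective_lifting_property (KK p P' 𝔞 𝔟).mkQ βb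
    (Submodule.mkQ_surjective _)
  have hh' : ∀ x, (KK p P' 𝔞 𝔟).mkQ (h x) = βb x := fun x => congrArg (fun l => l x) hh
  let αt : P →ₗ[WittVector p S] P' := α + (AP p P' 𝔞).subtype ∘ₗ h
  have hαt : ∀ x, αt x = α x + (h x : P') := fun x => rfl
  have hαtQ : ∀ y ∈ D.Q, αt y ∈ N.Qhat 𝔞 := fun y hy => by
    rw [hαt]
    exact (N.Qhat 𝔞).add_mem (hα.mapsTo y hy) (N.smul_top_le_Qhat 𝔞 (h y).2)
  have hX : ∀ y : D.Q, αt (D.Vinv y) - N.Vhat (αt y) ∈ AP p P' 𝔟 := by
    intro y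
    have hE1 := N.Vhat_add h1 (hα.mapsTo y y.2) (N.smul_top_le_Qhat 𝔞 (h (y : P)).2)
    have hE2 := N.Vhat_sub_Psi0_mem h1 h2 (h (y : P)).2
    have hmain : (α (D.Vinv y) - N.Vhat (α y)) + (h (D.Vinv y) : P') -
        Psi0 D' N.t N.lam (h (y : P)) ∈ AP p P' 𝔟 := by
      have hk := hkey y
      rw [← hh' (D.Vinv y), ← hh' (y : P)] at hk
      rw [show Φ ((KK p P' 𝔞 𝔟).mkQ (h (y : P))) = _ from PhiM_mk N h1 h2 (h (y : P))] at hk
      rw [hω, ← map_sub, mk_eq_mk_iff] at hk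
      convert hk using 1
      simp only [AddSubgroupClass.coe_sub]
      abel
    have hsplit : αt (D.Vinv y) - N.Vhat (αt y) =
        ((α (D.Vinv y) - N.Vhat (α y)) + (h (D.Vinv y) : P') - Psi0 D' N.t N.lam (h (y : P))) -
        (N.Vhat (α y + (h (y : P) : P')) - (N.Vhat (α y) + N.Vhat (h (y : P) : P'))) -
        (N.Vhat (h (y : P) : P') - Psi0 D' N.t N.lam (h (y : P))) := by
      rw [hαt, hαt]; abel
    rw [hsplit]
    exact Submodule.sub_mem _ (Submodule.sub_mem _ hmain hE1) hE2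
  refine ⟨(p : WittVector p S) • αt, ⟨?_, ?_⟩, ?_⟩
  · intro y hy j
    rw [LinearMap.smul_apply, map_smul, smul_eq_mul, WittVector.mul_coeff_zero]
    have hp0 : ((p : WittVector p S).coeff 0) = (p : S) :=
      map_natCast (WittVector.constantCoeff : WittVector p S →+* S) p
    rw [hp0]
    exact h2 _ (hαtQ y hy j)
  · intro y
    rw [LinearMap.smul_apply, LinearMap.smul_apply]
    have hV := N.Vhat_smul h1 h2 (p : WittVector p S) (hαtQ y y.2)
    rw [map_natCast] at hV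
    have hsplit : (p : WittVector p S) • αt (D.Vinv y) - N.Vhat ((p : WittVector p S) • αt y) =
        (p : WittVector p S) • (αt (D.Vinv y) - N.Vhat (αt y)) -
        (N.Vhat ((p : WittVector p S) • αt y) - (p : WittVector p S) • N.Vhat (αt y)) := by
      rw [smul_sub]; abel
    rw [hsplit]
    exact Submodule.sub_mem _ (Submodule.smul_mem _ _ (hX y)) hV
  · intro x
    rw [LinearMap.smul_apply, hαt, smul_add, add_sub_cancel_left]
    exact Submodule.smul_mem _ _ (h x).2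

end Lift

end Groth.Agent.Lib.helper10.DispLift
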