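import Mathlib
import Groth.Prelude.Def_W4c1extbt610Disp

/-!
`V⁻¹ ⊕ F : L ⊕ T → P` is a Frobenius-linear isomorphism for a normal decomposition (helper10, S14859).
-/

set_option autoImplicit false
set_option linter.unusedSectionVars false
set_option linter.unusedVariables false

universe u v w

namespace Groth.Agent.Lib.helper10

namespace DispNormal

open W4c1extbt610

variable (p : ℕ) [Fact p.Prime] (R : Type u) [CommRing R]
  {P : Type v} [AddCommGroup P] [Module (WittVector p R) P] (D : Display3n p R P)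

theorem mem_IV (a : WittVector p R) (ha : a ∈ IV p R) : ∃ w : WittVector p R, a = WittVector.verschiebung w := by
  rw [IV] at ha
  induction ha using Submodule.span_induction with
  | mem x hx =>
    obtain ⟨w, rfl⟩ := hx
    exact ⟨w, rfl⟩
  | zero => exact ⟨0, (map_zero _).symm⟩
  | add x y _ _ hx hy =>
    obtain ⟨a, rfl⟩ := hx
    obtain ⟨b, rfl⟩ := hy
    exact ⟨a + b, (map_add _ a b).symm⟩
  | smul b x _ hx =>
    obtain ⟨w, rfl⟩ := hx
    refine ⟨w * WittVector.frobenius b, ?_⟩
    rw [WittVector.verschiebung_mul_frobenius, smul_eq_mul, mul_comm]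

/-- `V⁻¹` extended by zero. -/
noncomputable def vi (x : P) : P :=
  open Classical in if h : x ∈ D.Q then D.Vinv ⟨x, h⟩ else 0

theorem vi_eq (x : P) (h : x ∈ D.Q) : vi p R D x = D.Vinv ⟨x, h⟩ := by
  rw [vi, dif_pos h]

theorem vi_add (x y : P) (hx : x ∈ D.Q) (hy : y ∈ D.Q) :
    vi p R D (x + y) = vi p R D x + vi p R D y := by
  rw [vi_eq p R D _ (D.Q.add_mem hx hy), vi_eq p R D _ hx, vi_eq p R D _ hy, ← map_add]
  rfl

theorem vi_smul (a : WittVector p R) (x : P) (hx : x ∈ D.Q) :
    vi p R D (a • x) = WittVector.frobenius a • vi p R D x := by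
  rw [vi_eq p R D _ (D.Q.smul_mem a hx), vi_eq p R D _ hx, ← LinearMap.map_smulₛₗ]
  rfl

theorem vi_zero : vi p R D 0 = 0 := by
  rw [vi_eq p R D _ D.Q.zero_mem]
  exact map_zero D.Vinv

theorem vi_versch (w : WittVector p R) (x : P) :
    vi p R D (WittVector.verschiebung w • x) = w • D.F x := by
  rw [vi_eq p R D _ (D.IV_smul_le (Submodule.smul_mem_smul (verschiebung_mem_IV p R w)
    Submodule.mem_top))]
  exact D.Vinv_verschiebung_smul w x

variable (L T : Submodule (WittVector p R) P) (hLT : IsCompl L T)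
  (hQ : D.Q = L ⊔ IV p R • T) (hLQ : L ≤ D.Q)
  {ιL ιT : Type w} (bL : Module.Basis ιL (WittVector p R) L) (bT : Module.Basis ιT (WittVector p R) T)

/-- The family `V⁻¹ l_i`, `F t_j`. -/
noncomputable def fam : ιL ⊕ ιT → P :=
  Sum.elim (fun i : ιL => D.Vinv ⟨(bL i : P), hLQ (bL i).2⟩) (fun j : ιT => D.F (bT j : P))

theorem vi_L_mem (l : P) (hl : l ∈ L) :
    vi p R D l ∈ Submodule.span (WittVector p R) (Set.range (fam p R D L T hLQ bL bT)) := by
  have key : ∀ l' : L, vi p R D (l' : P) ∈
      Submodule.span (WittVector p R) (Set.range (fam p R D L T hLQ bL bT)) := by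
    intro l'
    have hl' : l' ∈ Submodule.span (WittVector p R) (Set.range bL) := by
      rw [bL.span_eq]; exact Submodule.mem_top
    induction hl' using Submodule.span_induction with
    | mem x hx =>
      obtain ⟨i, rfl⟩ := hx
      rw [vi_eq p R D _ (hLQ (bL i).2)]
      exact Submodule.subset_span ⟨Sum.inl i, rfl⟩
    | zero =>
      rw [Submodule.coe_zero, vi_zero]
      exact Submodule.zero_mem _
    | add x y _ _ hx hy =>
      rw [Submodule.coe_add, vi_add p R D _ _ (hLQ x.2) (hLQ y.2)]
      exact Submodule.add_mem _ hx hy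
    | smul a x _ hx =>
      rw [Submodule.coe_smul, vi_smul p R D _ _ (hLQ x.2)]
      exact Submodule.smul_mem _ _ hx
  exact key ⟨l, hl⟩

theorem F_T_mem (t : P) (ht : t ∈ T) :
    D.F t ∈ Submodule.span (WittVector p R) (Set.range (fam p R D L T hLQ bL bT)) := by
  have key : ∀ t' : T, D.F (t' : P) ∈
      Submodule.span (WittVector p R) (Set.range (fam p R D L T hLQ bL bT)) := by
    intro t'
    have ht' : t' ∈ Submodule.span (WittVector p R) (Set.range bT) := by
      rw [bT.span_eq]; exact Submodule.mem_top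
    induction ht' using Submodule.span_induction with
    | mem x hx =>
      obtain ⟨j, rfl⟩ := hx
      exact Submodule.subset_span ⟨Sum.inr j, rfl⟩
    | zero =>
      rw [Submodule.coe_zero, map_zero]
      exact Submodule.zero_mem _
    | add x y _ _ hx hy =>
      rw [Submodule.coe_add, map_add]
      exact Submodule.add_mem _ hx hy
    | smul a x _ hx =>
      rw [Submodule.coe_smul, LinearMap.map_smulₛₗ]
      exact Submodule.smul_mem _ _ hx
  exact key ⟨t, ht⟩

include hQ in
theorem IVT_le_Q : IV p R • T ≤ D.Q := by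
  rw [hQ]; exact le_sup_right

include hQ in
theorem vi_IVT_mem (s : P) (hs : s ∈ IV p R • T) :
    vi p R D s ∈ Submodule.span (WittVector p R) (Set.range (fam p R D L T hLQ bL bT)) := by
  have hle := IVT_le_Q p R D L T hQ
  have key : s ∈ IV p R • T ∧ vi p R D s ∈
      Submodule.span (WittVector p R) (Set.range (fam p R D L T hLQ bL bT)) := by
    refine Submodule.smul_induction_on hs ?_ ?_
    · intro a ha t ht
      refine ⟨Submodule.smul_mem_smul ha ht, ?_⟩
      obtain ⟨w, rfl⟩ := mem_IV p R a ha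
      rw [vi_versch]
      exact Submodule.smul_mem _ _ (F_T_mem p R D L T hLQ bL bT t ht)
    · intro x y hx hy
      refine ⟨Submodule.add_mem _ hx.1 hy.1, ?_⟩
      rw [vi_add p R D _ _ (hle hx.1) (hle hy.1)]
      exact Submodule.add_mem _ hx.2 hy.2
  exact key.2

include hQ in
theorem span_fam :
    Submodule.span (WittVector p R) (Set.range (fam p R D L T hLQ bL bT)) = ⊤ := by
  rw [eq_top_iff, ← D.span_range_Vinv, Submodule.span_le]
  rintro _ ⟨q, rfl⟩
  have hq : (q : P) ∈ L ⊔ IV p R • T := hQ ▸ q.2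
  obtain ⟨l, hl, s, hs, hls⟩ := Submodule.mem_sup.mp hq
  have hle := IVT_le_Q p R D L T hQ
  have : D.Vinv q = vi p R D (l + s) := by
    rw [vi_eq p R D _ (D.Q.add_mem (hLQ hl) (hle hs))]
    congr 1
    exact Subtype.ext hls.symm
  rw [SetLike.mem_coe, this, vi_add p R D _ _ (hLQ hl) (hle hs)]
  exact Submodule.add_mem _ (vi_L_mem p R D L T hLQ bL bT l hl)
    (vi_IVT_mem p R D L T hQ hLQ bL bT s hs)

/-- The basis of `P` from `L ⊕ T`. -/
noncomputable def bP : Module.Basis (ιL ⊕ ιT) (WittVector p R) P :=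
  (bL.prod bT).map (Submodule.prodEquivOfIsCompl L T hLT)

include hLT hQ in
theorem main :
    LinearIndependent (WittVector p R) (fam p R D L T hLQ bL bT) ∧
      Submodule.span (WittVector p R) (Set.range (fam p R D L T hLQ bL bT)) = ⊤ := by
  refine ⟨?_, span_fam p R D L T hQ hLQ bL bT⟩
  have hfin : Module.Finite (WittVector p R) P := D.finite
  let Φ : P →ₗ[WittVector p R] P := (bP p R L T hLT bL bT).constr (WittVector p R) (fam p R D L T hLQ bL bT)
  have hΦ : ∀ i, Φ (bP p R L T hLT bL bT i) = fam p R D L T hLQ bL bT i := fun i =>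
    Module.Basis.constr_basis _ _ _ i
  have hsurj : Function.Surjective Φ := by
    rw [← LinearMap.range_eq_top, eq_top_iff, ← span_fam p R D L T hQ hLQ bL bT, Submodule.span_le]
    rintro _ ⟨i, rfl⟩
    exact ⟨_, hΦ i⟩
  have hinj : Function.Injective Φ := OrzechProperty.injective_of_surjective_endomorphism Φ hsurj
  have hli := (bP p R L T hLT bL bT).linearIndependent.map' Φ (LinearMap.ker_eq_bot.mpr hinj)
  have : (⇑Φ ∘ ⇑(bP p R L T hLT bL bT)) = fam p R D L T hLQ bL bT := funext hΦ
  rwa [this] at hli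

end DispNormal

end Groth.Agent.Lib.helper10
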