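import Mathlib

/-!
# Dubreil's bound (helper10), part 1: homogeneous ideals of polynomial rings, graded Nakayama
-/

set_option autoImplicit false
open scoped BigOperators
open MvPolynomial

namespace Groth.Agent.Lib.helper10.Dub

variable {k : Type*} [CommRing k] {σ : Type*}

/-- An ideal is homogeneous: closed under taking homogeneous components. -/
def HomI (I : Ideal (MvPolynomial σ k)) : Prop :=
  ∀ f ∈ I, ∀ n, homogeneousComponent n f ∈ I

lemma hc_of_isHomogeneous {f : MvPolynomial σ k} {m : ℕ} (hf : f.IsHomogeneous m) (n : ℕ) :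
    homogeneousComponent n f = if m = n then f else 0 := by
  rw [homogeneousComponent_of_mem hf]
  by_cases h : m = n
  · rw [if_pos h, if_pos h.symm]
  · rw [if_neg h, if_neg (Ne.symm h)]

lemma hc_mul_of_isHomogeneous {a : MvPolynomial σ k} {e : ℕ} (ha : a.IsHomogeneous e)
    (g : MvPolynomial σ k) (n : ℕ) :
    homogeneousComponent (e + n) (a * g) = a * homogeneousComponent n g := by
  classical
  conv_lhs => rw [← sum_homogeneousComponent g, Finset.mul_sum, map_sum]
  have h1 : ∀ i ∈ Finset.range (g.totalDegree + 1),
      homogeneousComponent (e + n) (a * homogeneousComponent i g) =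
        if i = n then a * homogeneousComponent n g else 0 := by
    intro i _
    rw [hc_of_isHomogeneous (ha.mul (homogeneousComponent_isHomogeneous i g))]
    by_cases hin : i = n
    · subst hin; simp
    · rw [if_neg hin, if_neg (by omega)]
  rw [Finset.sum_congr rfl h1, Finset.sum_ite_eq']
  split_ifs with h
  · rfl
  · rw [Finset.mem_range, not_lt] at h
    rw [homogeneousComponent_eq_zero _ _ (by omega), mul_zero]

lemma hc_mul_of_isHomogeneous_lt {a : MvPolynomial σ k} {e : ℕ} (ha : a.IsHomogeneous e)
    (g : MvPolynomial σ k) {n : ℕ} (hn : n < e) :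
    homogeneousComponent n (a * g) = 0 := by
  classical
  conv_lhs => rw [← sum_homogeneousComponent g, Finset.mul_sum, map_sum]
  apply Finset.sum_eq_zero
  intro i _
  rw [hc_of_isHomogeneous (ha.mul (homogeneousComponent_isHomogeneous i g)), if_neg (by omega)]

lemma hc_X_mul (j : σ) (g : MvPolynomial σ k) (n : ℕ) :
    homogeneousComponent (n + 1) (X j * g) = X j * homogeneousComponent n g := by
  rw [add_comm]
  exact hc_mul_of_isHomogeneous (isHomogeneous_X k j) g n

lemma hc_X_mul_zero (j : σ) (g : MvPolynomial σ k) :
    homogeneousComponent 0 (X j * g) = 0 :=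
  hc_mul_of_isHomogeneous_lt (isHomogeneous_X k j) g Nat.zero_lt_one

lemma hc_hc (f : MvPolynomial σ k) (m n : ℕ) :
    homogeneousComponent n (homogeneousComponent m f) =
      if m = n then homogeneousComponent m f else 0 :=
  hc_of_isHomogeneous (homogeneousComponent_isHomogeneous m f) n

/-- The ideal generated by homogeneous elements is homogeneous. -/
lemma homI_span {G : Set (MvPolynomial σ k)} (hG : ∀ g ∈ G, ∃ n, g.IsHomogeneous n) :
    HomI (Ideal.span G) := by
  intro f hf n
  induction hf using Submodule.span_induction generalizing n with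
  | mem x hx =>
    obtain ⟨m, hm⟩ := hG x hx
    rw [hc_of_isHomogeneous hm]
    split_ifs
    · exact Ideal.subset_span hx
    · exact zero_mem _
  | zero => simp
  | add x y _ _ hx hy => rw [map_add]; exact add_mem (hx n) (hy n)
  | smul a x hx ih =>
    -- a • x = Σ_i a_i * x
    rw [smul_eq_mul]
    classical
    rw [← sum_homogeneousComponent a, Finset.sum_mul, map_sum]
    apply Ideal.sum_mem
    intro i _
    by_cases hin : i ≤ n
    · obtain ⟨m, rfl⟩ := Nat.exists_eq_add_of_le hin
      rw [hc_mul_of_isHomogeneous (homogeneousComponent_isHomogeneous i a)]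
      exact Ideal.mul_mem_left _ _ (ih m)
    · rw [hc_mul_of_isHomogeneous_lt (homogeneousComponent_isHomogeneous i a) _ (by omega)]
      exact zero_mem _

/-- An element of a homogeneous ideal lies in a second ideal as soon as all its components do. -/
lemma mem_of_hc_mem {N : Ideal (MvPolynomial σ k)} {f : MvPolynomial σ k}
    (h : ∀ n, homogeneousComponent n f ∈ N) : f ∈ N := by
  rw [← sum_homogeneousComponent f]
  exact Ideal.sum_mem _ fun i _ => h i

/-- Graded Nakayama: if `N ≤ I` are homogeneous and `I ⊆ N + (X) I`, then `I ≤ N`. -/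
theorem graded_nakayama [Fintype σ] {I N : Ideal (MvPolynomial σ k)} (hI : HomI I) (hN : HomI N)
    (h : ∀ g ∈ I, ∃ ν ∈ N, ∃ c : σ → MvPolynomial σ k, (∀ j, c j ∈ I) ∧
      g = ν + ∑ j, X j * c j) : I ≤ N := by
  have key : ∀ n : ℕ, ∀ g ∈ I, g.IsHomogeneous n → g ∈ N := by
    intro n
    induction n using Nat.strong_induction_on with
    | _ n ih =>
      intro g hg hgn
      obtain ⟨ν, hν, c, hc, hgc⟩ := h g hg
      have h1 : g = homogeneousComponent n g := by
        rw [hc_of_isHomogeneous hgn, if_pos rfl]
      rw [h1, hgc, map_add, map_sum]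
      refine add_mem (hN ν hν n) (Ideal.sum_mem _ fun j _ => ?_)
      rcases n with _ | n
      · rw [hc_X_mul_zero]; exact zero_mem _
      · rw [hc_X_mul]
        exact Ideal.mul_mem_left _ _
          (ih n (Nat.lt_succ_self n) _ (hI _ (hc j) n) (homogeneousComponent_isHomogeneous n _))
  intro g hg
  exact mem_of_hc_mem fun n => key n _ (hI g hg n) (homogeneousComponent_isHomogeneous n g)

end Groth.Agent.Lib.helper10.Dub
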