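import Mathlib
import Groth.Agent.Lib.Helper10.Dub1

/-!
# Dubreil's bound (helper10), part 2: homogeneous ideals in two variables
-/

set_option autoImplicit false
open scoped BigOperators
open MvPolynomial Module

namespace Groth.Agent.Lib.helper10.Dub

set_option linter.style.haveILetI false

section LinAlg

variable {k : Type*} [Field k] {M : Type*} [AddCommGroup M] [Module k M]

lemma exists_finset_compl (V W : Submodule k M) [FiniteDimensional k V] (hWV : W ≤ V) :
    ∃ B : Finset M, (∀ b ∈ B, b ∈ V) ∧ B.card + finrank k W ≤ finrank k V ∧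
      V ≤ W ⊔ Submodule.span k (B : Set M) := by
  classical
  obtain ⟨C, hC⟩ := Submodule.exists_isCompl (W.comap V.subtype)
  have bC := Module.finBasis k C
  refine ⟨Finset.univ.image (fun i => ((bC i : V) : M)), ?_, ?_, ?_⟩
  · intro b hb
    rw [Finset.mem_image] at hb
    obtain ⟨i, _, rfl⟩ := hb
    exact (bC i : V).2
  · have h1 := Submodule.finrank_add_eq_of_isCompl hC
    have h2 : finrank k (W.comap V.subtype) = finrank k W :=
      (Submodule.comapSubtypeEquivOfLe hWV).finrank_eq
    have h3 : (Finset.univ.image (fun i => ((bC i : V) : M))).card ≤ finrank k C := by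
      refine Finset.card_image_le.trans ?_
      simp
    omega
  · intro v hv
    have h1 : (⟨v, hv⟩ : V) ∈ (W.comap V.subtype) ⊔ C := by rw [hC.sup_eq_top]; trivial
    obtain ⟨w, hw, c, hc, hwc⟩ := Submodule.mem_sup.mp h1
    have h2 : v = (w : M) + (c : M) := by
      have := congrArg (Subtype.val) hwc
      simpa using this.symm
    rw [h2]
    refine Submodule.add_mem_sup hw ?_
    have h3 : (⟨c, hc⟩ : C) = ∑ i, (bC.repr ⟨c, hc⟩ i) • bC i := (bC.sum_repr _).symm
    have h4 : (c : M) = ∑ i, (bC.repr ⟨c, hc⟩ i) • ((bC i : V) : M) := by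
      have := congrArg (V.subtype.comp C.subtype) h3
      simp only [map_sum, map_smul, LinearMap.comp_apply, Submodule.subtype_apply] at this
      exact this
    rw [h4]
    refine Submodule.sum_mem _ fun i _ => Submodule.smul_mem _ _ (Submodule.subset_span ?_)
    simp

end LinAlg

section TwoVar

variable {k : Type*} [Field k]

/-- coefficient vector of a form of degree `n` in two variables -/
noncomputable def cf (n : ℕ) : MvPolynomial (Fin 2) k →ₗ[k] (Fin (n + 1) → k) where
  toFun f i := coeff (Finsupp.single 0 (i : ℕ) + Finsupp.single 1 (n - i)) f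
  map_add' f g := by ext i; simp
  map_smul' c f := by ext i; simp

lemma eq_zero_of_cf_eq_zero {n : ℕ} {f : MvPolynomial (Fin 2) k} (hf : f.IsHomogeneous n)
    (h : cf n f = 0) : f = 0 := by
  classical
  ext d
  rw [coeff_zero]
  by_contra hd
  have h1 : d.degree = n := by
    by_contra hne
    exact hd (hf.coeff_eq_zero hne)
  rw [Finsupp.degree_eq_sum, Fin.sum_univ_two] at h1
  have h2 : d = Finsupp.single 0 (d 0) + Finsupp.single 1 (n - d 0) := by
    ext i
    fin_cases i
    · simp
    · simp; omega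
  have h3 := congrFun h ⟨d 0, by omega⟩
  simp only [cf, LinearMap.coe_mk, AddHom.coe_mk, Pi.zero_apply] at h3
  rw [← h2] at h3
  exact hd h3

lemma finite_of_le_homog {V : Submodule k (MvPolynomial (Fin 2) k)} {n : ℕ}
    (hV : V ≤ homogeneousSubmodule (Fin 2) k n) :
    FiniteDimensional k V ∧ finrank k V ≤ n + 1 := by
  have hinj : Function.Injective ((cf n).comp V.subtype) := by
    rw [← LinearMap.ker_eq_bot, LinearMap.ker_eq_bot']
    intro v hv
    have := eq_zero_of_cf_eq_zero (hV v.2) hv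
    exact Subtype.ext this
  have hfd : FiniteDimensional k V := FiniteDimensional.of_injective _ hinj
  refine ⟨hfd, ?_⟩
  have := LinearMap.finrank_le_finrank_of_injective hinj
  simpa using this

/-- `x₀ V + x₁ V` -/
noncomputable def xV (V : Submodule k (MvPolynomial (Fin 2) k)) :
    Submodule k (MvPolynomial (Fin 2) k) :=
  V.map (LinearMap.mulLeft k (X 0)) ⊔ V.map (LinearMap.mulLeft k (X 1))

lemma xV_le_homog {V : Submodule k (MvPolynomial (Fin 2) k)} {n : ℕ}
    (hV : V ≤ homogeneousSubmodule (Fin 2) k n) :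
    xV V ≤ homogeneousSubmodule (Fin 2) k (n + 1) := by
  unfold xV
  rw [sup_le_iff]
  constructor <;>
  · rintro _ ⟨v, hv, rfl⟩
    rw [LinearMap.mulLeft_apply, mem_homogeneousSubmodule, add_comm]
    exact (isHomogeneous_X k _).mul (hV hv)

lemma mulLeft_X_injective (i : Fin 2) :
    Function.Injective (LinearMap.mulLeft k (X i : MvPolynomial (Fin 2) k)) := by
  intro a b hab
  simp only [LinearMap.mulLeft_apply] at hab
  exact mul_left_cancel₀ (X_ne_zero i) hab

lemma lemmaK {V : Submodule k (MvPolynomial (Fin 2) k)} {n : ℕ}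
    (hV : V ≤ homogeneousSubmodule (Fin 2) k n) (hne : V ≠ ⊥) :
    finrank k V + 1 ≤ finrank k (xV V) := by
  by_contra hlt
  rw [not_le] at hlt
  haveI := (finite_of_le_homog hV).1
  haveI := (finite_of_le_homog (xV_le_homog hV)).1
  have h1 : V.map (LinearMap.mulLeft k (X 1)) ≤ xV V := le_sup_right
  have h2 : finrank k (V.map (LinearMap.mulLeft k (X 1))) = finrank k V :=
    (Submodule.equivMapOfInjective _ (mulLeft_X_injective 1) V).finrank_eq.symm
  have h3 : V.map (LinearMap.mulLeft k (X 1)) = xV V :=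
    Submodule.eq_of_le_of_finrank_le h1 (by omega)
  have h4 : V.map (LinearMap.mulLeft k (X 0)) ≤ V.map (LinearMap.mulLeft k (X 1)) := by
    rw [h3]; exact le_sup_left
  have key : ∀ m : ℕ, ∃ v ∈ V, v ≠ 0 ∧ m ≤ degreeOf 0 v := by
    intro m
    induction m with
    | zero =>
      obtain ⟨v, hv, hv0⟩ := Submodule.exists_mem_ne_zero_of_ne_bot hne
      exact ⟨v, hv, hv0, Nat.zero_le _⟩
    | succ m ih =>
      obtain ⟨v, hv, hv0, hm⟩ := ih
      obtain ⟨v', hv', hvv'⟩ := h4 ⟨v, hv, rfl⟩
      simp only [LinearMap.mulLeft_apply] at hvv'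
      have hv'0 : v' ≠ 0 := by
        rintro rfl
        rw [mul_zero] at hvv'
        exact hv0 ((mul_eq_zero.mp hvv'.symm).resolve_left (X_ne_zero 0))
      refine ⟨v', hv', hv'0, ?_⟩
      have e1 : degreeOf 0 (v * X 0) = degreeOf 0 v + 1 :=
        (degreeOf_mul_X_eq_degreeOf_add_one_iff 0 v).mpr hv0
      have e2 : degreeOf 0 (v' * X 1) = degreeOf 0 v' :=
        degreeOf_mul_X_of_ne v' (by decide)
      have e3 : v * X 0 = v' * X 1 := by rw [mul_comm, ← hvv', mul_comm]
      rw [e3, e2] at e1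
      omega
  obtain ⟨v, hv, hv0, hm⟩ := key (n + 1)
  have h5 : degreeOf 0 v ≤ n := (degreeOf_le_totalDegree v 0).trans (hV hv).totalDegree_le
  omega

/-- graded piece of an ideal -/
noncomputable def piece (J : Ideal (MvPolynomial (Fin 2) k)) (n : ℕ) :
    Submodule k (MvPolynomial (Fin 2) k) :=
  (J.restrictScalars k) ⊓ homogeneousSubmodule (Fin 2) k n

lemma mem_piece {J : Ideal (MvPolynomial (Fin 2) k)} {n : ℕ} {f : MvPolynomial (Fin 2) k} :
    f ∈ piece J n ↔ f ∈ J ∧ f.IsHomogeneous n := by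
  simp [piece]

lemma piece_le_homog (J : Ideal (MvPolynomial (Fin 2) k)) (n : ℕ) :
    piece J n ≤ homogeneousSubmodule (Fin 2) k n := inf_le_right

lemma xV_piece_le (J : Ideal (MvPolynomial (Fin 2) k)) (n : ℕ) :
    xV (piece J n) ≤ piece J (n + 1) := by
  refine le_inf ?_ (xV_le_homog (piece_le_homog J n))
  unfold xV
  rw [sup_le_iff]
  constructor <;>
  · rintro _ ⟨v, hv, rfl⟩
    rw [LinearMap.mulLeft_apply]
    exact Ideal.mul_mem_left _ _ (mem_piece.mp hv).1

lemma piece_ne_bot_of_le {J : Ideal (MvPolynomial (Fin 2) k)} {d N : ℕ}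
    (h : piece J d ≠ ⊥) (hdN : d ≤ N) : piece J N ≠ ⊥ := by
  obtain ⟨v, hv, hv0⟩ := Submodule.exists_mem_ne_zero_of_ne_bot h
  obtain ⟨m, rfl⟩ := Nat.exists_eq_add_of_le hdN
  intro hbot
  have h1 : X 0 ^ m * v ∈ piece J (d + m) := by
    rw [mem_piece] at hv ⊢
    refine ⟨Ideal.mul_mem_left _ _ hv.1, ?_⟩
    rw [add_comm]
    exact (isHomogeneous_X_pow 0 m).mul hv.2
  rw [hbot, Submodule.mem_bot] at h1
  exact hv0 ((mul_eq_zero.mp h1).resolve_left (pow_ne_zero _ (X_ne_zero 0)))

lemma step_inv {J : Ideal (MvPolynomial (Fin 2) k)} {d : ℕ} (hd : piece J d ≠ ⊥) (N : ℕ) :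
    ∃ G : Finset (MvPolynomial (Fin 2) k),
      (∀ g ∈ G, g ∈ J ∧ ∃ n, g.IsHomogeneous n) ∧
      (∀ n ≤ N, ∀ v ∈ piece J n, v ∈ Ideal.span (G : Set (MvPolynomial (Fin 2) k))) ∧
      G.card ≤ finrank k (piece J N) ∧ (d ≤ N → G.card + N ≤ d + finrank k (piece J N)) := by
  classical
  induction N with
  | zero =>
    haveI := (finite_of_le_homog (piece_le_homog J 0)).1
    obtain ⟨B, hB1, hB2, hB3⟩ := exists_finset_compl (piece J 0) ⊥ bot_le
    refine ⟨B, fun g hg => ⟨(mem_piece.mp (hB1 g hg)).1, 0, (mem_piece.mp (hB1 g hg)).2⟩, ?_, ?_, ?_⟩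
    · intro n hn v hv
      obtain rfl : n = 0 := by omega
      have h1 := hB3 hv
      rw [bot_sup_eq] at h1
      exact (Submodule.span_le_restrictScalars k (MvPolynomial (Fin 2) k) _) h1
    · simpa using hB2
    · intro hd0
      simp only [finrank_bot, add_zero] at hB2
      omega
  | succ N ih =>
    obtain ⟨G, hG1, hG2, hG3, hG4⟩ := ih
    haveI := (finite_of_le_homog (piece_le_homog J (N + 1))).1
    obtain ⟨B, hB1, hB2, hB3⟩ :=
      exists_finset_compl (piece J (N + 1)) (xV (piece J N)) (xV_piece_le J N)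
    have hsub : Ideal.span (G : Set (MvPolynomial (Fin 2) k)) ≤
        Ideal.span ((G ∪ B : Finset _) : Set (MvPolynomial (Fin 2) k)) :=
      Ideal.span_mono (by simp)
    refine ⟨G ∪ B, ?_, ?_, ?_, ?_⟩
    · intro g hg
      rcases Finset.mem_union.mp hg with hg | hg
      · exact hG1 g hg
      · exact ⟨(mem_piece.mp (hB1 g hg)).1, N + 1, (mem_piece.mp (hB1 g hg)).2⟩
    · intro n hn v hv
      rcases Nat.lt_or_ge n (N + 1) with hlt | hge
      · exact hsub (hG2 n (by omega) v hv)
      · obtain rfl : n = N + 1 := by omega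
        have h1 := hB3 hv
        obtain ⟨w, hw, b, hb, rfl⟩ := Submodule.mem_sup.mp h1
        refine add_mem ?_ ?_
        · unfold xV at hw
          obtain ⟨w0, hw0, w1, hw1, rfl⟩ := Submodule.mem_sup.mp hw
          obtain ⟨u0, hu0, rfl⟩ := hw0
          obtain ⟨u1, hu1, rfl⟩ := hw1
          simp only [LinearMap.mulLeft_apply]
          exact add_mem (Ideal.mul_mem_left _ _ (hsub (hG2 N le_rfl u0 hu0)))
            (Ideal.mul_mem_left _ _ (hsub (hG2 N le_rfl u1 hu1)))
        · have h2 : Submodule.span k (B : Set (MvPolynomial (Fin 2) k)) ≤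
              (Ideal.span ((G ∪ B : Finset _) : Set (MvPolynomial (Fin 2) k))).restrictScalars k := by
            refine (Submodule.span_le_restrictScalars k (MvPolynomial (Fin 2) k) _).trans ?_
            intro x hx
            exact Ideal.span_mono (by simp) hx
          exact h2 hb
    all_goals
      have hcard : (G ∪ B).card ≤ G.card + B.card := Finset.card_union_le _ _
      by_cases hbot : piece J N = ⊥
      · have h0 : finrank k (piece J N) = 0 := by rw [hbot]; simp
        have hdN : ¬ d ≤ N := fun h => piece_ne_bot_of_le hd h hbot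
        omega
      · have hK := lemmaK (piece_le_homog J N) hbot
        omega

theorem two_var {J : Ideal (MvPolynomial (Fin 2) k)} (hJ : HomI J) {f : MvPolynomial (Fin 2) k}
    {d : ℕ} (hfJ : f ∈ J) (hf0 : f ≠ 0) (hfd : f.IsHomogeneous d) :
    ∃ G : Finset (MvPolynomial (Fin 2) k), G.card ≤ d + 1 ∧
      (∀ g ∈ G, ∃ n, g.IsHomogeneous n) ∧ Ideal.span (G : Set (MvPolynomial (Fin 2) k)) = J := by
  classical
  have hd : piece J d ≠ ⊥ := by
    intro h
    have : f ∈ piece J d := mem_piece.mpr ⟨hfJ, hfd⟩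
    rw [h, Submodule.mem_bot] at this
    exact hf0 this
  obtain ⟨F, hF⟩ : J.FG := (inferInstance : IsNoetherianRing (MvPolynomial (Fin 2) k)).noetherian J
  obtain ⟨N, hN⟩ : ∃ N, N = max d (F.sup totalDegree) := ⟨_, rfl⟩
  obtain ⟨G, hG1, hG2, hG3, hG4⟩ := step_inv hd N
  have hle := (finite_of_le_homog (piece_le_homog J N)).2
  refine ⟨G, ?_, fun g hg => (hG1 g hg).2, le_antisymm ?_ ?_⟩
  · have := hG4 (by rw [hN]; exact le_max_left _ _)
    omega
  · rw [Ideal.span_le]
    intro g hg
    exact (hG1 g hg).1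
  · rw [← hF, Ideal.span_le]
    intro g hg
    have hgJ : g ∈ J := by rw [← hF]; exact Ideal.subset_span hg
    have hdeg : g.totalDegree ≤ N := by
      rw [hN]
      exact (Finset.le_sup (f := totalDegree) hg).trans (le_max_right _ _)
    rw [SetLike.mem_coe, ← sum_homogeneousComponent g]
    refine Ideal.sum_mem _ fun n hn => ?_
    rw [Finset.mem_range] at hn
    exact hG2 n (by omega) _ (mem_piece.mpr ⟨hJ g hgJ n, homogeneousComponent_isHomogeneous n g⟩)

end TwoVar

end Groth.Agent.Lib.helper10.Dub
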