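import Mathlib
import Groth.Agent.Lib.Helper10.Dub2

/-!
# Dubreil's bound (helper10), part 3: from three variables to two along a regular linear form
-/

set_option autoImplicit false
open scoped BigOperators
open MvPolynomial Module

namespace Groth.Agent.Lib.helper10.Dub

set_option linter.style.haveILetI false

section ThreeVar

variable {k : Type*} [Field k] (a b : k)

/-- the linear form `x₂ - a x₀ - b x₁` -/
noncomputable def ell : MvPolynomial (Fin 3) k := X 2 - C a * X 0 - C b * X 1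

/-- substitution `x₂ ↦ a x₀ + b x₁` -/
noncomputable def piMap : MvPolynomial (Fin 3) k →ₐ[k] MvPolynomial (Fin 2) k :=
  aeval ![X 0, X 1, C a * X 0 + C b * X 1]

/-- inclusion of the polynomials in `x₀, x₁` -/
noncomputable def iotaMap : MvPolynomial (Fin 2) k →ₐ[k] MvPolynomial (Fin 3) k :=
  aeval ![X 0, X 1]

lemma ell_isHomogeneous : (ell a b).IsHomogeneous 1 := by
  unfold ell
  exact ((isHomogeneous_X k 2).sub (isHomogeneous_C_mul_X a 0)).sub (isHomogeneous_C_mul_X b 1)

lemma piMap_iotaMap (t : MvPolynomial (Fin 2) k) : piMap a b (iotaMap t) = t := by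
  have h : (piMap a b).comp iotaMap = AlgHom.id k _ := by
    apply MvPolynomial.algHom_ext
    intro i
    fin_cases i <;> simp [piMap, iotaMap]
  exact congrArg (fun φ : MvPolynomial (Fin 2) k →ₐ[k] MvPolynomial (Fin 2) k => φ t) h

lemma piMap_surjective : Function.Surjective (piMap a b) :=
  fun t => ⟨iotaMap t, piMap_iotaMap a b t⟩

lemma piMap_ell : piMap a b (ell a b) = 0 := by
  simp [piMap, ell]

lemma exists_eq_iota_add (g : MvPolynomial (Fin 3) k) :
    ∃ q, g = iotaMap (piMap a b g) + ell a b * q := by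
  have h : (Ideal.Quotient.mkₐ k (Ideal.span {ell a b})).comp (iotaMap.comp (piMap a b)) =
      Ideal.Quotient.mkₐ k (Ideal.span {ell a b}) := by
    apply MvPolynomial.algHom_ext
    intro i
    fin_cases i
    · simp [piMap, iotaMap]
    · simp [piMap, iotaMap]
    · simp only [AlgHom.comp_apply, Ideal.Quotient.mkₐ_eq_mk]
      rw [Ideal.Quotient.eq, Ideal.mem_span_singleton']
      refine ⟨-1, ?_⟩
      simp [piMap, iotaMap, ell]
      ring
  have h1 := congrArg (fun φ : MvPolynomial (Fin 3) k →ₐ[k] _ => φ g) h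
  simp only [AlgHom.comp_apply, Ideal.Quotient.mkₐ_eq_mk] at h1
  rw [eq_comm, Ideal.Quotient.eq, Ideal.mem_span_singleton'] at h1
  obtain ⟨q, hq⟩ := h1
  exact ⟨q, by rw [mul_comm, hq]; ring⟩

lemma piMap_isHomogeneous {g : MvPolynomial (Fin 3) k} {n : ℕ} (hg : g.IsHomogeneous n) :
    (piMap a b g).IsHomogeneous n := by
  have := hg.aeval (S := k) (n := 1) (τ := Fin 2) ![X 0, X 1, C a * X 0 + C b * X 1] (by
    intro i
    fin_cases i
    · exact isHomogeneous_X k 0
    · exact isHomogeneous_X k 1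
    · exact (isHomogeneous_C_mul_X a 0).add (isHomogeneous_C_mul_X b 1))
  rw [one_mul] at this
  unfold piMap
  exact this

lemma iotaMap_isHomogeneous {t : MvPolynomial (Fin 2) k} {n : ℕ} (ht : t.IsHomogeneous n) :
    (iotaMap t : MvPolynomial (Fin 3) k).IsHomogeneous n := by
  have := ht.aeval (S := k) (n := 1) ![(X 0 : MvPolynomial (Fin 3) k), X 1] (by
    intro i
    fin_cases i
    · exact isHomogeneous_X k 0
    · exact isHomogeneous_X k 1)
  rw [one_mul] at this
  unfold iotaMap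
  exact this

lemma hc_piMap (g : MvPolynomial (Fin 3) k) (n : ℕ) :
    homogeneousComponent n (piMap a b g) = piMap a b (homogeneousComponent n g) := by
  classical
  conv_lhs => rw [← sum_homogeneousComponent g, map_sum, map_sum]
  have h1 : ∀ i ∈ Finset.range (g.totalDegree + 1),
      homogeneousComponent n (piMap a b (homogeneousComponent i g)) =
        if i = n then piMap a b (homogeneousComponent n g) else 0 := by
    intro i _
    rw [hc_of_isHomogeneous (piMap_isHomogeneous a b (homogeneousComponent_isHomogeneous i g))]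
    by_cases hin : i = n
    · subst hin; simp
    · rw [if_neg hin, if_neg hin]
  rw [Finset.sum_congr rfl h1, Finset.sum_ite_eq']
  split_ifs with h
  · rfl
  · rw [Finset.mem_range, not_lt] at h
    rw [homogeneousComponent_eq_zero _ _ (by omega), map_zero]

theorem three_var {I : Ideal (MvPolynomial (Fin 3) k)} (hI : HomI I)
    (hnzd : ∀ g, ell a b * g ∈ I → g ∈ I) {f : MvPolynomial (Fin 3) k} {d : ℕ}
    (hfI : f ∈ I) (hf0 : f ≠ 0) (hfd : f.IsHomogeneous d) :
    ∃ G : Finset (MvPolynomial (Fin 3) k), G.card ≤ d + 1 ∧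
      (∀ g ∈ G, ∃ n, g.IsHomogeneous n) ∧ Ideal.span (G : Set (MvPolynomial (Fin 3) k)) = I := by
  classical
  -- minimal degree
  have hex : ∃ n, ∃ f ∈ I, f ≠ 0 ∧ f.IsHomogeneous n := ⟨d, f, hfI, hf0, hfd⟩
  obtain ⟨d₀, hd₀⟩ : ∃ d₀, d₀ = Nat.find hex := ⟨_, rfl⟩
  have hd₀d : d₀ ≤ d := by rw [hd₀]; exact Nat.find_min' hex ⟨f, hfI, hf0, hfd⟩
  obtain ⟨f₀, hf₀I, hf₀0, hf₀d⟩ : ∃ f ∈ I, f ≠ 0 ∧ f.IsHomogeneous d₀ := by
    rw [hd₀]; exact Nat.find_spec hex
  have hmin : ∀ n < d₀, ∀ g ∈ I, g.IsHomogeneous n → g = 0 := by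
    intro n hn g hg hgn
    by_contra hg0
    rw [hd₀] at hn
    exact Nat.find_min hex hn ⟨g, hg, hg0, hgn⟩
  -- the image of f₀ is nonzero
  have hπf₀ : piMap a b f₀ ≠ 0 := by
    intro h0
    obtain ⟨q, hq⟩ := exists_eq_iota_add a b f₀
    rw [h0, map_zero, zero_add] at hq
    have hqI : q ∈ I := hnzd q (hq ▸ hf₀I)
    rcases d₀ with _ | e
    · have h1 : f₀ = homogeneousComponent 0 f₀ := by rw [hc_of_isHomogeneous hf₀d, if_pos rfl]
      rw [h1, hq, hc_mul_of_isHomogeneous_lt (ell_isHomogeneous a b) _ Nat.zero_lt_one] at hf₀0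
      exact hf₀0 rfl
    · have h1 : f₀ = homogeneousComponent (1 + e) f₀ := by
        rw [hc_of_isHomogeneous hf₀d, if_pos (by omega)]
      have h2 : homogeneousComponent e q = 0 :=
        hmin e (Nat.lt_succ_self e) _ (hI q hqI e) (homogeneousComponent_isHomogeneous e q)
      rw [h1, hq, hc_mul_of_isHomogeneous (ell_isHomogeneous a b), h2, mul_zero] at hf₀0
      exact hf₀0 rfl
  -- the image ideal
  have hmem : ∀ t, t ∈ I.map (piMap a b) ↔ ∃ g ∈ I, piMap a b g = t := fun t =>
    Ideal.mem_map_iff_of_surjective (piMap a b) (piMap_surjective a b)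
  have hJ : HomI (I.map (piMap a b)) := by
    intro t ht n
    obtain ⟨g, hg, rfl⟩ := (hmem t).mp ht
    rw [hc_piMap]
    exact (hmem _).mpr ⟨_, hI g hg n, rfl⟩
  obtain ⟨Gb, hGb1, hGb2, hGb3⟩ := two_var hJ ((hmem _).mpr ⟨f₀, hf₀I, rfl⟩) hπf₀
    (piMap_isHomogeneous a b hf₀d)
  -- lifts
  have hl : ∀ t ∈ Gb, ∃ g, g ∈ I ∧ (∃ n, g.IsHomogeneous n) ∧ piMap a b g = t := by
    intro t ht
    obtain ⟨n, hn⟩ := hGb2 t ht
    have htJ : t ∈ I.map (piMap a b) := by rw [← hGb3]; exact Ideal.subset_span ht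
    obtain ⟨g, hg, rfl⟩ := (hmem t).mp htJ
    refine ⟨homogeneousComponent n g, hI g hg n, ⟨n, homogeneousComponent_isHomogeneous n g⟩, ?_⟩
    rw [← hc_piMap, hc_of_isHomogeneous hn, if_pos rfl]
  choose! lift hlift using hl
  refine ⟨Gb.image lift, (Finset.card_image_le).trans (by omega), ?_, ?_⟩
  · intro g hg
    obtain ⟨t, ht, rfl⟩ := Finset.mem_image.mp hg
    exact (hlift t ht).2.1
  have hN : HomI (Ideal.span ((Gb.image lift : Finset _) : Set (MvPolynomial (Fin 3) k))) := by
    apply homI_span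
    intro g hg
    obtain ⟨t, ht, rfl⟩ := Finset.mem_image.mp (Finset.mem_coe.mp hg)
    exact (hlift t ht).2.1
  refine le_antisymm ?_ ?_
  · rw [Ideal.span_le]
    intro g hg
    obtain ⟨t, ht, rfl⟩ := Finset.mem_image.mp (Finset.mem_coe.mp hg)
    exact (hlift t ht).1
  · apply graded_nakayama hI hN
    intro g hg
    have h1 : piMap a b g ∈ Ideal.span (Gb : Set (MvPolynomial (Fin 2) k)) := by
      rw [hGb3]; exact (hmem _).mpr ⟨g, hg, rfl⟩
    obtain ⟨c, -, hc⟩ := Submodule.mem_span_finset.mp h1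
    obtain ⟨ν, hν⟩ : ∃ ν, ν = ∑ t ∈ Gb, iotaMap (c t) * lift t := ⟨_, rfl⟩
    have hνN : ν ∈ Ideal.span ((Gb.image lift : Finset _) : Set (MvPolynomial (Fin 3) k)) := by
      rw [hν]
      refine Ideal.sum_mem _ fun t ht => Ideal.mul_mem_left _ _ (Ideal.subset_span ?_)
      exact Finset.mem_coe.mpr (Finset.mem_image_of_mem _ ht)
    have hνI : ν ∈ I := by
      rw [hν]
      exact Ideal.sum_mem _ fun t ht => Ideal.mul_mem_left _ _ (hlift t ht).1
    have hπν : piMap a b ν = piMap a b g := by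
      rw [hν, map_sum, ← hc]
      refine Finset.sum_congr rfl fun t ht => ?_
      rw [map_mul, piMap_iotaMap, (hlift t ht).2.2, smul_eq_mul]
    obtain ⟨q, hq⟩ := exists_eq_iota_add a b (g - ν)
    rw [map_sub, hπν, sub_self, map_zero, zero_add] at hq
    have hqI : q ∈ I := hnzd q (hq ▸ I.sub_mem hg hνI)
    refine ⟨ν, hνN, ![-(C a * q), -(C b * q), q], ?_, ?_⟩
    · intro j
      fin_cases j
      · exact I.neg_mem (Ideal.mul_mem_left _ _ hqI)
      · exact I.neg_mem (Ideal.mul_mem_left _ _ hqI)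
      · exact hqI
    · rw [Fin.sum_univ_three]
      have : g = ν + ell a b * q := by rw [← hq]; ring
      rw [this]
      simp [ell]
      ring

end ThreeVar

end Groth.Agent.Lib.helper10.Dub
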