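import Mathlib
import Groth.Agent.Lib.Helper10.Dub1

/-!
# Dubreil's bound (helper10), part 4: minimal homogeneous generators and descent along a
field extension
-/

set_option autoImplicit false
open scoped BigOperators
open MvPolynomial Module

namespace Groth.Agent.Lib.helper10.Dub

set_option linter.style.haveILetI false

section Rho

variable {k k' : Type*} [Field k] [Field k'] [Algebra k k'] {σ : Type*}

/-- coefficientwise application of a `k`-linear map `k' → k` -/
noncomputable def rhoT (ρ : k' →ₗ[k] k) (f : MvPolynomial σ k') : MvPolynomial σ k :=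
  ∑ d ∈ f.support, monomial d (ρ (coeff d f))

lemma coeff_rhoT (ρ : k' →ₗ[k] k) (f : MvPolynomial σ k') (d : σ →₀ ℕ) :
    coeff d (rhoT ρ f) = ρ (coeff d f) := by
  classical
  unfold rhoT
  rw [coeff_sum]
  simp only [coeff_monomial]
  rw [Finset.sum_ite_eq']
  split_ifs with h
  · rfl
  · rw [notMem_support_iff.mp h, map_zero]

lemma rhoT_zero (ρ : k' →ₗ[k] k) : rhoT ρ (0 : MvPolynomial σ k') = 0 := by
  ext d; rw [coeff_rhoT]; simp

lemma rhoT_add (ρ : k' →ₗ[k] k) (f g : MvPolynomial σ k') :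
    rhoT ρ (f + g) = rhoT ρ f + rhoT ρ g := by
  ext d; simp only [coeff_rhoT, coeff_add, map_add]

lemma rhoT_sum (ρ : k' →ₗ[k] k) {ι : Type*} (s : Finset ι) (f : ι → MvPolynomial σ k') :
    rhoT ρ (∑ i ∈ s, f i) = ∑ i ∈ s, rhoT ρ (f i) := by
  classical
  induction s using Finset.induction_on with
  | empty => simp [rhoT_zero]
  | insert a s ha ih => rw [Finset.sum_insert ha, Finset.sum_insert ha, rhoT_add, ih]

lemma rhoT_map_mul (ρ : k' →ₗ[k] k) (s : MvPolynomial σ k) (g : MvPolynomial σ k') :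
    rhoT ρ (map (algebraMap k k') s * g) = s * rhoT ρ g := by
  classical
  ext d
  rw [coeff_rhoT, coeff_mul, coeff_mul, map_sum]
  refine Finset.sum_congr rfl fun x _ => ?_
  rw [coeff_map, coeff_rhoT, ← Algebra.smul_def, map_smul, smul_eq_mul]

lemma rhoT_C_mul_map (ρ : k' →ₗ[k] k) (μ : k') (s : MvPolynomial σ k) :
    rhoT ρ (C μ * map (algebraMap k k') s) = C (ρ μ) * s := by
  ext d
  rw [coeff_rhoT, coeff_C_mul, coeff_C_mul, coeff_map, mul_comm, ← Algebra.smul_def, map_smul,
    smul_eq_mul, mul_comm]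

lemma rhoT_X_mul (ρ : k' →ₗ[k] k) (j : σ) (g : MvPolynomial σ k') :
    rhoT ρ (X j * g) = X j * rhoT ρ g := by
  have := rhoT_map_mul ρ (X j : MvPolynomial σ k) g
  rwa [map_X] at this

lemma hc_rhoT (ρ : k' →ₗ[k] k) (g : MvPolynomial σ k') (n : ℕ) :
    homogeneousComponent n (rhoT ρ g) = rhoT ρ (homogeneousComponent n g) := by
  ext d
  rw [coeff_homogeneousComponent, coeff_rhoT, coeff_rhoT, coeff_homogeneousComponent]
  split_ifs
  · rfl
  · rw [map_zero]

lemma hc_map (g : MvPolynomial σ k) (n : ℕ) :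
    homogeneousComponent n (map (algebraMap k k') g) =
      map (algebraMap k k') (homogeneousComponent n g) := by
  ext d
  rw [coeff_homogeneousComponent, coeff_map, coeff_map, coeff_homogeneousComponent]
  split_ifs
  · rfl
  · rw [map_zero]

lemma eval_eq_sum_of_support_subset [Fintype σ] {R : Type*} [CommSemiring R] (x : σ → R)
    (f : MvPolynomial σ R) (s : Finset (σ →₀ ℕ)) (hs : f.support ⊆ s) :
    eval x f = ∑ d ∈ s, coeff d f * ∏ i, x i ^ d i := by
  rw [eval_eq']
  refine Finset.sum_subset hs fun d _ hd => ?_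
  rw [notMem_support_iff.mp hd, zero_mul]

lemma eval_rhoT [Fintype σ] (ρ : k' →ₗ[k] k) (p : σ → k) (g : MvPolynomial σ k') :
    eval p (rhoT ρ g) = ρ (eval (fun i => algebraMap k k' (p i)) g) := by
  have hs : (rhoT ρ g).support ⊆ g.support := by
    intro d hd
    rw [MvPolynomial.mem_support_iff, coeff_rhoT] at hd
    rw [MvPolynomial.mem_support_iff]
    intro h
    rw [h, map_zero] at hd
    exact hd rfl
  rw [eval_eq_sum_of_support_subset p _ _ hs, eval_eq', map_sum]
  refine Finset.sum_congr rfl fun d _ => ?_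
  rw [coeff_rhoT]
  have h1 : ∏ i, (algebraMap k k' (p i)) ^ d i = algebraMap k k' (∏ i, p i ^ d i) := by
    rw [map_prod]; simp only [map_pow]
  rw [h1, mul_comm (coeff d g), ← Algebra.smul_def, map_smul, smul_eq_mul, mul_comm]

end Rho

section MinGens

variable {k : Type*} [Field k] {σ : Type*} [Fintype σ]

/-- `G` is linearly independent over `k` modulo `(X) I`. -/
def IndepMod (I : Ideal (MvPolynomial σ k)) (G : Finset (MvPolynomial σ k)) : Prop :=
  ∀ c : MvPolynomial σ k → k,
    (∃ w : σ → MvPolynomial σ k, (∀ j, w j ∈ I) ∧ ∑ g ∈ G, C (c g) * g = ∑ j, X j * w j) →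
      ∀ g ∈ G, c g = 0

theorem exists_min_gens {I : Ideal (MvPolynomial σ k)} (hI : HomI I) :
    ∃ G : Finset (MvPolynomial σ k), (∀ g ∈ G, g ∈ I ∧ ∃ n, g.IsHomogeneous n) ∧
      Ideal.span (G : Set (MvPolynomial σ k)) = I ∧ IndepMod I G := by
  classical
  -- existence of some homogeneous generating set
  have hex : ∃ s : ℕ, ∃ G : Finset (MvPolynomial σ k), G.card = s ∧
      (∀ g ∈ G, ∃ n, g.IsHomogeneous n) ∧ Ideal.span (G : Set (MvPolynomial σ k)) = I := by
    obtain ⟨F, hF⟩ : I.FG := (inferInstance : IsNoetherianRing (MvPolynomial σ k)).noetherian I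
    refine ⟨_, F.biUnion (fun g => (Finset.range (g.totalDegree + 1)).image
      (fun n => homogeneousComponent n g)), rfl, ?_, ?_⟩
    · intro g hg
      simp only [Finset.mem_biUnion, Finset.mem_image] at hg
      obtain ⟨g', _, n, _, rfl⟩ := hg
      exact ⟨n, homogeneousComponent_isHomogeneous n g'⟩
    · refine le_antisymm ?_ ?_
      · rw [Ideal.span_le]
        intro g hg
        simp only [Finset.coe_biUnion, Finset.coe_image, Set.mem_iUnion, Set.mem_image,
          Finset.mem_coe] at hg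
        obtain ⟨g', hg', n, _, rfl⟩ := hg
        exact hI g' (hF ▸ Ideal.subset_span hg') n
      · rw [← hF, Ideal.span_le]
        intro g hg
        rw [SetLike.mem_coe, ← sum_homogeneousComponent g]
        refine Ideal.sum_mem _ fun n hn => Ideal.subset_span ?_
        simp only [Finset.coe_biUnion, Finset.coe_image, Set.mem_iUnion, Set.mem_image,
          Finset.mem_coe]
        exact ⟨g, hg, n, hn, rfl⟩
  obtain ⟨G, hGcard, hGhom, hGspan⟩ := Nat.find_spec hex
  have hGI : ∀ g ∈ G, g ∈ I := fun g hg => hGspan ▸ Ideal.subset_span hg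
  refine ⟨G, fun g hg => ⟨hGI g hg, hGhom g hg⟩, hGspan, ?_⟩
  intro c ⟨w, hw, hrel⟩ g0 hg0
  by_contra hc0
  -- degrees
  choose! deg hdeg using hGhom
  obtain ⟨n0, hn0⟩ : ∃ n0, n0 = deg g0 := ⟨_, rfl⟩
  -- degree n0 part of the relation
  obtain ⟨w', hw', hrel'⟩ : ∃ w' : σ → MvPolynomial σ k, (∀ j, w' j ∈ I) ∧
      ∑ g ∈ G, C (c g) * homogeneousComponent n0 g = ∑ j, X j * w' j := by
    have h1 := congrArg (homogeneousComponent n0) hrel
    rw [map_sum, map_sum] at h1
    simp only [homogeneousComponent_C_mul] at h1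
    rcases n0 with _ | m
    · refine ⟨fun _ => 0, fun _ => zero_mem _, ?_⟩
      rw [h1]
      simp only [hc_X_mul_zero, mul_zero]
    · refine ⟨fun j => homogeneousComponent m (w j), fun j => hI _ (hw j) m, ?_⟩
      rw [h1]
      simp only [hc_X_mul]
  have hcomp : ∀ g ∈ G, homogeneousComponent n0 g = if deg g = n0 then g else 0 :=
    fun g hg => hc_of_isHomogeneous (hdeg g hg) n0
  -- solve for g0
  have hg0eq : C (c g0) * g0 = -(∑ g ∈ G.erase g0, C (c g) * homogeneousComponent n0 g) +
      ∑ j, X j * w' j := by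
    rw [← hrel', ← Finset.add_sum_erase G _ hg0, hcomp g0 hg0, if_pos hn0.symm]
    ring
  have hg0eq' : g0 = C (c g0)⁻¹ * (-(∑ g ∈ G.erase g0, C (c g) * homogeneousComponent n0 g) +
      ∑ j, X j * w' j) := by
    rw [← hg0eq, ← mul_assoc, ← C_mul, inv_mul_cancel₀ hc0, C_1, one_mul]
  have hsubset : ((G.erase g0 : Finset _) : Set (MvPolynomial σ k)) ⊆ G := by
    intro x hx
    exact Finset.mem_coe.mpr (Finset.mem_of_mem_erase (Finset.mem_coe.mp hx))
  have hNI : Ideal.span ((G.erase g0 : Finset _) : Set (MvPolynomial σ k)) ≤ I := by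
    rw [← hGspan]; exact Ideal.span_mono hsubset
  have hN : HomI (Ideal.span ((G.erase g0 : Finset _) : Set (MvPolynomial σ k))) := by
    apply homI_span
    intro g hg
    exact ⟨deg g, hdeg g (Finset.mem_of_mem_erase (Finset.mem_coe.mp hg))⟩
  have hmemN : ∀ g ∈ G.erase g0, g ∈
      Ideal.span ((G.erase g0 : Finset _) : Set (MvPolynomial σ k)) :=
    fun g hg => Ideal.subset_span (Finset.mem_coe.mpr hg)
  have hIN : I ≤ Ideal.span ((G.erase g0 : Finset _) : Set (MvPolynomial σ k)) := by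
    apply graded_nakayama hI hN
    intro x hx
    rw [← hGspan] at hx
    obtain ⟨a, -, ha⟩ := Submodule.mem_span_finset.mp hx
    rw [← Finset.add_sum_erase G _ hg0] at ha
    simp only [smul_eq_mul] at ha
    refine ⟨∑ g ∈ G.erase g0, a g * g +
        a g0 * C (c g0)⁻¹ * -(∑ g ∈ G.erase g0, C (c g) * homogeneousComponent n0 g), ?_,
      fun j => a g0 * C (c g0)⁻¹ * w' j, fun j => Ideal.mul_mem_left _ _ (hw' j), ?_⟩
    · refine add_mem (Ideal.sum_mem _ fun g hg => Ideal.mul_mem_left _ _ (hmemN g hg))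
        (Ideal.mul_mem_left _ _ (neg_mem (Ideal.sum_mem _ fun g hg =>
          Ideal.mul_mem_left _ _ ?_)))
      rw [hcomp g (Finset.mem_of_mem_erase hg)]
      split_ifs
      · exact hmemN g hg
      · exact zero_mem _
    · rw [← ha]
      have hW : ∑ j, X j * (a g0 * C (c g0)⁻¹ * w' j) =
          a g0 * C (c g0)⁻¹ * ∑ j, X j * w' j := by
        rw [Finset.mul_sum]; exact Finset.sum_congr rfl fun j _ => by ring
      have h5 : a g0 * g0 = a g0 * (C (c g0)⁻¹ *
          (-(∑ g ∈ G.erase g0, C (c g) * homogeneousComponent n0 g) + ∑ j, X j * w' j)) :=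
        congrArg (fun t => a g0 * t) hg0eq'
      rw [hW, h5]
      ring
  -- contradiction with minimality
  have hcardpos : 0 < G.card := Finset.card_pos.mpr ⟨g0, hg0⟩
  have hlt : (G.erase g0).card < Nat.find hex := by
    rw [Finset.card_erase_of_mem hg0, hGcard]; omega
  exact Nat.find_min hex hlt ⟨G.erase g0, rfl,
    fun g hg => ⟨deg g, hdeg g (Finset.mem_of_mem_erase hg)⟩, le_antisymm hNI hIN⟩

end MinGens

section Descent

variable {k k' : Type*} [Field k] [Field k'] [Algebra k k'] {σ : Type*} [Fintype σ]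

lemma exists_X_mul_of_coeff_zero (u : MvPolynomial σ k') (hu : coeff 0 u = 0) :
    ∃ v : σ → MvPolynomial σ k', u = ∑ j, X j * v j := by
  have h1 : u ∈ Ideal.span (MvPolynomial.X '' (Set.univ : Set σ) : Set (MvPolynomial σ k')) := by
    rw [mem_ideal_span_X_image]
    intro m hm
    have hm0 : m ≠ 0 := by
      rintro rfl
      exact (MvPolynomial.mem_support_iff.mp hm) hu
    obtain ⟨i, hi⟩ : ∃ i, m i ≠ 0 := by
      by_contra h
      push Not at h
      exact hm0 (Finsupp.ext h)
    exact ⟨i, Set.mem_univ _, hi⟩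
  rw [Set.image_univ, Ideal.mem_span_range_iff_exists_fun] at h1
  obtain ⟨v, hv⟩ := h1
  exact ⟨v, by rw [← hv]; exact Finset.sum_congr rfl fun j _ => mul_comm _ _⟩

theorem card_le_of_descent (ρ : k' →ₗ[k] k) (hρ : ρ 1 = 1)
    {I : Ideal (MvPolynomial σ k)} {I' : Ideal (MvPolynomial σ k')}
    (h1 : ∀ f ∈ I, map (algebraMap k k') f ∈ I') (h2 : ∀ g ∈ I', rhoT ρ g ∈ I)
    {G : Finset (MvPolynomial σ k)} (hG : ∀ g ∈ G, g ∈ I) (hind : IndepMod I G)
    {G' : Finset (MvPolynomial σ k')}
    (hG' : Ideal.span (G' : Set (MvPolynomial σ k')) = I') : G.card ≤ G'.card := by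
  classical
  by_contra hlt
  rw [not_le] at hlt
  -- express the images of the generators
  have hrep : ∀ g ∈ G, ∃ a : MvPolynomial σ k' → MvPolynomial σ k',
      ∑ h ∈ G', a h * h = map (algebraMap k k') g := by
    intro g hg
    have : map (algebraMap k k') g ∈ Ideal.span (G' : Set (MvPolynomial σ k')) := by
      rw [hG']; exact h1 g (hG g hg)
    obtain ⟨a, -, ha⟩ := Submodule.mem_span_finset.mp this
    exact ⟨a, by simpa only [smul_eq_mul] using ha⟩
  choose! a ha using hrep
  -- a linear relation among the constant-term vectors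
  have hdep : ¬ LinearIndependent k' (fun g : G => fun h : G' => coeff 0 (a g.1 h.1)) := by
    intro hli
    have := hli.fintype_card_le_finrank
    simp only [Fintype.card_coe, Module.finrank_fintype_fun_eq_card] at this
    omega
  obtain ⟨c, hc, g1, hg1⟩ := Fintype.not_linearIndependent_iff.mp hdep
  -- normalized coefficients, extended by zero
  obtain ⟨c', hc'⟩ : ∃ c' : MvPolynomial σ k → k', c' = fun x =>
      if hx : x ∈ G then (c g1)⁻¹ * c ⟨x, hx⟩ else 0 := ⟨_, rfl⟩
  have hc'1 : c' g1.1 = 1 := by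
    rw [hc']
    simp only [g1.2, dif_pos]
    exact inv_mul_cancel₀ hg1
  have hc'rel : ∀ h ∈ G', ∑ g ∈ G, c' g * coeff 0 (a g h) = 0 := by
    intro h hh
    have e1 := congrFun hc ⟨h, hh⟩
    simp only [Finset.sum_apply, Pi.smul_apply, smul_eq_mul, Pi.zero_apply] at e1
    rw [← Finset.sum_coe_sort G]
    have e2 : ∀ g : G, c' g.1 * coeff 0 (a g.1 h) = (c g1)⁻¹ * (c g * coeff 0 (a g.1 h)) := by
      intro g
      rw [hc']
      simp only [g.2, dif_pos]
      ring
    simp only [e2]
    rw [← Finset.mul_sum, e1, mul_zero]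
  -- the element E
  obtain ⟨u, hu⟩ : ∃ u : MvPolynomial σ k' → MvPolynomial σ k', u = fun h =>
      ∑ g ∈ G, C (c' g) * a g h := ⟨_, rfl⟩
  have hu0 : ∀ h ∈ G', coeff 0 (u h) = 0 := by
    intro h hh
    rw [hu]
    simp only [coeff_sum, coeff_C_mul]
    exact hc'rel h hh
  have hv : ∀ h ∈ G', ∃ v : σ → MvPolynomial σ k', u h = ∑ j, X j * v j :=
    fun h hh => exists_X_mul_of_coeff_zero (u h) (hu0 h hh)
  choose! v hv using hv
  have hE : ∑ g ∈ G, C (c' g) * map (algebraMap k k') g =
      ∑ j, X j * ∑ h ∈ G', v h j * h := by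
    calc ∑ g ∈ G, C (c' g) * map (algebraMap k k') g
        = ∑ g ∈ G, C (c' g) * ∑ h ∈ G', a g h * h :=
          Finset.sum_congr rfl fun g hg => by rw [ha g hg]
      _ = ∑ h ∈ G', u h * h := by
          rw [hu]
          simp only [Finset.mul_sum, Finset.sum_mul]
          rw [Finset.sum_comm]
          exact Finset.sum_congr rfl fun h _ => Finset.sum_congr rfl fun g _ => by ring
      _ = ∑ h ∈ G', (∑ j, X j * v h j) * h :=
          Finset.sum_congr rfl fun h hh => by rw [hv h hh]
      _ = ∑ j, X j * ∑ h ∈ G', v h j * h := by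
          simp only [Finset.mul_sum, Finset.sum_mul]
          rw [Finset.sum_comm]
          exact Finset.sum_congr rfl fun h _ => Finset.sum_congr rfl fun g _ => by ring
  have hw' : ∀ j, ∑ h ∈ G', v h j * h ∈ I' := by
    intro j
    rw [← hG']
    exact Ideal.sum_mem _ fun h hh => Ideal.mul_mem_left _ _ (Ideal.subset_span hh)
  have hrel := congrArg (rhoT ρ) hE
  rw [rhoT_sum, rhoT_sum] at hrel
  simp only [rhoT_C_mul_map, rhoT_X_mul] at hrel
  have := hind (fun g => ρ (c' g)) ⟨fun j => rhoT ρ (∑ h ∈ G', v h j * h),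
    fun j => h2 _ (hw' j), hrel⟩ g1.1 g1.2
  simp only [hc'1, hρ] at this
  exact one_ne_zero this

end Descent

end Groth.Agent.Lib.helper10.Dub
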