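import Mathlib
import Groth.Agent.Lib.Helper10.Dub3
import Groth.Agent.Lib.Helper10.Dub4

/-!
# Dubreil's bound (helper10), part 5: vanishing ideals of finite sets of points in the plane
-/

set_option autoImplicit false
open scoped BigOperators
open MvPolynomial Module

namespace Groth.Agent.Lib.helper10.Dub

set_option linter.style.haveILetI false

section Psi

variable {k : Type*} [Field k] {σ : Type*} [Fintype σ]

/-- restriction of a polynomial to the line through the origin and `p` -/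
noncomputable def psi (p : σ → k) : MvPolynomial σ k →ₐ[k] Polynomial k :=
  aeval (fun i => Polynomial.C (p i) * Polynomial.X)

lemma psi_of_isHomogeneous (p : σ → k) {h : MvPolynomial σ k} {n : ℕ} (hh : h.IsHomogeneous n) :
    psi p h = Polynomial.C (eval p h) * Polynomial.X ^ n := by
  classical
  unfold psi
  rw [aeval_def, eval₂_eq', eval_eq', map_sum, Finset.sum_mul]
  refine Finset.sum_congr rfl fun d hd => ?_
  have hdeg : ∑ i, d i = n := by
    have := hh (MvPolynomial.mem_support_iff.mp hd)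
    rw [← this, Finsupp.weight_apply]  
    simp [Finsupp.sum_fintype]
  simp only [mul_pow, Finset.prod_mul_distrib, Finset.prod_pow_eq_pow_sum, hdeg]
  rw [map_mul, map_prod]
  simp only [map_pow, Polynomial.algebraMap_eq]
  ring

lemma coeff_psi (p : σ → k) (f : MvPolynomial σ k) (j : ℕ) :
    (psi p f).coeff j = eval p (homogeneousComponent j f) := by
  classical
  conv_lhs => rw [← sum_homogeneousComponent f, map_sum, Polynomial.finsetSum_coeff]
  have h1 : ∀ n ∈ Finset.range (f.totalDegree + 1),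
      (psi p (homogeneousComponent n f)).coeff j =
        if n = j then eval p (homogeneousComponent j f) else 0 := by
    intro n _
    rw [psi_of_isHomogeneous p (homogeneousComponent_isHomogeneous n f),
      Polynomial.coeff_C_mul_X_pow]
    by_cases hnj : n = j
    · subst hnj; simp
    · rw [if_neg (Ne.symm hnj), if_neg hnj]
  rw [Finset.sum_congr rfl h1, Finset.sum_ite_eq']
  split_ifs with h
  · rfl
  · rw [Finset.mem_range, not_lt] at h
    rw [homogeneousComponent_eq_zero _ _ (by omega), map_zero]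

/-- the ideal of polynomials all of whose homogeneous components vanish on `Z` -/
noncomputable def IZ (Z : Finset (σ → k)) : Ideal (MvPolynomial σ k) :=
  ⨅ p ∈ Z, RingHom.ker (psi p).toRingHom

lemma mem_IZ {Z : Finset (σ → k)} {f : MvPolynomial σ k} :
    f ∈ IZ Z ↔ ∀ p ∈ Z, ∀ j, eval p (homogeneousComponent j f) = 0 := by
  unfold IZ
  simp only [Ideal.mem_iInf, RingHom.mem_ker]
  refine forall₂_congr fun p _ => ?_
  rw [AlgHom.toRingHom_eq_coe, RingHom.coe_coe, Polynomial.ext_iff]
  simp only [coeff_psi, Polynomial.coeff_zero]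

lemma homI_IZ (Z : Finset (σ → k)) : HomI (IZ Z) := by
  intro f hf n
  rw [mem_IZ] at hf ⊢
  intro p hp j
  rw [hc_hc]
  split_ifs with h
  · exact hf p hp n
  · exact map_zero _

lemma nzd_IZ {Z : Finset (σ → k)} {l : MvPolynomial σ k} (hl : l.IsHomogeneous 1)
    (hlZ : ∀ p ∈ Z, eval p l ≠ 0) (g : MvPolynomial σ k) (h : l * g ∈ IZ Z) : g ∈ IZ Z := by
  unfold IZ at h ⊢
  simp only [Ideal.mem_iInf, RingHom.mem_ker, AlgHom.toRingHom_eq_coe, RingHom.coe_coe] at h ⊢
  intro p hp
  have h1 := h p hp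
  rw [map_mul, psi_of_isHomogeneous p hl] at h1
  rcases mul_eq_zero.mp h1 with h2 | h2
  · exfalso
    rw [pow_one] at h2
    have := congrArg (fun q => Polynomial.coeff q 1) h2
    simp only [Polynomial.coeff_C_mul, Polynomial.coeff_X_one, mul_one,
      Polynomial.coeff_zero] at this
    exact hlZ p hp this
  · exact h2

end Psi

section Avoid

variable {k : Type*} [Field k] [Infinite k]

lemma exists_ell_avoiding (Z : Finset (Fin 3 → k)) (hZ : ∀ p ∈ Z, p ≠ 0) :
    ∃ a b : k, ∀ p ∈ Z, p 2 - a * p 0 - b * p 1 ≠ 0 := by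
  classical
  obtain ⟨P, hP⟩ : ∃ P : MvPolynomial (Fin 2) k,
      P = ∏ p ∈ Z, (C (p 2) - X 0 * C (p 0) - X 1 * C (p 1)) := ⟨_, rfl⟩
  have hev : ∀ (x : Fin 2 → k) (p : Fin 3 → k),
      eval x (C (p 2) - X 0 * C (p 0) - X 1 * C (p 1) : MvPolynomial (Fin 2) k) =
        p 2 - x 0 * p 0 - x 1 * p 1 := by
    intro x p; simp
  have hP0 : P ≠ 0 := by
    rw [hP, Finset.prod_ne_zero_iff]
    intro p hp h0
    have e := fun x : Fin 2 → k => congrArg (eval x) h0
    simp only [hev, map_zero] at e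
    have e1 := e ![0, 0]
    have e2 := e ![1, 0]
    have e3 := e ![0, 1]
    simp at e1 e2 e3
    apply hZ p hp
    ext i
    fin_cases i
    · simpa [e1] using e2
    · simpa [e1] using e3
    · simpa using e1
  obtain ⟨x, hx⟩ : ∃ x : Fin 2 → k, eval x P ≠ 0 := by
    by_contra h
    push Not at h
    exact hP0 (MvPolynomial.funext fun x => by rw [h x, map_zero])
  refine ⟨x 0, x 1, fun p hp h0 => hx ?_⟩
  rw [hP, map_prod]
  exact Finset.prod_eq_zero hp (by rw [hev]; exact h0)

end Avoid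

section Main

lemma eval_ell {k : Type*} [Field k] (a b : k) (p : Fin 3 → k) :
    eval p (ell a b) = p 2 - a * p 0 - b * p 1 := by
  simp [ell]

theorem dubreil_aux {k k' : Type*} [Field k] [Field k'] [Algebra k k'] [Infinite k']
    (Z : Finset (Fin 3 → k)) (hZ : ∀ p ∈ Z, p ≠ 0) (d : ℕ) {f : MvPolynomial (Fin 3) k}
    (hfI : f ∈ IZ Z) (hfd : f.IsHomogeneous d) (hf0 : f ≠ 0) :
    Submodule.spanFinrank (IZ Z) ≤ d + 1 := by
  classical
  obtain ⟨Z', hZ'⟩ : ∃ Z' : Finset (Fin 3 → k'),
      Z' = Z.image (fun p i => algebraMap k k' (p i)) := ⟨_, rfl⟩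
  have hZ'0 : ∀ p ∈ Z', p ≠ 0 := by
    intro p' hp'
    rw [hZ', Finset.mem_image] at hp'
    obtain ⟨p, hp, rfl⟩ := hp'
    intro h0
    apply hZ p hp
    ext i
    have := congrFun h0 i
    simpa using this
  obtain ⟨a, b, hab⟩ := exists_ell_avoiding Z' hZ'0
  have h1 : ∀ g ∈ IZ Z, map (algebraMap k k') g ∈ IZ Z' := by
    intro g hg
    rw [mem_IZ] at hg ⊢
    intro p' hp' j
    rw [hZ', Finset.mem_image] at hp'
    obtain ⟨p, hp, rfl⟩ := hp'
    rw [hc_map, eval_map]
    have := eval₂_comp (algebraMap k k') p (homogeneousComponent j g)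
    rw [hg p hp j, map_zero] at this
    exact this.symm
  obtain ⟨ρ, hρ⟩ : ∃ ρ : k' →ₗ[k] k, ρ 1 = 1 := by
    have hinj : LinearMap.ker (Algebra.linearMap k k') = ⊥ :=
      LinearMap.ker_eq_bot.mpr (algebraMap k k').injective
    obtain ⟨ρ, hρ⟩ := LinearMap.exists_leftInverse_of_injective (Algebra.linearMap k k') hinj
    refine ⟨ρ, ?_⟩
    have := congrArg (fun φ : k →ₗ[k] k => φ 1) hρ
    simpa using this
  have h2 : ∀ g ∈ IZ Z', rhoT ρ g ∈ IZ Z := by
    intro g hg
    rw [mem_IZ] at hg ⊢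
    intro p hp j
    rw [hc_rhoT, eval_rhoT, hg _ (by rw [hZ']; exact Finset.mem_image_of_mem _ hp) j, map_zero]
  have hf'0 : map (algebraMap k k') f ≠ 0 := by
    intro h0
    exact hf0 (map_injective _ (algebraMap k k').injective (by rw [h0, map_zero]))
  obtain ⟨G', hG'card, -, hG'span⟩ := three_var a b (homI_IZ Z')
    (nzd_IZ (ell_isHomogeneous a b) (fun p hp => by rw [eval_ell]; exact hab p hp))
    (h1 f hfI) hf'0 (hfd.map _)
  obtain ⟨G, hG1, hG2, hG3⟩ := exists_min_gens (homI_IZ Z)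
  have hcard := card_le_of_descent ρ hρ h1 h2 (fun g hg => (hG1 g hg).1) hG3 hG'span
  have h3 : Submodule.spanFinrank (IZ Z) ≤ G.card := by
    have := Submodule.spanFinrank_span_le_ncard_of_finite
      (R := MvPolynomial (Fin 3) k) (s := (G : Set (MvPolynomial (Fin 3) k))) G.finite_toSet
    rw [Set.ncard_coe_finset] at this
    have e : Submodule.span (MvPolynomial (Fin 3) k) (G : Set (MvPolynomial (Fin 3) k)) = IZ Z :=
      hG2
    rwa [e] at this
  omega

theorem dubreil (k : Type*) [Field k]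
    (Z : Finset (Fin 3 → k)) (hZ : ∀ p ∈ Z, p ≠ 0) (I : Ideal (MvPolynomial (Fin 3) k))
    (hI : ∀ f : MvPolynomial (Fin 3) k, f ∈ I ↔
      ∀ p ∈ Z, ∀ j : ℕ, MvPolynomial.eval p (MvPolynomial.homogeneousComponent j f) = 0)
    (d : ℕ) (hf : ∃ f ∈ I, MvPolynomial.IsHomogeneous f d ∧ f ≠ 0) :
    Submodule.spanFinrank I ≤ d + 1 := by
  obtain rfl : I = IZ Z := by
    ext f; rw [hI, mem_IZ]
  obtain ⟨f, hfI, hfd, hf0⟩ := hf
  exact dubreil_aux (k' := AlgebraicClosure k) Z hZ d hfI hfd hf0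

end Main

end Groth.Agent.Lib.helper10.Dub
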