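import Mathlib
import Groth.Prelude.Def_EtRam

/-!
Finite separable extensions of the fraction field of a discrete valuation ring (helper10), part 1:
dictionary between valuation subrings of `L` dominating `A` and primes of the integral closure.
-/

set_option autoImplicit false
set_option linter.unusedSectionVars false
set_option linter.style.haveILetI false

universe u

open IsDedekindDomain IsLocalRing

namespace Groth.Agent.Lib.helper10

namespace DvrExt

section Basic

variable {A L : Type u} [CommRing A] [IsLocalRing A] [Field L] [Algebra A L]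

/-- elements of `L` integral over `A` lie in every valuation subring containing the image of `A`. -/
theorem mem_of_isIntegral (V : ValuationSubring L) (hV : ∀ a : A, algebraMap A L a ∈ V) {x : L}
    (hx : IsIntegral A x) : x ∈ V := by
  obtain ⟨q, hq, hqx⟩ := hx
  let φ : A →+* V := RingHom.codRestrict (algebraMap A L) V hV
  have h1 : IsIntegral V x := by
    refine ⟨q.map φ, hq.map φ, ?_⟩
    rw [Polynomial.eval₂_map]
    have : (algebraMap V L).comp φ = algebraMap A L := by
      ext a; rfl
    rw [this]; exact hqx
  obtain ⟨y, hy⟩ := IsIntegrallyClosed.isIntegral_iff.mp h1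
  rw [← hy]; exact y.2

end Basic

section Dict

variable {A L B : Type u} [CommRing A] [IsDomain A] [IsDiscreteValuationRing A]
  [Field L] [Algebra A L]
  [CommRing B] [IsDedekindDomain B] [Algebra A B] [Algebra B L] [IsScalarTower A B L]
  [IsFractionRing B L] [IsIntegralClosure B A L] [FaithfulSMul A L]

theorem algebraMap_mem (V : ValuationSubring L) (hV : EtRam.Dominates A (algebraMap A L) V)
    (b : B) : algebraMap B L b ∈ V :=
  mem_of_isIntegral V hV.1 ((IsIntegralClosure.isIntegral_iff (A := B)).mpr ⟨b, rfl⟩)

/-- the inclusion of `B` into a valuation subring dominating `A` -/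
def incl (V : ValuationSubring L) (hV : EtRam.Dominates A (algebraMap A L) V) : B →+* V :=
  RingHom.codRestrict (algebraMap B L) V (algebraMap_mem V hV)

@[simp] theorem incl_coe (V : ValuationSubring L) (hV : EtRam.Dominates A (algebraMap A L) V)
    (b : B) : ((incl V hV b : V) : L) = algebraMap B L b := rfl

/-- the prime of `B` cut out by a valuation subring dominating `A` -/
def primeOf (V : ValuationSubring L) (hV : EtRam.Dominates A (algebraMap A L) V) : Ideal B :=
  (maximalIdeal V).comap (incl V hV)

instance (V : ValuationSubring L) (hV : EtRam.Dominates A (algebraMap A L) V) :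
    (primeOf (B := B) V hV).IsPrime := by
  unfold primeOf; infer_instance

theorem mem_primeOf (V : ValuationSubring L) (hV : EtRam.Dominates A (algebraMap A L) V) (b : B) :
    b ∈ primeOf V hV ↔ V.valuation (algebraMap B L b) < 1 := by
  unfold primeOf
  rw [Ideal.mem_comap, ValuationSubring.valuation_lt_one_iff]
  rfl

theorem valuation_algebraMap_eq_one (V : ValuationSubring L)
    (hV : EtRam.Dominates A (algebraMap A L) V) {a : A} (ha : a ∉ maximalIdeal A) :
    V.valuation (algebraMap A L a) = 1 := by
  have hu : IsUnit a := by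
    by_contra h
    exact ha ((IsLocalRing.mem_maximalIdeal a).mpr h)
  obtain ⟨u, rfl⟩ := hu
  have h1 : V.valuation (algebraMap A L (u : A)) ≤ 1 :=
    (ValuationSubring.valuation_le_one_iff V _).mpr (hV.1 _)
  have h2 : V.valuation (algebraMap A L ((u⁻¹ : Aˣ) : A)) ≤ 1 :=
    (ValuationSubring.valuation_le_one_iff V _).mpr (hV.1 _)
  have h3 : V.valuation (algebraMap A L (u : A)) * V.valuation (algebraMap A L ((u⁻¹ : Aˣ) : A))
      = 1 := by
    rw [← map_mul, ← map_mul, Units.mul_inv, map_one, map_one]
  refine le_antisymm h1 ?_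
  calc (1 : V.ValueGroup) = V.valuation (algebraMap A L (u : A)) *
        V.valuation (algebraMap A L ((u⁻¹ : Aˣ) : A)) := h3.symm
    _ ≤ V.valuation (algebraMap A L (u : A)) * 1 := mul_le_mul' le_rfl h2
    _ = _ := mul_one _

theorem primeOf_liesOver (V : ValuationSubring L) (hV : EtRam.Dominates A (algebraMap A L) V) :
    (primeOf (B := B) V hV).LiesOver (maximalIdeal A) := by
  constructor
  ext a
  rw [Ideal.under_def, Ideal.mem_comap, mem_primeOf, ← IsScalarTower.algebraMap_apply]
  constructor
  · intro ha; exact hV.2 a ha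
  · intro ha
    by_contra hna
    rw [valuation_algebraMap_eq_one V hV hna] at ha
    exact lt_irrefl _ ha

theorem exists_pi_mem (V : ValuationSubring L) (hV : EtRam.Dominates A (algebraMap A L) V) :
    ∃ π : A, π ≠ 0 ∧ algebraMap A L π ≠ 0 ∧ V.valuation (algebraMap A L π) < 1 := by
  obtain ⟨π, hπ⟩ := IsDiscreteValuationRing.exists_irreducible A
  refine ⟨π, hπ.ne_zero, ?_, hV.2 π ?_⟩
  · intro h
    exact hπ.ne_zero (FaithfulSMul.algebraMap_injective A L (by rw [h, map_zero]))
  · rw [IsLocalRing.mem_maximalIdeal]; exact hπ.not_isUnit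

theorem primeOf_ne_bot (V : ValuationSubring L) (hV : EtRam.Dominates A (algebraMap A L) V) :
    primeOf (B := B) V hV ≠ ⊥ := by
  obtain ⟨π, -, h2, h3⟩ := exists_pi_mem V hV
  intro h
  have : algebraMap A B π ∈ primeOf (B := B) V hV := by
    rw [mem_primeOf, ← IsScalarTower.algebraMap_apply]; exact h3
  rw [h, Ideal.mem_bot] at this
  apply h2
  rw [IsScalarTower.algebraMap_apply A B L, this, map_zero]

theorem ne_top_of_dominates (V : ValuationSubring L) (hV : EtRam.Dominates A (algebraMap A L) V) :
    V ≠ ⊤ := by
  obtain ⟨π, -, h2, h3⟩ := exists_pi_mem V hV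
  intro h
  have : (algebraMap A L π)⁻¹ ∈ V := by rw [h]; trivial
  have h4 := (ValuationSubring.valuation_le_one_iff V _).mpr this
  rw [map_inv₀] at h4
  have h5 : V.valuation (algebraMap A L π) ≠ 0 := by
    rw [ne_eq, map_eq_zero]; exact h2
  have : V.valuation (algebraMap A L π) * (V.valuation (algebraMap A L π))⁻¹ < 1 * 1 := by
    calc _ ≤ V.valuation (algebraMap A L π) * 1 := mul_le_mul' le_rfl h4
      _ = V.valuation (algebraMap A L π) := mul_one _
      _ < 1 * 1 := by rw [mul_one]; exact h3
  rw [mul_inv_cancel₀ h5, mul_one] at this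
  exact lt_irrefl _ this

/-- the height one prime attached to a dominating valuation subring -/
def wOf (V : ValuationSubring L) (hV : EtRam.Dominates A (algebraMap A L) V) :
    HeightOneSpectrum B :=
  ⟨primeOf V hV, inferInstance, primeOf_ne_bot V hV⟩

@[simp] theorem wOf_asIdeal (V : ValuationSubring L) (hV : EtRam.Dominates A (algebraMap A L) V) :
    (wOf (B := B) V hV).asIdeal = primeOf V hV := rfl

theorem eq_valuationSubring (V : ValuationSubring L) (hV : EtRam.Dominates A (algebraMap A L) V) :
    V = ((wOf (B := B) V hV).valuation L).valuationSubring := by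
  rw [← HeightOneSpectrum.valuationSubringAtPrime_eq_valuationSubring]
  symm
  refine ValuationSubring.eq_of_le_of_ne_top _ ?_ (ne_top_of_dominates V hV)
  rintro x ⟨a, s, hs, rfl⟩
  have hs' : V.valuation (algebraMap B L s) = 1 := by
    have h1 : ¬ V.valuation (algebraMap B L s) < 1 := fun h => hs ((mem_primeOf V hV s).mpr h)
    have h2 : V.valuation (algebraMap B L s) ≤ 1 :=
      (ValuationSubring.valuation_le_one_iff V _).mpr (algebraMap_mem V hV s)
    exact le_antisymm h2 (not_lt.mp h1)
  rw [← ValuationSubring.valuation_le_one_iff, map_mul, map_inv₀, hs', inv_one, mul_one,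
    ValuationSubring.valuation_le_one_iff]
  exact algebraMap_mem V hV a

end Dict

section Vw

variable {A L B : Type u} [CommRing A] [IsDomain A] [IsDiscreteValuationRing A]
  [Field L] [Algebra A L]
  [CommRing B] [IsDedekindDomain B] [Algebra A B] [Algebra B L] [IsScalarTower A B L]
  [IsFractionRing B L]

/-- the valuation subring of a height one prime -/
noncomputable def Vw (w : HeightOneSpectrum B) : ValuationSubring L :=
  (w.valuation L).valuationSubring

theorem mem_Vw (w : HeightOneSpectrum B) (x : L) : x ∈ Vw (L := L) w ↔ w.valuation L x ≤ 1 :=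
  Iff.rfl

theorem Vw_val_lt_one (w : HeightOneSpectrum B) (x : L) :
    (Vw (L := L) w).valuation x < 1 ↔ w.valuation L x < 1 :=
  ((Valuation.isEquiv_valuation_valuationSubring (w.valuation L)).lt_one_iff_lt_one).symm

theorem Vw_val_eq_one (w : HeightOneSpectrum B) (x : L) :
    (Vw (L := L) w).valuation x = 1 ↔ w.valuation L x = 1 :=
  ((Valuation.isEquiv_valuation_valuationSubring (w.valuation L)).eq_one_iff_eq_one).symm

theorem algebraMap_mem_Vw (w : HeightOneSpectrum B) (b : B) : algebraMap B L b ∈ Vw (L := L) w :=
  w.valuation_le_one b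

theorem algebraMap_mem_Vw' (w : HeightOneSpectrum B) (a : A) :
    algebraMap A L a ∈ Vw (L := L) w := by
  rw [IsScalarTower.algebraMap_apply A B L]; exact algebraMap_mem_Vw w _

theorem dominates_Vw (w : HeightOneSpectrum B) [w.asIdeal.LiesOver (maximalIdeal A)] :
    EtRam.Dominates A (algebraMap A L) (Vw (L := L) w) := by
  refine ⟨algebraMap_mem_Vw' w, fun a ha => ?_⟩
  rw [Vw_val_lt_one, IsScalarTower.algebraMap_apply A B L, HeightOneSpectrum.valuation_lt_one_iff_mem]
  exact (Ideal.mem_of_liesOver w.asIdeal (maximalIdeal A) a).mp ha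

end Vw

section Dict2

variable {A L B : Type u} [CommRing A] [IsDomain A] [IsDiscreteValuationRing A]
  [Field L] [Algebra A L]
  [CommRing B] [IsDedekindDomain B] [Algebra A B] [Algebra B L] [IsScalarTower A B L]
  [IsFractionRing B L] [IsIntegralClosure B A L] [FaithfulSMul A L]

variable (B) in
theorem exists_w (V : ValuationSubring L) (hV : EtRam.Dominates A (algebraMap A L) V) :
    ∃ w : HeightOneSpectrum B, w.asIdeal.LiesOver (maximalIdeal A) ∧ V = Vw w :=
  ⟨wOf V hV, primeOf_liesOver V hV, eq_valuationSubring V hV⟩

end Dict2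

end DvrExt

end Groth.Agent.Lib.helper10
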