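import Groth.Agent.Lib.Helper10.DvrExt1

/-!
Finite separable extensions of the fraction field of a discrete valuation ring (helper10), part 2:
ramification index and weak unramifiedness.
-/

set_option autoImplicit false
set_option linter.unusedSectionVars false
set_option linter.style.haveILetI false

universe u

open IsDedekindDomain IsLocalRing

namespace Groth.Agent.Lib.helper10

namespace DvrExt

theorem lt_one_iff_le_exp_neg_one (γ : WithZero (Multiplicative ℤ)) :
    γ < 1 ↔ γ ≤ WithZero.exp (-1 : ℤ) := by
  rw [← WithZero.lt_mul_exp_iff_le WithZero.exp_ne_zero, ← WithZero.exp_add, neg_add_cancel,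
    WithZero.exp_zero]

section Num

variable {A L B : Type u} [CommRing A] [IsDomain A] [IsDiscreteValuationRing A]
  [Field L] [Algebra A L]
  [CommRing B] [IsDedekindDomain B] [Algebra A B] [Algebra B L] [IsScalarTower A B L]
  [IsFractionRing B L] [Module.IsTorsionFree A B]

variable (A) in
/-- the height one prime of a DVR -/
def vA : HeightOneSpectrum A :=
  ⟨maximalIdeal A, inferInstance, IsDiscreteValuationRing.not_a_field A⟩

variable (A) in
/-- ramification index -/
noncomputable def eOf (w : HeightOneSpectrum B) : ℕ :=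
  (maximalIdeal A).ramificationIdx' w.asIdeal

theorem pi_ne_zero {π : A} (hπ : maximalIdeal A = Ideal.span {π}) : π ≠ 0 := by
  rintro rfl
  apply IsDiscreteValuationRing.not_a_field A
  rw [hπ]; simp

theorem val_pi (w : HeightOneSpectrum B) [w.asIdeal.LiesOver (maximalIdeal A)] {π : A}
    (hπ : maximalIdeal A = Ideal.span {π}) :
    w.valuation L (algebraMap A L π) = WithZero.exp (-(eOf A w : ℤ)) := by
  haveI : w.asIdeal.LiesOver (vA A).asIdeal := ‹_›
  rw [IsScalarTower.algebraMap_apply A B L, HeightOneSpectrum.valuation_of_algebraMap,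
    ← HeightOneSpectrum.intValuation_liesOver (vA A) w π,
    HeightOneSpectrum.intValuation_singleton (vA A) (pi_ne_zero hπ) hπ, ← WithZero.exp_nsmul]
  congr 1
  simp [eOf, vA]

theorem val_unit (w : HeightOneSpectrum B) (a : Aˣ) :
    w.valuation L (algebraMap A L (a : A)) = 1 := by
  rw [IsScalarTower.algebraMap_apply A B L, HeightOneSpectrum.valuation_of_algebraMap,
    HeightOneSpectrum.intValuation_eq_one_iff_mem_primeCompl]
  intro h
  have hu : IsUnit (algebraMap A B (a : A)) := (a.isUnit).map (algebraMap A B)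
  exact w.isPrime.ne_top (Ideal.eq_top_of_isUnit_mem _ h hu)

theorem weaklyUnramified (w : HeightOneSpectrum B) [w.asIdeal.LiesOver (maximalIdeal A)] {π : A}
    (hπ : maximalIdeal A = Ideal.span {π}) (he : eOf A w = 1)
    (h : ∀ a, algebraMap A L a ∈ Vw (L := L) w) :
    letI : Algebra A (Vw (L := L) w) :=
      (RingHom.codRestrict (algebraMap A L) (Vw (L := L) w) h).toAlgebra
    EtRam.IsWeaklyUnramified A (Vw (L := L) w) := by
  letI : Algebra A (Vw (L := L) w) :=
    (RingHom.codRestrict (algebraMap A L) (Vw (L := L) w) h).toAlgebra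
  have hvπ : w.valuation L (algebraMap A L π) = WithZero.exp (-1 : ℤ) := by
    rw [val_pi w hπ, he]; rfl
  unfold EtRam.IsWeaklyUnramified
  rw [hπ, Ideal.map_span, Set.image_singleton]
  apply le_antisymm
  · rw [Ideal.span_le, Set.singleton_subset_iff, SetLike.mem_coe,
      ValuationSubring.valuation_lt_one_iff, Vw_val_lt_one]
    show w.valuation L (algebraMap A L π) < 1
    rw [hvπ, lt_one_iff_le_exp_neg_one]
  · intro x hx
    rw [ValuationSubring.valuation_lt_one_iff, Vw_val_lt_one, lt_one_iff_le_exp_neg_one,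
      ← hvπ] at hx
    have hπ0 : algebraMap A L π ≠ 0 := by
      intro h0; rw [h0, map_zero] at hvπ; exact WithZero.exp_ne_zero hvπ.symm
    have hy : (x : L) / algebraMap A L π ∈ Vw (L := L) w := by
      rw [mem_Vw, map_div₀]
      exact div_le_one_of_le₀ hx zero_le
    rw [Ideal.mem_span_singleton']
    refine ⟨⟨_, hy⟩, Subtype.ext ?_⟩
    show (x : L) / algebraMap A L π * algebraMap A L π = x
    exact div_mul_cancel₀ _ hπ0

end Num

section Res

variable {A L B : Type u} [CommRing A] [IsDomain A] [IsDiscreteValuationRing A]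
  [Field L] [Algebra A L]
  [CommRing B] [IsDedekindDomain B] [Algebra A B] [Algebra B L] [IsScalarTower A B L]
  [IsFractionRing B L]

/-- inclusion of `B` into the valuation subring of a height one prime -/
noncomputable def inclw (w : HeightOneSpectrum B) : B →+* Vw (L := L) w :=
  RingHom.codRestrict (algebraMap B L) _ (algebraMap_mem_Vw w)

@[simp] theorem inclw_coe (w : HeightOneSpectrum B) (b : B) :
    ((inclw (L := L) w b : Vw (L := L) w) : L) = algebraMap B L b := rfl

theorem residue_inclw_eq_zero_iff (w : HeightOneSpectrum B) (b : B) :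
    residue (Vw (L := L) w) (inclw w b) = 0 ↔ b ∈ w.asIdeal := by
  rw [residue_eq_zero_iff, ValuationSubring.valuation_lt_one_iff, Vw_val_lt_one, inclw_coe,
    HeightOneSpectrum.valuation_lt_one_iff_mem]

/-- the map `B/P → κ(V_P)` -/
noncomputable def resMap (w : HeightOneSpectrum B) :
    B ⧸ w.asIdeal →+* ResidueField (Vw (L := L) w) :=
  Ideal.Quotient.lift w.asIdeal ((residue _).comp (inclw w))
    (fun b hb => (residue_inclw_eq_zero_iff w b).mpr hb)

@[simp] theorem resMap_mk (w : HeightOneSpectrum B) (b : B) :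
    resMap (L := L) w (Ideal.Quotient.mk _ b) = residue _ (inclw w b) := rfl

theorem resMap_bijective (w : HeightOneSpectrum B) : Function.Bijective (resMap (L := L) w) := by
  constructor
  · rw [injective_iff_map_eq_zero]
    intro x hx
    obtain ⟨b, rfl⟩ := Ideal.Quotient.mk_surjective x
    rw [resMap_mk, residue_inclw_eq_zero_iff] at hx
    exact Ideal.Quotient.eq_zero_iff_mem.mpr hx
  · intro y
    obtain ⟨x, rfl⟩ := residue_surjective y
    obtain ⟨n, d, hnd⟩ := HeightOneSpectrum.exists_primeCompl_mul_eq_of_integer w (x : L) x.2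
    obtain ⟨t, i, hi, hti⟩ := w.isMaximal.exists_inv d.2
    refine ⟨Ideal.Quotient.mk _ (n * t), ?_⟩
    rw [resMap_mk, ← sub_eq_zero, ← map_sub, residue_eq_zero_iff,
      ValuationSubring.valuation_lt_one_iff, Vw_val_lt_one]
    have hL : ((inclw (L := L) w (n * t) - x : Vw (L := L) w) : L) =
        - ((x : L) * algebraMap B L i) := by
      have h1 : algebraMap B L t * algebraMap B L d + algebraMap B L i = 1 := by
        rw [← map_mul, ← map_add, hti, map_one]
      show algebraMap B L (n * t) - (x : L) = _
      rw [map_mul, ← hnd]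
      linear_combination (x : L) * h1
    rw [hL, Valuation.map_neg, map_mul]
    have h2 : w.valuation L (algebraMap B L i) < 1 :=
      (HeightOneSpectrum.valuation_lt_one_iff_mem w i).mpr hi
    calc w.valuation L (x : L) * w.valuation L (algebraMap B L i)
        ≤ 1 * w.valuation L (algebraMap B L i) := mul_le_mul' x.2 le_rfl
      _ = w.valuation L (algebraMap B L i) := one_mul _
      _ < 1 := h2

theorem finrank_residue (w : HeightOneSpectrum B) [w.asIdeal.LiesOver (maximalIdeal A)]
    (h : ∀ a, algebraMap A L a ∈ Vw (L := L) w) :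
    letI : Algebra A (Vw (L := L) w) :=
      (RingHom.codRestrict (algebraMap A L) (Vw (L := L) w) h).toAlgebra
    ∀ [IsLocalHom (algebraMap A (Vw (L := L) w))],
      Module.finrank (ResidueField A) (ResidueField (Vw (L := L) w)) = w.asIdeal.inertiaDeg A := by
  letI : Algebra A (Vw (L := L) w) :=
    (RingHom.codRestrict (algebraMap A L) (Vw (L := L) w) h).toAlgebra
  intro _
  haveI := w.isMaximal
  rw [Ideal.inertiaDeg_eq_of_isMaximal (maximalIdeal A) w.asIdeal]
  symm
  refine Algebra.finrank_eq_of_equiv_equiv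
    (RingEquiv.refl _ : (A ⧸ maximalIdeal A) ≃+* ResidueField A)
    (RingEquiv.ofBijective (resMap (L := L) w) (resMap_bijective w)) ?_
  apply Ideal.Quotient.ringHom_ext
  ext a
  simp only [RingHom.comp_apply]
  show algebraMap (ResidueField A) (ResidueField (Vw (L := L) w)) (residue A a) =
    resMap (L := L) w (algebraMap (A ⧸ maximalIdeal A) (B ⧸ w.asIdeal) (Ideal.Quotient.mk _ a))
  rw [IsLocalRing.ResidueField.algebraMap_residue,
    Ideal.Quotient.algebraMap_mk_of_liesOver, resMap_mk]
  congr 1
  apply Subtype.ext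
  show algebraMap A L a = algebraMap B L (algebraMap A B a)
  rw [← IsScalarTower.algebraMap_apply]

theorem residue_surjective_of_f_eq_one (w : HeightOneSpectrum B)
    [w.asIdeal.LiesOver (maximalIdeal A)]
    (h : ∀ a, algebraMap A L a ∈ Vw (L := L) w) (hf : w.asIdeal.inertiaDeg A = 1) :
    Function.Surjective (fun a : A => residue (Vw (L := L) w)
      (RingHom.codRestrict (algebraMap A L) (Vw (L := L) w) h a)) := by
  haveI := w.isMaximal
  rw [Ideal.inertiaDeg_eq_of_isMaximal (maximalIdeal A) w.asIdeal] at hf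
  letI : Field (A ⧸ maximalIdeal A) := Ideal.Quotient.field _
  letI : Field (B ⧸ w.asIdeal) := Ideal.Quotient.field _
  have hbt := Subalgebra.bot_eq_top_of_finrank_eq_one hf
  intro y
  obtain ⟨x, rfl⟩ := (resMap_bijective (L := L) w).2 y
  have hx : x ∈ (⊥ : Subalgebra (A ⧸ maximalIdeal A) (B ⧸ w.asIdeal)) := by rw [hbt]; trivial
  obtain ⟨a', rfl⟩ := Algebra.mem_bot.mp hx
  obtain ⟨a, rfl⟩ := Ideal.Quotient.mk_surjective a'
  refine ⟨a, ?_⟩
  rw [Ideal.Quotient.algebraMap_mk_of_liesOver, resMap_mk]
  show residue (Vw (L := L) w) (RingHom.codRestrict (algebraMap A L) (Vw (L := L) w) h a) = _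
  congr 1
  apply Subtype.ext
  show algebraMap A L a = algebraMap B L (algebraMap A B a)
  rw [← IsScalarTower.algebraMap_apply]

end Res

end DvrExt

end Groth.Agent.Lib.helper10
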