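import Groth.Agent.Lib.Helper10.DvrExt2

/-!
Finite separable extensions of the fraction field of a discrete valuation ring (helper10), part 3:
from numerical invariants to the ramification cases.
-/

set_option autoImplicit false
set_option linter.unusedSectionVars false
set_option linter.style.haveILetI false

universe u

open IsDedekindDomain IsLocalRing

namespace Groth.Agent.Lib.helper10

namespace DvrExt

section Fields

variable {F E : Type u} [Field F] [Field E] [Algebra F E]

theorem isSeparable_of_finrank_eq_one (h : Module.finrank F E = 1) : Algebra.IsSeparable F E := by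
  have hbt := Subalgebra.bot_eq_top_of_finrank_eq_one h
  refine ⟨fun x => ?_⟩
  have hx : x ∈ (⊥ : Subalgebra F E) := by rw [hbt]; trivial
  obtain ⟨a, rfl⟩ := Algebra.mem_bot.mp hx
  exact isSeparable_algebraMap a

theorem isPurelyInseparable_of_prime_finrank {p : ℕ} (hp : p.Prime) (h : Module.finrank F E = p)
    (hns : ¬ Algebra.IsSeparable F E) : IsPurelyInseparable F E := by
  haveI : FiniteDimensional F E := Module.finite_of_finrank_pos (by rw [h]; exact hp.pos)
  have hdvd := Field.finSepDegree_dvd_finrank F E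
  rw [h] at hdvd
  rcases (Nat.dvd_prime hp).mp hdvd with h1 | h1
  · exact (isPurelyInseparable_iff_finSepDegree_eq_one F E).mpr h1
  · exfalso
    apply hns
    rw [← Field.finSepDegree_eq_finrank_iff, h1, h]

end Fields

section Cases

variable {A L B : Type u} [CommRing A] [IsDomain A] [IsDiscreteValuationRing A]
  [Field L] [Algebra A L]
  [CommRing B] [IsDedekindDomain B] [Algebra A B] [Algebra B L] [IsScalarTower A B L]
  [IsFractionRing B L] [IsIntegralClosure B A L] [FaithfulSMul A L] [Module.IsTorsionFree A B]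

variable (A L) in
/-- case 4 of the ramification analysis -/
def Case4 (p : ℕ) : Prop :=
  (∃ V : ValuationSubring L, EtRam.Dominates A (algebraMap A L) V) ∧
  (∀ V V' : ValuationSubring L, EtRam.Dominates A (algebraMap A L) V →
    EtRam.Dominates A (algebraMap A L) V' → V = V') ∧
  ∀ (V : ValuationSubring L) (h : EtRam.Dominates A (algebraMap A L) V),
    letI : Algebra A V := (RingHom.codRestrict (algebraMap A L) V h.1).toAlgebra
    ∀ [IsLocalHom (algebraMap A V)],
      EtRam.IsWeaklyUnramified A V ∧ IsPurelyInseparable (ResidueField A) (ResidueField V) ∧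
        Module.finrank (ResidueField A) (ResidueField V) = p

variable (A L) in
/-- separable residue field extension at `w` -/
def SepAt (w : HeightOneSpectrum B) : Prop :=
  ∀ (h : ∀ a, algebraMap A L a ∈ Vw (L := L) w),
    letI : Algebra A (Vw (L := L) w) :=
      (RingHom.codRestrict (algebraMap A L) (Vw (L := L) w) h).toAlgebra
    ∀ [IsLocalHom (algebraMap A (Vw (L := L) w))],
      Algebra.IsSeparable (ResidueField A) (ResidueField (Vw (L := L) w))

theorem sepAt_of_f_eq_one (w : HeightOneSpectrum B) [w.asIdeal.LiesOver (maximalIdeal A)]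
    (hf : w.asIdeal.inertiaDeg A = 1) : SepAt A L w := by
  intro h
  letI : Algebra A (Vw (L := L) w) :=
    (RingHom.codRestrict (algebraMap A L) (Vw (L := L) w) h).toAlgebra
  intro _
  apply isSeparable_of_finrank_eq_one
  rw [finrank_residue w h, hf]

variable (B) in
theorem unramified_of
    (he : ∀ w : HeightOneSpectrum B, w.asIdeal.LiesOver (maximalIdeal A) → eOf A w = 1)
    (hs : ∀ w : HeightOneSpectrum B, w.asIdeal.LiesOver (maximalIdeal A) → SepAt A L w) :
    EtRam.IsUnramifiedExt A (algebraMap A L) := by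
  obtain ⟨π, hπ⟩ := IsDiscreteValuationRing.exists_irreducible A
  have hm := hπ.maximalIdeal_eq
  intro V hV
  obtain ⟨w, hw, rfl⟩ := exists_w B V hV
  intro _
  exact ⟨weaklyUnramified w hm (he w hw) hV.1, hs w hw hV.1⟩

variable (B) in
theorem totallyRamified_of
    (hne : ∃ w : HeightOneSpectrum B, w.asIdeal.LiesOver (maximalIdeal A))
    (huniq : ∀ w w' : HeightOneSpectrum B, w.asIdeal.LiesOver (maximalIdeal A) →
      w'.asIdeal.LiesOver (maximalIdeal A) → w = w')
    (hf : ∀ w : HeightOneSpectrum B, w.asIdeal.LiesOver (maximalIdeal A) →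
      w.asIdeal.inertiaDeg A = 1) :
    EtRam.IsTotallyRamified A (algebraMap A L) := by
  refine ⟨?_, ?_, ?_⟩
  · obtain ⟨w, hw⟩ := hne
    exact ⟨Vw w, dominates_Vw w⟩
  · intro V V' hV hV'
    obtain ⟨w, hw, rfl⟩ := exists_w B V hV
    obtain ⟨w', hw', rfl⟩ := exists_w B V' hV'
    rw [huniq w w' hw hw']
  · intro V hV
    obtain ⟨w, hw, rfl⟩ := exists_w B V hV
    exact residue_surjective_of_f_eq_one w hV.1 (hf w hw)

variable (B) in
theorem case4_of {p : ℕ} (hp : p.Prime)
    (hne : ∃ w : HeightOneSpectrum B, w.asIdeal.LiesOver (maximalIdeal A))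
    (huniq : ∀ w w' : HeightOneSpectrum B, w.asIdeal.LiesOver (maximalIdeal A) →
      w'.asIdeal.LiesOver (maximalIdeal A) → w = w')
    (he : ∀ w : HeightOneSpectrum B, w.asIdeal.LiesOver (maximalIdeal A) → eOf A w = 1)
    (hf : ∀ w : HeightOneSpectrum B, w.asIdeal.LiesOver (maximalIdeal A) →
      w.asIdeal.inertiaDeg A = p)
    (hns : ∀ w : HeightOneSpectrum B, w.asIdeal.LiesOver (maximalIdeal A) → ¬ SepAt A L w) :
    Case4 A L p := by
  obtain ⟨π, hπ⟩ := IsDiscreteValuationRing.exists_irreducible A
  have hm := hπ.maximalIdeal_eq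
  refine ⟨?_, ?_, ?_⟩
  · obtain ⟨w, hw⟩ := hne
    exact ⟨Vw w, dominates_Vw w⟩
  · intro V V' hV hV'
    obtain ⟨w, hw, rfl⟩ := exists_w B V hV
    obtain ⟨w', hw', rfl⟩ := exists_w B V' hV'
    rw [huniq w w' hw hw']
  · intro V hV
    obtain ⟨w, hw, rfl⟩ := exists_w B V hV
    letI : Algebra A (Vw (L := L) w) :=
      (RingHom.codRestrict (algebraMap A L) (Vw (L := L) w) hV.1).toAlgebra
    intro _
    have hfr : Module.finrank (ResidueField A) (ResidueField (Vw (L := L) w)) = p := by
      rw [finrank_residue w hV.1, hf w hw]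
    refine ⟨weaklyUnramified w hm (he w hw) hV.1, ?_, hfr⟩
    exact isPurelyInseparable_of_prime_finrank hp hfr
      (fun hsep => hns w hw (fun _ _ => hsep))

end Cases

end DvrExt

end Groth.Agent.Lib.helper10
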