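import Groth.Agent.Lib.Helper10.DvrExt3

/-!
Finite separable extensions of the fraction field of a discrete valuation ring (helper10), part 4:
Galois automorphisms and the unique valuation subring; numerics from the Galois formula.
-/

set_option autoImplicit false
set_option linter.unusedSectionVars false
set_option linter.style.haveILetI false

universe u

open IsDedekindDomain IsLocalRing

namespace Groth.Agent.Lib.helper10

namespace DvrExt

section Sigma

variable {A K L B : Type u} [CommRing A] [IsDomain A] [IsDiscreteValuationRing A]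
  [Field K] [Algebra A K] [IsFractionRing A K]
  [Field L] [Algebra K L] [Algebra A L] [IsScalarTower A K L]
  [CommRing B] [IsDedekindDomain B] [Algebra A B] [Algebra B L] [IsScalarTower A B L]
  [IsFractionRing B L] [IsIntegralClosure B A L] [FaithfulSMul A L]

theorem sigma_algebraMap (σ : L ≃ₐ[K] L) (a : A) : σ (algebraMap A L a) = algebraMap A L a := by
  rw [IsScalarTower.algebraMap_apply A K L, σ.commutes]

theorem sigma_mem (w : HeightOneSpectrum B) [w.asIdeal.LiesOver (maximalIdeal A)]
    (huniq : ∀ w' : HeightOneSpectrum B, w'.asIdeal.LiesOver (maximalIdeal A) → w' = w)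
    (σ : L ≃ₐ[K] L) (x : L) : σ x ∈ Vw (L := L) w ↔ x ∈ Vw (L := L) w := by
  have hdom := dominates_Vw (A := A) (L := L) w
  have hW : EtRam.Dominates A (algebraMap A L)
      ((Vw (L := L) w).comap (σ : L →+* L)) := by
    refine ⟨fun a => ?_, fun a ha => ?_⟩
    · rw [ValuationSubring.mem_comap]
      show σ (algebraMap A L a) ∈ _
      rw [sigma_algebraMap]; exact hdom.1 a
    · rw [← ValuationSubring.mem_nonunits_iff, ValuationSubring.mem_nonunits_iff_or]
      have h1 := hdom.2 a ha
      rw [← ValuationSubring.mem_nonunits_iff, ValuationSubring.mem_nonunits_iff_or] at h1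
      rcases h1 with h1 | h1
      · exact Or.inl h1
      · right
        rw [ValuationSubring.mem_comap]
        show ¬ σ ((algebraMap A L a)⁻¹) ∈ _
        rw [map_inv₀, sigma_algebraMap]; exact h1
  obtain ⟨w', hw', hW'⟩ := exists_w B _ hW
  rw [huniq w' hw'] at hW'
  have h2 : ∀ y, y ∈ (Vw (L := L) w).comap (σ : L →+* L) ↔ y ∈ Vw (L := L) w :=
    fun y => by rw [hW']
  exact (ValuationSubring.mem_comap (A := Vw (L := L) w) (f := (σ : L →+* L)) (x := x)).symm.trans
    (h2 x)

theorem sigma_val_lt_one (w : HeightOneSpectrum B) [w.asIdeal.LiesOver (maximalIdeal A)]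
    (huniq : ∀ w' : HeightOneSpectrum B, w'.asIdeal.LiesOver (maximalIdeal A) → w' = w)
    (σ : L ≃ₐ[K] L) (x : L) : w.valuation L (σ x) < 1 ↔ w.valuation L x < 1 := by
  rw [← Vw_val_lt_one, ← Vw_val_lt_one, ← ValuationSubring.mem_nonunits_iff,
    ← ValuationSubring.mem_nonunits_iff, ValuationSubring.mem_nonunits_iff_or,
    ValuationSubring.mem_nonunits_iff_or, ← map_inv₀, sigma_mem w huniq σ]
  simp

theorem not_isPurelyInseparable_of_moved (w : HeightOneSpectrum B)
    [w.asIdeal.LiesOver (maximalIdeal A)]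
    (huniq : ∀ w' : HeightOneSpectrum B, w'.asIdeal.LiesOver (maximalIdeal A) → w' = w)
    (σ : L ≃ₐ[K] L) (z : L) (hz : z ∈ Vw (L := L) w) (hd : w.valuation L (σ z - z) = 1)
    (q : ℕ) [ExpChar (ResidueField A) q] (h : ∀ a, algebraMap A L a ∈ Vw (L := L) w) :
    letI : Algebra A (Vw (L := L) w) :=
      (RingHom.codRestrict (algebraMap A L) (Vw (L := L) w) h).toAlgebra
    ∀ [IsLocalHom (algebraMap A (Vw (L := L) w))],
      ¬ IsPurelyInseparable (ResidueField A) (ResidueField (Vw (L := L) w)) := by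
  letI : Algebra A (Vw (L := L) w) :=
    (RingHom.codRestrict (algebraMap A L) (Vw (L := L) w) h).toAlgebra
  intro _ hpi
  haveI : ExpChar (ResidueField (Vw (L := L) w)) q :=
    expChar_of_injective_algebraMap
      (algebraMap (ResidueField A) (ResidueField (Vw (L := L) w))).injective q
  let zV : Vw (L := L) w := ⟨z, hz⟩
  let sV : Vw (L := L) w := ⟨σ z, (sigma_mem w huniq σ z).mpr hz⟩
  obtain ⟨n, ā, hā⟩ := IsPurelyInseparable.pow_mem (ResidueField A) q (residue _ zV)
  obtain ⟨a, rfl⟩ := residue_surjective ā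
  rw [IsLocalRing.ResidueField.algebraMap_residue] at hā
  -- `z ^ (q ^ n) - a` is a non-unit
  have h1 : w.valuation L (z ^ q ^ n - algebraMap A L a) < 1 := by
    have : residue (Vw (L := L) w) (zV ^ q ^ n - algebraMap A (Vw (L := L) w) a) = 0 := by
      rw [map_sub, map_pow, hā, sub_self]
    rw [residue_eq_zero_iff, ValuationSubring.valuation_lt_one_iff, Vw_val_lt_one] at this
    exact this
  have h2 : w.valuation L ((σ z) ^ q ^ n - algebraMap A L a) < 1 := by
    have := (sigma_val_lt_one w huniq σ (z ^ q ^ n - algebraMap A L a)).mpr h1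
    rwa [map_sub, map_pow, sigma_algebraMap] at this
  have h3 : residue (Vw (L := L) w) sV ^ q ^ n = residue (Vw (L := L) w) zV ^ q ^ n := by
    have : residue (Vw (L := L) w) (sV ^ q ^ n - algebraMap A (Vw (L := L) w) a) = 0 := by
      rw [residue_eq_zero_iff, ValuationSubring.valuation_lt_one_iff, Vw_val_lt_one]
      exact h2
    rw [map_sub, map_pow, sub_eq_zero] at this
    rw [this, hā]
  have h4 : residue (Vw (L := L) w) (sV - zV) = 0 := by
    have : (residue (Vw (L := L) w) sV - residue (Vw (L := L) w) zV) ^ q ^ n = 0 := by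
      rw [sub_pow_expChar_pow, h3, sub_self]
    rw [map_sub]
    exact pow_eq_zero_iff (pow_ne_zero _ (expChar_ne_zero (ResidueField A) q)) |>.mp this
  rw [residue_eq_zero_iff, ValuationSubring.valuation_lt_one_iff, Vw_val_lt_one] at h4
  have h5 : w.valuation L (σ z - z) < 1 := h4
  rw [hd] at h5
  exact lt_irrefl _ h5

end Sigma

section Numerics

variable (A K L B : Type u) [CommRing A] [IsDomain A] [IsDiscreteValuationRing A]
  [Field K] [Algebra A K] [IsFractionRing A K]
  [Field L] [Algebra K L] [Algebra A L] [IsScalarTower A K L]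
  [CommRing B] [IsDedekindDomain B] [Algebra A B] [Algebra B L] [IsScalarTower A B L]
  [IsFractionRing B L] [IsIntegralClosure B A L] [FaithfulSMul A L] [Module.IsTorsionFree A B]
  [Module.Finite A B] [FiniteDimensional K L] [IsGalois K L]

theorem numerics : ∃ g e f : ℕ, g * (e * f) = Module.finrank K L ∧
    (∃ w : HeightOneSpectrum B, w.asIdeal.LiesOver (maximalIdeal A)) ∧
    (g = 1 → ∀ w w' : HeightOneSpectrum B, w.asIdeal.LiesOver (maximalIdeal A) →
      w'.asIdeal.LiesOver (maximalIdeal A) → w = w') ∧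
    (∀ w : HeightOneSpectrum B, w.asIdeal.LiesOver (maximalIdeal A) →
      eOf A w = e ∧ w.asIdeal.inertiaDeg A = f) := by
  haveI : Algebra.IsIntegral A B := IsIntegralClosure.isIntegral_algebra A L
  letI : MulSemiringAction Gal(L/K) B := IsIntegralClosure.MulSemiringAction A K L B
  haveI : IsGaloisGroup Gal(L/K) A B := IsGaloisGroup.of_isFractionRing _ _ _ K L
  have hm0 : maximalIdeal A ≠ ⊥ := IsDiscreteValuationRing.not_a_field A
  refine ⟨((maximalIdeal A).primesOver B).ncard, (maximalIdeal A).ramificationIdxIn B,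
    (maximalIdeal A).inertiaDegIn B, ?_, ?_, ?_, ?_⟩
  · rw [Ideal.ncard_primesOver_mul_ramificationIdxIn_mul_inertiaDegIn (maximalIdeal A) B Gal(L/K),
      IsGalois.card_aut_eq_finrank]
  · obtain ⟨⟨P, hP1, hP2⟩⟩ := Ideal.nonempty_primesOver (S := B) (maximalIdeal A)
    exact ⟨⟨P, hP1, Ideal.ne_bot_of_liesOver_of_ne_bot hm0 P⟩, hP2⟩
  · intro h1 w w' hw hw'
    obtain ⟨a, ha⟩ := Set.ncard_eq_one.mp h1
    have h2 : w.asIdeal ∈ (maximalIdeal A).primesOver B := ⟨w.isPrime, hw⟩
    have h3 : w'.asIdeal ∈ (maximalIdeal A).primesOver B := ⟨w'.isPrime, hw'⟩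
    rw [ha, Set.mem_singleton_iff] at h2 h3
    exact HeightOneSpectrum.ext (h2.trans h3.symm)
  · intro w hw
    haveI := w.isPrime
    constructor
    · rw [Ideal.ramificationIdxIn_eq_ramificationIdx (maximalIdeal A) w.asIdeal Gal(L/K)]
      exact Ideal.ramificationIdx'_eq_ramificationIdx (maximalIdeal A) w.asIdeal hm0
    · rw [Ideal.inertiaDegIn_eq_inertiaDeg (maximalIdeal A) w.asIdeal Gal(L/K)]

end Numerics

end DvrExt

end Groth.Agent.Lib.helper10
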