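import Groth.Agent.Lib.Helper10.DvrExt4

/-!
Finite separable extensions of the fraction field of a discrete valuation ring (helper10), part 5:
the master case analysis for Galois extensions of degree `1` or `p`.
-/

set_option autoImplicit false
set_option linter.unusedSectionVars false
set_option linter.style.haveILetI false

universe u

open IsDedekindDomain IsLocalRing

namespace Groth.Agent.Lib.helper10

namespace DvrExt

theorem isPurelyInseparable_of_finrank_eq_one {F E : Type u} [Field F] [Field E] [Algebra F E]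
    (h : Module.finrank F E = 1) : IsPurelyInseparable F E := by
  haveI : FiniteDimensional F E := Module.finite_of_finrank_pos (by rw [h]; exact one_pos)
  have hdvd := Field.finSepDegree_dvd_finrank F E
  rw [h] at hdvd
  exact (isPurelyInseparable_iff_finSepDegree_eq_one F E).mpr (Nat.dvd_one.mp hdvd)

theorem arith_prime {p g e f : ℕ} (hp : p.Prime) (h : g * (e * f) = p) :
    (g = p ∧ e = 1 ∧ f = 1) ∨ (g = 1 ∧ e = p ∧ f = 1) ∨ (g = 1 ∧ e = 1 ∧ f = p) := by
  have hg : g ∣ p := ⟨e * f, h.symm⟩
  rcases (Nat.dvd_prime hp).mp hg with rfl | rfl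
  · rw [one_mul] at h
    have he : e ∣ p := ⟨f, h.symm⟩
    rcases (Nat.dvd_prime hp).mp he with rfl | rfl
    · rw [one_mul] at h
      exact Or.inr (Or.inr ⟨rfl, rfl, h⟩)
    · have : f = 1 := by
        have := Nat.eq_of_mul_eq_mul_left hp.pos (h.trans (mul_one e).symm)
        exact this
      exact Or.inr (Or.inl ⟨rfl, rfl, this⟩)
  · have : e * f = 1 := Nat.eq_of_mul_eq_mul_left hp.pos (h.trans (mul_one g).symm)
    exact Or.inl ⟨rfl, Nat.eq_one_of_mul_eq_one_right this, Nat.eq_one_of_mul_eq_one_left this⟩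

section LocalHom

variable {A L : Type u} [CommRing A] [IsLocalRing A] [Field L] [Algebra A L]

theorem isLocalHom_of_dominates (V : ValuationSubring L)
    (hV : EtRam.Dominates A (algebraMap A L) V) :
    letI : Algebra A V := (RingHom.codRestrict (algebraMap A L) V hV.1).toAlgebra
    IsLocalHom (algebraMap A V) := by
  letI : Algebra A V := (RingHom.codRestrict (algebraMap A L) V hV.1).toAlgebra
  constructor
  intro a ha
  by_contra hna
  have h1 := hV.2 a ((IsLocalRing.mem_maximalIdeal a).mpr hna)
  have h2 := (ValuationSubring.valuation_eq_one_iff V _).mp ha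
  have h3 : ((algebraMap A V a : V) : L) = algebraMap A L a := rfl
  rw [h3] at h2
  rw [h2] at h1
  exact lt_irrefl _ h1

end LocalHom

section Master

variable (A K L B : Type u) [CommRing A] [IsDomain A] [IsDiscreteValuationRing A]
  [Field K] [Algebra A K] [IsFractionRing A K]
  [Field L] [Algebra K L] [Algebra A L] [IsScalarTower A K L]
  [CommRing B] [IsDedekindDomain B] [Algebra A B] [Algebra B L] [IsScalarTower A B L]
  [IsFractionRing B L] [IsIntegralClosure B A L] [FaithfulSMul A L] [Module.IsTorsionFree A B]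
  [Module.Finite A B] [FiniteDimensional K L] [IsGalois K L]

theorem master {p : ℕ} (hp : p.Prime) [CharP (ResidueField A) p]
    (hfr : Module.finrank K L = 1 ∨ Module.finrank K L = p) :
    (Module.finrank K L = 1 ∨
      (EtRam.IsUnramifiedExt A (algebraMap A L) ∧ Module.finrank K L = p) ∨
      (EtRam.IsTotallyRamified A (algebraMap A L) ∧ Module.finrank K L = p) ∨
      Case4 A L p) ∧
    ((∃ (z : L) (σ : L ≃ₐ[K] L), IsIntegral A z ∧ ∀ w : HeightOneSpectrum B,
        w.asIdeal.LiesOver (maximalIdeal A) → w.valuation L (σ z - z) = 1) →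
      Module.finrank K L = 1 ∨
        (EtRam.IsUnramifiedExt A (algebraMap A L) ∧ Module.finrank K L = p)) ∧
    ((∀ w : HeightOneSpectrum B, w.asIdeal.LiesOver (maximalIdeal A) → p ∣ eOf A w) →
      (EtRam.IsTotallyRamified A (algebraMap A L) ∧ Module.finrank K L = p)) ∧
    ((∀ w : HeightOneSpectrum B, w.asIdeal.LiesOver (maximalIdeal A) →
        (p ∣ w.asIdeal.inertiaDeg A ∧ ¬ SepAt A L w)) → Case4 A L p) := by
  haveI : ExpChar (ResidueField A) p := ExpChar.prime hp
  obtain ⟨g, e, f, hform, ⟨w₀, hw₀⟩, huniq, hw⟩ := numerics A K L B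
  -- consequences of the three numerical types
  have T1 : e = 1 → f = 1 → EtRam.IsUnramifiedExt A (algebraMap A L) := fun he hf =>
    unramified_of B (fun w hw' => (hw w hw').1.trans he)
      (fun w hw' => sepAt_of_f_eq_one w ((hw w hw').2.trans hf))
  have T2 : g = 1 → f = 1 → EtRam.IsTotallyRamified A (algebraMap A L) := fun hg hf =>
    totallyRamified_of B ⟨w₀, hw₀⟩ (huniq hg) (fun w hw' => (hw w hw').2.trans hf)
  have T3s : g = 1 → e = 1 → SepAt A L w₀ → EtRam.IsUnramifiedExt A (algebraMap A L) :=
    fun hg he hs => unramified_of B (fun w hw' => (hw w hw').1.trans he)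
      (fun w hw' => by rw [huniq hg w w₀ hw' hw₀]; exact hs)
  have T3n : g = 1 → e = 1 → f = p → ¬ SepAt A L w₀ → Case4 A L p := fun hg he hf hs =>
    case4_of B hp ⟨w₀, hw₀⟩ (huniq hg) (fun w hw' => (hw w hw').1.trans he)
      (fun w hw' => (hw w hw').2.trans hf)
      (fun w hw' => by rw [huniq hg w w₀ hw' hw₀]; exact hs)
  refine ⟨?_, ?_, ?_, ?_⟩
  · rcases hfr with h1 | h1
    · exact Or.inl h1
    · rw [h1] at hform
      rcases arith_prime hp hform with ⟨-, he, hf⟩ | ⟨hg, -, hf⟩ | ⟨hg, he, hf⟩
      · exact Or.inr (Or.inl ⟨T1 he hf, h1⟩)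
      · exact Or.inr (Or.inr (Or.inl ⟨T2 hg hf, h1⟩))
      · by_cases hs : SepAt A L w₀
        · exact Or.inr (Or.inl ⟨T3s hg he hs, h1⟩)
        · exact Or.inr (Or.inr (Or.inr (T3n hg he hf hs)))
  · rintro ⟨z, σ, hz, hd⟩
    rcases hfr with h1 | h1
    · exact Or.inl h1
    · right
      refine ⟨?_, h1⟩
      rw [h1] at hform
      rcases arith_prime hp hform with ⟨-, he, hf⟩ | ⟨hg, he, hf⟩ | ⟨hg, he, hf⟩
      · exact T1 he hf
      · exfalso
        have h := (dominates_Vw (A := A) (L := L) w₀).1
        letI : Algebra A (Vw (L := L) w₀) :=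
          (RingHom.codRestrict (algebraMap A L) (Vw (L := L) w₀) h).toAlgebra
        haveI : IsLocalHom (algebraMap A (Vw (L := L) w₀)) :=
          isLocalHom_of_dominates _ (dominates_Vw (A := A) (L := L) w₀)
        have hfw : Module.finrank (ResidueField A) (ResidueField (Vw (L := L) w₀)) = f := by
          rw [finrank_residue w₀ h, (hw w₀ hw₀).2]
        have hpi : IsPurelyInseparable (ResidueField A) (ResidueField (Vw (L := L) w₀)) :=
          isPurelyInseparable_of_finrank_eq_one (hfw.trans hf)
        exact not_isPurelyInseparable_of_moved w₀ (fun w' hw' => huniq hg w' w₀ hw' hw₀) σ z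
          (mem_of_isIntegral _ h hz) (hd w₀ hw₀) p h hpi
      · have hsep : SepAt A L w₀ := by
          by_contra hns
          unfold SepAt at hns
          rw [not_forall] at hns
          obtain ⟨h, hns⟩ := hns
          rw [not_forall] at hns
          obtain ⟨inst, hns⟩ := hns
          letI : Algebra A (Vw (L := L) w₀) :=
            (RingHom.codRestrict (algebraMap A L) (Vw (L := L) w₀) h).toAlgebra
          have hfw : Module.finrank (ResidueField A) (ResidueField (Vw (L := L) w₀)) = f := by
            rw [finrank_residue w₀ h, (hw w₀ hw₀).2]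
          have hpi : IsPurelyInseparable (ResidueField A) (ResidueField (Vw (L := L) w₀)) :=
            isPurelyInseparable_of_prime_finrank hp (hfw.trans hf) hns
          exact not_isPurelyInseparable_of_moved w₀ (fun w' hw' => huniq hg w' w₀ hw' hw₀) σ z
            (mem_of_isIntegral _ h hz) (hd w₀ hw₀) p h hpi
        exact T3s hg he hsep
  · intro hB
    have hpe : p ∣ e := by
      have := hB w₀ hw₀
      rwa [(hw w₀ hw₀).1] at this
    have hen : e ∣ Module.finrank K L := ⟨g * f, by rw [← hform]; ring⟩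
    rcases hfr with h1 | h1
    · exfalso
      rw [h1] at hen
      exact hp.one_lt.ne' (Nat.dvd_one.mp (hpe.trans hen))
    · refine ⟨?_, h1⟩
      rw [h1] at hform
      rcases arith_prime hp hform with ⟨-, he, hf⟩ | ⟨hg, he, hf⟩ | ⟨hg, he, hf⟩
      · exfalso; rw [he] at hpe; exact hp.one_lt.ne' (Nat.dvd_one.mp hpe)
      · exact T2 hg hf
      · exfalso; rw [he] at hpe; exact hp.one_lt.ne' (Nat.dvd_one.mp hpe)
  · intro hC
    have hpf : p ∣ f := by
      have := (hC w₀ hw₀).1
      rwa [(hw w₀ hw₀).2] at this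
    have hfn : f ∣ Module.finrank K L := ⟨g * e, by rw [← hform]; ring⟩
    rcases hfr with h1 | h1
    · exfalso
      rw [h1] at hfn
      exact hp.one_lt.ne' (Nat.dvd_one.mp (hpf.trans hfn))
    · rw [h1] at hform
      rcases arith_prime hp hform with ⟨-, he, hf⟩ | ⟨hg, he, hf⟩ | ⟨hg, he, hf⟩
      · exfalso; rw [hf] at hpf; exact hp.one_lt.ne' (Nat.dvd_one.mp hpf)
      · exfalso; rw [hf] at hpf; exact hp.one_lt.ne' (Nat.dvd_one.mp hpf)
      · exact T3n hg he hf (hC w₀ hw₀).2

end Master

end DvrExt

end Groth.Agent.Lib.helper10
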