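import Mathlib
import Groth.Agent.Lib.Helper10.FunFld27

/-!
Automorphisms of a genus-one function field in Weierstrass form fixing the place at infinity
(helper10), part 1: an automorphism fixing `P` is `x ↦ c²x, y ↦ c³y`.
-/

set_option autoImplicit false
set_option linter.unusedSectionVars false
set_option linter.style.haveILetI false

universe u v w

open FunFld IntermediateField

namespace Groth.Agent.Lib.helper10

namespace FF

section EllAut

variable {k : Type u} {K : Type v} [Field k] [Field K] [Algebra k K]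

/-- composing a place with an automorphism -/
def Place.comapEquiv (σ : K ≃ₐ[k] K) (Q : Place k K) : Place k K :=
  ⟨Q.1.comap (σ : K →+* K), by
    refine ⟨fun c => ?_, fun γ => ?_⟩
    · rw [Valuation.comap_apply]
      have : (σ : K →+* K) (algebraMap k K c) = algebraMap k K c := σ.commutes c
      rw [this]
      exact Q.2.1 c
    · obtain ⟨z, hz⟩ := Q.2.2 γ
      refine ⟨σ.symm z, ?_⟩
      rw [Valuation.comap_apply]
      have : (σ : K →+* K) (σ.symm z) = z := σ.apply_symm_apply z
      rw [this, hz]⟩

theorem Place.comapEquiv_apply (σ : K ≃ₐ[k] K) (Q : Place k K) (z : K) :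
    (Place.comapEquiv σ Q).1 z = Q.1 (σ z) := rfl

theorem Place.comapEquiv_eq_iff (σ : K ≃ₐ[k] K) (Q P : Place k K)
    (hσ : ∀ z : K, P.1 (σ z) = P.1 z) : Place.comapEquiv σ Q = P ↔ Q = P := by
  constructor
  · intro h
    apply Subtype.ext
    apply Valuation.ext
    intro z
    have h1 : (Place.comapEquiv σ Q).1 (σ.symm z) = P.1 (σ.symm z) := by rw [h]
    rw [Place.comapEquiv_apply, σ.apply_symm_apply] at h1
    rw [h1, ← hσ (σ.symm z), σ.apply_symm_apply]
  · rintro rfl
    apply Subtype.ext
    apply Valuation.ext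
    intro z
    rw [Place.comapEquiv_apply, hσ]

theorem map_mem_L_single (σ : K ≃ₐ[k] K) (P : Place k K)
    (hσ : ∀ z : K, P.1 (σ z) = P.1 z) {n : ℤ} {z : K}
    (hz : z ∈ L (Finsupp.single P n : Divisor k K)) :
    σ z ∈ L (Finsupp.single P n : Divisor k K) := by
  classical
  intro Q
  by_cases hQ : Q = P
  · subst hQ
    rw [hσ]
    exact hz Q
  · have hQ' : Place.comapEquiv σ Q ≠ P := fun h => hQ ((Place.comapEquiv_eq_iff σ Q P hσ).mp h)
    have := hz (Place.comapEquiv σ Q)
    rw [Finsupp.single_apply, if_neg (Ne.symm hQ'), Place.comapEquiv_apply] at this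
    rw [Finsupp.single_apply, if_neg (Ne.symm hQ)]
    exact this

/-- in genus one, `n` elements of `L(nP)` with distinct pole orders at `P` span `L(nP)` -/
theorem exists_coeffs_of_mem_L (hK : IsFunctionField k K) (hg : genus k K = 1) {P : Place k K}
    (hP : P.deg = 1) (n : ℕ) (hn : 1 ≤ n) (e : Fin n → K) (d : Fin n → ℤ)
    (hd : Function.Injective d) (hv : ∀ i, P.1 (e i) = WithZero.exp (d i))
    (he : ∀ i, e i ∈ L (Finsupp.single P (n : ℤ) : Divisor k K)) {z : K}
    (hz : z ∈ L (Finsupp.single P (n : ℤ) : Divisor k K)) :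
    ∃ c : Fin n → k, ∑ i, algebraMap k K (c i) * e i = z := by
  classical
  have hli : LinearIndependent k e := by
    rw [Fintype.linearIndependent_iff]
    intro c hc
    apply coeff_eq_zero_of_val P e d hv c (fun i j _ _ hij => hd hij)
    rw [← hc]
    exact Finset.sum_congr rfl fun i _ => (Algebra.smul_def _ _).symm
  haveI := finiteDimensional_L hK (Finsupp.single P (n : ℤ) : Divisor k K)
  have hle : Submodule.span k (Set.range e) ≤ L (Finsupp.single P (n : ℤ) : Divisor k K) := by
    rw [Submodule.span_le]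
    rintro _ ⟨i, rfl⟩
    exact he i
  have hfr : Module.finrank k (Submodule.span k (Set.range e)) = n := by
    rw [finrank_span_eq_card hli, Fintype.card_fin]
  have hell := ell_single_of_genus_one hK hg hP n hn
  unfold ell at hell
  have heq := Submodule.eq_of_le_of_finrank_eq hle (by rw [hfr, hell])
  rw [← heq, Submodule.mem_span_range_iff_exists_fun] at hz
  obtain ⟨c, hc⟩ := hz
  refine ⟨c, ?_⟩
  rw [← hc]
  exact Finset.sum_congr rfl fun i _ => (Algebra.smul_def _ _).symm

theorem single_two_le_three (P : Place k K) :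
    (Finsupp.single P 2 : Divisor k K) ≤ Finsupp.single P 3 := by
  classical
  intro Q
  rw [Finsupp.single_apply, Finsupp.single_apply]
  split_ifs <;> norm_num

theorem val_le_of_ord_ge (P : Place k K) {z : K} {n : ℤ} (hz : z ≠ 0) (h : -n ≤ P.ord z) :
    P.1 z ≤ WithZero.exp n := by
  rw [Place.val_eq_exp_neg_ord P hz, WithZero.exp_le_exp]
  omega

/-- an automorphism fixing the place at infinity of a Weierstrass model is a scaling -/
theorem exists_scaling_of_fix [IsAlgClosed k] (hK : IsFunctionField k K) (hgen : genus k K = 1)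
    (P : Place k K) (h2 : (2 : k) ≠ 0) (h3 : (3 : k) ≠ 0) (a b : k) (x y : K)
    (heq : y ^ 2 = x ^ 3 + algebraMap k K a * x + algebraMap k K b)
    (hx : x ∈ L (Finsupp.single P 2 : Divisor k K)) (hx2 : P.ord x = -2)
    (hy : y ∈ L (Finsupp.single P 3 : Divisor k K)) (hy3 : P.ord y = -3)
    (σ : K ≃ₐ[k] K) (hσ : ∀ z : K, P.1 (σ z) = P.1 z) :
    ∃ c : k, c ≠ 0 ∧ c ^ 4 * a = a ∧ c ^ 6 * b = b ∧
      σ x = algebraMap k K (c ^ 2) * x ∧ σ y = algebraMap k K (c ^ 3) * y := by
  classical
  have hP : P.deg = 1 := Place.deg_eq_one hK P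
  have hx0 : x ≠ 0 := by
    rintro rfl
    rw [Place.ord_zero] at hx2
    omega
  have hy0 : y ≠ 0 := by
    rintro rfl
    rw [Place.ord_zero] at hy3
    omega
  have hvx : P.1 x = WithZero.exp 2 := by rw [Place.val_eq_exp_neg_ord P hx0, hx2, neg_neg]
  have hvy : P.1 y = WithZero.exp 3 := by rw [Place.val_eq_exp_neg_ord P hy0, hy3, neg_neg]
  have hv1 : P.1 (1 : K) = WithZero.exp 0 := by rw [Valuation.map_one, WithZero.exp_zero]
  have h1L2 : (1 : K) ∈ L (Finsupp.single P 2 : Divisor k K) := by
    intro Q
    rw [Valuation.map_one, ← WithZero.exp_zero, WithZero.exp_le_exp, Finsupp.single_apply]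
    split_ifs <;> norm_num
  have h1L3 : (1 : K) ∈ L (Finsupp.single P 3 : Divisor k K) :=
    L_mono (single_two_le_three P) h1L2
  have hxL3 : x ∈ L (Finsupp.single P 3 : Divisor k K) := L_mono (single_two_le_three P) hx
  -- σ x
  have hσx := map_mem_L_single σ P hσ hx
  obtain ⟨c₂, hc₂⟩ := exists_coeffs_of_mem_L hK hgen hP 2 (by norm_num) ![1, x] ![0, 2]
    (by
      intro i j hij
      fin_cases i <;> fin_cases j <;> simp at hij ⊢)
    (by
      intro i
      fin_cases i
      · exact hv1
      · exact hvx)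
    (by
      intro i
      fin_cases i
      · exact h1L2
      · exact hx) hσx
  rw [Fin.sum_univ_two] at hc₂
  simp only [Matrix.cons_val, mul_one] at hc₂
  set r := c₂ 0 with hr
  set u := c₂ 1 with hu
  -- σ y
  have hσy := map_mem_L_single σ P hσ hy
  obtain ⟨c₃, hc₃⟩ := exists_coeffs_of_mem_L hK hgen hP 3 (by norm_num) ![1, x, y] ![0, 2, 3]
    (by
      intro i j hij
      fin_cases i <;> fin_cases j <;> simp at hij ⊢)
    (by
      intro i
      fin_cases i
      · exact hv1
      · exact hvx
      · exact hvy)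
    (by
      intro i
      fin_cases i
      · exact h1L3
      · exact hxL3
      · exact hy) hσy
  rw [Fin.sum_univ_three] at hc₃
  simp only [Matrix.cons_val, mul_one] at hc₃
  set t := c₃ 0 with ht
  set s := c₃ 1 with hs
  set v := c₃ 2 with hv
  -- nonvanishing of the leading coefficients
  have hu0 : u ≠ 0 := by
    intro h0
    rw [h0, map_zero, zero_mul, add_zero] at hc₂
    have h1 := hσ x
    rw [← hc₂, hvx] at h1
    have h4 := P.2.1 r
    rw [h1, ← WithZero.exp_zero, WithZero.exp_le_exp] at h4
    omega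
  have hv0 : v ≠ 0 := by
    intro h0
    rw [h0, map_zero, zero_mul, add_zero] at hc₃
    have h1 := hσ y
    rw [← hc₃, hvy] at h1
    have h4 : P.1 (algebraMap k K t + algebraMap k K s * x) ≤ WithZero.exp 2 := by
      refine le_trans (Valuation.map_add _ _ _) (max_le ?_ ?_)
      · refine le_trans (P.2.1 t) ?_
        rw [← WithZero.exp_zero, WithZero.exp_le_exp]
        norm_num
      · rw [map_mul, hvx]
        calc P.1 (algebraMap k K s) * WithZero.exp 2 ≤ 1 * WithZero.exp 2 :=
              mul_le_mul_left (P.2.1 s) _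
          _ = WithZero.exp 2 := one_mul _
    rw [h1, WithZero.exp_le_exp] at h4
    omega
  -- the transformed equation
  have hE : (σ y) ^ 2 = (σ x) ^ 3 + algebraMap k K a * σ x + algebraMap k K b := by
    have := congrArg σ heq
    rwa [map_pow, map_add, map_add, map_mul, map_pow, σ.commutes, σ.commutes] at this
  rw [← hc₂, ← hc₃] at hE
  -- comparison of coefficients
  have hcoef := coeff_eq_zero_of_val P ![1, x, x ^ 2, x ^ 3, y, x * y] ![0, 2, 4, 6, 3, 5]
    (by
      intro i
      fin_cases i
      · exact hv1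
      · exact hvx
      · show P.1 (x ^ 2) = WithZero.exp 4
        rw [map_pow, hvx, ← WithZero.exp_nsmul]
        rfl
      · show P.1 (x ^ 3) = WithZero.exp 6
        rw [map_pow, hvx, ← WithZero.exp_nsmul]
        rfl
      · exact hvy
      · show P.1 (x * y) = WithZero.exp 5
        rw [map_mul, hvx, hvy, ← WithZero.exp_add]
        rfl)
    ![v ^ 2 * b + t ^ 2 - r ^ 3 - a * r - b, v ^ 2 * a + 2 * s * t - 3 * u * r ^ 2 - a * u,
      s ^ 2 - 3 * u ^ 2 * r, v ^ 2 - u ^ 3, 2 * v * t, 2 * v * s]
    (by
      intro i j _ _ hij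
      fin_cases i <;> fin_cases j <;> simp at hij ⊢)
    (by
      rw [Fin.sum_univ_six]
      simp only [Matrix.cons_val, map_sub, map_add, map_mul, map_pow, map_ofNat]
      linear_combination hE - (algebraMap k K v) ^ 2 * heq)
  have e0 := hcoef 0
  have e1 := hcoef 1
  have e2 := hcoef 2
  have e3 := hcoef 3
  have e4 := hcoef 4
  have e5 := hcoef 5
  simp only [Matrix.cons_val] at e0 e1 e2 e3 e4 e5
  have ht0 : t = 0 := by
    rcases mul_eq_zero.mp e4 with h | h
    · rcases mul_eq_zero.mp h with h | h
      · exact absurd h h2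
      · exact absurd h hv0
    · exact h
  have hs0 : s = 0 := by
    rcases mul_eq_zero.mp e5 with h | h
    · rcases mul_eq_zero.mp h with h | h
      · exact absurd h h2
      · exact absurd h hv0
    · exact h
  have hr0 : r = 0 := by
    rw [hs0] at e2
    have : 3 * u ^ 2 * r = 0 := by linear_combination -e2
    rcases mul_eq_zero.mp this with h | h
    · rcases mul_eq_zero.mp h with h | h
      · exact absurd h h3
      · exact absurd (pow_eq_zero_iff (by norm_num) |>.mp h) hu0
    · exact h
  rw [hs0, ht0, hr0] at e1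
  rw [ht0, hr0] at e0
  have hvu : v ^ 2 = u ^ 3 := by linear_combination e3
  refine ⟨v / u, div_ne_zero hv0 hu0, ?_, ?_, ?_, ?_⟩
  · have : (v / u) ^ 4 = u ^ 2 := by
      field_simp
      linear_combination (v ^ 2 + u ^ 3) * hvu
    rw [this]
    have h5 : u * (u ^ 2 * a - a) = 0 := by
      rw [hvu] at e1
      linear_combination e1
    rcases mul_eq_zero.mp h5 with h | h
    · exact absurd h hu0
    · linear_combination h
  · have : (v / u) ^ 6 = u ^ 3 := by
      field_simp
      linear_combination (v ^ 4 + v ^ 2 * u ^ 3 + u ^ 6) * hvu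
    rw [this, ← hvu]
    linear_combination e0
  · have : (v / u) ^ 2 = u := by
      field_simp
      linear_combination hvu
    rw [this, ← hc₂, hr0, map_zero, zero_add]
  · have : (v / u) ^ 3 = v := by
      field_simp
      first | linear_combination hvu | linear_combination v * hvu
    rw [this, ← hc₃, ht0, hs0, map_zero, zero_mul, zero_add, zero_add]

end EllAut

end FF

end Groth.Agent.Lib.helper10
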