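import Mathlib
import Groth.Agent.Lib.Helper10.EllAut1

/-!
Automorphisms of a genus-one function field in Weierstrass form fixing the place at infinity
(helper10), part 2: construction of the scaling automorphisms `x ↦ c²x, y ↦ c³y`.
-/

set_option autoImplicit false
set_option linter.unusedSectionVars false
set_option linter.style.haveILetI false

universe u v w

open FunFld IntermediateField Polynomial

namespace Groth.Agent.Lib.helper10

namespace FF

section LemmaE

variable {k : Type u} {K : Type v} [Field k] [Field K] [Algebra k K]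

/-- the cubic `X^3 + aX + b` as a rational function -/
noncomputable def wCubic (a b : k) : RatFunc k :=
  algebraMap k[X] (RatFunc k) (X ^ 3 + C a * X + C b)

theorem wCubic_eq (a b : k) :
    wCubic a b = (RatFunc.X : RatFunc k) ^ 3 + RatFunc.C a * RatFunc.X + RatFunc.C b := by
  unfold wCubic
  rw [map_add, map_add, map_mul, map_pow, RatFunc.algebraMap_X, RatFunc.algebraMap_C,
    RatFunc.algebraMap_C]

/-- the Weierstrass polynomial `Y^2 - (X^3 + aX + b)` over `k(X)` -/
noncomputable def wPoly (a b : k) : (RatFunc k)[X] := X ^ 2 - C (wCubic a b)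

theorem wPoly_natDegree (a b : k) : (wPoly a b).natDegree = 2 := by
  unfold wPoly
  exact natDegree_X_pow_sub_C

theorem natDegree_cubic' (a b : k) : (X ^ 3 + C a * X + C b : k[X]).natDegree = 3 := by
  compute_degree!

theorem wPoly_irreducible (a b : k) : Irreducible (wPoly a b) := by
  apply irreducible_of_degree_le_three_of_not_isRoot
  · rw [wPoly_natDegree]
    decide
  · intro r hr
    rw [IsRoot.def, wPoly, eval_sub, eval_pow, eval_X, eval_C, sub_eq_zero] at hr
    have hp0 : (X ^ 3 + C a * X + C b : k[X]) ≠ 0 := by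
      intro h
      have := natDegree_cubic' a b
      rw [h, natDegree_zero] at this
      omega
    have hw0 : wCubic a b ≠ 0 := by
      unfold wCubic
      exact RatFunc.algebraMap_ne_zero hp0
    have hr0 : r ≠ 0 := by
      rintro rfl
      rw [zero_pow (by norm_num)] at hr
      exact hw0 hr.symm
    have h1 := congrArg RatFunc.intDegree hr
    rw [pow_two, RatFunc.intDegree_mul hr0 hr0, wCubic, RatFunc.intDegree_polynomial,
      natDegree_cubic'] at h1
    omega

instance wPoly_fact (a b : k) : Fact (Irreducible (wPoly a b)) := ⟨wPoly_irreducible a b⟩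

/-- a field generated by a transcendental `x` and `y` with `y² = x³ + ax + b` is the abstract
Weierstrass field -/
theorem exists_algEquiv_adjoinRoot (a b : k) (x y : K) (hx : Transcendental k x)
    (heq : y ^ 2 = x ^ 3 + algebraMap k K a * x + algebraMap k K b)
    (hxy : IntermediateField.adjoin k ({x, y} : Set K) = ⊤) :
    ∃ e : AdjoinRoot (wPoly a b) ≃ₐ[k] K,
      e (AdjoinRoot.of (wPoly a b) RatFunc.X) = x ∧ e (AdjoinRoot.root (wPoly a b)) = y := by
  set i : RatFunc k →ₐ[k] K :=
    (k⟮x⟯.val).comp (RatFunc.algEquivOfTranscendental x hx).toAlgHom with hi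
  have hiX : i RatFunc.X = x := by
    rw [hi]
    simp
  have hiC : ∀ c : k, i (RatFunc.C c) = algebraMap k K c := by
    intro c
    rw [← RatFunc.algebraMap_eq_C]
    exact i.commutes c
  have hiw : i (wCubic a b) = x ^ 3 + algebraMap k K a * x + algebraMap k K b := by
    rw [wCubic_eq, map_add, map_add, map_mul, map_pow, hiX, hiC, hiC]
  have h : (wPoly a b).eval₂ (i : RatFunc k →+* K) y = 0 := by
    unfold wPoly
    rw [eval₂_sub, eval₂_pow, eval₂_X, eval₂_C]
    show y ^ 2 - i (wCubic a b) = 0
    rw [hiw, heq, sub_self]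
  set φ : AdjoinRoot (wPoly a b) →ₐ[k] K := AdjoinRoot.liftAlgHom (wPoly a b) i y h with hφ
  have hφX : φ (AdjoinRoot.of (wPoly a b) RatFunc.X) = x := by
    rw [hφ, AdjoinRoot.liftAlgHom_of, hiX]
  have hφr : φ (AdjoinRoot.root (wPoly a b)) = y := by
    rw [hφ, AdjoinRoot.liftAlgHom_root]
  have hinj : Function.Injective φ := (φ : AdjoinRoot (wPoly a b) →+* K).injective
  have hsurj : Function.Surjective φ := by
    have hle : IntermediateField.adjoin k ({x, y} : Set K) ≤ φ.fieldRange := by
      rw [IntermediateField.adjoin_le_iff]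
      intro z hz
      rcases hz with rfl | hz
      · exact ⟨_, hφX⟩
      · rw [Set.mem_singleton_iff] at hz
        subst hz
        exact ⟨_, hφr⟩
    rw [hxy] at hle
    intro z
    exact hle (IntermediateField.mem_top)
  exact ⟨AlgEquiv.ofBijective φ ⟨hinj, hsurj⟩, hφX, hφr⟩

/-- two automorphisms agreeing on generators agree -/
theorem algEquiv_ext_of_adjoin {x y : K}
    (hxy : IntermediateField.adjoin k ({x, y} : Set K) = ⊤) {σ τ : K ≃ₐ[k] K}
    (hx : σ x = τ x) (hy : σ y = τ y) : σ = τ := by
  set E : IntermediateField k K :=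
    (AlgHom.equalizer (σ : K →ₐ[k] K) (τ : K →ₐ[k] K)).toIntermediateField (by
      intro z hz
      rw [AlgHom.mem_equalizer] at hz ⊢
      rw [map_inv₀, map_inv₀, hz]) with hE
  have hle : IntermediateField.adjoin k ({x, y} : Set K) ≤ E := by
    rw [IntermediateField.adjoin_le_iff]
    intro z hz
    rcases hz with rfl | hz
    · exact hx
    · rw [Set.mem_singleton_iff] at hz
      subst hz
      exact hy
  rw [hxy] at hle
  ext z
  exact hle (IntermediateField.mem_top (x := z))

/-- the scaling automorphisms of a Weierstrass model -/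
theorem exists_scaling_aut (hK : IsFunctionField k K) (P : Place k K) (a b : k) (x y : K)
    (heq : y ^ 2 = x ^ 3 + algebraMap k K a * x + algebraMap k K b)
    (hxy : IntermediateField.adjoin k ({x, y} : Set K) = ⊤)
    (hx : x ∈ L (Finsupp.single P 2 : Divisor k K)) (hx2 : P.ord x = -2)
    (c : k) (hc0 : c ≠ 0) (hca : c ^ 4 * a = a) (hcb : c ^ 6 * b = b) :
    ∃ σ : K ≃ₐ[k] K, (∀ z : K, P.1 (σ z) = P.1 z) ∧
      σ x = algebraMap k K (c ^ 2) * x ∧ σ y = algebraMap k K (c ^ 3) * y := by
  classical
  have hx0 : x ≠ 0 := by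
    rintro rfl
    rw [Place.ord_zero] at hx2
    omega
  have hvx : P.1 x = WithZero.exp 2 := by rw [Place.val_eq_exp_neg_ord P hx0, hx2, neg_neg]
  have hxtr : Transcendental k x := by
    apply transcendental_of_not_mem_range hK
    rintro ⟨d, rfl⟩
    rw [Place.ord_algebraMap] at hx2
    omega
  have hc2 : algebraMap k K (c ^ 2) ≠ 0 := (_root_.map_ne_zero _).mpr (pow_ne_zero _ hc0)
  have hc3 : algebraMap k K (c ^ 3) ≠ 0 := (_root_.map_ne_zero _).mpr (pow_ne_zero _ hc0)
  set x' : K := algebraMap k K (c ^ 2) * x with hx'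
  set y' : K := algebraMap k K (c ^ 3) * y with hy'
  have hx'tr : Transcendental k x' := by
    apply transcendental_of_not_mem_range hK
    rintro ⟨d, hd⟩
    have : P.ord x' = -2 := by
      rw [hx', Place.ord_mul P hc2 hx0, Place.ord_algebraMap, hx2, zero_add]
    rw [← hd, Place.ord_algebraMap] at this
    omega
  have hca' : algebraMap k K c ^ 4 * algebraMap k K a = algebraMap k K a := by
    rw [← map_pow, ← map_mul, hca]
  have hcb' : algebraMap k K c ^ 6 * algebraMap k K b = algebraMap k K b := by
    rw [← map_pow, ← map_mul, hcb]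
  have heq' : y' ^ 2 = x' ^ 3 + algebraMap k K a * x' + algebraMap k K b := by
    rw [hx', hy', map_pow, map_pow]
    linear_combination (algebraMap k K c) ^ 6 * heq + (algebraMap k K c) ^ 2 * x * hca' + hcb'
  have hxy' : IntermediateField.adjoin k ({x', y'} : Set K) = ⊤ := by
    rw [eq_top_iff, ← hxy, IntermediateField.adjoin_le_iff]
    intro z hz
    rcases hz with rfl | hz
    · have e : z = (algebraMap k K (c ^ 2))⁻¹ * x' := by
        rw [hx', ← mul_assoc, inv_mul_cancel₀ hc2, one_mul]
      rw [e]
      exact mul_mem (inv_mem (IntermediateField.algebraMap_mem _ _))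
        (IntermediateField.subset_adjoin k _ (Set.mem_insert _ _))
    · rw [Set.mem_singleton_iff] at hz
      subst hz
      have e : z = (algebraMap k K (c ^ 3))⁻¹ * y' := by
        rw [hy', ← mul_assoc, inv_mul_cancel₀ hc3, one_mul]
      rw [e]
      exact mul_mem (inv_mem (IntermediateField.algebraMap_mem _ _))
        (IntermediateField.subset_adjoin k _ (Set.mem_insert_of_mem _ (Set.mem_singleton _)))
  obtain ⟨e, heX, her⟩ := exists_algEquiv_adjoinRoot a b x y hxtr heq hxy
  obtain ⟨e', heX', her'⟩ := exists_algEquiv_adjoinRoot a b x' y' hx'tr heq' hxy'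
  set σ : K ≃ₐ[k] K := e.symm.trans e' with hσ
  have hσx : σ x = x' := by
    rw [hσ, AlgEquiv.trans_apply, ← heX, AlgEquiv.symm_apply_apply, heX']
  have hσy : σ y = y' := by
    rw [hσ, AlgEquiv.trans_apply, ← her, AlgEquiv.symm_apply_apply, her']
  refine ⟨σ, ?_, hσx, hσy⟩
  have hPP : Place.comapEquiv σ P = P := by
    by_contra hne
    have h1 := hx (Place.comapEquiv σ P)
    rw [Finsupp.single_apply, if_neg (Ne.symm hne), Place.comapEquiv_apply, hσx, hx', map_mul,
      Place.trivOn P _ (pow_ne_zero _ hc0), one_mul, hvx, WithZero.exp_le_exp] at h1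
    omega
  intro z
  rw [← Place.comapEquiv_apply, hPP]

end LemmaE

end FF

end Groth.Agent.Lib.helper10
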