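import Mathlib
import Groth.Agent.Lib.Helper10.EllAut2

/-!
Automorphisms of a genus-one function field in Weierstrass form fixing the place at infinity
(helper10), part 3: the count.
-/

set_option autoImplicit false
set_option linter.unusedSectionVars false
set_option linter.style.haveILetI false

universe u v w

open FunFld IntermediateField

namespace Groth.Agent.Lib.helper10

namespace FF

section Count

variable {k : Type u} {K : Type v} [Field k] [Field K] [Algebra k K]

theorem card_pow_eq_one [IsAlgClosed k] (n : ℕ) (hn : (n : k) ≠ 0) :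
    Nat.card {c : k // c ^ n = 1} = n := by
  haveI : NeZero (n : k) := ⟨hn⟩
  haveI : NeZero n := .of_neZero_natCast k
  have hn0 : n ≠ 0 := NeZero.ne n
  refine (Nat.card_congr ?_).trans (HasEnoughRootsOfUnity.natCard_rootsOfUnity k n)
  refine
    { toFun := fun c => ⟨Units.mk0 c.1 (by
          intro h0
          have := c.2
          rw [h0, zero_pow hn0] at this
          exact zero_ne_one this), by
        rw [mem_rootsOfUnity']
        exact c.2⟩
      invFun := fun ζ => ⟨(ζ.1 : k), by
        have := ζ.2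
        rw [mem_rootsOfUnity'] at this
        exact this⟩
      left_inv := fun c => rfl
      right_inv := fun ζ => by
        apply Subtype.ext
        apply Units.ext
        rfl }

open Classical in
/-- the group of admissible scalings -/
theorem card_scalings [IsAlgClosed k] (h2 : (2 : k) ≠ 0) (h3 : (3 : k) ≠ 0) (a b : k)
    (hdisc : 4 * a ^ 3 + 27 * b ^ 2 ≠ 0) :
    Nat.card {c : k // c ^ 4 * a = a ∧ c ^ 6 * b = b} =
      if a = 0 then 6 else if b = 0 then 4 else 2 := by
  by_cases ha : a = 0
  · rw [if_pos ha]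
    have hb : b ≠ 0 := by
      rintro rfl
      apply hdisc
      rw [ha]
      ring
    have h6 : ((6 : ℕ) : k) ≠ 0 := by
      have : ((6 : ℕ) : k) = 2 * 3 := by norm_num
      rw [this]
      exact mul_ne_zero h2 h3
    refine (Nat.card_congr ?_).trans (card_pow_eq_one (k := k) 6 h6)
    refine Equiv.subtypeEquivRight fun c => ?_
    rw [ha, mul_zero]
    constructor
    · rintro ⟨-, h⟩
      exact mul_right_cancel₀ hb (by rw [h, one_mul])
    · intro h
      exact ⟨rfl, by rw [h, one_mul]⟩
  · rw [if_neg ha]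
    by_cases hb : b = 0
    · rw [if_pos hb]
      have h4 : ((4 : ℕ) : k) ≠ 0 := by
        have : ((4 : ℕ) : k) = 2 * 2 := by norm_num
        rw [this]
        exact mul_ne_zero h2 h2
      refine (Nat.card_congr ?_).trans (card_pow_eq_one (k := k) 4 h4)
      refine Equiv.subtypeEquivRight fun c => ?_
      rw [hb, mul_zero]
      constructor
      · rintro ⟨h, -⟩
        exact mul_right_cancel₀ ha (by rw [h, one_mul])
      · intro h
        exact ⟨by rw [h, one_mul], rfl⟩
    · rw [if_neg hb]
      have h2' : ((2 : ℕ) : k) ≠ 0 := by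
        have : ((2 : ℕ) : k) = 2 := by norm_num
        rw [this]
        exact h2
      refine (Nat.card_congr ?_).trans (card_pow_eq_one (k := k) 2 h2')
      refine Equiv.subtypeEquivRight fun c => ?_
      constructor
      · rintro ⟨h4, h6⟩
        have e4 : c ^ 4 = 1 := mul_right_cancel₀ ha (by rw [h4, one_mul])
        have e6 : c ^ 6 = 1 := mul_right_cancel₀ hb (by rw [h6, one_mul])
        have : c ^ 6 = c ^ 4 * c ^ 2 := by ring
        rw [this, e4, one_mul] at e6
        exact e6
      · intro h
        have e4 : c ^ 4 = 1 := by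
          have : c ^ 4 = (c ^ 2) ^ 2 := by ring
          rw [this, h, one_pow]
        have e6 : c ^ 6 = 1 := by
          have : c ^ 6 = (c ^ 2) ^ 3 := by ring
          rw [this, h, one_pow]
        exact ⟨by rw [e4, one_mul], by rw [e6, one_mul]⟩

open Classical in
/-- **Automorphisms of an elliptic function field fixing the origin.** -/
theorem card_aut_weierstrass [IsAlgClosed k] (h2 : (2 : k) ≠ 0) (h3 : (3 : k) ≠ 0)
    (hK : IsFunctionField k K) (hgen : genus k K = 1) (P : Place k K)
    (a b : k) (hdisc : 4 * a ^ 3 + 27 * b ^ 2 ≠ 0) (x y : K)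
    (heq : y ^ 2 = x ^ 3 + algebraMap k K a * x + algebraMap k K b)
    (hxy : IntermediateField.adjoin k ({x, y} : Set K) = ⊤)
    (hx : x ∈ L (Finsupp.single P 2 : Divisor k K)) (hx2 : P.ord x = -2)
    (hy : y ∈ L (Finsupp.single P 3 : Divisor k K)) (hy3 : P.ord y = -3) :
    Nat.card {σ : K ≃ₐ[k] K // ∀ z : K, P.1 (σ z) = P.1 z} =
      if a = 0 then 6 else if b = 0 then 4 else 2 := by
  classical
  rw [← card_scalings h2 h3 a b hdisc]
  have hx0 : x ≠ 0 := by
    rintro rfl
    rw [Place.ord_zero] at hx2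
    omega
  have hy0 : y ≠ 0 := by
    rintro rfl
    rw [Place.ord_zero] at hy3
    omega
  have hc0 : ∀ c : {c : k // c ^ 4 * a = a ∧ c ^ 6 * b = b}, c.1 ≠ 0 := by
    rintro ⟨c, h4, h6⟩ h0
    simp only at h0
    subst h0
    apply hdisc
    have ha : a = 0 := by rw [← h4]; ring
    have hb : b = 0 := by rw [← h6]; ring
    rw [ha, hb]
    ring
  have hex := fun c : {c : k // c ^ 4 * a = a ∧ c ^ 6 * b = b} =>
    exists_scaling_aut hK P a b x y heq hxy hx hx2 c.1 (hc0 c) c.2.1 c.2.2
  choose σ hσP hσx hσy using hex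
  symm
  apply Nat.card_congr
  apply Equiv.ofBijective (fun c => (⟨σ c, hσP c⟩ : {σ : K ≃ₐ[k] K // ∀ z : K, P.1 (σ z) = P.1 z}))
  constructor
  · intro c c' hcc
    have h1 : σ c = σ c' := congrArg Subtype.val hcc
    have e2 : c.1 ^ 2 = c'.1 ^ 2 := by
      have := hσx c
      rw [h1, hσx c'] at this
      exact (algebraMap k K).injective (mul_right_cancel₀ hx0 this).symm
    have e3 : c.1 ^ 3 = c'.1 ^ 3 := by
      have := hσy c
      rw [h1, hσy c'] at this
      exact (algebraMap k K).injective (mul_right_cancel₀ hy0 this).symm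
    apply Subtype.ext
    have hc := hc0 c
    have hc' := hc0 c'
    have e : c.1 * c.1 ^ 2 = c'.1 * c.1 ^ 2 := by
      calc c.1 * c.1 ^ 2 = c.1 ^ 3 := by ring
        _ = c'.1 ^ 3 := e3
        _ = c'.1 * c'.1 ^ 2 := by ring
        _ = c'.1 * c.1 ^ 2 := by rw [e2]
    exact mul_right_cancel₀ (pow_ne_zero 2 hc) e
  · rintro ⟨τ, hτ⟩
    obtain ⟨c, -, h4, h6, hτx, hτy⟩ :=
      exists_scaling_of_fix hK hgen P h2 h3 a b x y heq hx hx2 hy hy3 τ hτ
    refine ⟨⟨c, h4, h6⟩, ?_⟩
    apply Subtype.ext
    show σ ⟨c, h4, h6⟩ = τ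
    apply algEquiv_ext_of_adjoin hxy
    · rw [hσx, hτx]
    · rw [hσy, hτy]

end Count

end FF

end Groth.Agent.Lib.helper10
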