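import Mathlib
import Groth.Prelude.Def_EtRam
import Groth.Agent.S7150

/-!
Epp's elimination of wild ramification, Artin–Schreier step (helper10), part 1:
Artin–Schreier map, coefficient subrings, normal forms.
-/

set_option autoImplicit false
set_option linter.unusedSectionVars false
set_option linter.style.haveILetI false

universe u

open IsLocalRing

namespace Groth.Agent.Lib.helper10

namespace EppAS

section WP

variable {F : Type u} [Field F] (p : ℕ) [Fact p.Prime] [CharP F p]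

/-- The Artin–Schreier map as an additive homomorphism. -/
noncomputable def wp : F →+ F := (frobenius F p : F →+* F).toAddMonoidHom - AddMonoidHom.id F

theorem wp_apply (x : F) : wp p x = x ^ p - x := rfl

theorem pow_sub_self_mem (x : F) (s : ℕ) : x ^ (p ^ s) - x ∈ (wp p).range := by
  induction s with
  | zero => simp
  | succ s ih =>
    have h1 : x ^ (p ^ (s + 1)) - x = wp p (x ^ (p ^ s)) + (x ^ (p ^ s) - x) := by
      rw [wp_apply, pow_succ, pow_mul]; ring
    rw [h1]
    exact AddSubgroup.add_mem _ ⟨_, rfl⟩ ih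

/-- `℘(F) + S` -/
noncomputable def HH (S : AddSubgroup F) : AddSubgroup F := (wp p).range ⊔ S

theorem mem_HH {S : AddSubgroup F} {x : F} : x ∈ HH p S ↔ ∃ y : F, x - (y ^ p - y) ∈ S := by
  unfold HH
  rw [AddSubgroup.mem_sup]
  constructor
  · rintro ⟨_, ⟨y, rfl⟩, z, hz, rfl⟩
    refine ⟨y, ?_⟩
    rw [wp_apply]
    simpa using hz
  · rintro ⟨y, hy⟩
    exact ⟨wp p y, ⟨y, rfl⟩, _, hy, by rw [wp_apply]; ring⟩

theorem wp_mem_HH (S : AddSubgroup F) (y : F) : y ^ p - y ∈ HH p S :=
  AddSubgroup.mem_sup_left ⟨y, rfl⟩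

theorem mem_HH_of_mem {S : AddSubgroup F} {x : F} (hx : x ∈ S) : x ∈ HH p S :=
  AddSubgroup.mem_sup_right hx

theorem pow_sub_self_mem_HH (S : AddSubgroup F) (x : F) (s : ℕ) : x ^ (p ^ s) - x ∈ HH p S :=
  AddSubgroup.mem_sup_left (pow_sub_self_mem p x s)

end WP

section RootMax

variable {κ : Type u} [Field κ] (p : ℕ)

theorem root_max (x : κ) : ∀ n₀ : ℕ, (∀ y : κ, y ^ (p ^ n₀) ≠ x) →
    ∃ (s : ℕ) (μ : κ), μ ^ (p ^ s) = x ∧ ∀ y : κ, y ^ p ≠ μ := by
  intro n₀
  induction n₀ with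
  | zero =>
    intro h
    exact absurd (by simp) (h x)
  | succ n ih =>
    intro h
    by_cases h' : ∃ y : κ, y ^ (p ^ n) = x
    · obtain ⟨y, hy⟩ := h'
      refine ⟨n, y, hy, fun y' hy' => h y' ?_⟩
      rw [pow_succ', pow_mul, hy', hy]
    · push Not at h'
      exact ih h'

end RootMax

section Coeff

variable (B : Type u) [CommRing B] [IsDomain B] [IsDiscreteValuationRing B]

theorem exists_coeff_subring (p : ℕ) [Fact p.Prime] [CharP B p] (N : ℕ) : ∃ T : Subring B,
    (∀ b : B, ∃ t ∈ T, b - t ∈ maximalIdeal B) ∧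
    ∀ t ∈ T, t ∈ maximalIdeal B → t ∈ maximalIdeal B ^ (N + 1) := by
  have hp : p.Prime := Fact.out
  set I : Ideal B := maximalIdeal B ^ (N + 1) with hI
  have hIle : I ≤ maximalIdeal B := Ideal.pow_le_self (Nat.succ_ne_zero N)
  have hItop : I ≠ ⊤ := fun h => (Ideal.IsMaximal.ne_top (maximalIdeal.isMaximal B))
    (top_le_iff.mp (h ▸ hIle))
  haveI : Nontrivial (B ⧸ I) := Ideal.Quotient.nontrivial_iff.mpr hItop
  haveI : IsLocalRing (B ⧸ I) :=
    IsLocalRing.of_surjective' (Ideal.Quotient.mk I) Ideal.Quotient.mk_surjective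
  haveI : CharP (B ⧸ I) p := by
    rw [CharP.charP_iff_prime_eq_zero hp, ← map_natCast (Ideal.Quotient.mk I),
      CharP.cast_eq_zero, map_zero]
  have hmax : maximalIdeal (B ⧸ I) = (maximalIdeal B).map (Ideal.Quotient.mk I) := by
    have hloc : IsLocalHom (Ideal.Quotient.mk I) :=
      IsLocalHom.of_surjective _ Ideal.Quotient.mk_surjective
    apply le_antisymm
    · intro x hx
      obtain ⟨b, rfl⟩ := Ideal.Quotient.mk_surjective x
      apply Ideal.mem_map_of_mem
      rw [mem_maximalIdeal, mem_nonunits_iff] at hx ⊢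
      exact fun hb => hx (hb.map _)
    · rw [Ideal.map_le_iff_le_comap]
      intro b hb
      rw [Ideal.mem_comap, mem_maximalIdeal, mem_nonunits_iff]
      rw [mem_maximalIdeal, mem_nonunits_iff] at hb
      exact fun h => hb (hloc.map_nonunit b h)
  have hnil : ∃ n : ℕ, maximalIdeal (B ⧸ I) ^ n = ⊥ := by
    refine ⟨N + 1, ?_⟩
    rw [hmax, ← Ideal.map_pow, ← hI]
    exact Ideal.map_quotient_self I
  obtain ⟨σ, hσ⟩ := (Groth.Agent.S7150.result p hp (B ⧸ I) hnil).1
  have hσ' : ∀ x, residue (B ⧸ I) (σ x) = x := fun x => RingHom.congr_fun hσ x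
  refine ⟨σ.range.comap (Ideal.Quotient.mk I), ?_, ?_⟩
  · intro b
    obtain ⟨t, ht⟩ := Ideal.Quotient.mk_surjective (σ (residue _ (Ideal.Quotient.mk I b)))
    refine ⟨t, ?_, ?_⟩
    · rw [Subring.mem_comap, ht]; exact ⟨_, rfl⟩
    · have h1 : residue (B ⧸ I) (Ideal.Quotient.mk I (b - t)) = 0 := by
        rw [map_sub, map_sub, ht, hσ', sub_self]
      rw [residue_eq_zero_iff, hmax] at h1
      have h2 := Ideal.mem_comap.mpr h1
      rw [Ideal.comap_map_of_surjective _ Ideal.Quotient.mk_surjective] at h2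
      have h3 : Ideal.comap (Ideal.Quotient.mk I) ⊥ ≤ maximalIdeal B := by
        rw [← RingHom.ker_eq_comap_bot, Ideal.mk_ker]; exact hIle
      exact (sup_le le_rfl h3) h2
  · intro t ht htm
    rw [Subring.mem_comap] at ht
    obtain ⟨x, hx⟩ := ht
    have h1 : residue (B ⧸ I) (Ideal.Quotient.mk I t) = 0 := by
      rw [residue_eq_zero_iff, hmax]
      exact Ideal.mem_map_of_mem _ htm
    rw [← hx, hσ'] at h1
    rw [h1, map_zero] at hx
    exact Ideal.Quotient.eq_zero_iff_mem.mp hx.symm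

end Coeff

end EppAS

end Groth.Agent.Lib.helper10
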