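import Mathlib
import Groth.Prelude.Def_EtRam
import Groth.Agent.Lib.Helper10.EppAS1

/-!
Epp's elimination of wild ramification, Artin–Schreier step (helper10), part 2:
normal forms of elements of `L` modulo `℘(L) + B`.
-/

set_option autoImplicit false
set_option linter.unusedSectionVars false
set_option linter.style.haveILetI false

universe u

open IsLocalRing

namespace Groth.Agent.Lib.helper10

namespace EppAS

section Norm

variable (B L : Type u) [CommRing B] [IsDomain B] [IsDiscreteValuationRing B] [Field L]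
  [Algebra B L] [IsFractionRing B L] (π : B)

/-- `t π^{-i}` -/
noncomputable def mon (t : B) (i : ℕ) : L := algebraMap B L t * ((algebraMap B L π)⁻¹) ^ i

theorem mon_add (t t' : B) (i : ℕ) : mon B L π (t + t') i = mon B L π t i + mon B L π t' i := by
  unfold mon; rw [map_add, add_mul]

theorem mon_sub (t t' : B) (i : ℕ) : mon B L π (t - t') i = mon B L π t i - mon B L π t' i := by
  unfold mon; rw [map_sub, sub_mul]

theorem mon_zero (i : ℕ) : mon B L π 0 i = 0 := by unfold mon; rw [map_zero, zero_mul]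

theorem mon_zero_right (t : B) : mon B L π t 0 = algebraMap B L t := by
  unfold mon; rw [pow_zero, mul_one]

theorem mon_pow (t : B) (i a : ℕ) : mon B L π (t ^ a) (i * a) = (mon B L π t i) ^ a := by
  unfold mon; rw [map_pow, mul_pow, ← pow_mul]

theorem mon_mul_pi (hπ0 : π ≠ 0) (c : B) (k : ℕ) : mon B L π (π * c) (k + 1) = mon B L π c k := by
  have h0 : algebraMap B L π ≠ 0 := by
    rwa [Ne, map_eq_zero_iff _ (IsFractionRing.injective B L)]
  unfold mon
  rw [map_mul, pow_succ]
  field_simp

theorem mon_pi_pow_mul (hπ0 : π ≠ 0) (c : B) (k j : ℕ) (hjk : j ≤ k) :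
    mon B L π (π ^ k * c) j = algebraMap B L (π ^ (k - j) * c) := by
  have h0 : algebraMap B L π ≠ 0 := by
    rwa [Ne, map_eq_zero_iff _ (IsFractionRing.injective B L)]
  unfold mon
  obtain ⟨d, rfl⟩ := Nat.exists_eq_add_of_le hjk
  rw [Nat.add_sub_cancel_left, map_mul, map_mul, map_pow, map_pow, pow_add, inv_pow]
  field_simp

/-- the image of `B` in `L` as an additive subgroup -/
noncomputable def SB : AddSubgroup L := (algebraMap B L).toAddMonoidHom.range

theorem mem_SB (b : B) : algebraMap B L b ∈ SB B L := ⟨b, rfl⟩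

theorem exists_pow_le_lt (p : ℕ) (hp : 1 < p) {m N : ℕ} (hm : 0 < m) (hmN : m ≤ N) :
    ∃ a : ℕ, m * p ^ a ≤ N ∧ N < m * p ^ (a + 1) := by
  refine ⟨Nat.log p (N / m), ?_, ?_⟩
  · have h1 : p ^ Nat.log p (N / m) ≤ N / m :=
      Nat.pow_log_le_self p (Nat.div_pos hmN hm).ne'
    calc m * p ^ Nat.log p (N / m) ≤ m * (N / m) := Nat.mul_le_mul_left m h1
      _ ≤ N := Nat.mul_div_le N m
  · have h1 : N / m < p ^ (Nat.log p (N / m) + 1) := Nat.lt_pow_succ_log_self hp (N / m)
    rw [Nat.div_lt_iff_lt_mul hm] at h1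
    rwa [mul_comm]

variable (p : ℕ) [Fact p.Prime] [CharP L p]

theorem exists_normal (hπ : maximalIdeal B = Ideal.span {π}) (T : Subring B)
    (hT1 : ∀ b : B, ∃ t ∈ T, b - t ∈ maximalIdeal B) (N : ℕ) :
    ∀ k ≤ N, ∀ c : B, ∃ y : ℕ → B, (∀ i, y i ∈ T) ∧
      mon B L π c k - ∑ i ∈ Finset.Ioc (N / p) N, mon B L π (y i) i ∈ HH p (SB B L) := by
  classical
  have hp : p.Prime := Fact.out
  have hπ0 : π ≠ 0 := by
    rintro rfl
    rw [Set.singleton_zero, Ideal.span_zero] at hπ
    exact IsDiscreteValuationRing.not_a_field B hπ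
  intro k
  induction k with
  | zero =>
    intro _ c
    refine ⟨fun _ => 0, fun _ => T.zero_mem, ?_⟩
    simp only [mon_zero, Finset.sum_const_zero, sub_zero, mon_zero_right]
    exact mem_HH_of_mem p (mem_SB B L c)
  | succ k ih =>
    intro hk c
    obtain ⟨t, htT, hct⟩ := hT1 c
    rw [hπ, Ideal.mem_span_singleton'] at hct
    obtain ⟨c', hc'⟩ := hct
    obtain ⟨y', hy'T, hy'⟩ := ih (by omega) c'
    obtain ⟨a, ha1, ha2⟩ := exists_pow_le_lt p hp.one_lt (Nat.succ_pos k) hk
    set i₁ := (k + 1) * p ^ a with hi₁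
    have hi₁mem : i₁ ∈ Finset.Ioc (N / p) N := by
      rw [Finset.mem_Ioc]
      refine ⟨?_, ha1⟩
      rw [Nat.div_lt_iff_lt_mul hp.pos]
      rw [pow_succ, ← mul_assoc] at ha2
      exact ha2
    refine ⟨fun i => y' i + if i = i₁ then t ^ (p ^ a) else 0, fun i => ?_, ?_⟩
    · apply T.add_mem (hy'T i)
      split_ifs
      · exact T.pow_mem htT _
      · exact T.zero_mem
    · have hsum : ∑ i ∈ Finset.Ioc (N / p) N,
          mon B L π (y' i + if i = i₁ then t ^ (p ^ a) else 0) i =
          ∑ i ∈ Finset.Ioc (N / p) N, mon B L π (y' i) i + mon B L π (t ^ (p ^ a)) i₁ := by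
        simp_rw [mon_add]
        rw [Finset.sum_add_distrib]
        congr 1
        have : ∀ i, mon B L π (if i = i₁ then t ^ (p ^ a) else 0) i =
            if i = i₁ then mon B L π (t ^ (p ^ a)) i₁ else 0 := by
          intro i
          split_ifs with h
          · rw [h]
          · exact mon_zero B L π i
        simp_rw [this]
        rw [Finset.sum_ite_eq' _ i₁, if_pos hi₁mem]
      rw [hsum]
      have hc : c = t + π * c' := by
        have : c - t = π * c' := by rw [← hc', mul_comm]
        rw [← this]; ring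
      have h1 : mon B L π c (k + 1) = mon B L π t (k + 1) + mon B L π c' k := by
        rw [hc, mon_add, mon_mul_pi B L π hπ0]
      have h2 : mon B L π (t ^ (p ^ a)) i₁ - mon B L π t (k + 1) ∈ HH p (SB B L) := by
        rw [hi₁, mon_pow]
        exact pow_sub_self_mem_HH p _ _ _
      have h3 : mon B L π c (k + 1) -
          (∑ i ∈ Finset.Ioc (N / p) N, mon B L π (y' i) i + mon B L π (t ^ (p ^ a)) i₁) =
          (mon B L π c' k - ∑ i ∈ Finset.Ioc (N / p) N, mon B L π (y' i) i) -
          (mon B L π (t ^ (p ^ a)) i₁ - mon B L π t (k + 1)) := by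
        rw [h1]; ring
      rw [h3]
      exact AddSubgroup.sub_mem _ hy' h2

end Norm

end EppAS

end Groth.Agent.Lib.helper10
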