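import Mathlib
import Groth.Prelude.Def_EtRam
import Groth.Agent.Lib.Helper10.EppAS2

/-!
Epp's elimination of wild ramification, Artin–Schreier step (helper10), part 3:
the computation over a totally ramified extension of degree `p ^ r`.
-/

set_option autoImplicit false
set_option linter.unusedSectionVars false
set_option linter.style.haveILetI false

universe u

open IsLocalRing

namespace Groth.Agent.Lib.helper10

namespace EppAS

/-- A "good" Artin–Schreier datum w.r.t. the valuation subring `W`: either integral, or of the form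
`c ϖ^{-m}` with `p ∣ m` and the residue class of `c` not a `p`-th power. -/
def GoodForm {F : Type u} [Field F] (p : ℕ) (W : ValuationSubring F) (η : F) : Prop :=
  η ∈ W ∨ ∃ (ϖ : F) (m : ℕ), W.valuation ϖ < 1 ∧
    (∀ x : F, W.valuation x < 1 → W.valuation x ≤ W.valuation ϖ) ∧ 0 < m ∧ p ∣ m ∧
    η * ϖ ^ m ∈ W ∧ ∀ r ∈ W, ¬ W.valuation (η * ϖ ^ m - r ^ p) < 1

section Over

variable (B L F : Type u) [CommRing B] [IsDomain B] [IsDiscreteValuationRing B] [Field L]
  [Algebra B L] [IsFractionRing B L] [Field F] [Algebra L F] [Algebra B F] [IsScalarTower B L F]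
  (p : ℕ) [Fact p.Prime] [CharP L p] [CharP F p] (π : B) (W : ValuationSubring F)

/-- `W` as an additive subgroup -/
def SW : AddSubgroup F := W.toSubring.toAddSubgroup

theorem mem_SW {x : F} : x ∈ SW F W ↔ x ∈ W := Iff.rfl

theorem map_mon (t : B) (i : ℕ) : algebraMap L F (mon B L π t i) =
    algebraMap B F t * ((algebraMap B F π)⁻¹) ^ i := by
  unfold mon
  rw [map_mul, map_pow, map_inv₀, ← IsScalarTower.algebraMap_apply,
    ← IsScalarTower.algebraMap_apply]

theorem map_HH (hBW : ∀ b : B, algebraMap B F b ∈ W) {x : L} (hx : x ∈ HH p (SB B L)) :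
    algebraMap L F x ∈ HH p (SW F W) := by
  rw [mem_HH] at hx ⊢
  obtain ⟨y, b, hb⟩ := hx
  refine ⟨algebraMap L F y, ?_⟩
  have : algebraMap L F x - (algebraMap L F y ^ p - algebraMap L F y) =
      algebraMap L F (x - (y ^ p - y)) := by
    rw [map_sub, map_sub, map_pow]
  rw [this, ← hb, mem_SW]
  show algebraMap L F (algebraMap B L b) ∈ W
  rw [← IsScalarTower.algebraMap_apply]
  exact hBW b

variable {B L F p π W}

theorem lemma_P (hinj : Function.Injective (algebraMap B F))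
    (hBW : ∀ b : B, algebraMap B F b ∈ W)
    (hπW : W.valuation (algebraMap B F π) < 1) (hπ0 : π ≠ 0)
    {π₁ b : F} {q n : ℕ} (hb : b ∈ W) (hn : 2 ≤ n)
    (hrel : π₁ ^ q = algebraMap B F π + algebraMap B F π ^ n * b) (i : ℕ) (hi : i + 1 ≤ n) :
    ((algebraMap B F π)⁻¹) ^ i - (π₁⁻¹) ^ (i * q) ∈ W := by
  set ϖ := algebraMap B F π with hϖ
  have hϖ0 : ϖ ≠ 0 := by
    rw [hϖ, Ne, map_eq_zero_iff _ hinj]; exact hπ0
  have hϖW : ϖ ∈ W := hBW π
  set ε : F := 1 + ϖ ^ (n - 1) * b with hε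
  have hrel' : π₁ ^ q = ϖ * ε := by
    rw [hrel, hε]
    obtain ⟨d, rfl⟩ := Nat.exists_eq_add_of_le (show 1 ≤ n by omega)
    rw [Nat.add_sub_cancel_left, pow_add, pow_one]; ring
  have hvb : W.valuation b ≤ 1 := (ValuationSubring.valuation_le_one_iff _ _).mpr hb
  have hvsmall : W.valuation (ϖ ^ (n - 1) * b) < 1 := by
    rw [map_mul, map_pow]
    have h1 : W.valuation ϖ ^ (n - 1) < 1 := pow_lt_one₀ zero_le hπW (by omega)
    calc W.valuation ϖ ^ (n - 1) * W.valuation b ≤ W.valuation ϖ ^ (n - 1) * 1 :=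
          mul_le_mul_right hvb _
      _ < 1 := by rwa [mul_one]
  have hvε : W.valuation ε = 1 := by
    rw [hε, add_comm]
    rw [Valuation.map_add_eq_of_lt_right _ (by rw [map_one]; exact hvsmall), map_one]
  have hε0 : ε ≠ 0 := by
    intro h; rw [h, map_zero] at hvε; exact zero_ne_one hvε
  have hεW : ε ∈ W := (ValuationSubring.valuation_le_one_iff _ _).mp hvε.le
  -- geometric sum
  have hg : (∑ j ∈ Finset.range i, ε ^ j) * (ε - 1) = ε ^ i - 1 := geom_sum_mul ε i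
  have hgW : (∑ j ∈ Finset.range i, ε ^ j) ∈ W :=
    Subring.sum_mem W.toSubring (fun j _ => W.pow_mem hεW j)
  set g := ∑ j ∈ Finset.range i, ε ^ j with hgdef
  have hε1 : ε - 1 = ϖ ^ (n - 1) * b := by rw [hε]; ring
  obtain ⟨d, hd⟩ := Nat.exists_eq_add_of_le (show i ≤ n - 1 by omega)
  have key : (ϖ⁻¹) ^ i - (π₁⁻¹) ^ (i * q) = g * b * ϖ ^ d * (ε⁻¹) ^ i := by
    have h1 : (π₁⁻¹) ^ (i * q) = (ϖ⁻¹) ^ i * (ε⁻¹) ^ i := by
      rw [mul_comm i q, pow_mul, inv_pow, hrel', mul_inv, mul_pow]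
    have h2 : ε ^ i - 1 = g * (ϖ ^ i * ϖ ^ d * b) := by
      rw [← hg, hε1, hd, pow_add]
    rw [h1]
    have h5 : (ε⁻¹) ^ i * ε ^ i = 1 := by rw [← mul_pow, inv_mul_cancel₀ hε0, one_pow]
    have h3 : (ϖ⁻¹) ^ i - (ϖ⁻¹) ^ i * (ε⁻¹) ^ i = (ϖ⁻¹) ^ i * (ε⁻¹) ^ i * (ε ^ i - 1) := by
      calc (ϖ⁻¹) ^ i - (ϖ⁻¹) ^ i * (ε⁻¹) ^ i
          = (ϖ⁻¹) ^ i * ((ε⁻¹) ^ i * ε ^ i) - (ϖ⁻¹) ^ i * (ε⁻¹) ^ i := by rw [h5, mul_one]
        _ = _ := by ring
    rw [h3, h2]
    have h4 : (ϖ⁻¹) ^ i * ϖ ^ i = 1 := by rw [← mul_pow, inv_mul_cancel₀ hϖ0, one_pow]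
    calc (ϖ⁻¹) ^ i * (ε⁻¹) ^ i * (g * (ϖ ^ i * ϖ ^ d * b))
        = ((ϖ⁻¹) ^ i * ϖ ^ i) * (g * b * ϖ ^ d * (ε⁻¹) ^ i) := by ring
      _ = g * b * ϖ ^ d * (ε⁻¹) ^ i := by rw [h4, one_mul]
  rw [key]
  have hεinv : (ε⁻¹) ^ i ∈ W := by
    apply W.pow_mem
    show ε⁻¹ ∈ W
    rw [← ValuationSubring.valuation_le_one_iff, map_inv₀, hvε, inv_one]
  exact mul_mem (mul_mem (mul_mem hgW hb) (pow_mem hϖW d)) hεinv

theorem lemma_T (hinj : Function.Injective (algebraMap B F))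
    (hBW : ∀ b : B, algebraMap B F b ∈ W)
    (hπW : W.valuation (algebraMap B F π) < 1) (hπ : maximalIdeal B = Ideal.span {π})
    {π₁ b : F} {r n N : ℕ} (hb : b ∈ W) (hn : N + 2 ≤ n)
    (hrel : π₁ ^ (p ^ r) = algebraMap B F π + algebraMap B F π ^ n * b)
    (t u : B) (s i : ℕ) (hs : s ≤ r) (hi : i ≤ N)
    (htu : t - u ^ (p ^ s) ∈ maximalIdeal B ^ (N + 1)) :
    algebraMap L F (mon B L π t i) - algebraMap B F u * (π₁⁻¹) ^ (i * p ^ (r - s)) ∈
      HH p (SW F W) := by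
  have hπ0 : π ≠ 0 := by
    rintro rfl
    rw [Set.singleton_zero, Ideal.span_zero] at hπ
    exact IsDiscreteValuationRing.not_a_field B hπ
  rw [hπ, Ideal.span_singleton_pow, Ideal.mem_span_singleton'] at htu
  obtain ⟨d, hd⟩ := htu
  set ϖ := algebraMap B F π with hϖ
  have hϖ0 : ϖ ≠ 0 := by
    rw [hϖ, Ne, map_eq_zero_iff _ hinj]; exact hπ0
  have hP := lemma_P hinj hBW hπW hπ0 hb (by omega) hrel i (by omega)
  rw [map_mon]
  set X : F := algebraMap B F u * (π₁⁻¹) ^ (i * p ^ (r - s)) with hX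
  have hXpow : X ^ (p ^ s) = algebraMap B F (u ^ (p ^ s)) * (π₁⁻¹) ^ (i * p ^ r) := by
    rw [hX, mul_pow, ← pow_mul, map_pow, mul_assoc, ← pow_add, Nat.sub_add_cancel hs]
  have ht : t = u ^ (p ^ s) + d * π ^ (N + 1) := by rw [hd]; ring
  obtain ⟨e, he⟩ := Nat.exists_eq_add_of_le (show i ≤ N + 1 by omega)
  have h1 : algebraMap B F t * (ϖ⁻¹) ^ i - X =
      (X ^ (p ^ s) - X) + (algebraMap B F (u ^ (p ^ s)) * ((ϖ⁻¹) ^ i - (π₁⁻¹) ^ (i * p ^ r)) +
        algebraMap B F (d * π ^ e)) := by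
    have h4 : (ϖ⁻¹) ^ i * ϖ ^ i = 1 := by rw [← mul_pow, inv_mul_cancel₀ hϖ0, one_pow]
    have e1 : algebraMap B F t = algebraMap B F u ^ (p ^ s) +
        algebraMap B F d * (ϖ ^ i * ϖ ^ e) := by
      rw [ht, map_add, map_mul, map_pow, map_pow, he, pow_add]
    have e2 : algebraMap B F (u ^ (p ^ s)) = algebraMap B F u ^ (p ^ s) := map_pow _ _ _
    have e3 : algebraMap B F (d * π ^ e) = algebraMap B F d * ϖ ^ e := by
      rw [map_mul, map_pow]
    rw [hXpow, e1, e2, e3]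
    linear_combination (algebraMap B F d * ϖ ^ e) * h4
  rw [h1]
  apply AddSubgroup.add_mem _ (pow_sub_self_mem_HH p _ _ _)
  apply mem_HH_of_mem
  rw [mem_SW]
  exact add_mem (mul_mem (hBW _) hP) (hBW _)

theorem val_eq_one_of_isUnit (hBW : ∀ b : B, algebraMap B F b ∈ W) {b : B} (hb : IsUnit b) :
    W.valuation (algebraMap B F b) = 1 := by
  obtain ⟨c, hc⟩ := hb.exists_right_inv
  have h1 : W.valuation (algebraMap B F b) * W.valuation (algebraMap B F c) = 1 := by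
    rw [← map_mul, ← map_mul, hc, map_one, map_one]
  have h2 : W.valuation (algebraMap B F b) ≤ 1 :=
    (ValuationSubring.valuation_le_one_iff _ _).mpr (hBW b)
  have h3 : W.valuation (algebraMap B F c) ≤ 1 :=
    (ValuationSubring.valuation_le_one_iff _ _).mpr (hBW c)
  refine le_antisymm h2 ?_
  by_contra hlt
  rw [not_le] at hlt
  have h0 : W.valuation (algebraMap B F c) ≠ 0 := by
    intro h; rw [h, mul_zero] at h1; exact zero_ne_one h1
  have : W.valuation (algebraMap B F b) * W.valuation (algebraMap B F c) < 1 := by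
    calc W.valuation (algebraMap B F b) * W.valuation (algebraMap B F c)
        < 1 * W.valuation (algebraMap B F c) :=
          mul_lt_mul_of_pos_right hlt (zero_lt_iff.mpr h0)
      _ ≤ 1 := by rw [one_mul]; exact h3
  rw [h1] at this
  exact lt_irrefl _ this

theorem good_form_of_normal (hinj : Function.Injective (algebraMap B F))
    (hBW : ∀ b : B, algebraMap B F b ∈ W)
    (hdom : ∀ b : B, b ∈ maximalIdeal B → W.valuation (algebraMap B F b) < 1)
    (hπ : maximalIdeal B = Ideal.span {π})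
    {π₁ b : F} {r n N : ℕ} (hb : b ∈ W) (hn : N + 2 ≤ n)
    (hrel : π₁ ^ (p ^ r) = algebraMap B F π + algebraMap B F π ^ n * b)
    (hπ₁ : W.valuation π₁ < 1)
    (hπ₁gen : ∀ x : F, W.valuation x < 1 → W.valuation x ≤ W.valuation π₁)
    (hres : ∀ w ∈ W, ∃ b' : B, W.valuation (w - algebraMap B F b') < 1)
    (y u : ℕ → B) (s : ℕ → ℕ)
    (hyu : ∀ i ∈ Finset.Ioc (N / p) N,
      s i ≤ r ∧ y i - u i ^ (p ^ s i) ∈ maximalIdeal B ^ (N + 1))
    (j₀ : ℕ) (hj₀ : j₀ ∈ Finset.Ioc (N / p) N) (hsj₀ : s j₀ < r)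
    (hu₀ : ∀ b' : B, u j₀ - b' ^ p ∉ maximalIdeal B)
    (hmax : ∀ i ∈ Finset.Ioc (N / p) N, i ≠ j₀ → i * p ^ (r - s i) < j₀ * p ^ (r - s j₀))
    (ξ : L) (hξ : ξ - ∑ i ∈ Finset.Ioc (N / p) N, mon B L π (y i) i ∈ HH p (SB B L)) :
    ∃ yy : F, GoodForm p W (algebraMap L F ξ - (yy ^ p - yy)) := by
  classical
  have hp : p.Prime := Fact.out
  have hπmem : π ∈ maximalIdeal B := by rw [hπ]; exact Ideal.mem_span_singleton_self π
  have hπW : W.valuation (algebraMap B F π) < 1 := hdom π hπmem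
  have hπ0 : π ≠ 0 := by
    rintro rfl
    rw [Set.singleton_zero, Ideal.span_zero] at hπ
    exact IsDiscreteValuationRing.not_a_field B hπ
  have hϖ0 : algebraMap B F π ≠ 0 := by
    rw [Ne, map_eq_zero_iff _ hinj]; exact hπ0
  have hπ₁0 : π₁ ≠ 0 := by
    intro h
    have h1 := hπ₁gen _ hπW
    rw [h, map_zero, le_zero_iff, map_eq_zero] at h1
    exact hϖ0 h1
  set S := Finset.Ioc (N / p) N with hS
  set e : ℕ → ℕ := fun i => i * p ^ (r - s i) with he
  set m := e j₀ with hm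
  have h1 : algebraMap L F ξ - ∑ i ∈ S, algebraMap L F (mon B L π (y i) i) ∈ HH p (SW F W) := by
    have := map_HH B L F p W hBW hξ
    rwa [map_sub, map_sum] at this
  have h2 : ∑ i ∈ S, (algebraMap L F (mon B L π (y i) i) -
      algebraMap B F (u i) * (π₁⁻¹) ^ (e i)) ∈ HH p (SW F W) := by
    apply AddSubgroup.sum_mem
    intro i hi
    exact lemma_T hinj hBW hπW hπ hb hn hrel (y i) (u i) (s i) i (hyu i hi).1
      (Finset.mem_Ioc.mp hi).2 (hyu i hi).2
  have h3 : algebraMap L F ξ - ∑ i ∈ S, algebraMap B F (u i) * (π₁⁻¹) ^ (e i) ∈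
      HH p (SW F W) := by
    have := AddSubgroup.add_mem _ h1 h2
    rw [Finset.sum_sub_distrib] at this
    convert this using 1
    ring
  obtain ⟨yy, hyy⟩ := (mem_HH p).mp h3
  rw [mem_SW] at hyy
  set w₀ := algebraMap L F ξ - ∑ i ∈ S, algebraMap B F (u i) * (π₁⁻¹) ^ (e i) - (yy ^ p - yy)
    with hw₀
  refine ⟨yy, ?_⟩
  set η := algebraMap L F ξ - (yy ^ p - yy) with hη
  have hηeq : η = ∑ i ∈ S, algebraMap B F (u i) * (π₁⁻¹) ^ (e i) + w₀ := by
    rw [hw₀, hη]; ring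
  have hj₀pos : 0 < j₀ := lt_of_le_of_lt (Nat.zero_le _) (Finset.mem_Ioc.mp hj₀).1
  have hmpos : 0 < m := Nat.mul_pos hj₀pos (pow_pos hp.pos _)
  have hpm : p ∣ m := by
    rw [hm, he]
    apply Dvd.dvd.mul_left
    exact dvd_pow_self p (by omega)
  set δ := ∑ i ∈ S.erase j₀, algebraMap B F (u i) * π₁ ^ (m - e i) + w₀ * π₁ ^ m with hδ
  have hprod : η * π₁ ^ m = algebraMap B F (u j₀) + δ := by
    rw [hηeq, add_mul, Finset.sum_mul, ← Finset.add_sum_erase S _ hj₀, hδ]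
    have hj : algebraMap B F (u j₀) * (π₁⁻¹) ^ (e j₀) * π₁ ^ m = algebraMap B F (u j₀) := by
      rw [mul_assoc, ← hm, ← mul_pow, inv_mul_cancel₀ hπ₁0, one_pow, mul_one]
    rw [hj]
    have hrest : ∑ i ∈ S.erase j₀, algebraMap B F (u i) * (π₁⁻¹) ^ (e i) * π₁ ^ m =
        ∑ i ∈ S.erase j₀, algebraMap B F (u i) * π₁ ^ (m - e i) := by
      apply Finset.sum_congr rfl
      intro i hi
      have hi' := Finset.mem_erase.mp hi
      have hlt : e i < m := hmax i hi'.2 hi'.1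
      obtain ⟨d, hd⟩ := Nat.exists_eq_add_of_lt hlt
      have : m - e i = d + 1 := by omega
      rw [this, mul_assoc]
      congr 1
      rw [hd, pow_add, pow_add, ← mul_assoc, ← mul_assoc, ← mul_pow, inv_mul_cancel₀ hπ₁0,
        one_pow, one_mul, pow_add]
    rw [hrest]; ring
  have hδlt : W.valuation δ < 1 := by
    rw [hδ]
    apply Valuation.map_add_lt
    · apply Valuation.map_sum_lt _ one_ne_zero
      intro i hi
      have hi' := Finset.mem_erase.mp hi
      have hlt : e i < m := hmax i hi'.2 hi'.1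
      rw [map_mul, map_pow]
      have h1 : W.valuation (algebraMap B F (u i)) ≤ 1 :=
        (ValuationSubring.valuation_le_one_iff _ _).mpr (hBW _)
      have h2 : W.valuation π₁ ^ (m - e i) < 1 := pow_lt_one₀ zero_le hπ₁ (by omega)
      calc W.valuation (algebraMap B F (u i)) * W.valuation π₁ ^ (m - e i)
          ≤ 1 * W.valuation π₁ ^ (m - e i) := mul_le_mul_left h1 _
        _ < 1 := by rwa [one_mul]
    · rw [map_mul, map_pow]
      have h1 : W.valuation w₀ ≤ 1 := (ValuationSubring.valuation_le_one_iff _ _).mpr hyy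
      have h2 : W.valuation π₁ ^ m < 1 := pow_lt_one₀ zero_le hπ₁ (by omega)
      calc W.valuation w₀ * W.valuation π₁ ^ m
          ≤ 1 * W.valuation π₁ ^ m := mul_le_mul_left h1 _
        _ < 1 := by rwa [one_mul]
  right
  refine ⟨π₁, m, hπ₁, hπ₁gen, hmpos, hpm, ?_, ?_⟩
  · rw [hprod]
    exact add_mem (hBW _) ((ValuationSubring.valuation_le_one_iff _ _).mp hδlt.le)
  · intro r' hr' hlt
    obtain ⟨b', hb'⟩ := hres r' hr'
    haveI : CharP F p := inferInstance
    have h4 : r' ^ p - algebraMap B F b' ^ p = (r' - algebraMap B F b') ^ p :=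
      (sub_pow_char (p := p) (x := r') (y := algebraMap B F b')).symm
    have h5 : W.valuation (r' ^ p - algebraMap B F b' ^ p) < 1 := by
      rw [h4, map_pow]
      exact pow_lt_one₀ zero_le hb' hp.ne_zero
    have h6 : algebraMap B F (u j₀ - b' ^ p) =
        (η * π₁ ^ m - r' ^ p) + (r' ^ p - algebraMap B F b' ^ p) - δ := by
      rw [hprod, map_sub, map_pow]; ring
    have h7 : W.valuation (algebraMap B F (u j₀ - b' ^ p)) < 1 := by
      rw [h6]
      exact Valuation.map_sub_lt _ (Valuation.map_add_lt _ hlt h5) hδlt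
    apply hu₀ b'
    by_contra hnot
    have hunit : IsUnit (u j₀ - b' ^ p) := by
      by_contra hnu
      exact hnot ((mem_maximalIdeal _).mpr hnu)
    rw [val_eq_one_of_isUnit hBW hunit] at h7
    exact lt_irrefl _ h7

end Over

end EppAS

end Groth.Agent.Lib.helper10
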