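import Mathlib
import Groth.Prelude.Def_EtRam
import Groth.Agent.Lib.Helper10.EppAS3

/-!
Epp's elimination of wild ramification, Artin–Schreier step (helper10), part 4:
analysis of an Artin–Schreier datum `ξ ∈ L` (normal form and the leading index).
-/

set_option autoImplicit false
set_option linter.unusedSectionVars false
set_option linter.style.haveILetI false

universe u

open IsLocalRing

namespace Groth.Agent.Lib.helper10

namespace EppAS

theorem exp_inj {p N i j a b : ℕ} (hp : 1 < p) (hi : N / p < i) (hiN : i ≤ N) (hj : N / p < j)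
    (hjN : j ≤ N) (h : i * p ^ a = j * p ^ b) : i = j := by
  have hp0 : 0 < p := by omega
  rw [Nat.div_lt_iff_lt_mul hp0] at hi hj
  rcases le_total a b with hab | hab
  · obtain ⟨d, rfl⟩ := Nat.exists_eq_add_of_le hab
    have h' : i * p ^ a = (j * p ^ d) * p ^ a := by rw [h, pow_add]; ring
    have h2 : i = j * p ^ d := Nat.eq_of_mul_eq_mul_right (pow_pos hp0 a) h'
    rcases Nat.eq_zero_or_pos d with rfl | hd
    · simpa using h2
    · exfalso
      have : p ≤ p ^ d := by
        calc p = p ^ 1 := (pow_one p).symm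
          _ ≤ p ^ d := Nat.pow_le_pow_right hp0 hd
      have : j * p ≤ i := by
        rw [h2]; exact Nat.mul_le_mul_left j this
      omega
  · obtain ⟨d, rfl⟩ := Nat.exists_eq_add_of_le hab
    have h' : j * p ^ b = (i * p ^ d) * p ^ b := by rw [← h, pow_add]; ring
    have h2 : j = i * p ^ d := Nat.eq_of_mul_eq_mul_right (pow_pos hp0 b) h'
    rcases Nat.eq_zero_or_pos d with rfl | hd
    · simpa using h2.symm
    · exfalso
      have : p ≤ p ^ d := by
        calc p = p ^ 1 := (pow_one p).symm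
          _ ≤ p ^ d := Nat.pow_le_pow_right hp0 hd
      have : i * p ≤ j := by
        rw [h2]; exact Nat.mul_le_mul_left i this
      omega

section Res

variable {B : Type u} [CommRing B] [IsDomain B] [IsDiscreteValuationRing B]

theorem lift_T {T : Subring B} (hT1 : ∀ b : B, ∃ t ∈ T, b - t ∈ maximalIdeal B)
    (μ : ResidueField B) : ∃ u ∈ T, residue B u = μ := by
  obtain ⟨b, rfl⟩ := residue_surjective μ
  obtain ⟨t, htT, ht⟩ := hT1 b
  refine ⟨t, htT, ?_⟩
  rw [← residue_eq_zero_iff, map_sub, sub_eq_zero] at ht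
  exact ht.symm

theorem congr_of_residue {T : Subring B} {N : ℕ}
    (hT2 : ∀ t ∈ T, t ∈ maximalIdeal B → t ∈ maximalIdeal B ^ (N + 1))
    {y u : B} (hy : y ∈ T) (hu : u ∈ T) (k : ℕ) (h : residue B y = residue B u ^ k) :
    y - u ^ k ∈ maximalIdeal B ^ (N + 1) := by
  apply hT2 _ (T.sub_mem hy (T.pow_mem hu k))
  rw [← residue_eq_zero_iff, map_sub, map_pow, h, sub_self]

end Res

section Analysis

variable (p : ℕ) [Fact p.Prime] (A B K L : Type u) [CommRing A] [IsDomain A]
  [IsDiscreteValuationRing A] [CommRing B] [IsDomain B] [IsDiscreteValuationRing B]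
  [Algebra A B] [IsLocalHom (algebraMap A B)]
  [Field K] [Field L] [Algebra A K] [IsFractionRing A K] [Algebra B L] [IsFractionRing B L]
  [Algebra K L] [Algebra A L] [IsScalarTower A K L] [IsScalarTower A B L] [CharP L p] [CharP B p]

theorem exists_mon {πB : B} (hπB : maximalIdeal B = Ideal.span {πB}) (ξ : L) :
    ∃ (c : B) (k : ℕ), ξ = mon B L πB c k := by
  have hirr : Irreducible πB := (IsDiscreteValuationRing.irreducible_iff_uniformizer πB).mpr hπB
  obtain ⟨b₁, b₂, hb₂, rfl⟩ := IsFractionRing.div_surjective (A := B) ξ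
  have hb₂0 : b₂ ≠ 0 := nonZeroDivisors.ne_zero hb₂
  obtain ⟨n, u, hu⟩ := IsDiscreteValuationRing.eq_unit_mul_pow_irreducible hb₂0 hirr
  refine ⟨b₁ * ((u⁻¹ : Bˣ) : B), n, ?_⟩
  unfold mon
  rw [hu, map_mul, map_mul, map_pow, inv_pow]
  have h1 : algebraMap B L (u : B) * algebraMap B L ((u⁻¹ : Bˣ) : B) = 1 := by
    rw [← map_mul, Units.mul_inv, map_one]
  have hu0 : algebraMap B L (u : B) ≠ 0 := left_ne_zero_of_mul_eq_one h1
  have hπ0 : algebraMap B L πB ≠ 0 := by
    rw [Ne, map_eq_zero_iff _ (IsFractionRing.injective B L)]; exact hirr.ne_zero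
  have h2 : algebraMap B L ((u⁻¹ : Bˣ) : B) = (algebraMap B L (u : B))⁻¹ :=
    eq_inv_of_mul_eq_one_right h1
  rw [h2]
  field_simp

theorem analysis (hw : EtRam.IsWeaklyUnramified A B)
    (hk : ∀ x : ResidueField B, (∀ n : ℕ, ∃ y : ResidueField B, y ^ (p ^ n) = x) ↔
      x ∈ Set.range (algebraMap (ResidueField A) (ResidueField B)))
    (π : A) (hπ : maximalIdeal A = Ideal.span {π}) (ξ : L) :
    (∃ a : K, ξ - algebraMap K L a ∈ HH p (SB B L)) ∨
    ∃ (N r : ℕ) (y u : ℕ → B) (s : ℕ → ℕ) (j₀ : ℕ),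
      (∀ i ∈ Finset.Ioc (N / p) N,
        s i ≤ r ∧ y i - u i ^ (p ^ s i) ∈ maximalIdeal B ^ (N + 1)) ∧
      j₀ ∈ Finset.Ioc (N / p) N ∧ s j₀ < r ∧ (∀ b' : B, u j₀ - b' ^ p ∉ maximalIdeal B) ∧
      (∀ i ∈ Finset.Ioc (N / p) N, i ≠ j₀ → i * p ^ (r - s i) < j₀ * p ^ (r - s j₀)) ∧
      ξ - ∑ i ∈ Finset.Ioc (N / p) N, mon B L (algebraMap A B π) (y i) i ∈ HH p (SB B L) := by
  classical
  have hp : p.Prime := Fact.out
  haveI hκ : CharP (ResidueField B) p := by
    rw [CharP.charP_iff_prime_eq_zero hp, ← map_natCast (residue B), CharP.cast_eq_zero,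
      map_zero]
  set πB := algebraMap A B π with hπBdef
  have hπB : maximalIdeal B = Ideal.span {πB} := by
    rw [← hw, hπ, Ideal.map_span, Set.image_singleton]
  have hπB0 : πB ≠ 0 := by
    intro h
    rw [h, Set.singleton_zero, Ideal.span_zero] at hπB
    exact IsDiscreteValuationRing.not_a_field B hπB
  obtain ⟨c, N, hξ⟩ := exists_mon B L hπB ξ
  obtain ⟨T, hT1, hT2⟩ := exists_coeff_subring B p N
  obtain ⟨y, hyT, hy⟩ := exists_normal B L πB p hπB T hT1 N N le_rfl c
  rw [← hξ] at hy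
  set S := Finset.Ioc (N / p) N with hS
  let InA : ℕ → Prop := fun i =>
    residue B (y i) ∈ Set.range (algebraMap (ResidueField A) (ResidueField B))
  by_cases hall : ∀ i ∈ S, InA i
  · left
    have hMle : N + 1 ≤ p ^ (N + 1) := (Nat.lt_pow_self hp.one_lt).le
    have hA : ∀ i : ℕ, ∃ ai : A, i ∈ S → y i - algebraMap A B ai ∈ maximalIdeal B ^ (N + 1) := by
      intro i
      by_cases hi : i ∈ S
      · obtain ⟨ρ, hρ⟩ := (hk _).mpr (hall i hi) (N + 1)
        have hρA : ρ ∈ Set.range (algebraMap (ResidueField A) (ResidueField B)) := by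
          rw [← hk]
          intro n
          obtain ⟨ρ', hρ'⟩ := (hk _).mpr (hall i hi) (n + (N + 1))
          refine ⟨ρ', ?_⟩
          apply iterateFrobenius_inj (ResidueField B) p (N + 1)
          rw [iterateFrobenius_def, iterateFrobenius_def]
          calc (ρ' ^ (p ^ n)) ^ (p ^ (N + 1)) = ρ' ^ (p ^ n * p ^ (N + 1)) :=
                (pow_mul _ _ _).symm
            _ = ρ' ^ (p ^ (n + (N + 1))) := by rw [← pow_add]
            _ = residue B (y i) := hρ'
            _ = ρ ^ (p ^ (N + 1)) := hρ.symm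
        obtain ⟨x', hx'⟩ := hρA
        obtain ⟨a'', rfl⟩ := residue_surjective x'
        rw [ResidueField.algebraMap_residue] at hx'
        obtain ⟨u, huT, hu⟩ := lift_T hT1 ρ
        have h1 : y i - u ^ (p ^ (N + 1)) ∈ maximalIdeal B ^ (N + 1) :=
          congr_of_residue hT2 (hyT i) huT _ (by rw [hu, hρ])
        have h2 : u - algebraMap A B a'' ∈ maximalIdeal B := by
          rw [← residue_eq_zero_iff, map_sub, hu, hx', sub_self]
        have h3 : u ^ (p ^ (N + 1)) - algebraMap A B a'' ^ (p ^ (N + 1)) ∈ maximalIdeal B ^ (N + 1) := by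
          rw [← sub_pow_char_pow (p := p)]
          exact Ideal.pow_le_pow_right hMle (Ideal.pow_mem_pow h2 _)
        refine ⟨a'' ^ (p ^ (N + 1)), fun _ => ?_⟩
        rw [map_pow]
        have : y i - algebraMap A B a'' ^ (p ^ (N + 1)) =
            (y i - u ^ (p ^ (N + 1))) + (u ^ (p ^ (N + 1)) - algebraMap A B a'' ^ (p ^ (N + 1))) := by ring
        rw [this]
        exact Ideal.add_mem _ h1 h3
      · exact ⟨0, fun h => absurd h hi⟩
    choose a ha using hA
    refine ⟨∑ i ∈ S, algebraMap A K (a i) * ((algebraMap A K π)⁻¹) ^ i, ?_⟩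
    have hmap : algebraMap K L (∑ i ∈ S, algebraMap A K (a i) * ((algebraMap A K π)⁻¹) ^ i) =
        ∑ i ∈ S, mon B L πB (algebraMap A B (a i)) i := by
      rw [map_sum]
      apply Finset.sum_congr rfl
      intro i _
      unfold mon
      rw [map_mul, map_pow, map_inv₀, ← IsScalarTower.algebraMap_apply A K L,
        ← IsScalarTower.algebraMap_apply A K L, ← IsScalarTower.algebraMap_apply A B L,
        hπBdef, ← IsScalarTower.algebraMap_apply A B L]
    rw [hmap]
    have h1 : ξ - ∑ i ∈ S, mon B L πB (algebraMap A B (a i)) i =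
        (ξ - ∑ i ∈ S, mon B L πB (y i) i) +
          ∑ i ∈ S, mon B L πB (y i - algebraMap A B (a i)) i := by
      simp_rw [mon_sub]
      rw [Finset.sum_sub_distrib]; ring
    rw [h1]
    apply AddSubgroup.add_mem _ hy
    apply mem_HH_of_mem
    apply AddSubgroup.sum_mem
    intro i hi
    have h2 := ha i hi
    rw [hπB, Ideal.span_singleton_pow, Ideal.mem_span_singleton'] at h2
    obtain ⟨d, hd⟩ := h2
    rw [← hd, mul_comm, mon_pi_pow_mul B L πB hπB0 d (N + 1) i
      (by have := (Finset.mem_Ioc.mp hi).2; omega)]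
    exact mem_SB B L _
  · right
    push Not at hall
    obtain ⟨j₁, hj₁S, hj₁⟩ := hall
    set J := S.filter (fun i => ¬ InA i) with hJ
    have hJne : J.Nonempty := ⟨j₁, Finset.mem_filter.mpr ⟨hj₁S, hj₁⟩⟩
    have hJdata : ∀ j : ℕ, ∃ (sj : ℕ) (uj : B), j ∈ J →
        (uj ∈ T ∧ residue B (y j) = residue B uj ^ (p ^ sj) ∧
          ∀ b' : B, uj - b' ^ p ∉ maximalIdeal B) := by
      intro j
      by_cases hj : j ∈ J
      · have hjnot : ¬ InA j := (Finset.mem_filter.mp hj).2
        have h1 : ¬ ∀ n : ℕ, ∃ y' : ResidueField B, y' ^ (p ^ n) = residue B (y j) :=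
          fun h => hjnot ((hk _).mp h)
        push Not at h1
        obtain ⟨n₀, hn₀⟩ := h1
        obtain ⟨sj, μ, hμ1, hμ2⟩ := root_max p (residue B (y j)) n₀ hn₀
        obtain ⟨uj, hujT, huj⟩ := lift_T hT1 μ
        refine ⟨sj, uj, fun _ => ⟨hujT, by rw [huj, hμ1], fun b' hb' => ?_⟩⟩
        rw [← residue_eq_zero_iff, map_sub, map_pow, huj, sub_eq_zero] at hb'
        exact hμ2 _ hb'.symm
      · exact ⟨0, 0, fun h => absurd h hj⟩
    choose sJ uJ hJd using hJdata
    set r := J.sup sJ + N + 1 with hr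
    have hIdata : ∀ i : ℕ, ∃ ui : B, i ∈ S → i ∉ J →
        (ui ∈ T ∧ residue B (y i) = residue B ui ^ (p ^ r)) := by
      intro i
      by_cases hi : i ∈ S ∧ i ∉ J
      · have hiA : InA i := by
          by_contra hnot
          exact hi.2 (Finset.mem_filter.mpr ⟨hi.1, hnot⟩)
        obtain ⟨ρ, hρ⟩ := (hk _).mpr hiA r
        obtain ⟨ui, huiT, hui⟩ := lift_T hT1 ρ
        exact ⟨ui, fun _ _ => ⟨huiT, by rw [hui, hρ]⟩⟩
      · exact ⟨0, fun h1 h2 => absurd ⟨h1, h2⟩ hi⟩
    choose uI hId using hIdata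
    obtain ⟨j₀, hj₀J, hj₀max⟩ :=
      Finset.exists_max_image J (fun j => j * p ^ (r - sJ j)) hJne
    have hJS : ∀ j ∈ J, j ∈ S := fun j hj => (Finset.mem_filter.mp hj).1
    have hsJle : ∀ j ∈ J, sJ j + N + 1 ≤ r := by
      intro j hj
      have : sJ j ≤ J.sup sJ := Finset.le_sup hj
      omega
    refine ⟨N, r, y, fun i => if i ∈ J then uJ i else uI i,
      fun i => if i ∈ J then sJ i else r, j₀, ?_, hJS j₀ hj₀J, ?_, ?_, ?_, hy⟩
    · intro i hi
      by_cases hiJ : i ∈ J
      · simp only [if_pos hiJ]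
        obtain ⟨h1, h2, -⟩ := hJd i hiJ
        exact ⟨by have := hsJle i hiJ; omega, congr_of_residue hT2 (hyT i) h1 _ h2⟩
      · simp only [if_neg hiJ]
        obtain ⟨h1, h2⟩ := hId i hi hiJ
        exact ⟨le_rfl, congr_of_residue hT2 (hyT i) h1 _ h2⟩
    · simp only [if_pos hj₀J]
      have := hsJle j₀ hj₀J; omega
    · simp only [if_pos hj₀J]
      exact (hJd j₀ hj₀J).2.2
    · intro i hi hij
      simp only [if_pos hj₀J]
      have hj₀S := Finset.mem_Ioc.mp (hJS j₀ hj₀J)
      have hiS := Finset.mem_Ioc.mp hi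
      by_cases hiJ : i ∈ J
      · simp only [if_pos hiJ]
        refine lt_of_le_of_ne (hj₀max i hiJ) (fun heq => hij ?_)
        exact exp_inj hp.one_lt hiS.1 hiS.2 hj₀S.1 hj₀S.2 heq
      · simp only [if_neg hiJ, Nat.sub_self, pow_zero, mul_one]
        have h1 : N + 1 ≤ r - sJ j₀ := by have := hsJle j₀ hj₀J; omega
        have h2 : N + 1 < p ^ (N + 1) := Nat.lt_pow_self hp.one_lt
        have h3 : p ^ (N + 1) ≤ p ^ (r - sJ j₀) := Nat.pow_le_pow_right hp.pos h1
        have h4 : 1 ≤ j₀ := lt_of_le_of_lt (Nat.zero_le _) hj₀S.1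
        calc i ≤ N := hiS.2
          _ < p ^ (r - sJ j₀) := by omega
          _ = 1 * p ^ (r - sJ j₀) := (one_mul _).symm
          _ ≤ j₀ * p ^ (r - sJ j₀) := Nat.mul_le_mul_right _ h4

end Analysis

end EppAS

end Groth.Agent.Lib.helper10
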