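import Mathlib
import Groth.Prelude.Def_EtRam
import Groth.Agent.Lib.Helper10.EppAS4
import Groth.Agent.S1984

/-!
Epp's elimination of wild ramification, Artin–Schreier step (helper10), part 5:
reduction of Artin–Schreier data over a DVR with perfect residue field; uniformizer transfer.
-/

set_option autoImplicit false
set_option linter.unusedSectionVars false
set_option linter.style.haveILetI false

universe u

open IsLocalRing

namespace Groth.Agent.Lib.helper10

namespace EppAS

section RedA

variable (A K : Type u) [CommRing A] [IsDomain A] [IsDiscreteValuationRing A] [Field K]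
  [Algebra A K] [IsFractionRing A K] (p : ℕ) [Fact p.Prime] [CharP K p] (π : A)

theorem mon_pi_pow_mul' (hπ0 : π ≠ 0) (d : A) (j k : ℕ) :
    mon A K π (π ^ k * d) (j + k) = mon A K π d j := by
  have h0 : algebraMap A K π ≠ 0 := by
    rwa [Ne, map_eq_zero_iff _ (IsFractionRing.injective A K)]
  unfold mon
  rw [map_mul, map_pow, pow_add, inv_pow, inv_pow]
  field_simp

theorem red_A (hperf : ∀ x : ResidueField A, ∃ y : ResidueField A, y ^ p = x)
    (hπ : maximalIdeal A = Ideal.span {π}) :
    ∀ (n : ℕ) (c : A), (∃ y : K, mon A K π c n - (y ^ p - y) ∈ SB A K) ∨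
      (∃ (y : K) (m : ℕ) (a₀ : Aˣ), 0 < m ∧ ¬ p ∣ m ∧
        (mon A K π c n - (y ^ p - y)) * algebraMap A K π ^ m = algebraMap A K a₀) := by
  have hp : p.Prime := Fact.out
  have hπ0 : π ≠ 0 := by
    rintro rfl
    rw [Set.singleton_zero, Ideal.span_zero] at hπ
    exact IsDiscreteValuationRing.not_a_field A hπ
  have h0 : algebraMap A K π ≠ 0 := by
    rwa [Ne, map_eq_zero_iff _ (IsFractionRing.injective A K)]
  intro n
  induction n with
  | zero =>
    intro c
    left
    refine ⟨0, ?_⟩
    rw [zero_pow hp.ne_zero, sub_zero, sub_zero, mon_zero_right]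
    exact mem_SB A K c
  | succ n ih =>
    intro c
    by_cases hc : c ∈ maximalIdeal A
    · rw [hπ, Ideal.mem_span_singleton'] at hc
      obtain ⟨c', rfl⟩ := hc
      rw [mul_comm, mon_mul_pi A K π hπ0]
      exact ih c'
    · have hcu : IsUnit c := by
        by_contra h; exact hc ((mem_maximalIdeal _).mpr h)
      by_cases hpn : p ∣ n + 1
      · obtain ⟨n', hn'⟩ := hpn
        have hn'pos : 0 < n' := by
          rcases Nat.eq_zero_or_pos n' with rfl | h
          · omega
          · exact h
        have hn'le : n' ≤ n := by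
          have : 2 * n' ≤ p * n' := Nat.mul_le_mul_right n' hp.two_le
          omega
        obtain ⟨ρ, hρ⟩ := hperf (residue A c)
        obtain ⟨d, rfl⟩ := residue_surjective ρ
        have hcd : c - d ^ p ∈ maximalIdeal A := by
          rw [← residue_eq_zero_iff, map_sub, map_pow, hρ, sub_self]
        rw [hπ, Ideal.mem_span_singleton'] at hcd
        obtain ⟨e, he⟩ := hcd
        set c'' := π ^ (n - n') * d + e with hc''
        have hc : c = d ^ p + π * e := by rw [mul_comm, he]; ring
        have key : mon A K π c (n + 1) - ((mon A K π d n') ^ p - mon A K π d n') =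
            mon A K π c'' n := by
          have h1 : mon A K π (d ^ p) (n + 1) = (mon A K π d n') ^ p := by
            rw [hn', mul_comm p n', mon_pow]
          have h2 : mon A K π (π ^ (n - n') * d) n = mon A K π d n' := by
            have := mon_pi_pow_mul' A K π hπ0 d n' (n - n')
            rwa [Nat.add_sub_cancel' hn'le] at this
          rw [hc, mon_add, h1, mon_mul_pi A K π hπ0, hc'', mon_add, h2]
          ring
        have hadd : ∀ y' : K, (mon A K π d n' + y') ^ p - (mon A K π d n' + y') =
            ((mon A K π d n') ^ p - mon A K π d n') + (y' ^ p - y') := by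
          intro y'
          rw [add_pow_char]; ring
        rcases ih c'' with ⟨y', hy'⟩ | ⟨y', m, a₀, hm, hpm, hy'⟩
        · left
          refine ⟨mon A K π d n' + y', ?_⟩
          rw [hadd]
          rw [← key] at hy'
          convert hy' using 1
          ring
        · right
          refine ⟨mon A K π d n' + y', m, a₀, hm, hpm, ?_⟩
          rw [hadd, ← hy', ← key]
          ring
      · right
        refine ⟨0, n + 1, hcu.unit, Nat.succ_pos n, hpn, ?_⟩
        rw [zero_pow hp.ne_zero, sub_zero, sub_zero]
        unfold mon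
        rw [mul_assoc, ← mul_pow, inv_mul_cancel₀ h0, one_pow, mul_one]
        rfl

end RedA

section Unif

open Groth.Agent.Lib.helper10.DvrExt

variable (A B K L : Type u) [CommRing A] [IsDomain A] [IsDiscreteValuationRing A]
    [CommRing B] [IsDomain B] [IsDiscreteValuationRing B] [Algebra A B] [IsLocalHom (algebraMap A B)]
    [Field K] [Field L] [Algebra A K] [IsFractionRing A K] [Algebra B L] [IsFractionRing B L]
    [Algebra K L] [Algebra A L] [IsScalarTower A K L] [IsScalarTower A B L]
    (K₁ : Type u) [Field K₁] [Algebra K K₁] [FiniteDimensional K K₁] [Algebra.IsSeparable K K₁]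
    (M : Type u) [Field M] [Algebra K M] [Algebra L M] [Algebra K₁ M] [IsScalarTower K L M]
    [IsScalarTower K K₁ M]

theorem unif_transfer (hw : EtRam.IsWeaklyUnramified A B)
    (ht : EtRam.IsTotallyRamified A ((algebraMap K K₁).comp (algebraMap A K)))
    (hgen : Algebra.adjoin L (Set.range (algebraMap K₁ M)) = ⊤)
    (W : ValuationSubring M)
    (hW : EtRam.Dominates B ((algebraMap L M).comp (algebraMap B L)) W)
    {π : A} (hπ : maximalIdeal A = Ideal.span {π}) :
    Module.finrank L M = Module.finrank K K₁ ∧
    ∃ x u : K₁, W.valuation (algebraMap K₁ M x) < 1 ∧ W.valuation (algebraMap K₁ M u) = 1 ∧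
      algebraMap K K₁ (algebraMap A K π) = u * x ^ Module.finrank K K₁ ∧
      (∀ z : M, W.valuation z < 1 → z / algebraMap K₁ M x ∈ W) ∧
      EtRam.Dominates A ((algebraMap K K₁).comp (algebraMap A K)) (W.comap (algebraMap K₁ M)) := by
  obtain ⟨hfd, hle⟩ := Groth.Agent.S1984.finite_of_gen K L K₁ M hgen
  haveI := hfd
  haveI := Groth.Agent.S1984.separable_of_gen K L K₁ M hgen
  letI : Algebra A K₁ := ((algebraMap K K₁).comp (algebraMap A K)).toAlgebra
  haveI : IsScalarTower A K K₁ := IsScalarTower.of_algebraMap_eq (fun _ => rfl)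
  letI : Algebra B M := ((algebraMap L M).comp (algebraMap B L)).toAlgebra
  haveI : IsScalarTower B L M := IsScalarTower.of_algebraMap_eq (fun _ => rfl)
  have hπB : maximalIdeal B = Ideal.span {algebraMap A B π} := by
    rw [← hw, hπ, Ideal.map_span, Set.image_singleton]
  obtain ⟨V₁, x, u, hV₁, huniq, hx, hu, hxu⟩ := TotRam.exists_unif A K K₁ ht hπ
  have hcomp : ∀ a : A, algebraMap K₁ M (algebraMap A K₁ a) = algebraMap B M (algebraMap A B a) := by
    intro a
    show algebraMap K₁ M (algebraMap K K₁ (algebraMap A K a)) =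
      algebraMap L M (algebraMap B L (algebraMap A B a))
    rw [← IsScalarTower.algebraMap_apply K K₁ M, ← IsScalarTower.algebraMap_apply A B L,
      IsScalarTower.algebraMap_apply A K L, ← IsScalarTower.algebraMap_apply K L M]
  have hdom : EtRam.Dominates A (algebraMap A K₁) (W.comap (algebraMap K₁ M)) := by
    refine ⟨fun a => ?_, fun a ha => ?_⟩
    · rw [ValuationSubring.mem_comap, hcomp]
      exact hW.1 _
    · rw [TotRam.comap_val_lt_one_iff, hcomp]
      apply hW.2
      exact (IsLocalRing.mem_maximalIdeal _).mpr (fun hu' =>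
        (IsLocalRing.mem_maximalIdeal _).mp ha (isUnit_of_map_unit (algebraMap A B) a hu'))
  have hV : W.comap (algebraMap K₁ M) = V₁ := huniq _ hdom
  have hx' : W.valuation (algebraMap K₁ M x) < 1 := by
    rw [← TotRam.comap_val_lt_one_iff, hV]; exact hx
  have hu' : W.valuation (algebraMap K₁ M u) = 1 := by
    rw [← TotRam.comap_val_eq_one_iff, hV]; exact hu
  have heq : algebraMap B M (algebraMap A B π) =
      algebraMap K₁ M u * algebraMap K₁ M x ^ Module.finrank K K₁ := by
    rw [← hcomp, hxu, map_mul, map_pow]
  obtain ⟨hfr, hdiv⟩ := TotRam.key B L M W hW hπB _ _ hx' hu' _ hle heq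
  exact ⟨hfr, x, u, hx', hu', hxu, hdiv, hdom⟩

end Unif

end EppAS

end Groth.Agent.Lib.helper10
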