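import Mathlib
import Groth.Prelude.Def_EtRam
import Groth.Agent.Lib.Helper10.CompDvr12
import Groth.Agent.Lib.Helper12.TameTower
import Groth.Agent.S9306
import Groth.Agent.S9307

/-!
Composita of unramified / tamely ramified extensions of the fraction field of a DVR (helper10).
-/

set_option autoImplicit false
set_option linter.unusedSectionVars false
set_option linter.style.haveILetI false

universe u

open IsLocalRing TensorProduct IsDedekindDomain

namespace Groth.Agent.Lib.helper10

namespace TameComp

open Groth.Agent.Lib.helper10.DvrExt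

section DVR

variable {L B : Type u} [Field L] [CommRing B] [IsDedekindDomain B] [Algebra B L]
  [IsFractionRing B L]

theorem isDVR_val (w : HeightOneSpectrum B) :
    IsDiscreteValuationRing (w.valuation L).valuationSubring :=
  inferInstanceAs (IsDiscreteValuationRing (w.valuation L).integer)

end DVR

section Dom

variable (A K L : Type u) [CommRing A] [IsDomain A] [IsDiscreteValuationRing A]
  [Field K] [Algebra A K] [IsFractionRing A K]
  [Field L] [Algebra K L] [FiniteDimensional K L] [Algebra.IsSeparable K L]

theorem isDVR_of_dominates (V : ValuationSubring L)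
    (hV : EtRam.Dominates A ((algebraMap K L).comp (algebraMap A K)) V) :
    IsDiscreteValuationRing V := by
  letI : Algebra A L := ((algebraMap K L).comp (algebraMap A K)).toAlgebra
  haveI : IsScalarTower A K L := IsScalarTower.of_algebraMap_eq (fun _ => rfl)
  haveI : Module.IsTorsionFree A L := .trans_faithfulSMul A K L
  haveI : IsDedekindDomain (integralClosure A L) := integralClosure.isDedekindDomain A K L
  haveI : IsFractionRing (integralClosure A L) L :=
    integralClosure.isFractionRing_of_finite_extension K L
  obtain ⟨w, hw, rfl⟩ := exists_w (integralClosure A L) V hV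
  exact isDVR_val w

end Dom

section Gen

variable (A K L₁ L₂ M : Type u) [CommRing A] [IsDomain A] [IsDiscreteValuationRing A]
  [Field K] [Algebra A K] [IsFractionRing A K]
  [Field L₁] [Field L₂] [Field M] [Algebra K L₁] [Algebra K L₂] [Algebra K M]
  [Algebra L₁ M] [Algebra L₂ M] [IsScalarTower K L₁ M] [IsScalarTower K L₂ M]
  [FiniteDimensional K L₁] [Algebra.IsSeparable K L₁]
  [FiniteDimensional K L₂] [Algebra.IsSeparable K L₂]

theorem unram_of_gen
    (h₁ : EtRam.IsUnramifiedExt A ((algebraMap K L₁).comp (algebraMap A K)))
    (h₂ : EtRam.IsUnramifiedExt A ((algebraMap K L₂).comp (algebraMap A K)))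
    (hgen : Algebra.adjoin L₂ (Set.range (algebraMap L₁ M)) = ⊤) :
    EtRam.IsUnramifiedExt A ((algebraMap K M).comp (algebraMap A K)) := by
  have hcomp : (algebraMap K M).comp (algebraMap A K) =
      (algebraMap L₂ M).comp ((algebraMap K L₂).comp (algebraMap A K)) := by
    ext a
    simp only [RingHom.comp_apply]
    rw [← IsScalarTower.algebraMap_apply K L₂ M]
  rw [hcomp]
  apply Groth.Agent.Lib.helper12.TameTower.unram_trans_concrete _ _ h₂
  intro V hV
  haveI : IsDiscreteValuationRing V := isDVR_of_dominates A K L₂ V hV
  letI : Algebra A L₂ := ((algebraMap K L₂).comp (algebraMap A K)).toAlgebra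
  haveI : IsScalarTower A K L₂ := IsScalarTower.of_algebraMap_eq (fun _ => rfl)
  letI : Algebra A V := (RingHom.codRestrict (algebraMap A L₂) V hV.1).toAlgebra
  haveI : IsLocalHom (algebraMap A V) := CompDvr.isLocalHom_codRestrict _ _ hV
  haveI : IsScalarTower A V L₂ := IsScalarTower.of_algebraMap_eq (fun _ => rfl)
  exact Groth.Agent.S9306.unram_compositum A V K L₂ L₁ M h₁ hgen

theorem tame_of_gen
    (h₁ : EtRam.IsTamelyRamified A ((algebraMap K L₁).comp (algebraMap A K)))
    (h₂ : EtRam.IsTamelyRamified A ((algebraMap K L₂).comp (algebraMap A K)))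
    (hgen : Algebra.adjoin L₂ (Set.range (algebraMap L₁ M)) = ⊤) :
    EtRam.IsTamelyRamified A ((algebraMap K M).comp (algebraMap A K)) := by
  have hcomp : (algebraMap K M).comp (algebraMap A K) =
      (algebraMap L₂ M).comp ((algebraMap K L₂).comp (algebraMap A K)) := by
    ext a
    simp only [RingHom.comp_apply]
    rw [← IsScalarTower.algebraMap_apply K L₂ M]
  rw [hcomp]
  obtain ⟨π, hπ⟩ := IsDiscreteValuationRing.exists_irreducible A
  apply Groth.Agent.Lib.helper12.TameTower.tame_trans_concrete hπ.maximalIdeal_eq _ _ h₂
  intro V hV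
  haveI : IsDiscreteValuationRing V := isDVR_of_dominates A K L₂ V hV
  letI : Algebra A L₂ := ((algebraMap K L₂).comp (algebraMap A K)).toAlgebra
  haveI : IsScalarTower A K L₂ := IsScalarTower.of_algebraMap_eq (fun _ => rfl)
  letI : Algebra A V := (RingHom.codRestrict (algebraMap A L₂) V hV.1).toAlgebra
  haveI : IsLocalHom (algebraMap A V) := CompDvr.isLocalHom_codRestrict _ _ hV
  haveI : IsScalarTower A V L₂ := IsScalarTower.of_algebraMap_eq (fun _ => rfl)
  have hinj : Function.Injective (algebraMap A V) := by
    intro a b hab
    have h1 : algebraMap A L₂ a = algebraMap A L₂ b := congrArg Subtype.val hab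
    exact ((algebraMap K L₂).injective.comp (IsFractionRing.injective A K)) h1
  exact Groth.Agent.S9307.tame_compositum A V K L₂ L₁ M hinj h₁ hgen

end Gen

end TameComp

end Groth.Agent.Lib.helper10
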