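import Mathlib
import Groth.Prelude.Def_EtRam
import Groth.Agent.Lib.Helper10.EppAS5
import Groth.Agent.Lib.Helper10.TameComp1
import Groth.Agent.S7158

/-!
Epp's elimination of wild ramification, Artin–Schreier step (helper10), part 6:
from good Artin–Schreier forms over all composita `L·K₁` to a weak solution for `C`.
-/

set_option autoImplicit false
set_option linter.unusedSectionVars false
set_option linter.style.haveILetI false

universe u

open IsLocalRing

namespace Groth.Agent.Lib.helper10

namespace EppAS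

section VS

variable {F : Type u} [Field F]

theorem maxIdeal_eq_span (W : ValuationSubring F) (ϖ : F) (hϖ : W.valuation ϖ < 1)
    (hgen : ∀ x : F, W.valuation x < 1 → W.valuation x ≤ W.valuation ϖ) :
    maximalIdeal W =
      Ideal.span {(⟨ϖ, (ValuationSubring.valuation_le_one_iff W ϖ).mp hϖ.le⟩ : W)} := by
  apply le_antisymm
  · intro x hx
    rw [ValuationSubring.valuation_lt_one_iff] at hx
    rw [Ideal.mem_span_singleton']
    by_cases h0 : ϖ = 0
    · have := hgen _ hx
      rw [h0, map_zero, le_zero_iff, map_eq_zero] at this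
      refine ⟨0, Subtype.ext ?_⟩
      simp [this]
    · have hle := hgen _ hx
      have hv0 : W.valuation ϖ ≠ 0 := by rwa [Ne, map_eq_zero]
      have hmem : (x : F) / ϖ ∈ W := by
        rw [← ValuationSubring.valuation_le_one_iff, map_div₀]
        exact (div_le_one₀ (zero_lt_iff.mpr hv0)).mpr hle
      exact ⟨⟨_, hmem⟩, Subtype.ext (div_mul_cancel₀ _ h0)⟩
  · rw [Ideal.span_singleton_le_iff_mem, ValuationSubring.valuation_lt_one_iff]
    exact hϖ

end VS

section WS

variable (p : ℕ) (hp : p.Prime) (A B C K L M : Type u)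
    [CommRing A] [IsDomain A] [IsDiscreteValuationRing A] [CommRing B] [IsDomain B]
    [IsDiscreteValuationRing B] [CommRing C] [IsDomain C] [IsDiscreteValuationRing C]
    [Algebra A B] [Algebra B C] [Algebra A C] [IsScalarTower A B C]
    [IsLocalHom (algebraMap A B)] [IsLocalHom (algebraMap B C)]
    [Field K] [Field L] [Field M] [Algebra A K] [IsFractionRing A K] [Algebra B L]
    [IsFractionRing B L] [Algebra C M] [IsFractionRing C M] [Algebra K L] [Algebra L M]
    [Algebra K M] [IsScalarTower K L M]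
    [Algebra A L] [IsScalarTower A K L] [IsScalarTower A B L] [Algebra B M] [IsScalarTower B L M]
    [IsScalarTower B C M] [Algebra A M] [IsScalarTower A K M] [IsScalarTower A C M]
    [CharP K p]
    (K₁ : Type u) [Field K₁] [Algebra K K₁] [FiniteDimensional K K₁] [Algebra.IsSeparable K K₁]

include hp in
theorem ws_of_good (hw : EtRam.IsWeaklyUnramified A B)
    (ht : EtRam.IsTotallyRamified A ((algebraMap K K₁).comp (algebraMap A K)))
    (z : M) (ξ : L) (hz : z ^ p - z = algebraMap L M ξ)
    (hzgen : IntermediateField.adjoin L {z} = ⊤)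
    (Hgood : ∀ (F₁ : Type u) [Field F₁] [Algebra K F₁] [Algebra L F₁] [Algebra K₁ F₁]
      [IsScalarTower K L F₁] [IsScalarTower K K₁ F₁],
      Algebra.adjoin L (Set.range (algebraMap K₁ F₁)) = ⊤ →
      ∀ W₁ : ValuationSubring F₁,
        EtRam.Dominates B ((algebraMap L F₁).comp (algebraMap B L)) W₁ →
        ∃ y : F₁, GoodForm p W₁ (algebraMap L F₁ ξ - (y ^ p - y))) :
    EtRam.IsWeakSolution C K M K₁ := by
  haveI : Fact p.Prime := ⟨hp⟩
  intro F _ _ _ _ _ _ hgenF W hW
  letI : Algebra L F := ((algebraMap M F).comp (algebraMap L M)).toAlgebra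
  haveI : IsScalarTower L M F := IsScalarTower.of_algebraMap_eq (fun _ => rfl)
  haveI : IsScalarTower K L F := IsScalarTower.of_algebraMap_eq (fun x => by
    show algebraMap K F x = algebraMap M F (algebraMap L M (algebraMap K L x))
    rw [← IsScalarTower.algebraMap_apply K L M, ← IsScalarTower.algebraMap_apply K M F])
  let F₁ : IntermediateField L F := IntermediateField.adjoin L (Set.range (algebraMap K₁ F))
  letI : Algebra K₁ F₁ := (RingHom.codRestrict (algebraMap K₁ F) F₁
    (fun x => IntermediateField.subset_adjoin L _ ⟨x, rfl⟩)).toAlgebra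
  haveI : IsScalarTower K₁ F₁ F := IsScalarTower.of_algebraMap_eq (fun _ => rfl)
  haveI : IsScalarTower K K₁ F₁ := IsScalarTower.of_algebraMap_eq (fun x => Subtype.ext (by
    show algebraMap K F x = algebraMap K₁ F (algebraMap K K₁ x)
    exact IsScalarTower.algebraMap_apply K K₁ F x))
  have hgen₁ : Algebra.adjoin L (Set.range (algebraMap K₁ F₁)) = ⊤ := by
    have halg : ∀ x ∈ Set.range (algebraMap K₁ F), IsAlgebraic L x := by
      rintro _ ⟨k, rfl⟩
      have h1 : IsAlgebraic K k := Algebra.IsAlgebraic.isAlgebraic k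
      have h2 : IsAlgebraic K (algebraMap K₁ F k) :=
        (isAlgebraic_algebraMap_iff (algebraMap K₁ F).injective).mpr h1
      exact h2.tower_top L
    have h1 : F₁.toSubalgebra = Algebra.adjoin L (Set.range (algebraMap K₁ F)) :=
      IntermediateField.adjoin_toSubalgebra_of_isAlgebraic halg
    have key : ∀ y (_ : y ∈ Algebra.adjoin L (Set.range (algebraMap K₁ F))) (h : y ∈ F₁),
        (⟨y, h⟩ : F₁) ∈ Algebra.adjoin L (Set.range (algebraMap K₁ F₁)) := by
      have hle : Algebra.adjoin L (Set.range (algebraMap K₁ F)) ≤ F₁.toSubalgebra := h1.ge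
      intro y hy
      induction hy using Algebra.adjoin_induction with
      | mem y hy =>
        intro h
        obtain ⟨k, rfl⟩ := hy
        apply Algebra.subset_adjoin
        exact ⟨k, rfl⟩
      | algebraMap r =>
        intro h
        exact Subalgebra.algebraMap_mem _ r
      | add y y' hy hy' ihy ihy' =>
        intro h
        exact Subalgebra.add_mem _ (ihy (hle hy)) (ihy' (hle hy'))
      | mul y y' hy hy' ihy ihy' =>
        intro h
        exact Subalgebra.mul_mem _ (ihy (hle hy)) (ihy' (hle hy'))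
    rw [eq_top_iff]
    rintro ⟨x, hx⟩ -
    have hx' : x ∈ F₁.toSubalgebra := hx
    rw [h1] at hx'
    exact key x hx' hx
  let W₁ : ValuationSubring F₁ := W.comap (algebraMap F₁ F)
  have hBF : ∀ b : B, algebraMap F₁ F (algebraMap L F₁ (algebraMap B L b)) =
      algebraMap M F (algebraMap C M (algebraMap B C b)) := by
    intro b
    rw [← IsScalarTower.algebraMap_apply L F₁ F, ← IsScalarTower.algebraMap_apply B C M,
      IsScalarTower.algebraMap_apply B L M]
    rfl
  have hdom₁ : EtRam.Dominates B ((algebraMap L F₁).comp (algebraMap B L)) W₁ := by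
    refine ⟨fun b => ?_, fun b hb => ?_⟩
    · show algebraMap F₁ F (algebraMap L F₁ (algebraMap B L b)) ∈ W
      rw [hBF]
      exact hW.1 _
    · rw [TotRam.comap_val_lt_one_iff]
      show W.valuation (algebraMap F₁ F (algebraMap L F₁ (algebraMap B L b))) < 1
      rw [hBF]
      apply hW.2
      exact (IsLocalRing.mem_maximalIdeal _).mpr (fun hu' =>
        (IsLocalRing.mem_maximalIdeal _).mp hb (isUnit_of_map_unit (algebraMap B C) b hu'))
  obtain ⟨y, hgood⟩ := Hgood F₁ hgen₁ W₁ hdom₁
  obtain ⟨π, hπirr⟩ := IsDiscreteValuationRing.exists_irreducible A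
  have hπ : maximalIdeal A = Ideal.span {π} := hπirr.maximalIdeal_eq
  obtain ⟨hfr, x, u, hx, hu, hxu, hdiv, hdomA⟩ :=
    unif_transfer A B K L K₁ F₁ hw ht hgen₁ W₁ hdom₁ hπ
  obtain ⟨hfd, -⟩ := Groth.Agent.S1984.finite_of_gen K L K₁ F₁ hgen₁
  haveI := hfd
  haveI := Groth.Agent.S1984.separable_of_gen K L K₁ F₁ hgen₁
  haveI : IsDiscreteValuationRing W₁ := TameComp.isDVR_of_dominates B L F₁ W₁ hdom₁
  haveI : CharP F₁ p := charP_of_injective_algebraMap (algebraMap K F₁).injective p
  haveI : CharP F p := charP_of_injective_algebraMap (algebraMap K F).injective p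
  letI : Algebra W₁ F := ((algebraMap F₁ F).comp (algebraMap W₁ F₁)).toAlgebra
  haveI : IsScalarTower W₁ F₁ F := IsScalarTower.of_algebraMap_eq (fun _ => rfl)
  set η : F₁ := algebraMap L F₁ ξ - (y ^ p - y) with hη
  set z' : F := algebraMap M F z - algebraMap F₁ F y with hz'def
  have hLF : ∀ l : L, algebraMap F₁ F (algebraMap L F₁ l) = algebraMap M F (algebraMap L M l) := by
    intro l
    rw [← IsScalarTower.algebraMap_apply L F₁ F]; rfl
  have hz' : z' ^ p - z' = algebraMap F₁ F η := by
    rw [hz'def, sub_pow_char, hη, map_sub, map_sub, map_pow, hLF, ← hz, map_sub, map_pow]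
    ring
  have hgen' : IntermediateField.adjoin F₁ {z'} = ⊤ := by
    rw [eq_top_iff]
    intro w _
    have hzF : algebraMap M F z ∈ IntermediateField.adjoin F₁ {z'} := by
      have h1 : z' ∈ IntermediateField.adjoin F₁ {z'} :=
        IntermediateField.mem_adjoin_simple_self F₁ z'
      have h2 : algebraMap F₁ F y ∈ IntermediateField.adjoin F₁ {z'} :=
        IntermediateField.algebraMap_mem _ y
      have : algebraMap M F z = z' + algebraMap F₁ F y := by rw [hz'def]; ring
      rw [this]
      exact add_mem h1 h2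
    have hM : ∀ m : M, algebraMap M F m ∈ IntermediateField.adjoin F₁ {z'} := by
      intro m
      have hm : m ∈ IntermediateField.adjoin L {z} := by rw [hzgen]; trivial
      induction hm using IntermediateField.adjoin_induction with
      | mem x hx =>
        rw [Set.mem_singleton_iff] at hx
        rw [hx]; exact hzF
      | algebraMap l =>
        rw [← hLF]
        exact IntermediateField.algebraMap_mem _ _
      | add x x' _ _ ihx ihx' => rw [map_add]; exact add_mem ihx ihx'
      | inv x _ ihx => rw [map_inv₀]; exact inv_mem ihx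
      | mul x x' _ _ ihx ihx' => rw [map_mul]; exact mul_mem ihx ihx'
    have hw' : w ∈ Algebra.adjoin M (Set.range (algebraMap K₁ F)) := by rw [hgenF]; trivial
    induction hw' using Algebra.adjoin_induction with
    | mem w hw =>
      obtain ⟨k, rfl⟩ := hw
      have : algebraMap K₁ F k = algebraMap F₁ F (algebraMap K₁ F₁ k) := rfl
      rw [this]
      exact IntermediateField.algebraMap_mem _ _
    | algebraMap m => exact hM m
    | add w w' _ _ ihw ihw' => exact add_mem (ihw trivial) (ihw' trivial)
    | mul w w' _ _ ihw ihw' => exact mul_mem (ihw trivial) (ihw' trivial)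
  have hdomW : EtRam.Dominates W₁ (algebraMap W₁ F) W := by
    refine ⟨fun a => a.2, fun a ha => ?_⟩
    rw [ValuationSubring.valuation_lt_one_iff, TotRam.comap_val_lt_one_iff] at ha
    exact ha
  set x₁ : F₁ := algebraMap K₁ F₁ x with hx₁
  have hx₁F : algebraMap F₁ F x₁ = algebraMap K₁ F x := rfl
  have hn0 : Module.finrank K K₁ ≠ 0 := Module.finrank_pos.ne'
  have hx0 : x ≠ 0 := by
    rintro rfl
    rw [zero_pow hn0, mul_zero] at hxu
    have h1 : algebraMap A K π = 0 := (algebraMap K K₁).injective (by rw [hxu, map_zero])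
    have h2 : π = 0 := IsFractionRing.injective A K (by rw [h1, map_zero])
    exact hπirr.ne_zero h2
  have hxF0 : algebraMap K₁ F x ≠ 0 := by
    rwa [Ne, map_eq_zero]
  have hx₁0 : x₁ ≠ 0 := by rw [hx₁, Ne, map_eq_zero]; exact hx0
  have hx₁W : W₁.valuation x₁ < 1 := hx
  have hxW : W.valuation (algebraMap K₁ F x) < 1 := by
    have := hx
    rwa [TotRam.comap_val_lt_one_iff] at this
  have hdiv' : ∀ z : F₁, W₁.valuation z < 1 → z / x₁ ∈ W₁ := hdiv
  have hmaxW₁ : maximalIdeal W₁ =
      Ideal.span {(⟨x₁, (ValuationSubring.valuation_le_one_iff W₁ x₁).mp hx₁W.le⟩ : W₁)} := by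
    apply maxIdeal_eq_span W₁ x₁ hx₁W
    intro z hz
    have h1 := hdiv' z hz
    rw [← ValuationSubring.valuation_le_one_iff, map_div₀] at h1
    have hv0 : W₁.valuation x₁ ≠ 0 := by rwa [Ne, map_eq_zero]
    exact (div_le_one₀ (zero_lt_iff.mpr hv0)).mp h1
  -- the key divisibility
  have hstar : ∀ w : F, W.valuation w < 1 → w / algebraMap K₁ F x ∈ W := by
    have of_wu : (letI : Algebra W₁ W :=
        (RingHom.codRestrict (algebraMap W₁ F) W hdomW.1).toAlgebra
        EtRam.IsWeaklyUnramified W₁ W) → ∀ w : F, W.valuation w < 1 →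
        w / algebraMap K₁ F x ∈ W := by
      intro wu w hw
      letI : Algebra W₁ W := (RingHom.codRestrict (algebraMap W₁ F) W hdomW.1).toAlgebra
      have hwmem : (⟨w, (ValuationSubring.valuation_le_one_iff W w).mp hw.le⟩ : W) ∈
          maximalIdeal W := (ValuationSubring.valuation_lt_one_iff W _).mpr hw
      unfold EtRam.IsWeaklyUnramified at wu
      have hmap := congrArg (Ideal.map (algebraMap W₁ W)) hmaxW₁
      rw [← wu, hmap, Ideal.map_span, Set.image_singleton, Ideal.mem_span_singleton'] at hwmem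
      obtain ⟨w', hw'⟩ := hwmem
      have h1 : (w' : F) * algebraMap K₁ F x = w := congrArg Subtype.val hw'
      rw [← h1, mul_div_assoc, div_self hxF0, mul_one]
      exact w'.2
    have of_one : Module.finrank F₁ F = 1 → ∀ w : F, W.valuation w < 1 →
        w / algebraMap K₁ F x ∈ W := by
      intro h1 w hw
      have h2 : (⊥ : Subalgebra F₁ F) = ⊤ := Subalgebra.bot_eq_top_of_finrank_eq_one h1
      have h3 : w ∈ (⊥ : Subalgebra F₁ F) := by rw [h2]; trivial
      obtain ⟨w₁, rfl⟩ := Algebra.mem_bot.mp h3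
      have h4 := hdiv' w₁ (by rw [TotRam.comap_val_lt_one_iff]; exact hw)
      have h5 : algebraMap F₁ F (w₁ / x₁) ∈ W := h4
      rwa [map_div₀] at h5
    rcases hgood with hηW | ⟨ϖ, m, hϖ, hϖgen, hm, hpm, hmem, hres⟩
    · obtain ⟨ϖD, hirr⟩ := IsDiscreteValuationRing.exists_irreducible W₁
      obtain ⟨-, -, hA, -, -⟩ := Groth.Agent.S7158.result p hp W₁ F₁ F ϖD
        hirr.maximalIdeal_eq η z' hz' hgen'
      rcases hA ⟨⟨η, hηW⟩, rfl⟩ with hc1 | hc2
      · exact of_one hc1
      · apply of_wu
        letI : Algebra W₁ W := (RingHom.codRestrict (algebraMap W₁ F) W hdomW.1).toAlgebra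
        haveI : IsLocalHom (algebraMap W₁ W) := CompDvr.isLocalHom_codRestrict _ _ hdomW
        exact (hc2.1 W hdomW).1
    · obtain ⟨-, -, -, -, hC⟩ := Groth.Agent.S7158.result p hp W₁ F₁ F
        ⟨ϖ, (ValuationSubring.valuation_le_one_iff W₁ ϖ).mp hϖ.le⟩
        (maxIdeal_eq_span W₁ ϖ hϖ hϖgen) η z' hz' hgen'
      have hc4 := hC m ⟨η * ϖ ^ m, hmem⟩ hm hpm (fun r hr => by
        have h1 : (⟨η * ϖ ^ m, hmem⟩ : W₁) - r ^ p ∈ maximalIdeal W₁ := by
          rw [← residue_eq_zero_iff, map_sub, map_pow, hr, sub_self]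
        rw [ValuationSubring.valuation_lt_one_iff] at h1
        exact hres r.1 r.2 h1) rfl
      apply of_wu
      letI : Algebra W₁ W := (RingHom.codRestrict (algebraMap W₁ F) W hdomW.1).toAlgebra
      haveI : IsLocalHom (algebraMap W₁ W) := CompDvr.isLocalHom_codRestrict _ _ hdomW
      exact (hc4.2.2 W hdomW).1
  -- conclusion
  show (letI : Algebra (W.comap (algebraMap K₁ F)) W :=
      (EtRam.inclOfComap W (algebraMap K₁ F)).toAlgebra
    EtRam.IsWeaklyUnramified (W.comap (algebraMap K₁ F)) W)
  letI : Algebra (W.comap (algebraMap K₁ F)) W :=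
    (EtRam.inclOfComap W (algebraMap K₁ F)).toAlgebra
  unfold EtRam.IsWeaklyUnramified
  apply le_antisymm
  · exact IsLocalRing.map_maximalIdeal_le (EtRam.inclOfComap W (algebraMap K₁ F))
  · intro w hw
    rw [ValuationSubring.valuation_lt_one_iff] at hw
    have hxmem : x ∈ W.comap (algebraMap K₁ F) := by
      rw [ValuationSubring.mem_comap, ← ValuationSubring.valuation_le_one_iff]
      exact hxW.le
    have hxmax : (⟨x, hxmem⟩ : W.comap (algebraMap K₁ F)) ∈
        maximalIdeal (W.comap (algebraMap K₁ F)) := by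
      rw [ValuationSubring.valuation_lt_one_iff]
      show (W.comap (algebraMap K₁ F)).valuation x < 1
      rw [TotRam.comap_val_lt_one_iff]; exact hxW
    have hw' : w = (⟨(w : F) / algebraMap K₁ F x, hstar _ hw⟩ : W) *
        algebraMap (W.comap (algebraMap K₁ F)) W ⟨x, hxmem⟩ := by
      apply Subtype.ext
      show (w : F) = (w : F) / algebraMap K₁ F x * algebraMap K₁ F x
      rw [div_mul_cancel₀ _ hxF0]
    rw [hw']
    exact Ideal.mul_mem_left _ _ (Ideal.mem_map_of_mem _ hxmax)

end WS

end EppAS

end Groth.Agent.Lib.helper10
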