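import Mathlib
import Groth.Prelude.Def_EtRam
import Groth.Agent.Lib.Helper10.EppAS6
import Groth.Agent.S7132

/-!
Epp's elimination of wild ramification, Artin–Schreier step (helper10), part 7:
good forms over the composita for the three kinds of extensions `K₁`.
-/

set_option autoImplicit false
set_option linter.unusedSectionVars false
set_option linter.style.haveILetI false

universe u

open IsLocalRing

namespace Groth.Agent.Lib.helper10

namespace EppAS

theorem mem_of_isIntegralElem {R F : Type u} [CommRing R] [Field F] (g : R →+* F)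
    (W : ValuationSubring F) (hg : ∀ r, g r ∈ W) {x : F} (hx : g.IsIntegralElem x) : x ∈ W := by
  obtain ⟨f, hf, hfx⟩ := hx
  have h1 : IsIntegral W x := by
    refine ⟨f.map (g.codRestrict W hg), hf.map _, ?_⟩
    rw [Polynomial.eval₂_map]
    exact hfx
  obtain ⟨y, rfl⟩ := IsIntegrallyClosed.isIntegral_iff.mp h1
  exact y.2

section Mem

variable (p : ℕ) [Fact p.Prime] (A B K L : Type u) [CommRing A] [IsDomain A]
  [IsDiscreteValuationRing A] [CommRing B] [IsDomain B] [IsDiscreteValuationRing B]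
  [Algebra A B] [IsLocalHom (algebraMap A B)]
  [Field K] [Field L] [Algebra A K] [IsFractionRing A K] [Algebra B L] [IsFractionRing B L]
  [Algebra K L] [Algebra A L] [IsScalarTower A K L] [IsScalarTower A B L] [CharP K p]
  (K₁ : Type u) [Field K₁] [Algebra K K₁]

theorem hgood_of_mem (ξ : L) (a : K)
    (hξa : haveI : CharP L p := charP_of_injective_algebraMap (algebraMap K L).injective p
      ξ - algebraMap K L a ∈ HH p (SB B L))
    (hK₁ : ∃ (w : K₁) (a' : A), algebraMap K K₁ a - (w ^ p - w) =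
      algebraMap K K₁ (algebraMap A K a'))
    (F₁ : Type u) [Field F₁] [Algebra K F₁] [Algebra L F₁] [Algebra K₁ F₁]
    [IsScalarTower K L F₁] [IsScalarTower K K₁ F₁] (W₁ : ValuationSubring F₁)
    (hdom₁ : EtRam.Dominates B ((algebraMap L F₁).comp (algebraMap B L)) W₁) :
    ∃ yy : F₁, GoodForm p W₁ (algebraMap L F₁ ξ - (yy ^ p - yy)) := by
  haveI : CharP L p := charP_of_injective_algebraMap (algebraMap K L).injective p
  haveI : CharP F₁ p := charP_of_injective_algebraMap (algebraMap K F₁).injective p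
  obtain ⟨y₀, b, hb⟩ := (mem_HH p).mp hξa
  obtain ⟨w, a', hw⟩ := hK₁
  refine ⟨algebraMap L F₁ y₀ + algebraMap K₁ F₁ w, Or.inl ?_⟩
  have h1 : algebraMap L F₁ ξ = algebraMap L F₁ (algebraMap K L a) +
      (algebraMap L F₁ y₀ ^ p - algebraMap L F₁ y₀) + algebraMap L F₁ (algebraMap B L b) := by
    have : ξ = algebraMap K L a + (y₀ ^ p - y₀) + algebraMap B L b := by
      have hb' : algebraMap B L b = ξ - algebraMap K L a - (y₀ ^ p - y₀) := hb
      rw [hb']; ring
    conv_lhs => rw [this]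
    rw [map_add, map_add, map_sub, map_pow]
  have h2 : algebraMap L F₁ (algebraMap K L a) = (algebraMap K₁ F₁ w ^ p - algebraMap K₁ F₁ w) +
      algebraMap K₁ F₁ (algebraMap K K₁ (algebraMap A K a')) := by
    rw [← IsScalarTower.algebraMap_apply K L F₁, IsScalarTower.algebraMap_apply K K₁ F₁, ← hw,
      map_sub, map_sub, map_pow]
    ring
  have h3 : algebraMap K₁ F₁ (algebraMap K K₁ (algebraMap A K a')) =
      algebraMap L F₁ (algebraMap B L (algebraMap A B a')) := by
    rw [← IsScalarTower.algebraMap_apply K K₁ F₁, ← IsScalarTower.algebraMap_apply A B L,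
      IsScalarTower.algebraMap_apply A K L, ← IsScalarTower.algebraMap_apply K L F₁]
  have h4 : algebraMap L F₁ ξ - ((algebraMap L F₁ y₀ + algebraMap K₁ F₁ w) ^ p -
      (algebraMap L F₁ y₀ + algebraMap K₁ F₁ w)) =
      algebraMap L F₁ (algebraMap B L (algebraMap A B a')) +
        algebraMap L F₁ (algebraMap B L b) := by
    rw [h1, h2, h3, add_pow_char]; ring
  rw [h4]
  exact add_mem (hdom₁.1 _) (hdom₁.1 _)

end Mem

section ASExt

variable (p : ℕ) (hp : p.Prime) (A K : Type u) [CommRing A] [IsDomain A]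
  [IsDiscreteValuationRing A] [Field K] [Algebra A K] [IsFractionRing A K] [CharP K p]

open Polynomial in
include hp in
theorem as_ext {π : A} (hπ : maximalIdeal A = Ideal.span {π}) (a' : K) (m : ℕ) (a₀ : Aˣ)
    (hm : 0 < m) (hpm : ¬ p ∣ m) (heq : a' * algebraMap A K π ^ m = algebraMap A K a₀) :
    ∃ (K₁ : Type u) (_ : Field K₁) (_ : Algebra K K₁), FiniteDimensional K K₁ ∧
      Algebra.IsSeparable K K₁ ∧
      EtRam.IsTotallyRamified A ((algebraMap K K₁).comp (algebraMap A K)) ∧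
      ∃ z₁ : K₁, z₁ ^ p - z₁ = algebraMap K K₁ a' := by
  classical
  haveI : Fact p.Prime := ⟨hp⟩
  set f : K[X] := ASExt.asPoly p a' with hf
  have hfdeg : f.natDegree = p := ASExt.asPoly_natDegree p a'
  have hfnu : ¬ IsUnit f := by
    intro h
    have := natDegree_eq_zero_of_isUnit h
    rw [hfdeg] at this
    exact hp.ne_zero this
  have hf0 : f ≠ 0 := (ASExt.asPoly_monic p a').ne_zero
  obtain ⟨g, hg, hgf⟩ := WfDvdMonoid.exists_irreducible_factor hfnu hf0
  haveI : Fact (Irreducible g) := ⟨hg⟩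
  let K₁ := AdjoinRoot g
  let z₁ : K₁ := AdjoinRoot.root g
  have hz₁ : z₁ ^ p - z₁ = algebraMap K K₁ a' := by
    have h1 : aeval z₁ f = 0 := by
      obtain ⟨h, hh⟩ := hgf
      rw [hh, map_mul, AdjoinRoot.aeval_eq, AdjoinRoot.mk_self, zero_mul]
    rw [hf] at h1
    unfold ASExt.asPoly at h1
    rw [map_sub, map_sub, map_pow, aeval_X, aeval_C, sub_eq_zero] at h1
    exact h1
  have hgen : IntermediateField.adjoin K {z₁} = ⊤ :=
    IntermediateField.adjoin_eq_top_of_algebra K _ AdjoinRoot.adjoinRoot_eq_top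
  obtain ⟨hgal, -, -, hB, -⟩ := Groth.Agent.S7158.result p hp A K K₁ π hπ a' z₁ hz₁ hgen
  obtain ⟨htr, hdeg⟩ := hB m a₀ hm hpm heq
  rw [IsScalarTower.algebraMap_eq A K K₁] at htr
  haveI : FiniteDimensional K K₁ :=
    Module.finite_of_finrank_pos (by rw [hdeg]; exact hp.pos)
  exact ⟨K₁, inferInstance, inferInstance, inferInstance, inferInstance, htr, z₁, hz₁⟩

end ASExt

section Ram

variable (p : ℕ) [Fact p.Prime] (A B K L : Type u) [CommRing A] [IsDomain A]
  [IsDiscreteValuationRing A] [CommRing B] [IsDomain B] [IsDiscreteValuationRing B]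
  [Algebra A B] [IsLocalHom (algebraMap A B)]
  [Field K] [Field L] [Algebra A K] [IsFractionRing A K] [Algebra B L] [IsFractionRing B L]
  [Algebra K L] [Algebra A L] [IsScalarTower A K L] [IsScalarTower A B L] [CharP K p]
  (K₁ : Type u) [Field K₁] [Algebra K K₁] [FiniteDimensional K K₁] [Algebra.IsSeparable K K₁]

theorem hgood_ram (hw : EtRam.IsWeaklyUnramified A B)
    (ht : EtRam.IsTotallyRamified A ((algebraMap K K₁).comp (algebraMap A K)))
    {π : A} (hπ : maximalIdeal A = Ideal.span {π})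
    {N r n : ℕ} (hn : N + 2 ≤ n) (hdeg : Module.finrank K K₁ = p ^ r)
    (πB b : K₁) (hbint : ((algebraMap K K₁).comp (algebraMap A K)).IsIntegralElem b)
    (hrel : πB ^ (p ^ r) = algebraMap K K₁ (algebraMap A K π) +
      algebraMap K K₁ (algebraMap A K π) ^ n * b)
    (y u : ℕ → B) (s : ℕ → ℕ) (j₀ : ℕ)
    (hyu : ∀ i ∈ Finset.Ioc (N / p) N,
      s i ≤ r ∧ y i - u i ^ (p ^ s i) ∈ maximalIdeal B ^ (N + 1))
    (hj₀ : j₀ ∈ Finset.Ioc (N / p) N) (hsj₀ : s j₀ < r)
    (hu₀ : ∀ b' : B, u j₀ - b' ^ p ∉ maximalIdeal B)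
    (hmax : ∀ i ∈ Finset.Ioc (N / p) N, i ≠ j₀ → i * p ^ (r - s i) < j₀ * p ^ (r - s j₀))
    (ξ : L)
    (hξ : haveI : CharP L p := charP_of_injective_algebraMap (algebraMap K L).injective p
      ξ - ∑ i ∈ Finset.Ioc (N / p) N, mon B L (algebraMap A B π) (y i) i ∈ HH p (SB B L))
    (F₁ : Type u) [Field F₁] [Algebra K F₁] [Algebra L F₁] [Algebra K₁ F₁]
    [IsScalarTower K L F₁] [IsScalarTower K K₁ F₁]
    (hgen₁ : Algebra.adjoin L (Set.range (algebraMap K₁ F₁)) = ⊤) (W₁ : ValuationSubring F₁)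
    (hdom₁ : EtRam.Dominates B ((algebraMap L F₁).comp (algebraMap B L)) W₁) :
    ∃ yy : F₁, GoodForm p W₁ (algebraMap L F₁ ξ - (yy ^ p - yy)) := by
  have hp : p.Prime := Fact.out
  haveI : CharP L p := charP_of_injective_algebraMap (algebraMap K L).injective p
  haveI : CharP F₁ p := charP_of_injective_algebraMap (algebraMap K F₁).injective p
  letI : Algebra B F₁ := ((algebraMap L F₁).comp (algebraMap B L)).toAlgebra
  haveI : IsScalarTower B L F₁ := IsScalarTower.of_algebraMap_eq (fun _ => rfl)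
  obtain ⟨hfr, x, u', hx, hu', hxu, hdiv, hdomA⟩ :=
    unif_transfer A B K L K₁ F₁ hw ht hgen₁ W₁ hdom₁ hπ
  obtain ⟨hfd, -⟩ := Groth.Agent.S1984.finite_of_gen K L K₁ F₁ hgen₁
  haveI := hfd
  haveI := Groth.Agent.S1984.separable_of_gen K L K₁ F₁ hgen₁
  haveI : IsDiscreteValuationRing W₁ := TameComp.isDVR_of_dominates B L F₁ W₁ hdom₁
  have hcomp : ∀ a : A, algebraMap K₁ F₁ (algebraMap K K₁ (algebraMap A K a)) =
      algebraMap B F₁ (algebraMap A B a) := by
    intro a
    show _ = algebraMap L F₁ (algebraMap B L (algebraMap A B a))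
    rw [← IsScalarTower.algebraMap_apply K K₁ F₁, ← IsScalarTower.algebraMap_apply A B L,
      IsScalarTower.algebraMap_apply A K L, ← IsScalarTower.algebraMap_apply K L F₁]
  have hinjBF : Function.Injective (algebraMap B F₁) :=
    (algebraMap L F₁).injective.comp (IsFractionRing.injective B L)
  set πBB := algebraMap A B π with hπBBdef
  have hπBB : maximalIdeal B = Ideal.span {πBB} := by
    rw [← hw, hπ, Ideal.map_span, Set.image_singleton]
  have hπBBmem : πBB ∈ maximalIdeal B := by rw [hπBB]; exact Ideal.mem_span_singleton_self _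
  have hπBB0 : πBB ≠ 0 := by
    intro h
    rw [h, Set.singleton_zero, Ideal.span_zero] at hπBB
    exact IsDiscreteValuationRing.not_a_field B hπBB
  set ϖ := algebraMap B F₁ πBB with hϖ
  have hϖ0 : ϖ ≠ 0 := by rw [hϖ, Ne, map_eq_zero_iff _ hinjBF]; exact hπBB0
  have hϖlt : W₁.valuation ϖ < 1 := hdom₁.2 _ hπBBmem
  set π₁ := algebraMap K₁ F₁ πB with hπ₁def
  set bb := algebraMap K₁ F₁ b with hbbdef
  have hrel' : π₁ ^ (p ^ r) = ϖ + ϖ ^ n * bb := by
    rw [hϖ, hπBBdef, ← hcomp, hπ₁def, hbbdef, ← map_pow, ← map_pow, ← map_mul, ← map_add, hrel]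
  have hbb : bb ∈ W₁ := by
    apply mem_of_isIntegralElem ((algebraMap K₁ F₁).comp
      ((algebraMap K K₁).comp (algebraMap A K))) W₁
    · intro a
      rw [RingHom.comp_apply, RingHom.comp_apply, hcomp]
      exact hdom₁.1 _
    · obtain ⟨f, hf, hfb⟩ := hbint
      refine ⟨f, hf, ?_⟩
      rw [← Polynomial.hom_eval₂, hfb, map_zero]
  -- valuation of π₁
  have hvbb : W₁.valuation bb ≤ 1 := (ValuationSubring.valuation_le_one_iff _ _).mpr hbb
  have hvπ₁pow : W₁.valuation π₁ ^ (p ^ r) = W₁.valuation ϖ := by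
    rw [← map_pow, hrel']
    apply Valuation.map_add_eq_of_lt_left
    rw [map_mul, map_pow]
    have hv0 : 0 < W₁.valuation ϖ := zero_lt_iff.mpr (by rwa [Ne, map_eq_zero])
    obtain ⟨d, hd⟩ := Nat.exists_eq_add_of_le (show 2 ≤ n by omega)
    have h1 : W₁.valuation ϖ ^ n ≤ W₁.valuation ϖ ^ 2 := by
      rw [hd, pow_add]
      calc W₁.valuation ϖ ^ 2 * W₁.valuation ϖ ^ d ≤ W₁.valuation ϖ ^ 2 * 1 :=
            mul_le_mul_right (pow_le_one₀ zero_le hϖlt.le) _
        _ = W₁.valuation ϖ ^ 2 := mul_one _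
    have h2 : W₁.valuation ϖ ^ 2 < W₁.valuation ϖ := by
      rw [pow_two]
      calc W₁.valuation ϖ * W₁.valuation ϖ < W₁.valuation ϖ * 1 :=
            mul_lt_mul_of_pos_left hϖlt hv0
        _ = W₁.valuation ϖ := mul_one _
    calc W₁.valuation ϖ ^ n * W₁.valuation bb ≤ W₁.valuation ϖ ^ n * 1 :=
          mul_le_mul_right hvbb _
      _ = W₁.valuation ϖ ^ n := mul_one _
      _ ≤ W₁.valuation ϖ ^ 2 := h1
      _ < W₁.valuation ϖ := h2
  have hϖx : ϖ = algebraMap K₁ F₁ u' * algebraMap K₁ F₁ x ^ (p ^ r) := by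
    rw [hϖ, hπBBdef, ← hcomp, hxu, hdeg, map_mul, map_pow]
  have hq0 : p ^ r ≠ 0 := (pow_pos hp.pos r).ne'
  have hvπ₁ : W₁.valuation π₁ = W₁.valuation (algebraMap K₁ F₁ x) := by
    apply (pow_left_inj₀ zero_le zero_le hq0).mp
    rw [hvπ₁pow, hϖx, map_mul, hu', one_mul, map_pow]
  have hπ₁lt : W₁.valuation π₁ < 1 := by rw [hvπ₁]; exact hx
  have hx₁0 : algebraMap K₁ F₁ x ≠ 0 := by
    intro h
    rw [h, zero_pow hq0, mul_zero] at hϖx
    exact hϖ0 hϖx
  have hvx0 : 0 < W₁.valuation (algebraMap K₁ F₁ x) := zero_lt_iff.mpr (by rwa [Ne, map_eq_zero])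
  have hπ₁gen : ∀ z : F₁, W₁.valuation z < 1 → W₁.valuation z ≤ W₁.valuation π₁ := by
    intro z hz
    have h1 := hdiv z hz
    rw [← ValuationSubring.valuation_le_one_iff, map_div₀] at h1
    rw [hvπ₁]
    exact (div_le_one₀ hvx0).mp h1
  -- residue fields
  have hres : ∀ w ∈ W₁, ∃ b' : B, W₁.valuation (w - algebraMap B F₁ b') < 1 := by
    letI : Algebra B W₁ := (RingHom.codRestrict (algebraMap B F₁) W₁ hdom₁.1).toAlgebra
    haveI : IsLocalHom (algebraMap B W₁) := CompDvr.isLocalHom_codRestrict _ _ hdom₁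
    haveI : IsScalarTower B W₁ F₁ := IsScalarTower.of_algebraMap_eq (fun _ => rfl)
    have hinjBW : Function.Injective (algebraMap B W₁) := by
      intro a a' haa'
      exact hinjBF (congrArg Subtype.val haa')
    obtain ⟨hfin, hef⟩ := Groth.Agent.S7132.result B W₁ L F₁ hinjBW
    haveI := hfin
    -- the ramification index
    have hx₁W : algebraMap K₁ F₁ x ∈ W₁ :=
      (ValuationSubring.valuation_le_one_iff _ _).mp hx.le
    have hmaxW₁ : maximalIdeal W₁ = Ideal.span {(⟨algebraMap K₁ F₁ x, hx₁W⟩ : W₁)} := by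
      apply maxIdeal_eq_span W₁ _ hx
      intro z hz
      rw [← hvπ₁]; exact hπ₁gen z hz
    have hu'W : algebraMap K₁ F₁ u' ∈ W₁ :=
      (ValuationSubring.valuation_le_one_iff _ _).mp hu'.le
    have hu'unit : IsUnit (⟨algebraMap K₁ F₁ u', hu'W⟩ : W₁) := by
      rw [ValuationSubring.valuation_eq_one_iff]
      exact hu'
    have he : Ideal.ramificationIdx' (maximalIdeal B) (maximalIdeal W₁) = p ^ r := by
      apply CompDvr.ramificationIdx'_eq hπBB hmaxW₁ (fun h => hx₁0 (congrArg Subtype.val h))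
        hu'unit.unit (p ^ r)
      apply Subtype.ext
      show ϖ = algebraMap K₁ F₁ u' * algebraMap K₁ F₁ x ^ (p ^ r)
      exact hϖx
    rw [he, hfr, hdeg] at hef
    have hfpos : 0 < Module.finrank (ResidueField B) (ResidueField W₁) := Module.finrank_pos
    have hf1 : Module.finrank (ResidueField B) (ResidueField W₁) = 1 := by
      have h1 : p ^ r * Module.finrank (ResidueField B) (ResidueField W₁) ≤ p ^ r * 1 := by
        rwa [mul_one]
      have := Nat.le_of_mul_le_mul_left h1 (pow_pos hp.pos r)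
      omega
    have hsurj : Function.Surjective (algebraMap (ResidueField B) (ResidueField W₁)) := by
      rw [Algebra.surjective_algebraMap_iff]
      exact (Subalgebra.bot_eq_top_iff_finrank_eq_one.mpr hf1).symm
    intro w hw
    obtain ⟨β, hβ⟩ := hsurj (residue W₁ ⟨w, hw⟩)
    obtain ⟨b', rfl⟩ := residue_surjective β
    refine ⟨b', ?_⟩
    rw [ResidueField.algebraMap_residue] at hβ
    have h1 : (⟨w, hw⟩ : W₁) - algebraMap B W₁ b' ∈ maximalIdeal W₁ := by
      rw [← residue_eq_zero_iff, map_sub, hβ, sub_self]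
    rw [ValuationSubring.valuation_lt_one_iff] at h1
    exact h1
  exact good_form_of_normal hinjBF hdom₁.1 hdom₁.2 hπBB hbb hn hrel' hπ₁lt hπ₁gen hres
    y u s hyu j₀ hj₀ hsj₀ hu₀ hmax ξ hξ

end Ram

end EppAS

end Groth.Agent.Lib.helper10
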