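import Mathlib
import Groth.Prelude.Def_EtRam

/-!
Epp's elimination of wild ramification, purely inseparable step (helper10), part 1:
basic algebra lemmas.
-/

set_option autoImplicit false
set_option linter.unusedSectionVars false
set_option linter.style.haveILetI false

universe u

open IsLocalRing Polynomial

namespace Groth.Agent.Lib.helper10

namespace EppPI

section PI

variable (L M : Type u) [Field L] [Field M] [Algebra L M] [IsPurelyInseparable L M]

theorem charP_of_finrank_prime {p : ℕ} (hp : p.Prime) (hdeg : Module.finrank L M = p) :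
    CharP L p := by
  haveI : FiniteDimensional L M := Module.finite_of_finrank_pos (by rw [hdeg]; exact hp.pos)
  obtain ⟨q, hq⟩ := ExpChar.exists L
  obtain ⟨n, hn⟩ := IsPurelyInseparable.finrank_eq_pow (F := L) M q
  rw [hdeg] at hn
  cases hq with
  | zero =>
    rw [one_pow] at hn
    exact absurd hn hp.one_lt.ne'
  | prime hq' =>
    rename_i hchar
    have h1 : q ∣ p := by
      rw [hn]
      apply dvd_pow_self
      rintro rfl
      rw [pow_zero] at hn
      exact hp.one_lt.ne' hn
    have h2 : q = p := (Nat.prime_dvd_prime_iff_eq hq' hp).mp h1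
    rw [← h2]; exact hchar

theorem pow_p_mem {p : ℕ} (hp : p.Prime) (hdeg : Module.finrank L M = p) (x : M) :
    ∃ l : L, x ^ p = algebraMap L M l := by
  haveI : FiniteDimensional L M := Module.finite_of_finrank_pos (by rw [hdeg]; exact hp.pos)
  haveI : CharP L p := charP_of_finrank_prime L M hp hdeg
  haveI : Fact p.Prime := ⟨hp⟩
  haveI : ExpChar L p := ExpChar.prime hp
  obtain ⟨n, y, hxy⟩ := IsPurelyInseparable.minpoly_eq_X_pow_sub_C L p x
  have hdvd : (minpoly L x).natDegree ∣ p := by
    rw [← hdeg]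
    exact minpoly.degree_dvd (Algebra.IsIntegral.isIntegral x)
  have hdegm : (minpoly L x).natDegree = p ^ n := by
    rw [hxy, natDegree_X_pow_sub_C]
  rw [hdegm] at hdvd
  have hroot : x ^ (p ^ n) = algebraMap L M y := by
    have := minpoly.aeval L x
    rw [hxy, map_sub, map_pow, aeval_X, aeval_C, sub_eq_zero] at this
    exact this
  have hn1 : n ≤ 1 := by
    by_contra h
    rw [not_le] at h
    have h1 : p ^ 2 ∣ p := (pow_dvd_pow p h).trans hdvd
    have h2 : p ^ 2 ≤ p := Nat.le_of_dvd hp.pos h1
    have h3 : p * 2 ≤ p * p := Nat.mul_le_mul_left p hp.two_le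
    rw [pow_two] at h2
    have := hp.pos
    omega
  interval_cases n
  · rw [pow_zero, pow_one] at hroot
    exact ⟨y ^ p, by rw [hroot, map_pow]⟩
  · rw [pow_one] at hroot
    exact ⟨y, hroot⟩

end PI

section Frob

variable {B S : Type u} [CommRing B] [CommRing S] (p : ℕ) [Fact p.Prime] [CharP B p] [CharP S p]

theorem frob_eval (φ : B →+* S) (x : S) (f : B[X]) :
    (f.eval₂ φ x) ^ p = (f.map (frobenius B p)).eval₂ φ (x ^ p) := by
  induction f using Polynomial.induction_on' with
  | add f g hf hg =>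
    rw [eval₂_add, add_pow_char, hf, hg, Polynomial.map_add, eval₂_add]
  | monomial n a =>
    rw [eval₂_monomial, Polynomial.map_monomial, eval₂_monomial, mul_pow, frobenius_def, map_pow,
      ← pow_mul, ← pow_mul, mul_comm n p]

end Frob

section Dvd

variable {B F : Type u} [CommRing B] [Field F]

theorem eval₂_sub_mem (φ : B →+* F) (W : ValuationSubring F) (hφ : ∀ b, φ b ∈ W) {a a' : F}
    (ha : a ∈ W) (ha' : a' ∈ W) (G : B[X]) :
    ∃ c ∈ W, G.eval₂ φ a - G.eval₂ φ a' = (a - a') * c := by
  let φ' : B →+* W := φ.codRestrict W hφ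
  obtain ⟨c, hc⟩ := Polynomial.sub_dvd_eval_sub (⟨a, ha⟩ : W) ⟨a', ha'⟩ (G.map φ')
  refine ⟨c.1, c.2, ?_⟩
  have h1 : ∀ (t : W), (((G.map φ').eval t : W) : F) = G.eval₂ φ (t : F) := by
    intro t
    rw [eval_map]
    exact Polynomial.hom_eval₂ G φ' W.subtype t
  have h2 := congrArg Subtype.val hc
  rw [← h1 ⟨a, ha⟩, ← h1 ⟨a', ha'⟩]
  exact h2

end Dvd

end EppPI

end Groth.Agent.Lib.helper10
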