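import Mathlib
import Groth.Prelude.Def_EtRam
import Groth.Agent.Lib.Helper10.EppAS7
import Groth.Agent.Lib.Helper10.EppPI1

/-!
Epp's elimination of wild ramification, purely inseparable step (helper10), part 2:
data over a compositum with a totally ramified extension; value groups of `F₁(β^{1/p})`.
-/

set_option autoImplicit false
set_option linter.unusedSectionVars false
set_option linter.style.haveILetI false

universe u

open IsLocalRing

namespace Groth.Agent.Lib.helper10

namespace EppPI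

open Groth.Agent.Lib.helper10.EppAS

section Ram

variable (A B K L : Type u) [CommRing A] [IsDomain A]
  [IsDiscreteValuationRing A] [CommRing B] [IsDomain B] [IsDiscreteValuationRing B]
  [Algebra A B] [IsLocalHom (algebraMap A B)]
  [Field K] [Field L] [Algebra A K] [IsFractionRing A K] [Algebra B L] [IsFractionRing B L]
  [Algebra K L] [Algebra A L] [IsScalarTower A K L] [IsScalarTower A B L]
  (K₁ : Type u) [Field K₁] [Algebra K K₁] [FiniteDimensional K K₁] [Algebra.IsSeparable K K₁]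

theorem ram_data (hw : EtRam.IsWeaklyUnramified A B)
    (ht : EtRam.IsTotallyRamified A ((algebraMap K K₁).comp (algebraMap A K)))
    {π : A} (hπ : maximalIdeal A = Ideal.span {π})
    {q n : ℕ} (hn : 2 ≤ n) (hq0 : q ≠ 0) (hdeg : Module.finrank K K₁ = q)
    (πB b : K₁) (hbint : ((algebraMap K K₁).comp (algebraMap A K)).IsIntegralElem b)
    (hrel : πB ^ q = algebraMap K K₁ (algebraMap A K π) +
      algebraMap K K₁ (algebraMap A K π) ^ n * b)
    (F₁ : Type u) [Field F₁] [Algebra K F₁] [Algebra L F₁] [Algebra K₁ F₁]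
    [IsScalarTower K L F₁] [IsScalarTower K K₁ F₁]
    (hgen₁ : Algebra.adjoin L (Set.range (algebraMap K₁ F₁)) = ⊤) (W₁ : ValuationSubring F₁)
    (hdom₁ : EtRam.Dominates B ((algebraMap L F₁).comp (algebraMap B L)) W₁) :
    algebraMap K₁ F₁ b ∈ W₁ ∧ W₁.valuation (algebraMap K₁ F₁ πB) < 1 ∧
      (∀ z : F₁, W₁.valuation z < 1 → W₁.valuation z ≤ W₁.valuation (algebraMap K₁ F₁ πB)) ∧
      (∀ w ∈ W₁, ∃ b' : B, W₁.valuation (w - algebraMap L F₁ (algebraMap B L b')) < 1) ∧
      W₁.valuation (algebraMap K₁ F₁ πB) ^ q =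
        W₁.valuation (algebraMap L F₁ (algebraMap B L (algebraMap A B π))) := by
  letI : Algebra B F₁ := ((algebraMap L F₁).comp (algebraMap B L)).toAlgebra
  haveI : IsScalarTower B L F₁ := IsScalarTower.of_algebraMap_eq (fun _ => rfl)
  obtain ⟨hfr, x, u', hx, hu', hxu, hdiv, hdomA⟩ :=
    unif_transfer A B K L K₁ F₁ hw ht hgen₁ W₁ hdom₁ hπ
  obtain ⟨hfd, -⟩ := Groth.Agent.S1984.finite_of_gen K L K₁ F₁ hgen₁
  haveI := hfd
  haveI := Groth.Agent.S1984.separable_of_gen K L K₁ F₁ hgen₁
  haveI : IsDiscreteValuationRing W₁ := TameComp.isDVR_of_dominates B L F₁ W₁ hdom₁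
  have hcomp : ∀ a : A, algebraMap K₁ F₁ (algebraMap K K₁ (algebraMap A K a)) =
      algebraMap B F₁ (algebraMap A B a) := by
    intro a
    show _ = algebraMap L F₁ (algebraMap B L (algebraMap A B a))
    rw [← IsScalarTower.algebraMap_apply K K₁ F₁, ← IsScalarTower.algebraMap_apply A B L,
      IsScalarTower.algebraMap_apply A K L, ← IsScalarTower.algebraMap_apply K L F₁]
  have hinjBF : Function.Injective (algebraMap B F₁) :=
    (algebraMap L F₁).injective.comp (IsFractionRing.injective B L)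
  set πBB := algebraMap A B π with hπBBdef
  have hπBB : maximalIdeal B = Ideal.span {πBB} := by
    rw [← hw, hπ, Ideal.map_span, Set.image_singleton]
  have hπBBmem : πBB ∈ maximalIdeal B := by rw [hπBB]; exact Ideal.mem_span_singleton_self _
  have hπBB0 : πBB ≠ 0 := by
    intro h
    rw [h, Set.singleton_zero, Ideal.span_zero] at hπBB
    exact IsDiscreteValuationRing.not_a_field B hπBB
  set ϖ := algebraMap B F₁ πBB with hϖ
  have hϖ0 : ϖ ≠ 0 := by rw [hϖ, Ne, map_eq_zero_iff _ hinjBF]; exact hπBB0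
  have hϖlt : W₁.valuation ϖ < 1 := hdom₁.2 _ hπBBmem
  set π₁ := algebraMap K₁ F₁ πB with hπ₁def
  set bb := algebraMap K₁ F₁ b with hbbdef
  have hrel' : π₁ ^ q = ϖ + ϖ ^ n * bb := by
    rw [hϖ, hπBBdef, ← hcomp, hπ₁def, hbbdef, ← map_pow, ← map_pow, ← map_mul, ← map_add, hrel]
  have hbb : bb ∈ W₁ := by
    apply mem_of_isIntegralElem ((algebraMap K₁ F₁).comp
      ((algebraMap K K₁).comp (algebraMap A K))) W₁
    · intro a
      rw [RingHom.comp_apply, RingHom.comp_apply, hcomp]
      exact hdom₁.1 _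
    · obtain ⟨f, hf, hfb⟩ := hbint
      refine ⟨f, hf, ?_⟩
      rw [← Polynomial.hom_eval₂, hfb, map_zero]
  have hvbb : W₁.valuation bb ≤ 1 := (ValuationSubring.valuation_le_one_iff _ _).mpr hbb
  have hvπ₁pow : W₁.valuation π₁ ^ q = W₁.valuation ϖ := by
    rw [← map_pow, hrel']
    apply Valuation.map_add_eq_of_lt_left
    rw [map_mul, map_pow]
    have hv0 : 0 < W₁.valuation ϖ := zero_lt_iff.mpr (by rwa [Ne, map_eq_zero])
    obtain ⟨d, hd⟩ := Nat.exists_eq_add_of_le hn
    have h1 : W₁.valuation ϖ ^ n ≤ W₁.valuation ϖ ^ 2 := by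
      rw [hd, pow_add]
      calc W₁.valuation ϖ ^ 2 * W₁.valuation ϖ ^ d ≤ W₁.valuation ϖ ^ 2 * 1 :=
            mul_le_mul_right (pow_le_one₀ zero_le hϖlt.le) _
        _ = W₁.valuation ϖ ^ 2 := mul_one _
    have h2 : W₁.valuation ϖ ^ 2 < W₁.valuation ϖ := by
      rw [pow_two]
      calc W₁.valuation ϖ * W₁.valuation ϖ < W₁.valuation ϖ * 1 :=
            mul_lt_mul_of_pos_left hϖlt hv0
        _ = W₁.valuation ϖ := mul_one _
    calc W₁.valuation ϖ ^ n * W₁.valuation bb ≤ W₁.valuation ϖ ^ n * 1 :=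
          mul_le_mul_right hvbb _
      _ = W₁.valuation ϖ ^ n := mul_one _
      _ ≤ W₁.valuation ϖ ^ 2 := h1
      _ < W₁.valuation ϖ := h2
  have hϖx : ϖ = algebraMap K₁ F₁ u' * algebraMap K₁ F₁ x ^ q := by
    rw [hϖ, hπBBdef, ← hcomp, hxu, hdeg, map_mul, map_pow]
  have hvπ₁ : W₁.valuation π₁ = W₁.valuation (algebraMap K₁ F₁ x) := by
    apply (pow_left_inj₀ zero_le zero_le hq0).mp
    rw [hvπ₁pow, hϖx, map_mul, hu', one_mul, map_pow]
  have hπ₁lt : W₁.valuation π₁ < 1 := by rw [hvπ₁]; exact hx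
  have hx₁0 : algebraMap K₁ F₁ x ≠ 0 := by
    intro h
    rw [h, zero_pow hq0, mul_zero] at hϖx
    exact hϖ0 hϖx
  have hvx0 : 0 < W₁.valuation (algebraMap K₁ F₁ x) := zero_lt_iff.mpr (by rwa [Ne, map_eq_zero])
  have hπ₁gen : ∀ z : F₁, W₁.valuation z < 1 → W₁.valuation z ≤ W₁.valuation π₁ := by
    intro z hz
    have h1 := hdiv z hz
    rw [← ValuationSubring.valuation_le_one_iff, map_div₀] at h1
    rw [hvπ₁]
    exact (div_le_one₀ hvx0).mp h1
  have hres : ∀ w ∈ W₁, ∃ b' : B, W₁.valuation (w - algebraMap B F₁ b') < 1 := by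
    letI : Algebra B W₁ := (RingHom.codRestrict (algebraMap B F₁) W₁ hdom₁.1).toAlgebra
    haveI : IsLocalHom (algebraMap B W₁) := CompDvr.isLocalHom_codRestrict _ _ hdom₁
    haveI : IsScalarTower B W₁ F₁ := IsScalarTower.of_algebraMap_eq (fun _ => rfl)
    have hinjBW : Function.Injective (algebraMap B W₁) := by
      intro a a' haa'
      exact hinjBF (congrArg Subtype.val haa')
    obtain ⟨hfin, hef⟩ := Groth.Agent.S7132.result B W₁ L F₁ hinjBW
    haveI := hfin
    have hx₁W : algebraMap K₁ F₁ x ∈ W₁ :=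
      (ValuationSubring.valuation_le_one_iff _ _).mp hx.le
    have hmaxW₁ : maximalIdeal W₁ = Ideal.span {(⟨algebraMap K₁ F₁ x, hx₁W⟩ : W₁)} := by
      apply maxIdeal_eq_span W₁ _ hx
      intro z hz
      rw [← hvπ₁]; exact hπ₁gen z hz
    have hu'W : algebraMap K₁ F₁ u' ∈ W₁ :=
      (ValuationSubring.valuation_le_one_iff _ _).mp hu'.le
    have hu'unit : IsUnit (⟨algebraMap K₁ F₁ u', hu'W⟩ : W₁) := by
      rw [ValuationSubring.valuation_eq_one_iff]
      exact hu'
    have he : Ideal.ramificationIdx' (maximalIdeal B) (maximalIdeal W₁) = q := by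
      apply CompDvr.ramificationIdx'_eq hπBB hmaxW₁ (fun h => hx₁0 (congrArg Subtype.val h))
        hu'unit.unit q
      apply Subtype.ext
      show ϖ = algebraMap K₁ F₁ u' * algebraMap K₁ F₁ x ^ q
      exact hϖx
    rw [he, hfr, hdeg] at hef
    have hfpos : 0 < Module.finrank (ResidueField B) (ResidueField W₁) := Module.finrank_pos
    have hf1 : Module.finrank (ResidueField B) (ResidueField W₁) = 1 := by
      have h1 : q * Module.finrank (ResidueField B) (ResidueField W₁) ≤ q * 1 := by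
        rwa [mul_one]
      have := Nat.le_of_mul_le_mul_left h1 (Nat.pos_of_ne_zero hq0)
      omega
    have hsurj : Function.Surjective (algebraMap (ResidueField B) (ResidueField W₁)) := by
      rw [Algebra.surjective_algebraMap_iff]
      exact (Subalgebra.bot_eq_top_iff_finrank_eq_one.mpr hf1).symm
    intro w hw
    obtain ⟨β, hβ⟩ := hsurj (residue W₁ ⟨w, hw⟩)
    obtain ⟨b', rfl⟩ := residue_surjective β
    refine ⟨b', ?_⟩
    rw [ResidueField.algebraMap_residue] at hβ
    have h1 : (⟨w, hw⟩ : W₁) - algebraMap B W₁ b' ∈ maximalIdeal W₁ := by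
      rw [← residue_eq_zero_iff, map_sub, hβ, sub_self]
    rw [ValuationSubring.valuation_lt_one_iff] at h1
    exact h1
  exact ⟨hbb, hπ₁lt, hπ₁gen, hres, hvπ₁pow⟩

end Ram

section ValueGroup

open Polynomial

variable {F₁ F : Type u} [Field F₁] [Field F] [Algebra F₁ F] (p : ℕ) [Fact p.Prime]
  [CharP F₁ p] [CharP F p]

/-- In `F = F₁(θ)`, `θ ^ p = β` with `β` a unit of `W₁ = W ∩ F₁` whose residue class is not a
`p`-th power, the value groups of `W` and `W₁` coincide. -/
theorem value_group_eq (W : ValuationSubring F) (θ : F) (β : F₁)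
    (hθ : θ ^ p = algebraMap F₁ F β) (hβW : algebraMap F₁ F β ∈ W)
    (hβ : ∀ r : F₁, algebraMap F₁ F r ∈ W →
      ¬ W.valuation (algebraMap F₁ F (β - r ^ p)) < 1)
    (hgen : Algebra.adjoin F₁ {θ} = ⊤) (w : F) :
    ∃ c : F₁, W.valuation w = W.valuation (algebraMap F₁ F c) := by
  classical
  have hp : p.Prime := Fact.out
  let W₁ : ValuationSubring F₁ := W.comap (algebraMap F₁ F)
  letI : Algebra W₁ W := (EtRam.inclOfComap W (algebraMap F₁ F)).toAlgebra
  haveI : IsLocalHom (algebraMap W₁ W) := EtRam.isLocalHom_inclOfComap W (algebraMap F₁ F)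
  have hθW : θ ∈ W := by
    rw [← ValuationSubring.valuation_le_one_iff]
    have h1 : W.valuation θ ^ p ≤ 1 := by
      rw [← map_pow, hθ]; exact (ValuationSubring.valuation_le_one_iff _ _).mpr hβW
    exact (pow_le_one_iff_of_nonneg zero_le hp.ne_zero).mp h1
  let θW : W := ⟨θ, hθW⟩
  let βW₁ : W₁ := ⟨β, hβW⟩
  have hθβ : θW ^ p = algebraMap W₁ W βW₁ := Subtype.ext hθ
  set θbar := residue W θW with hθbar
  set βbar := residue W₁ βW₁ with hβbar
  have hθβbar : θbar ^ p = algebraMap (ResidueField W₁) (ResidueField W) βbar := by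
    rw [hθbar, hβbar, ← map_pow, hθβ, ResidueField.algebraMap_residue]
  have hirr : Irreducible (X ^ p - C βbar : (ResidueField W₁)[X]) := by
    apply X_pow_sub_C_irreducible_of_prime hp
    intro b hb
    obtain ⟨r, rfl⟩ := residue_surjective b
    have h1 : βW₁ - r ^ p ∈ maximalIdeal W₁ := by
      rw [← residue_eq_zero_iff, map_sub, map_pow, hb, sub_self]
    rw [ValuationSubring.valuation_lt_one_iff] at h1
    have h2 : W.valuation (algebraMap F₁ F ((βW₁ - r ^ p : W₁) : F₁)) < 1 := by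
      rwa [← TotRam.comap_val_lt_one_iff]
    exact hβ r.1 r.2 h2
  have hmonic : (X ^ p - C βbar : (ResidueField W₁)[X]).Monic := monic_X_pow_sub_C _ hp.ne_zero
  have hminpoly : minpoly (ResidueField W₁) θbar = X ^ p - C βbar := by
    symm
    apply minpoly.eq_of_irreducible_of_monic hirr _ hmonic
    rw [map_sub, map_pow, aeval_X, aeval_C, hθβbar, sub_self]
  have hdegmin : (minpoly (ResidueField W₁) θbar).natDegree = p := by
    rw [hminpoly, natDegree_X_pow_sub_C]
  have hli := linearIndependent_pow (K := ResidueField W₁) θbar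
  -- write `w` as a polynomial in `θ` of degree `< p`
  have hw : w ∈ Algebra.adjoin F₁ {θ} := by rw [hgen]; trivial
  rw [Algebra.adjoin_singleton_eq_range_aeval] at hw
  obtain ⟨g₀, rfl⟩ := hw
  have hq : (X ^ p - C β : F₁[X]).Monic := monic_X_pow_sub_C _ hp.ne_zero
  have hroot : aeval θ (X ^ p - C β : F₁[X]) = 0 := by
    rw [map_sub, map_pow, aeval_X, aeval_C, hθ, sub_self]
  set g := g₀ %ₘ (X ^ p - C β) with hg
  have hgw : aeval θ g₀ = aeval θ g := (aeval_modByMonic_eq_self_of_root hroot).symm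
  have hgdeg : g.natDegree < p := by
    have := natDegree_modByMonic_lt g₀ hq (by
      intro h
      have := congrArg natDegree h
      rw [natDegree_X_pow_sub_C, natDegree_one] at this
      exact hp.ne_zero this)
    rwa [natDegree_X_pow_sub_C] at this
  change ∃ c : F₁, W.valuation (aeval θ g₀) = _
  rw [hgw]
  by_cases hg0 : g = 0
  · exact ⟨0, by rw [hg0, map_zero, map_zero, map_zero, map_zero]⟩
  obtain ⟨i₀, hi₀, hmax⟩ := Finset.exists_max_image g.support
    (fun i => W.valuation (algebraMap F₁ F (g.coeff i))) (nonempty_support_iff.mpr hg0)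
  set c := g.coeff i₀ with hc
  have hc0 : c ≠ 0 := mem_support_iff.mp hi₀
  have hιc0 : algebraMap F₁ F c ≠ 0 := by rwa [Ne, map_eq_zero]
  have hvc0 : 0 < W.valuation (algebraMap F₁ F c) := zero_lt_iff.mpr (by rwa [Ne, map_eq_zero])
  have hi₀p : i₀ < p := lt_of_le_of_lt (le_natDegree_of_mem_supp i₀ hi₀) hgdeg
  have hdmem : ∀ i : ℕ, g.coeff i / c ∈ W₁ := by
    intro i
    show algebraMap F₁ F (g.coeff i / c) ∈ W
    rw [← ValuationSubring.valuation_le_one_iff, map_div₀, map_div₀]
    by_cases hi : i ∈ g.support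
    · exact (div_le_one₀ hvc0).mpr (hmax i hi)
    · rw [notMem_support_iff.mp hi, map_zero, map_zero, zero_div]
      exact zero_le_one
  let d : ℕ → W₁ := fun i => ⟨g.coeff i / c, hdmem i⟩
  let w'W : W := ∑ i ∈ Finset.range p, algebraMap W₁ W (d i) * θW ^ i
  have hw' : aeval θ g = algebraMap F₁ F c * (w'W : F) := by
    rw [aeval_eq_sum_range' hgdeg]
    have : ((w'W : W) : F) = ∑ i ∈ Finset.range p, algebraMap F₁ F (g.coeff i / c) * θ ^ i := by
      show ((∑ i ∈ Finset.range p, algebraMap W₁ W (d i) * θW ^ i : W) : F) = _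
      rw [← W.subtype_apply, map_sum]
      rfl
    rw [this, Finset.mul_sum]
    apply Finset.sum_congr rfl
    intro i _
    rw [Algebra.smul_def, map_div₀, ← mul_assoc, mul_div_cancel₀ _ hιc0]
  have hunit : IsUnit w'W := by
    by_contra hnu
    have h0 : residue W w'W = 0 := by
      rw [residue_eq_zero_iff]; exact (mem_maximalIdeal _).mpr hnu
    have h1 : residue W w'W = ∑ i ∈ Finset.range p, residue W₁ (d i) • θbar ^ i := by
      show residue W (∑ i ∈ Finset.range p, algebraMap W₁ W (d i) * θW ^ i) = _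
      rw [map_sum]
      apply Finset.sum_congr rfl
      intro i _
      rw [map_mul, map_pow, Algebra.smul_def, ResidueField.algebraMap_residue]
    rw [h1, ← hdegmin, Finset.sum_range] at h0
    have h2 := Fintype.linearIndependent_iff.mp hli
      (fun i => residue W₁ (d i)) h0 ⟨i₀, by rw [hdegmin]; exact hi₀p⟩
    have h3 : d i₀ = 1 := Subtype.ext (div_self hc0)
    simp only [h3, map_one] at h2
    exact one_ne_zero h2
  refine ⟨c, ?_⟩
  rw [hw', map_mul, (ValuationSubring.valuation_eq_one_iff W w'W).mp hunit, mul_one]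

end ValueGroup

end EppPI

end Groth.Agent.Lib.helper10
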