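import Mathlib
import Groth.Prelude.Def_EtRam
import Groth.Agent.Lib.Helper10.EppPI2

/-!
Epp's elimination of wild ramification, purely inseparable step (helper10), part 3:
from "good" `p`-th root data over all composita `L·K₁` to a weak solution for `C`.
-/

set_option autoImplicit false
set_option linter.unusedSectionVars false
set_option linter.style.haveILetI false

universe u

open IsLocalRing

namespace Groth.Agent.Lib.helper10

namespace EppPI

open Groth.Agent.Lib.helper10.EppAS

section WS

variable (p : ℕ) (hp : p.Prime) (A B C K L M : Type u)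
    [CommRing A] [IsDomain A] [IsDiscreteValuationRing A] [CommRing B] [IsDomain B]
    [IsDiscreteValuationRing B] [CommRing C] [IsDomain C] [IsDiscreteValuationRing C]
    [Algebra A B] [Algebra B C] [Algebra A C] [IsScalarTower A B C]
    [IsLocalHom (algebraMap A B)] [IsLocalHom (algebraMap B C)]
    [Field K] [Field L] [Field M] [Algebra A K] [IsFractionRing A K] [Algebra B L]
    [IsFractionRing B L] [Algebra C M] [IsFractionRing C M] [Algebra K L] [Algebra L M]
    [Algebra K M] [IsScalarTower K L M]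
    [Algebra A L] [IsScalarTower A K L] [IsScalarTower A B L] [Algebra B M] [IsScalarTower B L M]
    [IsScalarTower B C M] [Algebra A M] [IsScalarTower A K M] [IsScalarTower A C M]
    [CharP K p]
    (K₁ : Type u) [Field K₁] [Algebra K K₁] [FiniteDimensional K K₁] [Algebra.IsSeparable K K₁]

include hp in
theorem pgood_core (hw : EtRam.IsWeaklyUnramified A B)
    (ht : EtRam.IsTotallyRamified A ((algebraMap K K₁).comp (algebraMap A K)))
    (c₀ : M) (a₀ : L) (hc₀ : c₀ ^ p = algebraMap L M a₀)
    (hcgen : IntermediateField.adjoin L {c₀} = ⊤) (hdegM : Module.finrank L M = p)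
    (Hp : ∀ (F₁ : Type u) [Field F₁] [Algebra K F₁] [Algebra L F₁] [Algebra K₁ F₁]
      [IsScalarTower K L F₁] [IsScalarTower K K₁ F₁],
      Algebra.adjoin L (Set.range (algebraMap K₁ F₁)) = ⊤ →
      ∀ W₁ : ValuationSubring F₁,
        EtRam.Dominates B ((algebraMap L F₁).comp (algebraMap B L)) W₁ →
        ∃ g t β : F₁, t ≠ 0 ∧ algebraMap L F₁ a₀ = g ^ p + t ^ p * β ∧ β ∈ W₁ ∧
          ∀ r ∈ W₁, ¬ W₁.valuation (β - r ^ p) < 1)
    (F : Type u) [Field F] [Algebra K F] [Algebra M F] [Algebra K₁ F] [IsScalarTower K M F]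
    [IsScalarTower K K₁ F] (hgenF : Algebra.adjoin M (Set.range (algebraMap K₁ F)) = ⊤)
    (W : ValuationSubring F)
    (hW : EtRam.Dominates C ((algebraMap M F).comp (algebraMap C M)) W) :
    Module.finrank M F = Module.finrank K K₁ ∧
    ∃ x : K₁, W.valuation (algebraMap K₁ F x) < 1 ∧ algebraMap K₁ F x ≠ 0 ∧
      ∀ w : F, W.valuation w < 1 → w / algebraMap K₁ F x ∈ W := by
  haveI : Fact p.Prime := ⟨hp⟩
  letI : Algebra L F := ((algebraMap M F).comp (algebraMap L M)).toAlgebra
  haveI : IsScalarTower L M F := IsScalarTower.of_algebraMap_eq (fun _ => rfl)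
  haveI : IsScalarTower K L F := IsScalarTower.of_algebraMap_eq (fun x => by
    show algebraMap K F x = algebraMap M F (algebraMap L M (algebraMap K L x))
    rw [← IsScalarTower.algebraMap_apply K L M, ← IsScalarTower.algebraMap_apply K M F])
  let F₁ : IntermediateField L F := IntermediateField.adjoin L (Set.range (algebraMap K₁ F))
  letI : Algebra K₁ F₁ := (RingHom.codRestrict (algebraMap K₁ F) F₁
    (fun x => IntermediateField.subset_adjoin L _ ⟨x, rfl⟩)).toAlgebra
  haveI : IsScalarTower K₁ F₁ F := IsScalarTower.of_algebraMap_eq (fun _ => rfl)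
  haveI : IsScalarTower K K₁ F₁ := IsScalarTower.of_algebraMap_eq (fun x => Subtype.ext (by
    show algebraMap K F x = algebraMap K₁ F (algebraMap K K₁ x)
    exact IsScalarTower.algebraMap_apply K K₁ F x))
  have hgen₁ : Algebra.adjoin L (Set.range (algebraMap K₁ F₁)) = ⊤ := by
    have halg : ∀ x ∈ Set.range (algebraMap K₁ F), IsAlgebraic L x := by
      rintro _ ⟨k, rfl⟩
      have h1 : IsAlgebraic K k := Algebra.IsAlgebraic.isAlgebraic k
      have h2 : IsAlgebraic K (algebraMap K₁ F k) :=
        (isAlgebraic_algebraMap_iff (algebraMap K₁ F).injective).mpr h1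
      exact h2.tower_top L
    have h1 : F₁.toSubalgebra = Algebra.adjoin L (Set.range (algebraMap K₁ F)) :=
      IntermediateField.adjoin_toSubalgebra_of_isAlgebraic halg
    have key : ∀ y (_ : y ∈ Algebra.adjoin L (Set.range (algebraMap K₁ F))) (h : y ∈ F₁),
        (⟨y, h⟩ : F₁) ∈ Algebra.adjoin L (Set.range (algebraMap K₁ F₁)) := by
      have hle : Algebra.adjoin L (Set.range (algebraMap K₁ F)) ≤ F₁.toSubalgebra := h1.ge
      intro y hy
      induction hy using Algebra.adjoin_induction with
      | mem y hy =>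
        intro h
        obtain ⟨k, rfl⟩ := hy
        apply Algebra.subset_adjoin
        exact ⟨k, rfl⟩
      | algebraMap r =>
        intro h
        exact Subalgebra.algebraMap_mem _ r
      | add y y' hy hy' ihy ihy' =>
        intro h
        exact Subalgebra.add_mem _ (ihy (hle hy)) (ihy' (hle hy'))
      | mul y y' hy hy' ihy ihy' =>
        intro h
        exact Subalgebra.mul_mem _ (ihy (hle hy)) (ihy' (hle hy'))
    rw [eq_top_iff]
    rintro ⟨x, hx⟩ -
    have hx' : x ∈ F₁.toSubalgebra := hx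
    rw [h1] at hx'
    exact key x hx' hx
  let W₁ : ValuationSubring F₁ := W.comap (algebraMap F₁ F)
  have hBF : ∀ b : B, algebraMap F₁ F (algebraMap L F₁ (algebraMap B L b)) =
      algebraMap M F (algebraMap C M (algebraMap B C b)) := by
    intro b
    rw [← IsScalarTower.algebraMap_apply L F₁ F, ← IsScalarTower.algebraMap_apply B C M,
      IsScalarTower.algebraMap_apply B L M]
    rfl
  have hdom₁ : EtRam.Dominates B ((algebraMap L F₁).comp (algebraMap B L)) W₁ := by
    refine ⟨fun b => ?_, fun b hb => ?_⟩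
    · show algebraMap F₁ F (algebraMap L F₁ (algebraMap B L b)) ∈ W
      rw [hBF]
      exact hW.1 _
    · rw [TotRam.comap_val_lt_one_iff]
      show W.valuation (algebraMap F₁ F (algebraMap L F₁ (algebraMap B L b))) < 1
      rw [hBF]
      apply hW.2
      exact (IsLocalRing.mem_maximalIdeal _).mpr (fun hu' =>
        (IsLocalRing.mem_maximalIdeal _).mp hb (isUnit_of_map_unit (algebraMap B C) b hu'))
  obtain ⟨g, t, β, ht0, hrel, hβW, hβ⟩ := Hp F₁ hgen₁ W₁ hdom₁
  obtain ⟨π, hπirr⟩ := IsDiscreteValuationRing.exists_irreducible A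
  have hπ : maximalIdeal A = Ideal.span {π} := hπirr.maximalIdeal_eq
  obtain ⟨hfr, x, u, hx, hu, hxu, hdiv, hdomA⟩ :=
    unif_transfer A B K L K₁ F₁ hw ht hgen₁ W₁ hdom₁ hπ
  haveI : CharP F₁ p := charP_of_injective_algebraMap (algebraMap K F₁).injective p
  haveI : CharP F p := charP_of_injective_algebraMap (algebraMap K F).injective p
  have hLF : ∀ l : L, algebraMap F₁ F (algebraMap L F₁ l) = algebraMap M F (algebraMap L M l) := by
    intro l
    rw [← IsScalarTower.algebraMap_apply L F₁ F]; rfl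
  have htF0 : algebraMap F₁ F t ≠ 0 := by rwa [Ne, map_eq_zero]
  set θ : F := (algebraMap M F c₀ - algebraMap F₁ F g) / algebraMap F₁ F t with hθdef
  have hθ : θ ^ p = algebraMap F₁ F β := by
    have h1 : algebraMap F₁ F (algebraMap L F₁ a₀) =
        algebraMap F₁ F g ^ p + algebraMap F₁ F t ^ p * algebraMap F₁ F β := by
      rw [hrel, map_add, map_mul, map_pow, map_pow]
    rw [hθdef, div_pow, sub_pow_char, ← map_pow, hc₀, ← hLF, h1]
    field_simp
    ring
  have hθint : IsIntegral F₁ θ := by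
    refine ⟨Polynomial.X ^ p - Polynomial.C β, Polynomial.monic_X_pow_sub_C _ hp.ne_zero, ?_⟩
    rw [Polynomial.eval₂_sub, Polynomial.eval₂_pow, Polynomial.eval₂_X, Polynomial.eval₂_C, hθ,
      sub_self]
  have hgenθ : IntermediateField.adjoin F₁ {θ} = ⊤ := by
    rw [eq_top_iff]
    intro w _
    have hcF : algebraMap M F c₀ ∈ IntermediateField.adjoin F₁ {θ} := by
      have h1 : θ ∈ IntermediateField.adjoin F₁ {θ} :=
        IntermediateField.mem_adjoin_simple_self F₁ θ
      have h2 : algebraMap F₁ F g ∈ IntermediateField.adjoin F₁ {θ} :=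
        IntermediateField.algebraMap_mem _ g
      have h3 : algebraMap F₁ F t ∈ IntermediateField.adjoin F₁ {θ} :=
        IntermediateField.algebraMap_mem _ t
      have : algebraMap M F c₀ = θ * algebraMap F₁ F t + algebraMap F₁ F g := by
        rw [hθdef, div_mul_cancel₀ _ htF0]; ring
      rw [this]
      exact add_mem (mul_mem h1 h3) h2
    have hM : ∀ m : M, algebraMap M F m ∈ IntermediateField.adjoin F₁ {θ} := by
      intro m
      have hm : m ∈ IntermediateField.adjoin L {c₀} := by rw [hcgen]; trivial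
      induction hm using IntermediateField.adjoin_induction with
      | mem x hx =>
        rw [Set.mem_singleton_iff] at hx
        rw [hx]; exact hcF
      | algebraMap l =>
        rw [← hLF]
        exact IntermediateField.algebraMap_mem _ _
      | add x x' _ _ ihx ihx' => rw [map_add]; exact add_mem ihx ihx'
      | inv x _ ihx => rw [map_inv₀]; exact inv_mem ihx
      | mul x x' _ _ ihx ihx' => rw [map_mul]; exact mul_mem ihx ihx'
    have hw' : w ∈ Algebra.adjoin M (Set.range (algebraMap K₁ F)) := by rw [hgenF]; trivial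
    induction hw' using Algebra.adjoin_induction with
    | mem w hw =>
      obtain ⟨k, rfl⟩ := hw
      have : algebraMap K₁ F k = algebraMap F₁ F (algebraMap K₁ F₁ k) := rfl
      rw [this]
      exact IntermediateField.algebraMap_mem _ _
    | algebraMap m => exact hM m
    | add w w' _ _ ihw ihw' => exact add_mem (ihw trivial) (ihw' trivial)
    | mul w w' _ _ ihw ihw' => exact mul_mem (ihw trivial) (ihw' trivial)
  have hgenθ' : Algebra.adjoin F₁ {θ} = ⊤ := ASExt.adjoin_eq_top hθint hgenθ
  have hβ' : ∀ r : F₁, algebraMap F₁ F r ∈ W →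
      ¬ W.valuation (algebraMap F₁ F (β - r ^ p)) < 1 := by
    intro r hr h
    apply hβ r hr
    rwa [TotRam.comap_val_lt_one_iff]
  have hvg := value_group_eq p W θ β hθ hβW hβ' hgenθ'
  -- degrees
  have hdegF : Module.finrank M F = Module.finrank K K₁ := by
    have hirr : Irreducible (Polynomial.X ^ p - Polynomial.C β : Polynomial F₁) := by
      apply X_pow_sub_C_irreducible_of_prime hp
      intro r hr
      have hrW : r ∈ W₁ := by
        rw [← ValuationSubring.valuation_le_one_iff]
        have h1 : W₁.valuation r ^ p ≤ 1 := by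
          rw [← map_pow, hr]; exact (ValuationSubring.valuation_le_one_iff _ _).mpr hβW
        exact (pow_le_one_iff_of_nonneg zero_le hp.ne_zero).mp h1
      apply hβ r hrW
      rw [hr, sub_self, map_zero]
      exact zero_lt_one
    have hmin : minpoly F₁ θ = Polynomial.X ^ p - Polynomial.C β := by
      symm
      apply minpoly.eq_of_irreducible_of_monic hirr _
        (Polynomial.monic_X_pow_sub_C _ hp.ne_zero)
      rw [map_sub, map_pow, Polynomial.aeval_X, Polynomial.aeval_C, hθ, sub_self]
    have h1 : Module.finrank F₁ F = p := by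
      rw [← IntermediateField.finrank_top', ← hgenθ, IntermediateField.adjoin.finrank hθint,
        hmin, Polynomial.natDegree_X_pow_sub_C]
    obtain ⟨hfd, -⟩ := Groth.Agent.S1984.finite_of_gen K L K₁ F₁ hgen₁
    haveI := hfd
    haveI : FiniteDimensional F₁ F := Module.finite_of_finrank_pos (by rw [h1]; exact hp.pos)
    haveI : FiniteDimensional L M := Module.finite_of_finrank_pos (by rw [hdegM]; exact hp.pos)
    haveI : FiniteDimensional L F := Module.Finite.trans F₁ F
    haveI : FiniteDimensional M F := Module.Finite.of_restrictScalars_finite L M F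
    have h2 : Module.finrank L F₁ * Module.finrank F₁ F = Module.finrank L F :=
      Module.finrank_mul_finrank L F₁ F
    have h3 : Module.finrank L M * Module.finrank M F = Module.finrank L F :=
      Module.finrank_mul_finrank L M F
    rw [hfr, h1] at h2
    rw [hdegM, ← h2, mul_comm] at h3
    exact Nat.eq_of_mul_eq_mul_right hp.pos h3
  refine ⟨hdegF, x, ?_, ?_, ?_⟩
  · have := hx
    rwa [TotRam.comap_val_lt_one_iff] at this
  · have hn0 : Module.finrank K K₁ ≠ 0 := Module.finrank_pos.ne'
    have hx0 : x ≠ 0 := by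
      rintro rfl
      rw [zero_pow hn0, mul_zero] at hxu
      have h1 : algebraMap A K π = 0 := (algebraMap K K₁).injective (by rw [hxu, map_zero])
      have h2 : π = 0 := IsFractionRing.injective A K (by rw [h1, map_zero])
      exact hπirr.ne_zero h2
    rwa [Ne, map_eq_zero]
  · intro w hw
    obtain ⟨c, hc⟩ := hvg w
    have hc1 : W₁.valuation c < 1 := by
      rw [TotRam.comap_val_lt_one_iff, ← hc]; exact hw
    have h1 := hdiv c hc1
    have h2 : algebraMap F₁ F (c / algebraMap K₁ F₁ x) ∈ W := h1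
    rw [map_div₀] at h2
    have h3 : algebraMap F₁ F (algebraMap K₁ F₁ x) = algebraMap K₁ F x := rfl
    rw [h3, ← ValuationSubring.valuation_le_one_iff, map_div₀, ← hc, ← map_div₀,
      ValuationSubring.valuation_le_one_iff] at h2
    exact h2

include hp in
theorem ws_of_pgood (hw : EtRam.IsWeaklyUnramified A B)
    (ht : EtRam.IsTotallyRamified A ((algebraMap K K₁).comp (algebraMap A K)))
    (c₀ : M) (a₀ : L) (hc₀ : c₀ ^ p = algebraMap L M a₀)
    (hcgen : IntermediateField.adjoin L {c₀} = ⊤) (hdegM : Module.finrank L M = p)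
    (Hp : ∀ (F₁ : Type u) [Field F₁] [Algebra K F₁] [Algebra L F₁] [Algebra K₁ F₁]
      [IsScalarTower K L F₁] [IsScalarTower K K₁ F₁],
      Algebra.adjoin L (Set.range (algebraMap K₁ F₁)) = ⊤ →
      ∀ W₁ : ValuationSubring F₁,
        EtRam.Dominates B ((algebraMap L F₁).comp (algebraMap B L)) W₁ →
        ∃ g t β : F₁, t ≠ 0 ∧ algebraMap L F₁ a₀ = g ^ p + t ^ p * β ∧ β ∈ W₁ ∧
          ∀ r ∈ W₁, ¬ W₁.valuation (β - r ^ p) < 1) :
    EtRam.IsWeakSolution C K M K₁ := by
  intro F _ _ _ _ _ _ hgenF W hW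
  obtain ⟨-, x, hxW, hxF0, hstar⟩ :=
    pgood_core p hp A B C K L M K₁ hw ht c₀ a₀ hc₀ hcgen hdegM Hp F hgenF W hW
  show (letI : Algebra (W.comap (algebraMap K₁ F)) W :=
      (EtRam.inclOfComap W (algebraMap K₁ F)).toAlgebra
    EtRam.IsWeaklyUnramified (W.comap (algebraMap K₁ F)) W)
  letI : Algebra (W.comap (algebraMap K₁ F)) W :=
    (EtRam.inclOfComap W (algebraMap K₁ F)).toAlgebra
  unfold EtRam.IsWeaklyUnramified
  apply le_antisymm
  · exact IsLocalRing.map_maximalIdeal_le (EtRam.inclOfComap W (algebraMap K₁ F))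
  · intro w hw
    rw [ValuationSubring.valuation_lt_one_iff] at hw
    have hxmem : x ∈ W.comap (algebraMap K₁ F) := by
      rw [ValuationSubring.mem_comap, ← ValuationSubring.valuation_le_one_iff]
      exact hxW.le
    have hxmax : (⟨x, hxmem⟩ : W.comap (algebraMap K₁ F)) ∈
        maximalIdeal (W.comap (algebraMap K₁ F)) := by
      rw [ValuationSubring.valuation_lt_one_iff]
      show (W.comap (algebraMap K₁ F)).valuation x < 1
      rw [TotRam.comap_val_lt_one_iff]; exact hxW
    have hw' : w = (⟨(w : F) / algebraMap K₁ F x, hstar _ hw⟩ : W) *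
        algebraMap (W.comap (algebraMap K₁ F)) W ⟨x, hxmem⟩ := by
      apply Subtype.ext
      show (w : F) = (w : F) / algebraMap K₁ F x * algebraMap K₁ F x
      rw [div_mul_cancel₀ _ hxF0]
    rw [hw']
    exact Ideal.mul_mem_left _ _ (Ideal.mem_map_of_mem _ hxmax)

open TensorProduct in
include hp in
theorem isField_of_pgood (_hBC : Function.Injective (algebraMap B C))
    (hw : EtRam.IsWeaklyUnramified A B)
    (ht : EtRam.IsTotallyRamified A ((algebraMap K K₁).comp (algebraMap A K)))
    (c₀ : M) (a₀ : L) (hc₀ : c₀ ^ p = algebraMap L M a₀)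
    (hcgen : IntermediateField.adjoin L {c₀} = ⊤) (hdegM : Module.finrank L M = p)
    (Hp : ∀ (F₁ : Type u) [Field F₁] [Algebra K F₁] [Algebra L F₁] [Algebra K₁ F₁]
      [IsScalarTower K L F₁] [IsScalarTower K K₁ F₁],
      Algebra.adjoin L (Set.range (algebraMap K₁ F₁)) = ⊤ →
      ∀ W₁ : ValuationSubring F₁,
        EtRam.Dominates B ((algebraMap L F₁).comp (algebraMap B L)) W₁ →
        ∃ g t β : F₁, t ≠ 0 ∧ algebraMap L F₁ a₀ = g ^ p + t ^ p * β ∧ β ∈ W₁ ∧
          ∀ r ∈ W₁, ¬ W₁.valuation (β - r ^ p) < 1) :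
    IsField (M ⊗[K] K₁) := by
  have hfrT : Module.finrank M (M ⊗[K] K₁) = Module.finrank K K₁ := Module.finrank_baseChange
  haveI : Nontrivial (M ⊗[K] K₁) :=
    Module.nontrivial_of_finrank_pos (R := M) (by rw [hfrT]; exact Module.finrank_pos)
  obtain ⟨𝔪, h𝔪⟩ := Ideal.exists_maximal (M ⊗[K] K₁)
  letI : Field ((M ⊗[K] K₁) ⧸ 𝔪) := Ideal.Quotient.field 𝔪
  letI : Algebra K₁ (M ⊗[K] K₁) := Algebra.TensorProduct.rightAlgebra
  have hgen : Algebra.adjoin M (Set.range (algebraMap K₁ ((M ⊗[K] K₁) ⧸ 𝔪))) = ⊤ := by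
    rw [eq_top_iff]
    rintro z -
    obtain ⟨t, rfl⟩ := Ideal.Quotient.mk_surjective z
    induction t using TensorProduct.induction_on with
    | zero => rw [map_zero]; exact Subalgebra.zero_mem _
    | tmul l y =>
      have h1 : (l ⊗ₜ[K] y : M ⊗[K] K₁) = l • algebraMap K₁ (M ⊗[K] K₁) y := by
        show l ⊗ₜ[K] y = l • ((1 : M) ⊗ₜ[K] y)
        rw [TensorProduct.smul_tmul', smul_eq_mul, mul_one]
      rw [h1, ← Ideal.Quotient.mkₐ_eq_mk M, map_smul]
      apply Subalgebra.smul_mem
      apply Algebra.subset_adjoin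
      exact ⟨y, rfl⟩
    | add a b ha hb => rw [map_add]; exact Subalgebra.add_mem _ ha hb
  obtain ⟨hfd, hle⟩ := Groth.Agent.S1984.finite_of_gen K M K₁ ((M ⊗[K] K₁) ⧸ 𝔪) hgen
  haveI := hfd
  haveI := Groth.Agent.S1984.separable_of_gen K M K₁ ((M ⊗[K] K₁) ⧸ 𝔪) hgen
  obtain ⟨W, hW⟩ := Groth.Agent.S1984.exists_dominating C M ((M ⊗[K] K₁) ⧸ 𝔪)
  obtain ⟨hfr, -⟩ := pgood_core p hp A B C K L M K₁ hw ht c₀ a₀ hc₀ hcgen hdegM Hp
    ((M ⊗[K] K₁) ⧸ 𝔪) hgen W hW
  have hinj : Function.Injective (Ideal.Quotient.mkₐ M 𝔪).toLinearMap :=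
    (LinearMap.injective_iff_surjective_of_finrank_eq_finrank (hfrT.trans hfr.symm)).mpr
      (Ideal.Quotient.mkₐ_surjective M 𝔪)
  exact MulEquiv.isField (Field.toIsField ((M ⊗[K] K₁) ⧸ 𝔪))
    (RingEquiv.ofBijective (Ideal.Quotient.mk 𝔪) ⟨hinj, Ideal.Quotient.mk_surjective⟩).toMulEquiv

end WS

end EppPI

end Groth.Agent.Lib.helper10
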