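import Mathlib
import Groth.Prelude.Def_EtRam
import Groth.Agent.Lib.Helper10.EppPI3

/-!
Epp's elimination of wild ramification, purely inseparable step (helper10), part 4:
the computation in the case where a suitable expansion of the unit `u` stops.
-/

set_option autoImplicit false
set_option linter.unusedSectionVars false
set_option linter.style.haveILetI false

universe u

open IsLocalRing Polynomial

namespace Groth.Agent.Lib.helper10

namespace EppPI

open Groth.Agent.Lib.helper10.EppAS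

section Alpha

variable (p : ℕ) [Fact p.Prime] (A B K L : Type u) [CommRing A] [IsDomain A]
  [IsDiscreteValuationRing A] [CommRing B] [IsDomain B] [IsDiscreteValuationRing B]
  [Algebra A B] [IsLocalHom (algebraMap A B)]
  [Field K] [Field L] [Algebra A K] [IsFractionRing A K] [Algebra B L] [IsFractionRing B L]
  [Algebra K L] [Algebra A L] [IsScalarTower A K L] [IsScalarTower A B L] [CharP K p]
  [CharP B p]
  (K₁ : Type u) [Field K₁] [Algebra K K₁] [FiniteDimensional K K₁] [Algebra.IsSeparable K K₁]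

theorem hp_alpha (hw : EtRam.IsWeaklyUnramified A B)
    (ht : EtRam.IsTotallyRamified A ((algebraMap K K₁).comp (algebraMap A K)))
    {π : A} (hπ : maximalIdeal A = Ideal.span {π}) (m : ℕ)
    (hdeg : Module.finrank K K₁ = p)
    (ϖ₁ b₁ : K₁) (hb₁int : ((algebraMap K K₁).comp (algebraMap A K)).IsIntegralElem b₁)
    (hrel : ϖ₁ ^ p = algebraMap K K₁ (algebraMap A K π) +
      algebraMap K K₁ (algebraMap A K π) ^ (m + 2) * b₁)
    (u : B) (f : B[X]) (b : B)
    (hu : u = (f.map (frobenius B p)).eval (algebraMap A B π) + b * algebraMap A B π ^ m)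
    (hb : ∀ b' : B, b - b' ^ p ∉ maximalIdeal B)
    (F₁ : Type u) [Field F₁] [Algebra K F₁] [Algebra L F₁] [Algebra K₁ F₁]
    [IsScalarTower K L F₁] [IsScalarTower K K₁ F₁]
    (hgen₁ : Algebra.adjoin L (Set.range (algebraMap K₁ F₁)) = ⊤) (W₁ : ValuationSubring F₁)
    (hdom₁ : EtRam.Dominates B ((algebraMap L F₁).comp (algebraMap B L)) W₁) :
    ∃ g t β : F₁, t ≠ 0 ∧
      algebraMap L F₁ (algebraMap B L (u * algebraMap A B π)) = g ^ p + t ^ p * β ∧ β ∈ W₁ ∧
      ∀ r ∈ W₁, ¬ W₁.valuation (β - r ^ p) < 1 := by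
  have hp : p.Prime := Fact.out
  haveI : CharP F₁ p := charP_of_injective_algebraMap (algebraMap K F₁).injective p
  obtain ⟨hbb, hπ₁lt, hπ₁gen, hres, hvpow⟩ := ram_data A B K L K₁ hw ht hπ
    (show 2 ≤ m + 2 by omega) hp.ne_zero hdeg ϖ₁ b₁ hb₁int hrel F₁ hgen₁ W₁ hdom₁
  letI : Algebra B F₁ := ((algebraMap L F₁).comp (algebraMap B L)).toAlgebra
  haveI : IsScalarTower B L F₁ := IsScalarTower.of_algebraMap_eq (fun _ => rfl)
  have hcomp : ∀ a : A, algebraMap K₁ F₁ (algebraMap K K₁ (algebraMap A K a)) =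
      algebraMap B F₁ (algebraMap A B a) := by
    intro a
    show _ = algebraMap L F₁ (algebraMap B L (algebraMap A B a))
    rw [← IsScalarTower.algebraMap_apply K K₁ F₁, ← IsScalarTower.algebraMap_apply A B L,
      IsScalarTower.algebraMap_apply A K L, ← IsScalarTower.algebraMap_apply K L F₁]
  set φ : B →+* F₁ := algebraMap B F₁ with hφ
  have hφW : ∀ b' : B, φ b' ∈ W₁ := hdom₁.1
  set πBB := algebraMap A B π with hπBBdef
  set ϖ := φ πBB with hϖ
  set π₁ := algebraMap K₁ F₁ ϖ₁ with hπ₁def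
  set bb := algebraMap K₁ F₁ b₁ with hbbdef
  have hrel' : π₁ ^ p = ϖ + ϖ ^ (m + 2) * bb := by
    rw [hϖ, hφ, hπBBdef, ← hcomp, hπ₁def, hbbdef, ← map_pow, ← map_pow, ← map_mul, ← map_add, hrel]
  have hvpow' : W₁.valuation π₁ ^ p = W₁.valuation ϖ := hvpow
  have hϖW : ϖ ∈ W₁ := hφW _
  have hπ₁W : π₁ ∈ W₁ := (ValuationSubring.valuation_le_one_iff _ _).mp hπ₁lt.le
  have hπBBmem : πBB ∈ maximalIdeal B := by
    rw [← hw, hπ, Ideal.map_span, Set.image_singleton]; exact Ideal.mem_span_singleton_self _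
  have hϖlt : W₁.valuation ϖ < 1 := hdom₁.2 _ hπBBmem
  have hϖ0 : ϖ ≠ 0 := by
    have hinjφ : Function.Injective φ := by
      intro a a' haa'
      exact IsFractionRing.injective B L ((algebraMap L F₁).injective haa')
    rw [hϖ, Ne, map_eq_zero_iff _ hinjφ]
    intro h
    have h1 : maximalIdeal B = Ideal.span {πBB} := by
      rw [← hw, hπ, Ideal.map_span, Set.image_singleton]
    rw [h, Set.singleton_zero, Ideal.span_zero] at h1
    exact IsDiscreteValuationRing.not_a_field B h1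
  have hπ₁0 : π₁ ≠ 0 := by
    intro h
    rw [h, map_zero, zero_pow hp.ne_zero] at hvpow'
    exact hϖ0 ((map_eq_zero _).mp hvpow'.symm)
  -- the polynomial
  set Fp : B[X] := f.map (frobenius B p) with hFp
  set G : B[X] := X * Fp + C b * X ^ (m + 1) with hG
  have hG1 : G.eval₂ φ ϖ = φ (u * πBB) := by
    rw [hG, eval₂_add, eval₂_mul, eval₂_X, eval₂_mul, eval₂_C, eval₂_pow, eval₂_X, hu, hϖ,
      map_mul, map_add, map_mul, map_pow]
    have : eval₂ φ (φ πBB) Fp = φ (eval πBB Fp) := Polynomial.eval₂_at_apply φ πBB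
    rw [this]
    ring
  set g : F₁ := π₁ * f.eval₂ φ π₁ with hg
  set t : F₁ := π₁ ^ (m + 1) with htdef
  have hG2 : G.eval₂ φ (π₁ ^ p) = g ^ p + t ^ p * φ b := by
    rw [hG, eval₂_add, eval₂_mul, eval₂_X, eval₂_mul, eval₂_C, eval₂_pow, eval₂_X, hFp,
      ← frob_eval p φ π₁ f, hg, htdef, mul_pow, ← pow_mul, ← pow_mul, mul_comm p (m + 1)]
    ring
  obtain ⟨c, hcW, hc⟩ := eval₂_sub_mem φ W₁ hφW hϖW (pow_mem hπ₁W p) G
  have ht0 : t ≠ 0 := pow_ne_zero _ hπ₁0
  have htp0 : t ^ p ≠ 0 := pow_ne_zero _ ht0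
  set ε : F₁ := ϖ ^ (m + 2) * bb * c / t ^ p with hε
  have hεlt : W₁.valuation ε < 1 := by
    rw [hε, map_div₀, map_mul, map_mul, map_pow, map_pow, htdef, map_pow, ← hvpow', ← pow_mul,
      ← pow_mul]
    have hv0 : 0 < W₁.valuation π₁ := zero_lt_iff.mpr (by rwa [Ne, map_eq_zero])
    have h1 : W₁.valuation bb ≤ 1 := (ValuationSubring.valuation_le_one_iff _ _).mpr hbb
    have h2 : W₁.valuation c ≤ 1 := (ValuationSubring.valuation_le_one_iff _ _).mpr hcW
    have h3 : W₁.valuation π₁ ^ (p * (m + 2)) =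
        W₁.valuation π₁ ^ ((m + 1) * p) * W₁.valuation π₁ ^ p := by
      rw [← pow_add]; congr 1; ring
    rw [h3, div_lt_one₀ (pow_pos hv0 _)]
    have h4 : W₁.valuation π₁ ^ p < 1 := pow_lt_one₀ zero_le hπ₁lt hp.ne_zero
    calc W₁.valuation π₁ ^ ((m + 1) * p) * W₁.valuation π₁ ^ p * W₁.valuation bb *
          W₁.valuation c
        ≤ W₁.valuation π₁ ^ ((m + 1) * p) * W₁.valuation π₁ ^ p * 1 * 1 := by
          gcongr
      _ = W₁.valuation π₁ ^ ((m + 1) * p) * W₁.valuation π₁ ^ p := by rw [mul_one, mul_one]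
      _ < W₁.valuation π₁ ^ ((m + 1) * p) * 1 :=
          mul_lt_mul_of_pos_left h4 (pow_pos hv0 _)
      _ = W₁.valuation π₁ ^ ((m + 1) * p) := mul_one _
  set β : F₁ := φ b - ε with hβdef
  have hεW : ε ∈ W₁ := (ValuationSubring.valuation_le_one_iff _ _).mp hεlt.le
  have hmain : φ (u * πBB) = g ^ p + t ^ p * β := by
    have h1 : φ (u * πBB) = g ^ p + t ^ p * φ b + (ϖ - π₁ ^ p) * c := by
      rw [← hG1, ← hG2, ← hc]; ring
    have h2 : ϖ - π₁ ^ p = -(ϖ ^ (m + 2) * bb) := by rw [hrel']; ring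
    rw [h1, h2, hβdef, hε, mul_sub, mul_div_cancel₀ _ htp0]
    ring
  refine ⟨g, t, β, ht0, hmain, sub_mem (hφW b) hεW, ?_⟩
  intro r hr hlt
  obtain ⟨b', hb'⟩ := hres r hr
  have h4 : r ^ p - φ b' ^ p = (r - φ b') ^ p :=
    (sub_pow_char (p := p) (x := r) (y := φ b')).symm
  have h5 : W₁.valuation (r ^ p - φ b' ^ p) < 1 := by
    rw [h4, map_pow]
    exact pow_lt_one₀ zero_le hb' hp.ne_zero
  have h6 : φ (b - b' ^ p) = (β - r ^ p) + (r ^ p - φ b' ^ p) + ε := by
    rw [hβdef, map_sub, map_pow]; ring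
  have h7 : W₁.valuation (φ (b - b' ^ p)) < 1 := by
    rw [h6]
    exact Valuation.map_add_lt _ (Valuation.map_add_lt _ hlt h5) hεlt
  apply hb b'
  by_contra hnot
  have hunit : IsUnit (b - b' ^ p) := by
    by_contra hnu
    exact hnot ((mem_maximalIdeal _).mpr hnu)
  rw [val_eq_one_of_isUnit hφW hunit] at h7
  exact lt_irrefl _ h7

end Alpha

end EppPI

end Groth.Agent.Lib.helper10
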