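import Mathlib
import Groth.Prelude.Def_EtRam
import Groth.Agent.Lib.Helper10.EppPI4

/-!
Epp's elimination of wild ramification, purely inseparable step (helper10), part 5:
the extension `B ⊂ C` for `M/L` purely inseparable of degree `p`; expansions of units.
-/

set_option autoImplicit false
set_option linter.unusedSectionVars false
set_option linter.style.haveILetI false

universe u

open IsLocalRing Polynomial

namespace Groth.Agent.Lib.helper10

namespace EppPI

section BC

variable (B C L M : Type u) [CommRing B] [IsDomain B] [IsDiscreteValuationRing B]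
  [CommRing C] [IsDomain C] [IsDiscreteValuationRing C] [Algebra B C]
  [IsLocalHom (algebraMap B C)]
  [Field L] [Field M] [Algebra B L] [IsFractionRing B L] [Algebra C M] [IsFractionRing C M]
  [Algebra L M] [Algebra B M] [IsScalarTower B L M] [IsScalarTower B C M]

theorem mem_B_of_mem_C (l : L) (c : C) (h : algebraMap C M c = algebraMap L M l) :
    ∃ b : B, algebraMap B L b = l := by
  by_cases hl0 : l = 0
  · exact ⟨0, by rw [hl0, map_zero]⟩
  rcases ValuationRing.isInteger_or_isInteger B l with ⟨b, hb⟩ | ⟨b, hb⟩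
  · exact ⟨b, hb⟩
  · by_cases hbu : IsUnit b
    · obtain ⟨b', hb'⟩ := hbu.exists_right_inv
      refine ⟨b', ?_⟩
      have h1 : algebraMap B L b * algebraMap B L b' = 1 := by
        rw [← map_mul, hb', map_one]
      rw [hb] at h1
      field_simp at h1
      exact h1
    · exfalso
      have hbm : algebraMap B C b ∈ maximalIdeal C := by
        rw [mem_maximalIdeal, mem_nonunits_iff]
        exact fun hu => hbu (isUnit_of_map_unit (algebraMap B C) b hu)
      have h1 : algebraMap C M (algebraMap B C b * c) = 1 := by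
        rw [map_mul, h, ← IsScalarTower.algebraMap_apply B C M,
          IsScalarTower.algebraMap_apply B L M, hb, ← map_mul, inv_mul_cancel₀ hl0, map_one]
      have h2 : algebraMap B C b * c = 1 := IsFractionRing.injective C M (by rw [h1, map_one])
      have h3 : IsUnit (algebraMap B C b) := IsUnit.of_mul_eq_one _ h2
      exact (mem_maximalIdeal _).mp hbm h3

end BC

section Ram

variable (B C L M : Type u) [CommRing B] [IsDomain B] [IsDiscreteValuationRing B]
  [CommRing C] [IsDomain C] [IsDiscreteValuationRing C] [Algebra B C]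
  [IsLocalHom (algebraMap B C)]
  [Field L] [Field M] [Algebra B L] [IsFractionRing B L] [Algebra C M] [IsFractionRing C M]
  [Algebra L M] [Algebra B M] [IsScalarTower B L M] [IsScalarTower B C M]
  [IsPurelyInseparable L M]

theorem ram_alt {p : ℕ} (hp : p.Prime) (hdeg : Module.finrank L M = p)
    (hBC : Function.Injective (algebraMap B C)) {πB : B}
    (hπB : maximalIdeal B = Ideal.span {πB}) {πC : C} (hπC : Irreducible πC) :
    (maximalIdeal C = Ideal.span {algebraMap B C πB}) ∨
      ∃ u : Bˣ, πC ^ p = algebraMap B C (u * πB) := by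
  have hπBirr : Irreducible πB := (IsDiscreteValuationRing.irreducible_iff_uniformizer πB).mpr hπB
  have hπB0 : algebraMap B C πB ≠ 0 := by
    rw [Ne, map_eq_zero_iff _ hBC]; exact hπBirr.ne_zero
  obtain ⟨e, w, hw⟩ := IsDiscreteValuationRing.eq_unit_mul_pow_irreducible hπB0 hπC
  obtain ⟨l, hl⟩ := pow_p_mem L M hp hdeg (algebraMap C M πC)
  rw [← map_pow] at hl
  obtain ⟨b₀, rfl⟩ := mem_B_of_mem_C B C L M l (πC ^ p) hl
  have hb₀ : algebraMap B C b₀ = πC ^ p := by
    apply IsFractionRing.injective C M
    rw [hl, ← IsScalarTower.algebraMap_apply B C M, IsScalarTower.algebraMap_apply B L M]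
  have hb₀0 : b₀ ≠ 0 := by
    rintro rfl
    rw [map_zero] at hb₀
    exact pow_ne_zero p hπC.ne_zero hb₀.symm
  obtain ⟨k, u, hu⟩ := IsDiscreteValuationRing.eq_unit_mul_pow_irreducible hb₀0 hπBirr
  have hkey : ((Units.map (algebraMap B C).toMonoidHom u * w ^ k : Cˣ) : C) * πC ^ (e * k) =
      ((1 : Cˣ) : C) * πC ^ p := by
    rw [Units.val_one, one_mul, ← hb₀, hu, map_mul, map_pow, hw, mul_pow, ← pow_mul,
      Units.val_mul, Units.val_pow_eq_pow_val]
    simp only [Units.coe_map, RingHom.toMonoidHom_eq_coe, MonoidHom.coe_coe]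
    ring
  have hek : e * k = p := IsDiscreteValuationRing.unit_mul_pow_congr_pow hπC hπC _ _ _ _ hkey
  have he : e = 1 ∨ e = p := (Nat.dvd_prime hp).mp ⟨k, hek.symm⟩
  rcases he with he | he
  · left
    rw [hπC.maximalIdeal_eq, hw, he, pow_one]
    exact (Ideal.span_singleton_eq_span_singleton.mpr
      ⟨w⁻¹, by rw [mul_comm (w : C), mul_assoc, Units.mul_inv, mul_one]⟩).symm
  · right
    have hk1 : k = 1 := by
      rw [he] at hek
      have := hp.pos
      exact Nat.eq_of_mul_eq_mul_left this (by rw [hek, mul_one])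
    refine ⟨u, ?_⟩
    rw [← hb₀, hu, hk1, pow_one]

end Ram

section Dich

variable (B : Type u) [CommRing B] [IsDomain B] [IsDiscreteValuationRing B]
  (p : ℕ) [Fact p.Prime] [CharP B p]

theorem expansion_dichotomy {πB : B} (hπB : maximalIdeal B = Ideal.span {πB}) (u : B) :
    (∃ (m : ℕ) (f : B[X]) (b : B),
        u = (f.map (frobenius B p)).eval πB + b * πB ^ m ∧
        ∀ b' : B, b - b' ^ p ∉ maximalIdeal B) ∨
    (∀ m : ℕ, ∃ (f : B[X]) (b : B), u = (f.map (frobenius B p)).eval πB + b * πB ^ m) := by
  by_cases h : ∃ (m : ℕ) (f : B[X]) (b : B),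
      u = (f.map (frobenius B p)).eval πB + b * πB ^ m ∧ ∀ b' : B, b - b' ^ p ∉ maximalIdeal B
  · exact Or.inl h
  · right
    push Not at h
    intro m
    induction m with
    | zero => exact ⟨0, u, by simp⟩
    | succ m ih =>
      obtain ⟨f, b, hfb⟩ := ih
      obtain ⟨b', hb'⟩ := h m f b hfb
      rw [hπB, Ideal.mem_span_singleton'] at hb'
      obtain ⟨b'', hb''⟩ := hb'
      refine ⟨f + C b' * X ^ m, b'', ?_⟩
      rw [Polynomial.map_add, Polynomial.map_mul, Polynomial.map_pow, map_X, map_C, eval_add,
        eval_mul, eval_C, eval_pow, eval_X, frobenius_def, hfb]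
      have : b = b' ^ p + b'' * πB := by rw [hb'']; ring
      rw [this]
      ring

end Dich

end EppPI

end Groth.Agent.Lib.helper10
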