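import Mathlib
import Groth.Prelude.Def_EtRam
import Groth.Prelude.Def_Found
import Groth.Agent.Lib.Helper10.EppPI5
import Groth.Agent.Lib.Helper22.N2Loc
import Groth.Agent.S1987

/-!
Epp's elimination of wild ramification, purely inseparable step (helper10), part 6:
the case where the unit `u` (with `πC ^ p = u πB`) has expansions of every order:
then `πB` has a `p`-th root in `M` and `C = B[πB^(1/p)]`.
-/

set_option autoImplicit false
set_option linter.unusedSectionVars false
set_option linter.style.haveILetI false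

universe u

open IsLocalRing Polynomial

namespace Groth.Agent.Lib.helper10

namespace EppPI

/-- Krull: a submodule `S` of a finite module `R` over a Noetherian local ring is closed. -/
theorem mem_of_forall_mem_add_pow {B Ω : Type*} [CommRing B] [IsLocalRing B] [IsNoetherianRing B]
    [AddCommGroup Ω] [Module B Ω] (R S : Submodule B Ω) (hR : R.FG) (hSR : S ≤ R) (ϖ : B)
    (hϖ : ϖ ∈ maximalIdeal B) (y : Ω)
    (hy : ∀ i : ℕ, ∃ s ∈ S, ∃ r ∈ R, y = s + ϖ ^ i • r) : y ∈ S := by
  have hyR : y ∈ R := by
    obtain ⟨s, hs, r, hr, h⟩ := hy 0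
    rw [h]
    exact R.add_mem (hSR hs) (R.smul_mem _ hr)
  haveI : Module.Finite B R := Module.Finite.iff_fg.mpr hR
  have hmem : (Submodule.Quotient.mk ⟨y, hyR⟩ : R ⧸ S.submoduleOf R) ∈
      (⨅ i : ℕ, (maximalIdeal B) ^ i • (⊤ : Submodule B (R ⧸ S.submoduleOf R))) := by
    rw [Submodule.mem_iInf]
    intro i
    obtain ⟨s, hs, r, hr, h⟩ := hy i
    have h1 : (Submodule.Quotient.mk ⟨y, hyR⟩ : R ⧸ S.submoduleOf R) =
        ϖ ^ i • Submodule.Quotient.mk ⟨r, hr⟩ := by
      rw [← Submodule.Quotient.mk_smul, Submodule.Quotient.eq]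
      show y - ϖ ^ i • r ∈ S
      rw [h]
      simpa using hs
    rw [h1]
    exact Submodule.smul_mem_smul (Ideal.pow_mem_pow hϖ i) Submodule.mem_top
  rw [Ideal.iInf_pow_smul_eq_bot_of_isLocalRing _ (IsLocalRing.maximalIdeal.isMaximal B).ne_top,
    Submodule.mem_bot, Submodule.Quotient.mk_eq_zero] at hmem
  exact hmem

/-- N-2 is invariant under ring isomorphisms. -/
theorem isN2_of_ringEquiv {B B' : Type u} [CommRing B] [IsDomain B] [CommRing B'] [IsDomain B']
    (e : B ≃+* B') (hB : CAlg.IsN2 B) : CAlg.IsN2 B' := by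
  letI : Algebra B B' := e.toRingHom.toAlgebra
  haveI : IsLocalization (⊥ : Submonoid B) B := IsLocalization.self (by
    intro x hx
    rw [Submonoid.mem_bot] at hx
    subst hx
    exact isUnit_one)
  haveI : IsLocalization (⊥ : Submonoid B) B' :=
    IsLocalization.isLocalization_of_algEquiv ⊥ (AlgEquiv.ofRingEquiv (f := e) (fun x => rfl))
  exact Groth.Agent.Lib.helper22.isN2_of_isLocalization hB ⊥ B'

theorem isN2_of_isNagata (B : Type u) [CommRing B] [IsDomain B] (hB : CAlg.IsNagata B) :
    CAlg.IsN2 B := by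
  haveI : (⊥ : Ideal B).IsPrime := Ideal.isPrime_bot
  exact isN2_of_ringEquiv (RingEquiv.quotientBot B) (hB.2 ⊥)

/-- N-2 in terms of an arbitrary fraction field. -/
theorem finite_integralClosure_of_isN2 {A : Type u} [CommRing A] [IsDomain A] (hA : CAlg.IsN2 A)
    (K L : Type u) [Field K] [Field L] [Algebra A K] [IsFractionRing A K] [Algebra K L]
    [Algebra A L] [IsScalarTower A K L] [FiniteDimensional K L] :
    Module.Finite A (integralClosure A L) := by
  let e : FractionRing A ≃ₐ[A] K := FractionRing.algEquiv A K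
  letI : Algebra (FractionRing A) K := (e : FractionRing A →+* K).toAlgebra
  letI : Algebra (FractionRing A) L :=
    ((algebraMap K L).comp (algebraMap (FractionRing A) K)).toAlgebra
  haveI : IsScalarTower (FractionRing A) K L := IsScalarTower.of_algebraMap_eq (fun _ => rfl)
  haveI : IsScalarTower A (FractionRing A) K := IsScalarTower.of_algebraMap_eq (fun a => by
    rw [RingHom.algebraMap_toAlgebra]
    exact (e.commutes a).symm)
  haveI : IsScalarTower A (FractionRing A) L := IsScalarTower.of_algebraMap_eq (fun a => by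
    rw [IsScalarTower.algebraMap_apply A K L, IsScalarTower.algebraMap_apply A (FractionRing A) K,
      ← IsScalarTower.algebraMap_apply (FractionRing A) K L])
  haveI : Module.Finite (FractionRing A) K := by
    let f : FractionRing A →ₗ[FractionRing A] K :=
      { toFun := e
        map_add' := map_add e
        map_smul' := fun r x => by
          rw [RingHom.id_apply, smul_eq_mul, map_mul, Algebra.smul_def,
            RingHom.algebraMap_toAlgebra]
          rfl }
    exact Module.Finite.of_surjective f e.surjective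
  haveI : FiniteDimensional (FractionRing A) L := Module.Finite.trans K L
  exact hA L inferInstance

section A

variable (p : ℕ) [Fact p.Prime] (B L E : Type u) [CommRing B] [IsDomain B]
  [IsDiscreteValuationRing B] [CharP B p]
  [Field L] [Algebra B L] [IsFractionRing B L] [Field E] [Algebra L E] [Algebra B E]
  [IsScalarTower B L E]

theorem mem_adjoin_of_expansions (_hL : Module.Finite L E) (hN : CAlg.IsN2 B) {πB : B} (hπB : πB ∈ maximalIdeal B)
    (hπB0 : πB ≠ 0) (u : B)
    (hβ : ∀ m : ℕ, ∃ (f : B[X]) (b : B), u = (f.map (frobenius B p)).eval πB + b * πB ^ m)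
    (π' y : E) (hπ' : π' ^ p = algebraMap B E πB) (hy : y ^ p = algebraMap B E u) :
    y ∈ Algebra.adjoin B {π'} := by
  have hp : p.Prime := Fact.out
  have hinj : Function.Injective (algebraMap B E) := by
    rw [IsScalarTower.algebraMap_eq B L E]
    exact (algebraMap L E).injective.comp (IsFractionRing.injective B L)
  haveI : CharP E p := charP_of_injective_algebraMap hinj p
  haveI : Module.Finite B (integralClosure B E) := finite_integralClosure_of_isN2 hN L E
  have hR : ((integralClosure B E).toSubmodule).FG := Module.Finite.iff_fg.mp inferInstance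
  have hπ'int : IsIntegral B π' := by
    refine ⟨X ^ p - C πB, monic_X_pow_sub_C πB hp.ne_zero, ?_⟩
    rw [eval₂_sub, eval₂_pow, eval₂_X, eval₂_C, hπ', sub_self]
  have hSR : (Algebra.adjoin B {π'}).toSubmodule ≤ (integralClosure B E).toSubmodule := by
    have h0 : Algebra.adjoin B {π'} ≤ integralClosure B E := by
      apply Algebra.adjoin_le
      intro x hx
      rw [Set.mem_singleton_iff] at hx
      rw [hx]
      exact hπ'int
    exact fun x hx => h0 hx
  have hφπ0 : algebraMap B E πB ≠ 0 := by
    rw [Ne, map_eq_zero_iff _ hinj]; exact hπB0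
  have key := mem_of_forall_mem_add_pow (integralClosure B E).toSubmodule
    (Algebra.adjoin B {π'}).toSubmodule hR hSR πB hπB y ?_
  · exact key
  intro i
  obtain ⟨f, b, hfb⟩ := hβ (p * i)
  have hw : aeval π' f ∈ Algebra.adjoin B {π'} := aeval_mem_adjoin_singleton B π'
  have hwp : (aeval π' f) ^ p = algebraMap B E ((f.map (frobenius B p)).eval πB) := by
    rw [aeval_def, frob_eval p (algebraMap B E) π' f, hπ', Polynomial.eval₂_at_apply]
  have h1 : (y - aeval π' f) ^ p = algebraMap B E b * ((algebraMap B E πB) ^ i) ^ p := by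
    rw [sub_pow_char (p := p) (x := y) (y := aeval π' f), hy, hwp, ← map_sub, hfb,
      add_sub_cancel_left, map_mul, map_pow, ← pow_mul, mul_comm i p]
  have hr : (y - aeval π' f) / (algebraMap B E πB) ^ i ∈ integralClosure B E := by
    refine ⟨X ^ p - C b, monic_X_pow_sub_C b hp.ne_zero, ?_⟩
    rw [eval₂_sub, eval₂_pow, eval₂_X, eval₂_C, div_pow, h1,
      mul_div_assoc, div_self (pow_ne_zero _ (pow_ne_zero _ hφπ0)), mul_one, sub_self]
  refine ⟨aeval π' f, hw, _, hr, ?_⟩
  rw [Algebra.smul_def, map_pow, mul_div_cancel₀ _ (pow_ne_zero _ hφπ0)]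
  ring

end A

section FieldB

variable (p : ℕ) (L M E : Type u) [Field L] [Field M] [Field E] [Algebra L M] [Algebra M E]
  [Algebra L E] [IsScalarTower L M E]

theorem exists_root_of_mem_adjoin (hp : p.Prime) (hdeg : Module.finrank L M = p) (γ : M)
    (hγ : IntermediateField.adjoin L {γ} = ⊤) (a : L) (π' : E)
    (hπ' : π' ^ p = algebraMap L E a)
    (hmem : algebraMap M E γ ∈ IntermediateField.adjoin L {π'}) :
    ∃ c₀ : M, c₀ ^ p = algebraMap L M a := by
  let f : M →ₐ[L] E := IsScalarTower.toAlgHom L M E
  have hfr : f.fieldRange = IntermediateField.adjoin L {f γ} := by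
    rw [AlgHom.fieldRange_eq_map, ← hγ, IntermediateField.adjoin_map, Set.image_singleton]
  have hle : f.fieldRange ≤ IntermediateField.adjoin L {π'} := by
    rw [hfr, IntermediateField.adjoin_simple_le_iff]
    exact hmem
  haveI : FiniteDimensional L M := Module.finite_of_finrank_pos (hdeg ▸ hp.pos)
  have hfin1 : Module.finrank L f.fieldRange = p := by
    rw [← hdeg]
    exact (AlgEquiv.ofInjectiveField f).toLinearEquiv.finrank_eq.symm
  have hπ'int : IsIntegral L π' := by
    refine ⟨X ^ p - C a, monic_X_pow_sub_C a hp.ne_zero, ?_⟩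
    rw [eval₂_sub, eval₂_pow, eval₂_X, eval₂_C, hπ', sub_self]
  have hfin2 : Module.finrank L (IntermediateField.adjoin L {π'}) ≤ p := by
    rw [IntermediateField.adjoin.finrank hπ'int]
    have hdvd : minpoly L π' ∣ X ^ p - C a := by
      apply minpoly.dvd
      rw [aeval_def, eval₂_sub, eval₂_pow, eval₂_X, eval₂_C, hπ', sub_self]
    have := natDegree_le_of_dvd hdvd (monic_X_pow_sub_C a hp.ne_zero).ne_zero
    rwa [natDegree_X_pow_sub_C] at this
  haveI : FiniteDimensional L (IntermediateField.adjoin L {π'}) :=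
    IntermediateField.adjoin.finiteDimensional hπ'int
  have heq : f.fieldRange = IntermediateField.adjoin L {π'} :=
    IntermediateField.eq_of_le_of_finrank_le hle (by rw [hfin1]; exact hfin2)
  have hmem' : π' ∈ f.fieldRange := by
    rw [heq]; exact IntermediateField.mem_adjoin_simple_self L π'
  obtain ⟨c₀, hc₀⟩ := hmem'
  refine ⟨c₀, ?_⟩
  apply (algebraMap M E).injective
  rw [map_pow, ← IsScalarTower.algebraMap_apply L M E, ← hπ', ← hc₀]
  rfl

end FieldB

section CaseTwo

variable (p : ℕ) (B C L M : Type u) [CommRing B] [IsDomain B] [IsDiscreteValuationRing B]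
  [CommRing C] [IsDomain C] [IsDiscreteValuationRing C] [Algebra B C]
  [IsLocalHom (algebraMap B C)]
  [Field L] [Field M] [Algebra B L] [IsFractionRing B L] [Algebra C M] [IsFractionRing C M]
  [Algebra L M] [Algebra B M] [IsScalarTower B L M] [IsScalarTower B C M]

theorem adjoin_eq_top_of_root (hp : p.Prime) (hdeg : Module.finrank L M = p)
    (hBC : Function.Injective (algebraMap B C)) {πB : B} (hπB : Irreducible πB)
    (c₀ : M) (hc₀ : c₀ ^ p = algebraMap B M πB) :
    ∃ c : C, c ^ p = algebraMap B C πB ∧ Algebra.adjoin B {c} = ⊤ := by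
  have hc₀int : IsIntegral C c₀ := by
    refine ⟨X ^ p - Polynomial.C (algebraMap B C πB), monic_X_pow_sub_C _ hp.ne_zero, ?_⟩
    rw [eval₂_sub, eval₂_pow, eval₂_X, eval₂_C, hc₀, ← IsScalarTower.algebraMap_apply B C M,
      sub_self]
  obtain ⟨c, hc⟩ := IsIntegrallyClosed.algebraMap_eq_of_integral hc₀int
  have hcp : c ^ p = algebraMap B C πB := by
    apply IsFractionRing.injective C M
    rw [map_pow, hc, hc₀, ← IsScalarTower.algebraMap_apply B C M]
  refine ⟨c, hcp, ?_⟩
  have hπB0 : πB ≠ 0 := hπB.ne_zero
  have hc0 : c ≠ 0 := by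
    rintro rfl
    rw [zero_pow hp.ne_zero] at hcp
    exact hπB0 ((map_eq_zero_iff _ hBC).mp hcp.symm)
  have hcnu : ¬ IsUnit c := by
    intro hu
    have h1 : IsUnit (algebraMap B C πB) := hcp ▸ hu.pow p
    exact hπB.not_isUnit (isUnit_of_map_unit (algebraMap B C) πB h1)
  have hc₀L : c₀ ∉ Set.range (algebraMap L M) := by
    rintro ⟨l, hl⟩
    have hlp : l ^ p = algebraMap B L πB := by
      apply (algebraMap L M).injective
      rw [map_pow, hl, hc₀, ← IsScalarTower.algebraMap_apply B L M]
    have hlint : IsIntegral B l := by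
      refine ⟨X ^ p - Polynomial.C πB, monic_X_pow_sub_C _ hp.ne_zero, ?_⟩
      rw [eval₂_sub, eval₂_pow, eval₂_X, eval₂_C, hlp, sub_self]
    obtain ⟨b, hb⟩ := IsIntegrallyClosed.algebraMap_eq_of_integral hlint
    have hbp : b ^ p = πB := by
      apply IsFractionRing.injective B L
      rw [map_pow, hb, hlp]
    exact not_irreducible_pow hp.ne_one (hbp ▸ hπB)
  haveI := IntermediateField.isSimpleOrder_of_finrank_prime L M (hdeg ▸ hp)
  have hgen : IntermediateField.adjoin L {c₀} = ⊤ := by
    rcases eq_bot_or_eq_top (IntermediateField.adjoin L {c₀}) with h | h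
    · exfalso
      apply hc₀L
      have : c₀ ∈ IntermediateField.adjoin L {c₀} := IntermediateField.mem_adjoin_simple_self L c₀
      rw [h, IntermediateField.mem_bot] at this
      exact this
    · exact h
  haveI : FiniteDimensional L M := Module.finite_of_finrank_pos (hdeg ▸ hp.pos)
  have hc₀intL : IsIntegral L c₀ := IsIntegral.of_finite L c₀
  have hrep : ∀ x : M, ∃ g : L[X], aeval c₀ g = x := by
    intro x
    have h1 : x ∈ (IntermediateField.adjoin L {c₀}).toSubalgebra := by
      rw [hgen]; trivial
    rw [IntermediateField.adjoin_simple_toSubalgebra_of_isAlgebraic hc₀intL.isAlgebraic,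
      Algebra.adjoin_singleton_eq_range_aeval] at h1
    exact h1
  let P : B[X] := X ^ p - Polynomial.C πB
  haveI : IsDomain (AdjoinRoot P) := Groth.Agent.S1987.isDomain_B πB hπB p hp.two_le
  haveI : IsDiscreteValuationRing (AdjoinRoot P) :=
    Groth.Agent.S1987.isDVR_B πB hπB p hp.two_le
  have hmax : maximalIdeal (AdjoinRoot P) = Ideal.span {AdjoinRoot.root P} :=
    Groth.Agent.S1987.maximalIdeal_B πB hπB p hp.two_le
  have hρ : Irreducible (AdjoinRoot.root P) :=
    (IsDiscreteValuationRing.irreducible_iff_uniformizer _).mpr hmax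
  have hev : P.eval₂ (Algebra.ofId B C) c = 0 := by
    simp only [P, eval₂_sub, eval₂_pow, eval₂_X, eval₂_C]
    rw [hcp]
    simp
  let φ : AdjoinRoot P →ₐ[B] C := AdjoinRoot.liftAlgHom P (Algebra.ofId B C) c hev
  have hφρ : φ (AdjoinRoot.root P) = c := AdjoinRoot.liftAlgHom_root P _ c hev
  have hrange : ∀ b' : AdjoinRoot P, φ b' ∈ Algebra.adjoin B {c} := by
    intro b'
    obtain ⟨g, rfl⟩ := AdjoinRoot.mk_surjective b'
    have h1 : φ (AdjoinRoot.mk P g) = aeval c g := by
      rw [AdjoinRoot.liftAlgHom_mk]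
      rfl
    rw [h1]
    exact aeval_mem_adjoin_singleton B c
  rw [eq_top_iff]
  intro x _
  by_cases hx0 : x = 0
  · rw [hx0]; exact zero_mem _
  obtain ⟨g, hg⟩ := hrep (algebraMap C M x)
  obtain ⟨s, hs, hsg⟩ := IsLocalization.integerNormalization_spec (nonZeroDivisors B) g
  have hs0 : s ≠ 0 := nonZeroDivisors.ne_zero hs
  have h1 : algebraMap B C s * x =
      aeval c (IsLocalization.integerNormalization (nonZeroDivisors B) g) := by
    apply IsFractionRing.injective C M
    have e1 : algebraMap C M (aeval c (IsLocalization.integerNormalization (nonZeroDivisors B) g)) =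
        aeval c₀ (IsLocalization.integerNormalization (nonZeroDivisors B) g) := by
      rw [← hc, aeval_algebraMap_apply]
    have e2 : aeval c₀ (IsLocalization.integerNormalization (nonZeroDivisors B) g) =
        aeval c₀ ((IsLocalization.integerNormalization (nonZeroDivisors B) g).map
          (algebraMap B L)) := (aeval_map_algebraMap L c₀ _).symm
    rw [map_mul, ← hg, ← IsScalarTower.algebraMap_apply B C M, e1, e2, hsg,
      ← IsScalarTower.algebraMap_smul L s g, map_smul, Algebra.smul_def,
      ← IsScalarTower.algebraMap_apply B L M]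
  have hb'0 : AdjoinRoot.mk P (IsLocalization.integerNormalization (nonZeroDivisors B) g) ≠ 0 := by
    intro h0
    have h2 : φ (AdjoinRoot.mk P (IsLocalization.integerNormalization (nonZeroDivisors B) g)) =
        aeval c (IsLocalization.integerNormalization (nonZeroDivisors B) g) := by
      rw [AdjoinRoot.liftAlgHom_mk]
      rfl
    rw [h0, map_zero, ← h1] at h2
    have h3 : algebraMap B C s ≠ 0 := by
      rw [Ne, map_eq_zero_iff _ hBC]; exact hs0
    exact mul_ne_zero h3 hx0 h2.symm
  have hφb' : φ (AdjoinRoot.mk P (IsLocalization.integerNormalization (nonZeroDivisors B) g)) =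
      algebraMap B C s * x := by
    rw [h1, AdjoinRoot.liftAlgHom_mk]
    rfl
  obtain ⟨k, w, hw⟩ := IsDiscreteValuationRing.eq_unit_mul_pow_irreducible hb'0 hρ
  have hs'0 : algebraMap B (AdjoinRoot P) s ≠ 0 := by
    rw [Ne, AdjoinRoot.algebraMap_eq,
      map_eq_zero_iff _ (Groth.Agent.S1987.of_inj πB p hp.two_le)]
    exact hs0
  obtain ⟨j, w', hw'⟩ := IsDiscreteValuationRing.eq_unit_mul_pow_irreducible hs'0 hρ
  have hkey : φ w' * c ^ j * x = φ w * c ^ k := by
    rw [← hφρ, ← map_pow, ← map_pow, ← map_mul, ← map_mul, ← hw, ← hw', φ.commutes, hφb']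
  have hwu : IsUnit (φ w) := w.isUnit.map φ
  have hw'u : IsUnit (φ w') := w'.isUnit.map φ
  rcases le_or_gt j k with hjk | hjk
  · have h2 : x = φ (((w'⁻¹ : (AdjoinRoot P)ˣ) : AdjoinRoot P) * w * AdjoinRoot.root P ^ (k - j)) := by
      have h3 : c ^ j * (φ w' * x) = c ^ j * (φ w * c ^ (k - j)) := by
        have : c ^ k = c ^ j * c ^ (k - j) := by rw [← pow_add]; congr 1; omega
        rw [this] at hkey
        linear_combination hkey
      have h4 := mul_left_cancel₀ (pow_ne_zero j hc0) h3
      rw [map_mul, map_mul, map_pow, hφρ, mul_assoc, ← h4, ← mul_assoc, ← map_mul,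
        Units.inv_mul, map_one, one_mul]
    rw [h2]
    exact hrange _
  · exfalso
    apply hcnu
    have h3 : c ^ k * (φ w' * c ^ (j - k) * x) = c ^ k * φ w := by
      have : c ^ j = c ^ k * c ^ (j - k) := by rw [← pow_add]; congr 1; omega
      rw [this] at hkey
      linear_combination hkey
    have h4 := mul_left_cancel₀ (pow_ne_zero k hc0) h3
    have h5 : c ∣ φ w := by
      rw [← h4]
      have : j - k = (j - k - 1) + 1 := by omega
      rw [this, pow_succ]
      exact ⟨φ w' * c ^ (j - k - 1) * x, by ring⟩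
    exact isUnit_of_dvd_unit h5 hwu

end CaseTwo

section D

variable (p : ℕ) [Fact p.Prime] (B C L M : Type u) [CommRing B] [IsDomain B]
  [IsDiscreteValuationRing B] [CharP B p]
  [CommRing C] [IsDomain C] [IsDiscreteValuationRing C] [Algebra B C]
  [Field L] [Field M] [Algebra B L] [IsFractionRing B L] [Algebra C M] [IsFractionRing C M]
  [Algebra L M] [Algebra B M] [IsScalarTower B L M] [IsScalarTower B C M]

theorem exists_root_aux (E : Type u) [Field E] [Algebra M E] [Algebra L E] [Algebra B E]
    [IsScalarTower L M E] [IsScalarTower B M E] [Module.Finite M E]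
    (hdeg : Module.finrank L M = p) (hN : CAlg.IsN2 B)
    {πB : B} (hπB : Irreducible πB)
    (u : B) (πC : C) (hπC : πC ^ p = algebraMap B C (u * πB))
    (hgen : IntermediateField.adjoin L {algebraMap C M πC} = ⊤)
    (hβ : ∀ m : ℕ, ∃ (f : B[X]) (b : B), u = (f.map (frobenius B p)).eval πB + b * πB ^ m)
    (π' : E) (hπ' : π' ^ p = algebraMap B E πB) :
    ∃ c₀ : M, c₀ ^ p = algebraMap B M πB := by
  have hp : p.Prime := Fact.out
  haveI : IsScalarTower B L E := IsScalarTower.of_algebraMap_eq (fun b => by
    rw [IsScalarTower.algebraMap_apply B M E, IsScalarTower.algebraMap_apply B L M,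
      ← IsScalarTower.algebraMap_apply L M E])
  haveI : FiniteDimensional L M := Module.finite_of_finrank_pos (hdeg ▸ hp.pos)
  have hfin : Module.Finite L E := Module.Finite.trans M E
  have hinj : Function.Injective (algebraMap B E) := by
    rw [IsScalarTower.algebraMap_eq B L E]
    exact (algebraMap L E).injective.comp (IsFractionRing.injective B L)
  have hφπ0 : algebraMap B E πB ≠ 0 := by
    rw [Ne, map_eq_zero_iff _ hinj]; exact hπB.ne_zero
  have hπ'0 : π' ≠ 0 := by
    rintro rfl
    rw [zero_pow hp.ne_zero] at hπ'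
    exact hφπ0 hπ'.symm
  have hγp : (algebraMap M E (algebraMap C M πC)) ^ p = algebraMap B E (u * πB) := by
    rw [← map_pow, ← map_pow, hπC, ← IsScalarTower.algebraMap_apply B C M,
      ← IsScalarTower.algebraMap_apply B M E]
  have hy : (algebraMap M E (algebraMap C M πC) / π') ^ p = algebraMap B E u := by
    rw [div_pow, hγp, hπ', map_mul, mul_div_assoc, div_self hφπ0, mul_one]
  have hmemS := mem_adjoin_of_expansions p B L E hfin hN
    ((mem_maximalIdeal _).mpr hπB.not_isUnit) hπB.ne_zero u hβ π' _ hπ' hy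
  have hγS : algebraMap M E (algebraMap C M πC) ∈ Algebra.adjoin B {π'} := by
    have h1 : algebraMap M E (algebraMap C M πC) =
        (algebraMap M E (algebraMap C M πC) / π') * π' := by
      rw [div_mul_cancel₀ _ hπ'0]
    rw [h1]
    exact mul_mem hmemS (Algebra.self_mem_adjoin_singleton B π')
  have hle : Algebra.adjoin B {π'} ≤
      (IntermediateField.adjoin L {π'}).toSubalgebra.restrictScalars B := by
    apply Algebra.adjoin_le
    intro x hx
    rw [Set.mem_singleton_iff] at hx
    rw [hx]
    exact IntermediateField.mem_adjoin_simple_self L π'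
  have hmem : algebraMap M E (algebraMap C M πC) ∈ IntermediateField.adjoin L {π'} := hle hγS
  have hπ'L : π' ^ p = algebraMap L E (algebraMap B L πB) := by
    rw [hπ', ← IsScalarTower.algebraMap_apply B L E]
  obtain ⟨c₀, hc₀⟩ := exists_root_of_mem_adjoin p L M E hp hdeg (algebraMap C M πC) hgen
    (algebraMap B L πB) π' hπ'L hmem
  exact ⟨c₀, by rw [hc₀, ← IsScalarTower.algebraMap_apply B L M]⟩

theorem exists_root_of_beta (hdeg : Module.finrank L M = p) (hN : CAlg.IsN2 B)
    {πB : B} (hπB : Irreducible πB)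
    (u : B) (πC : C) (hπC : πC ^ p = algebraMap B C (u * πB))
    (hgen : IntermediateField.adjoin L {algebraMap C M πC} = ⊤)
    (hβ : ∀ m : ℕ, ∃ (f : B[X]) (b : B), u = (f.map (frobenius B p)).eval πB + b * πB ^ m) :
    ∃ c₀ : M, c₀ ^ p = algebraMap B M πB := by
  have hp : p.Prime := Fact.out
  have hsp := Polynomial.SplittingField.splits
    (X ^ p - Polynomial.C (algebraMap B M πB) : M[X])
  have hdeg0 : ((X ^ p - Polynomial.C (algebraMap B M πB) : M[X]).map
      (algebraMap M (X ^ p - Polynomial.C (algebraMap B M πB) : M[X]).SplittingField)).degree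
        ≠ 0 := by
    rw [degree_map, degree_X_pow_sub_C hp.pos]
    exact_mod_cast hp.ne_zero
  obtain ⟨π', hroot⟩ := hsp.exists_eval_eq_zero hdeg0
  rw [Polynomial.map_sub, Polynomial.map_pow, map_X, map_C, eval_sub, eval_pow, eval_X, eval_C,
    sub_eq_zero, ← IsScalarTower.algebraMap_apply B M] at hroot
  exact exists_root_aux p B C L M
    (X ^ p - Polynomial.C (algebraMap B M πB) : M[X]).SplittingField hdeg hN hπB u πC hπC hgen hβ
    π' hroot

end D

end EppPI

end Groth.Agent.Lib.helper10
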