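import Mathlib
import Groth.Prelude.Def_EtRam
import Groth.Agent.Lib.Helper10.TotRam1

/-!
Epp, separable solutions from purely inseparable ones (helper10), part 1:
transport of geometric reducedness along compatible isomorphisms, and the transfer of
"weakly unramified with separable residue extension" between two local extensions that are
"close" inside a common valued field.
-/

set_option autoImplicit false
set_option linter.unusedSectionVars false
set_option linter.style.haveILetI false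

universe u

open IsLocalRing TensorProduct

namespace Groth.Agent.Lib.helper10

namespace EppSol

section GeomRed

/-- geometric reducedness is invariant under compatible isomorphisms of base and top. -/
theorem isGeometricallyReduced_of_equiv {k₂ k₃ E₂ E₃ : Type u} [Field k₂] [Field k₃]
    [CommRing E₂] [CommRing E₃] [Algebra k₂ E₂] [Algebra k₃ E₃] (σk : k₂ ≃+* k₃)
    (σE : E₂ ≃+* E₃) (hcomp : ∀ x, σE (algebraMap k₂ E₂ x) = algebraMap k₃ E₃ (σk x))
    [Algebra.IsGeometricallyReduced k₂ E₂] : Algebra.IsGeometricallyReduced k₃ E₃ := by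
  letI : Algebra k₂ k₃ := σk.toRingHom.toAlgebra
  letI : Algebra k₂ E₃ := ((algebraMap k₃ E₃).comp (algebraMap k₂ k₃)).toAlgebra
  haveI : IsScalarTower k₂ k₃ E₃ := IsScalarTower.of_algebraMap_eq (fun _ => rfl)
  let σE' : E₂ ≃ₐ[k₂] E₃ := AlgEquiv.ofRingEquiv (f := σE) (fun x => hcomp x)
  haveI : Algebra.IsGeometricallyReduced k₂ E₃ :=
    Algebra.IsGeometricallyReduced.of_injective σE'.symm.toAlgHom σE'.symm.injective
  rw [Algebra.isGeometricallyReduced_field_iff]
  haveI : IsScalarTower k₂ k₃ (AlgebraicClosure k₃) := inferInstance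
  haveI : Algebra.IsAlgebraic k₂ (AlgebraicClosure k₃) := by
    refine ⟨fun x => ?_⟩
    obtain ⟨q, hq0, hq⟩ := Algebra.IsAlgebraic.isAlgebraic (R := k₃) x
    refine ⟨q.map σk.symm.toRingHom, ?_, ?_⟩
    · rwa [Ne, Polynomial.map_eq_zero_iff σk.symm.injective]
    · rw [Polynomial.aeval_def, Polynomial.eval₂_map] at *
      have : (algebraMap k₂ (AlgebraicClosure k₃)).comp σk.symm.toRingHom =
          algebraMap k₃ (AlgebraicClosure k₃) := by
        ext y
        show algebraMap k₃ (AlgebraicClosure k₃) (σk (σk.symm y)) = _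
        rw [RingEquiv.apply_symm_apply]
      rw [this]
      exact hq
  haveI : IsReduced (AlgebraicClosure k₃ ⊗[k₂] E₃) := inferInstance
  haveI : TensorProduct.CompatibleSMul k₂ k₃ (AlgebraicClosure k₃) E₃ := by
    refine ⟨fun c m n => ?_⟩
    obtain ⟨c₂, rfl⟩ := σk.surjective c
    have h1 : σk c₂ • m = c₂ • m := by
      rw [Algebra.smul_def, Algebra.smul_def]; rfl
    have h2 : σk c₂ • n = c₂ • n := by
      rw [Algebra.smul_def, Algebra.smul_def]; rfl
    rw [h1, h2, TensorProduct.smul_tmul]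
  exact isReduced_of_injective
    (Algebra.TensorProduct.mapOfCompatibleSMul k₂ k₃ k₃ (AlgebraicClosure k₃) E₃)
    (Algebra.TensorProduct.equivOfCompatibleSMul k₂ k₃ k₃ (AlgebraicClosure k₃) E₃).injective

/-- two field embeddings with the same range differ by an isomorphism. -/
theorem exists_ringEquiv_of_range_eq {E₂ E₃ Ω' : Type u} [Field E₂] [Field E₃] [Field Ω']
    (ρ₂ : E₂ →+* Ω') (ρ₃ : E₃ →+* Ω') (h : Set.range ρ₂ = Set.range ρ₃) :
    ∃ σ : E₂ ≃+* E₃, ∀ x, ρ₃ (σ x) = ρ₂ x := by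
  have h' : ρ₂.range = ρ₃.range := SetLike.ext' (by rw [RingHom.coe_range, RingHom.coe_range, h])
  let e₂ : E₂ ≃+* ρ₂.range := RingEquiv.ofBijective ρ₂.rangeRestrict
    ⟨fun x y hxy => ρ₂.injective (congrArg Subtype.val hxy), ρ₂.rangeRestrict_surjective⟩
  let e₃ : E₃ ≃+* ρ₃.range := RingEquiv.ofBijective ρ₃.rangeRestrict
    ⟨fun x y hxy => ρ₃.injective (congrArg Subtype.val hxy), ρ₃.rangeRestrict_surjective⟩
  refine ⟨e₂.trans ((RingEquiv.subringCongr h').trans e₃.symm), fun x => ?_⟩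
  have h1 : ∀ y : ρ₃.range, ρ₃ (e₃.symm y) = (y : Ω') := by
    intro y
    have : e₃ (e₃.symm y) = y := e₃.apply_symm_apply y
    have h2 : ((e₃ (e₃.symm y) : ρ₃.range) : Ω') = ρ₃ (e₃.symm y) := rfl
    rw [← h2, this]
  show ρ₃ (e₃.symm (RingEquiv.subringCongr h' (e₂ x))) = ρ₂ x
  rw [h1]
  rfl

end GeomRed

section WU

variable {K F : Type u} [Field K] [Field F]

theorem comap_val_le_iff {F' : Type u} [Field F'] (W : ValuationSubring F') (f : F →+* F')
    (x y : F) : (W.comap f).valuation x ≤ (W.comap f).valuation y ↔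
      W.valuation (f x) ≤ W.valuation (f y) := by
  by_cases hy : y = 0
  · subst hy
    simp only [map_zero, le_zero_iff, map_eq_zero]
  · have h1 : (W.comap f).valuation y ≠ 0 := (Valuation.ne_zero_iff _).mpr hy
    have h2 : W.valuation (f y) ≠ 0 := (Valuation.ne_zero_iff _).mpr ((map_ne_zero f).mpr hy)
    rw [← div_le_one₀ (zero_lt_iff.mpr h1), ← div_le_one₀ (zero_lt_iff.mpr h2), ← map_div₀,
      ← map_div₀, ← map_div₀, ValuationSubring.valuation_le_one_iff,
      ValuationSubring.valuation_le_one_iff, ValuationSubring.mem_comap]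

/-- weakly unramified in terms of valuations -/
theorem wu_iff (W : ValuationSubring F) (f : K →+* F) :
    (letI : Algebra (W.comap f) W := (EtRam.inclOfComap W f).toAlgebra
     EtRam.IsWeaklyUnramified (W.comap f) W) ↔
    ∀ y : F, W.valuation y < 1 → ∃ x : K, W.valuation (f x) < 1 ∧
      W.valuation y ≤ W.valuation (f x) := by
  letI : Algebra (W.comap f) W := (EtRam.inclOfComap W f).toAlgebra
  show EtRam.IsWeaklyUnramified (W.comap f) W ↔ _
  unfold EtRam.IsWeaklyUnramified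
  constructor
  · intro h y hy
    by_cases hy0 : y = 0
    · exact ⟨0, by rw [map_zero, map_zero]; exact zero_lt_one, by rw [hy0, map_zero]; exact zero_le⟩
    have hyW : y ∈ W := (ValuationSubring.valuation_le_one_iff W y).mp hy.le
    have hym : (⟨y, hyW⟩ : W) ∈ maximalIdeal W := by
      rw [ValuationSubring.valuation_lt_one_iff]; exact hy
    rw [← h] at hym
    have key : ∀ w ∈ Ideal.map (algebraMap (W.comap f) W) (maximalIdeal (W.comap f)),
        ∃ x : K, W.valuation (f x) < 1 ∧ W.valuation (w : F) ≤ W.valuation (f x) := by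
      intro w hw
      unfold Ideal.map at hw
      induction hw using Submodule.span_induction with
      | mem w hw =>
        obtain ⟨x, hx, rfl⟩ := hw
        refine ⟨x, ?_, le_rfl⟩
        rw [SetLike.mem_coe, ValuationSubring.valuation_lt_one_iff] at hx
        exact (TotRam.comap_val_lt_one_iff W f x).mp hx
      | zero =>
        exact ⟨0, by rw [map_zero, map_zero]; exact zero_lt_one, by simp⟩
      | add a b _ _ iha ihb =>
        obtain ⟨x, hx1, hx2⟩ := iha
        obtain ⟨x', hx1', hx2'⟩ := ihb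
        rcases le_total (W.valuation (f x)) (W.valuation (f x')) with h | h
        · exact ⟨x', hx1', (W.valuation.map_add_le (hx2.trans h) hx2')⟩
        · exact ⟨x, hx1, W.valuation.map_add_le hx2 (hx2'.trans h)⟩
      | smul c a _ iha =>
        obtain ⟨x, hx1, hx2⟩ := iha
        refine ⟨x, hx1, ?_⟩
        show W.valuation ((c : F) * (a : F)) ≤ _
        rw [map_mul]
        calc W.valuation (c : F) * W.valuation (a : F) ≤ 1 * W.valuation (a : F) :=
              mul_le_mul' ((ValuationSubring.valuation_le_one_iff W _).mpr c.2) le_rfl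
          _ = W.valuation (a : F) := one_mul _
          _ ≤ _ := hx2
    exact key _ hym
  · intro h
    apply le_antisymm
    · exact IsLocalRing.map_maximalIdeal_le (EtRam.inclOfComap W f)
    · intro w hw
      rw [ValuationSubring.valuation_lt_one_iff] at hw
      obtain ⟨x, hx1, hx2⟩ := h _ hw
      by_cases hfx : f x = 0
      · rw [hfx, map_zero, le_zero_iff, map_eq_zero] at hx2
        have : w = 0 := Subtype.ext hx2
        rw [this]; exact zero_mem _
      have hxmem : x ∈ W.comap f := by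
        rw [ValuationSubring.mem_comap, ← ValuationSubring.valuation_le_one_iff]
        exact hx1.le
      have hxmax : (⟨x, hxmem⟩ : W.comap f) ∈ maximalIdeal (W.comap f) := by
        rw [ValuationSubring.valuation_lt_one_iff]
        show (W.comap f).valuation x < 1
        rw [TotRam.comap_val_lt_one_iff]; exact hx1
      have hdiv : (w : F) / f x ∈ W := by
        rw [← ValuationSubring.valuation_le_one_iff, map_div₀]
        exact div_le_one_of_le₀ hx2 zero_le
      have hw' : w = (⟨(w : F) / f x, hdiv⟩ : W) * algebraMap (W.comap f) W ⟨x, hxmem⟩ := by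
        apply Subtype.ext
        show (w : F) = (w : F) / f x * f x
        rw [div_mul_cancel₀ _ hfx]
      rw [hw']
      exact Ideal.mul_mem_left _ _ (Ideal.mem_map_of_mem _ hxmax)

end WU

section Transfer

variable {Ω : Type u} [Field Ω] (𝒪 : ValuationSubring Ω)

/-- closeness of two elements of a valued field: equal up to a relatively small error. -/
def Close (x y : Ω) : Prop := (x = 0 ∧ y = 0) ∨ 𝒪.valuation (x - y) < 𝒪.valuation x

theorem Close.val_eq {x y : Ω} (h : Close 𝒪 x y) : 𝒪.valuation x = 𝒪.valuation y := by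
  rcases h with ⟨rfl, rfl⟩ | h
  · rfl
  · have h1 : y = x - (x - y) := by ring
    rw [h1]
    exact (Valuation.map_sub_eq_of_lt_left _ h).symm

theorem Close.sub_lt_one {x y : Ω} (h : Close 𝒪 x y) (hx : 𝒪.valuation x = 1) :
    𝒪.valuation (x - y) < 1 := by
  rcases h with ⟨rfl, rfl⟩ | h
  · rw [map_zero] at hx; exact absurd hx zero_ne_one
  · rwa [hx] at h

theorem range_le_aux {R₂ R₃ : Type u} [CommRing R₂] [IsLocalRing R₂] [CommRing R₃]
    [IsLocalRing R₃] (g₂ : R₂ →+* 𝒪) (g₃ : R₃ →+* 𝒪) [IsLocalHom g₂] [IsLocalHom g₃]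
    (h23 : ∀ x₂ : R₂, IsUnit x₂ → ∃ x₃ : R₃, 𝒪.valuation ((g₂ x₂ : Ω) - (g₃ x₃ : Ω)) < 1) :
    Set.range (ResidueField.map g₂) ⊆ Set.range (ResidueField.map g₃) := by
  rintro _ ⟨y, rfl⟩
  obtain ⟨x₂, rfl⟩ := residue_surjective y
  by_cases hu : IsUnit x₂
  · obtain ⟨x₃, hx₃⟩ := h23 x₂ hu
    refine ⟨residue R₃ x₃, ?_⟩
    rw [ResidueField.map_residue, ResidueField.map_residue, eq_comm, ← sub_eq_zero, ← map_sub,
      residue_eq_zero_iff, ValuationSubring.valuation_lt_one_iff]
    exact hx₃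
  · have h0 : residue R₂ x₂ = 0 := by
      rw [residue_eq_zero_iff]; exact (mem_maximalIdeal _).mpr hu
    exact ⟨0, by rw [h0, map_zero, map_zero]⟩

theorem range_eq_aux {R₂ R₃ : Type u} [CommRing R₂] [IsLocalRing R₂] [CommRing R₃]
    [IsLocalRing R₃] (g₂ : R₂ →+* 𝒪) (g₃ : R₃ →+* 𝒪) [IsLocalHom g₂] [IsLocalHom g₃]
    (h23 : ∀ x₂ : R₂, IsUnit x₂ → ∃ x₃ : R₃, 𝒪.valuation ((g₂ x₂ : Ω) - (g₃ x₃ : Ω)) < 1)
    (h32 : ∀ x₃ : R₃, IsUnit x₃ → ∃ x₂ : R₂, 𝒪.valuation ((g₂ x₂ : Ω) - (g₃ x₃ : Ω)) < 1) :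
    Set.range (ResidueField.map g₂) = Set.range (ResidueField.map g₃) := by
  apply Set.Subset.antisymm
  · exact range_le_aux 𝒪 g₂ g₃ h23
  · apply range_le_aux 𝒪 g₃ g₂
    intro x₃ hu
    obtain ⟨x₂, hx₂⟩ := h32 x₃ hu
    exact ⟨x₂, by rwa [Valuation.map_sub_swap]⟩

theorem transfer {K₂ F₂ K₃ F₃ : Type u} [Field K₂] [Field F₂] [Field K₃] [Field F₃]
    (f₂ : K₂ →+* F₂) (j₂ : F₂ →+* Ω) (f₃ : K₃ →+* F₃) (j₃ : F₃ →+* Ω)
    (W₂ : ValuationSubring F₂) (hW₂ : W₂ = 𝒪.comap j₂)
    (W₃ : ValuationSubring F₃) (hW₃ : W₃ = 𝒪.comap j₃)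
    (hF23 : ∀ x₂ : F₂, ∃ x₃ : F₃, Close 𝒪 (j₂ x₂) (j₃ x₃))
    (hF32 : ∀ x₃ : F₃, ∃ x₂ : F₂, Close 𝒪 (j₂ x₂) (j₃ x₃))
    (hK23 : ∀ k₂ : K₂, ∃ k₃ : K₃, Close 𝒪 (j₂ (f₂ k₂)) (j₃ (f₃ k₃)))
    (hK32 : ∀ k₃ : K₃, ∃ k₂ : K₂, Close 𝒪 (j₂ (f₂ k₂)) (j₃ (f₃ k₃)))
    (h₂ : letI : Algebra (W₂.comap f₂) W₂ := (EtRam.inclOfComap W₂ f₂).toAlgebra
      EtRam.IsWeaklyUnramified (W₂.comap f₂) W₂ ∧
      @Algebra.IsGeometricallyReduced (ResidueField (W₂.comap f₂)) (ResidueField W₂) _ _
        (ResidueField.map (EtRam.inclOfComap W₂ f₂)).toAlgebra) :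
    letI : Algebra (W₃.comap f₃) W₃ := (EtRam.inclOfComap W₃ f₃).toAlgebra
    EtRam.IsWeaklyUnramified (W₃.comap f₃) W₃ ∧
      @Algebra.IsGeometricallyReduced (ResidueField (W₃.comap f₃)) (ResidueField W₃) _ _
        (ResidueField.map (EtRam.inclOfComap W₃ f₃)).toAlgebra := by
  subst hW₂ hW₃
  obtain ⟨hwu₂, hgr₂⟩ := h₂
  have hwu₂' := (wu_iff (𝒪.comap j₂) f₂).mp hwu₂
  refine ⟨(wu_iff (𝒪.comap j₃) f₃).mpr ?_, ?_⟩
  · intro y₃ hy₃
    rw [TotRam.comap_val_lt_one_iff] at hy₃
    obtain ⟨y₂, hc⟩ := hF32 y₃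
    have hv := hc.val_eq
    have hy₂ : (𝒪.comap j₂).valuation y₂ < 1 := by
      rw [TotRam.comap_val_lt_one_iff, hv]; exact hy₃
    obtain ⟨x₂, hx₂1, hx₂2⟩ := hwu₂' y₂ hy₂
    obtain ⟨x₃, hc'⟩ := hK23 x₂
    have hv' := hc'.val_eq
    rw [TotRam.comap_val_lt_one_iff] at hx₂1
    rw [comap_val_le_iff] at hx₂2
    refine ⟨x₃, ?_, ?_⟩
    · rw [TotRam.comap_val_lt_one_iff, ← hv']; exact hx₂1
    · rw [comap_val_le_iff, ← hv', ← hv]; exact hx₂2
  · -- residue fields
    have hunitW : ∀ (j : F₂ →+* Ω) (x : 𝒪.comap j), IsUnit x → 𝒪.valuation (j x) = 1 := by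
      intro j x hx
      have := (ValuationSubring.valuation_eq_one_iff (𝒪.comap j) x).mp hx
      rwa [TotRam.comap_val_eq_one_iff] at this
    have hunitW' : ∀ (j : F₃ →+* Ω) (x : 𝒪.comap j), IsUnit x → 𝒪.valuation (j x) = 1 := by
      intro j x hx
      have := (ValuationSubring.valuation_eq_one_iff (𝒪.comap j) x).mp hx
      rwa [TotRam.comap_val_eq_one_iff] at this
    have hmem : ∀ {x y : Ω}, 𝒪.valuation x = 1 → 𝒪.valuation (x - y) < 1 → y ∈ 𝒪 := by
      intro x y hx hxy
      rw [← ValuationSubring.valuation_le_one_iff]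
      have h1 : y = x - (x - y) := by ring
      rw [h1]
      exact (Valuation.map_sub _ _ _).trans (max_le hx.le hxy.le)
    have hRW : Set.range (ResidueField.map (EtRam.inclOfComap 𝒪 j₂)) =
        Set.range (ResidueField.map (EtRam.inclOfComap 𝒪 j₃)) := by
      apply range_eq_aux
      · intro x₂ hu
        have h1 := hunitW j₂ x₂ hu
        obtain ⟨x₃, hc⟩ := hF23 x₂
        have h2 := hc.sub_lt_one 𝒪 h1
        exact ⟨⟨x₃, hmem h1 h2⟩, h2⟩
      · intro x₃ hu
        have h1 := hunitW' j₃ x₃ hu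
        obtain ⟨x₂, hc⟩ := hF32 x₃
        have h1' : 𝒪.valuation (j₂ x₂) = 1 := by rw [hc.val_eq]; exact h1
        have h2 := hc.sub_lt_one 𝒪 h1'
        refine ⟨⟨x₂, ?_⟩, h2⟩
        rw [ValuationSubring.mem_comap, ← ValuationSubring.valuation_le_one_iff]; exact h1'.le
    have hRV : Set.range (ResidueField.map
          ((EtRam.inclOfComap 𝒪 j₂).comp (EtRam.inclOfComap (𝒪.comap j₂) f₂))) =
        Set.range (ResidueField.map
          ((EtRam.inclOfComap 𝒪 j₃).comp (EtRam.inclOfComap (𝒪.comap j₃) f₃))) := by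
      apply range_eq_aux
      · intro x₂ hu
        have h0 := (ValuationSubring.valuation_eq_one_iff ((𝒪.comap j₂).comap f₂) x₂).mp hu
        rw [TotRam.comap_val_eq_one_iff, TotRam.comap_val_eq_one_iff] at h0
        obtain ⟨x₃, hc⟩ := hK23 x₂
        have h2 := hc.sub_lt_one 𝒪 h0
        exact ⟨⟨x₃, hmem h0 h2⟩, h2⟩
      · intro x₃ hu
        have h0 := (ValuationSubring.valuation_eq_one_iff ((𝒪.comap j₃).comap f₃) x₃).mp hu
        rw [TotRam.comap_val_eq_one_iff, TotRam.comap_val_eq_one_iff] at h0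
        obtain ⟨x₂, hc⟩ := hK32 x₃
        have h1' : 𝒪.valuation (j₂ (f₂ x₂)) = 1 := by rw [hc.val_eq]; exact h0
        have h2 := hc.sub_lt_one 𝒪 h1'
        refine ⟨⟨x₂, ?_⟩, h2⟩
        rw [ValuationSubring.mem_comap, ValuationSubring.mem_comap,
          ← ValuationSubring.valuation_le_one_iff]
        exact h1'.le
    obtain ⟨σW, hσW⟩ := exists_ringEquiv_of_range_eq _ _ hRW
    obtain ⟨σV, hσV⟩ := exists_ringEquiv_of_range_eq _ _ hRV
    letI alg₂ : Algebra (ResidueField ((𝒪.comap j₂).comap f₂)) (ResidueField (𝒪.comap j₂)) :=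
      (ResidueField.map (EtRam.inclOfComap (𝒪.comap j₂) f₂)).toAlgebra
    letI alg₃ : Algebra (ResidueField ((𝒪.comap j₃).comap f₃)) (ResidueField (𝒪.comap j₃)) :=
      (ResidueField.map (EtRam.inclOfComap (𝒪.comap j₃) f₃)).toAlgebra
    have hcomp : ∀ x, σW (algebraMap (ResidueField ((𝒪.comap j₂).comap f₂))
        (ResidueField (𝒪.comap j₂)) x) =
        algebraMap (ResidueField ((𝒪.comap j₃).comap f₃)) (ResidueField (𝒪.comap j₃))
          (σV x) := by
      intro x
      apply (ResidueField.map (EtRam.inclOfComap 𝒪 j₃)).injective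
      rw [hσW]
      have e2 : ResidueField.map (EtRam.inclOfComap 𝒪 j₂)
          (algebraMap (ResidueField ((𝒪.comap j₂).comap f₂)) (ResidueField (𝒪.comap j₂)) x) =
          ResidueField.map ((EtRam.inclOfComap 𝒪 j₂).comp
            (EtRam.inclOfComap (𝒪.comap j₂) f₂)) x := by
        rw [ResidueField.map_comp]; rfl
      have e3 : ResidueField.map (EtRam.inclOfComap 𝒪 j₃)
          (algebraMap (ResidueField ((𝒪.comap j₃).comap f₃)) (ResidueField (𝒪.comap j₃))
            (σV x)) =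
          ResidueField.map ((EtRam.inclOfComap 𝒪 j₃).comp
            (EtRam.inclOfComap (𝒪.comap j₃) f₃)) (σV x) := by
        rw [ResidueField.map_comp]; rfl
      rw [e2, e3, hσV]
    haveI := hgr₂
    exact isGeometricallyReduced_of_equiv σV σW hcomp

end Transfer

end EppSol

end Groth.Agent.Lib.helper10
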