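import Mathlib
import Groth.Prelude.Def_EtRam
import Groth.Agent.Lib.Helper10.EppSol1

/-!
Epp, separable solutions from purely inseparable ones (helper10), part 2:
valuation-orthogonality of the powers of a `p`-th root of a "`p`-th-power-minimal" element, and
closeness of `h(θ)` and `h(z)` when `θ ^ p = a`, `z ^ p = a + e` with `e` small.
-/

set_option autoImplicit false
set_option linter.unusedSectionVars false
set_option linter.style.haveILetI false

universe u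

open IsLocalRing Polynomial

namespace Groth.Agent.Lib.helper10

namespace EppSol

section Orth

variable {F₁ Ω : Type u} [Field F₁] [Field Ω] [Algebra F₁ Ω] (p : ℕ) [Fact p.Prime]
  [CharP F₁ p] [CharP Ω p] (𝒪 : ValuationSubring Ω)

/-- orthogonality of `1, η, …, η^(p-1)` when `η ^ p = u` is a unit whose residue class is not a
`p`-th power. -/
theorem orth_B (η : Ω) (u : F₁) (hη : η ^ p = algebraMap F₁ Ω u)
    (huW : algebraMap F₁ Ω u ∈ 𝒪)
    (hu : ∀ c : F₁, algebraMap F₁ Ω c ∈ 𝒪 →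
      ¬ 𝒪.valuation (algebraMap F₁ Ω (u - c ^ p)) < 1)
    (g : F₁[X]) (hgdeg : g.natDegree < p) (i : ℕ) :
    𝒪.valuation (algebraMap F₁ Ω (g.coeff i)) ≤ 𝒪.valuation (aeval η g) := by
  classical
  have hp : p.Prime := Fact.out
  let W₁ : ValuationSubring F₁ := 𝒪.comap (algebraMap F₁ Ω)
  letI : Algebra W₁ 𝒪 := (EtRam.inclOfComap 𝒪 (algebraMap F₁ Ω)).toAlgebra
  haveI : IsLocalHom (algebraMap W₁ 𝒪) := EtRam.isLocalHom_inclOfComap 𝒪 (algebraMap F₁ Ω)
  have hηW : η ∈ 𝒪 := by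
    rw [← ValuationSubring.valuation_le_one_iff]
    have h1 : 𝒪.valuation η ^ p ≤ 1 := by
      rw [← map_pow, hη]; exact (ValuationSubring.valuation_le_one_iff _ _).mpr huW
    exact (pow_le_one_iff_of_nonneg zero_le hp.ne_zero).mp h1
  let ηW : 𝒪 := ⟨η, hηW⟩
  let uW₁ : W₁ := ⟨u, huW⟩
  have hηu : ηW ^ p = algebraMap W₁ 𝒪 uW₁ := Subtype.ext hη
  set ηbar := residue 𝒪 ηW with hηbar
  set ubar := residue W₁ uW₁ with hubar
  have hηubar : ηbar ^ p = algebraMap (ResidueField W₁) (ResidueField 𝒪) ubar := by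
    rw [hηbar, hubar, ← map_pow, hηu, ResidueField.algebraMap_residue]
  have hirr : Irreducible (X ^ p - C ubar : (ResidueField W₁)[X]) := by
    apply X_pow_sub_C_irreducible_of_prime hp
    intro b hb
    obtain ⟨r, rfl⟩ := residue_surjective b
    have h1 : uW₁ - r ^ p ∈ maximalIdeal W₁ := by
      rw [← residue_eq_zero_iff, map_sub, map_pow, hb, sub_self]
    rw [ValuationSubring.valuation_lt_one_iff] at h1
    have h2 : 𝒪.valuation (algebraMap F₁ Ω ((uW₁ - r ^ p : W₁) : F₁)) < 1 := by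
      rwa [← TotRam.comap_val_lt_one_iff]
    exact hu r.1 r.2 h2
  have hmonic : (X ^ p - C ubar : (ResidueField W₁)[X]).Monic := monic_X_pow_sub_C _ hp.ne_zero
  have hminpoly : minpoly (ResidueField W₁) ηbar = X ^ p - C ubar := by
    symm
    apply minpoly.eq_of_irreducible_of_monic hirr _ hmonic
    rw [map_sub, map_pow, aeval_X, aeval_C, hηubar, sub_self]
  have hdegmin : (minpoly (ResidueField W₁) ηbar).natDegree = p := by
    rw [hminpoly, natDegree_X_pow_sub_C]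
  have hli := linearIndependent_pow (K := ResidueField W₁) ηbar
  by_cases hg0 : g = 0
  · rw [hg0, coeff_zero, map_zero, map_zero, map_zero]
    exact zero_le
  obtain ⟨i₀, hi₀, hmax⟩ := Finset.exists_max_image g.support
    (fun i => 𝒪.valuation (algebraMap F₁ Ω (g.coeff i))) (nonempty_support_iff.mpr hg0)
  set c := g.coeff i₀ with hc
  have hc0 : c ≠ 0 := mem_support_iff.mp hi₀
  have hιc0 : algebraMap F₁ Ω c ≠ 0 := by rwa [Ne, map_eq_zero]
  have hvc0 : 0 < 𝒪.valuation (algebraMap F₁ Ω c) := zero_lt_iff.mpr (by rwa [Ne, map_eq_zero])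
  have hi₀p : i₀ < p := lt_of_le_of_lt (le_natDegree_of_mem_supp i₀ hi₀) hgdeg
  have hdmem : ∀ i : ℕ, g.coeff i / c ∈ W₁ := by
    intro i
    show algebraMap F₁ Ω (g.coeff i / c) ∈ 𝒪
    rw [← ValuationSubring.valuation_le_one_iff, map_div₀, map_div₀]
    by_cases hi : i ∈ g.support
    · exact (div_le_one₀ hvc0).mpr (hmax i hi)
    · rw [notMem_support_iff.mp hi, map_zero, map_zero, zero_div]
      exact zero_le_one
  let d : ℕ → W₁ := fun i => ⟨g.coeff i / c, hdmem i⟩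
  let w'W : 𝒪 := ∑ i ∈ Finset.range p, algebraMap W₁ 𝒪 (d i) * ηW ^ i
  have hw' : aeval η g = algebraMap F₁ Ω c * (w'W : Ω) := by
    rw [aeval_eq_sum_range' hgdeg]
    have : ((w'W : 𝒪) : Ω) = ∑ i ∈ Finset.range p, algebraMap F₁ Ω (g.coeff i / c) * η ^ i := by
      show ((∑ i ∈ Finset.range p, algebraMap W₁ 𝒪 (d i) * ηW ^ i : 𝒪) : Ω) = _
      rw [← 𝒪.subtype_apply, map_sum]
      rfl
    rw [this, Finset.mul_sum]
    apply Finset.sum_congr rfl
    intro i _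
    rw [Algebra.smul_def, map_div₀, ← mul_assoc, mul_div_cancel₀ _ hιc0]
  have hunit : IsUnit w'W := by
    by_contra hnu
    have h0 : residue 𝒪 w'W = 0 := by
      rw [residue_eq_zero_iff]; exact (mem_maximalIdeal _).mpr hnu
    have h1 : residue 𝒪 w'W = ∑ i ∈ Finset.range p, residue W₁ (d i) • ηbar ^ i := by
      show residue 𝒪 (∑ i ∈ Finset.range p, algebraMap W₁ 𝒪 (d i) * ηW ^ i) = _
      rw [map_sum]
      apply Finset.sum_congr rfl
      intro i _
      rw [map_mul, map_pow, Algebra.smul_def, ResidueField.algebraMap_residue]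
    rw [h1, ← hdegmin, Finset.sum_range] at h0
    have h2 := Fintype.linearIndependent_iff.mp hli
      (fun i => residue W₁ (d i)) h0 ⟨i₀, by rw [hdegmin]; exact hi₀p⟩
    have h3 : d i₀ = 1 := Subtype.ext (div_self hc0)
    simp only [h3, map_one] at h2
    exact one_ne_zero h2
  rw [hw', map_mul, (ValuationSubring.valuation_eq_one_iff 𝒪 w'W).mp hunit, mul_one]
  by_cases hi : i ∈ g.support
  · exact hmax i hi
  · rw [notMem_support_iff.mp hi, map_zero, map_zero]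
    exact zero_le

/-- orthogonality of `1, ϑ, …, ϑ^(p-1)` when `ϑ ^ p = r` and `r` cannot be improved by
subtracting a `p`-th power. -/
theorem orth (ϑ : Ω) (r : F₁) (hϑ : ϑ ^ p = algebraMap F₁ Ω r) (hr0 : r ≠ 0)
    (hmin : ∀ c : F₁, 𝒪.valuation (algebraMap F₁ Ω r) ≤
      𝒪.valuation (algebraMap F₁ Ω (r - c ^ p)))
    (h : F₁[X]) (hdeg : h.natDegree < p) (j : ℕ) :
    𝒪.valuation (algebraMap F₁ Ω (h.coeff j)) * 𝒪.valuation ϑ ^ j ≤
      𝒪.valuation (aeval ϑ h) := by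
  classical
  have hp : p.Prime := Fact.out
  have hιr0 : algebraMap F₁ Ω r ≠ 0 := by rwa [Ne, map_eq_zero]
  have hvr0 : 𝒪.valuation (algebraMap F₁ Ω r) ≠ 0 := (Valuation.ne_zero_iff _).mpr hιr0
  have hϑ0 : ϑ ≠ 0 := by
    rintro rfl
    rw [zero_pow hp.ne_zero] at hϑ
    exact hιr0 hϑ.symm
  have hvϑ0 : 𝒪.valuation ϑ ≠ 0 := (Valuation.ne_zero_iff _).mpr hϑ0
  have hvϑp : 𝒪.valuation ϑ ^ p = 𝒪.valuation (algebraMap F₁ Ω r) := by
    rw [← map_pow, hϑ]
  by_cases hB : ∃ t : F₁, 𝒪.valuation (algebraMap F₁ Ω t) ^ p = 𝒪.valuation (algebraMap F₁ Ω r)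
  · obtain ⟨t, ht⟩ := hB
    have ht0 : t ≠ 0 := by
      rintro rfl
      rw [map_zero, map_zero, zero_pow hp.ne_zero] at ht
      exact hvr0 ht.symm
    have hιt0 : algebraMap F₁ Ω t ≠ 0 := by rwa [Ne, map_eq_zero]
    have hvt0 : 𝒪.valuation (algebraMap F₁ Ω t) ≠ 0 := (Valuation.ne_zero_iff _).mpr hιt0
    have hvt : 𝒪.valuation ϑ = 𝒪.valuation (algebraMap F₁ Ω t) := by
      rw [← pow_left_inj₀ zero_le zero_le hp.ne_zero, hvϑp, ht]
    have hη : (ϑ / algebraMap F₁ Ω t) ^ p = algebraMap F₁ Ω (r / t ^ p) := by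
      rw [div_pow, hϑ, map_div₀, map_pow]
    have hvu : 𝒪.valuation (algebraMap F₁ Ω (r / t ^ p)) = 1 := by
      rw [map_div₀, map_div₀, map_pow, map_pow, ht, div_self hvr0]
    have huW : algebraMap F₁ Ω (r / t ^ p) ∈ 𝒪 := by
      rw [← ValuationSubring.valuation_le_one_iff, hvu]
    have hu : ∀ c : F₁, algebraMap F₁ Ω c ∈ 𝒪 →
        ¬ 𝒪.valuation (algebraMap F₁ Ω (r / t ^ p - c ^ p)) < 1 := by
      intro c _ hlt
      have h1 : r - (t * c) ^ p = t ^ p * (r / t ^ p - c ^ p) := by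
        rw [mul_pow]
        field_simp
      have h2 := hmin (t * c)
      rw [h1, map_mul, map_mul, map_pow, map_pow, ht] at h2
      have h3 : 𝒪.valuation (algebraMap F₁ Ω r) *
          𝒪.valuation (algebraMap F₁ Ω (r / t ^ p - c ^ p)) <
          𝒪.valuation (algebraMap F₁ Ω r) * 1 :=
        mul_lt_mul_of_pos_left hlt (zero_lt_iff.mpr hvr0)
      rw [mul_one] at h3
      exact absurd h2 (not_le.mpr h3)
    have hgdeg : (h.comp (C t * X)).natDegree < p := by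
      refine lt_of_le_of_lt natDegree_comp_le ?_
      have : (C t * X : F₁[X]).natDegree ≤ 1 := by
        rw [natDegree_C_mul_X t ht0]
      calc h.natDegree * (C t * X : F₁[X]).natDegree ≤ h.natDegree * 1 :=
            Nat.mul_le_mul_left _ this
        _ = h.natDegree := mul_one _
        _ < p := hdeg
    have key := orth_B p 𝒪 (ϑ / algebraMap F₁ Ω t) (r / t ^ p) hη huW hu
      (h.comp (C t * X)) hgdeg j
    have haev : aeval (ϑ / algebraMap F₁ Ω t) (h.comp (C t * X)) = aeval ϑ h := by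
      rw [aeval_comp, map_mul, aeval_C, aeval_X, mul_div_cancel₀ _ hιt0]
    rw [haev, comp_C_mul_X_coeff, map_mul, map_mul, map_pow, map_pow, ← hvt] at key
    exact key
  · -- distinct valuations
    by_cases hh0 : h = 0
    · rw [hh0, coeff_zero, map_zero, map_zero, map_zero, zero_mul]
      exact zero_le
    have hdist : ∀ i₁ i₂ : ℕ, i₁ ∈ h.support → i₂ ∈ h.support → i₁ < i₂ →
        𝒪.valuation (algebraMap F₁ Ω (h.coeff i₁)) * 𝒪.valuation ϑ ^ i₁ ≠
        𝒪.valuation (algebraMap F₁ Ω (h.coeff i₂)) * 𝒪.valuation ϑ ^ i₂ := by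
      intro i₁ i₂ h₁ h₂ hlt heq
      apply hB
      have hi₂p : i₂ < p := lt_of_le_of_lt (le_natDegree_of_mem_supp i₂ h₂) hdeg
      have hc₁ : h.coeff i₁ ≠ 0 := mem_support_iff.mp h₁
      have hc₂ : h.coeff i₂ ≠ 0 := mem_support_iff.mp h₂
      have hv₂ : 𝒪.valuation (algebraMap F₁ Ω (h.coeff i₂)) ≠ 0 :=
        (Valuation.ne_zero_iff _).mpr (by rwa [Ne, map_eq_zero])
      set m := i₂ - i₁ with hm
      have hm0 : 0 < m := by omega
      have hmp : m < p := by omega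
      have hcop : Nat.Coprime m p :=
        Nat.Coprime.symm ((Nat.Prime.coprime_iff_not_dvd hp).mpr
          (Nat.not_dvd_of_pos_of_lt hm0 hmp))
      obtain ⟨α, β, hαβ⟩ := Nat.isCoprime_iff_coprime.mpr hcop
      have hquot : 𝒪.valuation (algebraMap F₁ Ω (h.coeff i₁ / h.coeff i₂)) =
          𝒪.valuation ϑ ^ m := by
        rw [map_div₀, map_div₀, div_eq_iff hv₂]
        have hpow : 𝒪.valuation ϑ ^ i₂ = 𝒪.valuation ϑ ^ m * 𝒪.valuation ϑ ^ i₁ := by
          rw [← pow_add]; congr 1; omega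
        rw [hpow, ← mul_assoc] at heq
        have hpos : 𝒪.valuation ϑ ^ i₁ ≠ 0 := pow_ne_zero _ hvϑ0
        have := mul_right_cancel₀ hpos heq
        rw [this, mul_comm]
      refine ⟨(h.coeff i₁ / h.coeff i₂) ^ α * r ^ β, ?_⟩
      rw [map_mul, map_mul, map_zpow₀, map_zpow₀, map_zpow₀, map_zpow₀, hquot, ← hvϑp,
        ← zpow_natCast (𝒪.valuation ϑ) m, ← zpow_natCast (𝒪.valuation ϑ) p, ← zpow_mul, ← zpow_mul,
        ← zpow_add₀ hvϑ0, ← zpow_natCast, ← zpow_mul]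
      congr 1
      linear_combination (p : ℤ) * hαβ
    obtain ⟨i₀, hi₀, hmax⟩ := Finset.exists_max_image h.support
      (fun i => 𝒪.valuation (algebraMap F₁ Ω (h.coeff i)) * 𝒪.valuation ϑ ^ i)
      (nonempty_support_iff.mpr hh0)
    have hsum : aeval ϑ h = ∑ i ∈ h.support, algebraMap F₁ Ω (h.coeff i) * ϑ ^ i := by
      rw [aeval_def, eval₂_eq_sum, Polynomial.sum_def]
    have hval : 𝒪.valuation (aeval ϑ h) =
        𝒪.valuation (algebraMap F₁ Ω (h.coeff i₀)) * 𝒪.valuation ϑ ^ i₀ := by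
      rw [hsum, Valuation.map_sum_eq_of_lt _ hi₀, map_mul, map_pow]
      intro i hi
      rw [Finset.mem_sdiff, Finset.mem_singleton] at hi
      rw [map_mul, map_pow, map_mul, map_pow]
      refine lt_of_le_of_ne (hmax i hi.1) ?_
      rcases lt_or_gt_of_ne hi.2 with hlt | hgt
      · exact hdist i i₀ hi.1 hi₀ hlt
      · exact (hdist i₀ i hi₀ hi.1 hgt).symm
    rw [hval]
    by_cases hj : j ∈ h.support
    · exact hmax j hj
    · rw [notMem_support_iff.mp hj, map_zero, map_zero, zero_mul]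
      exact zero_le

/-- closeness of `h(ϑ)` and `h(ζ)` when `ϑ ^ p = r` is `p`-th-power-minimal and `ζ` is close
to `ϑ`. -/
theorem close_aux (ϑ ζ : Ω) (r : F₁) (hϑ : ϑ ^ p = algebraMap F₁ Ω r) (hr0 : r ≠ 0)
    (hmin : ∀ c : F₁, 𝒪.valuation (algebraMap F₁ Ω r) ≤
      𝒪.valuation (algebraMap F₁ Ω (r - c ^ p)))
    (hζ : 𝒪.valuation (ζ - ϑ) < 𝒪.valuation ϑ)
    (h : F₁[X]) (hdeg : h.natDegree < p) (hh0 : h ≠ 0) :
    𝒪.valuation (aeval ϑ h - aeval ζ h) < 𝒪.valuation (aeval ϑ h) := by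
  classical
  have hp : p.Prime := Fact.out
  have hιr0 : algebraMap F₁ Ω r ≠ 0 := by rwa [Ne, map_eq_zero]
  have hϑ0 : ϑ ≠ 0 := by
    rintro rfl
    rw [zero_pow hp.ne_zero] at hϑ
    exact hιr0 hϑ.symm
  have hvϑ0 : 𝒪.valuation ϑ ≠ 0 := (Valuation.ne_zero_iff _).mpr hϑ0
  have hvζ : 𝒪.valuation ζ = 𝒪.valuation ϑ := by
    have h1 : ζ = ϑ + (ζ - ϑ) := by ring
    rw [h1]
    exact Valuation.map_add_eq_of_lt_left _ hζ
  have horth := orth p 𝒪 ϑ r hϑ hr0 hmin h hdeg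
  have hV0 : 𝒪.valuation (aeval ϑ h) ≠ 0 := by
    obtain ⟨i, hi⟩ := nonempty_support_iff.mpr hh0
    have hc : h.coeff i ≠ 0 := mem_support_iff.mp hi
    have h1 : 𝒪.valuation (algebraMap F₁ Ω (h.coeff i)) * 𝒪.valuation ϑ ^ i ≠ 0 :=
      mul_ne_zero ((Valuation.ne_zero_iff _).mpr (by rwa [Ne, map_eq_zero])) (pow_ne_zero _ hvϑ0)
    exact fun h0 => h1 (le_zero_iff.mp (h0 ▸ horth i))
  have hdiff : aeval ϑ h - aeval ζ h =
      ∑ i ∈ Finset.range p, algebraMap F₁ Ω (h.coeff i) * (ϑ ^ i - ζ ^ i) := by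
    rw [aeval_eq_sum_range' hdeg, aeval_eq_sum_range' hdeg, ← Finset.sum_sub_distrib]
    apply Finset.sum_congr rfl
    intro i _
    rw [Algebra.smul_def, Algebra.smul_def, mul_sub]
  rw [hdiff]
  apply Valuation.map_sum_lt _ hV0
  intro i _
  rw [map_mul]
  by_cases hc : h.coeff i = 0
  · rw [hc, map_zero, map_zero, zero_mul]; exact zero_lt_iff.mpr hV0
  have hvc0 : 0 < 𝒪.valuation (algebraMap F₁ Ω (h.coeff i)) :=
    zero_lt_iff.mpr ((Valuation.ne_zero_iff _).mpr (by rwa [Ne, map_eq_zero]))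
  refine lt_of_lt_of_le ?_ (horth i)
  apply mul_lt_mul_of_pos_left _ hvc0
  -- `v (ϑ^i - ζ^i) < v ϑ ^ i`
  rcases Nat.eq_zero_or_pos i with rfl | hipos
  · rw [pow_zero, pow_zero, sub_self, map_zero, pow_zero]; exact zero_lt_one
  rw [← geom_sum₂_mul ϑ ζ i, map_mul]
  have h1 : 𝒪.valuation (∑ k ∈ Finset.range i, ϑ ^ k * ζ ^ (i - 1 - k)) ≤
      𝒪.valuation ϑ ^ (i - 1) := by
    apply Valuation.map_sum_le
    intro k hk
    rw [Finset.mem_range] at hk
    rw [map_mul, map_pow, map_pow, hvζ, ← pow_add]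
    apply le_of_eq
    congr 1
    omega
  have h2 : 𝒪.valuation (ϑ - ζ) < 𝒪.valuation ϑ := by rwa [Valuation.map_sub_swap]
  have h3 : 𝒪.valuation ϑ ^ i = 𝒪.valuation ϑ ^ (i - 1) * 𝒪.valuation ϑ := by
    rw [← pow_succ]; congr 1; omega
  rw [h3]
  calc 𝒪.valuation (∑ k ∈ Finset.range i, ϑ ^ k * ζ ^ (i - 1 - k)) * 𝒪.valuation (ϑ - ζ)
      ≤ 𝒪.valuation ϑ ^ (i - 1) * 𝒪.valuation (ϑ - ζ) := mul_le_mul' h1 le_rfl
    _ < 𝒪.valuation ϑ ^ (i - 1) * 𝒪.valuation ϑ :=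
      mul_lt_mul_of_pos_left h2 (zero_lt_iff.mpr (pow_ne_zero _ hvϑ0))

/-- **Key lemma**: if `θ ^ p = a`, `z ^ p = a + e`, `c₀` is a best approximation of `a` by
`p`-th powers of `F₁` and `e` is smaller than `a - c₀ ^ p`, then `h(θ)` and `h(z)` are close for
every polynomial `h` over `F₁` of degree `< p`. -/
theorem close_of_best (a c₀ : F₁) (θ z e : Ω) (hθ : θ ^ p = algebraMap F₁ Ω a)
    (hz : z ^ p = algebraMap F₁ Ω a + e)
    (hbest : ∀ c : F₁, 𝒪.valuation (algebraMap F₁ Ω (a - c₀ ^ p)) ≤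
      𝒪.valuation (algebraMap F₁ Ω (a - c ^ p)))
    (hsmall : 𝒪.valuation e < 𝒪.valuation (algebraMap F₁ Ω (a - c₀ ^ p)))
    (h : F₁[X]) (hdeg : h.natDegree < p) :
    Close 𝒪 (aeval θ h) (aeval z h) := by
  have hp : p.Prime := Fact.out
  by_cases hh0 : h = 0
  · left
    rw [hh0, map_zero, map_zero]
    exact ⟨rfl, rfl⟩
  right
  have hr0 : a - c₀ ^ p ≠ 0 := by
    intro h0
    rw [h0, map_zero, map_zero] at hsmall
    exact not_lt_zero hsmall
  have hϑ : (θ - algebraMap F₁ Ω c₀) ^ p = algebraMap F₁ Ω (a - c₀ ^ p) := by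
    rw [sub_pow_char (p := p) (x := θ) (y := algebraMap F₁ Ω c₀), hθ, map_sub, map_pow]
  have hmin : ∀ c : F₁, 𝒪.valuation (algebraMap F₁ Ω (a - c₀ ^ p)) ≤
      𝒪.valuation (algebraMap F₁ Ω (a - c₀ ^ p - c ^ p)) := by
    intro c
    have h1 : a - c₀ ^ p - c ^ p = a - (c₀ + c) ^ p := by
      rw [add_pow_char]; ring
    rw [h1]
    exact hbest (c₀ + c)
  have hτ : (z - θ) ^ p = e := by
    rw [sub_pow_char (p := p) (x := z) (y := θ), hz, hθ, add_sub_cancel_left]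
  have hvr0 : 𝒪.valuation (algebraMap F₁ Ω (a - c₀ ^ p)) ≠ 0 :=
    (Valuation.ne_zero_iff _).mpr (by rwa [Ne, map_eq_zero])
  have hζ : 𝒪.valuation ((z - algebraMap F₁ Ω c₀) - (θ - algebraMap F₁ Ω c₀)) <
      𝒪.valuation (θ - algebraMap F₁ Ω c₀) := by
    have h1 : (z - algebraMap F₁ Ω c₀) - (θ - algebraMap F₁ Ω c₀) = z - θ := by ring
    rw [h1, ← pow_lt_pow_iff_left₀ zero_le zero_le hp.ne_zero, ← map_pow, ← map_pow, hτ, hϑ]
    exact hsmall
  have hcomp0 : h.comp (X + C c₀) ≠ 0 := by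
    intro h0
    apply hh0
    have h1 : (h.comp (X + C c₀)).comp (X - C c₀) = h := by
      rw [comp_assoc]
      simp
    rw [← h1, h0, zero_comp]
  have hcdeg : (h.comp (X + C c₀)).natDegree < p := by
    rw [natDegree_comp, natDegree_X_add_C, mul_one]; exact hdeg
  have key := close_aux p 𝒪 (θ - algebraMap F₁ Ω c₀) (z - algebraMap F₁ Ω c₀) (a - c₀ ^ p) hϑ hr0
    hmin hζ (h.comp (X + C c₀)) hcdeg hcomp0
  have e1 : aeval (θ - algebraMap F₁ Ω c₀) (h.comp (X + C c₀)) = aeval θ h := by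
    rw [aeval_comp, map_add, aeval_X, aeval_C, sub_add_cancel]
  have e2 : aeval (z - algebraMap F₁ Ω c₀) (h.comp (X + C c₀)) = aeval z h := by
    rw [aeval_comp, map_add, aeval_X, aeval_C, sub_add_cancel]
  rwa [e1, e2] at key

end Orth

end EppSol

end Groth.Agent.Lib.helper10
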