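import Mathlib
import Groth.Prelude.Def_EtRam
import Groth.Prelude.Def_Found
import Groth.Agent.Lib.Helper10.EppSol2
import Groth.Agent.Lib.Helper10.EppPI6
import Groth.Agent.Lib.Helper10.CompDvr5
import Groth.Agent.Lib.Helper10.CompDvr3

/-!
Epp, separable solutions from purely inseparable ones (helper10), part 3:
a non-`p`-th power of `K'` stays a non-`p`-th power in every compositum with a separable
(geometrically reduced) extension `L/K`; bounded depth of approximation by `p`-th powers in a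
compositum (uses that `B` is Nagata).
-/

set_option autoImplicit false
set_option linter.unusedSectionVars false
set_option linter.style.haveILetI false

universe u

open IsLocalRing Polynomial TensorProduct

namespace Groth.Agent.Lib.helper10

namespace EppSol

section D0

variable (p : ℕ) [Fact p.Prime] (K L K' F : Type u) [Field K] [Field L] [Field K'] [Field F]
  [Algebra K L] [Algebra K K'] [Algebra K F] [Algebra L F]
  [Algebra K' F] [IsScalarTower K L F] [IsScalarTower K K' F] [CharP K p]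
  [Algebra.IsGeometricallyReduced K L]

theorem not_pth_power (hfin : Module.Finite K K')
    (hgen : Algebra.adjoin L (Set.range (algebraMap K' F)) = ⊤)
    (a : K') (ha : ∀ b : K', b ^ p ≠ a) (c : F) : c ^ p ≠ algebraMap K' F a := by
  intro hc
  haveI := hfin
  have hp : p.Prime := Fact.out
  haveI : CharP K' p := charP_of_injective_algebraMap (algebraMap K K').injective p
  haveI : CharP F p := charP_of_injective_algebraMap (algebraMap K F).injective p
  have hirr : Irreducible (X ^ p - C a : K'[X]) := X_pow_sub_C_irreducible_of_prime hp ha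
  haveI : Fact (Irreducible (X ^ p - C a : K'[X])) := ⟨hirr⟩
  have hmon : (X ^ p - C a : K'[X]).Monic := monic_X_pow_sub_C a hp.ne_zero
  haveI : Module.Finite K' (AdjoinRoot (X ^ p - C a : K'[X])) := hmon.finite_adjoinRoot
  haveI : Module.Finite K (AdjoinRoot (X ^ p - C a : K'[X])) := Module.Finite.trans K' _
  haveI : Algebra.IsIntegral K (AdjoinRoot (X ^ p - C a : K'[X])) := Algebra.IsIntegral.of_finite _ _
  haveI : Algebra.IsAlgebraic K (AdjoinRoot (X ^ p - C a : K'[X])) := Algebra.IsIntegral.isAlgebraic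
  haveI : IsReduced (AdjoinRoot (X ^ p - C a : K'[X]) ⊗[K] L) := inferInstance
  haveI : IsReduced (L ⊗[K] AdjoinRoot (X ^ p - C a : K'[X])) :=
    isReduced_of_injective
      (Algebra.TensorProduct.comm K L (AdjoinRoot (X ^ p - C a : K'[X]))).toRingEquiv.toRingHom
      (Algebra.TensorProduct.comm K L (AdjoinRoot (X ^ p - C a : K'[X]))).injective
  have hT := CompDvr.vnr_tensor_right K L (AdjoinRoot (X ^ p - C a : K'[X]))
  -- the target ring
  set a' : F := algebraMap K' F a with ha'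
  have hmon' : (X ^ p - C a' : F[X]).Monic := monic_X_pow_sub_C a' hp.ne_zero
  let ψL : L →ₐ[K] AdjoinRoot (X ^ p - C a' : F[X]) :=
    (IsScalarTower.toAlgHom K F (AdjoinRoot (X ^ p - C a' : F[X]))).comp
      (IsScalarTower.toAlgHom K L F)
  let i' : K' →ₐ[K] AdjoinRoot (X ^ p - C a' : F[X]) :=
    (IsScalarTower.toAlgHom K F (AdjoinRoot (X ^ p - C a' : F[X]))).comp
      (IsScalarTower.toAlgHom K K' F)
  have hroot : (AdjoinRoot.root (X ^ p - C a' : F[X])) ^ p = AdjoinRoot.of _ a' := by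
    have h := AdjoinRoot.eval₂_root (X ^ p - C a' : F[X])
    rw [eval₂_sub, eval₂_pow, eval₂_X, eval₂_C, sub_eq_zero] at h
    exact h
  have hev : (X ^ p - C a : K'[X]).eval₂ (i' : K' →+* AdjoinRoot (X ^ p - C a' : F[X]))
      (AdjoinRoot.root (X ^ p - C a' : F[X])) = 0 := by
    rw [eval₂_sub, eval₂_pow, eval₂_X, eval₂_C, hroot, sub_eq_zero]
    rfl
  let ψK : AdjoinRoot (X ^ p - C a : K'[X]) →ₐ[K] AdjoinRoot (X ^ p - C a' : F[X]) :=
    AdjoinRoot.liftAlgHom (X ^ p - C a : K'[X]) i' (AdjoinRoot.root (X ^ p - C a' : F[X])) hev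
  let Ψ : L ⊗[K] AdjoinRoot (X ^ p - C a : K'[X]) →ₐ[K] AdjoinRoot (X ^ p - C a' : F[X]) :=
    Algebra.TensorProduct.productMap ψL ψK
  have hΨL : ∀ l : L, AdjoinRoot.of (X ^ p - C a' : F[X]) (algebraMap L F l) ∈ Ψ.range := by
    intro l
    refine ⟨l ⊗ₜ 1, ?_⟩
    show Algebra.TensorProduct.productMap ψL ψK (l ⊗ₜ 1) = _
    rw [Algebra.TensorProduct.productMap_apply_tmul, map_one, mul_one]
    rfl
  have hΨK : ∀ k : K', AdjoinRoot.of (X ^ p - C a' : F[X]) (algebraMap K' F k) ∈ Ψ.range := by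
    intro k
    refine ⟨1 ⊗ₜ AdjoinRoot.of _ k, ?_⟩
    show Algebra.TensorProduct.productMap ψL ψK (1 ⊗ₜ AdjoinRoot.of _ k) = _
    rw [Algebra.TensorProduct.productMap_apply_tmul, map_one, one_mul]
    show AdjoinRoot.liftAlgHom _ i' _ hev (AdjoinRoot.of _ k) = _
    rw [AdjoinRoot.liftAlgHom_of]
    rfl
  have hΨroot : AdjoinRoot.root (X ^ p - C a' : F[X]) ∈ Ψ.range := by
    refine ⟨1 ⊗ₜ AdjoinRoot.root _, ?_⟩
    show Algebra.TensorProduct.productMap ψL ψK (1 ⊗ₜ AdjoinRoot.root _) = _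
    rw [Algebra.TensorProduct.productMap_apply_tmul, map_one, one_mul]
    exact AdjoinRoot.liftAlgHom_root _ i' _ hev
  have hΨF : ∀ f : F, AdjoinRoot.of (X ^ p - C a' : F[X]) f ∈ Ψ.range := by
    intro f
    have hf : f ∈ Algebra.adjoin L (Set.range (algebraMap K' F)) := by rw [hgen]; trivial
    induction hf using Algebra.adjoin_induction with
    | mem x hx =>
      obtain ⟨k, rfl⟩ := hx
      exact hΨK k
    | algebraMap l => exact hΨL l
    | add x y _ _ ihx ihy => rw [map_add]; exact add_mem ihx ihy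
    | mul x y _ _ ihx ihy => rw [map_mul]; exact mul_mem ihx ihy
  have hsurj : Function.Surjective Ψ := by
    intro g
    obtain ⟨q, rfl⟩ := AdjoinRoot.mk_surjective g
    show AdjoinRoot.mk _ q ∈ Ψ.range
    induction q using Polynomial.induction_on with
    | C f => exact hΨF f
    | add q₁ q₂ ih₁ ih₂ => rw [map_add]; exact add_mem ih₁ ih₂
    | monomial n f ih =>
      rw [pow_succ, ← mul_assoc, map_mul, AdjoinRoot.mk_X]
      exact mul_mem ih hΨroot
  have hvnr : ∀ s : AdjoinRoot (X ^ p - C a' : F[X]), ∃ u, s = s * s * u :=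
    CompDvr.vnr_of_surjective (Ψ : L ⊗[K] AdjoinRoot (X ^ p - C a : K'[X]) →+*
      AdjoinRoot (X ^ p - C a' : F[X])) hsurj hT
  haveI : IsReduced (AdjoinRoot (X ^ p - C a' : F[X])) := CompDvr.isReduced_of_vnr hvnr
  have hofinj : Function.Injective (AdjoinRoot.of (X ^ p - C a' : F[X])) := by
    apply AdjoinRoot.of.injective_of_degree_ne_zero
    rw [degree_X_pow_sub_C hp.pos]
    exact_mod_cast hp.ne_zero
  haveI : CharP (AdjoinRoot (X ^ p - C a' : F[X])) p :=
    charP_of_injective_ringHom hofinj p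
  have hnil : (AdjoinRoot.root (X ^ p - C a' : F[X]) - AdjoinRoot.of _ c) ^ p = 0 := by
    rw [sub_pow_char (p := p) (x := AdjoinRoot.root (X ^ p - C a' : F[X]))
      (y := AdjoinRoot.of _ c), hroot, ← map_pow, hc, sub_self]
  have hzero : AdjoinRoot.root (X ^ p - C a' : F[X]) - AdjoinRoot.of _ c = 0 :=
    pow_eq_zero_iff hp.ne_zero |>.mp hnil
  have hmk : AdjoinRoot.mk (X ^ p - C a' : F[X]) (X - C c) = 0 := by
    rw [map_sub, AdjoinRoot.mk_X, AdjoinRoot.mk_C]; exact hzero
  rw [AdjoinRoot.mk_eq_zero] at hmk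
  have h1 := natDegree_le_of_dvd hmk (X_sub_C_ne_zero c)
  rw [natDegree_X_pow_sub_C, natDegree_X_sub_C] at h1
  exact absurd hp.two_le (by omega)

end D0

section D1

open IsDedekindDomain DvrExt

variable (p : ℕ) [Fact p.Prime] (B L F₁ : Type u) [CommRing B] [IsDomain B]
  [IsDiscreteValuationRing B] [Field L] [Algebra B L] [IsFractionRing B L] [Field F₁]
  [Algebra L F₁] [Algebra B F₁] [IsScalarTower B L F₁] [CharP F₁ p]

/-- bounded depth of approximation of a non-`p`-th power by `p`-th powers, uniformly in the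
valuation ring dominating `B`. -/
theorem depth_bound (hfin : Module.Finite L F₁) (hN : CAlg.IsN2 B) {πB : B}
    (hπB : Irreducible πB) (a₁ : F₁) (ha₁ : ∀ c : F₁, c ^ p ≠ a₁) :
    ∃ N : ℕ, ∀ W₁ : ValuationSubring F₁, EtRam.Dominates B (algebraMap B F₁) W₁ →
      ∀ n : ℕ, N ≤ n → ∀ c : F₁, (a₁ - c ^ p) / (algebraMap B F₁ πB) ^ n ∉ W₁ := by
  classical
  haveI := hfin
  have hp : p.Prime := Fact.out
  have hirr : Irreducible (X ^ p - C a₁ : F₁[X]) := X_pow_sub_C_irreducible_of_prime hp ha₁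
  haveI : Fact (Irreducible (X ^ p - C a₁ : F₁[X])) := ⟨hirr⟩
  have hmon : (X ^ p - C a₁ : F₁[X]).Monic := monic_X_pow_sub_C a₁ hp.ne_zero
  haveI : Module.Finite F₁ (AdjoinRoot (X ^ p - C a₁ : F₁[X])) := hmon.finite_adjoinRoot
  haveI : Module.Finite L (AdjoinRoot (X ^ p - C a₁ : F₁[X])) := Module.Finite.trans F₁ _
  haveI : CharP (AdjoinRoot (X ^ p - C a₁ : F₁[X])) p :=
    charP_of_injective_algebraMap (algebraMap F₁ _).injective p
  haveI hfin₂ : Module.Finite B (integralClosure B (AdjoinRoot (X ^ p - C a₁ : F₁[X]))) :=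
    EppPI.finite_integralClosure_of_isN2 hN L (AdjoinRoot (X ^ p - C a₁ : F₁[X]))
  have hroot : (AdjoinRoot.root (X ^ p - C a₁ : F₁[X])) ^ p = AdjoinRoot.of _ a₁ := by
    have h := AdjoinRoot.eval₂_root (X ^ p - C a₁ : F₁[X])
    rw [eval₂_sub, eval₂_pow, eval₂_X, eval₂_C, sub_eq_zero] at h
    exact h
  -- the coordinate functional of `root`
  let lam : AdjoinRoot (X ^ p - C a₁ : F₁[X]) →ₗ[F₁] F₁ :=
    (Polynomial.lcoeff F₁ 1).comp (AdjoinRoot.modByMonicHom hmon)
  have hlam_mk : ∀ q : F₁[X], q.natDegree < p →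
      lam (AdjoinRoot.mk (X ^ p - C a₁ : F₁[X]) q) = q.coeff 1 := by
    intro q hq
    show (q %ₘ (X ^ p - C a₁)).coeff 1 = q.coeff 1
    rw [(modByMonic_eq_self_iff hmon).mpr]
    rw [degree_eq_natDegree hmon.ne_zero, natDegree_X_pow_sub_C]
    exact lt_of_le_of_lt degree_le_natDegree (by exact_mod_cast hq)
  -- common denominator
  haveI : Algebra.IsAlgebraic B L := IsLocalization.isAlgebraic L (nonZeroDivisors B)
  haveI : Algebra.IsAlgebraic L F₁ := Algebra.IsAlgebraic.of_finite L F₁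
  haveI : Algebra.IsAlgebraic B F₁ := Algebra.IsAlgebraic.trans B L F₁
  obtain ⟨S, hS⟩ := hfin₂.fg_top
  obtain ⟨y, hy0, hy⟩ := Algebra.IsAlgebraic.exists_integral_multiples B
    (S.image (fun x : integralClosure B (AdjoinRoot (X ^ p - C a₁ : F₁[X])) => lam x.1))
  obtain ⟨N₀, uy, huy⟩ := IsDiscreteValuationRing.eq_unit_mul_pow_irreducible hy0 hπB
  have hlamB : ∀ (b : B) (x : AdjoinRoot (X ^ p - C a₁ : F₁[X])), lam (b • x) = b • lam x := by
    intro b x
    rw [← IsScalarTower.algebraMap_smul F₁ b x, map_smul, IsScalarTower.algebraMap_smul]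
  have hint : ∀ x : integralClosure B (AdjoinRoot (X ^ p - C a₁ : F₁[X])),
      IsIntegral B (y • lam (x : AdjoinRoot (X ^ p - C a₁ : F₁[X]))) := by
    intro x
    have hx : x ∈ Submodule.span B (S : Set (integralClosure B
        (AdjoinRoot (X ^ p - C a₁ : F₁[X])))) := by rw [hS]; trivial
    induction hx using Submodule.span_induction with
    | mem x hx =>
      exact hy _ (Finset.mem_image.mpr ⟨x, Finset.mem_coe.mp hx, rfl⟩)
    | zero =>
      rw [ZeroMemClass.coe_zero, map_zero, smul_zero]; exact isIntegral_zero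
    | add x x' _ _ ih ih' =>
      rw [Subalgebra.coe_add, map_add, smul_add]; exact ih.add ih'
    | smul b x _ ih =>
      rw [Subalgebra.coe_smul, hlamB, smul_comm]
      exact ih.smul b
  have hint' : ∀ x : AdjoinRoot (X ^ p - C a₁ : F₁[X]), IsIntegral B x →
      IsIntegral B ((πB ^ N₀) • lam x) := by
    intro x hx
    have h1 := hint ⟨x, hx⟩
    have h2 : (πB ^ N₀) • lam x = ((uy⁻¹ : Bˣ) : B) • (y • lam x) := by
      rw [huy, smul_smul, ← mul_assoc, Units.inv_mul, one_mul]
    rw [h2]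
    exact h1.smul _
  refine ⟨p * (N₀ + 1), ?_⟩
  intro W₁ hdom n hn c hmem
  have hπB0 : algebraMap B F₁ πB ≠ 0 := by
    rw [Ne, IsScalarTower.algebraMap_apply B L F₁, map_eq_zero,
      map_eq_zero_iff _ (IsFractionRing.injective B L)]
    exact hπB.ne_zero
  have hπBW : algebraMap B F₁ πB ∈ W₁ := hdom.1 πB
  -- reduce to exponent `p * (N₀ + 1)`
  have hmem' : (a₁ - c ^ p) / (algebraMap B F₁ πB) ^ (p * (N₀ + 1)) ∈ W₁ := by
    have h1 : (a₁ - c ^ p) / (algebraMap B F₁ πB) ^ (p * (N₀ + 1)) =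
        (a₁ - c ^ p) / (algebraMap B F₁ πB) ^ n *
          (algebraMap B F₁ πB) ^ (n - p * (N₀ + 1)) := by
      have h2 : (algebraMap B F₁ πB) ^ n =
          (algebraMap B F₁ πB) ^ (p * (N₀ + 1)) * (algebraMap B F₁ πB) ^ (n - p * (N₀ + 1)) := by
        rw [← pow_add]; congr 1; omega
      rw [h2]
      field_simp
    rw [h1]
    exact W₁.mul_mem _ _ hmem (pow_mem hπBW _)
  haveI : IsDedekindDomain (integralClosure B F₁) :=
    CompDvr.isDedekindDomain_integralClosure B L F₁
  haveI : IsFractionRing (integralClosure B F₁) F₁ :=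
    integralClosure.isFractionRing_of_finite_extension L F₁
  haveI : FaithfulSMul B F₁ := (faithfulSMul_iff_algebraMap_injective B F₁).mpr (by
    rw [IsScalarTower.algebraMap_eq B L F₁]
    exact (algebraMap L F₁).injective.comp (IsFractionRing.injective B L))
  obtain ⟨w, hw, rfl⟩ := exists_w (integralClosure B F₁) W₁ hdom
  haveI := hw
  set f : F₁ := (a₁ - c ^ p) / (algebraMap B F₁ πB) ^ (p * (N₀ + 1)) with hf
  obtain ⟨n', d, hnd⟩ := HeightOneSpectrum.exists_primeCompl_mul_eq_of_integer w f hmem'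
  -- the element `η`
  set α : F₁ := ((d : integralClosure B F₁) : F₁) / (algebraMap B F₁ πB) ^ (N₀ + 1) with hα
  set β : F₁ := ((d : integralClosure B F₁) : F₁) * c / (algebraMap B F₁ πB) ^ (N₀ + 1) with hβ
  set η : AdjoinRoot (X ^ p - C a₁ : F₁[X]) := AdjoinRoot.mk _ (C α * X - C β) with hη
  have hη' : η = AdjoinRoot.of _ α * AdjoinRoot.root _ - AdjoinRoot.of _ β := by
    rw [hη, map_sub, map_mul, AdjoinRoot.mk_X, AdjoinRoot.mk_C, AdjoinRoot.mk_C]
  have hnd' : f * ((d : integralClosure B F₁) : F₁) = ((n' : integralClosure B F₁) : F₁) := hnd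
  have hval : α ^ p * a₁ - β ^ p = ((d : integralClosure B F₁) : F₁) ^ (p - 1) *
      ((n' : integralClosure B F₁) : F₁) := by
    have hpp : ((d : integralClosure B F₁) : F₁) ^ p =
        ((d : integralClosure B F₁) : F₁) ^ (p - 1) * ((d : integralClosure B F₁) : F₁) := by
      rw [← pow_succ]; congr 1; have := hp.pos; omega
    have hπpow : ((algebraMap B F₁ πB) ^ (N₀ + 1)) ^ p =
        (algebraMap B F₁ πB) ^ (p * (N₀ + 1)) := by rw [← pow_mul, mul_comm]
    rw [← hnd', hf, hα, hβ, div_pow, div_pow, mul_pow, hπpow, hpp]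
    field_simp
  have hηpow : η ^ p = AdjoinRoot.of _ (((d : integralClosure B F₁) : F₁) ^ (p - 1) *
      ((n' : integralClosure B F₁) : F₁)) := by
    rw [← hval, hη', sub_pow_char (p := p), mul_pow, hroot, map_sub, map_mul, map_pow, map_pow]
  have hηint : IsIntegral B η := by
    apply IsIntegral.of_pow hp.pos
    rw [hηpow]
    have h1 : IsIntegral B (((d : integralClosure B F₁) : F₁) ^ (p - 1) *
        ((n' : integralClosure B F₁) : F₁)) :=
      ((d : integralClosure B F₁).2.pow _).mul n'.2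
    exact h1.map (IsScalarTower.toAlgHom B F₁ (AdjoinRoot (X ^ p - C a₁ : F₁[X])))
  have hlamη : lam η = ((d : integralClosure B F₁) : F₁) / (algebraMap B F₁ πB) ^ (N₀ + 1) := by
    rw [hη, hlam_mk, ← hα]
    · rw [coeff_sub, coeff_C_mul, coeff_X_one, mul_one, coeff_C, if_neg one_ne_zero, sub_zero]
    · refine lt_of_le_of_lt (natDegree_sub_le _ _) ?_
      rw [natDegree_C, max_eq_left (Nat.zero_le _)]
      exact lt_of_le_of_lt (natDegree_C_mul_le _ _) (by rw [natDegree_X]; exact hp.one_lt)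
  have h3 := hint' η hηint
  rw [hlamη, Algebra.smul_def, map_pow] at h3
  have h4 : (algebraMap B F₁ πB) ^ N₀ *
      (((d : integralClosure B F₁) : F₁) / (algebraMap B F₁ πB) ^ (N₀ + 1)) =
      ((d : integralClosure B F₁) : F₁) / algebraMap B F₁ πB := by
    rw [pow_succ]
    field_simp
  rw [h4] at h3
  -- contradiction with valuations
  have h5 : w.valuation F₁ (((d : integralClosure B F₁) : F₁) / algebraMap B F₁ πB) ≤ 1 :=
    algebraMap_mem_Vw w (⟨_, h3⟩ : integralClosure B F₁)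
  have h6 : w.valuation F₁ (((d : integralClosure B F₁) : F₁)) = 1 := by
    have : ((d : integralClosure B F₁) : F₁) = algebraMap (integralClosure B F₁) F₁ d := rfl
    rw [this, HeightOneSpectrum.valuation_of_algebraMap,
      HeightOneSpectrum.intValuation_eq_one_iff_mem_primeCompl]
    exact d.2
  have h7 : w.valuation F₁ (algebraMap B F₁ πB) < 1 := by
    rw [← Vw_val_lt_one]
    exact hdom.2 πB ((mem_maximalIdeal _).mpr hπB.not_isUnit)
  rw [map_div₀, h6, one_div] at h5
  have h8 : w.valuation F₁ (algebraMap B F₁ πB) ≠ 0 := (Valuation.ne_zero_iff _).mpr hπB0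
  rw [inv_le_one₀ (zero_lt_iff.mpr h8)] at h5
  exact absurd h7 (not_lt.mpr h5)

end D1

end EppSol

end Groth.Agent.Lib.helper10
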