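import Mathlib
import Groth.Prelude.Def_EtRam
import Groth.Prelude.Def_Found
import Groth.Agent.Lib.Helper10.EppSol3
import Groth.Agent.S1984

/-!
Epp, separable solutions from purely inseparable ones (helper10), part 4:
the depth of approximation of a non-`p`-th power `a ∈ K₁` by `p`-th powers is bounded uniformly
over all composita of `L` and `K₁` and all valuation rings dominating `B`.
-/

set_option autoImplicit false
set_option linter.unusedSectionVars false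
set_option linter.style.haveILetI false

universe u

open IsLocalRing Polynomial TensorProduct

namespace Groth.Agent.Lib.helper10

namespace EppSol

section D2

variable (p : ℕ) [Fact p.Prime] (B K L K₁ : Type u) [CommRing B] [IsDomain B]
  [IsDiscreteValuationRing B] [Field K] [Field L] [Field K₁] [Algebra B L] [IsFractionRing B L]
  [Algebra K L] [Algebra K K₁] [CharP K p] [Algebra.IsGeometricallyReduced K L]

/-- depth at most `N` at all places of a compositum `F₁`. -/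
def DepthLE (a : K₁) (πB : B) (N : ℕ) (F₁ : Type u) [Field F₁] [Algebra L F₁] [Algebra K₁ F₁] :
    Prop :=
  ∀ W₁ : ValuationSubring F₁, EtRam.Dominates B ((algebraMap L F₁).comp (algebraMap B L)) W₁ →
    ∀ n : ℕ, N ≤ n → ∀ c : F₁,
      (algebraMap K₁ F₁ a - c ^ p) / (algebraMap L F₁ (algebraMap B L πB)) ^ n ∉ W₁

theorem DepthLE.mono {a : K₁} {πB : B} {N N' : ℕ} (hNN' : N ≤ N') {F₁ : Type u} [Field F₁]
    [Algebra L F₁] [Algebra K₁ F₁] (h : DepthLE p B L K₁ a πB N F₁) :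
    DepthLE p B L K₁ a πB N' F₁ :=
  fun W₁ hdom n hn c => h W₁ hdom n (hNN'.trans hn) c

/-- transport of `DepthLE` along an isomorphism of composita. -/
theorem DepthLE.of_equiv {a : K₁} {πB : B} {N : ℕ} {F' F₁ : Type u} [Field F'] [Field F₁]
    [Algebra L F'] [Algebra K₁ F'] [Algebra L F₁] [Algebra K₁ F₁] (ψ : F' ≃+* F₁)
    (hL : ∀ l : L, ψ (algebraMap L F' l) = algebraMap L F₁ l)
    (hK : ∀ k : K₁, ψ (algebraMap K₁ F' k) = algebraMap K₁ F₁ k)
    (h : DepthLE p B L K₁ a πB N F') : DepthLE p B L K₁ a πB N F₁ := by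
  intro W₁ hdom n hn c hmem
  have hdom' : EtRam.Dominates B ((algebraMap L F').comp (algebraMap B L))
      (W₁.comap ψ.toRingHom) := by
    refine ⟨fun b => ?_, fun b hb => ?_⟩
    · rw [ValuationSubring.mem_comap]
      show ψ (algebraMap L F' (algebraMap B L b)) ∈ W₁
      rw [hL]; exact hdom.1 b
    · rw [TotRam.comap_val_lt_one_iff]
      show W₁.valuation (ψ (algebraMap L F' (algebraMap B L b))) < 1
      rw [hL]; exact hdom.2 b hb
  apply h (W₁.comap ψ.toRingHom) hdom' n hn (ψ.symm c)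
  rw [ValuationSubring.mem_comap]
  show ψ ((algebraMap K₁ F' a - ψ.symm c ^ p) /
    (algebraMap L F' (algebraMap B L πB)) ^ n) ∈ W₁
  rw [map_div₀, map_sub, map_pow, map_pow, RingEquiv.apply_symm_apply, hK, hL]
  exact hmem

/-- the depth bound in a single compositum. -/
theorem depth_bound_compositum (hfin : Module.Finite K K₁) (hN : CAlg.IsN2 B) {πB : B}
    (hπB : Irreducible πB) (a : K₁) (ha : ∀ b : K₁, b ^ p ≠ a)
    (F₁ : Type u) [Field F₁] [Algebra K F₁] [Algebra L F₁] [Algebra K₁ F₁]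
    [IsScalarTower K L F₁] [IsScalarTower K K₁ F₁]
    (hgen : Algebra.adjoin L (Set.range (algebraMap K₁ F₁)) = ⊤) :
    ∃ N : ℕ, DepthLE p B L K₁ a πB N F₁ := by
  haveI := hfin
  letI : Algebra B F₁ := ((algebraMap L F₁).comp (algebraMap B L)).toAlgebra
  haveI : IsScalarTower B L F₁ := IsScalarTower.of_algebraMap_eq (fun _ => rfl)
  haveI : CharP F₁ p := charP_of_injective_algebraMap (algebraMap K F₁).injective p
  obtain ⟨hfd, -⟩ := Groth.Agent.S1984.finite_of_gen K L K₁ F₁ hgen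
  have ha₁ : ∀ c : F₁, c ^ p ≠ algebraMap K₁ F₁ a :=
    not_pth_power p K L K₁ F₁ hfin hgen a ha
  obtain ⟨N, hN'⟩ := depth_bound p B L F₁ hfd hN hπB (algebraMap K₁ F₁ a) ha₁
  exact ⟨N, fun W₁ hdom n hn c => hN' W₁ hdom n hn c⟩

/-- the uniform depth bound. -/
theorem uniform_depth (hfin : Module.Finite K K₁) (hN : CAlg.IsN2 B) {πB : B}
    (hπB : Irreducible πB) (a : K₁) (ha : ∀ b : K₁, b ^ p ≠ a) :
    ∃ N : ℕ, ∀ (F₁ : Type u) [Field F₁] [Algebra K F₁] [Algebra L F₁] [Algebra K₁ F₁]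
      [IsScalarTower K L F₁] [IsScalarTower K K₁ F₁],
      Algebra.adjoin L (Set.range (algebraMap K₁ F₁)) = ⊤ → DepthLE p B L K₁ a πB N F₁ := by
  classical
  haveI := hfin
  haveI : Module.Finite L (L ⊗[K] K₁) := Module.Finite.base_change K L K₁
  haveI : IsArtinianRing (L ⊗[K] K₁) := IsArtinianRing.of_finite L (L ⊗[K] K₁)
  haveI : Fintype (MaximalSpectrum (L ⊗[K] K₁)) := Fintype.ofFinite _
  letI : Algebra K₁ (L ⊗[K] K₁) := Algebra.TensorProduct.rightAlgebra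
  have hgenQ : ∀ (I : Ideal (L ⊗[K] K₁)),
      Algebra.adjoin L (Set.range (algebraMap K₁ ((L ⊗[K] K₁) ⧸ I))) = ⊤ := by
    intro I
    rw [eq_top_iff]
    rintro z -
    obtain ⟨t, rfl⟩ := Ideal.Quotient.mk_surjective z
    induction t using TensorProduct.induction_on with
    | zero => rw [map_zero]; exact Subalgebra.zero_mem _
    | tmul l y =>
      have h1 : (l ⊗ₜ[K] y : L ⊗[K] K₁) = l • algebraMap K₁ (L ⊗[K] K₁) y := by
        show l ⊗ₜ[K] y = l • ((1 : L) ⊗ₜ[K] y)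
        rw [TensorProduct.smul_tmul', smul_eq_mul, mul_one]
      rw [h1, ← Ideal.Quotient.mkₐ_eq_mk L, map_smul]
      apply Subalgebra.smul_mem
      apply Algebra.subset_adjoin
      exact ⟨y, rfl⟩
    | add a b ha hb => rw [map_add]; exact Subalgebra.add_mem _ ha hb
  have hper : ∀ 𝔪 : MaximalSpectrum (L ⊗[K] K₁), ∃ N : ℕ,
      (letI : Field ((L ⊗[K] K₁) ⧸ 𝔪.asIdeal) := Ideal.Quotient.field 𝔪.asIdeal
       DepthLE p B L K₁ a πB N ((L ⊗[K] K₁) ⧸ 𝔪.asIdeal)) := by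
    intro 𝔪
    letI : Field ((L ⊗[K] K₁) ⧸ 𝔪.asIdeal) := Ideal.Quotient.field 𝔪.asIdeal
    exact depth_bound_compositum p B K L K₁ hfin hN hπB a ha ((L ⊗[K] K₁) ⧸ 𝔪.asIdeal)
      (hgenQ 𝔪.asIdeal)
  choose Nf hNf using hper
  refine ⟨Finset.univ.sup Nf, ?_⟩
  intro F₁ _ _ _ _ _ _ hgen
  have hsurj := Groth.Agent.S1984.phi_surjective K L K₁ F₁ hgen
  have hmax : (RingHom.ker (Groth.Agent.S1984.phi K L K₁ F₁)).IsMaximal :=
    RingHom.ker_isMaximal_of_surjective _ hsurj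
  let 𝔪₀ : MaximalSpectrum (L ⊗[K] K₁) := ⟨RingHom.ker (Groth.Agent.S1984.phi K L K₁ F₁), hmax⟩
  letI : Field ((L ⊗[K] K₁) ⧸ 𝔪₀.asIdeal) := Ideal.Quotient.field 𝔪₀.asIdeal
  have h0 : DepthLE p B L K₁ a πB (Finset.univ.sup Nf) ((L ⊗[K] K₁) ⧸ 𝔪₀.asIdeal) :=
    (hNf 𝔪₀).mono p B L K₁ (Finset.le_sup (Finset.mem_univ 𝔪₀))
  let ψ : ((L ⊗[K] K₁) ⧸ 𝔪₀.asIdeal) ≃ₐ[L] F₁ := Ideal.quotientKerAlgEquivOfSurjective hsurj
  refine h0.of_equiv p B L K₁ ψ.toRingEquiv (fun l => ψ.commutes l) (fun k => ?_)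
  show ψ (Ideal.Quotient.mk _ (algebraMap K₁ (L ⊗[K] K₁) k)) = _
  rw [Ideal.quotientKerAlgEquivOfSurjective_mk]
  show Groth.Agent.S1984.phi K L K₁ F₁ ((1 : L) ⊗ₜ[K] k) = _
  simp [Groth.Agent.S1984.phi]

end D2

end EppSol

end Groth.Agent.Lib.helper10
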