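import Mathlib
import Groth.Prelude.Def_EtRam
import Groth.Prelude.Def_Found
import Groth.Agent.Lib.Helper10.EppSol4

/-!
Epp, separable solutions from purely inseparable ones (helper10), part 5:
extension of valuation rings, existence of best approximations by `p`-th powers.
-/

set_option autoImplicit false
set_option linter.unusedSectionVars false
set_option linter.style.haveILetI false

universe u

open IsLocalRing Polynomial

namespace Groth.Agent.Lib.helper10

namespace EppSol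

section Ext

/-- Chevalley: a valuation ring extends to any field extension. -/
theorem exists_extension {F₃ F₄ : Type u} [Field F₃] [Field F₄] [Algebra F₃ F₄]
    (W₃ : ValuationSubring F₃) :
    ∃ W₄ : ValuationSubring F₄, W₃ = W₄.comap (algebraMap F₃ F₄) := by
  obtain ⟨W₄, hmem, hloc⟩ := IsLocalRing.exists_factor_valuationRing
    ((algebraMap F₃ F₄).comp W₃.subtype)
  refine ⟨W₄, ?_⟩
  ext x
  rw [ValuationSubring.mem_comap]
  constructor
  · intro hx
    exact hmem ⟨x, hx⟩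
  · intro hx
    by_contra hxW
    have hx0 : x ≠ 0 := fun h => hxW (h ▸ W₃.zero_mem)
    have hinv : x⁻¹ ∈ W₃ := (W₃.mem_or_inv_mem x).resolve_left hxW
    -- the image of `x⁻¹` is a unit of `W₄`
    have hunit : IsUnit (((algebraMap F₃ F₄).comp W₃.subtype).codRestrict W₄.toSubring hmem
        ⟨x⁻¹, hinv⟩) := by
      refine IsUnit.of_mul_eq_one (⟨algebraMap F₃ F₄ x, hx⟩ : W₄) ?_
      apply Subtype.ext
      show algebraMap F₃ F₄ x⁻¹ * algebraMap F₃ F₄ x = 1
      rw [← map_mul, inv_mul_cancel₀ hx0, map_one]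
    have hu : IsUnit (⟨x⁻¹, hinv⟩ : W₃) := hloc.map_nonunit _ hunit
    obtain ⟨y, hy⟩ := hu.exists_right_inv
    have hy' : x⁻¹ * (y : F₃) = 1 := congrArg Subtype.val hy
    have : (y : F₃) = x := by
      field_simp at hy'
      exact hy'
    exact hxW (this ▸ y.2)

end Ext

section Best

theorem val_le_iff_of_discrete {F₁ : Type u} [Field F₁] (W₁ : ValuationSubring F₁)
    (v : Valuation F₁ (WithZero (Multiplicative ℤ))) (hv : ∀ x, x ∈ W₁ ↔ v x ≤ 1) (x y : F₁) :
    v x ≤ v y ↔ W₁.valuation x ≤ W₁.valuation y := by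
  by_cases hy : y = 0
  · subst hy
    simp only [map_zero, le_zero_iff, map_eq_zero]
  · have h1 : v y ≠ 0 := (Valuation.ne_zero_iff _).mpr hy
    have h2 : W₁.valuation y ≠ 0 := (Valuation.ne_zero_iff _).mpr hy
    rw [← div_le_one₀ (zero_lt_iff.mpr h1), ← div_le_one₀ (zero_lt_iff.mpr h2), ← map_div₀,
      ← map_div₀, ← hv, ValuationSubring.valuation_le_one_iff]

/-- existence of a best approximation of `a₁` by `p`-th powers, when the depth is bounded and the
valuation is discrete. -/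
theorem exists_best {F₁ : Type u} [Field F₁] (p : ℕ) (W₁ : ValuationSubring F₁)
    (v : Valuation F₁ (WithZero (Multiplicative ℤ))) (hv : ∀ x, x ∈ W₁ ↔ v x ≤ 1)
    (a₁ ϖ : F₁) (hϖ0 : ϖ ≠ 0) (N : ℕ) (hdepth : ∀ c : F₁, (a₁ - c ^ p) / ϖ ^ N ∉ W₁) :
    ∃ c₀ : F₁, ∀ c : F₁, W₁.valuation (a₁ - c₀ ^ p) ≤ W₁.valuation (a₁ - c ^ p) := by
  have hne : ∀ c : F₁, a₁ - c ^ p ≠ 0 := by
    intro c h0
    apply hdepth c
    rw [h0, zero_div]
    exact W₁.zero_mem
  have hvne : ∀ c : F₁, v (a₁ - c ^ p) ≠ 0 := fun c => (Valuation.ne_zero_iff _).mpr (hne c)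
  have hvϖ : v (ϖ ^ N) ≠ 0 := (Valuation.ne_zero_iff _).mpr (pow_ne_zero _ hϖ0)
  have hlow : ∀ c : F₁, WithZero.log (v (ϖ ^ N)) ≤ WithZero.log (v (a₁ - c ^ p)) := by
    intro c
    have h1 := hdepth c
    rw [hv, map_div₀, not_le, one_lt_div₀ (zero_lt_iff.mpr hvϖ)] at h1
    rw [← WithZero.exp_le_exp, WithZero.exp_log hvϖ, WithZero.exp_log (hvne c)]
    exact h1.le
  obtain ⟨k₀, ⟨c₀, hc₀⟩, hmin⟩ := Int.exists_least_of_bdd
    (P := fun z => ∃ c : F₁, WithZero.log (v (a₁ - c ^ p)) = z)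
    ⟨WithZero.log (v (ϖ ^ N)), fun z ⟨c, hc⟩ => hc ▸ hlow c⟩ ⟨_, 0, rfl⟩
  refine ⟨c₀, fun c => ?_⟩
  rw [← val_le_iff_of_discrete W₁ v hv, ← WithZero.exp_log (hvne c₀), ← WithZero.exp_log (hvne c),
    WithZero.exp_le_exp, hc₀]
  exact hmin _ ⟨c, rfl⟩

end Best

end EppSol

end Groth.Agent.Lib.helper10
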