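import Mathlib
import Groth.Prelude.Def_EtRam
import Groth.Prelude.Def_Found
import Groth.Agent.Lib.Helper10.EppSol5
import Groth.Agent.Lib.Helper10.CompDvr3

/-!
Epp, separable solutions from purely inseparable ones (helper10), part 6:
composita inside a big field, domination, representation of elements by polynomials of small degree.
-/

set_option autoImplicit false
set_option linter.unusedSectionVars false
set_option linter.style.haveILetI false

universe u

open IsLocalRing Polynomial

namespace Groth.Agent.Lib.helper10

namespace EppSol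

section Gen

variable (K L K' F : Type u) [Field K] [Field L] [Field K'] [Field F]
  [Algebra K L] [Algebra K K'] [Algebra K F] [Algebra L F] [Algebra K' F]
  [IsScalarTower K L F] [IsScalarTower K K' F]

/-- the compositum of `L` and `K'` inside `F`. -/
abbrev Comp : IntermediateField L F := IntermediateField.adjoin L (Set.range (algebraMap K' F))

/-- the `K'`-algebra structure of the compositum -/
@[reducible] noncomputable def compAlg : Algebra K' (Comp L K' F) :=
  (RingHom.codRestrict (algebraMap K' F) (Comp L K' F)
    (fun x => IntermediateField.subset_adjoin L _ ⟨x, rfl⟩)).toAlgebra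

theorem comp_tower₁ :
    letI := compAlg L K' F
    IsScalarTower K K' (Comp L K' F) := by
  letI := compAlg L K' F
  refine IsScalarTower.of_algebraMap_eq (fun x => ?_)
  apply Subtype.ext
  show algebraMap K F x = algebraMap K' F (algebraMap K K' x)
  rw [← IsScalarTower.algebraMap_apply]

theorem comp_tower₂ :
    letI := compAlg L K' F
    IsScalarTower K' (Comp L K' F) F := by
  letI := compAlg L K' F
  exact IsScalarTower.of_algebraMap_eq (fun x => rfl)

/-- the subfield generated by `L` and `K'` is a compositum. -/
theorem comp_gen (halgK : Algebra.IsAlgebraic K K') :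
    letI := compAlg L K' F
    Algebra.adjoin L (Set.range (algebraMap K' (Comp L K' F))) = ⊤ := by
  letI := compAlg L K' F
  haveI := halgK
  have halg : ∀ x ∈ Set.range (algebraMap K' F), IsAlgebraic L x := by
    rintro _ ⟨k, rfl⟩
    have h1 : IsAlgebraic K k := Algebra.IsAlgebraic.isAlgebraic k
    have h2 : IsAlgebraic K (algebraMap K' F k) :=
      (isAlgebraic_algebraMap_iff (algebraMap K' F).injective).mpr h1
    exact h2.tower_top L
  have h1 : (Comp L K' F).toSubalgebra =
      Algebra.adjoin L (Set.range (algebraMap K' F)) :=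
    IntermediateField.adjoin_toSubalgebra_of_isAlgebraic halg
  have key : ∀ y (_ : y ∈ Algebra.adjoin L (Set.range (algebraMap K' F)))
      (h : y ∈ Comp L K' F),
      (⟨y, h⟩ : Comp L K' F) ∈
        Algebra.adjoin L (Set.range (algebraMap K' (Comp L K' F))) := by
    have hle : Algebra.adjoin L (Set.range (algebraMap K' F)) ≤
        (Comp L K' F).toSubalgebra := h1.ge
    intro y hy
    induction hy using Algebra.adjoin_induction with
    | mem y hy =>
      intro h
      obtain ⟨k, rfl⟩ := hy
      apply Algebra.subset_adjoin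
      exact ⟨k, rfl⟩
    | algebraMap r =>
      intro h
      exact Subalgebra.algebraMap_mem _ r
    | add y y' hy hy' ihy ihy' =>
      intro h
      exact Subalgebra.add_mem _ (ihy (hle hy)) (ihy' (hle hy'))
    | mul y y' hy hy' ihy ihy' =>
      intro h
      exact Subalgebra.mul_mem _ (ihy (hle hy)) (ihy' (hle hy'))
  rw [eq_top_iff]
  rintro ⟨x, hx⟩ -
  have hx' : x ∈ (Comp L K' F).toSubalgebra := hx
  rw [h1] at hx'
  exact key x hx' hx

/-- elements of the compositum are polynomial expressions -/
theorem comp_toSubalgebra (halgK : Algebra.IsAlgebraic K K') :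
    (Comp L K' F).toSubalgebra = Algebra.adjoin L (Set.range (algebraMap K' F)) := by
  haveI := halgK
  have halg : ∀ x ∈ Set.range (algebraMap K' F), IsAlgebraic L x := by
    rintro _ ⟨k, rfl⟩
    have h1 : IsAlgebraic K k := Algebra.IsAlgebraic.isAlgebraic k
    have h2 : IsAlgebraic K (algebraMap K' F k) :=
      (isAlgebraic_algebraMap_iff (algebraMap K' F).injective).mpr h1
    exact h2.tower_top L
  exact IntermediateField.adjoin_toSubalgebra_of_isAlgebraic halg

end Gen

section Rep

variable {F₁ Ω : Type u} [Field F₁] [Field Ω] [Algebra F₁ Ω]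

/-- reduction of a polynomial expression modulo a monic equation. -/
theorem rep_of_root (p : ℕ) (t : Ω) (G : F₁[X]) (hG : G.Monic) (hGdeg : G.natDegree = p)
    (hp : 0 < p) (hGt : aeval t G = 0) (x : Ω) (hx : x ∈ Algebra.adjoin F₁ {t}) :
    ∃ h : F₁[X], h.natDegree < p ∧ x = aeval t h := by
  rw [Algebra.adjoin_singleton_eq_range_aeval] at hx
  obtain ⟨h, rfl⟩ := hx
  refine ⟨h %ₘ G, ?_, ?_⟩
  · rw [← hGdeg]
    apply natDegree_modByMonic_lt h hG
    intro h1
    rw [h1, natDegree_one] at hGdeg
    omega
  · show aeval t h = aeval t (h %ₘ G)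
    have h1 : aeval t h = aeval t (h %ₘ G + G * (h /ₘ G)) := by rw [modByMonic_add_div h G]
    rw [h1, map_add, map_mul, hGt, zero_mul, add_zero]

end Rep

section Dom

variable (B : Type u) [CommRing B] [IsLocalRing B] {L F₃ F₄ : Type u} [Field L] [Field F₃]
  [Field F₄] [Algebra B L] [Algebra L F₃] [Algebra L F₄] [Algebra F₃ F₄] [IsScalarTower L F₃ F₄]

theorem dominates_of_comap (W₃ : ValuationSubring F₃) (W₄ : ValuationSubring F₄)
    (hW₄ : W₃ = W₄.comap (algebraMap F₃ F₄))
    (hdom₃ : EtRam.Dominates B ((algebraMap L F₃).comp (algebraMap B L)) W₃) :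
    EtRam.Dominates B ((algebraMap L F₄).comp (algebraMap B L)) W₄ := by
  subst hW₄
  refine ⟨fun b => ?_, fun b hb => ?_⟩
  · have := hdom₃.1 b
    rw [ValuationSubring.mem_comap] at this
    show algebraMap L F₄ (algebraMap B L b) ∈ W₄
    rw [IsScalarTower.algebraMap_apply L F₃ F₄]
    exact this
  · have := hdom₃.2 b hb
    rw [TotRam.comap_val_lt_one_iff] at this
    show W₄.valuation (algebraMap L F₄ (algebraMap B L b)) < 1
    rw [IsScalarTower.algebraMap_apply L F₃ F₄]
    exact this

theorem dominates_comap (W₄ : ValuationSubring F₄)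
    (hdom₄ : EtRam.Dominates B ((algebraMap L F₄).comp (algebraMap B L)) W₄) :
    EtRam.Dominates B ((algebraMap L F₃).comp (algebraMap B L))
      (W₄.comap (algebraMap F₃ F₄)) := by
  refine ⟨fun b => ?_, fun b hb => ?_⟩
  · rw [ValuationSubring.mem_comap]
    show algebraMap F₃ F₄ (algebraMap L F₃ (algebraMap B L b)) ∈ W₄
    rw [← IsScalarTower.algebraMap_apply L F₃ F₄]
    exact hdom₄.1 b
  · rw [TotRam.comap_val_lt_one_iff]
    show W₄.valuation (algebraMap F₃ F₄ (algebraMap L F₃ (algebraMap B L b))) < 1
    rw [← IsScalarTower.algebraMap_apply L F₃ F₄]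
    exact hdom₄.2 b hb

end Dom

end EppSol

end Groth.Agent.Lib.helper10
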