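import Mathlib
import Groth.Prelude.Def_EtRam
import Groth.Prelude.Def_Found
import Groth.Agent.Lib.Helper10.EppSol1
import Groth.Agent.Lib.Helper10.EppSol2
import Groth.Agent.Lib.Helper10.EppSol4
import Groth.Agent.Lib.Helper10.EppSol6
import Groth.Agent.S1984

/-!
Epp, separable solutions from purely inseparable ones (helper10), part 7:
the local step inside a common big valued field.
-/

set_option autoImplicit false
set_option linter.unusedSectionVars false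
set_option linter.style.haveILetI false

universe u

open IsLocalRing Polynomial

namespace Groth.Agent.Lib.helper10

namespace EppSol

section Core

variable (p : ℕ) [Fact p.Prime]
  (B K L K₁ K₂ K₃ : Type u) [CommRing B] [IsDomain B] [IsDiscreteValuationRing B]
  [Field K] [Field L] [Field K₁] [Field K₂] [Field K₃]
  [Algebra B L] [IsFractionRing B L] [Algebra K L] [CharP K p]
  [Algebra.IsGeometricallyReduced K L]
  [Algebra K K₁] [Algebra K K₂] [Algebra K₁ K₂] [IsScalarTower K K₁ K₂]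
  [Algebra K K₃] [Algebra K₁ K₃] [IsScalarTower K K₁ K₃]

theorem local_core (hfin₁ : Module.Finite K K₁) (hfin₂ : Module.Finite K K₂)
    {πB : B} (hπB : Irreducible πB) (a : K₁)
    (θ₂ : K₂) (hθ₂ : θ₂ ^ p = algebraMap K₁ K₂ a)
    (hrep₂ : ∀ k₂ : K₂, ∃ h : K₁[X], h.natDegree < p ∧ k₂ = aeval θ₂ h)
    (hsol : EtRam.IsSolution B K L K₂)
    (N : ℕ) (hdepth : ∀ (F₁ : Type u) [Field F₁] [Algebra K F₁] [Algebra L F₁] [Algebra K₁ F₁]
      [IsScalarTower K L F₁] [IsScalarTower K K₁ F₁],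
      Algebra.adjoin L (Set.range (algebraMap K₁ F₁)) = ⊤ → DepthLE p B L K₁ a πB N F₁)
    (ε₀ : K) (b₀ : B) (hε₀ : algebraMap K L ε₀ = algebraMap B L (πB ^ N * b₀))
    (z₃ : K₃) (hz₃ : z₃ ^ p - algebraMap K₁ K₃ (algebraMap K K₁ ε₀) * z₃ = algebraMap K₁ K₃ a)
    (hrep₃ : ∀ k₃ : K₃, ∃ h : K₁[X], h.natDegree < p ∧ k₃ = aeval z₃ h)
    (F₃ : Type u) [Field F₃] [Algebra K F₃] [Algebra L F₃] [Algebra K₃ F₃]
    [IsScalarTower K L F₃] [IsScalarTower K K₃ F₃]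
    (hgen₃ : Algebra.adjoin L (Set.range (algebraMap K₃ F₃)) = ⊤)
    (W₃ : ValuationSubring F₃)
    (hdom₃ : EtRam.Dominates B ((algebraMap L F₃).comp (algebraMap B L)) W₃)
    (F₄ : Type u) [Field F₄] [Algebra F₃ F₄] [Algebra K F₄] [Algebra L F₄] [Algebra K₁ F₄]
    [Algebra K₂ F₄] [Algebra K₃ F₄]
    [IsScalarTower K L F₄] [IsScalarTower K K₁ F₄] [IsScalarTower K₁ K₂ F₄]
    [IsScalarTower K₁ K₃ F₄] [IsScalarTower L F₃ F₄] [IsScalarTower K₃ F₃ F₄]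
    (W₄ : ValuationSubring F₄) (hW₄ : W₃ = W₄.comap (algebraMap F₃ F₄))
    (haW : algebraMap K₁ F₄ a ∈ W₄) :
    letI : Algebra (W₃.comap (algebraMap K₃ F₃)) W₃ :=
      (EtRam.inclOfComap W₃ (algebraMap K₃ F₃)).toAlgebra
    EtRam.IsWeaklyUnramified (W₃.comap (algebraMap K₃ F₃)) W₃ ∧
      @Algebra.IsGeometricallyReduced (ResidueField (W₃.comap (algebraMap K₃ F₃)))
        (ResidueField W₃) _ _
        (ResidueField.map (EtRam.inclOfComap W₃ (algebraMap K₃ F₃))).toAlgebra := by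
  have hp : p.Prime := Fact.out
  haveI := hfin₁
  haveI := hfin₂
  have halg₁ : Algebra.IsAlgebraic K K₁ := Algebra.IsAlgebraic.of_finite K K₁
  have halg₂ : Algebra.IsAlgebraic K K₂ := Algebra.IsAlgebraic.of_finite K K₂
  haveI : IsScalarTower K K₂ F₄ := IsScalarTower.of_algebraMap_eq (fun x => by
    rw [IsScalarTower.algebraMap_apply K K₁ F₄, IsScalarTower.algebraMap_apply K₁ K₂ F₄,
      ← IsScalarTower.algebraMap_apply K K₁ K₂])
  -- the composita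
  letI algF₁ : Algebra K₁ (Comp L K₁ F₄) := compAlg L K₁ F₄
  haveI tw₁ : IsScalarTower K K₁ (Comp L K₁ F₄) := comp_tower₁ K L K₁ F₄
  haveI tw₁' : IsScalarTower K₁ (Comp L K₁ F₄) F₄ := comp_tower₂ L K₁ F₄
  have hgen₁ : Algebra.adjoin L (Set.range (algebraMap K₁ (Comp L K₁ F₄))) = ⊤ :=
    comp_gen K L K₁ F₄ halg₁
  letI algF₂ : Algebra K₂ (Comp L K₂ F₄) := compAlg L K₂ F₄
  haveI tw₂ : IsScalarTower K K₂ (Comp L K₂ F₄) := comp_tower₁ K L K₂ F₄
  haveI tw₂' : IsScalarTower K₂ (Comp L K₂ F₄) F₄ := comp_tower₂ L K₂ F₄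
  have hgen₂ : Algebra.adjoin L (Set.range (algebraMap K₂ (Comp L K₂ F₄))) = ⊤ :=
    comp_gen K L K₂ F₄ halg₂
  haveI : CharP F₄ p := charP_of_injective_algebraMap (algebraMap K F₄).injective p
  haveI : CharP (Comp L K₁ F₄) p :=
    charP_of_injective_algebraMap (algebraMap K (Comp L K₁ F₄)).injective p
  -- domination
  have hdom₄ : EtRam.Dominates B ((algebraMap L F₄).comp (algebraMap B L)) W₄ :=
    dominates_of_comap B W₃ W₄ hW₄ hdom₃
  have hdom₁ : EtRam.Dominates B ((algebraMap L (Comp L K₁ F₄)).comp (algebraMap B L))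
      (W₄.comap (algebraMap (Comp L K₁ F₄) F₄)) := dominates_comap B W₄ hdom₄
  have hdom₂ : EtRam.Dominates B ((algebraMap L (Comp L K₂ F₄)).comp (algebraMap B L))
      (W₄.comap (algebraMap (Comp L K₂ F₄) F₄)) := dominates_comap B W₄ hdom₄
  -- discrete valuation on `F₁`
  obtain ⟨hfd₁, -⟩ := Groth.Agent.S1984.finite_of_gen K L K₁ (Comp L K₁ F₄) hgen₁
  letI algB₁ : Algebra B (Comp L K₁ F₄) :=
    ((algebraMap L (Comp L K₁ F₄)).comp (algebraMap B L)).toAlgebra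
  haveI : IsScalarTower B L (Comp L K₁ F₄) := IsScalarTower.of_algebraMap_eq (fun _ => rfl)
  obtain ⟨v, hv, -, -⟩ := CompDvr.exists_discrete_valuation B L (Comp L K₁ F₄)
    (W₄.comap (algebraMap (Comp L K₁ F₄) F₄)) hdom₁
  have hπB0 : algebraMap L (Comp L K₁ F₄) (algebraMap B L πB) ≠ 0 := by
    rw [Ne, map_eq_zero, map_eq_zero_iff _ (IsFractionRing.injective B L)]
    exact hπB.ne_zero
  have hd := hdepth (Comp L K₁ F₄) hgen₁ (W₄.comap (algebraMap (Comp L K₁ F₄) F₄)) hdom₁ N le_rfl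
  obtain ⟨c₀, hc₀⟩ := exists_best p (W₄.comap (algebraMap (Comp L K₁ F₄) F₄)) v hv
    (algebraMap K₁ (Comp L K₁ F₄) a) (algebraMap L (Comp L K₁ F₄) (algebraMap B L πB)) hπB0 N hd
  have hbest : ∀ c : Comp L K₁ F₄,
      W₄.valuation (algebraMap (Comp L K₁ F₄) F₄ (algebraMap K₁ (Comp L K₁ F₄) a - c₀ ^ p)) ≤
      W₄.valuation (algebraMap (Comp L K₁ F₄) F₄ (algebraMap K₁ (Comp L K₁ F₄) a - c ^ p)) :=
    fun c => (comap_val_le_iff W₄ (algebraMap (Comp L K₁ F₄) F₄) _ _).mp (hc₀ c)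
  -- the elements θ, z
  have hθ : (algebraMap K₂ F₄ θ₂) ^ p =
      algebraMap (Comp L K₁ F₄) F₄ (algebraMap K₁ (Comp L K₁ F₄) a) := by
    rw [← map_pow, hθ₂, ← IsScalarTower.algebraMap_apply K₁ K₂ F₄]
    rfl
  have hz : (algebraMap K₃ F₄ z₃) ^ p =
      algebraMap (Comp L K₁ F₄) F₄ (algebraMap K₁ (Comp L K₁ F₄) a) +
        algebraMap K F₄ ε₀ * algebraMap K₃ F₄ z₃ := by
    have h1 := congrArg (algebraMap K₃ F₄) hz₃
    rw [map_sub, map_mul, map_pow, ← IsScalarTower.algebraMap_apply K₁ K₃ F₄,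
      ← IsScalarTower.algebraMap_apply K₁ K₃ F₄, ← IsScalarTower.algebraMap_apply K K₁ F₄] at h1
    have h2 : algebraMap (Comp L K₁ F₄) F₄ (algebraMap K₁ (Comp L K₁ F₄) a) =
        algebraMap K₁ F₄ a := rfl
    rw [h2, ← h1]
    ring
  -- size of ε
  have hε₄ : algebraMap K F₄ ε₀ =
      (algebraMap L F₄ (algebraMap B L πB)) ^ N * algebraMap L F₄ (algebraMap B L b₀) := by
    rw [IsScalarTower.algebraMap_apply K L F₄, hε₀, map_mul, map_mul, map_pow, map_pow]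
  have hvb₀ : W₄.valuation (algebraMap L F₄ (algebraMap B L b₀)) ≤ 1 :=
    (ValuationSubring.valuation_le_one_iff W₄ _).mpr (hdom₄.1 b₀)
  have hvπ : W₄.valuation (algebraMap L F₄ (algebraMap B L πB)) ≤ 1 :=
    (ValuationSubring.valuation_le_one_iff W₄ _).mpr (hdom₄.1 πB)
  have hvε : W₄.valuation (algebraMap K F₄ ε₀) ≤
      W₄.valuation ((algebraMap L F₄ (algebraMap B L πB)) ^ N) := by
    rw [hε₄, map_mul]
    exact mul_le_of_le_one_right' hvb₀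
  have hvε1 : W₄.valuation (algebraMap K F₄ ε₀) ≤ 1 := by
    refine hvε.trans ?_
    rw [map_pow]
    exact pow_le_one' hvπ N
  have hva : W₄.valuation (algebraMap (Comp L K₁ F₄) F₄ (algebraMap K₁ (Comp L K₁ F₄) a)) ≤ 1 :=
    (ValuationSubring.valuation_le_one_iff W₄ _).mpr haW
  -- `z` is integral
  have hvz : W₄.valuation (algebraMap K₃ F₄ z₃) ≤ 1 := by
    by_contra hcon
    rw [not_le] at hcon
    have h1 : W₄.valuation ((algebraMap K₃ F₄ z₃) ^ p) =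
        W₄.valuation (algebraMap K₃ F₄ z₃) ^ p := map_pow _ _ _
    have h2 : W₄.valuation (algebraMap K₃ F₄ z₃) < W₄.valuation (algebraMap K₃ F₄ z₃) ^ p := by
      calc W₄.valuation (algebraMap K₃ F₄ z₃) = W₄.valuation (algebraMap K₃ F₄ z₃) ^ 1 :=
            (pow_one _).symm
        _ < W₄.valuation (algebraMap K₃ F₄ z₃) ^ p :=
            pow_lt_pow_right₀ hcon hp.one_lt
    have h3 : W₄.valuation (algebraMap (Comp L K₁ F₄) F₄ (algebraMap K₁ (Comp L K₁ F₄) a) +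
        algebraMap K F₄ ε₀ * algebraMap K₃ F₄ z₃) < W₄.valuation (algebraMap K₃ F₄ z₃) ^ p := by
      apply Valuation.map_add_lt
      · exact lt_of_le_of_lt hva (hcon.trans h2)
      · rw [map_mul]
        calc W₄.valuation (algebraMap K F₄ ε₀) * W₄.valuation (algebraMap K₃ F₄ z₃)
            ≤ 1 * W₄.valuation (algebraMap K₃ F₄ z₃) := mul_le_mul' hvε1 le_rfl
          _ = W₄.valuation (algebraMap K₃ F₄ z₃) := one_mul _
          _ < _ := h2
    rw [← hz, h1] at h3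
    exact lt_irrefl _ h3
  have hsmall : W₄.valuation (algebraMap K F₄ ε₀ * algebraMap K₃ F₄ z₃) <
      W₄.valuation (algebraMap (Comp L K₁ F₄) F₄ (algebraMap K₁ (Comp L K₁ F₄) a - c₀ ^ p)) := by
    have h1 := hd c₀
    rw [ValuationSubring.mem_comap, ← ValuationSubring.valuation_le_one_iff, not_le, map_div₀,
      map_div₀, one_lt_div₀] at h1
    · refine lt_of_le_of_lt ?_ h1
      rw [map_mul]
      calc W₄.valuation (algebraMap K F₄ ε₀) * W₄.valuation (algebraMap K₃ F₄ z₃)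
          ≤ W₄.valuation (algebraMap K F₄ ε₀) * 1 := mul_le_mul' le_rfl hvz
        _ = W₄.valuation (algebraMap K F₄ ε₀) := mul_one _
        _ ≤ _ := hvε
    · rw [zero_lt_iff, Valuation.ne_zero_iff, Ne, map_eq_zero]
      exact pow_ne_zero _ hπB0
  have KL : ∀ h : (Comp L K₁ F₄)[X], h.natDegree < p →
      Close W₄ (aeval (algebraMap K₂ F₄ θ₂) h) (aeval (algebraMap K₃ F₄ z₃) h) :=
    fun h hdeg => close_of_best p W₄ (algebraMap K₁ (Comp L K₁ F₄) a) c₀ (algebraMap K₂ F₄ θ₂)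
      (algebraMap K₃ F₄ z₃) (algebraMap K F₄ ε₀ * algebraMap K₃ F₄ z₃) hθ hz hbest hsmall h hdeg
  -- monic equations
  have hGθ_monic : (X ^ p - C (algebraMap K₁ (Comp L K₁ F₄) a) : (Comp L K₁ F₄)[X]).Monic :=
    monic_X_pow_sub_C _ hp.ne_zero
  have hGθ_deg : (X ^ p - C (algebraMap K₁ (Comp L K₁ F₄) a) : (Comp L K₁ F₄)[X]).natDegree = p :=
    natDegree_X_pow_sub_C
  have hGθ_root : aeval (algebraMap K₂ F₄ θ₂)
      (X ^ p - C (algebraMap K₁ (Comp L K₁ F₄) a) : (Comp L K₁ F₄)[X]) = 0 := by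
    rw [map_sub, map_pow, aeval_X, aeval_C, hθ, sub_self]
  have hq_deg : (C (algebraMap K (Comp L K₁ F₄) ε₀) * X + C (algebraMap K₁ (Comp L K₁ F₄) a) :
      (Comp L K₁ F₄)[X]).degree < (p : WithBot ℕ) := by
    refine lt_of_le_of_lt (degree_linear_le) ?_
    have : (1 : ℕ) < p := hp.one_lt
    exact_mod_cast this
  have hGz_monic : (X ^ p - (C (algebraMap K (Comp L K₁ F₄) ε₀) * X +
      C (algebraMap K₁ (Comp L K₁ F₄) a)) : (Comp L K₁ F₄)[X]).Monic :=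
    monic_X_pow_sub hq_deg
  have hGz_deg : (X ^ p - (C (algebraMap K (Comp L K₁ F₄) ε₀) * X +
      C (algebraMap K₁ (Comp L K₁ F₄) a)) : (Comp L K₁ F₄)[X]).natDegree = p := by
    have h1 : (C (algebraMap K (Comp L K₁ F₄) ε₀) * X + C (algebraMap K₁ (Comp L K₁ F₄) a) :
      (Comp L K₁ F₄)[X]).natDegree < (X ^ p : (Comp L K₁ F₄)[X]).natDegree := by
      rw [natDegree_X_pow]
      exact lt_of_le_of_lt (natDegree_linear_le) hp.one_lt
    rw [natDegree_sub_eq_left_of_natDegree_lt h1, natDegree_X_pow]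
  have hGz_root : aeval (algebraMap K₃ F₄ z₃)
      (X ^ p - (C (algebraMap K (Comp L K₁ F₄) ε₀) * X +
      C (algebraMap K₁ (Comp L K₁ F₄) a)) : (Comp L K₁ F₄)[X]) = 0 := by
    rw [map_sub, map_pow, aeval_X, map_add, map_mul, aeval_X, aeval_C, aeval_C, hz]
    have : algebraMap (Comp L K₁ F₄) F₄ (algebraMap K (Comp L K₁ F₄) ε₀) = algebraMap K F₄ ε₀ := rfl
    rw [this]
    ring
  -- images of `K₂`, `K₃` as polynomial expressions
  have himK₂ : ∀ h : K₁[X], algebraMap K₂ F₄ (aeval θ₂ h) =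
      aeval (algebraMap K₂ F₄ θ₂) (h.map (algebraMap K₁ (Comp L K₁ F₄))) := by
    intro h
    rw [aeval_map_algebraMap, aeval_algebraMap_apply]
  have himK₃ : ∀ h : K₁[X], algebraMap K₃ F₄ (aeval z₃ h) =
      aeval (algebraMap K₃ F₄ z₃) (h.map (algebraMap K₁ (Comp L K₁ F₄))) := by
    intro h
    rw [aeval_map_algebraMap, aeval_algebraMap_apply]
  -- membership in the simple extensions of `F₁`
  have claim2 : ∀ x₂ : Comp L K₂ F₄,
      (x₂ : F₄) ∈ Algebra.adjoin (Comp L K₁ F₄) {algebraMap K₂ F₄ θ₂} := by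
    intro x₂
    have h1 : (x₂ : F₄) ∈ (Comp L K₂ F₄).toSubalgebra := x₂.2
    rw [comp_toSubalgebra K L K₂ F₄ halg₂] at h1
    have hle : Algebra.adjoin L (Set.range (algebraMap K₂ F₄)) ≤
        (Algebra.adjoin (Comp L K₁ F₄) {algebraMap K₂ F₄ θ₂}).restrictScalars L := by
      apply Algebra.adjoin_le
      rintro _ ⟨k₂, rfl⟩
      obtain ⟨h, -, rfl⟩ := hrep₂ k₂
      show algebraMap K₂ F₄ (aeval θ₂ h) ∈ Algebra.adjoin (Comp L K₁ F₄) {algebraMap K₂ F₄ θ₂}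
      rw [himK₂, Algebra.adjoin_singleton_eq_range_aeval]
      exact ⟨_, rfl⟩
    exact hle h1
  have claim3 : ∀ x₃ : F₃,
      algebraMap F₃ F₄ x₃ ∈ Algebra.adjoin (Comp L K₁ F₄) {algebraMap K₃ F₄ z₃} := by
    intro x₃
    have h1 : x₃ ∈ Algebra.adjoin L (Set.range (algebraMap K₃ F₃)) := by
      rw [hgen₃]; exact Algebra.mem_top
    induction h1 using Algebra.adjoin_induction with
    | mem y hy =>
      obtain ⟨k₃, rfl⟩ := hy
      obtain ⟨h, -, rfl⟩ := hrep₃ k₃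
      rw [← IsScalarTower.algebraMap_apply K₃ F₃ F₄, himK₃,
        Algebra.adjoin_singleton_eq_range_aeval]
      exact ⟨_, rfl⟩
    | algebraMap l =>
      rw [← IsScalarTower.algebraMap_apply L F₃ F₄]
      exact Subalgebra.algebraMap_mem _ (algebraMap L (Comp L K₁ F₄) l)
    | add y y' _ _ ihy ihy' => rw [map_add]; exact Subalgebra.add_mem _ ihy ihy'
    | mul y y' _ _ ihy ihy' => rw [map_mul]; exact Subalgebra.mul_mem _ ihy ihy'
  -- `F₁` inside `F₂'` and inside the image of `F₃`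
  have hF₁F₂ : Comp L K₁ F₄ ≤ Comp L K₂ F₄ := by
    rw [IntermediateField.adjoin_le_iff]
    rintro _ ⟨k, rfl⟩
    rw [IsScalarTower.algebraMap_apply K₁ K₂ F₄]
    exact IntermediateField.subset_adjoin L _ ⟨_, rfl⟩
  have hF₁F₃ : Comp L K₁ F₄ ≤ (IsScalarTower.toAlgHom L F₃ F₄).fieldRange := by
    rw [IntermediateField.adjoin_le_iff]
    rintro _ ⟨k, rfl⟩
    rw [IsScalarTower.algebraMap_apply K₁ K₃ F₄, IsScalarTower.algebraMap_apply K₃ F₃ F₄]
    exact ⟨_, rfl⟩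
  have hθmem : algebraMap K₂ F₄ θ₂ ∈ Comp L K₂ F₄ :=
    IntermediateField.subset_adjoin L _ ⟨_, rfl⟩
  have hzmem : algebraMap K₃ F₄ z₃ ∈ (IsScalarTower.toAlgHom L F₃ F₄).fieldRange := by
    rw [IsScalarTower.algebraMap_apply K₃ F₃ F₄]
    exact ⟨_, rfl⟩
  have haevalθ : ∀ h : (Comp L K₁ F₄)[X], aeval (algebraMap K₂ F₄ θ₂) h ∈ Comp L K₂ F₄ := by
    intro h
    rw [aeval_def, eval₂_eq_sum_range]
    refine sum_mem (fun i _ => mul_mem (hF₁F₂ (h.coeff i).2) (pow_mem hθmem i))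
  have haevalz : ∀ h : (Comp L K₁ F₄)[X],
      aeval (algebraMap K₃ F₄ z₃) h ∈ (IsScalarTower.toAlgHom L F₃ F₄).fieldRange := by
    intro h
    rw [aeval_def, eval₂_eq_sum_range]
    refine sum_mem (fun i _ => mul_mem (hF₁F₃ (h.coeff i).2) (pow_mem hzmem i))
  -- closeness
  have hF23 : ∀ x₂ : Comp L K₂ F₄, ∃ x₃ : F₃,
      Close W₄ (algebraMap (Comp L K₂ F₄) F₄ x₂) (algebraMap F₃ F₄ x₃) := by
    intro x₂
    obtain ⟨h, hdeg, hx⟩ := rep_of_root p (algebraMap K₂ F₄ θ₂) _ hGθ_monic hGθ_deg hp.pos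
      hGθ_root (x₂ : F₄) (claim2 x₂)
    obtain ⟨x₃, hx₃⟩ := haevalz h
    refine ⟨x₃, ?_⟩
    have e1 : algebraMap (Comp L K₂ F₄) F₄ x₂ = aeval (algebraMap K₂ F₄ θ₂) h := hx
    have e2 : algebraMap F₃ F₄ x₃ = aeval (algebraMap K₃ F₄ z₃) h := hx₃
    rw [e1, e2]
    exact KL h hdeg
  have hF32 : ∀ x₃ : F₃, ∃ x₂ : Comp L K₂ F₄,
      Close W₄ (algebraMap (Comp L K₂ F₄) F₄ x₂) (algebraMap F₃ F₄ x₃) := by
    intro x₃
    obtain ⟨h, hdeg, hx⟩ := rep_of_root p (algebraMap K₃ F₄ z₃) _ hGz_monic hGz_deg hp.pos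
      hGz_root (algebraMap F₃ F₄ x₃) (claim3 x₃)
    refine ⟨⟨aeval (algebraMap K₂ F₄ θ₂) h, haevalθ h⟩, ?_⟩
    have e1 : algebraMap (Comp L K₂ F₄) F₄ ⟨aeval (algebraMap K₂ F₄ θ₂) h, haevalθ h⟩ =
        aeval (algebraMap K₂ F₄ θ₂) h := rfl
    rw [e1, hx]
    exact KL h hdeg
  have hK23 : ∀ k₂ : K₂, ∃ k₃ : K₃,
      Close W₄ (algebraMap (Comp L K₂ F₄) F₄ (algebraMap K₂ (Comp L K₂ F₄) k₂))
        (algebraMap F₃ F₄ (algebraMap K₃ F₃ k₃)) := by
    intro k₂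
    obtain ⟨h, hdeg, rfl⟩ := hrep₂ k₂
    refine ⟨aeval z₃ h, ?_⟩
    have e1 : algebraMap (Comp L K₂ F₄) F₄ (algebraMap K₂ (Comp L K₂ F₄) (aeval θ₂ h)) =
        algebraMap K₂ F₄ (aeval θ₂ h) := rfl
    rw [e1, ← IsScalarTower.algebraMap_apply K₃ F₃ F₄, himK₂, himK₃]
    exact KL _ (lt_of_le_of_lt natDegree_map_le hdeg)
  have hK32 : ∀ k₃ : K₃, ∃ k₂ : K₂,
      Close W₄ (algebraMap (Comp L K₂ F₄) F₄ (algebraMap K₂ (Comp L K₂ F₄) k₂))
        (algebraMap F₃ F₄ (algebraMap K₃ F₃ k₃)) := by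
    intro k₃
    obtain ⟨h, hdeg, rfl⟩ := hrep₃ k₃
    refine ⟨aeval θ₂ h, ?_⟩
    have e1 : algebraMap (Comp L K₂ F₄) F₄ (algebraMap K₂ (Comp L K₂ F₄) (aeval θ₂ h)) =
        algebraMap K₂ F₄ (aeval θ₂ h) := rfl
    rw [e1, ← IsScalarTower.algebraMap_apply K₃ F₃ F₄, himK₂, himK₃]
    exact KL _ (lt_of_le_of_lt natDegree_map_le hdeg)
  exact transfer W₄ (algebraMap K₂ (Comp L K₂ F₄)) (algebraMap (Comp L K₂ F₄) F₄)
    (algebraMap K₃ F₃) (algebraMap F₃ F₄) (W₄.comap (algebraMap (Comp L K₂ F₄) F₄)) rfl W₃ hW₄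
    hF23 hF32 hK23 hK32 (hsol (Comp L K₂ F₄) hgen₂ _ hdom₂)

end Core

end EppSol

end Groth.Agent.Lib.helper10
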