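import Mathlib
import Groth.Prelude.Def_EtRam
import Groth.Prelude.Def_Found
import Groth.Agent.Lib.Helper10.EppSol7

/-!
Epp, separable solutions from purely inseparable ones (helper10), part 8:
the local step: `K₃ = K₁(z)`, `z ^ p - ε z = a`, is a solution if `K₂ = K₁(a^{1/p})` is one and
`ε` is small enough.
-/

set_option autoImplicit false
set_option linter.unusedSectionVars false
set_option linter.style.haveILetI false

universe u

open IsLocalRing Polynomial

namespace Groth.Agent.Lib.helper10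

namespace EppSol

section Step

variable (p : ℕ) [Fact p.Prime]
  (B K L K₁ K₂ K₃ : Type u) [CommRing B] [IsDomain B] [IsDiscreteValuationRing B]
  [Field K] [Field L] [Field K₁] [Field K₂] [Field K₃]
  [Algebra B L] [IsFractionRing B L] [Algebra K L] [CharP K p]
  [Algebra.IsGeometricallyReduced K L]
  [Algebra K K₁] [Algebra K K₂] [Algebra K₁ K₂] [IsScalarTower K K₁ K₂]
  [Algebra K K₃] [Algebra K₁ K₃] [IsScalarTower K K₁ K₃]

theorem local_step (hfin₁ : Module.Finite K K₁) (hfin₂ : Module.Finite K K₂)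
    {πB : B} (hπB : Irreducible πB) (a : K₁)
    (θ₂ : K₂) (hθ₂ : θ₂ ^ p = algebraMap K₁ K₂ a)
    (hrep₂ : ∀ k₂ : K₂, ∃ h : K₁[X], h.natDegree < p ∧ k₂ = aeval θ₂ h)
    (hsol : EtRam.IsSolution B K L K₂)
    (N : ℕ) (hdepth : ∀ (F₁ : Type u) [Field F₁] [Algebra K F₁] [Algebra L F₁] [Algebra K₁ F₁]
      [IsScalarTower K L F₁] [IsScalarTower K K₁ F₁],
      Algebra.adjoin L (Set.range (algebraMap K₁ F₁)) = ⊤ → DepthLE p B L K₁ a πB N F₁)
    (haW : ∀ (F : Type u) [Field F] [Algebra K F] [Algebra L F] [Algebra K₁ F]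
      [IsScalarTower K L F] [IsScalarTower K K₁ F] (W : ValuationSubring F),
      EtRam.Dominates B ((algebraMap L F).comp (algebraMap B L)) W → algebraMap K₁ F a ∈ W)
    (ε₀ : K) (b₀ : B) (hε₀ : algebraMap K L ε₀ = algebraMap B L (πB ^ N * b₀))
    (z₃ : K₃) (hz₃ : z₃ ^ p - algebraMap K₁ K₃ (algebraMap K K₁ ε₀) * z₃ = algebraMap K₁ K₃ a)
    (hrep₃ : ∀ k₃ : K₃, ∃ h : K₁[X], h.natDegree < p ∧ k₃ = aeval z₃ h) :
    EtRam.IsSolution B K L K₃ := by
  intro F₃ _ _ _ _ _ _ hgen₃ W₃ hdom₃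
  haveI := hfin₁
  haveI := hfin₂
  letI algK₁F₃ : Algebra K₁ F₃ := ((algebraMap K₃ F₃).comp (algebraMap K₁ K₃)).toAlgebra
  haveI : IsScalarTower K₁ K₃ F₃ := IsScalarTower.of_algebraMap_eq (fun _ => rfl)
  haveI : IsScalarTower K K₁ F₃ := IsScalarTower.of_algebraMap_eq (fun x => by
    show algebraMap K F₃ x = algebraMap K₃ F₃ (algebraMap K₁ K₃ (algebraMap K K₁ x))
    rw [← IsScalarTower.algebraMap_apply K K₁ K₃, ← IsScalarTower.algebraMap_apply K K₃ F₃])
  haveI : Module.Finite K₁ K₂ := Module.Finite.of_restrictScalars_finite K K₁ K₂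
  haveI : Algebra.IsAlgebraic K₁ K₂ := Algebra.IsAlgebraic.of_finite K₁ K₂
  let ι₂ : K₂ →ₐ[K₁] AlgebraicClosure F₃ := IsAlgClosed.lift
  letI algK₂F₄ : Algebra K₂ (AlgebraicClosure F₃) := ι₂.toRingHom.toAlgebra
  haveI : IsScalarTower K₁ K₂ (AlgebraicClosure F₃) :=
    IsScalarTower.of_algebraMap_eq (fun x => (ι₂.commutes x).symm)
  obtain ⟨W₄, hW₄⟩ := exists_extension (F₄ := AlgebraicClosure F₃) W₃
  have hdom₄ : EtRam.Dominates B ((algebraMap L (AlgebraicClosure F₃)).comp (algebraMap B L)) W₄ :=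
    dominates_of_comap B W₃ W₄ hW₄ hdom₃
  exact local_core p B K L K₁ K₂ K₃ hfin₁ hfin₂ hπB a θ₂ hθ₂ hrep₂ hsol N hdepth ε₀ b₀ hε₀ z₃ hz₃
    hrep₃ F₃ hgen₃ W₃ hdom₃ (AlgebraicClosure F₃) W₄ hW₄ (haW (AlgebraicClosure F₃) W₄ hdom₄)

end Step

section Int

/-- integral elements lie in valuation rings containing the base. -/
theorem mem_of_isIntegral {A F : Type u} [CommRing A] [Field F] [Algebra A F]
    (W : ValuationSubring F) (hAW : ∀ x : A, algebraMap A F x ∈ W) (y : F)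
    (hy : IsIntegral A y) : y ∈ W := by
  letI : Algebra A W := (RingHom.codRestrict (algebraMap A F) W hAW).toAlgebra
  haveI : IsScalarTower A W F := IsScalarTower.of_algebraMap_eq (fun _ => rfl)
  have h1 : IsIntegral W y := hy.tower_top
  obtain ⟨w, hw⟩ := IsIntegrallyClosed.isIntegral_iff.mp h1
  rw [← hw]
  exact w.2

end Int

end EppSol

end Groth.Agent.Lib.helper10
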