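import Mathlib

/-!
# Rationality of `exp (∑ F(q^v) t^v / v)` forces `F` to be an integral Laurent polynomial (helper10)

`F` in the subring of `ℚ(X)` generated by `X`, `X⁻¹`, `1/(X^n - 1)`; purely algebraic proof via the
logarithmic derivative (linear recurrence), a polynomial identity, coprimality of `M(X)` and
`M(X/q^j)`, and division by monic integer polynomials.
-/

set_option autoImplicit false
set_option linter.style.haveILetI false
set_option linter.unusedSectionVars false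

namespace Groth.Agent.Lib.Helper10.ExpSumRat

open Polynomial

/-- ι : ℤ[X] →+* RatFunc ℚ -/
noncomputable def ι : ℤ[X] →+* RatFunc ℚ :=
  (algebraMap ℚ[X] (RatFunc ℚ)).comp (Polynomial.mapRingHom (Int.castRingHom ℚ))

theorem ι_apply (p : ℤ[X]) :
    ι p = algebraMap ℚ[X] (RatFunc ℚ) (p.map (Int.castRingHom ℚ)) := rfl

theorem ι_injective : Function.Injective ι := by
  intro a b h
  have h1 := RatFunc.algebraMap_injective ℚ h
  exact Polynomial.map_injective _ (Int.cast_injective) h1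

theorem ι_X : ι X = RatFunc.X := by
  simp [ι_apply]

/-- the cyclotomic-type monoid over ℤ -/
noncomputable def cyc : Submonoid ℤ[X] := Submonoid.closure (Set.range fun n : ℕ => (X : ℤ[X]) ^ (n + 1) - 1)

/-- the cyclotomic-type monoid over ℚ -/
noncomputable def cycQ : Submonoid ℚ[X] := Submonoid.closure (Set.range fun n : ℕ => (X : ℚ[X]) ^ (n + 1) - 1)

theorem map_mem_cycQ {M : ℤ[X]} (hM : M ∈ cyc) : M.map (Int.castRingHom ℚ) ∈ cycQ := by
  induction hM using Submonoid.closure_induction with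
  | mem x hx =>
    obtain ⟨n, rfl⟩ := hx
    apply Submonoid.subset_closure
    exact ⟨n, by simp⟩
  | one => simp [cycQ.one_mem]
  | mul x y _ _ hx hy => simpa using cycQ.mul_mem hx hy

theorem monic_of_mem_cyc {M : ℤ[X]} (hM : M ∈ cyc) : M.Monic := by
  induction hM using Submonoid.closure_induction with
  | mem x hx =>
    obtain ⟨n, rfl⟩ := hx
    exact monic_X_pow_sub_C 1 (Nat.succ_ne_zero n)
  | one => exact monic_one
  | mul x y _ _ hx hy => exact hx.mul hy

theorem stepA (F : RatFunc ℚ)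
    (hF : F ∈ Subring.closure
      (({RatFunc.X, (RatFunc.X : RatFunc ℚ)⁻¹} : Set (RatFunc ℚ)) ∪
        Set.range fun n : ℕ => ((RatFunc.X : RatFunc ℚ) ^ (n + 1) - 1)⁻¹)) :
    ∃ (G : ℤ[X]) (a : ℕ) (M : ℤ[X]), M ∈ cyc ∧ F * ι (X ^ a * M) = ι G := by
  induction hF using Subring.closure_induction with
  | mem x hx =>
    rcases hx with hx | hx
    · rcases hx with rfl | hx
      · exact ⟨X, 0, 1, cyc.one_mem, by simp [ι_X]⟩
      · rw [Set.mem_singleton_iff] at hx
        subst hx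
        refine ⟨1, 1, 1, cyc.one_mem, ?_⟩
        simp only [pow_one, mul_one, ι_X, map_one]
        exact inv_mul_cancel₀ RatFunc.X_ne_zero
    · obtain ⟨n, rfl⟩ := hx
      refine ⟨1, 0, X ^ (n + 1) - 1, Submonoid.subset_closure ⟨n, rfl⟩, ?_⟩
      have h1 : ι (X ^ (n + 1) - 1) = RatFunc.X ^ (n + 1) - 1 := by
        simp [ι_X]
      have h2 : ι (X ^ (n + 1) - 1) ≠ 0 := by
        rw [Ne, map_eq_zero_iff _ ι_injective]
        exact (monic_X_pow_sub_C 1 (Nat.succ_ne_zero n)).ne_zero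
      simp only [pow_zero, one_mul, map_one]
      rw [← h1]
      exact inv_mul_cancel₀ h2
  | zero => exact ⟨0, 0, 1, cyc.one_mem, by simp⟩
  | one => exact ⟨1, 0, 1, cyc.one_mem, by simp⟩
  | add x y _ _ hx hy =>
    obtain ⟨G1, a1, M1, hM1, h1⟩ := hx
    obtain ⟨G2, a2, M2, hM2, h2⟩ := hy
    refine ⟨G1 * (X ^ a2 * M2) + G2 * (X ^ a1 * M1), a1 + a2, M1 * M2, cyc.mul_mem hM1 hM2, ?_⟩
    simp only [map_mul, map_add, map_pow] at h1 h2 ⊢
    linear_combination (ι X ^ a2 * ι M2) * h1 + (ι X ^ a1 * ι M1) * h2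
  | neg x _ hx =>
    obtain ⟨G1, a1, M1, hM1, h1⟩ := hx
    refine ⟨-G1, a1, M1, hM1, ?_⟩
    simp only [map_neg, neg_mul, h1]
  | mul x y _ _ hx hy =>
    obtain ⟨G1, a1, M1, hM1, h1⟩ := hx
    obtain ⟨G2, a2, M2, hM2, h2⟩ := hy
    refine ⟨G1 * G2, a1 + a2, M1 * M2, cyc.mul_mem hM1 hM2, ?_⟩
    simp only [map_mul, map_pow] at h1 h2 ⊢
    linear_combination (y * (ι X ^ a2 * ι M2)) * h1 + ι G1 * h2

theorem eval_of_mul_eq (F : RatFunc ℚ) (A B : ℚ[X])
    (h : F * algebraMap ℚ[X] (RatFunc ℚ) B = algebraMap ℚ[X] (RatFunc ℚ) A) (x : ℚ)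
    (hB : B.eval x ≠ 0) : F.eval (RingHom.id ℚ) x = A.eval x / B.eval x := by
  have hB0 : B ≠ 0 := by
    rintro rfl
    simp at hB
  have hB1 : algebraMap ℚ[X] (RatFunc ℚ) B ≠ 0 := by
    rw [Ne, map_eq_zero_iff _ (RatFunc.algebraMap_injective ℚ)]
    exact hB0
  have hF : F = algebraMap ℚ[X] (RatFunc ℚ) A / algebraMap ℚ[X] (RatFunc ℚ) B :=
    eq_div_of_mul_eq hB1 h
  have hd : F.denom ∣ B := (RatFunc.denom_dvd hB0).2 ⟨A, hF⟩
  have hd1 : Polynomial.eval₂ (RingHom.id ℚ) x F.denom ≠ 0 := by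
    intro h0
    apply hB
    have := Polynomial.eval₂_eq_zero_of_dvd_of_eval₂_eq_zero (RingHom.id ℚ) x hd h0
    rwa [Polynomial.eval₂_id] at this
  have hd2 : Polynomial.eval₂ (RingHom.id ℚ) x
      (algebraMap ℚ[X] (RatFunc ℚ) B).denom ≠ 0 := by
    rw [RatFunc.denom_algebraMap]
    simp
  have h3 := RatFunc.eval_mul (f := RingHom.id ℚ) (a := x) hd1 hd2
  rw [h, RatFunc.eval_algebraMap, RatFunc.eval_algebraMap] at h3
  simp only [Algebra.algebraMap_self, RingHom.id_apply, Polynomial.eval₂_id] at h3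
  rw [h3, mul_div_assoc, div_self hB, mul_one]

theorem stepC (u : ℕ → ℚ)
    (hrat : ∃ P Q : Polynomial ℚ, Q ≠ 0 ∧
      (PowerSeries.exp ℚ).subst
          (PowerSeries.mk fun v : ℕ => if v = 0 then (0 : ℚ) else u v / (v : ℚ))
        * (Q : PowerSeries ℚ) = (P : PowerSeries ℚ)) :
    ∃ D : ℚ[X], D ≠ 0 ∧ ∃ N : ℕ, ∀ n ≥ N,
      ∑ ij ∈ Finset.HasAntidiagonal.antidiagonal n, D.coeff ij.1 * u (ij.2 + 1) = 0 := by
  obtain ⟨P, Q, hQ, h⟩ := hrat
  set L : PowerSeries ℚ := PowerSeries.mk fun v : ℕ => if v = 0 then (0 : ℚ) else u v / (v : ℚ)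
    with hLdef
  have hL0 : PowerSeries.constantCoeff L = 0 := by
    rw [← PowerSeries.coeff_zero_eq_constantCoeff_apply, hLdef, PowerSeries.coeff_mk]
    simp
  have hL : PowerSeries.HasSubst L := PowerSeries.HasSubst.of_constantCoeff_zero' hL0
  set Z : PowerSeries ℚ := (PowerSeries.exp ℚ).subst L with hZdef
  have hZ' : PowerSeries.derivative ℚ Z = Z * PowerSeries.derivative ℚ L := by
    rw [hZdef, PowerSeries.derivative_subst hL, PowerSeries.derivative_exp]
  -- constant coefficient of Z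
  have hZ0 : PowerSeries.constantCoeff Z = 1 := by
    have h1 : PowerSeries.constantCoeff ((PowerSeries.exp ℚ - 1).subst L) = 0 := by
      apply PowerSeries.constantCoeff_subst_eq_zero hL0
      simp
    rw [PowerSeries.subst_sub hL] at h1
    have h2 : (1 : PowerSeries ℚ).subst L = (1 : PowerSeries ℚ) := by
      have := PowerSeries.subst_C (a := L) (1 : ℚ)
      simpa using this
    rw [h2, map_sub, map_one, sub_eq_zero] at h1
    exact h1
  have hZne : Z ≠ 0 := by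
    intro h0
    rw [h0] at hZ0
    simp at hZ0
  have hQc : (Q : PowerSeries ℚ) ≠ 0 := by
    rw [Ne, Polynomial.coe_eq_zero_iff]
    exact hQ
  have hP : P ≠ 0 := by
    rintro rfl
    rw [Polynomial.coe_zero] at h
    rcases mul_eq_zero.1 h with h | h
    · exact hZne h
    · exact hQc h
  -- differentiate
  have hd := congrArg (PowerSeries.derivative ℚ) h
  rw [Derivation.leibniz, hZ', PowerSeries.derivative_coe, PowerSeries.derivative_coe] at hd
  simp only [smul_eq_mul] at hd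
  have hmain : ((P * Q : ℚ[X]) : PowerSeries ℚ) * PowerSeries.derivative ℚ L =
      ((Polynomial.derivative P * Q - P * Polynomial.derivative Q : ℚ[X]) : PowerSeries ℚ) := by
    rw [Polynomial.coe_sub, Polynomial.coe_mul, Polynomial.coe_mul, Polynomial.coe_mul, ← hd, ← h]
    ring
  refine ⟨P * Q, mul_ne_zero hP hQ,
    (Polynomial.derivative P * Q - P * Polynomial.derivative Q).natDegree + 1, fun n hn => ?_⟩
  have hc := congrArg (PowerSeries.coeff n) hmain
  rw [PowerSeries.coeff_mul, Polynomial.coeff_coe,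
    Polynomial.coeff_eq_zero_of_natDegree_lt (by omega)] at hc
  rw [← hc]
  refine Finset.sum_congr rfl fun ij _ => ?_
  rw [Polynomial.coeff_coe, PowerSeries.coeff_derivative, hLdef, PowerSeries.coeff_mk,
    if_neg (Nat.succ_ne_zero _)]
  have : ((ij.2 + 1 : ℕ) : ℚ) ≠ 0 := by positivity
  push_cast at this ⊢
  field_simp

theorem eval_ne_zero_of_mem_cycQ {M : ℚ[X]} (hM : M ∈ cycQ) {y : ℚ} (hy : 1 < y) :
    M.eval y ≠ 0 := by
  induction hM using Submonoid.closure_induction with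
  | mem x hx =>
    obtain ⟨n, rfl⟩ := hx
    have : 1 < y ^ (n + 1) := one_lt_pow₀ hy (Nat.succ_ne_zero n)
    simp only [eval_sub, eval_pow, eval_X, eval_one]
    linarith
  | one => simp
  | mul x y _ _ hx hy => simp [hx, hy]

theorem coprime_base (s t : ℚ) (N N' : ℕ) (hst : s ^ (N * N') ≠ t ^ (N * N')) :
    IsCoprime ((C s * X) ^ N - 1 : ℚ[X]) ((C t * X) ^ N' - 1) := by
  set A := (C s * X : ℚ[X]) ^ N with hAdef
  set B := (C t * X : ℚ[X]) ^ N' with hBdef
  have hA : (∑ i ∈ Finset.range N', A ^ i) * (A - 1) = A ^ N' - 1 := geom_sum_mul A N'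
  have hB : (∑ i ∈ Finset.range N, B ^ i) * (B - 1) = B ^ N - 1 := geom_sum_mul B N
  have hAN : A ^ N' = C (s ^ (N * N')) * X ^ (N * N') := by
    rw [hAdef, ← pow_mul, mul_pow, C_pow]
  have hBN : B ^ N = C (t ^ (N * N')) * X ^ (N * N') := by
    rw [hBdef, ← pow_mul, mul_pow, C_pow, mul_comm N' N]
  set δ := s ^ (N * N') - t ^ (N * N') with hδdef
  have hδ : δ ≠ 0 := sub_ne_zero.2 hst
  refine ⟨C (δ⁻¹ * t ^ (N * N')) * ∑ i ∈ Finset.range N', A ^ i,
    C (-(δ⁻¹ * s ^ (N * N'))) * ∑ i ∈ Finset.range N, B ^ i, ?_⟩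
  rw [mul_assoc, hA, mul_assoc, hB, hAN, hBN]
  have h1 : (C δ⁻¹ : ℚ[X]) * (C (s ^ (N * N')) - C (t ^ (N * N'))) = 1 := by
    rw [← C_sub, ← C_mul, inv_mul_cancel₀ hδ, C_1]
  simp only [C_mul, C_neg]
  linear_combination h1

theorem coprime_cycQ {M₁ M₂ : ℚ[X]} (h1 : M₁ ∈ cycQ) (h2 : M₂ ∈ cycQ) (s t : ℚ)
    (hst : ∀ N : ℕ, N ≠ 0 → s ^ N ≠ t ^ N) :
    IsCoprime (M₁.comp (C s * X)) (M₂.comp (C t * X)) := by
  induction h1 using Submonoid.closure_induction with
  | mem x hx =>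
    obtain ⟨n, rfl⟩ := hx
    induction h2 using Submonoid.closure_induction with
    | mem y hy =>
      obtain ⟨n', rfl⟩ := hy
      simp only [sub_comp, pow_comp, X_comp, one_comp]
      exact coprime_base s t (n + 1) (n' + 1) (hst _ (by positivity))
    | one =>
      rw [one_comp]
      exact isCoprime_one_right
    | mul y z _ _ hy hz =>
      rw [mul_comp]
      exact hy.mul_right hz
  | one =>
    rw [one_comp]
    exact isCoprime_one_left
  | mul x y _ _ hx hy =>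
    rw [mul_comp]
    exact hx.mul_left hy

theorem core (q : ℚ) (hq : 1 < q) (Gq Mq : ℚ[X]) (a : ℕ) (hM : Mq ∈ cycQ) (D : ℚ[X]) (hD : D ≠ 0)
    (N : ℕ)
    (hrec : ∀ n ≥ N, ∑ ij ∈ Finset.HasAntidiagonal.antidiagonal n,
      D.coeff ij.1 * (Gq.eval (q ^ (ij.2 + 1)) /
        ((q ^ (ij.2 + 1)) ^ a * Mq.eval (q ^ (ij.2 + 1)))) = 0) :
    Mq ∣ Gq := by
  set m := D.natDegree with hm
  set c : ℚ := q⁻¹ with hc
  have hq0 : 0 < q := by linarith
  have hc0 : c ≠ 0 := inv_ne_zero hq0.ne'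
  have hcpos : 0 < c := inv_pos.2 hq0
  have hc1 : c ≠ 1 := (inv_lt_one_of_one_lt₀ hq).ne
  set sc : ℚ[X] → ℕ → ℚ[X] := fun p i => p.comp (C (c ^ i) * X) with hscdef
  have hsc : ∀ (p : ℚ[X]) (i : ℕ) (x : ℚ), (sc p i).eval x = p.eval (c ^ i * x) := by
    intro p i x
    simp [sc, eval_comp]
  set I := Finset.range (m + 1) with hI
  set term : ℕ → ℚ[X] := fun i =>
    C (D.coeff i * ((c ^ i) ^ a)⁻¹) * sc Gq i * ∏ l ∈ I.erase i, sc Mq l with htermdef
  set T : ℚ[X] := ∑ i ∈ I, term i with hT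
  have hTroot : ∀ n, max N m ≤ n → T.eval (q ^ (n + 1)) = 0 := by
    intro n hn
    have hnN : N ≤ n := le_trans (le_max_left _ _) hn
    have hnm : m ≤ n := le_trans (le_max_right _ _) hn
    set x := q ^ (n + 1) with hx
    have hx0 : x ≠ 0 := pow_ne_zero _ hq0.ne'
    have h1 := hrec n hnN
    rw [Finset.Nat.sum_antidiagonal_eq_sum_range_succ (fun i j => D.coeff i *
      (Gq.eval (q ^ (j + 1)) / ((q ^ (j + 1)) ^ a * Mq.eval (q ^ (j + 1)))))] at h1
    have h2 : ∑ i ∈ I, D.coeff i * (Gq.eval (q ^ (n - i + 1)) /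
        ((q ^ (n - i + 1)) ^ a * Mq.eval (q ^ (n - i + 1)))) = 0 := by
      rw [← h1]
      apply Finset.sum_subset
      · intro i hi
        simp only [I, Finset.mem_range] at hi ⊢
        omega
      · intro i _ hi
        rw [Polynomial.coeff_eq_zero_of_natDegree_lt (by
          simp only [I, Finset.mem_range] at hi; omega), zero_mul]
    have hkey : ∀ i ∈ I, q ^ (n - i + 1) = c ^ i * x := by
      intro i hi
      have hi' : i ≤ n := by
        simp only [I, Finset.mem_range] at hi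
        omega
      have h3 : q ^ (n + 1) = q ^ (n - i + 1) * q ^ i := by
        rw [← pow_add]
        congr 1
        omega
      rw [hx, h3, hc, inv_pow]
      have : q ^ i ≠ 0 := pow_ne_zero _ hq0.ne'
      field_simp
    have hMne : ∀ i ∈ I, (sc Mq i).eval x ≠ 0 := by
      intro i hi
      rw [hsc, ← hkey i hi]
      exact eval_ne_zero_of_mem_cycQ hM (one_lt_pow₀ hq (Nat.succ_ne_zero _))
    have h3 : T.eval x = x ^ a * (∏ l ∈ I, (sc Mq l).eval x) *
        ∑ i ∈ I, D.coeff i * (Gq.eval (q ^ (n - i + 1)) /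
          ((q ^ (n - i + 1)) ^ a * Mq.eval (q ^ (n - i + 1)))) := by
      rw [Finset.mul_sum, hT, eval_finsetSum]
      refine Finset.sum_congr rfl fun i hi => ?_
      rw [hkey i hi, htermdef]
      simp only [eval_mul, eval_C, eval_prod]
      rw [← Finset.mul_prod_erase I _ hi, hsc Gq]
      have h4 := hMne i hi
      have h5 : (sc Mq i).eval x = Mq.eval (c ^ i * x) := hsc _ _ _
      rw [h5] at h4 ⊢
      have hci : c ^ i ≠ 0 := pow_ne_zero _ hc0
      field_simp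
      rw [mul_pow]
      ring
    rw [h3, h2, mul_zero]
  have hT0 : T = 0 := by
    apply Polynomial.eq_zero_of_infinite_isRoot
    apply Set.infinite_of_injective_forall_mem (f := fun n : ℕ => q ^ (max N m + n + 1))
    · intro n n' h
      have := pow_right_injective₀ hq0 hq.ne' h
      omega
    · intro n
      exact hTroot _ (Nat.le_add_right _ _)
  set i₀ := D.natTrailingDegree with hi₀def
  have hi₀ : D.coeff i₀ ≠ 0 := by
    have := (Polynomial.trailingCoeff_nonzero_iff_nonzero (p := D)).2 hD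
    exact this
  have hi₀I : i₀ ∈ I := by
    simp only [I, Finset.mem_range]
    have := Polynomial.natTrailingDegree_le_natDegree (p := D)
    omega
  have hdvd : sc Mq i₀ ∣ term i₀ := by
    have h4 : term i₀ + ∑ i ∈ I.erase i₀, term i = 0 := by
      rw [Finset.add_sum_erase I _ hi₀I]
      exact hT0
    have h5 : sc Mq i₀ ∣ ∑ i ∈ I.erase i₀, term i := by
      apply Finset.dvd_sum
      intro i hi
      rcases lt_or_gt_of_ne (Finset.ne_of_mem_erase hi) with hlt | hgt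
      · rw [htermdef]
        simp only
        rw [Polynomial.coeff_eq_zero_of_lt_natTrailingDegree hlt]
        simp
      · rw [htermdef]
        apply Dvd.dvd.mul_left
        exact Finset.dvd_prod_of_mem _ (Finset.mem_erase.2 ⟨hgt.ne, hi₀I⟩)
    rw [eq_neg_of_add_eq_zero_left h4]
    exact (dvd_neg).2 h5
  have he : D.coeff i₀ * ((c ^ i₀) ^ a)⁻¹ ≠ 0 :=
    mul_ne_zero hi₀ (inv_ne_zero (pow_ne_zero _ (pow_ne_zero _ hc0)))
  rw [htermdef] at hdvd
  simp only at hdvd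
  rw [mul_assoc, (Polynomial.isUnit_C.2 he.isUnit).dvd_mul_left] at hdvd
  have hcop : IsCoprime (sc Mq i₀) (∏ l ∈ I.erase i₀, sc Mq l) := by
    apply IsCoprime.prod_right
    intro l hl
    apply coprime_cycQ hM hM
    intro N' hN' h
    rw [← pow_mul, ← pow_mul] at h
    have h6 := pow_right_injective₀ hcpos hc1 h
    exact (Finset.ne_of_mem_erase hl) (Nat.eq_of_mul_eq_mul_right (Nat.pos_of_ne_zero hN') h6).symm
  obtain ⟨R, hR⟩ := hcop.dvd_of_dvd_mul_right hdvd
  refine ⟨R.comp (C (c ^ i₀)⁻¹ * X), ?_⟩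
  have h7 : (sc Gq i₀).comp (C (c ^ i₀)⁻¹ * X) =
      (sc Mq i₀).comp (C (c ^ i₀)⁻¹ * X) * R.comp (C (c ^ i₀)⁻¹ * X) := by
    rw [hR, mul_comp]
  simp only [hscdef, comp_assoc] at h7
  have hX : (C (c ^ i₀) * X : ℚ[X]).comp (C (c ^ i₀)⁻¹ * X) = X := by
    rw [mul_comp, C_comp, X_comp, ← mul_assoc, ← C_mul,
      mul_inv_cancel₀ (pow_ne_zero _ hc0), C_1, one_mul]
  rwa [hX, comp_X, comp_X] at h7


theorem main (q : ℤ) (hq : 1 < q) (F : RatFunc ℚ)
    (hF : F ∈ Subring.closure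
      (({RatFunc.X, (RatFunc.X : RatFunc ℚ)⁻¹} : Set (RatFunc ℚ)) ∪
        Set.range fun n : ℕ => ((RatFunc.X : RatFunc ℚ) ^ (n + 1) - 1)⁻¹))
    (hrat : ∃ P Q : Polynomial ℚ, Q ≠ 0 ∧
      (PowerSeries.exp ℚ).subst
          (PowerSeries.mk fun v : ℕ => if v = 0 then (0 : ℚ)
            else F.eval (RingHom.id ℚ) ((q : ℚ) ^ v) / (v : ℚ))
        * (Q : PowerSeries ℚ) = (P : PowerSeries ℚ)) :
    ∃ (P : Polynomial ℤ) (a : ℕ),
      F * RatFunc.X ^ a = algebraMap (Polynomial ℚ) (RatFunc ℚ) (P.map (Int.castRingHom ℚ)) := by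
  obtain ⟨G, a, M, hM, hFM⟩ := stepA F hF
  have hq' : (1 : ℚ) < (q : ℚ) := by exact_mod_cast hq
  have hq0 : (q : ℚ) ≠ 0 := by linarith
  set Gq := G.map (Int.castRingHom ℚ) with hGq
  set Mq := M.map (Int.castRingHom ℚ) with hMqdef
  have hMq : Mq ∈ cycQ := map_mem_cycQ hM
  have hu : ∀ v : ℕ, v ≠ 0 → F.eval (RingHom.id ℚ) ((q : ℚ) ^ v) =
      Gq.eval ((q : ℚ) ^ v) / (((q : ℚ) ^ v) ^ a * Mq.eval ((q : ℚ) ^ v)) := by
    intro v hv
    have h1 : F * algebraMap ℚ[X] (RatFunc ℚ) (X ^ a * Mq) = algebraMap ℚ[X] (RatFunc ℚ) Gq := by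
      rw [hGq, ← ι_apply, ← hFM, ι_apply]
      simp [Mq]
    have h3 : (X ^ a * Mq : ℚ[X]).eval ((q : ℚ) ^ v) ≠ 0 := by
      rw [eval_mul, eval_pow, eval_X]
      exact mul_ne_zero (pow_ne_zero _ (pow_ne_zero _ hq0))
        (eval_ne_zero_of_mem_cycQ hMq (one_lt_pow₀ hq' hv))
    have h2 := eval_of_mul_eq F Gq (X ^ a * Mq) h1 ((q : ℚ) ^ v) h3
    rw [h2, eval_mul, eval_pow, eval_X]
  obtain ⟨D, hD, N, hrec⟩ := stepC (fun v => F.eval (RingHom.id ℚ) ((q : ℚ) ^ v)) hrat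
  have hdvd : Mq ∣ Gq := core (q : ℚ) hq' Gq Mq a hMq D hD N (fun n hn => by
    rw [← hrec n hn]
    refine Finset.sum_congr rfl fun ij _ => ?_
    rw [hu _ (Nat.succ_ne_zero _)])
  have hdvdZ : M ∣ G :=
    (Polynomial.map_dvd_map (Int.castRingHom ℚ) Int.cast_injective (monic_of_mem_cyc hM)).1 hdvd
  obtain ⟨H, rfl⟩ := hdvdZ
  refine ⟨H, a, ?_⟩
  have hιM : ι M ≠ 0 := by
    rw [Ne, map_eq_zero_iff _ ι_injective]
    exact (monic_of_mem_cyc hM).ne_zero
  rw [← ι_apply]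
  have h4 : (F * RatFunc.X ^ a) * ι M = ι H * ι M := by
    rw [map_mul, map_mul, map_pow, ι_X] at hFM
    linear_combination hFM
  exact mul_right_cancel₀ hιM h4

end Groth.Agent.Lib.Helper10.ExpSumRat
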