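import Mathlib

/-!
# Semilinear functoriality of exterior powers, and an expansion lemma for alternating maps
-/

set_option autoImplicit false
set_option linter.style.haveILetI false
set_option linter.unusedSectionVars false

namespace Groth.Agent.Lib.helper10.ExtPowSemi

universe u v w

section Semi

variable {A : Type u} [CommRing A] (σ : A →+* A) {P : Type v} [AddCommGroup P] [Module A P]
  {P₂ : Type w} [AddCommGroup P₂] [Module A P₂]

/-- the module `N` with scalars acting through `σ` -/
def Tw (_σ : A →+* A) (N : Type*) := N

instance (N : Type*) [AddCommGroup N] : AddCommGroup (Tw σ N) := inferInstanceAs (AddCommGroup N)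

instance (N : Type*) [AddCommGroup N] [Module A N] : Module A (Tw σ N) := Module.compHom N σ

lemma Tw.smul_def (N : Type*) [AddCommGroup N] [Module A N] (a : A) (x : Tw σ N) :
    a • x = (σ a • (show N from x) : N) := rfl

variable (r : ℕ)

/-- the alternating map `v ↦ G v₁ ∧ ⋯ ∧ G v_r` into the twisted module -/
noncomputable def altG (G : P →ₛₗ[σ] P₂) : P [⋀^Fin r]→ₗ[A] Tw σ (⋀[A]^r P₂) where
  toFun v := (exteriorPower.ιMulti A r (fun i => G (v i)) : ⋀[A]^r P₂)
  map_update_add' := by
    intro _ v i x y
    have h : ∀ z, (fun j => G (Function.update v i z j)) =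
        Function.update (fun j => G (v j)) i (G z) := by
      intro z
      ext j
      by_cases hj : j = i
      · subst hj; simp
      · simp [Function.update_of_ne hj]
    show (exteriorPower.ιMulti A r (fun j => G (Function.update v i (x + y) j)) : ⋀[A]^r P₂) =
      (exteriorPower.ιMulti A r (fun j => G (Function.update v i x j)) : ⋀[A]^r P₂) +
      (exteriorPower.ιMulti A r (fun j => G (Function.update v i y j)) : ⋀[A]^r P₂)
    rw [h, h, h, map_add, AlternatingMap.map_update_add]
  map_update_smul' := by
    intro _ v i c x
    have h : ∀ z, (fun j => G (Function.update v i z j)) =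
        Function.update (fun j => G (v j)) i (G z) := by
      intro z
      ext j
      by_cases hj : j = i
      · subst hj; simp
      · simp [Function.update_of_ne hj]
    show (exteriorPower.ιMulti A r (fun j => G (Function.update v i (c • x) j)) : ⋀[A]^r P₂) =
      (σ c • (exteriorPower.ιMulti A r (fun j => G (Function.update v i x j)) : ⋀[A]^r P₂)
        : ⋀[A]^r P₂)
    rw [h, h, map_smulₛₗ, AlternatingMap.map_update_smul]
  map_eq_zero_of_eq' := by
    intro v i j hij hne
    show (exteriorPower.ιMulti A r (fun k => G (v k)) : ⋀[A]^r P₂) = 0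
    exact AlternatingMap.map_eq_zero_of_eq _ _ (by show G (v i) = G (v j); rw [hij]) hne

/-- the `σ`-semilinear map `⋀^r P → ⋀^r P₂` induced by a `σ`-semilinear map `G` -/
noncomputable def mapSL (G : P →ₛₗ[σ] P₂) : ⋀[A]^r P →ₛₗ[σ] ⋀[A]^r P₂ where
  toFun x := (exteriorPower.alternatingMapLinearEquiv (altG σ r G) x : Tw σ (⋀[A]^r P₂))
  map_add' x y := (exteriorPower.alternatingMapLinearEquiv (altG σ r G)).map_add x y
  map_smul' a x := (exteriorPower.alternatingMapLinearEquiv (altG σ r G)).map_smul a x

lemma mapSL_ιMulti (G : P →ₛₗ[σ] P₂) (v : Fin r → P) :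
    mapSL σ r G (exteriorPower.ιMulti A r v) = exteriorPower.ιMulti A r (fun i => G (v i)) := by
  show (exteriorPower.alternatingMapLinearEquiv (altG σ r G) (exteriorPower.ιMulti A r v)
    : Tw σ (⋀[A]^r P₂)) = _
  rw [exteriorPower.alternatingMapLinearEquiv_apply_ιMulti]
  rfl

/-- if the image of `G` spans, so does the image of `⋀^r G` -/
lemma span_range_mapSL (G : P →ₛₗ[σ] P₂) (hG : Submodule.span A (Set.range G) = ⊤) :
    Submodule.span A (Set.range (mapSL σ r G)) = ⊤ := by
  classical
  letI : LinearOrder P := linearOrderOfSTO WellOrderingRel
  have h := exteriorPower.ιMulti_family_span_of_span A (n := r) (v := fun x : P => G x) hG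
  rw [eq_top_iff, ← h]
  apply Submodule.span_mono
  rintro _ ⟨s, rfl⟩
  refine ⟨exteriorPower.ιMulti A r (fun i => (Set.powersetCard.ofFinEmbEquiv.symm s i : P)), ?_⟩
  rw [mapSL_ιMulti]
  rfl

end Semi


section Expand

variable {A : Type u} [CommRing A] {P : Type v} [AddCommGroup P] [Module A P]
  {N : Type w} [AddCommGroup N] [Module A N] {r : ℕ}

open Classical in
/-- the family `u` modified by adding `c i • z` on the slots in `s` -/
noncomputable def modif (u : Fin r → P) (c : Fin r → A) (z : P) (s : Finset (Fin r)) : Fin r → P :=
  fun i => if i ∈ s then u i + c i • z else u i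

open Classical in
lemma modif_insert (u : Fin r → P) (c : Fin r → A) (z : P) (s : Finset (Fin r)) (a : Fin r)
    (ha : a ∉ s) :
    modif u c z (insert a s) = Function.update (modif u c z s) a (u a + c a • z) := by
  ext i
  by_cases hi : i = a
  · subst hi
    simp [modif]
  · rw [Function.update_of_ne hi]
    simp [modif, Finset.mem_insert, hi]

open Classical in
lemma modif_apply_of_notMem (u : Fin r → P) (c : Fin r → A) (z : P) (s : Finset (Fin r))
    (a : Fin r) (ha : a ∉ s) : modif u c z s a = u a := by
  simp [modif, ha]

open Classical in
/-- once a slot holds `z`, the `z`-components of the other slots do not matter -/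
lemma alt_update_modif (f : P [⋀^Fin r]→ₗ[A] N) (u : Fin r → P) (c : Fin r → A) (z : P)
    (a : Fin r) (s : Finset (Fin r)) (ha : a ∉ s) :
    f (Function.update (modif u c z s) a z) = f (Function.update u a z) := by
  induction s using Finset.induction_on with
  | empty =>
    have h0 : modif u c z ∅ = u := by
      ext i
      simp [modif]
    rw [h0]
  | insert b s hb ih =>
    have hab : a ≠ b := fun h => ha (h ▸ Finset.mem_insert_self _ _)
    have has : a ∉ s := fun h => ha (Finset.mem_insert_of_mem h)
    rw [modif_insert u c z s b hb, Function.update_comm hab.symm, AlternatingMap.map_update_add,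
      AlternatingMap.map_update_smul]
    have h1 : Function.update (Function.update (modif u c z s) a z) b (u b) =
        Function.update (modif u c z s) a z := by
      apply Function.update_eq_self_iff.2
      rw [Function.update_of_ne hab.symm, modif_apply_of_notMem u c z s b hb]
    have h2 : f (Function.update (Function.update (modif u c z s) a z) b z) = 0 := by
      refine f.map_eq_zero_of_eq _ (i := a) (j := b) ?_ hab
      rw [Function.update_of_ne hab, Function.update_self, Function.update_self]
    rw [h1, h2, smul_zero, add_zero]
    exact ih has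

open Classical in
lemma alt_modif (f : P [⋀^Fin r]→ₗ[A] N) (u : Fin r → P) (c : Fin r → A) (z : P)
    (s : Finset (Fin r)) :
    f (modif u c z s) = f u + ∑ k ∈ s, c k • f (Function.update u k z) := by
  induction s using Finset.induction_on with
  | empty =>
    have h0 : modif u c z ∅ = u := by
      ext i
      simp [modif]
    rw [Finset.sum_empty, add_zero, h0]
  | insert a s ha ih =>
    rw [modif_insert u c z s a ha, AlternatingMap.map_update_add, AlternatingMap.map_update_smul,
      Finset.sum_insert ha, alt_update_modif f u c z a s ha]
    have h1 : Function.update (modif u c z s) a (u a) = modif u c z s := by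
      apply Function.update_eq_self_iff.2
      rw [modif_apply_of_notMem u c z s a ha]
    rw [h1, ih]
    abel

/-- **Expansion**: `f (u + c • z) = f u + Σ_k c_k f (u with z in slot k)` for an alternating `f` -/
theorem alt_expand (f : P [⋀^Fin r]→ₗ[A] N) (u : Fin r → P) (c : Fin r → A) (z : P) :
    f (fun i => u i + c i • z) = f u + ∑ k, c k • f (Function.update u k z) := by
  classical
  rw [← alt_modif f u c z Finset.univ]
  congr 1
  ext i
  simp [modif]

end Expand

end Groth.Agent.Lib.helper10.ExtPowSemi
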