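import Mathlib

/-!
# Dimension shifting for `Abelian.Ext` (helper10)

Abstract (`C` abelian, `R`-linear, `HasExt`): for a short exact `S` with `S.X₂` projective,
* `shiftEquiv hS Y n : Ext S.X₁ Y (n+1) ≃ₗ[R] Ext S.X₃ Y (n+2)` (precomposition with `hS.extClass`);
* `exact_one hS Y` : `Ext S.X₂ Y 0 → Ext S.X₁ Y 0 → Ext S.X₃ Y 1` is exact and the last map is onto.

Modules (`R` commutative, all modules in `Type u`), for `i : K →ₗ F`, `p : F →ₗ M` short exact and
`F` projective:
* `sc R i p hip`, `sc_shortExact`;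
* `homToExt₀ R X Y : (X →ₗ[R] Y) ≃ₗ[R] Ext X Y 0`;
* `shift_modules` : `Nonempty (Ext (of K) (of N) (n+1) ≃ₗ[R] Ext (of M) (of N) (n+2))`;
* `one_modules` : `∃ ψ : (K →ₗ[R] N) →ₗ[R] Ext (of M) (of N) 1, Exact (lcomp R N i) ψ ∧ Surjective ψ`;
* `cokerEquiv` : iso of cokernels from a commutative square of isos.
-/

set_option autoImplicit false
universe u
open CategoryTheory TensorProduct

namespace Groth.Agent.Lib.helper10.ExtShift

set_option linter.style.haveILetI false

open Abelian

section abstract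

universe w v t u'

variable {R : Type t} [CommRing R] {C : Type u'} [Category.{v} C] [Abelian C] [Linear R C]
  [HasExt.{w} C]

/-- dimension shifting along a short exact sequence with projective middle term -/
noncomputable def shiftEquiv {S : ShortComplex C} (hS : S.ShortExact) [Projective S.X₂] (Y : C)
    (n : ℕ) : Ext S.X₁ Y (n + 1) ≃ₗ[R] Ext S.X₃ Y (n + 2) :=
  LinearEquiv.ofBijective (hS.extClass.precompOfLinear R Y (show 1 + (n + 1) = n + 2 by omega)) (by
    constructor
    · rw [injective_iff_map_eq_zero]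
      intro x hx
      obtain ⟨x₂, rfl⟩ := Ext.contravariant_sequence_exact₁ hS Y x
        (show 1 + (n + 1) = n + 2 by omega) hx
      rw [Ext.eq_zero_of_projective x₂, Ext.comp_zero]
    · intro x₃
      exact Ext.contravariant_sequence_exact₃ hS Y x₃ (Ext.eq_zero_of_projective _)
        (show 1 + (n + 1) = n + 2 by omega))

theorem exact_one {S : ShortComplex C} (hS : S.ShortExact) [Projective S.X₂] (Y : C) :
    Function.Exact ((Ext.mk₀ S.f).precompOfLinear R Y (zero_add 0))
      (hS.extClass.precompOfLinear R Y (show 1 + 0 = 1 by omega)) ∧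
    Function.Surjective (hS.extClass.precompOfLinear R Y (show 1 + 0 = 1 by omega)) := by
  constructor
  · intro x
    constructor
    · intro hx
      obtain ⟨x₂, rfl⟩ := Ext.contravariant_sequence_exact₁ hS Y x (show 1 + 0 = 1 by omega) hx
      exact ⟨x₂, rfl⟩
    · rintro ⟨x₂, rfl⟩
      exact hS.extClass_comp_assoc x₂ (h := show 1 + 0 = 1 by omega)
  · intro x₃
    exact Ext.contravariant_sequence_exact₃ hS Y x₃ (Ext.eq_zero_of_projective _)
      (show 1 + 0 = 1 by omega)

end abstract

section modules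

variable (R : Type u) [CommRing R] {K F M : Type u} [AddCommGroup K] [Module R K]
  [AddCommGroup F] [Module R F] [AddCommGroup M] [Module R M]
  (N : Type u) [AddCommGroup N] [Module R N]
  (i : K →ₗ[R] F) (p : F →ₗ[R] M)

/-- the short complex `K → F → M` -/
abbrev sc (hip : Function.Exact i p) : ShortComplex (ModuleCat.{u} R) :=
  ShortComplex.mk (ModuleCat.ofHom i) (ModuleCat.ofHom p) (by
    ext x
    exact hip.apply_apply_eq_zero x)

theorem sc_shortExact (hi : Function.Injective i) (hip : Function.Exact i p)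
    (hp : Function.Surjective p) : (sc R i p hip).ShortExact where
  exact := (ShortComplex.ShortExact.moduleCat_exact_iff_function_exact _).2 hip
  mono_f := (ModuleCat.mono_iff_injective _).2 hi
  epi_g := (ModuleCat.epi_iff_surjective _).2 hp

/-- `Hom ≃ Ext⁰` -/
noncomputable def homToExt₀ (X Y : ModuleCat.{u} R) : (X →ₗ[R] Y) ≃ₗ[R] Ext X Y 0 :=
  (ModuleCat.homLinearEquiv (S := R)).symm ≪≫ₗ (Ext.linearEquiv₀ (R := R)).symm

theorem homToExt₀_apply (X Y : ModuleCat.{u} R) (f : X →ₗ[R] Y) :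
    homToExt₀ R X Y f = Ext.mk₀ (ModuleCat.ofHom f) := rfl

theorem shift_modules (hi : Function.Injective i) (hip : Function.Exact i p)
    (hp : Function.Surjective p) [Module.Projective R F] (n : ℕ) :
    Nonempty (Ext (ModuleCat.of R K) (ModuleCat.of R N) (n + 1) ≃ₗ[R]
      Ext (ModuleCat.of R M) (ModuleCat.of R N) (n + 2)) := by
  have hS := sc_shortExact R i p hi hip hp
  haveI : Projective (sc R i p hip).X₂ :=
    (IsProjective.iff_projective (R := R) (P := F)).1 inferInstance
  exact ⟨shiftEquiv (R := R) hS (ModuleCat.of R N) n⟩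

theorem one_modules (hi : Function.Injective i) (hip : Function.Exact i p)
    (hp : Function.Surjective p) [Module.Projective R F] :
    ∃ ψ : (K →ₗ[R] N) →ₗ[R] Ext (ModuleCat.of R M) (ModuleCat.of R N) 1,
      Function.Exact (LinearMap.lcomp R N i) ψ ∧ Function.Surjective ψ := by
  have hS := sc_shortExact R i p hi hip hp
  haveI : Projective (sc R i p hip).X₂ :=
    (IsProjective.iff_projective (R := R) (P := F)).1 inferInstance
  obtain ⟨h1, h2⟩ := exact_one (R := R) hS (ModuleCat.of R N)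
  refine ⟨(hS.extClass.precompOfLinear R (ModuleCat.of R N) (show 1 + 0 = 1 by omega)) ∘ₗ
    (homToExt₀ R (ModuleCat.of R K) (ModuleCat.of R N)).toLinearMap, ?_, ?_⟩
  · intro x
    rw [LinearMap.comp_apply, h1 _]
    constructor
    · rintro ⟨y, hy⟩
      obtain ⟨y', rfl⟩ := (homToExt₀ R (ModuleCat.of R F) (ModuleCat.of R N)).surjective y
      refine ⟨y', ?_⟩
      apply (homToExt₀ R (ModuleCat.of R K) (ModuleCat.of R N)).injective
      refine Eq.trans ?_ hy
      change Ext.mk₀ (ModuleCat.ofHom (y' ∘ₗ i)) = (Ext.mk₀ (ModuleCat.ofHom i)).comp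
        (Ext.mk₀ (ModuleCat.ofHom y')) (zero_add 0)
      rw [Ext.mk₀_comp_mk₀]
      rfl
    · rintro ⟨y', rfl⟩
      refine ⟨homToExt₀ R (ModuleCat.of R F) (ModuleCat.of R N) y', ?_⟩
      change (Ext.mk₀ (ModuleCat.ofHom i)).comp
        (Ext.mk₀ (ModuleCat.ofHom y')) (zero_add 0) = Ext.mk₀ (ModuleCat.ofHom (y' ∘ₗ i))
      rw [Ext.mk₀_comp_mk₀]
      rfl
  · exact h2.comp (homToExt₀ R (ModuleCat.of R K) (ModuleCat.of R N)).surjective

end modules


theorem cokerEquiv {S : Type*} [CommRing S] {M1 M2 M3 M1' M2' M3' : Type*}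
    [AddCommGroup M1] [Module S M1] [AddCommGroup M2] [Module S M2] [AddCommGroup M3] [Module S M3]
    [AddCommGroup M1'] [Module S M1'] [AddCommGroup M2'] [Module S M2']
    [AddCommGroup M3'] [Module S M3']
    (f : M1 →ₗ[S] M2) (g : M2 →ₗ[S] M3) (f' : M1' →ₗ[S] M2') (g' : M2' →ₗ[S] M3')
    (hfg : Function.Exact f g) (hg : Function.Surjective g)
    (hfg' : Function.Exact f' g') (hg' : Function.Surjective g')
    (e1 : M1 ≃ₗ[S] M1') (e2 : M2 ≃ₗ[S] M2')
    (comm : e2.toLinearMap ∘ₗ f = f' ∘ₗ e1.toLinearMap) :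
    Nonempty (M3 ≃ₗ[S] M3') := by
  refine ⟨(hfg.linearEquivOfSurjective hg).symm ≪≫ₗ
    Submodule.Quotient.equiv _ _ e2 ?_ ≪≫ₗ hfg'.linearEquivOfSurjective hg'⟩
  rw [← LinearMap.range_comp, comm, LinearMap.range_comp_of_range_eq_top]
  exact LinearEquiv.range e1

end Groth.Agent.Lib.helper10.ExtShift
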