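import Groth.Agent.Lib.Helper10.SMT17

/-!
# The first fundamental theorem for `SL_d` acting on `n × d` matrices (helper10), part 1:
evaluation, scaling of the first column, semi-invariance of the components
-/

set_option autoImplicit false
set_option linter.unusedSectionVars false
set_option linter.style.haveILetI false

universe u

open MvPolynomial W4bk4grassmannian

namespace Groth.Agent.Lib.helper10.FFT

variable {d n : ℕ}

section Basic

variable (K : Type u) [Field K]

/-- Evaluation of a polynomial function at a matrix. -/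
noncomputable def evM (Y : Matrix (Fin n) (Fin d) K) : MatRing K d n →ₐ[K] K :=
  MvPolynomial.aeval fun p : Fin n × Fin d => Y p.1 p.2

theorem evM_X (Y : Matrix (Fin n) (Fin d) K) (p : Fin n × Fin d) :
    evM K Y (X p) = Y p.1 p.2 := by
  unfold evM
  rw [aeval_X]

theorem evM_rightTranslate (Y : Matrix (Fin n) (Fin d) K)
    (h : Matrix.SpecialLinearGroup (Fin d) K) (f : MatRing K d n) :
    evM K Y (rightTranslate K d n h f) = evM K (Y * (h : Matrix (Fin d) (Fin d) K)) f := by
  have e : (evM K Y).comp (rightTranslate K d n h) =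
      evM K (Y * (h : Matrix (Fin d) (Fin d) K)) := by
    apply MvPolynomial.algHom_ext
    intro p
    rw [AlgHom.comp_apply, evM_X]
    unfold rightTranslate
    rw [aeval_X, map_sum, Matrix.mul_apply]
    apply Finset.sum_congr rfl
    intro k _
    rw [map_mul, evM_X]
    congr 1
    unfold evM
    rw [MvPolynomial.aeval_C]
    rfl
  rw [← e]
  rfl

variable (hd : 0 < d)

/-- The diagonal matrix `diag(c, 1, …, 1)`. -/
def Dg (c : K) : Matrix (Fin d) (Fin d) K :=
  Matrix.diagonal fun t => if t = (⟨0, hd⟩ : Fin d) then c else 1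

theorem det_Dg (c : K) : (Dg K hd c).det = c := by
  unfold Dg
  rw [Matrix.det_diagonal, Finset.prod_ite_eq' Finset.univ (⟨0, hd⟩ : Fin d) (fun _ => c),
    if_pos (Finset.mem_univ _)]

theorem Dg_mul_Dg (a b : K) : Dg K hd a * Dg K hd b = Dg K hd (a * b) := by
  unfold Dg
  rw [Matrix.diagonal_mul_diagonal]
  congr 1
  ext t
  split_ifs
  · rfl
  · rw [mul_one]

theorem Dg_one : Dg K hd 1 = 1 := by
  unfold Dg
  rw [← Matrix.diagonal_one]
  congr 1
  ext t
  split_ifs <;> rfl

/-- The substitution scaling the first column by the polynomial variable. -/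
noncomputable def sc : MatRing K d n →ₐ[K] Polynomial (MatRing K d n) :=
  MvPolynomial.aeval fun p : Fin n × Fin d =>
    (if p.2 = (⟨0, hd⟩ : Fin d) then Polynomial.X else 1) * Polynomial.C (X p)

/-- The component of weight `a` in the first column. -/
noncomputable def comp (a : ℕ) (f : MatRing K d n) : MatRing K d n := (sc K hd f).coeff a

theorem eval_sc (Y : Matrix (Fin n) (Fin d) K) (c : K) (f : MatRing K d n) :
    Polynomial.eval c ((sc K hd f).map (evM K Y).toRingHom) = evM K (Y * Dg K hd c) f := by
  have e : ((Polynomial.aeval c : Polynomial K →ₐ[K] K).comp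
      ((Polynomial.mapAlgHom (evM K Y)).comp (sc K hd))) = evM K (Y * Dg K hd c) := by
    apply MvPolynomial.algHom_ext
    intro p
    rw [AlgHom.comp_apply, AlgHom.comp_apply, evM_X]
    unfold sc
    rw [aeval_X, map_mul, map_mul]
    unfold Dg
    rw [Matrix.mul_diagonal, Polynomial.coe_mapAlgHom, Polynomial.map_C, Polynomial.aeval_C]
    split_ifs with h
    · rw [Polynomial.map_X, Polynomial.aeval_X, mul_comm]
      congr 1
      exact evM_X K Y p
    · rw [Polynomial.map_one, map_one, one_mul, mul_one]
      exact evM_X K Y p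
  rw [← e]
  rfl

theorem sum_comp (f : MatRing K d n) :
    f = ∑ a ∈ Finset.range ((sc K hd f).natDegree + 1), comp K hd a f := by
  have e : ((Polynomial.aeval (1 : MatRing K d n) :
      Polynomial (MatRing K d n) →ₐ[MatRing K d n] MatRing K d n).restrictScalars K).comp
        (sc K hd) = AlgHom.id K (MatRing K d n) := by
    apply MvPolynomial.algHom_ext
    intro p
    rw [AlgHom.comp_apply, AlgHom.id_apply]
    unfold sc
    rw [aeval_X, map_mul]
    split_ifs with h
    · simp
    · simp
  have h1 : Polynomial.eval (1 : MatRing K d n) (sc K hd f) = f := by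
    have := DFunLike.congr_fun e f
    rw [AlgHom.comp_apply, AlgHom.id_apply] at this
    exact this
  conv_lhs => rw [← h1, Polynomial.eval_eq_sum_range]
  apply Finset.sum_congr rfl
  intro a _
  rw [one_pow, mul_one]
  rfl

end Basic

section Invariant

variable (K : Type u) [Field K] [Infinite K] (hd : 0 < d)

/-- An `SL_d`-invariant polynomial satisfies `f(Y g) = f(Y diag(det g, 1, …, 1))` for invertible
`g`. -/
theorem evM_mul_of_invariant (f : MatRing K d n)
    (hf : ∀ g : Matrix.SpecialLinearGroup (Fin d) K, rightTranslate K d n g f = f)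
    (Y : Matrix (Fin n) (Fin d) K) (g : Matrix (Fin d) (Fin d) K) (hg : g.det ≠ 0) :
    evM K (Y * g) f = evM K (Y * Dg K hd g.det) f := by
  have hdet : (Dg K hd g.det⁻¹ * g).det = 1 := by
    rw [Matrix.det_mul, det_Dg, inv_mul_cancel₀ hg]
  have h1 := evM_rightTranslate K (Y * Dg K hd g.det) ⟨Dg K hd g.det⁻¹ * g, hdet⟩ f
  rw [hf] at h1
  rw [h1]
  have h2 : Y * g = Y * Dg K hd g.det * (Dg K hd g.det⁻¹ * g) := by
    rw [Matrix.mul_assoc, ← Matrix.mul_assoc (Dg K hd g.det), Dg_mul_Dg, mul_inv_cancel₀ hg,
      Dg_one, Matrix.one_mul]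
  rw [h2]

/-- The components of an invariant polynomial are semi-invariant. -/
theorem evM_comp_of_invariant (f : MatRing K d n)
    (hf : ∀ g : Matrix.SpecialLinearGroup (Fin d) K, rightTranslate K d n g f = f)
    (a : ℕ) (Y : Matrix (Fin n) (Fin d) K) (g : Matrix (Fin d) (Fin d) K) (hg : g.det ≠ 0) :
    evM K (Y * g) (comp K hd a f) = g.det ^ a * evM K Y (comp K hd a f) := by
  obtain ⟨P, hP⟩ : ∃ P : Polynomial K, P = (sc K hd f).map (evM K (Y * g)).toRingHom := ⟨_, rfl⟩
  obtain ⟨Q, hQ⟩ : ∃ Q : Polynomial K, Q = ((sc K hd f).map (evM K Y).toRingHom).comp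
      (Polynomial.C g.det * Polynomial.X) := ⟨_, rfl⟩
  have hPQ : P = Q := by
    have h1 : (P - Q) * Polynomial.X = 0 := by
      apply Polynomial.funext
      intro c
      rw [Polynomial.eval_mul, Polynomial.eval_X, Polynomial.eval_zero, Polynomial.eval_sub]
      by_cases hc : c = 0
      · rw [hc, mul_zero]
      · have h2 : Polynomial.eval c P = Polynomial.eval c Q := by
          rw [hP, hQ, eval_sc, Polynomial.eval_comp, Polynomial.eval_mul, Polynomial.eval_C,
            Polynomial.eval_X, eval_sc]
          have hgc : (g * Dg K hd c).det ≠ 0 := by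
            rw [Matrix.det_mul, det_Dg]
            exact mul_ne_zero hg hc
          have h3 := evM_mul_of_invariant K hd f hf Y (g * Dg K hd c) hgc
          rw [Matrix.det_mul, det_Dg, ← Matrix.mul_assoc] at h3
          exact h3
        rw [h2, sub_self, zero_mul]
    rcases mul_eq_zero.1 h1 with h | h
    · exact sub_eq_zero.1 h
    · exact absurd h Polynomial.X_ne_zero
  have h4 : P.coeff a = Q.coeff a := by rw [hPQ]
  rw [hP, hQ, Polynomial.comp_C_mul_X_coeff, Polynomial.coeff_map, Polynomial.coeff_map] at h4
  rw [mul_comm]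
  exact h4

end Invariant

end Groth.Agent.Lib.helper10.FFT
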