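import Groth.Agent.Lib.Helper10.SMT9

/-!
# Standard monomial theory for the Grassmannian (helper10), part 10: standard monomial bases of
Schubert varieties and their unions; the shuffle relations generate the Schubert ideals
-/

set_option autoImplicit false
set_option linter.unusedSectionVars false
set_option linter.style.haveILetI false

universe u

open MvPolynomial W4bk4grassmannian

namespace Groth.Agent.Lib.helper10.SMT

variable {d n : ℕ}

/-- Standard chains of arbitrary length. -/
abbrev Chains (d n : ℕ) : Type := Σ m : ℕ, {c : Fin m → Idx d n // Antitone c}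

section Basic

variable (K : Type u) [CommRing K]

theorem schubertVanishing_mono {φ τ : Idx d n} (h : φ ≤ τ) :
    schubertVanishing K d n τ ≤ schubertVanishing K d n φ := by
  unfold schubertVanishing
  apply le_iInf
  intro A
  apply le_iInf
  intro hA
  exact iInf_le_of_le A (iInf_le_of_le (fun ψ hψ => hA ψ (fun hψφ => hψ (le_trans hψφ h))) le_rfl)

theorem chainMon_mem_ideal (I : Ideal (PlRing K d n)) {m : ℕ} (c : Fin m → Idx d n) (k : Fin m)
    (h : (X (c k) : PlRing K d n) ∈ I) : chainMon K c ∈ I := by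
  unfold chainMon
  exact Ideal.mem_of_dvd I (Finset.dvd_prod_of_mem (fun k => (X (c k) : PlRing K d n))
    (Finset.mem_univ k)) h

theorem chainMon_mem_of_not_le (τ : Idx d n) {m : ℕ} (c : Fin m → Idx d n) (k : Fin m)
    (hk : ¬ c k ≤ τ) : chainMon K c ∈ schubertVanishing K d n τ :=
  chainMon_mem_ideal K _ c k (X_mem_schubertVanishing K τ (c k) hk)

/-- Spanning modulo an ideal containing the shuffle relations. -/
theorem std_span_general (J : Ideal (PlRing K d n)) (hJ : plIdealTop (d := d) (n := n) K ≤ J)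
    (Q : Chains d n → Prop) (hQ : ∀ c : Chains d n, ¬ Q c → chainMon K c.2.1 ∈ J)
    (f : PlRing K d n) :
    ∃ g ∈ Submodule.span K ((fun c : Chains d n => chainMon K c.2.1) '' {c | Q c}), f - g ∈ J := by
  obtain ⟨g₀, hg₀, hfg₀⟩ := exists_std_sub_mem K f
  have hle : stdPoly (d := d) (n := n) K ≤
      Submodule.span K ((fun c : Chains d n => chainMon K c.2.1) '' {c | Q c}) ⊔
        J.restrictScalars K := by
    unfold stdPoly
    rw [Submodule.span_le]
    rintro _ ⟨c, rfl⟩
    by_cases hc : Q c
    · exact Submodule.mem_sup_left (Submodule.subset_span ⟨c, hc, rfl⟩)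
    · exact Submodule.mem_sup_right (hQ c hc)
  obtain ⟨g, hg, h, hh, hsum⟩ := Submodule.mem_sup.1 (hle hg₀)
  refine ⟨g, hg, ?_⟩
  have : f - g = (f - g₀) + h := by rw [← hsum]; ring
  rw [this]
  exact J.add_mem (hJ hfg₀) hh

end Basic

section Field

variable (K : Type u) [Field K] [Infinite K]

/-- Independence for a union of Schubert varieties. -/
theorem std_independent_union (hd : 0 < d) {κ : Type*} (τs : κ → Idx d n) {ι : Type*}
    (e : ι → Chains d n) (he : Function.Injective e) (s : Finset ι) (g : ι → K)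
    (hs : ∀ c ∈ s, ∃ i, ∀ k, (e c).2.1 k ≤ τs i)
    (hsum : ∑ c ∈ s, g c • chainMon K (e c).2.1 ∈ ⨅ i, schubertVanishing K d n (τs i)) :
    ∀ c ∈ s, g c = 0 := by
  classical
  intro c₀ hc₀
  obtain ⟨i, hi⟩ := hs c₀ hc₀
  have hsum_i : ∑ c ∈ s, g c • chainMon K (e c).2.1 ∈ schubertVanishing K d n (τs i) :=
    (Ideal.mem_iInf.1 hsum) i
  rw [← Finset.sum_filter_add_sum_filter_not s (fun c => ∀ k, (e c).2.1 k ≤ τs i)] at hsum_i
  have h2 : ∑ c ∈ s.filter (fun c => ¬ ∀ k, (e c).2.1 k ≤ τs i), g c • chainMon K (e c).2.1 ∈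
      schubertVanishing K d n (τs i) := by
    apply Ideal.sum_mem
    intro c hc
    rw [Finset.mem_filter] at hc
    obtain ⟨k, hk⟩ := not_forall.1 hc.2
    rw [MvPolynomial.smul_eq_C_mul]
    exact Ideal.mul_mem_left _ _ (chainMon_mem_of_not_le K (τs i) _ k hk)
  have h1 := (Ideal.add_mem_iff_left _ h2).1 hsum_i
  have key := std_independent K hd (τs i)
    ((s.filter (fun c => ∀ k, (e c).2.1 k ≤ τs i)).map ⟨e, he⟩) (Function.extend e g 0)
    (by
      intro x hx
      rw [Finset.mem_map] at hx
      obtain ⟨c, hc, rfl⟩ := hx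
      exact (Finset.mem_filter.1 hc).2)
    (by
      rw [Finset.sum_map]
      simp only [Function.Embedding.coeFn_mk]
      simp_rw [he.extend_apply]
      exact h1)
  have := key (e c₀) (Finset.mem_map.2 ⟨c₀, Finset.mem_filter.2 ⟨hc₀, hi⟩, rfl⟩)
  rw [he.extend_apply] at this
  exact this

/-- **The shuffle relations and the vanishing coordinates generate the Schubert ideal.** -/
theorem plIdeal_eq_schubertVanishing (hd : 0 < d) (τ : Idx d n) :
    plIdeal K τ = schubertVanishing K d n τ := by
  apply le_antisymm (plIdeal_le_schubertVanishing K τ)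
  intro f hf
  obtain ⟨g, hg, hfg⟩ := std_span_general K (plIdeal K τ)
    (by rw [plIdeal_eq_sup]; exact le_sup_left)
    (fun c => ∀ k, c.2.1 k ≤ τ)
    (by
      intro c hc
      obtain ⟨k, hk⟩ := not_forall.1 hc
      apply chainMon_mem_ideal K _ c.2.1 k
      unfold plIdeal
      exact Ideal.subset_span (Or.inr ⟨c.2.1 k, hk, rfl⟩)) f
  have hgJ : g ∈ schubertVanishing K d n τ := by
    have h1 : g = f - (f - g) := by ring
    rw [h1]
    exact Ideal.sub_mem _ hf (plIdeal_le_schubertVanishing K τ hfg)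
  rw [Finsupp.mem_span_image_iff_linearCombination] at hg
  obtain ⟨l, hl, hlg⟩ := hg
  rw [Finsupp.linearCombination_apply, Finsupp.sum] at hlg
  have hzero := std_independent K hd τ l.support l
    (fun c hc => (Finsupp.mem_supported K l).1 hl hc) (by rw [hlg]; exact hgJ)
  have hl0 : l = 0 := by
    ext c
    by_cases hc : c ∈ l.support
    · exact hzero c hc
    · exact Finsupp.notMem_support_iff.1 hc
  rw [hl0] at hlg
  simp only [Finsupp.support_zero, Finset.sum_empty] at hlg
  have : f = f - g := by rw [← hlg, sub_zero]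
  rw [this]
  exact hfg

/-- **Standard monomial basis of a union of Schubert varieties.** -/
theorem union_basis (hd : 0 < d) {κ : Type*} (τs : κ → Idx d n) :
    LinearIndependent K (fun c : (Σ m : ℕ, {c : Fin m → Idx d n //
        Antitone c ∧ ∃ i, ∀ k, c k ≤ τs i}) =>
        Ideal.Quotient.mk (⨅ i, schubertVanishing K d n (τs i)) (chainMon K c.2.1)) ∧
      Submodule.span K (Set.range fun c : (Σ m : ℕ, {c : Fin m → Idx d n //
        Antitone c ∧ ∃ i, ∀ k, c k ≤ τs i}) =>
        Ideal.Quotient.mk (⨅ i, schubertVanishing K d n (τs i)) (chainMon K c.2.1)) = ⊤ := by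
  constructor
  · rw [linearIndependent_iff']
    intro s g hsum c hc
    have h1 : Ideal.Quotient.mk (⨅ i, schubertVanishing K d n (τs i))
        (∑ c ∈ s, g c • chainMon K c.2.1) = 0 := by
      rw [map_sum, ← hsum]
      apply Finset.sum_congr rfl
      intro c _
      exact map_smul (Ideal.Quotient.mkₐ K (⨅ i, schubertVanishing K d n (τs i))) (g c)
        (chainMon K c.2.1)
    rw [Ideal.Quotient.eq_zero_iff_mem] at h1
    exact std_independent_union K hd τs
      (fun c : (Σ m : ℕ, {c : Fin m → Idx d n // Antitone c ∧ ∃ i, ∀ k, c k ≤ τs i}) =>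
        (⟨c.1, ⟨c.2.1, c.2.2.1⟩⟩ : Chains d n))
      (by
        rintro ⟨m, c, hc⟩ ⟨m', c', hc'⟩ h
        simp only [Sigma.mk.injEq] at h
        obtain ⟨rfl, h2⟩ := h
        have h3 := eq_of_heq h2
        simp only [Subtype.mk.injEq] at h3
        subst h3
        rfl)
      s g (fun c _ => c.2.2.2) h1 c hc
  · rw [eq_top_iff]
    intro x _
    obtain ⟨f, rfl⟩ := Ideal.Quotient.mk_surjective x
    obtain ⟨g, hg, hfg⟩ := std_span_general K (⨅ i, schubertVanishing K d n (τs i))
      (le_iInf fun i => plIdealTop_le_schubertVanishing K (τs i))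
      (fun c => ∃ i, ∀ k, c.2.1 k ≤ τs i)
      (by
        intro c hc
        rw [Ideal.mem_iInf]
        intro i
        have h1 : ¬ ∀ k, c.2.1 k ≤ τs i := fun h => hc ⟨i, h⟩
        obtain ⟨k, hk⟩ := not_forall.1 h1
        exact chainMon_mem_of_not_le K (τs i) _ k hk) f
    have h1 : Ideal.Quotient.mk (⨅ i, schubertVanishing K d n (τs i)) f =
        Ideal.Quotient.mk (⨅ i, schubertVanishing K d n (τs i)) g := Ideal.Quotient.eq.2 hfg
    rw [h1]
    have h2 : (Ideal.Quotient.mkₐ K (⨅ i, schubertVanishing K d n (τs i))).toLinearMap g ∈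
        Submodule.map (Ideal.Quotient.mkₐ K (⨅ i, schubertVanishing K d n (τs i))).toLinearMap
          (Submodule.span K ((fun c : Chains d n => chainMon K c.2.1) ''
            {c | ∃ i, ∀ k, c.2.1 k ≤ τs i})) := Submodule.mem_map_of_mem hg
    rw [Submodule.map_span] at h2
    refine Submodule.span_mono ?_ h2
    rintro _ ⟨_, ⟨c, hc, rfl⟩, rfl⟩
    exact ⟨⟨c.1, ⟨c.2.1, c.2.2, hc⟩⟩, rfl⟩

end Field

end Groth.Agent.Lib.helper10.SMT
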