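import Groth.Agent.Lib.Helper10.FFT2
import Groth.Agent.S11254

/-!
# The first fundamental theorem for `SL_d` acting on `n × d` matrices (helper10), part 3
-/

set_option autoImplicit false
set_option linter.unusedSectionVars false
set_option linter.style.haveILetI false

universe u

open MvPolynomial W4bk4grassmannian

namespace Groth.Agent.Lib.helper10.FFT

open Groth.Agent.Lib.helper10.SMT

variable {d n : ℕ}

section Easy

variable (K : Type u) [Field K]

theorem rightTranslate_minor (g : Matrix.SpecialLinearGroup (Fin d) K) (a : Fin d → Fin n) :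
    rightTranslate K d n g (minor K d n a) = minor K d n a := by
  unfold minor
  rw [AlgHom.map_det]
  have h1 : (rightTranslate K d n g).mapMatrix
      (Matrix.of fun s t : Fin d => (X (a s, t) : MatRing K d n)) =
      (Matrix.of fun s t : Fin d => (X (a s, t) : MatRing K d n)) *
        (C : K →+* MatRing K d n).mapMatrix (g : Matrix (Fin d) (Fin d) K) := by
    refine Matrix.ext fun s t => ?_
    rw [AlgHom.mapMatrix_apply, Matrix.map_apply, Matrix.of_apply, Matrix.mul_apply]
    unfold rightTranslate
    rw [aeval_X]
    rfl
  rw [h1, Matrix.det_mul, ← RingHom.map_det, g.2, map_one, mul_one]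

theorem rightTranslate_of_mem_range (g : Matrix.SpecialLinearGroup (Fin d) K)
    (f : MatRing K d n) (hf : f ∈ (pluckerMap K d n).range) :
    rightTranslate K d n g f = f := by
  obtain ⟨F, rfl⟩ := hf
  have e : (rightTranslate K d n g).comp (pluckerMap K d n) = pluckerMap K d n := by
    apply MvPolynomial.algHom_ext
    intro θ
    rw [AlgHom.comp_apply]
    unfold pluckerMap
    rw [aeval_X]
    exact rightTranslate_minor K g θ.1
  exact DFunLike.congr_fun e F

theorem range_pluckerMap :
    (pluckerMap K d n).range = Algebra.adjoin K (Set.range fun θ : Idx d n => minor K d n θ.1) := by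
  unfold pluckerMap
  rw [Algebra.adjoin_range_eq_range_aeval]

end Easy

section Descent

variable (K : Type u) [Field K] [IsAlgClosed K] (hd : 0 < d) (hdn : d < n)

theorem pluckerMap_eq_zero_of_mem (F : PlRing K d n)
    (hF : F ∈ schubertVanishing K d n (topIdx hdn.le)) : pluckerMap K d n F = 0 := by
  haveI : Infinite K := inferInstance
  apply eq_zero_of_evM
  intro Y
  rw [← evalMinors_eq]
  unfold schubertVanishing at hF
  rw [Ideal.mem_iInf] at hF
  have h1 := hF Y
  rw [Ideal.mem_iInf] at h1
  exact h1 (fun φ hφ => absurd (le_topIdx hdn.le φ) hφ)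

include hd in
theorem descent : ∀ (N : ℕ) (r : MatRing K d n),
    delta K hdn ^ N * r ∈ (pluckerMap K d n).range → r ∈ (pluckerMap K d n).range := by
  haveI : Infinite K := inferInstance
  intro N
  induction N with
  | zero =>
    intro r hr
    rw [pow_zero, one_mul] at hr
    exact hr
  | succ N ih =>
    intro r hr
    obtain ⟨F, hF⟩ := hr
    have hFmem : F ∈ ⨅ φ ∈ divisors (topIdx hdn.le), schubertVanishing K d n φ := by
      rw [Ideal.mem_iInf]
      intro φ
      rw [Ideal.mem_iInf]
      intro hφ
      unfold schubertVanishing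
      rw [Ideal.mem_iInf]
      intro A
      rw [Ideal.mem_iInf]
      intro hA
      rw [RingHom.mem_ker]
      show evalMinors K d n A F = 0
      have hF' : pluckerMap K d n F = delta K hdn ^ (N + 1) * r := hF
      rw [evalMinors_eq, hF', pow_succ, map_mul, map_mul, evM_delta,
        hA (topIdx hdn.le) (not_le_of_gt hφ.1), mul_zero, zero_mul]
    rw [← Groth.Agent.S11254.result K d n hd hdn (topIdx hdn.le) (exists_lt_topIdx hd hdn)]
      at hFmem
    obtain ⟨j, hj, z, hz, hjz⟩ := Submodule.mem_sup.1 hFmem
    obtain ⟨F'', rfl⟩ := Ideal.mem_span_singleton'.1 hz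
    have hF' : pluckerMap K d n F = delta K hdn ^ (N + 1) * r := hF
    rw [← hjz, map_add, pluckerMap_eq_zero_of_mem K hdn j hj, zero_add, map_mul,
      ← delta_eq K hdn] at hF'
    have h2 : delta K hdn ^ N * r = pluckerMap K d n F'' := by
      apply mul_right_cancel₀ (delta_ne_zero K hdn)
      rw [hF', pow_succ]
      ring
    exact ih r ⟨F'', h2.symm⟩

include hd hdn in
/-- **First fundamental theorem** for `SL_d`: invariants are polynomials in the minors. -/
theorem mem_range_of_invariant (f : MatRing K d n)
    (hf : ∀ g : Matrix.SpecialLinearGroup (Fin d) K, rightTranslate K d n g f = f) :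
    f ∈ (pluckerMap K d n).range := by
  haveI : Infinite K := inferInstance
  rw [sum_comp K hd f]
  apply Subalgebra.sum_mem
  intro a _
  apply descent K hd hdn ((d - 1) * a)
  rw [← aeval_adjM_comp K hd hdn f hf a]
  exact aeval_mem_range K _ (adjM_mem K hdn) _

end Descent

end Groth.Agent.Lib.helper10.FFT
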