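import Mathlib

/-!
Lifting `F`-equivariant maps modulo a Frobenius-nilpotent ideal (Zink, Lemma 42 type argument; helper10).
-/

set_option autoImplicit false

noncomputable section

namespace Groth.Agent.Lib.helper10.FLin

set_option linter.style.haveILetI false
set_option linter.unusedSectionVars false

universe u v w z

open Module

variable {W : Type u} [CommRing W] {σ : W →+* W}
  {P₁ : Type v} [AddCommGroup P₁] [Module W P₁] {P₂ : Type w} [AddCommGroup P₂] [Module W P₂]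
  {ι₁ : Type z} [Finite ι₁]
  (b₁ : Basis ι₁ W P₁)
  (F₁ : P₁ →ₛₗ[σ] P₁) (F₂ : P₂ →ₛₗ[σ] P₂)
  (hF₁ : LinearIndependent W (fun i => F₁ (b₁ i)) ∧
    Submodule.span W (Set.range fun i => F₁ (b₁ i)) = ⊤)

/-- the basis `F₁ b₁` -/
def cB : Basis ι₁ W P₁ := Basis.mk hF₁.1 hF₁.2.ge

lemma cB_apply (i : ι₁) : cB b₁ F₁ hF₁ i = F₁ (b₁ i) := by
  unfold cB; rw [Basis.mk_apply]

/-- the operator `U ω = F₂ ∘ ω ∘ F₁⁻¹` (linearised) -/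
def U (ω : P₁ →ₗ[W] P₂) : P₁ →ₗ[W] P₂ :=
  (cB b₁ F₁ hF₁).constr W (fun i => F₂ (ω (b₁ i)))

lemma U_apply_F (ω : P₁ →ₗ[W] P₂) (x : P₁) : U b₁ F₁ F₂ hF₁ ω (F₁ x) = F₂ (ω x) := by
  have h : (U b₁ F₁ F₂ hF₁ ω).comp F₁ = F₂.comp ω := by
    apply b₁.ext
    intro i
    rw [LinearMap.comp_apply, LinearMap.comp_apply, ← cB_apply b₁ F₁ hF₁ i]
    unfold U
    rw [Basis.constr_basis]
  have := LinearMap.congr_fun h x
  simpa using this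

lemma U_add (ω ω' : P₁ →ₗ[W] P₂) :
    U b₁ F₁ F₂ hF₁ (ω + ω') = U b₁ F₁ F₂ hF₁ ω + U b₁ F₁ F₂ hF₁ ω' := by
  apply (cB b₁ F₁ hF₁).ext
  intro i
  unfold U
  rw [LinearMap.add_apply, Basis.constr_basis, Basis.constr_basis, Basis.constr_basis,
    LinearMap.add_apply, map_add]

lemma U_sub (ω ω' : P₁ →ₗ[W] P₂) :
    U b₁ F₁ F₂ hF₁ (ω - ω') = U b₁ F₁ F₂ hF₁ ω - U b₁ F₁ F₂ hF₁ ω' := by
  apply (cB b₁ F₁ hF₁).ext
  intro i
  unfold U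
  rw [LinearMap.sub_apply, Basis.constr_basis, Basis.constr_basis, Basis.constr_basis,
    LinearMap.sub_apply, map_sub]

lemma U_zero : U b₁ F₁ F₂ hF₁ 0 = 0 := by
  apply (cB b₁ F₁ hF₁).ext
  intro i
  unfold U
  rw [Basis.constr_basis, LinearMap.zero_apply, map_zero, LinearMap.zero_apply]

/-- `U ω = ω` iff `ω` commutes with `F`. -/
lemma U_eq_self_iff (ω : P₁ →ₗ[W] P₂) :
    U b₁ F₁ F₂ hF₁ ω = ω ↔ ∀ x, F₂ (ω x) = ω (F₁ x) := by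
  constructor
  · intro h x
    rw [← U_apply_F b₁ F₁ F₂ hF₁ ω x, h]
  · intro h
    apply (cB b₁ F₁ hF₁).ext
    intro i
    rw [cB_apply, U_apply_F, h]

lemma F_mem (𝔡 : Ideal W) {y : P₂} (hy : y ∈ 𝔡 • (⊤ : Submodule W P₂)) :
    F₂ y ∈ 𝔡.map σ • (⊤ : Submodule W P₂) := by
  refine Submodule.smul_induction_on hy (fun d hd z _ => ?_) (fun a b ha hb => ?_)
  · rw [LinearMap.map_smulₛₗ]
    exact Submodule.smul_mem_smul (Ideal.mem_map_of_mem σ hd) Submodule.mem_top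
  · rw [map_add]; exact Submodule.add_mem _ ha hb

/-- a linear map sending a basis into a submodule has image in it -/
lemma mem_of_basis {ι : Type*} [Finite ι] (c : Basis ι W P₁) (N : Submodule W P₂) (η : P₁ →ₗ[W] P₂)
    (h : ∀ i, η (c i) ∈ N) (x : P₁) : η x ∈ N := by
  haveI := Fintype.ofFinite ι
  rw [← c.sum_repr x, map_sum]
  refine Submodule.sum_mem _ (fun i _ => ?_)
  rw [map_smul]
  exact N.smul_mem _ (h i)

lemma U_mem (𝔡 : Ideal W) (ω : P₁ →ₗ[W] P₂) (hω : ∀ x, ω x ∈ 𝔡 • (⊤ : Submodule W P₂)) (x : P₁) :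
    U b₁ F₁ F₂ hF₁ ω x ∈ 𝔡.map σ • (⊤ : Submodule W P₂) := by
  apply mem_of_basis (cB b₁ F₁ hF₁)
  intro i
  rw [cB_apply, U_apply_F]
  exact F_mem F₂ 𝔡 (hω _)

/-- iterated Frobenius images of an ideal -/
def Jm (σ : W →+* W) (𝔠 : Ideal W) : ℕ → Ideal W
  | 0 => 𝔠
  | m + 1 => (Jm σ 𝔠 m).map σ

lemma Jm_le_span (𝔠 : Ideal W) (m : ℕ) : Jm σ 𝔠 m ≤ Ideal.span (σ^[m] '' (𝔠 : Set W)) := by
  induction m with
  | zero => simpa [Jm] using Ideal.subset_span (s := (𝔠 : Set W))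
  | succ m ih =>
    show (Jm σ 𝔠 m).map σ ≤ _
    refine le_trans (Ideal.map_mono ih) ?_
    rw [Ideal.map_span, Ideal.span_le]
    rintro _ ⟨_, ⟨x, hx, rfl⟩, rfl⟩
    apply Ideal.subset_span
    exact ⟨x, hx, by rw [Function.iterate_succ_apply']⟩

lemma Jm_eq_bot (𝔠 : Ideal W) (M : ℕ) (hM : ∀ x ∈ 𝔠, σ^[M] x = 0) : Jm σ 𝔠 M = ⊥ := by
  rw [eq_bot_iff]
  refine le_trans (Jm_le_span 𝔠 M) ?_
  rw [Ideal.span_le]
  rintro _ ⟨x, hx, rfl⟩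
  rw [hM x hx]; exact Ideal.zero_mem _

lemma Jm_le (𝔠 : Ideal W) (h𝔠 : ∀ x ∈ 𝔠, σ x ∈ 𝔠) (m : ℕ) : Jm σ 𝔠 m ≤ 𝔠 := by
  induction m with
  | zero => exact le_rfl
  | succ m ih =>
    show (Jm σ 𝔠 m).map σ ≤ _
    refine le_trans (Ideal.map_mono ih) ?_
    rw [Ideal.map_le_iff_le_comap]
    intro x hx
    exact h𝔠 x hx

lemma iterate_U_mem (𝔠 : Ideal W) (ω : P₁ →ₗ[W] P₂) (hω : ∀ x, ω x ∈ 𝔠 • (⊤ : Submodule W P₂))
    (m : ℕ) (x : P₁) :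
    (U b₁ F₁ F₂ hF₁)^[m] ω x ∈ Jm σ 𝔠 m • (⊤ : Submodule W P₂) := by
  induction m generalizing x with
  | zero => exact hω x
  | succ m ih =>
    rw [Function.iterate_succ_apply']
    exact U_mem b₁ F₁ F₂ hF₁ _ _ ih x

lemma iterate_U_eq_zero (𝔠 : Ideal W) (M : ℕ) (hM : ∀ x ∈ 𝔠, σ^[M] x = 0)
    (ω : P₁ →ₗ[W] P₂) (hω : ∀ x, ω x ∈ 𝔠 • (⊤ : Submodule W P₂)) :
    (U b₁ F₁ F₂ hF₁)^[M] ω = 0 := by
  apply LinearMap.ext
  intro x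
  have := iterate_U_mem b₁ F₁ F₂ hF₁ 𝔠 ω hω M x
  rw [Jm_eq_bot 𝔠 M hM, Submodule.bot_smul, Submodule.mem_bot] at this
  rw [this, LinearMap.zero_apply]

include b₁ hF₁ in
theorem unique_lift (𝔠 : Ideal W) (M : ℕ) (hM : ∀ x ∈ 𝔠, σ^[M] x = 0)
    (α α' : P₁ →ₗ[W] P₂) (h : ∀ x, α x - α' x ∈ 𝔠 • (⊤ : Submodule W P₂))
    (hα : ∀ x, F₂ (α x) = α (F₁ x)) (hα' : ∀ x, F₂ (α' x) = α' (F₁ x)) : α = α' := by
  have h1 : U b₁ F₁ F₂ hF₁ (α - α') = α - α' := by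
    rw [U_sub, (U_eq_self_iff b₁ F₁ F₂ hF₁ α).2 hα, (U_eq_self_iff b₁ F₁ F₂ hF₁ α').2 hα']
  have h2 : ∀ m : ℕ, (U b₁ F₁ F₂ hF₁)^[m] (α - α') = α - α' := by
    intro m
    induction m with
    | zero => rfl
    | succ m ih => rw [Function.iterate_succ_apply', ih, h1]
  have h3 := iterate_U_eq_zero b₁ F₁ F₂ hF₁ 𝔠 M hM (α - α') (fun x => by
    rw [LinearMap.sub_apply]; exact h x)
  rw [h2 M] at h3
  exact sub_eq_zero.1 h3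

include b₁ hF₁ in
theorem exists_lift (𝔠 : Ideal W) (h𝔠 : ∀ x ∈ 𝔠, σ x ∈ 𝔠) (M : ℕ) (hM : ∀ x ∈ 𝔠, σ^[M] x = 0)
    (α₀ : P₁ →ₗ[W] P₂) (hα₀ : ∀ x, F₂ (α₀ x) - α₀ (F₁ x) ∈ 𝔠 • (⊤ : Submodule W P₂)) :
    ∃ α : P₁ →ₗ[W] P₂, (∀ x, α x - α₀ x ∈ 𝔠 • (⊤ : Submodule W P₂)) ∧
      ∀ x, F₂ (α x) = α (F₁ x) := by
  set UU := U b₁ F₁ F₂ hF₁ with hUU
  set η : P₁ →ₗ[W] P₂ := UU α₀ - α₀ with hη
  have hηmem : ∀ x, η x ∈ 𝔠 • (⊤ : Submodule W P₂) := by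
    apply mem_of_basis (cB b₁ F₁ hF₁)
    intro i
    rw [hη, LinearMap.sub_apply, cB_apply, hUU, U_apply_F]
    exact hα₀ _
  set ω : P₁ →ₗ[W] P₂ := ∑ j ∈ Finset.range M, UU^[j] η with hω
  have hωmem : ∀ x, ω x ∈ 𝔠 • (⊤ : Submodule W P₂) := by
    intro x
    rw [hω, LinearMap.sum_apply]
    refine Submodule.sum_mem _ (fun j _ => ?_)
    exact Submodule.smul_mono (Jm_le 𝔠 h𝔠 j) le_rfl (iterate_U_mem b₁ F₁ F₂ hF₁ 𝔠 η hηmem j x)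
  have hUsum : ∀ (s : Finset ℕ) (f : ℕ → (P₁ →ₗ[W] P₂)), UU (∑ j ∈ s, f j) = ∑ j ∈ s, UU (f j) := by
    intro s f
    classical
    induction s using Finset.induction_on with
    | empty => rw [Finset.sum_empty, Finset.sum_empty, hUU, U_zero]
    | insert a s ha ih => rw [Finset.sum_insert ha, Finset.sum_insert ha, hUU, U_add, ← hUU, ih]
  have hUω : UU ω = ω - η := by
    rw [hω, hUsum]
    have h1 : ∀ j, UU (UU^[j] η) = UU^[j + 1] η := fun j => by rw [Function.iterate_succ_apply']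
    simp_rw [h1]
    have h2 : UU^[M] η = 0 := iterate_U_eq_zero b₁ F₁ F₂ hF₁ 𝔠 M hM η hηmem
    have h3 : ∑ j ∈ Finset.range M, UU^[j + 1] η + UU^[0] η =
        ∑ j ∈ Finset.range M, UU^[j] η + UU^[M] η :=
      (Finset.sum_range_succ' (fun j => UU^[j] η) M).symm.trans
        (Finset.sum_range_succ (fun j => UU^[j] η) M)
    rw [h2, add_zero, Function.iterate_zero, id_eq] at h3
    exact eq_sub_of_add_eq h3
  refine ⟨α₀ + ω, fun x => ?_, ?_⟩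
  · rw [LinearMap.add_apply, add_sub_cancel_left]; exact hωmem x
  · rw [← U_eq_self_iff b₁ F₁ F₂ hF₁, ← hUU, hUU, U_add, ← hUU, hUω, hη]
    abel

end Groth.Agent.Lib.helper10.FLin
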