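import Mathlib

/-!
# Rational cone lemma (helper10)

For an integer matrix `M` and a real vector `p ≥ 0`, `p ≠ 0` with `M p = 0`, `p` is a positive
combination of ℤ-independent nonnegative integer vectors in the kernel of `M`, with supports
contained in the support of `p`.
-/

set_option autoImplicit false

namespace Groth.Agent.Lib.Helper10.RatCone

open Matrix

set_option linter.unusedSectionVars false
variable {ι κ : Type*} [Fintype ι] [Fintype κ] [DecidableEq ι]

/-- real extension of an integer matrix -/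
noncomputable abbrev toReal (M : Matrix κ ι ℤ) : Matrix κ ι ℝ := M.map (Int.castRingHom ℝ)

lemma toReal_mulVec_cast (M : Matrix κ ι ℤ) (w : ι → ℤ) :
    (toReal M) *ᵥ (fun i => (w i : ℝ)) = fun j => ((M *ᵥ w) j : ℝ) := by
  funext j
  exact (RingHom.map_mulVec (Int.castRingHom ℝ) M w j).symm

/-- A nonzero real kernel vector gives a nonzero integer kernel vector. -/
lemma exists_int_ker (M : Matrix κ ι ℤ) (v : ι → ℝ) (hv : v ≠ 0) (h : (toReal M) *ᵥ v = 0) :
    ∃ w : ι → ℤ, w ≠ 0 ∧ M *ᵥ w = 0 := by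
  let N : Matrix ι ι ℤ := Mᵀ * M
  have hN : toReal N = (toReal M)ᵀ * toReal M := by
    change (Mᵀ * M).map (Int.castRingHom ℝ) = (M.map (Int.castRingHom ℝ))ᵀ * M.map (Int.castRingHom ℝ)
    rw [Matrix.map_mul, Matrix.transpose_map]
  have h1 : (toReal N) *ᵥ v = 0 := by
    rw [hN, ← Matrix.mulVec_mulVec, h, Matrix.mulVec_zero]
  have hdetR : (toReal N).det = 0 := Matrix.exists_mulVec_eq_zero_iff.mp ⟨v, hv, h1⟩
  have hdet : N.det = 0 := by
    have : (toReal N).det = ((N.det : ℤ) : ℝ) := by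
      change ((Int.castRingHom ℝ).mapMatrix N).det = _
      rw [← RingHom.map_det]
      rfl
    rw [this] at hdetR
    exact_mod_cast hdetR
  obtain ⟨w, hw, hNw⟩ := Matrix.exists_mulVec_eq_zero_iff.mpr hdet
  refine ⟨w, hw, ?_⟩
  have h2 : (M *ᵥ w) ⬝ᵥ (M *ᵥ w) = 0 := by
    have : (M *ᵥ w) ⬝ᵥ (M *ᵥ w) = w ⬝ᵥ (N *ᵥ w) := by
      change _ = w ⬝ᵥ ((Mᵀ * M) *ᵥ w)
      conv_rhs => rw [← Matrix.mulVec_mulVec, Matrix.dotProduct_mulVec, Matrix.vecMul_transpose]
    rw [this, hNw, dotProduct_zero]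
  exact dotProduct_self_eq_zero.mp h2

/-- Same, with support control. -/
lemma exists_int_ker_supp (M : Matrix κ ι ℤ) (v : ι → ℝ) (hv : v ≠ 0) (h : (toReal M) *ᵥ v = 0) :
    ∃ w : ι → ℤ, w ≠ 0 ∧ M *ᵥ w = 0 ∧ ∀ i, v i = 0 → w i = 0 := by
  classical
  let E : Matrix {i // v i = 0} ι ℤ := Matrix.of fun a j => if a.1 = j then (1 : ℤ) else 0
  let M' : Matrix (κ ⊕ {i // v i = 0}) ι ℤ := Matrix.fromRows M E
  have hE : ∀ (w : ι → ℤ) (a : {i // v i = 0}), (E *ᵥ w) a = w a.1 := by
    intro w a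
    simp [E, Matrix.mulVec, dotProduct]
  have h' : (toReal M') *ᵥ v = 0 := by
    funext b
    rcases b with j | a
    · have := congrFun h j
      simpa [toReal, M', Matrix.mulVec, dotProduct] using this
    · have : ∑ x, (((if a.1 = x then (1 : ℤ) else 0 : ℤ) : ℝ)) * v x = 0 := by
        rw [Finset.sum_eq_single a.1]
        · simp [a.2]
        · intro b _ hb
          simp [Ne.symm hb]
        · intro hh; exact absurd (Finset.mem_univ _) hh
      simpa [toReal, M', E, Matrix.mulVec, dotProduct] using this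
  obtain ⟨w, hw, hMw⟩ := exists_int_ker M' v hv h'
  refine ⟨w, hw, ?_, ?_⟩
  · funext j
    have := congrFun hMw (Sum.inl j)
    simpa [M', Matrix.fromRows_mulVec] using this
  · intro i hi
    have := congrFun hMw (Sum.inr ⟨i, hi⟩)
    rw [Matrix.fromRows_mulVec] at this
    simpa [hE] using this

/-- The reduction step: subtract the largest multiple of `w` keeping `p` nonnegative. -/
lemma step (p : ι → ℝ) (hp0 : ∀ i, 0 ≤ p i) (w : ι → ℤ) (hw : ∃ i, 0 < w i)
    (hsupp : ∀ i, p i = 0 → w i = 0) :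
    ∃ (t : ℝ) (i₀ : ι), 0 < t ∧ 0 < w i₀ ∧ p i₀ = t * w i₀ ∧ (∀ i, 0 ≤ p i - t * w i) := by
  classical
  let J : Finset ι := Finset.univ.filter (fun i => 0 < w i)
  have hJ : J.Nonempty := by
    obtain ⟨i, hi⟩ := hw
    exact ⟨i, Finset.mem_filter.mpr ⟨Finset.mem_univ _, hi⟩⟩
  obtain ⟨i₀, hi₀J, hmin⟩ := Finset.exists_min_image J (fun i => p i / (w i : ℝ)) hJ
  have hwi₀ : 0 < w i₀ := (Finset.mem_filter.mp hi₀J).2
  have hwi₀R : (0 : ℝ) < (w i₀ : ℝ) := by exact_mod_cast hwi₀
  have hpi₀ : 0 < p i₀ := by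
    rcases (hp0 i₀).lt_or_eq with h | h
    · exact h
    · exact absurd (hsupp i₀ h.symm) hwi₀.ne'
  refine ⟨p i₀ / (w i₀ : ℝ), i₀, div_pos hpi₀ hwi₀R, hwi₀, ?_, ?_⟩
  · field_simp
  · intro i
    rcases lt_or_ge 0 (w i) with hi | hi
    · have hiR : (0 : ℝ) < (w i : ℝ) := by exact_mod_cast hi
      have := hmin i (Finset.mem_filter.mpr ⟨Finset.mem_univ _, hi⟩)
      have h2 : p i₀ / (w i₀ : ℝ) * (w i : ℝ) ≤ p i := by
        calc p i₀ / (w i₀ : ℝ) * (w i : ℝ) ≤ p i / (w i : ℝ) * (w i : ℝ) :=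
              mul_le_mul_of_nonneg_right this hiR.le
          _ = p i := by field_simp
      linarith
    · have hiR : (w i : ℝ) ≤ 0 := by exact_mod_cast hi
      have h2 : p i₀ / (w i₀ : ℝ) * (w i : ℝ) ≤ 0 :=
        mul_nonpos_of_nonneg_of_nonpos (div_pos hpi₀ hwi₀R).le hiR
      linarith [hp0 i]

/-- support size -/
noncomputable def suppCard (p : ι → ℝ) : ℕ := by
  classical exact (Finset.univ.filter (fun i => p i ≠ 0)).card

lemma suppCard_lt (p q : ι → ℝ) (i₀ : ι) (hi₀p : p i₀ ≠ 0) (hi₀q : q i₀ = 0)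
    (h : ∀ i, p i = 0 → q i = 0) : suppCard q < suppCard p := by
  classical
  unfold suppCard
  apply Finset.card_lt_card
  rw [Finset.ssubset_iff_of_subset]
  · exact ⟨i₀, Finset.mem_filter.mpr ⟨Finset.mem_univ _, hi₀p⟩, fun hh =>
      (Finset.mem_filter.mp hh).2 hi₀q⟩
  · intro i hi
    rw [Finset.mem_filter] at hi ⊢
    exact ⟨hi.1, fun hp => hi.2 (h i hp)⟩

lemma mulVec_sub_smul (M : Matrix κ ι ℤ) (p : ι → ℝ) (t : ℝ) (w : ι → ℤ)
    (hp : (toReal M) *ᵥ p = 0) (hw : M *ᵥ w = 0) :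
    (toReal M) *ᵥ (fun i => p i - t * (w i : ℝ)) = 0 := by
  have : (fun i => p i - t * (w i : ℝ)) = p - t • (fun i => (w i : ℝ)) := by
    funext i; simp [smul_eq_mul]
  rw [this, Matrix.mulVec_sub, Matrix.mulVec_smul, hp, toReal_mulVec_cast, hw]
  funext j
  simp

/-- Existence of a nonnegative nonzero integer kernel vector supported in the support of `p`. -/
lemma exists_nonneg_int_ker (M : Matrix κ ι ℤ) : ∀ (n : ℕ) (p : ι → ℝ), suppCard p ≤ n →
    (∀ i, 0 ≤ p i) → p ≠ 0 → (toReal M) *ᵥ p = 0 →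
    ∃ z : ι → ℤ, (∀ i, 0 ≤ z i) ∧ z ≠ 0 ∧ M *ᵥ z = 0 ∧ ∀ i, p i = 0 → z i = 0 := by
  classical
  intro n
  induction n with
  | zero =>
    intro p hn _ hp _
    exfalso
    apply hp
    funext i
    by_contra hi
    have : i ∈ Finset.univ.filter (fun i => p i ≠ 0) := Finset.mem_filter.mpr ⟨Finset.mem_univ _, hi⟩
    have hc : (Finset.univ.filter (fun i => p i ≠ 0)).card = 0 := by
      unfold suppCard at hn
      omega
    rw [Finset.card_eq_zero] at hc
    rw [hc] at this
    exact absurd this (Finset.notMem_empty _)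
  | succ n ih =>
    intro p hn hp0 hp hM
    obtain ⟨w₀, hw₀, hMw₀, hsupp₀⟩ := exists_int_ker_supp M p hp hM
    -- make a positive coordinate
    obtain ⟨w, hw, hMw, hsupp, hpos⟩ : ∃ w : ι → ℤ, w ≠ 0 ∧ M *ᵥ w = 0 ∧
        (∀ i, p i = 0 → w i = 0) ∧ ∃ i, 0 < w i := by
      obtain ⟨i, hi⟩ := Function.ne_iff.mp hw₀
      rcases lt_or_gt_of_ne hi with h | h
      · refine ⟨-w₀, neg_ne_zero.mpr hw₀, by rw [Matrix.mulVec_neg, hMw₀, neg_zero], ?_, i, ?_⟩
        · intro j hj; simp [hsupp₀ j hj]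
        · simpa using h
      · exact ⟨w₀, hw₀, hMw₀, hsupp₀, i, h⟩
    obtain ⟨t, i₀, ht, hwi₀, hpi₀, hq0⟩ := step p hp0 w hpos hsupp
    let q : ι → ℝ := fun i => p i - t * (w i : ℝ)
    have hqi₀ : q i₀ = 0 := by simp [q, hpi₀]
    have hpi₀ne : p i₀ ≠ 0 := by
      rw [hpi₀]
      have : (0 : ℝ) < (w i₀ : ℝ) := by exact_mod_cast hwi₀
      positivity
    have hqsupp : ∀ i, p i = 0 → q i = 0 := by
      intro i hi
      simp [q, hi, hsupp i hi]
    by_cases hq : q = 0
    · refine ⟨w, ?_, hw, hMw, hsupp⟩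
      intro i
      have := congrFun hq i
      have h1 : p i = t * (w i : ℝ) := by
        simp only [q, Pi.zero_apply] at this
        linarith
      have h2 : (0 : ℝ) ≤ (w i : ℝ) := by
        have := hp0 i
        rw [h1] at this
        exact nonneg_of_mul_nonneg_right this ht
      exact_mod_cast h2
    · have hlt := suppCard_lt p q i₀ hpi₀ne hqi₀ hqsupp
      obtain ⟨z, hz0, hz, hMz, hzsupp⟩ := ih q (by omega) hq0 hq (mulVec_sub_smul M p t w hM hMw)
      refine ⟨z, hz0, hz, hMz, fun i hi => hzsupp i (hqsupp i hi)⟩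

/-- **Rational cone lemma**: decomposition into independent nonnegative integer kernel vectors. -/
lemma exists_decomp_aux (M : Matrix κ ι ℤ) : ∀ (n : ℕ) (p : ι → ℝ), suppCard p ≤ n →
    (∀ i, 0 ≤ p i) → p ≠ 0 → (toReal M) *ᵥ p = 0 →
    ∃ (l : ℕ) (z : Fin (l + 1) → ι → ℤ) (t : Fin (l + 1) → ℝ),
      (∀ a i, 0 ≤ z a i) ∧ (∀ a, M *ᵥ z a = 0) ∧ (∀ a, 0 < t a) ∧
      (∀ g : Fin (l + 1) → ℤ, (∀ i, ∑ a, g a * z a i = 0) → g = 0) ∧
      (∀ i, p i = ∑ a, t a * (z a i : ℝ)) ∧ (∀ a i, p i = 0 → z a i = 0) := by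
  classical
  intro n
  induction n with
  | zero =>
    intro p hn _ hp _
    exfalso
    apply hp
    funext i
    by_contra hi
    have : i ∈ Finset.univ.filter (fun i => p i ≠ 0) := Finset.mem_filter.mpr ⟨Finset.mem_univ _, hi⟩
    have hc : (Finset.univ.filter (fun i => p i ≠ 0)).card = 0 := by
      unfold suppCard at hn
      omega
    rw [Finset.card_eq_zero] at hc
    rw [hc] at this
    exact absurd this (Finset.notMem_empty _)
  | succ n ih =>
    intro p hn hp0 hp hM
    obtain ⟨w, hw0, hw, hMw, hsupp⟩ := exists_nonneg_int_ker M _ p le_rfl hp0 hp hM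
    have hpos : ∃ i, 0 < w i := by
      obtain ⟨i, hi⟩ := Function.ne_iff.mp hw
      exact ⟨i, lt_of_le_of_ne (hw0 i) (Ne.symm hi)⟩
    obtain ⟨t, i₀, ht, hwi₀, hpi₀, hq0⟩ := step p hp0 w hpos hsupp
    let q : ι → ℝ := fun i => p i - t * (w i : ℝ)
    have hqi₀ : q i₀ = 0 := by simp [q, hpi₀]
    have hpi₀ne : p i₀ ≠ 0 := by
      rw [hpi₀]
      have : (0 : ℝ) < (w i₀ : ℝ) := by exact_mod_cast hwi₀
      positivity
    have hqsupp : ∀ i, p i = 0 → q i = 0 := by
      intro i hi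
      simp [q, hi, hsupp i hi]
    by_cases hq : q = 0
    · refine ⟨0, fun _ => w, fun _ => t, fun _ i => hw0 i, fun _ => hMw, fun _ => ht, ?_, ?_,
        fun _ i hi => hsupp i hi⟩
      · intro g hg
        have := hg i₀
        rw [Fin.sum_univ_succ, Fin.sum_univ_zero, add_zero] at this
        have h0 : g 0 = 0 := by
          rcases mul_eq_zero.mp this with h | h
          · exact h
          · exact absurd h hwi₀.ne'
        funext a
        refine Fin.cases h0 (fun a => a.elim0) a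
      · intro i
        have := congrFun hq i
        simp only [q, Pi.zero_apply] at this
        rw [Fin.sum_univ_succ, Fin.sum_univ_zero, add_zero]
        linarith
    · have hlt := suppCard_lt p q i₀ hpi₀ne hqi₀ hqsupp
      obtain ⟨l, z, s, hz0, hMz, hs, hind, hdec, hzsupp⟩ :=
        ih q (by omega) hq0 hq (mulVec_sub_smul M p t w hM hMw)
      refine ⟨l + 1, Fin.cons w z, Fin.cons t s, ?_, ?_, ?_, ?_, ?_, ?_⟩
      · intro a i
        refine Fin.cases ?_ (fun a => ?_) a
        · simpa using hw0 i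
        · simpa using hz0 a i
      · intro a
        refine Fin.cases ?_ (fun a => ?_) a
        · simpa using hMw
        · simpa using hMz a
      · intro a
        refine Fin.cases ?_ (fun a => ?_) a
        · simpa using ht
        · simpa using hs a
      · intro g hg
        have h0 : g 0 = 0 := by
          have := hg i₀
          rw [Fin.sum_univ_succ] at this
          have hz' : ∀ a : Fin (l + 1), z a i₀ = 0 := fun a => hzsupp a i₀ hqi₀
          simp only [Fin.cons_zero, Fin.cons_succ, hz', mul_zero, Finset.sum_const_zero,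
            add_zero] at this
          rcases mul_eq_zero.mp this with h | h
          · exact h
          · exact absurd h hwi₀.ne'
        have hrest : (fun a : Fin (l + 1) => g a.succ) = 0 := by
          apply hind
          intro i
          have := hg i
          rw [Fin.sum_univ_succ] at this
          simpa [h0] using this
        funext a
        refine Fin.cases ?_ (fun a => ?_) a
        · exact h0
        · exact congrFun hrest a
      · intro i
        rw [Fin.sum_univ_succ]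
        simp only [Fin.cons_zero, Fin.cons_succ]
        rw [← hdec i]
        simp only [q]
        ring
      · intro a i hi
        refine Fin.cases ?_ (fun a => ?_) a
        · simpa using hsupp i hi
        · simpa using hzsupp a i (hqsupp i hi)

/-- **Rational cone lemma**. -/
theorem exists_decomp (M : Matrix κ ι ℤ) (p : ι → ℝ)
    (hp0 : ∀ i, 0 ≤ p i) (hp : p ≠ 0) (hM : (toReal M) *ᵥ p = 0) :
    ∃ (l : ℕ) (z : Fin (l + 1) → ι → ℤ) (t : Fin (l + 1) → ℝ),
      (∀ a i, 0 ≤ z a i) ∧ (∀ a, M *ᵥ z a = 0) ∧ (∀ a, 0 < t a) ∧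
      (∀ g : Fin (l + 1) → ℤ, (∀ i, ∑ a, g a * z a i = 0) → g = 0) ∧
      (∀ i, p i = ∑ a, t a * (z a i : ℝ)) ∧ (∀ a i, p i = 0 → z a i = 0) :=
  exists_decomp_aux M _ p le_rfl hp0 hp hM

end Groth.Agent.Lib.Helper10.RatCone
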