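import Mathlib
import Groth.Prelude.Def_W4c6instabfans3Fan
import Groth.Agent.Lib.Helper19.Fan
import Groth.Agent.Lib.Helper10.RatCone

/-!
# Span relation on the points of a formal fan (helper10)

Weak pullbacks of integral cones with respect to real points, and the description of equality in
the projective realization `P F` by spans.
-/

set_option autoImplicit false

open CategoryTheory Opposite Instab Matrix

universe u

namespace Groth.Agent.Lib.Helper10.FanSpan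

open Groth.Agent.Lib.helper19 Groth.Agent.Lib.Helper10.RatCone

/-- matrix of a cone morphism -/
def mat {k n : ICone} (φ : k ⟶ n) : Matrix (Fin n.dim) (Fin k.dim) ℤ :=
  Matrix.of fun j i => φ.toLin (Pi.single i 1) j

lemma mat_mulVec {k n : ICone} (φ : k ⟶ n) (x : Fin k.dim → ℤ) : mat φ *ᵥ x = φ.toLin x := by
  funext j
  rw [toLin_eq_sum]
  rfl

lemma toReal_mat_mulVec {k n : ICone} (φ : k ⟶ n) (v : Fin k.dim → ℝ) :
    toReal (mat φ) *ᵥ v = φ.realMap v := by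
  funext j
  rfl

/-- Weak pullbacks in `ICone` with respect to real points. -/
theorem weak_pullback {k k' n : ICone} (φ : k ⟶ n) (ψ : k' ⟶ n) (y : Fin k.dim → ℝ)
    (y' : Fin k'.dim → ℝ) (hy0 : ∀ i, 0 ≤ y i) (hy'0 : ∀ i, 0 ≤ y' i) (hy : y ≠ 0)
    (h : φ.realMap y = ψ.realMap y') :
    ∃ (l : ICone) (α : l ⟶ k) (β : l ⟶ k') (z : Fan.Orth l),
      α ≫ φ = β ≫ ψ ∧ α.realMap z.1 = y ∧ β.realMap z.1 = y' := by
  classical
  let M : Matrix (Fin n.dim) (Fin k.dim ⊕ Fin k'.dim) ℤ := Matrix.fromCols (mat φ) (-(mat ψ))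
  let p : Fin k.dim ⊕ Fin k'.dim → ℝ := Sum.elim y y'
  have hMR : toReal M = Matrix.fromCols (toReal (mat φ)) (-(toReal (mat ψ))) := by
    ext j (i | i)
    · rfl
    · simp [toReal, M]
  have hMp : toReal M *ᵥ p = 0 := by
    rw [hMR, Matrix.fromCols_mulVec]
    have h1 : p ∘ Sum.inl = y := rfl
    have h2 : p ∘ Sum.inr = y' := rfl
    rw [h1, h2, Matrix.neg_mulVec, toReal_mat_mulVec, toReal_mat_mulVec, h]
    simp
  have hp0 : ∀ i, 0 ≤ p i := by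
    rintro (i | i)
    · exact hy0 i
    · exact hy'0 i
  have hp : p ≠ 0 := by
    intro hp
    apply hy
    funext i
    exact congrFun hp (Sum.inl i)
  obtain ⟨l, z, t, hz0, hMz, ht, hind, hdec, -⟩ := exists_decomp M p hp0 hp hMp
  -- kernel condition
  have hker : ∀ a, φ.toLin (z a ∘ Sum.inl) = ψ.toLin (z a ∘ Sum.inr) := by
    intro a
    have := hMz a
    rw [Matrix.fromCols_mulVec, Matrix.neg_mulVec, mat_mulVec, mat_mulVec] at this
    exact sub_eq_zero.mp (by rw [sub_eq_add_neg]; exact this)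
  let L : ICone := ⟨⟨l + 1, Nat.succ_pos l⟩⟩
  let αlin : (Fin (l + 1) → ℤ) →ₗ[ℤ] (Fin k.dim → ℤ) :=
    Fintype.linearCombination ℤ (fun a => z a ∘ Sum.inl)
  let βlin : (Fin (l + 1) → ℤ) →ₗ[ℤ] (Fin k'.dim → ℤ) :=
    Fintype.linearCombination ℤ (fun a => z a ∘ Sum.inr)
  have hαapp : ∀ (g : Fin (l + 1) → ℤ) (i : Fin k.dim), αlin g i = ∑ a, g a * z a (Sum.inl i) := by
    intro g i
    simp [αlin, Fintype.linearCombination_apply, Finset.sum_apply]
  have hβapp : ∀ (g : Fin (l + 1) → ℤ) (i : Fin k'.dim), βlin g i = ∑ a, g a * z a (Sum.inr i) := by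
    intro g i
    simp [βlin, Fintype.linearCombination_apply, Finset.sum_apply]
  have hcomm : ∀ g, φ.toLin (αlin g) = ψ.toLin (βlin g) := by
    intro g
    simp only [αlin, βlin, Fintype.linearCombination_apply, map_sum, map_smul, hker]
  have hαinj : Function.Injective αlin := by
    rw [injective_iff_map_eq_zero]
    intro g hg
    have hβ : βlin g = 0 := by
      apply ψ.injective
      rw [← hcomm g, hg, map_zero, map_zero]
    apply hind
    rintro (i | i)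
    · rw [← hαapp, hg]; rfl
    · rw [← hβapp, hβ]; rfl
  have hβinj : Function.Injective βlin := by
    rw [injective_iff_map_eq_zero]
    intro g hg
    have hα : αlin g = 0 := by
      apply φ.injective
      rw [hcomm g, hg, map_zero, map_zero]
    apply hind
    rintro (i | i)
    · rw [← hαapp, hα]; rfl
    · rw [← hβapp, hg]; rfl
  let α : L ⟶ k := ⟨αlin, hαinj, fun g hg i =>
    le_of_le_of_eq (Finset.sum_nonneg fun a _ => mul_nonneg (hg a) (hz0 a _)) (hαapp g i).symm⟩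
  let β : L ⟶ k' := ⟨βlin, hβinj, fun g hg i =>
    le_of_le_of_eq (Finset.sum_nonneg fun a _ => mul_nonneg (hg a) (hz0 a _)) (hβapp g i).symm⟩
  have hsingleα : ∀ (a : Fin (l + 1)) (i : Fin k.dim),
      αlin (Pi.single a 1) i = z a (Sum.inl i) := by
    intro a i
    rw [hαapp, Finset.sum_eq_single a]
    · simp
    · intro b _ hb
      simp [hb]
    · intro hh; exact absurd (Finset.mem_univ _) hh
  have hsingleβ : ∀ (a : Fin (l + 1)) (i : Fin k'.dim),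
      βlin (Pi.single a 1) i = z a (Sum.inr i) := by
    intro a i
    rw [hβapp, Finset.sum_eq_single a]
    · simp
    · intro b _ hb
      simp [hb]
    · intro hh; exact absurd (Finset.mem_univ _) hh
  let zz : Fan.Orth L := ⟨t, fun a => (ht a).le, fun h0 => (ht 0).ne' (congrFun h0 0)⟩
  refine ⟨L, α, β, zz, ?_, ?_, ?_⟩
  · apply ICone.Hom.ext
    apply LinearMap.ext
    intro g
    exact hcomm g
  · funext i
    change ∑ a : Fin (l + 1), ((αlin (Pi.single a 1) i : ℤ) : ℝ) * t a = y i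
    have := hdec (Sum.inl i)
    change y i = _ at this
    rw [this]
    refine Finset.sum_congr rfl fun a _ => ?_
    rw [hsingleα, mul_comm]
  · funext i
    change ∑ a : Fin (l + 1), ((βlin (Pi.single a 1) i : ℤ) : ℝ) * t a = y' i
    have := hdec (Sum.inr i)
    change y' i = _ at this
    rw [this]
    refine Finset.sum_congr rfl fun a _ => ?_
    rw [hsingleβ, mul_comm]

variable {F : Fan.{u}}

/-- The span relation on points of the disjoint union. -/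
def Span (F : Fan.{u}) (x₁ x₂ : Fan.Pt F) : Prop :=
  ∃ (k : ICone) (φ₁ : k ⟶ x₁.1.1) (φ₂ : k ⟶ x₂.1.1) (y : Fan.Orth k) (c₁ c₂ : ℝ),
    F.map φ₁.op x₁.1.2 = F.map φ₂.op x₂.1.2 ∧ 0 < c₁ ∧ 0 < c₂ ∧
      x₁.2.1 = c₁ • φ₁.realMap y.1 ∧ x₂.2.1 = c₂ • φ₂.realMap y.1

lemma span_refl (x : Fan.Pt F) : Span F x x :=
  ⟨x.1.1, 𝟙 _, 𝟙 _, x.2, 1, 1, rfl, one_pos, one_pos, by rw [realMap_id, one_smul],
    by rw [realMap_id, one_smul]⟩

lemma span_symm {x₁ x₂ : Fan.Pt F} (h : Span F x₁ x₂) : Span F x₂ x₁ := by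
  obtain ⟨k, φ₁, φ₂, y, c₁, c₂, h1, hc₁, hc₂, e₁, e₂⟩ := h
  exact ⟨k, φ₂, φ₁, y, c₂, c₁, h1.symm, hc₂, hc₁, e₂, e₁⟩

lemma span_of_rel {x₁ x₂ : Fan.Pt F} (h : Fan.Rel F x₁ x₂) : Span F x₁ x₂ := by
  obtain ⟨φ, ξ, v, w, c, hc, h⟩ := h
  refine ⟨_, 𝟙 _, φ, v, 1, c, ?_, one_pos, hc, ?_, h⟩
  · change F.map (𝟙 _).op (F.map φ.op ξ) = F.map φ.op ξ
    rw [op_id, F.map_id]
    rfl
  · change v.1 = (1 : ℝ) • ICone.Hom.realMap (𝟙 _) v.1
    rw [realMap_id, one_smul]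

lemma span_trans {x₁ x₂ x₃ : Fan.Pt F} (h₁₂ : Span F x₁ x₂) (h₂₃ : Span F x₂ x₃) :
    Span F x₁ x₃ := by
  obtain ⟨k, φ₁, φ₂, y, c₁, c₂, hF, hc₁, hc₂, e₁, e₂⟩ := h₁₂
  obtain ⟨k', ψ₂, ψ₃, y', d₂, d₃, hF', hd₂, hd₃, e₂', e₃⟩ := h₂₃
  have hy : c₂ • y.1 ≠ 0 := by
    intro h0
    apply y.2.2
    have := congrArg (fun v => c₂⁻¹ • v) h0
    simpa [smul_smul, inv_mul_cancel₀ hc₂.ne'] using this
  have hcomp : φ₂.realMap (c₂ • y.1) = ψ₂.realMap (d₂ • y'.1) := by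
    rw [realMap_smul, realMap_smul, ← e₂, ← e₂']
  obtain ⟨l, α, β, z, hαβ, hαz, hβz⟩ := weak_pullback φ₂ ψ₂ (c₂ • y.1) (d₂ • y'.1)
    (fun i => mul_nonneg hc₂.le (y.2.1 i)) (fun i => mul_nonneg hd₂.le (y'.2.1 i)) hy hcomp
  refine ⟨l, α ≫ φ₁, β ≫ ψ₃, z, c₁ / c₂, d₃ / d₂, ?_, div_pos hc₁ hc₂, div_pos hd₃ hd₂, ?_, ?_⟩
  · calc F.map (α ≫ φ₁).op x₁.1.2 = F.map α.op (F.map φ₁.op x₁.1.2) := by
          rw [op_comp, Functor.map_comp_apply]
      _ = F.map α.op (F.map φ₂.op x₂.1.2) := by rw [hF]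
      _ = F.map (α ≫ φ₂).op x₂.1.2 := by rw [op_comp, Functor.map_comp_apply]
      _ = F.map (β ≫ ψ₂).op x₂.1.2 := by rw [hαβ]
      _ = F.map β.op (F.map ψ₂.op x₂.1.2) := by rw [op_comp, Functor.map_comp_apply]
      _ = F.map β.op (F.map ψ₃.op x₃.1.2) := by rw [hF']
      _ = F.map (β ≫ ψ₃).op x₃.1.2 := by rw [op_comp, Functor.map_comp_apply]
  · rw [realMap_comp, hαz, realMap_smul, e₁, smul_smul, div_mul_cancel₀ _ hc₂.ne']
  · rw [realMap_comp, hβz, realMap_smul, e₃, smul_smul, div_mul_cancel₀ _ hd₂.ne']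

lemma span_equivalence : Equivalence (Span F) :=
  ⟨span_refl, span_symm, span_trans⟩

/-- Equality in `P F` is the span relation. -/
theorem span_of_mk_eq {x₁ x₂ : Fan.Pt F} (h : (Quot.mk (Fan.Rel F) x₁ : Fan.P F) = Quot.mk _ x₂) :
    Span F x₁ x₂ := by
  have := Quot.eqvGen_exact h
  have hle : Fan.Rel F ≤ Span F := fun _ _ h => span_of_rel h
  exact span_equivalence.eqvGen_iff.mp (Relation.EqvGen.mono hle _ _ this)

/-- The key lemma in the form of the milestone. -/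
theorem exists_common_subcone {n₁ n₂ : ICone}
    (σ₁ : F.obj (op n₁)) (σ₂ : F.obj (op n₂)) (v₁ : Fan.Orth n₁) (v₂ : Fan.Orth n₂)
    (h : Fan.P.mk σ₁ v₁ = Fan.P.mk σ₂ v₂) :
    ∃ (k : ICone) (φ₁ : k ⟶ n₁) (φ₂ : k ⟶ n₂) (y : Fan.Orth k) (c₁ c₂ : ℝ),
      F.map φ₁.op σ₁ = F.map φ₂.op σ₂ ∧ 0 < c₁ ∧ 0 < c₂ ∧
        v₁.1 = c₁ • φ₁.realMap y.1 ∧ v₂.1 = c₂ • φ₂.realMap y.1 :=
  span_of_mk_eq (x₁ := ⟨⟨n₁, σ₁⟩, v₁⟩) (x₂ := ⟨⟨n₂, σ₂⟩, v₂⟩) h

end Groth.Agent.Lib.Helper10.FanSpan
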