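import Mathlib
import Groth.Prelude.Def_W4c6instabfans3Fan
import Groth.Agent.Lib.Helper10.FanSpan

/-!
# Pullbacks of formal fans (helper10)
-/

set_option autoImplicit false

open CategoryTheory Opposite Instab Limits

universe u

namespace Groth.Agent.Lib.Helper10.FanPull

open Groth.Agent.Lib.helper19 Groth.Agent.Lib.Helper10.FanSpan

variable {F F' G : Fan.{u}} (f : F ⟶ G) (g : F' ⟶ G)

lemma isPullback_app (k : ICone) :
    IsPullback ((pullback.fst f g).app (op k)) ((pullback.snd f g).app (op k))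
      (f.app (op k)) (g.app (op k)) :=
  (IsPullback.of_hasPullback f g).map ((evaluation IConeᵒᵖ (Type u)).obj (op k))

lemma exists_pullback_elt (k : ICone) (a : F.obj (op k)) (b : F'.obj (op k))
    (h : f.app _ a = g.app _ b) :
    ∃ e : (pullback f g).obj (op k),
      (pullback.fst f g).app _ e = a ∧ (pullback.snd f g).app _ e = b :=
  Types.exists_of_isPullback (isPullback_app f g k) a b h

lemma pullback_elt_ext (k : ICone) (e e' : (pullback f g).obj (op k))
    (h1 : (pullback.fst f g).app _ e = (pullback.fst f g).app _ e')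
    (h2 : (pullback.snd f g).app _ e = (pullback.snd f g).app _ e') : e = e' :=
  Types.ext_of_isPullback (isPullback_app f g k) h1 h2

lemma pullback_condition_app (k : ICone) (e : (pullback f g).obj (op k)) :
    f.app _ ((pullback.fst f g).app _ e) = g.app _ ((pullback.snd f g).app _ e) := by
  have := congrArg (fun φ => φ.app (op k)) (pullback.condition (f := f) (g := g))
  exact ConcreteCategory.congr_hom this e

/-- `P.map` on a point. -/
lemma P_map_mk {F G : Fan.{u}} (f : F ⟶ G) {n : ICone} (σ : F.obj (op n)) (v : Fan.Orth n) :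
    Fan.P.map f (Fan.P.mk σ v) = Fan.P.mk (f.app _ σ) v := rfl

/-- The canonical map `P (F ×_G F') → P F ×_{P G} P F'` is surjective. -/
theorem exists_p_pullback_lift (x : Fan.P F) (x' : Fan.P F')
    (h : Fan.P.map f x = Fan.P.map g x') :
    ∃ y : Fan.P (Limits.pullback f g),
      Fan.P.map (Limits.pullback.fst f g) y = x ∧ Fan.P.map (Limits.pullback.snd f g) y = x' := by
  induction x using Quot.ind with | mk a =>
  induction x' using Quot.ind with | mk a' =>
  obtain ⟨⟨n, σ⟩, v⟩ := a
  obtain ⟨⟨n', σ'⟩, v'⟩ := a'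
  have h' : Fan.P.mk (f.app _ σ) v = Fan.P.mk (g.app _ σ') v' := h
  obtain ⟨k, φ₁, φ₂, y, c₁, c₂, hG, hc₁, hc₂, e₁, e₂⟩ := exists_common_subcone _ _ _ _ h'
  have n1 : f.app _ (F.map φ₁.op σ) = G.map φ₁.op (f.app _ σ) :=
    NatTrans.naturality_apply f φ₁.op σ
  have n2 : g.app _ (F'.map φ₂.op σ') = G.map φ₂.op (g.app _ σ') :=
    NatTrans.naturality_apply g φ₂.op σ'
  obtain ⟨e, he1, he2⟩ := exists_pullback_elt f g k (F.map φ₁.op σ) (F'.map φ₂.op σ')
    (by rw [n1, n2, hG])
  refine ⟨Fan.P.mk e y, ?_, ?_⟩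
  · rw [P_map_mk, he1]
    exact P_mk_glue φ₁ σ y v c₁ hc₁ e₁
  · rw [P_map_mk, he2]
    exact P_mk_glue φ₂ σ' y v' c₂ hc₂ e₂

end Groth.Agent.Lib.Helper10.FanPull
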