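import Mathlib
import Groth.Prelude.Def_W4c6instabfans3Fan
import Groth.Agent.Lib.Helper10.FanPull

/-!
# Real/rational points of cones and fans (helper10)
-/

set_option autoImplicit false

open CategoryTheory Opposite Instab Limits Matrix

universe u

namespace Groth.Agent.Lib.Helper10.FanTop

open Groth.Agent.Lib.helper19 Groth.Agent.Lib.Helper10.FanSpan Groth.Agent.Lib.Helper10.FanPull
open Groth.Agent.Lib.Helper10.RatCone

lemma coneMap_app {G : Fan.{u}} {n k : ICone} (σ : G.obj (op n)) (φ : k ⟶ n) :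
    (Fan.coneMap σ).app (op k) (ULift.up φ) = G.map φ.op σ := rfl

lemma coneMap_comp {F G : Fan.{u}} {n : ICone} (ξ : F.obj (op n)) (f : F ⟶ G) :
    Fan.coneMap ξ ≫ f = Fan.coneMap (f.app _ ξ) :=
  uliftYonedaEquiv_symm_comp ξ f

lemma P_map_comp {F G H : Fan.{u}} (f : F ⟶ G) (g : G ⟶ H) (x : Fan.P F) :
    Fan.P.map (f ≫ g) x = Fan.P.map g (Fan.P.map f x) := by
  induction x using Quot.ind with | mk a =>
  rfl

lemma toLin_single_nonneg {k n : ICone} (φ : k ⟶ n) (i : Fin k.dim) (j : Fin n.dim) :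
    (0 : ℝ) ≤ (φ.toLin (Pi.single i 1) j : ℝ) := by
  have : 0 ≤ φ.toLin (Pi.single i 1) j := by
    apply φ.nonneg
    intro l
    by_cases h : l = i
    · subst h; simp
    · simp [h]
  exact_mod_cast this

/-- the real map of a cone morphism preserves the punctured orthant -/
lemma realMap_mem {k n : ICone} (φ : k ⟶ n) (v : Fan.Orth k) :
    (∀ j, 0 ≤ φ.realMap v.1 j) ∧ φ.realMap v.1 ≠ 0 := by
  constructor
  · intro j
    exact Finset.sum_nonneg fun i _ => mul_nonneg (toLin_single_nonneg φ i j) (v.2.1 i)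
  · intro h0
    obtain ⟨i, hi⟩ := Function.ne_iff.mp v.2.2
    have hvi : 0 < v.1 i := lt_of_le_of_ne (v.2.1 i) (Ne.symm hi)
    have hne : φ.toLin (Pi.single i 1) ≠ 0 := by
      intro hz
      have := φ.injective (hz.trans (map_zero φ.toLin).symm)
      have := congrFun this i
      simp at this
    obtain ⟨j, hj⟩ := Function.ne_iff.mp hne
    have hjpos : (0 : ℝ) < (φ.toLin (Pi.single i 1) j : ℝ) :=
      lt_of_le_of_ne (toLin_single_nonneg φ i j) (by
        intro h; apply hj; simp only [Pi.zero_apply]; exact_mod_cast h.symm)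
    have := congrFun h0 j
    have hge : (φ.toLin (Pi.single i 1) j : ℝ) * v.1 i ≤ φ.realMap v.1 j :=
      Finset.single_le_sum (f := fun i => (φ.toLin (Pi.single i 1) j : ℝ) * v.1 i)
        (fun i _ => mul_nonneg (toLin_single_nonneg φ i j) (v.2.1 i)) (Finset.mem_univ i)
    rw [this] at hge
    have : 0 < (φ.toLin (Pi.single i 1) j : ℝ) * v.1 i := mul_pos hjpos hvi
    simp only [Pi.zero_apply] at hge
    linarith

/-- the image point in the orthant -/
noncomputable def orthMap {k n : ICone} (φ : k ⟶ n) (v : Fan.Orth k) : Fan.Orth n :=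
  ⟨φ.realMap v.1, realMap_mem φ v⟩

/-- the real linear map of a cone morphism -/
noncomputable def realLin {k n : ICone} (φ : k ⟶ n) : (Fin k.dim → ℝ) →ₗ[ℝ] (Fin n.dim → ℝ) :=
  Matrix.mulVecLin (toReal (mat φ))

lemma realLin_apply {k n : ICone} (φ : k ⟶ n) (v : Fin k.dim → ℝ) :
    realLin φ v = φ.realMap v := toReal_mat_mulVec φ v

lemma realLin_ker {k n : ICone} (φ : k ⟶ n) : LinearMap.ker (realLin φ) = ⊥ := by
  rw [LinearMap.ker_eq_bot']
  intro v hv
  by_contra hne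
  obtain ⟨w, hw, hMw⟩ := exists_int_ker (mat φ) v hne hv
  rw [mat_mulVec] at hMw
  exact hw (φ.injective (hMw.trans (map_zero φ.toLin).symm))

lemma realMap_injective {k n : ICone} (φ : k ⟶ n) : Function.Injective φ.realMap := by
  have := LinearMap.ker_eq_bot.mp (realLin_ker φ)
  intro v w h
  exact this (by rw [realLin_apply, realLin_apply, h])

/-- the real cone spanned by a cone morphism is closed -/
lemma isClosed_coneImage {k n : ICone} (φ : k ⟶ n) :
    IsClosed {w : Fin n.dim → ℝ | ∃ u : Fin k.dim → ℝ, (∀ i, 0 ≤ u i) ∧ w = φ.realMap u} := by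
  have hce := LinearMap.isClosedEmbedding_of_injective (realLin_ker φ)
  have hcl : IsClosed {u : Fin k.dim → ℝ | ∀ i, 0 ≤ u i} := by
    have : {u : Fin k.dim → ℝ | ∀ i, 0 ≤ u i} = ⋂ i, {u | 0 ≤ u i} := by
      ext u; simp
    rw [this]
    exact isClosed_iInter fun i => isClosed_le continuous_const (continuous_apply i)
  have := hce.isClosedMap _ hcl
  convert this using 1
  ext w
  constructor
  · rintro ⟨u, hu, rfl⟩
    exact ⟨u, hu, realLin_apply φ u⟩
  · rintro ⟨u, hu, rfl⟩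
    exact ⟨u, hu, (realLin_apply φ u)⟩

/-- integer vectors (up to scaling) are dense in the orthant -/
lemma exists_int_near {n : ℕ} (v : Fin n → ℝ) (hv0 : ∀ i, 0 ≤ v i) (O : Set (Fin n → ℝ))
    (hO : IsOpen O) (hv : v ∈ O) :
    ∃ (ρ : Fin n → ℤ) (c : ℝ), (∀ i, 0 < ρ i) ∧ 0 < c ∧ (fun i => c * (ρ i : ℝ)) ∈ O := by
  obtain ⟨ε, hε, hball⟩ := Metric.isOpen_iff.mp hO v hv
  obtain ⟨N, hN⟩ := exists_nat_gt (2 / ε)
  have hNpos : (0 : ℝ) < N := lt_trans (by positivity) hN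
  refine ⟨fun i => (⌊v i * N⌋₊ : ℤ) + 1, 1 / N, fun i => by positivity, by positivity, ?_⟩
  apply hball
  rw [Metric.mem_ball, dist_pi_lt_iff hε]
  intro i
  rw [Real.dist_eq]
  have h1 : (⌊v i * N⌋₊ : ℝ) ≤ v i * N := Nat.floor_le (mul_nonneg (hv0 i) hNpos.le)
  have h2 : v i * N < (⌊v i * N⌋₊ : ℝ) + 1 := Nat.lt_floor_add_one _
  have hcast : (((⌊v i * N⌋₊ : ℤ) + 1 : ℤ) : ℝ) = (⌊v i * N⌋₊ : ℝ) + 1 := by push_cast; ring
  rw [hcast]
  have h3 : 1 / (N : ℝ) * ((⌊v i * N⌋₊ : ℝ) + 1) - v i =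
      ((⌊v i * N⌋₊ : ℝ) + 1 - v i * N) / N := by
    field_simp
  rw [h3, abs_lt]
  have h4 : 1 / (N : ℝ) < ε := by
    rw [div_lt_iff₀ hNpos]
    have : 2 / ε * ε = 2 := by field_simp
    nlinarith
  constructor
  · have : 0 ≤ ((⌊v i * N⌋₊ : ℝ) + 1 - v i * N) / N := div_nonneg (by linarith) hNpos.le
    linarith
  · have : ((⌊v i * N⌋₊ : ℝ) + 1 - v i * N) / N ≤ 1 / N :=
      div_le_div_of_nonneg_right (by linarith) hNpos.le
    linarith

/-- the ray of a nonzero nonnegative integer vector -/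
def rayHom {n : ICone} (ρ : Fin n.dim → ℤ) (h0 : ∀ i, 0 ≤ ρ i) (hne : ρ ≠ 0) : Fan.one ⟶ n where
  toLin := (LinearMap.proj 0).smulRight ρ
  injective := by
    intro g g' h
    obtain ⟨j, hj⟩ := Function.ne_iff.mp hne
    have := congrFun h j
    simp only [LinearMap.smulRight_apply, LinearMap.proj_apply, Pi.smul_apply, smul_eq_mul] at this
    have h0 : g 0 = g' 0 := mul_right_cancel₀ hj this
    funext a
    have : Subsingleton (Fin (Fan.one.dim : ℕ)) := (inferInstance : Subsingleton (Fin 1))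
    have ha : a = 0 := Subsingleton.elim _ _
    rw [ha, h0]
  nonneg := by
    intro g hg j
    simp only [LinearMap.smulRight_apply, LinearMap.proj_apply, Pi.smul_apply, smul_eq_mul]
    exact mul_nonneg (hg 0) (h0 j)

lemma rayHom_realMap {n : ICone} (ρ : Fin n.dim → ℤ) (h0 : ∀ i, 0 ≤ ρ i) (hne : ρ ≠ 0)
    (w : Fin Fan.one.dim → ℝ) :
    (rayHom ρ h0 hne).realMap w = fun j => (ρ j : ℝ) * w 0 := by
  funext j
  change ∑ i : Fin 1, (((Pi.single i (1 : ℤ) : Fin 1 → ℤ) 0 • ρ) j : ℝ) * w i = _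
  simp
  exact Or.inl rfl

variable {n : ICone}

/-- equality of points in the realization of a representable fan -/
lemma yoneda_mk_eq {k k' : ICone} (φ : k ⟶ n) (φ' : k' ⟶ n) (u : Fan.Orth k) (u' : Fan.Orth k')
    (h : Fan.P.mk (F := uliftYoneda.{u}.obj n) (ULift.up φ) u = Fan.P.mk (ULift.up φ') u') :
    ∃ c : ℝ, 0 < c ∧ φ.realMap u.1 = c • φ'.realMap u'.1 := by
  obtain ⟨l, φ₁, φ₂, y, c₁, c₂, hF, hc₁, hc₂, e₁, e₂⟩ := exists_common_subcone _ _ _ _ h
  have hcomp : φ₁ ≫ φ = φ₂ ≫ φ' := by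
    have : (ULift.up (φ₁ ≫ φ) : ULift.{u} (l ⟶ n)) = ULift.up (φ₂ ≫ φ') := hF
    exact congrArg ULift.down this
  refine ⟨c₁ / c₂, div_pos hc₁ hc₂, ?_⟩
  rw [e₁, e₂, realMap_smul, realMap_smul, ← realMap_comp, ← realMap_comp, hcomp, smul_smul,
    div_mul_cancel₀ _ hc₂.ne']

end Groth.Agent.Lib.Helper10.FanTop
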