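import Mathlib

set_option linter.style.haveILetI false
set_option linter.unusedSectionVars false

universe u v w

namespace Groth.Agent.Lib.helper10.FiltMod

open scoped TensorProduct
open Module

section fibre

variable {K : Type u} {V : Type v} {Γ : Type w} [Field K] [AddCommGroup V] [Module K V]
  [FiniteDimensional K V] [LinearOrder Γ]

/-- the sum of the jumps over a finite set of indices is bounded by the dimension of the span of the
corresponding complements. -/
theorem sum_jump_le (Fx D : Γ → Submodule K V)
    (hD : ∀ γ η, γ < η → D η ≤ ⨆ ζ ∈ Set.Ioi γ, Fx ζ)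
    (hsup : ∀ γ, Fx γ = (⨆ η ∈ Set.Ioi γ, Fx η) ⊔ D γ) (T : Finset Γ) :
    ∑ γ ∈ T, (finrank K (Fx γ) - finrank K ↥(⨆ η ∈ Set.Ioi γ, Fx η)) ≤
      finrank K ↥(T.sup D) := by
  classical
  induction T using Finset.induction_on_min with
  | empty => simp
  | insert a s ha ih =>
    rw [Finset.sum_insert (fun h => lt_irrefl a (ha a h)), Finset.sup_insert]
    obtain ⟨W, hW⟩ : ∃ W, W = ⨆ η ∈ Set.Ioi a, Fx η := ⟨_, rfl⟩
    have hB : s.sup D ≤ W := by
      rw [hW]
      exact Finset.sup_le (fun η hη => hD a η (ha η hη))
    have h1 := Submodule.finrank_sup_add_finrank_inf_eq (D a ⊔ s.sup D) W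
    have e : D a ⊔ s.sup D ⊔ W = Fx a := by
      rw [hsup a, ← hW, sup_assoc, sup_eq_right.mpr hB, sup_comm]
    have h2 : finrank K ↥(s.sup D) ≤ finrank K ↥((D a ⊔ s.sup D) ⊓ W) :=
      Submodule.finrank_mono (le_inf le_sup_right hB)
    have h3 : finrank K ↥((D a ⊔ s.sup D) ⊓ W) ≤ finrank K ↥(D a ⊔ s.sup D) :=
      Submodule.finrank_mono inf_le_left
    rw [e] at h1
    rw [← hW]
    omega

end fibre

section baseChange

variable {R : Type u} {M : Type v} (A : Type w) [CommRing R] [CommRing A] [Algebra R A]
  [AddCommGroup M] [Module R M]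

theorem baseChange_iSup {ι : Sort*} (p : ι → Submodule R M) :
    (⨆ i, p i).baseChange A = ⨆ i, (p i).baseChange A := by
  apply le_antisymm
  · rw [Submodule.baseChange_eq_span, Submodule.span_le]
    rintro _ ⟨m, hm, rfl⟩
    have hle : (⨆ i, p i) ≤ Submodule.comap (TensorProduct.mk R A M 1)
        ((⨆ i, (p i).baseChange A).restrictScalars R) := by
      apply iSup_le
      intro i x hx
      rw [Submodule.mem_comap, Submodule.restrictScalars_mem]
      exact (le_iSup (fun i => (p i).baseChange A) i)
        (Submodule.tmul_mem_baseChange_of_mem 1 hx)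
    exact hle hm
  · apply iSup_le
    intro i
    exact Submodule.baseChange_mono A (le_iSup p i)

theorem baseChange_sup (p q : Submodule R M) :
    (p ⊔ q).baseChange A = p.baseChange A ⊔ q.baseChange A := by
  rw [sup_eq_iSup, baseChange_iSup, sup_eq_iSup]
  congr 1
  funext b
  cases b <;> rfl

theorem baseChange_biSup {ι : Type*} (s : Set ι) (p : ι → Submodule R M) :
    (⨆ i ∈ s, p i).baseChange A = ⨆ i ∈ s, (p i).baseChange A := by
  rw [baseChange_iSup]
  congr 1
  funext i
  rw [baseChange_iSup]

end baseChange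

section nakayama

variable {R : Type u} {M : Type v} [CommRing R] [AddCommGroup M] [Module R M] [Module.Finite R M]

/-- a submodule of a finite module whose fibres at all primes are everything is everything. -/
theorem eq_top_of_fibres (N : Submodule R M)
    (h : ∀ p : PrimeSpectrum R, N.baseChange p.asIdeal.ResidueField = ⊤) : N = ⊤ := by
  by_contra hne
  haveI : Nontrivial (M ⧸ N) := Submodule.Quotient.nontrivial_iff.mpr hne
  obtain ⟨p, hp⟩ := Module.nonempty_support_of_nontrivial (R := R) (M := M ⧸ N)
  rw [Module.mem_support_iff_nontrivial_residueField_tensorProduct] at hp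
  obtain ⟨z, z', hz⟩ := hp
  apply hz
  have hex : Function.Exact (N.subtype.lTensor p.asIdeal.ResidueField)
      (N.mkQ.lTensor p.asIdeal.ResidueField) :=
    lTensor_exact _ (LinearMap.exact_subtype_mkQ N) (Submodule.mkQ_surjective N)
  have hsurj := LinearMap.lTensor_surjective p.asIdeal.ResidueField (Submodule.mkQ_surjective N)
  have hzero : ∀ z : p.asIdeal.ResidueField ⊗[R] (M ⧸ N), z = 0 := by
    intro z
    obtain ⟨w, rfl⟩ := hsurj z
    have hw : w ∈ N.baseChange p.asIdeal.ResidueField := by
      rw [h p]
      exact Submodule.mem_top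
    obtain ⟨y, rfl⟩ := hw
    have : (N.subtype.baseChange p.asIdeal.ResidueField) y =
        (N.subtype.lTensor p.asIdeal.ResidueField) y := by
      rw [← LinearMap.baseChange_eq_ltensor]
    rw [this]
    exact hex.apply_apply_eq_zero y
  rw [hzero z, hzero z']

end nakayama

end Groth.Agent.Lib.helper10.FiltMod
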