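import Mathlib
import Groth.Agent.Lib.Helper10.FiltMod1

set_option linter.style.haveILetI false
set_option linter.unusedSectionVars false

universe u v w

namespace Groth.Agent.Lib.helper10.FiltMod

open scoped TensorProduct
open Module

variable {Γ : Type w} [LinearOrder Γ] {R : Type u} [CommRing R] {M : Type v} [AddCommGroup M]
  [Module R M]

/-- a complement of `Fp` in `F` when the quotient is projective. -/
theorem exists_compl (Fγ Fpγ : Submodule R M) (hle : Fpγ ≤ Fγ)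
    [Module.Projective R (↥Fγ ⧸ Submodule.comap Fγ.subtype Fpγ)] :
    ∃ C : Submodule R M, C ⊓ Fpγ = ⊥ ∧ C ⊔ Fpγ = Fγ := by
  obtain ⟨s, hs⟩ := Module.projective_lifting_property
    (Submodule.comap Fγ.subtype Fpγ).mkQ LinearMap.id (Submodule.mkQ_surjective _)
  have hs' : ∀ q, (Submodule.comap Fγ.subtype Fpγ).mkQ (s q) = q := fun q =>
    LinearMap.congr_fun hs q
  refine ⟨Submodule.map Fγ.subtype (LinearMap.range s), ?_, ?_⟩
  · rw [eq_bot_iff]
    rintro v ⟨⟨x, ⟨q, rfl⟩, rfl⟩, hv2⟩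
    have h0 : (Submodule.comap Fγ.subtype Fpγ).mkQ (s q) = 0 := by
      rw [Submodule.mkQ_apply, Submodule.Quotient.mk_eq_zero]
      exact hv2
    rw [hs'] at h0
    rw [h0, map_zero]
    exact Submodule.zero_mem _
  · apply le_antisymm
    · apply sup_le _ hle
      rintro _ ⟨x, _, rfl⟩
      exact x.2
    · intro v hv
      obtain ⟨v', hv'⟩ : ∃ v' : Fγ, v' = ⟨v, hv⟩ := ⟨_, rfl⟩
      have h1 : v' - s ((Submodule.comap Fγ.subtype Fpγ).mkQ v') ∈
          Submodule.comap Fγ.subtype Fpγ := by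
        rw [← Submodule.Quotient.mk_eq_zero, Submodule.Quotient.mk_sub, sub_eq_zero]
        exact (hs' _).symm
      have h2 : v = Fγ.subtype (s ((Submodule.comap Fγ.subtype Fpγ).mkQ v')) +
          Fγ.subtype (v' - s ((Submodule.comap Fγ.subtype Fpγ).mkQ v')) := by
        rw [← map_add, add_sub_cancel, hv']
        rfl
      rw [h2]
      exact Submodule.add_mem_sup ⟨_, ⟨_, rfl⟩, rfl⟩ h1

section split

variable (F Fp C : Γ → Submodule R M) (hF : Antitone F)
  (hFp : ∀ γ, Fp γ = ⨆ η ∈ Set.Ioi γ, F η)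
  (hC1 : ∀ γ, C γ ⊓ Fp γ = ⊥) (hC2 : ∀ γ, C γ ⊔ Fp γ = F γ)

theorem C_le_F (hC2 : ∀ γ, C γ ⊔ Fp γ = F γ) (γ : Γ) : C γ ≤ F γ := by
  rw [← hC2 γ]
  exact le_sup_left

theorem F_le_Fp (hFp : ∀ γ, Fp γ = ⨆ η ∈ Set.Ioi γ, F η) {γ η : Γ} (h : γ < η) :
    F η ≤ Fp γ := by
  rw [hFp γ]
  exact le_biSup F (show η ∈ Set.Ioi γ from h)

/-- the minimal index argument. -/
theorem min_arg (hFp : ∀ γ, Fp γ = ⨆ η ∈ Set.Ioi γ, F η)
    (hC1 : ∀ γ, C γ ⊓ Fp γ = ⊥) (hC2 : ∀ γ, C γ ⊔ Fp γ = F γ) (s : Finset Γ) :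
    ∀ (v : Γ → M), (∀ i ∈ s, v i ∈ C i) → ∀ w : M, (∀ i ∈ s, w ∈ Fp i) →
      ∑ i ∈ s, v i = w → ∀ i ∈ s, v i = 0 := by
  classical
  induction s using Finset.induction_on_min with
  | empty =>
    intro v _ w _ _ i hi
    exact absurd hi (Finset.notMem_empty i)
  | insert a s ha ih =>
    intro v hv w hw hsum
    rw [Finset.sum_insert (fun h => lt_irrefl a (ha a h))] at hsum
    have h1 : ∑ i ∈ s, v i ∈ Fp a := by
      apply Submodule.sum_mem
      intro i hi
      exact F_le_Fp F Fp hFp (ha i hi)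
        (C_le_F F Fp C hC2 i (hv i (Finset.mem_insert_of_mem hi)))
    have h2 : v a ∈ Fp a := by
      have : v a = w - ∑ i ∈ s, v i := by rw [← hsum]; abel
      rw [this]
      exact Submodule.sub_mem _ (hw a (Finset.mem_insert_self a s)) h1
    have h3 : v a = 0 := by
      have : v a ∈ C a ⊓ Fp a := ⟨hv a (Finset.mem_insert_self a s), h2⟩
      rw [hC1 a] at this
      exact this
    rw [h3, zero_add] at hsum
    intro i hi
    rcases Finset.mem_insert.mp hi with rfl | hi'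
    · exact h3
    · exact ih v (fun i hi => hv i (Finset.mem_insert_of_mem hi)) w
        (fun i hi => hw i (Finset.mem_insert_of_mem hi)) hsum i hi'

theorem iSupIndep_C (hFp : ∀ γ, Fp γ = ⨆ η ∈ Set.Ioi γ, F η)
    (hC1 : ∀ γ, C γ ⊓ Fp γ = ⊥) (hC2 : ∀ γ, C γ ⊔ Fp γ = F γ) : iSupIndep C := by
  rw [iSupIndep_iff_finsetSum_eq_zero_imp_eq_zero]
  intro s v hv hsum
  exact min_arg F Fp C hFp hC1 hC2 s v hv 0 (fun i _ => Submodule.zero_mem _) hsum

theorem F_eq_iSup (hF : Antitone F) (hFp : ∀ γ, Fp γ = ⨆ η ∈ Set.Ioi γ, F η)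
    (hC1 : ∀ γ, C γ ⊓ Fp γ = ⊥) (hC2 : ∀ γ, C γ ⊔ Fp γ = F γ) (htop : ⨆ γ, C γ = ⊤) (γ : Γ) :
    F γ = ⨆ η ∈ Set.Ici γ, C η := by
  classical
  apply le_antisymm
  · intro v hv
    have hv' : v ∈ ⨆ γ, C γ := by
      rw [htop]
      exact Submodule.mem_top
    obtain ⟨s, hs⟩ := Submodule.mem_iSup_iff_exists_finset.mp hv'
    obtain ⟨μ, hμ⟩ := (Submodule.mem_iSup_finset_iff_exists_sum C v).mp hs
    rw [← Finset.sum_filter_add_sum_filter_not s (fun i => i < γ)] at hμ
    have h2 : ∑ i ∈ s.filter (fun i => ¬ i < γ), (μ i : M) ∈ F γ := by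
      apply Submodule.sum_mem
      intro i hi
      rw [Finset.mem_filter, not_lt] at hi
      exact hF hi.2 (C_le_F F Fp C hC2 i (μ i).2)
    have h3 := min_arg F Fp C hFp hC1 hC2 (s.filter (fun i => i < γ)) (fun i => (μ i : M))
      (fun i _ => (μ i).2) (v - ∑ i ∈ s.filter (fun i => ¬ i < γ), (μ i : M))
      (by
        intro i hi
        rw [Finset.mem_filter] at hi
        exact F_le_Fp F Fp hFp hi.2 (Submodule.sub_mem _ hv h2))
      (by rw [← hμ]; abel)
    rw [Finset.sum_eq_zero h3, zero_add] at hμ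
    rw [← hμ]
    apply Submodule.sum_mem
    intro i hi
    rw [Finset.mem_filter, not_lt] at hi
    exact (le_biSup C (show i ∈ Set.Ici γ from hi.2)) (μ i).2
  · apply iSup₂_le
    intro η hη
    exact le_trans (C_le_F F Fp C hC2 η) (hF hη)

end split

section fibres

variable [Module.Finite R M] (F Fp C : Γ → Submodule R M)

/-- at a prime where the rank condition holds, the fibre is spanned by the images of the `C γ`. -/
theorem baseChange_iSup_eq_top (hFp : ∀ γ, Fp γ = ⨆ η ∈ Set.Ioi γ, F η)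
    (hC2 : ∀ γ, C γ ⊔ Fp γ = F γ) (p : PrimeSpectrum R)
    (hrank : Module.finrank p.asIdeal.ResidueField (p.asIdeal.ResidueField ⊗[R] M) =
      ∑ᶠ γ, (Module.finrank p.asIdeal.ResidueField ↥((F γ).baseChange p.asIdeal.ResidueField) -
        Module.finrank p.asIdeal.ResidueField
          ↥(⨆ η ∈ Set.Ioi γ, (F η).baseChange p.asIdeal.ResidueField))) :
    (⨆ γ, C γ).baseChange p.asIdeal.ResidueField = ⊤ := by
  classical
  obtain ⟨K, hK⟩ : ∃ K, K = p.asIdeal.ResidueField := ⟨_, rfl⟩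
  have hD : ∀ γ η, γ < η → (C η).baseChange p.asIdeal.ResidueField ≤
      ⨆ ζ ∈ Set.Ioi γ, (F ζ).baseChange p.asIdeal.ResidueField := by
    intro γ η h
    exact le_trans (Submodule.baseChange_mono _ (C_le_F F Fp C hC2 η))
      (le_biSup (fun ζ => (F ζ).baseChange p.asIdeal.ResidueField) (show η ∈ Set.Ioi γ from h))
  have hsup : ∀ γ, (F γ).baseChange p.asIdeal.ResidueField =
      (⨆ η ∈ Set.Ioi γ, (F η).baseChange p.asIdeal.ResidueField) ⊔
        (C γ).baseChange p.asIdeal.ResidueField := by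
    intro γ
    rw [← baseChange_biSup, ← hFp γ, ← baseChange_sup, sup_comm, hC2 γ]
  have key := sum_jump_le (fun γ => (F γ).baseChange p.asIdeal.ResidueField)
    (fun γ => (C γ).baseChange p.asIdeal.ResidueField) hD hsup
  rw [baseChange_iSup]
  apply Submodule.eq_top_of_finrank_eq
  apply le_antisymm (Submodule.finrank_le _)
  rw [hrank]
  by_cases hfin : (Function.support fun γ =>
      (Module.finrank p.asIdeal.ResidueField ↥((F γ).baseChange p.asIdeal.ResidueField) -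
        Module.finrank p.asIdeal.ResidueField
          ↥(⨆ η ∈ Set.Ioi γ, (F η).baseChange p.asIdeal.ResidueField))).Finite
  · rw [finsum_eq_sum_of_support_subset _ (s := hfin.toFinset) (by rw [Set.Finite.coe_toFinset])]
    refine le_trans (key hfin.toFinset) (Submodule.finrank_mono ?_)
    exact Finset.sup_le (fun γ _ => le_iSup (fun γ => (C γ).baseChange p.asIdeal.ResidueField) γ)
  · rw [finsum_of_infinite_support hfin]
    exact Nat.zero_le _

end fibres

end Groth.Agent.Lib.helper10.FiltMod
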