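import Mathlib
import Groth.Agent.Lib.Helper10.FiltMod2

set_option linter.style.haveILetI false
set_option linter.unusedSectionVars false

universe u v w

namespace Groth.Agent.Lib.helper10.FiltMod

open scoped TensorProduct
open Module

variable {Γ : Type w} [LinearOrder Γ] {R : Type u} [CommRing R] {M : Type v} [AddCommGroup M]
  [Module R M]

section graded

variable (F Fp G : Γ → Submodule R M)

theorem Fp_eq_of_graded (hFp : ∀ γ, Fp γ = ⨆ η ∈ Set.Ioi γ, F η)
    (hG : ∀ γ, F γ = ⨆ η ∈ Set.Ici γ, G η) (γ : Γ) : Fp γ = ⨆ η ∈ Set.Ioi γ, G η := by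
  rw [hFp γ]
  apply le_antisymm
  · apply iSup₂_le
    intro η hη
    rw [hG η]
    apply iSup₂_le
    intro ζ hζ
    exact le_biSup G (show ζ ∈ Set.Ioi γ from lt_of_lt_of_le hη hζ)
  · apply iSup₂_le
    intro η hη
    refine le_trans ?_ (le_biSup F hη)
    rw [hG η]
    exact le_biSup G (show η ∈ Set.Ici η from le_rfl)

theorem G_sup_Fp (hFp : ∀ γ, Fp γ = ⨆ η ∈ Set.Ioi γ, F η)
    (hG : ∀ γ, F γ = ⨆ η ∈ Set.Ici γ, G η) (γ : Γ) : G γ ⊔ Fp γ = F γ := by
  rw [Fp_eq_of_graded F Fp G hFp hG γ, hG γ]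
  apply le_antisymm
  · apply sup_le
    · exact le_biSup G (show γ ∈ Set.Ici γ from le_rfl)
    · apply iSup₂_le
      intro η hη
      exact le_biSup G (show η ∈ Set.Ici γ from le_of_lt hη)
  · apply iSup₂_le
    intro η hη
    rcases eq_or_lt_of_le hη with rfl | h
    · exact le_sup_left
    · exact le_trans (le_biSup G (show η ∈ Set.Ioi γ from h)) le_sup_right

theorem Fp_le_compl (hFp : ∀ γ, Fp γ = ⨆ η ∈ Set.Ioi γ, F η)
    (hG : ∀ γ, F γ = ⨆ η ∈ Set.Ici γ, G η) (γ : Γ) : Fp γ ≤ ⨆ η, ⨆ (_ : η ≠ γ), G η := by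
  rw [Fp_eq_of_graded F Fp G hFp hG γ]
  apply iSup₂_le
  intro η hη
  exact le_iSup₂ (f := fun η (_ : η ≠ γ) => G η) η (ne_of_gt hη)

theorem isCompl_G (hind : iSupIndep G) (htop : ⨆ γ, G γ = ⊤) (γ : Γ) :
    IsCompl (G γ) (⨆ η, ⨆ (_ : η ≠ γ), G η) := by
  refine ⟨hind γ, ?_⟩
  rw [codisjoint_iff, eq_top_iff, ← htop]
  apply iSup_le
  intro η
  by_cases h : η = γ
  · rw [h]
    exact le_sup_left
  · exact le_trans (le_iSup₂ (f := fun η (_ : η ≠ γ) => G η) η h) le_sup_right

theorem G_inf_Fp (hFp : ∀ γ, Fp γ = ⨆ η ∈ Set.Ioi γ, F η)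
    (hG : ∀ γ, F γ = ⨆ η ∈ Set.Ici γ, G η) (hind : iSupIndep G) (γ : Γ) :
    G γ ⊓ Fp γ = ⊥ := by
  rw [eq_bot_iff]
  exact le_trans (inf_le_inf_left _ (Fp_le_compl F Fp G hFp hG γ)) (hind γ).le_bot

/-- the graded piece is isomorphic to the summand. -/
theorem exists_equiv_quot (hFp : ∀ γ, Fp γ = ⨆ η ∈ Set.Ioi γ, F η)
    (hG : ∀ γ, F γ = ⨆ η ∈ Set.Ici γ, G η) (hind : iSupIndep G) (γ : Γ) :
    Nonempty (↥(G γ) ≃ₗ[R] (↥(F γ) ⧸ Submodule.comap (F γ).subtype (Fp γ))) := by
  have hGF : G γ ≤ F γ := by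
    rw [← G_sup_Fp F Fp G hFp hG γ]
    exact le_sup_left
  obtain ⟨f, hf⟩ : ∃ f : ↥(G γ) →ₗ[R] (↥(F γ) ⧸ Submodule.comap (F γ).subtype (Fp γ)),
      f = (Submodule.comap (F γ).subtype (Fp γ)).mkQ ∘ₗ Submodule.inclusion hGF := ⟨_, rfl⟩
  refine ⟨LinearEquiv.ofBijective f ⟨?_, ?_⟩⟩
  · rw [← LinearMap.ker_eq_bot, eq_bot_iff]
    intro g hg
    rw [LinearMap.mem_ker, hf, LinearMap.comp_apply, Submodule.mkQ_apply,
      Submodule.Quotient.mk_eq_zero, Submodule.mem_comap] at hg
    have h0 : (g : M) ∈ G γ ⊓ Fp γ := ⟨g.2, hg⟩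
    rw [G_inf_Fp F Fp G hFp hG hind γ, Submodule.mem_bot] at h0
    rw [Submodule.mem_bot]
    exact Subtype.ext h0
  · intro q
    obtain ⟨v, rfl⟩ := Submodule.Quotient.mk_surjective _ q
    have hv : (v : M) ∈ G γ ⊔ Fp γ := by
      rw [G_sup_Fp F Fp G hFp hG γ]
      exact v.2
    obtain ⟨g, hg, f', hf', hsum⟩ := Submodule.mem_sup.mp hv
    refine ⟨⟨g, hg⟩, ?_⟩
    rw [hf, LinearMap.comp_apply, Submodule.mkQ_apply, Submodule.Quotient.eq,
      Submodule.mem_comap]
    have : (F γ).subtype (Submodule.inclusion hGF ⟨g, hg⟩ - v) = -f' := by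
      rw [map_sub]
      change g - (v : M) = -f'
      rw [← hsum]
      abel
    rw [this]
    exact Submodule.neg_mem _ hf'

theorem finite_projective_quot [Module.Finite R M] [Module.Projective R M]
    (hFp : ∀ γ, Fp γ = ⨆ η ∈ Set.Ioi γ, F η)
    (hG : ∀ γ, F γ = ⨆ η ∈ Set.Ici γ, G η) (hind : iSupIndep G) (htop : ⨆ γ, G γ = ⊤) (γ : Γ) :
    Module.Finite R (↥(F γ) ⧸ Submodule.comap (F γ).subtype (Fp γ)) ∧
      Module.Projective R (↥(F γ) ⧸ Submodule.comap (F γ).subtype (Fp γ)) := by
  obtain ⟨e⟩ := exists_equiv_quot F Fp G hFp hG hind γ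
  have hc := isCompl_G G hind htop γ
  haveI : Module.Finite R (G γ) :=
    Module.Finite.of_surjective _ (Submodule.projectionOnto_surjective hc)
  haveI : Module.Projective R (G γ) :=
    Module.Projective.of_split (G γ).subtype (Submodule.projectionOnto (G γ) _ hc)
      (Submodule.projectionOnto_comp_subtype hc)
  exact ⟨Module.Finite.equiv e, Module.Projective.of_equiv e⟩

end graded

section fibre

variable (A : Type*) [CommRing A] [Algebra R A]

theorem disjoint_baseChange (p q : Submodule R M) (h : IsCompl p q) :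
    Disjoint (p.baseChange A) (q.baseChange A) := by
  rw [Submodule.disjoint_def]
  intro d hd1 hd2
  obtain ⟨P, hP⟩ : ∃ P : M →ₗ[R] M, P = p.projection q h := ⟨_, rfl⟩
  have h1 : P ∘ₗ p.subtype = p.subtype := by
    ext x
    rw [hP, LinearMap.comp_apply, Submodule.projection_apply, Submodule.subtype_apply,
      Submodule.projectionOnto_apply_left]
  have h2 : P ∘ₗ q.subtype = 0 := by
    ext x
    rw [hP, LinearMap.comp_apply, LinearMap.zero_apply]
    exact Submodule.projection_apply_of_mem_right h x.2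
  obtain ⟨y, rfl⟩ := hd1
  obtain ⟨z, hz⟩ := hd2
  have e1 : (P.baseChange A) ((p.subtype.baseChange A) y) = (p.subtype.baseChange A) y := by
    rw [← LinearMap.comp_apply, ← LinearMap.baseChange_comp, h1]
  have e2 : (P.baseChange A) ((q.subtype.baseChange A) z) = 0 := by
    rw [← LinearMap.comp_apply, ← LinearMap.baseChange_comp, h2, LinearMap.baseChange_zero,
      LinearMap.zero_apply]
  rw [← e1, ← hz, e2]

end fibre

section rank

variable [Module.Finite R M] (F Fp G : Γ → Submodule R M)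

/-- the rank formula at a prime for a graded filtration. -/
theorem rank_formula (hFp : ∀ γ, Fp γ = ⨆ η ∈ Set.Ioi γ, F η)
    (hG : ∀ γ, F γ = ⨆ η ∈ Set.Ici γ, G η) (hind : iSupIndep G) (htop : ⨆ γ, G γ = ⊤)
    (p : PrimeSpectrum R) :
    Module.finrank p.asIdeal.ResidueField (p.asIdeal.ResidueField ⊗[R] M) =
      ∑ᶠ γ, (Module.finrank p.asIdeal.ResidueField ↥((F γ).baseChange p.asIdeal.ResidueField) -
        Module.finrank p.asIdeal.ResidueField
          ↥(⨆ η ∈ Set.Ioi γ, (F η).baseChange p.asIdeal.ResidueField)) := by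
  classical
  have hC2 := G_sup_Fp F Fp G hFp hG
  have hD : ∀ γ η, γ < η → (G η).baseChange p.asIdeal.ResidueField ≤
      ⨆ ζ ∈ Set.Ioi γ, (F ζ).baseChange p.asIdeal.ResidueField := by
    intro γ η h
    exact le_trans (Submodule.baseChange_mono _ (C_le_F F Fp G hC2 η))
      (le_biSup (fun ζ => (F ζ).baseChange p.asIdeal.ResidueField) (show η ∈ Set.Ioi γ from h))
  have hsup : ∀ γ, (F γ).baseChange p.asIdeal.ResidueField =
      (⨆ η ∈ Set.Ioi γ, (F η).baseChange p.asIdeal.ResidueField) ⊔
        (G γ).baseChange p.asIdeal.ResidueField := by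
    intro γ
    rw [← baseChange_biSup, ← hFp γ, ← baseChange_sup, sup_comm, hC2 γ]
  have key := sum_jump_le (fun γ => (F γ).baseChange p.asIdeal.ResidueField)
    (fun γ => (G γ).baseChange p.asIdeal.ResidueField) hD hsup
  -- the jump equals the dimension of the fibre of the summand
  have hj : ∀ γ, Module.finrank p.asIdeal.ResidueField
        ↥((F γ).baseChange p.asIdeal.ResidueField) -
      Module.finrank p.asIdeal.ResidueField
        ↥(⨆ η ∈ Set.Ioi γ, (F η).baseChange p.asIdeal.ResidueField) =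
      Module.finrank p.asIdeal.ResidueField ↥((G γ).baseChange p.asIdeal.ResidueField) := by
    intro γ
    have hdis : (⨆ η ∈ Set.Ioi γ, (F η).baseChange p.asIdeal.ResidueField) ⊓
        (G γ).baseChange p.asIdeal.ResidueField = ⊥ := by
      rw [eq_bot_iff, ← baseChange_biSup, ← hFp γ, inf_comm]
      refine le_trans (inf_le_inf_left _
        (Submodule.baseChange_mono _ (Fp_le_compl F Fp G hFp hG γ))) ?_
      exact (disjoint_baseChange _ _ _ (isCompl_G G hind htop γ)).le_bot
    have h1 := Submodule.finrank_sup_add_finrank_inf_eq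
      (⨆ η ∈ Set.Ioi γ, (F η).baseChange p.asIdeal.ResidueField)
      ((G γ).baseChange p.asIdeal.ResidueField)
    rw [hdis, finrank_bot, add_zero, ← hsup γ] at h1
    omega
  simp only [hj]
  -- finiteness of the support
  have hfin : (Function.support fun γ => Module.finrank p.asIdeal.ResidueField
      ↥((G γ).baseChange p.asIdeal.ResidueField)).Finite := by
    by_contra hinf
    obtain ⟨t, ht, hcard⟩ := Set.Infinite.exists_subset_card_eq hinf
      (Module.finrank p.asIdeal.ResidueField (p.asIdeal.ResidueField ⊗[R] M) + 1)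
    have h1 := key t
    simp only [hj] at h1
    have h2 : t.card ≤ ∑ γ ∈ t, Module.finrank p.asIdeal.ResidueField
        ↥((G γ).baseChange p.asIdeal.ResidueField) := by
      rw [Finset.card_eq_sum_ones]
      apply Finset.sum_le_sum
      intro γ hγ
      exact Nat.one_le_iff_ne_zero.mpr (ht hγ)
    have h3 := Submodule.finrank_le (t.sup fun γ => (G γ).baseChange p.asIdeal.ResidueField)
    omega
  rw [finsum_eq_sum_of_support_subset _ (s := hfin.toFinset) (by rw [Set.Finite.coe_toFinset])]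
  apply le_antisymm
  · -- the whole fibre is the span of the summands in the support
    have htop' : (⊤ : Submodule p.asIdeal.ResidueField (p.asIdeal.ResidueField ⊗[R] M)) ≤
        hfin.toFinset.sup fun γ => (G γ).baseChange p.asIdeal.ResidueField := by
      rw [← Submodule.baseChange_top, ← htop, baseChange_iSup]
      apply iSup_le
      intro γ
      by_cases hγ : γ ∈ hfin.toFinset
      · exact Finset.le_sup (f := fun γ => (G γ).baseChange p.asIdeal.ResidueField) hγ
      · rw [Set.Finite.mem_toFinset, Function.mem_support, not_not] at hγ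
        rw [Submodule.finrank_eq_zero.mp hγ]
        exact bot_le
    have h4 : Module.finrank p.asIdeal.ResidueField (p.asIdeal.ResidueField ⊗[R] M) ≤
        Module.finrank p.asIdeal.ResidueField
          ↥(hfin.toFinset.sup fun γ => (G γ).baseChange p.asIdeal.ResidueField) := by
      rw [← finrank_top p.asIdeal.ResidueField (p.asIdeal.ResidueField ⊗[R] M)]
      exact Submodule.finrank_mono htop'
    refine le_trans h4 ?_
    -- subadditivity
    have hsub : ∀ t : Finset Γ, Module.finrank p.asIdeal.ResidueField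
        ↥(t.sup fun γ => (G γ).baseChange p.asIdeal.ResidueField) ≤
        ∑ γ ∈ t, Module.finrank p.asIdeal.ResidueField
          ↥((G γ).baseChange p.asIdeal.ResidueField) := by
      intro t
      induction t using Finset.induction_on with
      | empty => simp
      | insert a s ha ih =>
        rw [Finset.sup_insert, Finset.sum_insert ha]
        exact le_trans (Submodule.finrank_add_le_finrank_add_finrank _ _)
          (Nat.add_le_add_left ih _)
    exact hsub _
  · have h1 := key hfin.toFinset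
    simp only [hj] at h1
    exact le_trans h1 (Submodule.finrank_le _)

end rank

end Groth.Agent.Lib.helper10.FiltMod
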