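import Mathlib.AlgebraicGeometry.Morphisms.FlatRank
import Mathlib.RingTheory.Artinian.Module
import Mathlib.RingTheory.Artinian.Algebra
import Mathlib.RingTheory.Ideal.Quotient.Operations
import Mathlib.LinearAlgebra.Dimension.Constructions

/-!
# Finite schemes over a field: counting points (helper10)
-/

set_option autoImplicit false
universe u

open CategoryTheory CategoryTheory.Limits AlgebraicGeometry Opposite

namespace Groth.Agent.Lib.helper10

/-- A finite-dimensional algebra over a field has at most `dim` primes. -/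
theorem card_primeSpectrum_le_finrank (K A : Type*) [Field K] [CommRing A] [Algebra K A]
    [Module.Finite K A] : Nat.card (PrimeSpectrum A) ≤ Module.finrank K A := by
  have : IsArtinianRing A := IsArtinianRing.of_finite K A
  have : Finite (PrimeSpectrum A) := inferInstance
  have : Fintype (PrimeSpectrum A) := Fintype.ofFinite _
  let I : PrimeSpectrum A → Ideal A := fun p => p.asIdeal
  have hI : Pairwise (Function.onFun IsCoprime I) := by
    intro p q hpq
    have hp : p.asIdeal.IsMaximal := (IsArtinianRing.isPrime_iff_isMaximal _).mp p.2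
    have hq : q.asIdeal.IsMaximal := (IsArtinianRing.isPrime_iff_isMaximal _).mp q.2
    rw [Function.onFun, Ideal.isCoprime_iff_sup_eq]
    exact Ideal.IsMaximal.coprime_of_ne hp hq (fun h => hpq (PrimeSpectrum.ext h))
  have hsurj := Ideal.pi_mkQ_surjective hI
  let f : A →ₗ[K] (∀ p : PrimeSpectrum A, A ⧸ I p) :=
    (LinearMap.pi fun i ↦ (I i).mkQ).restrictScalars K
  have hf : Function.Surjective f := hsurj
  have h1 := LinearMap.finrank_le_finrank_of_surjective hf
  refine le_trans ?_ h1
  rw [Module.finrank_pi_fintype, Nat.card_eq_fintype_card, Fintype.card_eq_sum_ones]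
  apply Finset.sum_le_sum
  intro p _
  have : Nontrivial (A ⧸ I p) := Ideal.Quotient.nontrivial_iff.mpr p.2.ne_top
  exact Module.finrank_pos

/-- A scheme finite over the spectrum of a field, of rank at most `n`, has at most `n` points. -/
theorem card_le_of_isFinite_finrank_le {K : Type u} [Field K] {T : Scheme.{u}}
    (c : T ⟶ Spec (CommRingCat.of K)) [IsFinite c] (n : ℕ) (h : ∀ s, c.finrank s ≤ n) :
    Finite T ∧ Nat.card T ≤ n := by
  have : IsAffine T := isAffine_of_isAffineHom c
  obtain ⟨φ, hφ⟩ := Spec.map_surjective (T.isoSpec.inv ≫ c)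
  have hc : c = T.isoSpec.hom ≫ Spec.map φ := by rw [hφ]; simp
  have hfin : IsFinite (Spec.map φ) := by rw [hφ]; infer_instance
  have hφfin : φ.hom.Finite := (IsFinite.SpecMap_iff _).mp hfin
  algebraize [φ.hom]
  have hφflat : φ.hom.Flat := by
    change Module.Flat K Γ(T, ⊤)
    infer_instance
  have hflat : Flat (Spec.map φ) := Flat.SpecMap_iff.mpr hφflat
  have hrank : ∀ s, c.finrank s = Module.finrank K Γ(T, ⊤) := by
    intro s
    rw [hc, Scheme.Hom.finrank_comp_left_of_isIso, Scheme.Hom.finrank_SpecMap_eq_finrank hφfin hφflat,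
      ← RingHom.algebraMap_toAlgebra φ.hom, RingHom.finrank_algebraMap,
      Module.rankAtStalk_eq_finrank_of_free]
    rfl
  have hcard := card_primeSpectrum_le_finrank K Γ(T, ⊤)
  have : IsArtinianRing Γ(T, ⊤) := IsArtinianRing.of_finite K _
  have hfinSpec : Finite (PrimeSpectrum Γ(T, ⊤)) := inferInstance
  let e : T ≃ PrimeSpectrum Γ(T, ⊤) := (Scheme.homeoOfIso T.isoSpec).toEquiv
  refine ⟨Finite.of_equiv _ e.symm, ?_⟩
  rw [Nat.card_congr e]
  refine hcard.trans ?_
  rw [← hrank (IsLocalRing.closedPoint K)]
  exact h _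

end Groth.Agent.Lib.helper10
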