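import Groth.Agent.Lib.Helper10.FunFld9

/-!
Function fields of one variable (helper10), part 10: the spaces `L(D)` and `A(D)`:
monotonicity, dimension bounds, finiteness.
-/

set_option autoImplicit false
set_option linter.unusedSectionVars false
set_option linter.style.haveILetI false

universe u v w

open IntermediateField FunFld

namespace Groth.Agent.Lib.helper10

namespace FF

open RD

variable {k : Type u} {K : Type v} [Field k] [Field K] [Algebra k K]

theorem mem_L_iff (D : Divisor k K) (x : K) : x ∈ L D ↔ ∀ P : Place k K, P.1 x ≤ WithZero.exp (D P) :=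
  Iff.rfl

theorem mem_AD_iff (D : Divisor k K) (a : Place k K → K) :
    a ∈ AD D ↔ ∀ P : Place k K, P.1 (a P) ≤ WithZero.exp (D P) :=
  Iff.rfl

theorem L_mono : Monotone (L : Divisor k K → Submodule k K) := by
  intro A B hAB x hx P
  exact le_trans (hx P) (WithZero.exp_le_exp.mpr (hAB P))

theorem AD_mono : Monotone (AD : Divisor k K → Submodule k (Place k K → K)) := by
  intro A B hAB x hx P
  exact le_trans (hx P) (WithZero.exp_le_exp.mpr (hAB P))

theorem add_single_apply_same (A : Divisor k K) (P : Place k K) (n : ℤ) :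
    (A + Finsupp.single P n) P = A P + n := by
  simp

theorem add_single_apply_ne (A : Divisor k K) {P Q : Place k K} (n : ℤ) (h : Q ≠ P) :
    (A + Finsupp.single P n) Q = A Q := by
  simp [Ne.symm h]

theorem relFin_L_step (hK : IsFunctionField k K) (A : Divisor k K) (P : Place k K) :
    RelFin (L A) (L (A + Finsupp.single P 1)) ∧
      (relDim (L A) (L (A + Finsupp.single P 1)) : ℤ) ≤ P.deg := by
  have hb := Place.relFin_ball hK P (A P + 1)
  rw [add_sub_cancel_right] at hb
  have h := relFin_of_injective (LinearMap.id : K →ₗ[k] K) (U := L A)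
    (W := L (A + Finsupp.single P 1)) (U' := Place.ball P (A P)) (W' := Place.ball P (A P + 1))
    (fun x hx => by
      have := hx P
      rwa [add_single_apply_same] at this)
    (fun x _ hx => hx P)
    (fun x hx hxP Q => by
      by_cases hQ : Q = P
      · subst hQ; exact hxP
      · have := hx Q
        rwa [add_single_apply_ne A 1 hQ] at this)
    hb.1
  refine ⟨h.1, ?_⟩
  rw [← hb.2]
  exact_mod_cast h.2

theorem relFin_AD_step (hK : IsFunctionField k K) (A : Divisor k K) (P : Place k K) :
    RelFin (AD A) (AD (A + Finsupp.single P 1)) ∧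
      (relDim (AD A) (AD (A + Finsupp.single P 1)) : ℤ) = P.deg := by
  classical
  have hb := Place.relFin_ball hK P (A P + 1)
  rw [add_sub_cancel_right] at hb
  have h := relFin_of_bijective (LinearMap.proj P : (Place k K → K) →ₗ[k] K) (U := AD A)
    (W := AD (A + Finsupp.single P 1)) (U' := Place.ball P (A P)) (W' := Place.ball P (A P + 1))
    (fun x hx => by
      have := hx P
      rwa [add_single_apply_same] at this)
    (fun x _ hx => hx P)
    (fun x hx hxP Q => by
      by_cases hQ : Q = P
      · subst hQ; exact hxP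
      · have := hx Q
        rwa [add_single_apply_ne A 1 hQ] at this)
    (fun y hy => by
      refine ⟨Pi.single P y, ?_, ?_⟩
      · intro Q
        by_cases hQ : Q = P
        · subst hQ
          rw [Pi.single_eq_same, add_single_apply_same]
          exact hy
        · rw [Pi.single_eq_of_ne hQ, Valuation.map_zero]
          exact zero_le
      · simp)
  refine ⟨h.1.mpr hb.1, ?_⟩
  rw [h.2, hb.2]

theorem relFin_L (hK : IsFunctionField k K) {A B : Divisor k K} (hAB : A ≤ B) :
    RelFin (L A) (L B) ∧ (relDim (L A) (L B) : ℤ) ≤ B.deg - A.deg :=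
  chain_induction (fun a b => a ≤ b) le_rfl (fun _ _ _ _ h1 h2 => add_le_add h1 h2) L L_mono
    (relFin_L_step hK) hAB

theorem relFin_AD (hK : IsFunctionField k K) {A B : Divisor k K} (hAB : A ≤ B) :
    RelFin (AD A) (AD B) ∧ (relDim (AD A) (AD B) : ℤ) = B.deg - A.deg :=
  chain_induction (fun a b => a = b) rfl (fun _ _ _ _ h1 h2 => by rw [h1, h2]) AD AD_mono
    (relFin_AD_step hK) hAB

/-- `L(0) = k`. -/
theorem L_zero (hK : IsFunctionField k K) : L (0 : Divisor k K) = 1 := by
  ext x
  rw [Submodule.one_eq_range, LinearMap.mem_range]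
  constructor
  · intro hx
    by_contra hne
    have hx' : x ∉ Set.range (algebraMap k K) := by
      rintro ⟨c, rfl⟩
      exact hne ⟨c, rfl⟩
    obtain ⟨Q, hQ⟩ := exists_pole hK hx'
    have hx0 : x ≠ 0 := by
      rintro rfl
      exact hx' ⟨0, map_zero _⟩
    rw [Place.ord_neg_iff Q hx0] at hQ
    have := hx Q
    simp only [Finsupp.coe_zero, Pi.zero_apply, WithZero.exp_zero] at this
    exact absurd this (not_le.mpr hQ)
  · rintro ⟨c, rfl⟩
    intro P
    simp only [Finsupp.coe_zero, Pi.zero_apply, WithZero.exp_zero]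
    exact P.2.1 c

theorem finite_L_zero (hK : IsFunctionField k K) :
    FiniteDimensional k (L (0 : Divisor k K)) ∧ Module.finrank k (L (0 : Divisor k K)) = 1 := by
  rw [L_zero hK, Submodule.one_eq_span]
  exact ⟨inferInstance, finrank_span_singleton one_ne_zero⟩

theorem finiteDimensional_L (hK : IsFunctionField k K) (D : Divisor k K) :
    FiniteDimensional k (L D) := by
  have h0 : (0 : Divisor k K) ≤ D ⊔ 0 := le_sup_right
  have h1 := relFin_L hK h0
  have h2 := finite_of_relFin (L_mono h0) (finite_L_zero hK).1 h1.1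
  haveI := h2.1
  exact Submodule.finiteDimensional_of_le (L_mono (le_sup_left : D ≤ D ⊔ 0))

/-- `ℓ(B) ≤ ℓ(A) + deg B - deg A` for `A ≤ B`. -/
theorem ell_le_add (hK : IsFunctionField k K) {A B : Divisor k K} (hAB : A ≤ B) :
    (ell B : ℤ) ≤ ell A + (B.deg - A.deg) := by
  have h1 := relFin_L hK hAB
  have h2 := finite_of_relFin (L_mono hAB) (finiteDimensional_L hK A) h1.1
  unfold ell
  rw [h2.2]
  push_cast
  linarith [h1.2]

theorem ell_mono (hK : IsFunctionField k K) {A B : Divisor k K} (hAB : A ≤ B) : ell A ≤ ell B := by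
  haveI := finiteDimensional_L hK B
  exact Submodule.finrank_mono (L_mono hAB)

theorem ell_zero (hK : IsFunctionField k K) : ell (0 : Divisor k K) = 1 := (finite_L_zero hK).2

theorem ell_le_deg_add_one (hK : IsFunctionField k K) {D : Divisor k K} (hD : 0 ≤ D) :
    (ell D : ℤ) ≤ D.deg + 1 := by
  have := ell_le_add hK hD
  rw [ell_zero hK, deg_zero] at this
  push_cast at this
  linarith

end FF

end Groth.Agent.Lib.helper10
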