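import Groth.Agent.Lib.Helper10.FunFld10

/-!
Function fields of one variable (helper10), part 11: principal divisors, divisors of zeros and
poles, `deg (x)_0 = deg (x)_∞ = [K : k(x)]`, `deg (x) = 0`.
-/

set_option autoImplicit false
set_option linter.unusedSectionVars false
set_option linter.style.haveILetI false

universe u v w

open IntermediateField FunFld

namespace Groth.Agent.Lib.helper10

namespace FF

open RD

variable {k : Type u} {K : Type v} [Field k] [Field K] [Algebra k K]

/-- The degree as an additive map. -/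
noncomputable def degHom (k : Type u) (K : Type v) [Field k] [Field K] [Algebra k K] :
    Divisor k K →+ ℤ where
  toFun := Divisor.deg
  map_zero' := deg_zero
  map_add' := deg_add

theorem degHom_apply (A : Divisor k K) : degHom k K A = A.deg := rfl

theorem deg_zsmul (n : ℤ) (A : Divisor k K) : (n • A).deg = n * A.deg := by
  rw [← degHom_apply, map_zsmul, degHom_apply, smul_eq_mul]

theorem deg_sum {ι : Type*} (s : Finset ι) (f : ι → Divisor k K) :
    (∑ i ∈ s, f i).deg = ∑ i ∈ s, (f i).deg := by
  rw [← degHom_apply, map_sum]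
  rfl

/-! ### principal divisors -/

theorem div_zero' (hK : IsFunctionField k K) : FunFld.div k (0 : K) = 0 := by
  ext P
  rw [div_apply hK, Place.ord_zero]
  rfl

theorem div_algebraMap (hK : IsFunctionField k K) (c : k) : FunFld.div k (algebraMap k K c) = 0 := by
  ext P
  rw [div_apply hK, Place.ord_algebraMap]
  rfl

theorem div_mul (hK : IsFunctionField k K) {x y : K} (hx : x ≠ 0) (hy : y ≠ 0) :
    FunFld.div k (x * y) = FunFld.div k x + FunFld.div k y := by
  ext P
  rw [Finsupp.add_apply, div_apply hK, div_apply hK, div_apply hK, Place.ord_mul P hx hy]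

theorem div_inv (hK : IsFunctionField k K) (x : K) : FunFld.div k x⁻¹ = -FunFld.div k x := by
  ext P
  rw [Finsupp.neg_apply, div_apply hK, div_apply hK, Place.ord_inv]

/-- The divisor of zeros. -/
noncomputable def zerosDiv (k : Type u) {K : Type v} [Field k] [Field K] [Algebra k K] (x : K) :
    Divisor k K := FunFld.div k x ⊔ 0

/-- The divisor of poles. -/
noncomputable def polesDiv (k : Type u) {K : Type v} [Field k] [Field K] [Algebra k K] (x : K) :
    Divisor k K := (-FunFld.div k x) ⊔ 0

theorem zerosDiv_apply (hK : IsFunctionField k K) (x : K) (P : Place k K) :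
    zerosDiv k x P = max (P.ord x) 0 := by
  unfold zerosDiv
  rw [Finsupp.sup_apply, div_apply hK]
  rfl

theorem polesDiv_apply (hK : IsFunctionField k K) (x : K) (P : Place k K) :
    polesDiv k x P = max (-P.ord x) 0 := by
  unfold polesDiv
  rw [Finsupp.sup_apply, Finsupp.neg_apply, div_apply hK]
  rfl

theorem zerosDiv_nonneg (x : K) : 0 ≤ zerosDiv k x := le_sup_right

theorem polesDiv_nonneg (x : K) : 0 ≤ polesDiv k x := le_sup_right

theorem zerosDiv_inv (hK : IsFunctionField k K) (x : K) : zerosDiv k x⁻¹ = polesDiv k x := by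
  unfold zerosDiv polesDiv
  rw [div_inv hK]

theorem polesDiv_inv (hK : IsFunctionField k K) (x : K) : polesDiv k x⁻¹ = zerosDiv k x := by
  unfold zerosDiv polesDiv
  rw [div_inv hK, neg_neg]

theorem div_eq_sub (hK : IsFunctionField k K) (x : K) :
    FunFld.div k x = zerosDiv k x - polesDiv k x := by
  ext P
  rw [Finsupp.sub_apply, zerosDiv_apply hK, polesDiv_apply hK, div_apply hK]
  omega

theorem val_le_exp_polesDiv (hK : IsFunctionField k K) (x : K) (P : Place k K) :
    P.1 x ≤ WithZero.exp (polesDiv k x P) := by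
  by_cases hx : x = 0
  · rw [hx, Valuation.map_zero]
    exact zero_le
  · rw [Place.val_eq_exp_neg_ord P hx, WithZero.exp_le_exp, polesDiv_apply hK]
    exact le_max_left _ _

theorem adjoin_inv (x : K) : k⟮x⁻¹⟯ = k⟮x⟯ := by
  apply le_antisymm
  · rw [adjoin_simple_le_iff]
    exact inv_mem (mem_adjoin_simple_self k x)
  · rw [adjoin_simple_le_iff]
    have := inv_mem (mem_adjoin_simple_self k x⁻¹)
    rwa [inv_inv] at this

/-- `deg (x)_0 ≤ [K : k(x)]`. -/
theorem deg_zerosDiv_le (hK : IsFunctionField k K) {x : K} (hx0 : x ≠ 0) :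
    (zerosDiv k x).deg ≤ Module.finrank k⟮x⟯ K := by
  classical
  set S := (zerosDiv k x).support with hS
  have hpos : ∀ P ∈ S, 0 < P.ord x := by
    intro P hP
    rw [hS, Finsupp.mem_support_iff, zerosDiv_apply hK] at hP
    by_contra hle
    rw [not_lt] at hle
    exact hP (max_eq_right hle)
  have hxS : ∀ P ∈ S, P.1 x < 1 := fun P hP => (Place.ord_pos_iff P hx0).mp (hpos P hP)
  have h := sum_ord_mul_deg_le hK S hx0 hxS
  have h2 : (zerosDiv k x).deg = ∑ P ∈ S, ((P.ord x).toNat * P.deg : ℕ) := by
    unfold Divisor.deg Finsupp.sum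
    push_cast
    apply Finset.sum_congr rfl
    intro P hP
    rw [zerosDiv_apply hK, Int.toNat_of_nonneg (hpos P hP).le, max_eq_left (hpos P hP).le]
  rw [h2]
  exact_mod_cast h

theorem linearIndependent_pow_of_transcendental {y : K} (hy : Transcendental k y) :
    LinearIndependent k (fun i : ℕ => y ^ i) := by
  have h1 := (Polynomial.basisMonomials k).linearIndependent
  have h2 : LinearMap.ker (Polynomial.aeval y : Polynomial k →ₐ[k] K).toLinearMap = ⊥ :=
    LinearMap.ker_eq_bot.mpr (transcendental_iff_injective.mp hy)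
  have h3 := h1.map' _ h2
  have e : (⇑(Polynomial.aeval y : Polynomial k →ₐ[k] K).toLinearMap ∘
      ⇑(Polynomial.basisMonomials k)) = fun i : ℕ => y ^ i := by
    funext i
    simp [Polynomial.coe_basisMonomials]
  rw [e] at h3
  exact h3

/-- `[K : k(y)] ≤ deg (y)_∞`. -/
theorem le_deg_polesDiv (hK : IsFunctionField k K) {y : K} (hy : Transcendental k y) :
    (Module.finrank k⟮y⟯ K : ℤ) ≤ (polesDiv k y).deg := by
  classical
  haveI : FiniteDimensional k⟮y⟯ K := finiteDimensional_adjoin hK hy
  have hy0 : y ≠ 0 := by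
    rintro rfl
    exact hy (isAlgebraic_zero)
  set n := Module.finrank k⟮y⟯ K with hn
  set B := polesDiv k y with hB
  let u : Module.Basis (Fin n) k⟮y⟯ K := Module.finBasis k⟮y⟯ K
  set C : Divisor k K := ∑ j, polesDiv k (u j) with hC
  have hB0 : 0 ≤ B := polesDiv_nonneg y
  have hC0 : 0 ≤ C := Finset.sum_nonneg (fun j _ => polesDiv_nonneg (u j))
  have hBP : ∀ P : Place k K, 0 ≤ B P := fun P => hB0 P
  have key : ∀ l : ℕ, (n : ℤ) * (l + 1) ≤ l * B.deg + C.deg + 1 := by
    intro l
    set D : Divisor k K := (l : ℤ) • B + C with hD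
    have hD0 : 0 ≤ D := add_nonneg (smul_nonneg (Int.natCast_nonneg l) hB0) hC0
    have h1 := ell_le_deg_add_one hK hD0
    have hdegD : D.deg = l * B.deg + C.deg := by rw [hD, deg_add, deg_zsmul]
    have hmem : ∀ (i : Fin (l + 1)) (j : Fin n), y ^ (i : ℕ) * u j ∈ L D := by
      intro i j P
      rw [map_mul, map_pow]
      have e1 : P.1 y ^ (i : ℕ) ≤ WithZero.exp ((l : ℤ) * B P) := by
        calc P.1 y ^ (i : ℕ) ≤ WithZero.exp (B P) ^ (i : ℕ) :=
              pow_le_pow_left' (val_le_exp_polesDiv hK y P) _
          _ = WithZero.exp (((i : ℕ) : ℤ) * B P) := by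
              rw [← WithZero.exp_nsmul]
              simp
          _ ≤ WithZero.exp ((l : ℤ) * B P) := by
              rw [WithZero.exp_le_exp]
              apply mul_le_mul_of_nonneg_right _ (hBP P)
              have := i.2
              omega
      have e2 : P.1 (u j) ≤ WithZero.exp (C P) := by
        apply le_trans (val_le_exp_polesDiv hK (u j) P)
        rw [WithZero.exp_le_exp, hC, Finsupp.finsetSum_apply]
        exact Finset.single_le_sum (f := fun j => polesDiv k (u j) P)
          (fun j _ => polesDiv_nonneg (u j) P) (Finset.mem_univ j)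
      calc P.1 y ^ (i : ℕ) * P.1 (u j) ≤ WithZero.exp ((l : ℤ) * B P) * WithZero.exp (C P) :=
            mul_le_mul' e1 e2
        _ = WithZero.exp (D P) := by
            rw [← WithZero.exp_add, hD, Finsupp.add_apply, Finsupp.smul_apply, smul_eq_mul]
    let w : Fin (l + 1) × Fin n → L D := fun p => ⟨y ^ (p.1 : ℕ) * u p.2, hmem p.1 p.2⟩
    have hb : LinearIndependent k (fun i : Fin (l + 1) => (AdjoinSimple.gen k y) ^ (i : ℕ)) := by
      apply LinearIndependent.of_comp (k⟮y⟯.val).toLinearMap
      have h1 := (linearIndependent_pow_of_transcendental hy).comp (fun i : Fin (l + 1) => (i : ℕ))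
        Fin.val_injective
      have e : (⇑(k⟮y⟯.val).toLinearMap ∘ fun i : Fin (l + 1) => (AdjoinSimple.gen k y) ^ (i : ℕ)) =
          ((fun i : ℕ => y ^ i) ∘ fun i : Fin (l + 1) => (i : ℕ)) := by
        funext i
        simp
      rw [e]
      exact h1
    have hli : LinearIndependent k w := by
      apply LinearIndependent.of_comp (L D).subtype
      have h2 := linearIndependent_smul hb u.linearIndependent
      have e : (⇑(L D).subtype ∘ w) =
          fun p : Fin (l + 1) × Fin n => (AdjoinSimple.gen k y) ^ (p.1 : ℕ) • u p.2 := by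
        funext p
        simp only [Function.comp_apply, Submodule.subtype_apply]
        rw [IntermediateField.smul_def, smul_eq_mul]
        simp [w]
      rw [e]
      exact h2
    haveI := finiteDimensional_L hK D
    have h2 := hli.fintype_card_le_finrank
    rw [Fintype.card_prod, Fintype.card_fin, Fintype.card_fin] at h2
    have h3 : (((l + 1) * n : ℕ) : ℤ) ≤ ell D := by
      unfold ell
      exact_mod_cast h2
    rw [hdegD] at h1
    push_cast at h3
    linarith
  by_contra hlt
  rw [not_le] at hlt
  have hle : B.deg ≤ n - 1 := by omega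
  set l : ℕ := (C.deg + 1).toNat + 1 with hl
  have h1 := key l
  have h2 : (l : ℤ) * B.deg ≤ l * (n - 1) := mul_le_mul_of_nonneg_left hle (Int.natCast_nonneg l)
  have h3 : C.deg + 1 < l := by
    rw [hl]
    push_cast
    have := Int.self_le_toNat (C.deg + 1)
    omega
  have h4 : (0 : ℤ) ≤ n := Int.natCast_nonneg n
  nlinarith

theorem finrank_adjoin_inv (x : K) : Module.finrank k⟮x⁻¹⟯ K = Module.finrank k⟮x⟯ K := by
  rw [adjoin_inv]

theorem transcendental_inv {x : K} (hx : Transcendental k x) : Transcendental k x⁻¹ := by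
  intro h
  apply hx
  have := h.inv
  rwa [inv_inv] at this

/-- `deg (x)_0 = [K : k(x)]`. -/
theorem deg_zerosDiv (hK : IsFunctionField k K) {x : K} (hx : Transcendental k x) :
    (zerosDiv k x).deg = Module.finrank k⟮x⟯ K := by
  have hx0 : x ≠ 0 := by
    rintro rfl
    exact hx (isAlgebraic_zero)
  apply le_antisymm (deg_zerosDiv_le hK hx0)
  have := le_deg_polesDiv hK (transcendental_inv hx)
  rwa [finrank_adjoin_inv, polesDiv_inv hK] at this

/-- `deg (x)_∞ = [K : k(x)]`. -/
theorem deg_polesDiv (hK : IsFunctionField k K) {x : K} (hx : Transcendental k x) :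
    (polesDiv k x).deg = Module.finrank k⟮x⟯ K := by
  have := deg_zerosDiv hK (transcendental_inv hx)
  rwa [finrank_adjoin_inv, zerosDiv_inv hK] at this

/-- `deg (x) = 0`. -/
theorem deg_div (hK : IsFunctionField k K) (x : K) : (FunFld.div k x).deg = 0 := by
  by_cases hx : x ∈ Set.range (algebraMap k K)
  · obtain ⟨c, rfl⟩ := hx
    rw [div_algebraMap hK, deg_zero]
  · have htr := transcendental_of_not_mem_range hK hx
    rw [div_eq_sub hK, deg_sub, deg_zerosDiv hK htr, deg_polesDiv hK htr, sub_self]

theorem sum_zeros_eq_deg_zerosDiv (x : K) :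
    (∑ P ∈ (FunFld.div k x).support with 0 < FunFld.div k x P,
        FunFld.div k x P * (P.deg : ℤ)) = (zerosDiv k x).deg := by
  classical
  unfold Divisor.deg Finsupp.sum zerosDiv
  apply Finset.sum_congr
  · ext P
    rw [Finset.mem_filter, Finsupp.mem_support_iff, Finsupp.mem_support_iff, Finsupp.sup_apply]
    change _ ↔ max (FunFld.div k x P) 0 ≠ 0
    constructor
    · rintro ⟨_, h⟩
      rw [max_eq_left h.le]
      exact h.ne'
    · intro h
      by_cases hpos : 0 < FunFld.div k x P
      · exact ⟨hpos.ne', hpos⟩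
      · rw [not_lt] at hpos
        exact absurd (max_eq_right hpos) h
  · intro P hP
    rw [Finsupp.mem_support_iff, Finsupp.sup_apply] at hP
    have hpos : 0 < FunFld.div k x P := by
      by_contra hle
      rw [not_lt] at hle
      exact hP (max_eq_right hle)
    rw [Finsupp.sup_apply]
    change _ = max (FunFld.div k x P) 0 * _
    rw [max_eq_left hpos.le]

end FF

end Groth.Agent.Lib.helper10
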