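import Groth.Agent.Lib.Helper10.FunFld11

/-!
Function fields of one variable (helper10), part 12: linear equivalence, Riemann's inequality,
the genus, Riemann's theorem.
-/

set_option autoImplicit false
set_option linter.unusedSectionVars false
set_option linter.style.haveILetI false

universe u v w

open IntermediateField FunFld

namespace Groth.Agent.Lib.helper10

namespace FF

open RD

variable {k : Type u} {K : Type v} [Field k] [Field K] [Algebra k K]

theorem mem_L_iff_div (hK : IsFunctionField k K) {z : K} (hz : z ≠ 0) (D : Divisor k K) :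
    z ∈ L D ↔ 0 ≤ D + FunFld.div k z := by
  constructor
  · intro h P
    have := h P
    rw [Place.val_eq_exp_neg_ord P hz, WithZero.exp_le_exp] at this
    rw [Finsupp.add_apply, div_apply hK]
    simp only [Finsupp.coe_zero, Pi.zero_apply]
    omega
  · intro h P
    have := h P
    rw [Finsupp.add_apply, div_apply hK] at this
    simp only [Finsupp.coe_zero, Pi.zero_apply] at this
    rw [Place.val_eq_exp_neg_ord P hz, WithZero.exp_le_exp]
    omega

theorem mem_L_add_div_iff (hK : IsFunctionField k K) (A : Divisor k K) {z : K} (hz : z ≠ 0) (y : K) :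
    y ∈ L (A + FunFld.div k z) ↔ y * z ∈ L A := by
  constructor
  · intro h P
    have := h P
    rw [Finsupp.add_apply, div_apply hK, WithZero.exp_add] at this
    rw [map_mul, Place.val_eq_exp_neg_ord P hz]
    calc P.1 y * WithZero.exp (-P.ord z)
        ≤ WithZero.exp (A P) * WithZero.exp (P.ord z) * WithZero.exp (-P.ord z) :=
          mul_le_mul_left this _
      _ = WithZero.exp (A P) := by
          rw [mul_assoc, ← WithZero.exp_add, add_neg_cancel, WithZero.exp_zero, mul_one]
  · intro h P
    have := h P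
    rw [map_mul, Place.val_eq_exp_neg_ord P hz] at this
    rw [Finsupp.add_apply, div_apply hK, WithZero.exp_add]
    calc P.1 y = P.1 y * WithZero.exp (-P.ord z) * WithZero.exp (P.ord z) := by
          rw [mul_assoc, ← WithZero.exp_add, neg_add_cancel, WithZero.exp_zero, mul_one]
      _ ≤ WithZero.exp (A P) * WithZero.exp (P.ord z) := mul_le_mul_left this _

/-- Linearly equivalent divisors have the same `ℓ`. -/
theorem ell_add_div (hK : IsFunctionField k K) (A : Divisor k K) {z : K} (hz : z ≠ 0) :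
    ell (A + FunFld.div k z) = ell A := by
  unfold ell
  let e : L (A + FunFld.div k z) ≃ₗ[k] L A :=
    { toFun := fun y => ⟨y.1 * z, (mem_L_add_div_iff hK A hz y.1).mp y.2⟩
      invFun := fun y => ⟨y.1 * z⁻¹, (mem_L_add_div_iff hK A hz _).mpr (by
        rw [mul_assoc, inv_mul_cancel₀ hz, mul_one]
        exact y.2)⟩
      map_add' := fun a b => by
        apply Subtype.ext
        simp [add_mul]
      map_smul' := fun c a => by
        apply Subtype.ext
        simp [smul_mul_assoc]
      left_inv := fun a => by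
        apply Subtype.ext
        simp [mul_assoc, mul_inv_cancel₀ hz]
      right_inv := fun a => by
        apply Subtype.ext
        simp [mul_assoc, inv_mul_cancel₀ hz] }
  exact e.finrank_eq

theorem deg_add_div (hK : IsFunctionField k K) (A : Divisor k K) (z : K) :
    (A + FunFld.div k z).deg = A.deg := by
  rw [deg_add, deg_div hK, add_zero]

theorem exists_ne_zero_mem_L (hK : IsFunctionField k K) {D : Divisor k K} (h : 0 < ell D) :
    ∃ z : K, z ≠ 0 ∧ z ∈ L D := by
  haveI := finiteDimensional_L hK D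
  unfold ell at h
  rw [Module.finrank_pos_iff] at h
  obtain ⟨z, hz⟩ := exists_ne (0 : L D)
  exact ⟨z.1, fun h0 => hz (Subtype.ext h0), z.2⟩

/-- `deg A - ℓ(A)` is monotone. -/
theorem delta_mono (hK : IsFunctionField k K) {A B : Divisor k K} (hAB : A ≤ B) :
    A.deg - ell A ≤ B.deg - ell B := by
  have := ell_le_add hK hAB
  linarith

/-- The key lower bound from the proof of `deg (y)_∞ = [K : k(y)]`. -/
theorem exists_C_ell_ge (hK : IsFunctionField k K) {y : K} (hy : Transcendental k y) :
    ∃ C : Divisor k K, 0 ≤ C ∧ ∀ l : ℕ,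
      (Module.finrank k⟮y⟯ K : ℤ) * (l + 1) ≤ ell ((l : ℤ) • polesDiv k y + C) := by
  classical
  haveI : FiniteDimensional k⟮y⟯ K := finiteDimensional_adjoin hK hy
  set n := Module.finrank k⟮y⟯ K with hn
  set B := polesDiv k y with hB
  let u : Module.Basis (Fin n) k⟮y⟯ K := Module.finBasis k⟮y⟯ K
  set C : Divisor k K := ∑ j, polesDiv k (u j) with hC
  have hB0 : 0 ≤ B := polesDiv_nonneg y
  have hC0 : 0 ≤ C := Finset.sum_nonneg (fun j _ => polesDiv_nonneg (u j))
  have hBP : ∀ P : Place k K, 0 ≤ B P := fun P => hB0 P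
  refine ⟨C, hC0, fun l => ?_⟩
  set D : Divisor k K := (l : ℤ) • B + C with hD
  have hmem : ∀ (i : Fin (l + 1)) (j : Fin n), y ^ (i : ℕ) * u j ∈ L D := by
    intro i j P
    rw [map_mul, map_pow]
    have e1 : P.1 y ^ (i : ℕ) ≤ WithZero.exp ((l : ℤ) * B P) := by
      calc P.1 y ^ (i : ℕ) ≤ WithZero.exp (B P) ^ (i : ℕ) :=
            pow_le_pow_left' (val_le_exp_polesDiv hK y P) _
        _ = WithZero.exp (((i : ℕ) : ℤ) * B P) := by
            rw [← WithZero.exp_nsmul]
            simp
        _ ≤ WithZero.exp ((l : ℤ) * B P) := by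
            rw [WithZero.exp_le_exp]
            apply mul_le_mul_of_nonneg_right _ (hBP P)
            have := i.2
            omega
    have e2 : P.1 (u j) ≤ WithZero.exp (C P) := by
      apply le_trans (val_le_exp_polesDiv hK (u j) P)
      rw [WithZero.exp_le_exp, hC, Finsupp.finsetSum_apply]
      exact Finset.single_le_sum (f := fun j => polesDiv k (u j) P)
        (fun j _ => polesDiv_nonneg (u j) P) (Finset.mem_univ j)
    calc P.1 y ^ (i : ℕ) * P.1 (u j) ≤ WithZero.exp ((l : ℤ) * B P) * WithZero.exp (C P) :=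
          mul_le_mul' e1 e2
      _ = WithZero.exp (D P) := by
          rw [← WithZero.exp_add, hD, Finsupp.add_apply, Finsupp.smul_apply, smul_eq_mul]
  let w : Fin (l + 1) × Fin n → L D := fun p => ⟨y ^ (p.1 : ℕ) * u p.2, hmem p.1 p.2⟩
  have hb : LinearIndependent k (fun i : Fin (l + 1) => (AdjoinSimple.gen k y) ^ (i : ℕ)) := by
    apply LinearIndependent.of_comp (k⟮y⟯.val).toLinearMap
    have h1 := (linearIndependent_pow_of_transcendental hy).comp (fun i : Fin (l + 1) => (i : ℕ))
      Fin.val_injective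
    have e : (⇑(k⟮y⟯.val).toLinearMap ∘ fun i : Fin (l + 1) => (AdjoinSimple.gen k y) ^ (i : ℕ)) =
        ((fun i : ℕ => y ^ i) ∘ fun i : Fin (l + 1) => (i : ℕ)) := by
      funext i
      simp
    rw [e]
    exact h1
  have hli : LinearIndependent k w := by
    apply LinearIndependent.of_comp (L D).subtype
    have h2 := linearIndependent_smul hb u.linearIndependent
    have e : (⇑(L D).subtype ∘ w) =
        fun p : Fin (l + 1) × Fin n => (AdjoinSimple.gen k y) ^ (p.1 : ℕ) • u p.2 := by
      funext p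
      simp only [Function.comp_apply, Submodule.subtype_apply]
      rw [IntermediateField.smul_def, smul_eq_mul]
      simp [w]
    rw [e]
    exact h2
  haveI := finiteDimensional_L hK D
  have h2 := hli.fintype_card_le_finrank
  rw [Fintype.card_prod, Fintype.card_fin, Fintype.card_fin] at h2
  have h3 : (((l + 1) * n : ℕ) : ℤ) ≤ ell D := by
    unfold ell
    exact_mod_cast h2
  push_cast at h3
  linarith

/-- Riemann's inequality, first form: `deg A - ℓ(A)` is bounded above. -/
theorem exists_gamma (hK : IsFunctionField k K) : ∃ γ : ℤ, ∀ A : Divisor k K, A.deg - ell A ≤ γ := by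
  obtain ⟨x, hx, -⟩ := hK.1
  haveI : FiniteDimensional k⟮x⟯ K := finiteDimensional_adjoin hK hx
  set n := Module.finrank k⟮x⟯ K with hn
  have hn1 : 1 ≤ n := Module.finrank_pos
  set B := polesDiv k x with hB
  have hdegB : B.deg = n := deg_polesDiv hK hx
  obtain ⟨C, hC0, hC⟩ := exists_C_ell_ge hK hx
  have hlB : ∀ l : ℕ, ((l : ℤ) • B).deg - ell ((l : ℤ) • B) ≤ C.deg - n := by
    intro l
    have h1 := hC l
    have h2 := ell_le_add hK (le_add_of_nonneg_right hC0 : (l : ℤ) • B ≤ (l : ℤ) • B + C)
    rw [deg_add] at h2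
    rw [deg_zsmul, hdegB]
    linarith
  refine ⟨C.deg - n, fun A => ?_⟩
  set A₁ : Divisor k K := A ⊔ 0 with hA₁
  have hAA₁ : A ≤ A₁ := le_sup_left
  set l : ℕ := (C.deg - n + A₁.deg + 1).toNat with hl
  have hl1 : C.deg - n + A₁.deg + 1 ≤ l := Int.self_le_toNat _
  have h1 : (l : ℤ) • B - A₁ ≤ (l : ℤ) • B := sub_le_self _ le_sup_right
  have h2 := ell_le_add hK h1
  rw [deg_sub] at h2
  have h3 := hlB l
  rw [deg_zsmul, hdegB] at h3 h2
  have h4 : (l : ℤ) ≤ l * n := by
    have : (1 : ℤ) ≤ n := by exact_mod_cast hn1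
    nlinarith [Int.natCast_nonneg l]
  have hpos : 0 < ell ((l : ℤ) • B - A₁) := by
    have : (0 : ℤ) < ell ((l : ℤ) • B - A₁) := by linarith
    exact_mod_cast this
  obtain ⟨z, hz0, hz⟩ := exists_ne_zero_mem_L hK hpos
  rw [mem_L_iff_div hK hz0] at hz
  set D : Divisor k K := A₁ + FunFld.div k z⁻¹ with hD
  have hDle : D ≤ (l : ℤ) • B := by
    rw [hD, div_inv hK]
    have : A₁ + -FunFld.div k z = (l : ℤ) • B - ((l : ℤ) • B - A₁ + FunFld.div k z) := by abel
    rw [this]
    exact sub_le_self _ hz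
  have h5 := delta_mono hK hAA₁
  have h6 := delta_mono hK hDle
  rw [hD, deg_add_div hK, ell_add_div hK A₁ (inv_ne_zero hz0)] at h6
  rw [deg_zsmul, hdegB] at h6
  linarith

theorem genus_bddAbove (hK : IsFunctionField k K) :
    BddAbove (Set.range fun D : Divisor k K => (D.deg + 1 - (ell D : ℤ)).toNat) := by
  obtain ⟨γ, hγ⟩ := exists_gamma hK
  refine ⟨(γ + 1).toNat, ?_⟩
  rintro _ ⟨D, rfl⟩
  apply Int.toNat_le_toNat
  have := hγ D
  linarith

/-- Riemann's inequality. -/
theorem delta_le_genus (hK : IsFunctionField k K) (D : Divisor k K) :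
    D.deg + 1 - (ell D : ℤ) ≤ genus k K := by
  have h1 : (D.deg + 1 - (ell D : ℤ)).toNat ≤ genus k K :=
    le_csSup (genus_bddAbove hK) ⟨D, rfl⟩
  have h2 := Int.self_le_toNat (D.deg + 1 - (ell D : ℤ))
  have h3 : ((D.deg + 1 - (ell D : ℤ)).toNat : ℤ) ≤ genus k K := by exact_mod_cast h1
  linarith

theorem exists_delta_eq_genus (hK : IsFunctionField k K) :
    ∃ D : Divisor k K, D.deg + 1 - (ell D : ℤ) = genus k K := by
  have hne : (Set.range fun D : Divisor k K => (D.deg + 1 - (ell D : ℤ)).toNat).Nonempty :=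
    ⟨_, ⟨0, rfl⟩⟩
  obtain ⟨D, hD⟩ := Nat.sSup_mem hne (genus_bddAbove hK)
  change (D.deg + 1 - (ell D : ℤ)).toNat = genus k K at hD
  by_cases hpos : 0 ≤ D.deg + 1 - (ell D : ℤ)
  · refine ⟨D, ?_⟩
    rw [← hD, Int.toNat_of_nonneg hpos]
  · rw [not_le] at hpos
    refine ⟨0, ?_⟩
    rw [← hD, Int.toNat_of_nonpos hpos.le, deg_zero, ell_zero hK]
    simp

/-- Riemann's theorem. -/
theorem riemann (hK : IsFunctionField k K) :
    ∃ N : ℤ, ∀ D : Divisor k K, N ≤ D.deg → D.deg + 1 - (ell D : ℤ) = genus k K := by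
  obtain ⟨A₀, hA₀⟩ := exists_delta_eq_genus hK
  refine ⟨A₀.deg + genus k K, fun A hA => ?_⟩
  apply le_antisymm (delta_le_genus hK A)
  have h1 := delta_le_genus hK (A - A₀)
  rw [deg_sub] at h1
  have hpos : 0 < ell (A - A₀) := by
    have : (0 : ℤ) < ell (A - A₀) := by linarith
    exact_mod_cast this
  obtain ⟨z, hz0, hz⟩ := exists_ne_zero_mem_L hK hpos
  rw [mem_L_iff_div hK hz0] at hz
  have hle : A₀ ≤ A + FunFld.div k z := by
    have : A + FunFld.div k z = A₀ + (A - A₀ + FunFld.div k z) := by abel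
    rw [this]
    exact le_add_of_nonneg_right hz
  have h2 := delta_mono hK hle
  rw [deg_add_div hK, ell_add_div hK A hz0] at h2
  linarith

end FF

end Groth.Agent.Lib.helper10
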