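import Groth.Agent.Lib.Helper10.FunFld13

/-!
Function fields of one variable (helper10), part 14: Weil differentials, their divisors,
multiplication by elements of `K`.
-/

set_option autoImplicit false
set_option linter.unusedSectionVars false
set_option linter.style.haveILetI false

universe u v w

open IntermediateField FunFld

namespace Groth.Agent.Lib.helper10

namespace FF

open RD

variable {k : Type u} {K : Type v} [Field k] [Field K] [Algebra k K]

theorem smul_mem_adele (hK : IsFunctionField k K) (x : K) {a : Place k K → K}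
    (ha : a ∈ adele k K) : x • a ∈ adele k K := by
  rw [mem_adele_iff] at ha ⊢
  apply ((poles_finite hK x).union ha).subset
  intro P hP
  by_contra hn
  rw [Set.mem_union, not_or] at hn
  apply hP
  have h1 : P.1 x ≤ 1 := not_lt.mp hn.1
  have h2 : P.1 (a P) ≤ 1 := not_not.mp hn.2
  rw [Pi.smul_apply, smul_eq_mul, map_mul]
  exact mul_le_one' h1 h2

/-- Multiplication by `x : K` on the repartition space. -/
noncomputable def mulA (hK : IsFunctionField k K) (x : K) : adele k K →ₗ[k] adele k K :=
  (x • (LinearMap.id : (Place k K → K) →ₗ[k] (Place k K → K))).restrict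
    (fun a ha => by simpa using smul_mem_adele hK x ha)

theorem mulA_coe (hK : IsFunctionField k K) (x : K) (a : adele k K) :
    ((mulA hK x a : adele k K) : Place k K → K) = x • (a : Place k K → K) := rfl

theorem mulW_eq (hK : IsFunctionField k K) (x : K) (hx : ∀ a ∈ adele k K, x • a ∈ adele k K)
    (ω : Module.Dual k (adele k K)) : mulW x hx ω = ω ∘ₗ mulA hK x := rfl

theorem mulW_apply (x : K) (hx : ∀ a ∈ adele k K, x • a ∈ adele k K)
    (ω : Module.Dual k (adele k K)) (a : adele k K) :
    mulW x hx ω a = ω ⟨x • (a : Place k K → K), hx a.1 a.2⟩ := rfl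

theorem mulA_one (hK : IsFunctionField k K) : mulA hK (1 : K) = LinearMap.id := by
  apply LinearMap.ext
  intro a
  apply Subtype.ext
  rw [mulA_coe, one_smul]
  rfl

theorem mulA_zero (hK : IsFunctionField k K) : mulA hK (0 : K) = 0 := by
  apply LinearMap.ext
  intro a
  apply Subtype.ext
  rw [mulA_coe, zero_smul]
  rfl

theorem mulA_mul (hK : IsFunctionField k K) (x y : K) :
    mulA hK (x * y) = mulA hK x ∘ₗ mulA hK y := by
  apply LinearMap.ext
  intro a
  apply Subtype.ext
  rw [LinearMap.comp_apply, mulA_coe, mulA_coe, mulA_coe, mul_smul]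

theorem mulA_add (hK : IsFunctionField k K) (x y : K) :
    mulA hK (x + y) = mulA hK x + mulA hK y := by
  apply LinearMap.ext
  intro a
  apply Subtype.ext
  rw [LinearMap.add_apply, Submodule.coe_add, mulA_coe, mulA_coe, mulA_coe, add_smul]

theorem mulA_smul (hK : IsFunctionField k K) (c : k) (x : K) :
    mulA hK (c • x) = c • mulA hK x := by
  apply LinearMap.ext
  intro a
  apply Subtype.ext
  rw [LinearMap.smul_apply, Submodule.coe_smul, mulA_coe, mulA_coe, smul_assoc]

/-- `x ↦ xω` as a `k`-linear map. -/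
noncomputable def mulWL (hK : IsFunctionField k K) (ω : Module.Dual k (adele k K)) :
    K →ₗ[k] Module.Dual k (adele k K) where
  toFun x := ω ∘ₗ mulA hK x
  map_add' x y := by rw [mulA_add, LinearMap.comp_add]
  map_smul' c x := by
    rw [mulA_smul, LinearMap.comp_smul]
    rfl

theorem mulWL_apply (hK : IsFunctionField k K) (ω : Module.Dual k (adele k K)) (x : K) :
    mulWL hK ω x = ω ∘ₗ mulA hK x := rfl

theorem mulWL_mul (hK : IsFunctionField k K) (ω : Module.Dual k (adele k K)) (x y : K) :
    mulWL hK (mulWL hK ω x) y = mulWL hK ω (x * y) := by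
  rw [mulWL_apply, mulWL_apply, mulWL_apply, mulA_mul, LinearMap.comp_assoc]

theorem mulWL_one (hK : IsFunctionField k K) (ω : Module.Dual k (adele k K)) :
    mulWL hK ω 1 = ω := by
  rw [mulWL_apply, mulA_one, LinearMap.comp_id]

theorem mulWL_injective (hK : IsFunctionField k K) {ω : Module.Dual k (adele k K)} (hω : ω ≠ 0) :
    Function.Injective (mulWL hK ω) := by
  rw [← LinearMap.ker_eq_bot, eq_bot_iff]
  intro x hx
  rw [LinearMap.mem_ker] at hx
  rw [Submodule.mem_bot]
  by_contra hx0
  apply hω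
  have := congrArg (fun η => mulWL hK η x⁻¹) hx
  beta_reduce at this
  rw [mulWL_mul, mul_inv_cancel₀ hx0, mulWL_one] at this
  rw [this]
  apply LinearMap.ext
  intro a
  rfl

/-! ### membership in `W(D)` -/

theorem mem_WD_iff (ω : Module.Dual k (adele k K)) (D : Divisor k K) :
    ω ∈ WD D ↔ ∀ a : adele k K, (a : Place k K → K) ∈ AD D ⊔ XK k K → ω a = 0 := by
  unfold WD
  rw [Submodule.mem_dualAnnihilator]
  rfl

theorem WD_antitone {A B : Divisor k K} (hAB : A ≤ B) : WD B ≤ WD A := by
  intro ω hω
  rw [mem_WD_iff] at hω ⊢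
  intro a ha
  exact hω a (sup_le_sup_right (AD_mono hAB) _ ha)

theorem smul_mem_AD {C D : Divisor k K} {x : K} (hxD : x ∈ L D) {b : Place k K → K}
    (hb : b ∈ AD (C - D)) : x • b ∈ AD C := by
  intro P
  rw [Pi.smul_apply, smul_eq_mul, map_mul]
  have h1 := hxD P
  have h2 := hb P
  rw [Finsupp.sub_apply] at h2
  calc P.1 x * P.1 (b P) ≤ WithZero.exp (D P) * WithZero.exp (C P - D P) := mul_le_mul' h1 h2
    _ = WithZero.exp (C P) := by
        rw [← WithZero.exp_add]
        congr 1
        ring

/-- `L(D) · W(C) ⊆ W(C - D)`. -/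
theorem mulW_mem_WD {C D : Divisor k K} {x : K} (hxD : x ∈ L D)
    (hx : ∀ a ∈ adele k K, x • a ∈ adele k K) {ω : Module.Dual k (adele k K)} (hω : ω ∈ WD C) :
    mulW x hx ω ∈ WD (C - D) := by
  rw [mem_WD_iff] at hω ⊢
  intro a ha
  rw [mulW_apply]
  apply hω
  obtain ⟨b, hb, _, ⟨y, rfl⟩, hab⟩ := Submodule.mem_sup.mp ha
  change x • (a : Place k K → K) ∈ _
  rw [← hab, smul_add]
  apply Submodule.add_mem
  · exact Submodule.mem_sup_left (smul_mem_AD hxD hb)
  · apply Submodule.mem_sup_right
    refine ⟨x * y, ?_⟩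
    funext P
    rfl

theorem mulWL_mem_WD (hK : IsFunctionField k K) {C D : Divisor k K} {x : K} (hxD : x ∈ L D)
    {ω : Module.Dual k (adele k K)} (hω : ω ∈ WD C) : mulWL hK ω x ∈ WD (C - D) :=
  mulW_mem_WD hxD (fun _ ha => smul_mem_adele hK x ha) hω

/-- `dim W(D) = g - δ(D)`. -/
theorem finrank_WD (hK : IsFunctionField k K) (D : Divisor k K) :
    FiniteDimensional k (WD D) ∧
      (Module.finrank k (WD D) : ℤ) = (genus k K : ℤ) - delta D := by
  have h1 := relFin_adele hK D
  have : FiniteDimensional k (↥(adele k K) ⧸ ADK D) := h1.1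
  have e : Module.Dual k (↥(adele k K) ⧸ ADK D) ≃ₗ[k] WD D :=
    Submodule.dualQuotEquivDualAnnihilator (ADK D)
  refine ⟨Module.Finite.equiv e, ?_⟩
  rw [← e.finrank_eq, Subspace.dual_finrank_eq]
  exact h1.2

theorem WD_eq_bot (hK : IsFunctionField k K) {D : Divisor k K} (hD : delta D = genus k K) :
    WD D = ⊥ := by
  have h := finrank_WD hK D
  rw [hD, sub_self] at h
  haveI := h.1
  have h0 : Module.finrank k (WD D) = 0 := by exact_mod_cast h.2
  exact Submodule.finrank_eq_zero.mp h0

theorem mem_L_neg_div (hK : IsFunctionField k K) {x : K} (hx : x ≠ 0) :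
    x ∈ L (-FunFld.div k x) := by
  rw [mem_L_iff_div hK hx, neg_add_cancel]

end FF

end Groth.Agent.Lib.helper10
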