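import Groth.Agent.Lib.Helper10.FunFld14

/-!
Function fields of one variable (helper10), part 15: the divisor of a Weil differential.
-/

set_option autoImplicit false
set_option linter.unusedSectionVars false
set_option linter.style.haveILetI false

universe u v w

open IntermediateField FunFld

namespace Groth.Agent.Lib.helper10

namespace FF

open RD

variable {k : Type u} {K : Type v} [Field k] [Field K] [Algebra k K]

theorem exists_deg_bound (hK : IsFunctionField k K) :
    ∃ N : ℤ, ∀ (ω : Module.Dual k (adele k K)), ω ≠ 0 → ∀ A : Divisor k K, ω ∈ WD A → A.deg < N := by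
  obtain ⟨N, hN⟩ := riemann hK
  refine ⟨N, fun ω hω A hA => ?_⟩
  by_contra hle
  rw [not_lt] at hle
  have h1 : delta A = genus k K := hN A hle
  rw [WD_eq_bot hK h1, Submodule.mem_bot] at hA
  exact hω hA

theorem single_nonneg' (Q : Place k K) {n : ℤ} (hn : 0 ≤ n) :
    (0 : Divisor k K) ≤ Finsupp.single Q n := by
  classical
  intro P
  by_cases hP : P = Q
  · subst hP; simpa using hn
  · simp [Ne.symm hP]

/-- A nonzero Weil differential has a divisor. -/
theorem exists_isDivOf (hK : IsFunctionField k K) {ω : Module.Dual k (adele k K)}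
    (hω : IsWeil ω) (h0 : ω ≠ 0) : ∃ C : Divisor k K, IsDivOf ω C := by
  classical
  obtain ⟨N, hN⟩ := exists_deg_bound hK
  obtain ⟨A₀, hA₀⟩ := hω
  obtain ⟨d, ⟨W, hW, rfl⟩, hmax⟩ := Int.exists_greatest_of_bdd
    (P := fun d => ∃ A : Divisor k K, ω ∈ WD A ∧ A.deg = d)
    ⟨N, by
      rintro z ⟨A, hA, rfl⟩
      exact (hN ω h0 A hA).le⟩
    ⟨A₀.deg, A₀, hA₀, rfl⟩
  have hclaim : ∀ A : Divisor k K, ω ∈ WD A → A ≤ W := by
    intro A hA
    by_contra hnle
    have : ∃ Q : Place k K, W Q < A Q := by
      by_contra hno
      push Not at hno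
      exact hnle hno
    obtain ⟨Q, hQ⟩ := this
    have hmem : ω ∈ WD (W + Finsupp.single Q 1) := by
      rw [mem_WD_iff]
      intro a ha
      obtain ⟨b, hb, _, ⟨y, rfl⟩, hab⟩ := Submodule.mem_sup.mp ha
      have hb' : Function.update b Q 0 ∈ AD W := by
        intro P
        by_cases hP : P = Q
        · subst hP
          rw [Function.update_self, Valuation.map_zero]
          exact zero_le
        · rw [Function.update_of_ne hP]
          have := hb P
          rwa [add_single_apply_ne W 1 hP] at this
      have hb'' : Pi.single Q (b Q) ∈ AD A := by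
        intro P
        by_cases hP : P = Q
        · subst hP
          rw [Pi.single_eq_same]
          have := hb P
          rw [add_single_apply_same] at this
          apply le_trans this
          rw [WithZero.exp_le_exp]
          omega
        · rw [Pi.single_eq_of_ne hP, Valuation.map_zero]
          exact zero_le
      have hsplit : b = Function.update b Q 0 + Pi.single Q (b Q) := by
        funext P
        by_cases hP : P = Q
        · subst hP
          simp
        · simp [Function.update_of_ne hP, Pi.single_eq_of_ne hP]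
      set a₁ : adele k K := ⟨Function.update b Q 0, AD_le_adele W hb'⟩ with ha₁
      have h1 : ω a₁ = 0 := (mem_WD_iff ω W).mp hW a₁ (Submodule.mem_sup_left hb')
      have h2 : ω (a - a₁) = 0 := by
        apply (mem_WD_iff ω A).mp hA
        have : ((a - a₁ : adele k K) : Place k K → K) = Pi.single Q (b Q) + diag k K y := by
          rw [Submodule.coe_sub, ← hab]
          change b + diag k K y - Function.update b Q 0 = _
          have h' : b - Function.update b Q 0 = Pi.single Q (b Q) := by
            rw [eq_comm, eq_sub_iff_add_eq, add_comm]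
            exact hsplit.symm
          rw [← h']
          abel
        rw [this]
        exact Submodule.add_mem _ (Submodule.mem_sup_left hb'') (Submodule.mem_sup_right ⟨y, rfl⟩)
      have : a = a₁ + (a - a₁) := by abel
      rw [this, map_add, h1, h2, add_zero]
    have hdeg := hmax _ ⟨W + Finsupp.single Q 1, hmem, rfl⟩
    rw [deg_add, deg_single] at hdeg
    have := Place.deg_pos hK Q
    have : (0 : ℤ) < Q.deg := by exact_mod_cast this
    linarith
  exact ⟨W, fun E => ⟨hclaim E, fun hE => WD_antitone hE hW⟩⟩

theorem isDivOf_unique {ω : Module.Dual k (adele k K)} {C C' : Divisor k K} (h : IsDivOf ω C)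
    (h' : IsDivOf ω C') : C = C' :=
  le_antisymm ((h' C).mp ((h C).mpr le_rfl)) ((h C').mp ((h' C').mpr le_rfl))

theorem IsDivOf.ne_zero' (hK : IsFunctionField k K) {ω : Module.Dual k (adele k K)}
    {C : Divisor k K} (h : IsDivOf ω C) : ω ≠ 0 := by
  rintro rfl
  obtain ⟨P⟩ := exists_place hK
  have h1 := (h (C + Finsupp.single P 1)).mp (Submodule.zero_mem _)
  have h2 := h1 P
  rw [add_single_apply_same] at h2
  omega

theorem IsDivOf.mem_WD {ω : Module.Dual k (adele k K)} {C : Divisor k K} (h : IsDivOf ω C) :
    ω ∈ WD C := (h C).mpr le_rfl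

/-- `(xω) = (x) + (ω)`. -/
theorem isDivOf_mulWL (hK : IsFunctionField k K) {x : K} (hx0 : x ≠ 0)
    {ω : Module.Dual k (adele k K)} {C : Divisor k K} (hω : IsDivOf ω C) :
    IsDivOf (mulWL hK ω x) (C + FunFld.div k x) := by
  intro E
  constructor
  · intro h
    have h1 := mulWL_mem_WD hK (mem_L_neg_div hK (inv_ne_zero hx0)) h
    rw [mulWL_mul, mul_inv_cancel₀ hx0, mulWL_one, div_inv hK, neg_neg] at h1
    have h2 := (hω _).mp h1
    exact sub_le_iff_le_add.mp h2
  · intro h
    have h1 : E - FunFld.div k x ≤ C := by
      rw [sub_le_iff_le_add]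
      exact h
    have h2 := (hω _).mpr h1
    have h3 := mulWL_mem_WD hK (mem_L_neg_div hK hx0) h2
    have : E - FunFld.div k x - -FunFld.div k x = E := by abel
    rwa [this] at h3

end FF

end Groth.Agent.Lib.helper10
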