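import Groth.Agent.Lib.Helper10.FunFld17

/-!
Function fields of one variable (helper10), part 18: the strong approximation theorem.
-/

set_option autoImplicit false
set_option linter.unusedSectionVars false
set_option linter.style.haveILetI false

universe u v w

open IntermediateField FunFld

namespace Groth.Agent.Lib.helper10

namespace FF

open RD

variable {k : Type u} {K : Type v} [Field k] [Field K] [Algebra k K]

/-- Strong approximation, inequality version. -/
theorem strong_approx_le (hK : IsFunctionField k K) (Pinf : Place k K) (n : ℕ)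
    (P : Fin n → Place k K) (hP : Function.Injective P) (hinf : Pinf ∉ Set.range P)
    (x : Fin n → K) (N : Fin n → ℤ) :
    ∃ z : K, (∀ i, (P i).1 (z - x i) ≤ WithZero.exp (-(N i))) ∧
      ∀ Q : Place k K, Q ≠ Pinf → Q ∉ Set.range P → Q.1 z ≤ 1 := by
  classical
  obtain ⟨N₀, hN₀⟩ := riemann hK
  set a : Place k K → K := fun Q => ∑ i, if P i = Q then x i else 0 with ha
  have haP : ∀ j, a (P j) = x j := by
    intro j
    rw [ha]
    simp only
    rw [Finset.sum_eq_single j]
    · rw [if_pos rfl]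
    · intro i _ hij
      rw [if_neg (fun h => hij (hP h))]
    · intro h
      exact absurd (Finset.mem_univ j) h
  have haQ : ∀ Q, Q ∉ Set.range P → a Q = 0 := by
    intro Q hQ
    rw [ha]
    simp only
    apply Finset.sum_eq_zero
    intro i _
    rw [if_neg (fun h => hQ ⟨i, h⟩)]
  have hadele : a ∈ adele k K := by
    rw [mem_adele_iff]
    apply (Set.finite_range P).subset
    intro Q hQ
    by_contra hn
    apply hQ
    rw [haQ Q hn, Valuation.map_zero]
    exact zero_le_one
  set S : Divisor k K := ∑ i, Finsupp.single (P i) (N i) with hS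
  have hSP : ∀ j, S (P j) = N j := by
    intro j
    rw [hS, Finsupp.finsetSum_apply, Finset.sum_eq_single j]
    · rw [Finsupp.single_eq_same]
    · intro i _ hij
      rw [Finsupp.single_apply, if_neg (fun h => hij (hP h))]
    · intro h
      exact absurd (Finset.mem_univ j) h
  have hSQ : ∀ Q, Q ∉ Set.range P → S Q = 0 := by
    intro Q hQ
    rw [hS, Finsupp.finsetSum_apply]
    apply Finset.sum_eq_zero
    intro i _
    rw [Finsupp.single_apply, if_neg (fun h => hQ ⟨i, h⟩)]
  set M : ℕ := (N₀ + S.deg).toNat with hM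
  have hM1 : N₀ + S.deg ≤ M := Int.self_le_toNat _
  set B : Divisor k K := Finsupp.single Pinf (M : ℤ) - S with hB
  have hdP : (1 : ℤ) ≤ Pinf.deg := by exact_mod_cast Place.deg_pos hK Pinf
  have hdegB : N₀ ≤ B.deg := by
    rw [hB, deg_sub, deg_single]
    nlinarith [Int.natCast_nonneg M]
  have hdelta : delta B = genus k K := hN₀ B hdegB
  have htop := AD_sup_XK_eq_adele hK hdelta
  rw [← htop] at hadele
  obtain ⟨b, hb, _, ⟨z, rfl⟩, hbz⟩ := Submodule.mem_sup.mp hadele
  have hBP : ∀ j, B (P j) = -N j := by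
    intro j
    have hne : Pinf ≠ P j := fun h => hinf ⟨j, h.symm⟩
    rw [hB, Finsupp.sub_apply, Finsupp.single_apply, if_neg hne, hSP, zero_sub]
  have hBQ : ∀ Q, Q ≠ Pinf → Q ∉ Set.range P → B Q = 0 := by
    intro Q hQ1 hQ2
    rw [hB, Finsupp.sub_apply, Finsupp.single_apply, if_neg (Ne.symm hQ1), hSQ Q hQ2, sub_zero]
  refine ⟨z, fun i => ?_, fun Q hQ1 hQ2 => ?_⟩
  · have h1 := congrFun hbz (P i)
    rw [Pi.add_apply, diag_apply, haP] at h1
    have h2 : z - x i = -b (P i) := by
      rw [← h1]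
      ring
    rw [h2, Valuation.map_neg, ← hBP i]
    exact hb (P i)
  · have h1 := congrFun hbz Q
    rw [Pi.add_apply, diag_apply, haQ Q hQ2] at h1
    have h2 : z = -b Q := by
      rw [eq_neg_iff_add_eq_zero, add_comm]
      exact h1
    rw [h2, Valuation.map_neg]
    have := hb Q
    rwa [hBQ Q hQ1 hQ2, WithZero.exp_zero] at this

/-- **Strong approximation.** -/
theorem strong_approx (hK : IsFunctionField k K) (Pinf : Place k K) (n : ℕ)
    (P : Fin n → Place k K) (hP : Function.Injective P) (hinf : Pinf ∉ Set.range P)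
    (x : Fin n → K) (m : Fin n → ℤ) :
    ∃ y : K, (∀ i, (P i).1 (y - x i) = WithZero.exp (-(m i))) ∧
      ∀ Q : Place k K, Q ≠ Pinf → Q ∉ Set.range P → Q.1 y ≤ 1 := by
  choose u hu using fun i : Fin n => (P i).2.2 (WithZero.exp (-(m i)))
  obtain ⟨z₁, hz₁, hz₁'⟩ := strong_approx_le hK Pinf n P hP hinf x (fun i => m i + 1)
  obtain ⟨z₂, hz₂, hz₂'⟩ := strong_approx_le hK Pinf n P hP hinf u (fun i => m i + 1)
  have hlt : ∀ i, WithZero.exp (-(m i + 1)) < WithZero.exp (-(m i)) := by
    intro i
    rw [WithZero.exp_lt_exp]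
    omega
  have hz₂v : ∀ i, (P i).1 z₂ = WithZero.exp (-(m i)) := by
    intro i
    have h1 : z₂ = u i + (z₂ - u i) := by ring
    rw [h1, Valuation.map_add_eq_of_lt_left]
    · exact hu i
    · rw [hu i]
      exact lt_of_le_of_lt (hz₂ i) (hlt i)
  refine ⟨z₁ + z₂, fun i => ?_, fun Q hQ1 hQ2 => ?_⟩
  · have h1 : z₁ + z₂ - x i = z₂ + (z₁ - x i) := by ring
    rw [h1, Valuation.map_add_eq_of_lt_left]
    · exact hz₂v i
    · rw [hz₂v i]
      exact lt_of_le_of_lt (hz₁ i) (hlt i)
  · apply le_trans (Valuation.map_add _ _ _)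
    exact max_le (hz₁' Q hQ1 hQ2) (hz₂' Q hQ1 hQ2)

end FF

end Groth.Agent.Lib.helper10
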