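import Groth.Agent.Lib.Helper10.FunFld18

/-!
Function fields of one variable (helper10), part 19: genus one, Weierstrass form.
-/

set_option autoImplicit false
set_option linter.unusedSectionVars false
set_option linter.style.haveILetI false

universe u v w

open IntermediateField FunFld

namespace Groth.Agent.Lib.helper10

namespace FF

open RD

variable {k : Type u} {K : Type v} [Field k] [Field K] [Algebra k K]

/-- Elements with pairwise distinct valuations are linearly independent over the constants. -/
theorem coeff_eq_zero_of_val (P : Place k K) {n : ℕ} (e : Fin n → K) (d : Fin n → ℤ)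
    (hv : ∀ i, P.1 (e i) = WithZero.exp (d i)) (c : Fin n → k)
    (hc : ∀ i j, c i ≠ 0 → c j ≠ 0 → d i = d j → i = j)
    (hsum : ∑ i, algebraMap k K (c i) * e i = 0) : ∀ i, c i = 0 := by
  by_contra hne
  push Not at hne
  obtain ⟨i₀, hi₀⟩ := hne
  have he0 : ∀ i, e i ≠ 0 := by
    intro i h
    have := hv i
    rw [h, Valuation.map_zero] at this
    exact WithZero.exp_ne_zero this.symm
  have hf0 : ∀ i, algebraMap k K (c i) * e i ≠ 0 → c i ≠ 0 := by
    intro i h hci
    apply h
    rw [hci, map_zero, zero_mul]
  have hfv : ∀ i, c i ≠ 0 → P.1 (algebraMap k K (c i) * e i) = WithZero.exp (d i) := by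
    intro i hci
    rw [map_mul, Place.trivOn P (c i) hci, one_mul, hv]
  apply sum_ne_zero_of_injOn P.1 Finset.univ (fun i => algebraMap k K (c i) * e i) _ _ hsum
  · intro i _ j _ hi hj hij
    have hci := hf0 i hi
    have hcj := hf0 j hj
    rw [hfv i hci, hfv j hcj] at hij
    exact hc i j hci hcj (WithZero.exp_injective hij)
  · refine ⟨i₀, Finset.mem_univ _, ?_⟩
    apply mul_ne_zero _ (he0 i₀)
    intro h
    have := Place.trivOn P (c i₀) hi₀
    rw [h, Valuation.map_zero] at this
    exact zero_ne_one this

theorem ell_single_of_genus_one (hK : IsFunctionField k K) (hg : genus k K = 1) {P₀ : Place k K}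
    (hP : P₀.deg = 1) (n : ℕ) (hn : 1 ≤ n) :
    ell (Finsupp.single P₀ (n : ℤ) : Divisor k K) = n := by
  have hdeg : Divisor.deg (Finsupp.single P₀ (n : ℤ) : Divisor k K) = n := by
    rw [deg_single, hP]
    simp
  have h1 := ell_of_deg_ge hK (D := (Finsupp.single P₀ (n : ℤ) : Divisor k K)) (by
    rw [hdeg, hg]
    push_cast
    omega)
  rw [hdeg, hg] at h1
  push_cast at h1
  have : (ell (Finsupp.single P₀ (n : ℤ) : Divisor k K) : ℤ) = n := by linarith
  exact_mod_cast this

/-- In genus one, there are elements with a single pole of any order `n ≥ 2` at a rational place. -/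
theorem exists_mem_L_ord_eq (hK : IsFunctionField k K) (hg : genus k K = 1) {P₀ : Place k K}
    (hP : P₀.deg = 1) (n : ℕ) (hn : 2 ≤ n) :
    ∃ z : K, z ∈ L (Finsupp.single P₀ (n : ℤ) : Divisor k K) ∧ P₀.ord z = -(n : ℤ) := by
  classical
  set A : Divisor k K := Finsupp.single P₀ ((n - 1 : ℕ) : ℤ) with hA
  set B : Divisor k K := Finsupp.single P₀ (n : ℤ) with hB
  have hellA : ell A = n - 1 := ell_single_of_genus_one hK hg hP (n - 1) (by omega)
  have hellB : ell B = n := ell_single_of_genus_one hK hg hP n (by omega)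
  have hex : ∃ z : K, z ∈ L B ∧ z ∉ L A := by
    by_contra hno
    push Not at hno
    have hle : L B ≤ L A := hno
    haveI := finiteDimensional_L hK A
    have := Submodule.finrank_mono hle
    unfold ell at hellA hellB
    omega
  obtain ⟨z, hzB, hzA⟩ := hex
  have hz0 : z ≠ 0 := by
    rintro rfl
    exact hzA (Submodule.zero_mem _)
  refine ⟨z, hzB, ?_⟩
  have : ∃ Q : Place k K, ¬ Q.1 z ≤ WithZero.exp (A Q) := by
    by_contra hno
    push Not at hno
    exact hzA hno
  obtain ⟨Q, hQ⟩ := this
  have hQP : Q = P₀ := by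
    by_contra hne
    apply hQ
    have := hzB Q
    rw [hB, Finsupp.single_apply, if_neg (Ne.symm hne)] at this
    rw [hA, Finsupp.single_apply, if_neg (Ne.symm hne)]
    exact this
  subst hQP
  have h1 := hzB Q
  rw [hB, Finsupp.single_eq_same, Place.val_eq_exp_neg_ord Q hz0, WithZero.exp_le_exp] at h1
  rw [hA, Finsupp.single_eq_same, Place.val_eq_exp_neg_ord Q hz0, WithZero.exp_le_exp] at hQ
  have : ((n - 1 : ℕ) : ℤ) = (n : ℤ) - 1 := by
    rw [Nat.cast_sub (by omega)]
    rfl
  omega

theorem val_of_mem_L_single (hK : IsFunctionField k K) {P₀ : Place k K} {n : ℤ} {z : K}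
    (hz : z ∈ L (Finsupp.single P₀ n : Divisor k K)) (hord : P₀.ord z = -n) (hn : 0 < n) :
    polesDiv k z = Finsupp.single P₀ n := by
  classical
  have hz0 : z ≠ 0 := by
    rintro rfl
    rw [Place.ord_zero] at hord
    omega
  ext Q
  rw [polesDiv_apply hK]
  by_cases hQ : Q = P₀
  · subst hQ
    rw [Finsupp.single_eq_same, hord, neg_neg]
    exact max_eq_left hn.le
  · rw [Finsupp.single_apply, if_neg (Ne.symm hQ)]
    have := hz Q
    rw [Finsupp.single_apply, if_neg (Ne.symm hQ), Place.val_eq_exp_neg_ord Q hz0,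
      WithZero.exp_le_exp] at this
    exact max_eq_right this

/-- **Weierstrass form** of a genus-one function field with a rational place. -/
theorem weierstrass (hK : IsFunctionField k K) (hg : genus k K = 1) (P₀ : Place k K)
    (hP : P₀.deg = 1) :
    ∃ x y : K, x ∈ L (Finsupp.single P₀ 2 : Divisor k K) ∧
      y ∈ L (Finsupp.single P₀ 3 : Divisor k K) ∧
      P₀.ord x = -2 ∧ P₀.ord y = -3 ∧
      IntermediateField.adjoin k ({x, y} : Set K) = ⊤ ∧
      ∃ f g : Polynomial k, f.natDegree ≤ 1 ∧ g.natDegree = 3 ∧
        y ^ 2 + Polynomial.aeval x f * y + Polynomial.aeval x g = 0 := by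
  classical
  obtain ⟨x, hxL, hxo⟩ := exists_mem_L_ord_eq hK hg hP 2 le_rfl
  obtain ⟨y, hyL, hyo⟩ := exists_mem_L_ord_eq hK hg hP 3 (by norm_num)
  push_cast at hxL hxo hyL hyo
  have hx0 : x ≠ 0 := by
    rintro rfl
    rw [Place.ord_zero] at hxo
    omega
  have hy0 : y ≠ 0 := by
    rintro rfl
    rw [Place.ord_zero] at hyo
    omega
  have hvx : P₀.1 x = WithZero.exp 2 := by rw [Place.val_eq_exp_neg_ord P₀ hx0, hxo, neg_neg]
  have hvy : P₀.1 y = WithZero.exp 3 := by rw [Place.val_eq_exp_neg_ord P₀ hy0, hyo, neg_neg]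
  refine ⟨x, y, hxL, hyL, hxo, hyo, ?_, ?_⟩
  · -- `k(x, y) = K`
    have hxtr : Transcendental k x := by
      apply transcendental_of_not_mem_range hK
      rintro ⟨c, rfl⟩
      rw [Place.ord_algebraMap] at hxo
      omega
    have hpx : polesDiv k x = Finsupp.single P₀ 2 := val_of_mem_L_single hK hxL hxo (by norm_num)
    have hfr : Module.finrank k⟮x⟯ K = 2 := by
      have := deg_polesDiv hK hxtr
      rw [hpx, deg_single, hP] at this
      have h2 : ((2 : ℕ) : ℤ) = Module.finrank k⟮x⟯ K := by
        rw [← this]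
        norm_num
      exact_mod_cast h2.symm
    have hynot : y ∉ k⟮x⟯ := by
      intro hy
      rw [← adjoin_inv] at hy
      have hxinv : P₀.1 x⁻¹ < 1 := by
        rw [map_inv₀, hvx, ← WithZero.exp_neg, ← WithZero.exp_zero, WithZero.exp_lt_exp]
        norm_num
      obtain ⟨m, hm⟩ := (Place.trivOn P₀).adjoin_eq_zpow hxinv (inv_ne_zero hx0) y hy hy0
      rw [hvy, map_inv₀, hvx, ← WithZero.exp_neg, ← WithZero.exp_zsmul] at hm
      have := WithZero.exp_injective hm
      simp only [smul_eq_mul] at this
      omega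
    have hprime : Nat.Prime (Module.finrank k⟮x⟯ K) := by
      rw [hfr]
      exact Nat.prime_two
    haveI := IntermediateField.isSimpleOrder_of_finrank_prime k⟮x⟯ K hprime
    have htop : IntermediateField.adjoin k⟮x⟯ ({y} : Set K) = ⊤ := by
      rcases eq_bot_or_eq_top (IntermediateField.adjoin k⟮x⟯ ({y} : Set K)) with h | h
      · exfalso
        apply hynot
        have hy : y ∈ IntermediateField.adjoin k⟮x⟯ ({y} : Set K) :=
          IntermediateField.mem_adjoin_simple_self _ y
        rw [h, IntermediateField.mem_bot] at hy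
        obtain ⟨c, rfl⟩ := hy
        exact c.2
      · exact h
    have h1 := IntermediateField.adjoin_adjoin_left k ({x} : Set K) ({y} : Set K)
    rw [htop, IntermediateField.restrictScalars_top] at h1
    rw [show ({x, y} : Set K) = {x} ∪ {y} from (Set.singleton_union).symm]
    exact h1.symm
  · -- the cubic relation
    set D : Divisor k K := Finsupp.single P₀ ((6 : ℕ) : ℤ) with hD
    have hellD : ell D = 6 := ell_single_of_genus_one hK hg hP 6 (by norm_num)
    let e : Fin 7 → K := ![1, x, y, x ^ 2, x * y, y ^ 2, x ^ 3]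
    let d : Fin 7 → ℤ := ![0, 2, 3, 4, 5, 6, 6]
    have hvd : ∀ i, P₀.1 (e i) = WithZero.exp (d i) := by
      intro i
      fin_cases i
      · simp [e, d]
      · simpa [e, d] using hvx
      · simpa [e, d] using hvy
      · simp only [e, d]
        change P₀.1 (x ^ 2) = WithZero.exp 4
        rw [map_pow, hvx, ← WithZero.exp_nsmul]
        norm_num
      · simp only [e, d]
        change P₀.1 (x * y) = WithZero.exp 5
        rw [map_mul, hvx, hvy, ← WithZero.exp_add]
        norm_num
      · simp only [e, d]
        change P₀.1 (y ^ 2) = WithZero.exp 6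
        rw [map_pow, hvy, ← WithZero.exp_nsmul]
        norm_num
      · simp only [e, d]
        change P₀.1 (x ^ 3) = WithZero.exp 6
        rw [map_pow, hvx, ← WithZero.exp_nsmul]
        norm_num
    have hQx : ∀ Q : Place k K, Q ≠ P₀ → Q.1 x ≤ 1 := by
      intro Q hQ
      have := hxL Q
      rwa [Finsupp.single_apply, if_neg (Ne.symm hQ), WithZero.exp_zero] at this
    have hQy : ∀ Q : Place k K, Q ≠ P₀ → Q.1 y ≤ 1 := by
      intro Q hQ
      have := hyL Q
      rwa [Finsupp.single_apply, if_neg (Ne.symm hQ), WithZero.exp_zero] at this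
    have hmem : ∀ i, e i ∈ L D := by
      intro i Q
      by_cases hQ : Q = P₀
      · subst hQ
        rw [hvd i, hD, Finsupp.single_eq_same, WithZero.exp_le_exp]
        fin_cases i <;> simp [d]
      · rw [hD, Finsupp.single_apply, if_neg (Ne.symm hQ), WithZero.exp_zero]
        have h1 := hQx Q hQ
        have h2 := hQy Q hQ
        fin_cases i
        · simp [e]
        · simpa [e] using h1
        · simpa [e] using h2
        · simp only [e]
          change Q.1 (x ^ 2) ≤ 1
          rw [map_pow]
          exact pow_le_one' h1 _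
        · simp only [e]
          change Q.1 (x * y) ≤ 1
          rw [map_mul]
          exact mul_le_one' h1 h2
        · simp only [e]
          change Q.1 (y ^ 2) ≤ 1
          rw [map_pow]
          exact pow_le_one' h2 _
        · simp only [e]
          change Q.1 (x ^ 3) ≤ 1
          rw [map_pow]
          exact pow_le_one' h1 _
    let w : Fin 7 → L D := fun i => ⟨e i, hmem i⟩
    haveI := finiteDimensional_L hK D
    have hnli : ¬ LinearIndependent k w := by
      intro hli
      have := hli.fintype_card_le_finrank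
      rw [Fintype.card_fin] at this
      unfold ell at hellD
      omega
    rw [Fintype.not_linearIndependent_iff] at hnli
    obtain ⟨a, hsum, hne⟩ := hnli
    have hsumK : ∑ i, algebraMap k K (a i) * e i = 0 := by
      have := congrArg (L D).subtype hsum
      rw [map_sum, map_zero] at this
      rw [← this]
      apply Finset.sum_congr rfl
      intro i _
      rw [map_smul, Algebra.smul_def]
      rfl
    have hdd : ∀ i j : Fin 7, d i = d j → i = j ∨ (i = 5 ∧ j = 6) ∨ (i = 6 ∧ j = 5) := by
      decide
    have ha5 : a 5 ≠ 0 := by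
      intro h5
      obtain ⟨i₁, hi₁⟩ := hne
      apply hi₁
      apply coeff_eq_zero_of_val P₀ e d hvd a _ hsumK
      intro i j hi hj hij
      rcases hdd i j hij with h | ⟨h, _⟩ | ⟨_, h⟩
      · exact h
      · rw [h] at hi
        exact absurd h5 hi
      · rw [h] at hj
        exact absurd h5 hj
    have ha6 : a 6 ≠ 0 := by
      intro h6
      obtain ⟨i₁, hi₁⟩ := hne
      apply hi₁
      apply coeff_eq_zero_of_val P₀ e d hvd a _ hsumK
      intro i j hi hj hij
      rcases hdd i j hij with h | ⟨_, h⟩ | ⟨h, _⟩
      · exact h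
      · rw [h] at hj
        exact absurd h6 hj
      · rw [h] at hi
        exact absurd h6 hi
    refine ⟨Polynomial.C (a 4 / a 5) * Polynomial.X + Polynomial.C (a 2 / a 5),
      Polynomial.C (a 6 / a 5) * Polynomial.X ^ 3 + Polynomial.C (a 3 / a 5) * Polynomial.X ^ 2 +
        Polynomial.C (a 1 / a 5) * Polynomial.X + Polynomial.C (a 0 / a 5),
      Polynomial.natDegree_linear_le, Polynomial.natDegree_cubic (div_ne_zero ha6 ha5), ?_⟩
    have hs : algebraMap k K (a 0) * 1 + algebraMap k K (a 1) * x + algebraMap k K (a 2) * y +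
        algebraMap k K (a 3) * x ^ 2 + algebraMap k K (a 4) * (x * y) +
        algebraMap k K (a 5) * y ^ 2 + algebraMap k K (a 6) * x ^ 3 = 0 := by
      rw [Fin.sum_univ_seven] at hsumK
      exact hsumK
    have ha5K : algebraMap k K (a 5) ≠ 0 := by
      intro h
      have := Place.trivOn P₀ (a 5) ha5
      rw [h, Valuation.map_zero] at this
      exact zero_ne_one this
    simp only [map_add, map_mul, map_pow, Polynomial.aeval_C, Polynomial.aeval_X, map_div₀]
    field_simp
    linear_combination hs

end FF

end Groth.Agent.Lib.helper10
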