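import Groth.Agent.Lib.Helper10.FunFld1

/-!
Function fields of one variable (helper10), part 2: valuations trivial on the constants, their values
on `k(x)`, and the linear independence lemma.
-/

set_option autoImplicit false
set_option linter.unusedSectionVars false

universe u v w

open IntermediateField Polynomial

namespace Groth.Agent.Lib.helper10

namespace FF

variable {k : Type u} {K : Type v} [Field k] [Field K] [Algebra k K]
  {Γ₀ : Type w} [LinearOrderedCommGroupWithZero Γ₀]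

/-- A finite sum whose nonzero terms have pairwise distinct valuations is nonzero (if some term is). -/
theorem sum_ne_zero_of_injOn {ι : Type*} (v : Valuation K Γ₀) (s : Finset ι) (f : ι → K)
    (hinj : ∀ i ∈ s, ∀ j ∈ s, f i ≠ 0 → f j ≠ 0 → v (f i) = v (f j) → i = j)
    (hne : ∃ i ∈ s, f i ≠ 0) : ∑ i ∈ s, f i ≠ 0 := by
  classical
  set s' := s.filter (fun i => f i ≠ 0) with hs'
  have hsum : ∑ i ∈ s, f i = ∑ i ∈ s', f i := by
    rw [hs', Finset.sum_filter]
    apply Finset.sum_congr rfl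
    intro i _
    by_cases h : f i = 0
    · simp [h]
    · simp [h]
  have hs'ne : s'.Nonempty := by
    obtain ⟨i, hi, hfi⟩ := hne
    exact ⟨i, Finset.mem_filter.mpr ⟨hi, hfi⟩⟩
  obtain ⟨i₀, hi₀, hmax⟩ := Finset.exists_max_image s' (fun i => v (f i)) hs'ne
  have hi₀' := Finset.mem_filter.mp hi₀
  rw [hsum, ← Finset.add_sum_erase s' f hi₀]
  have hv0 : v (f i₀) ≠ 0 := (Valuation.ne_zero_iff v).mpr hi₀'.2
  have hlt : v (∑ i ∈ s'.erase i₀, f i) < v (f i₀) := by
    apply Valuation.map_sum_lt v hv0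
    intro i hi
    have hi' := Finset.mem_erase.mp hi
    have hi'' := Finset.mem_filter.mp hi'.2
    apply lt_of_le_of_ne (hmax i hi'.2)
    intro heq
    exact hi'.1 (hinj i hi''.1 i₀ hi₀'.1 hi''.2 hi₀'.2 heq)
  intro h0
  have := Valuation.map_add_eq_of_lt_left v hlt
  rw [h0, Valuation.map_zero] at this
  exact hv0 this.symm

/-- The valuation `v` is trivial on the nonzero constants. -/
def TrivOn (k : Type u) [Field k] [Algebra k K] (v : Valuation K Γ₀) : Prop :=
  ∀ c : k, c ≠ 0 → v (algebraMap k K c) = 1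

theorem TrivOn.le_one {v : Valuation K Γ₀} (hv : TrivOn k v) (c : k) : v (algebraMap k K c) ≤ 1 := by
  by_cases hc : c = 0
  · rw [hc, map_zero, Valuation.map_zero]; exact zero_le_one
  · exact (hv c hc).le

theorem trivOn_of_le_one {v : Valuation K Γ₀} (hv : ∀ c : k, v (algebraMap k K c) ≤ 1) :
    TrivOn k v := by
  intro c hc
  apply le_antisymm (hv c)
  have h1 := hv c⁻¹
  have h2 : v (algebraMap k K c) * v (algebraMap k K c⁻¹) = 1 := by
    rw [← Valuation.map_mul, ← map_mul, mul_inv_cancel₀ hc, map_one, Valuation.map_one]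
  calc (1 : Γ₀) = v (algebraMap k K c) * v (algebraMap k K c⁻¹) := h2.symm
    _ ≤ v (algebraMap k K c) * 1 := by gcongr
    _ = v (algebraMap k K c) := mul_one _

/-- polynomials in an element of the valuation ring have valuation at most one -/
theorem TrivOn.aeval_le_one {v : Valuation K Γ₀} (hv : TrivOn k v) {x : K} (hx : v x ≤ 1) (p : k[X]) :
    v (aeval x p) ≤ 1 := by
  rw [aeval_eq_sum_range]
  apply Valuation.map_sum_le
  intro i _
  rw [Algebra.smul_def, Valuation.map_mul, Valuation.map_pow]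
  exact mul_le_one' (hv.le_one _) (pow_le_one' hx i)

/-- a polynomial with nonzero constant term has valuation one at an element of the maximal ideal -/
theorem TrivOn.aeval_eq_one {v : Valuation K Γ₀} (hv : TrivOn k v) {x : K} (hx : v x < 1) (p : k[X])
    (hp : p.coeff 0 ≠ 0) : v (aeval x p) = 1 := by
  have h1 : p = divX p * X + C (p.coeff 0) := (divX_mul_X_add p).symm
  rw [h1, map_add, map_mul, aeval_X, aeval_C]
  have h2 : v (aeval x (divX p) * x) < v (algebraMap k K (p.coeff 0)) := by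
    rw [hv _ hp, Valuation.map_mul]
    calc v (aeval x (divX p)) * v x ≤ 1 * v x := by gcongr; exact hv.aeval_le_one hx.le _
      _ = v x := one_mul _
      _ < 1 := hx
  rw [Valuation.map_add_eq_of_lt_right v h2, hv _ hp]

/-- the value of a nonzero polynomial at an element of the maximal ideal is a power of `v x` -/
theorem TrivOn.aeval_eq_pow {v : Valuation K Γ₀} (hv : TrivOn k v) {x : K} (hx : v x < 1) (p : k[X])
    (hp : p ≠ 0) : ∃ m : ℕ, v (aeval x p) = v x ^ m := by
  obtain ⟨q, hq, hnd⟩ := exists_eq_pow_rootMultiplicity_mul_and_not_dvd p hp 0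
  refine ⟨p.rootMultiplicity 0, ?_⟩
  have hq0 : q.coeff 0 ≠ 0 := by
    intro h
    apply hnd
    rw [C_0, sub_zero]
    exact X_dvd_iff.mpr h
  conv_lhs => rw [hq]
  rw [C_0, sub_zero, map_mul, map_pow, aeval_X, Valuation.map_mul, Valuation.map_pow,
    hv.aeval_eq_one hx q hq0, mul_one]

/-- the value group of `k(x)` is generated by `v x` -/
theorem TrivOn.adjoin_eq_zpow {v : Valuation K Γ₀} (hv : TrivOn k v) {x : K} (hx : v x < 1)
    (hx0 : x ≠ 0) (c : K) (hc : c ∈ k⟮x⟯) (hc0 : c ≠ 0) : ∃ m : ℤ, v c = v x ^ m := by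
  obtain ⟨r, s, rfl⟩ := (mem_adjoin_simple_iff k c).mp hc
  have hr : r ≠ 0 := by
    rintro rfl
    simp at hc0
  have hs : s ≠ 0 := by
    rintro rfl
    simp at hc0
  obtain ⟨a, ha⟩ := hv.aeval_eq_pow hx r hr
  obtain ⟨b, hb⟩ := hv.aeval_eq_pow hx s hs
  refine ⟨(a : ℤ) - (b : ℤ), ?_⟩
  have hvx0 : v x ≠ 0 := (Valuation.ne_zero_iff v).mpr hx0
  rw [map_div₀, ha, hb, zpow_sub₀ hvx0, zpow_natCast, zpow_natCast]

omit [Field K] [Algebra k K] [Field k] in
theorem eq_of_pow_mul_eq {γ a b : Γ₀} (hγ0 : γ ≠ 0) (hγ1 : γ < 1) (ha1 : a < 1) (hb : γ ≤ b) (n : ℕ)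
    (h : γ ^ n * a = b) : a = b := by
  rcases Nat.eq_zero_or_pos n with hn | hn
  · rw [hn, pow_zero, one_mul] at h; exact h
  · exfalso
    obtain ⟨n', rfl⟩ := Nat.exists_eq_succ_of_ne_zero (Nat.pos_iff_ne_zero.mp hn)
    have h1 : γ ^ (n' + 1) ≤ γ := by
      rw [pow_succ]
      calc γ ^ n' * γ ≤ 1 * γ := by gcongr; exact pow_le_one' hγ1.le n'
        _ = γ := one_mul _
    have h2 : b < γ := by
      rw [← h]
      calc γ ^ (n' + 1) * a ≤ γ * a := by gcongr
        _ < γ * 1 := by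
          apply mul_lt_mul_of_pos_left ha1
          exact zero_lt_iff.mpr hγ0
        _ = γ := mul_one _
    exact absurd hb (not_le.mpr h2)

omit [Field K] [Algebra k K] [Field k] in
theorem eq_of_zpow_mul_eq {γ a b : Γ₀} (hγ0 : γ ≠ 0) (hγ1 : γ < 1) (ha : γ ≤ a) (ha1 : a < 1)
    (hb : γ ≤ b) (hb1 : b < 1) (m m' : ℤ) (h : γ ^ m * a = γ ^ m' * b) : a = b := by
  rcases le_total m' m with hle | hle
  · obtain ⟨n, hn⟩ := Int.le.dest hle
    rw [← hn, zpow_add₀ hγ0, mul_assoc, zpow_natCast] at h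
    have h' := mul_left_cancel₀ (zpow_ne_zero m' hγ0) h
    exact eq_of_pow_mul_eq hγ0 hγ1 ha1 hb n h'
  · obtain ⟨n, hn⟩ := Int.le.dest hle
    rw [← hn, zpow_add₀ hγ0, mul_assoc, zpow_natCast] at h
    have h' := mul_left_cancel₀ (zpow_ne_zero m hγ0) h
    exact (eq_of_pow_mul_eq hγ0 hγ1 hb1 ha n h'.symm).symm

/-- Elements of the maximal ideal with pairwise distinct valuations, all at least `v x`, are linearly
independent over `k(x)`. -/
theorem linearIndependent_of_val {v : Valuation K Γ₀} (hv : TrivOn k v) {x : K} (hx : v x < 1)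
    (hx0 : x ≠ 0) {ι : Type*} (z : ι → K) (hz1 : ∀ i, v x ≤ v (z i)) (hz2 : ∀ i, v (z i) < 1)
    (hinj : Function.Injective (fun i => v (z i))) : LinearIndependent k⟮x⟯ z := by
  classical
  have hvx0 : v x ≠ 0 := (Valuation.ne_zero_iff v).mpr hx0
  have hz0 : ∀ i, z i ≠ 0 := by
    intro i h
    have := hz1 i
    rw [h, Valuation.map_zero] at this
    exact hvx0 (le_antisymm this zero_le)
  rw [linearIndependent_iff']
  intro s g hsum i hi
  by_contra hgi
  have hne : ∃ i ∈ s, g i • z i ≠ 0 := by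
    refine ⟨i, hi, ?_⟩
    rw [IntermediateField.smul_def, smul_eq_mul]
    exact mul_ne_zero (by simpa using hgi) (hz0 i)
  apply sum_ne_zero_of_injOn v s (fun i => g i • z i) _ hne hsum
  intro i _ j _ hfi hfj heq
  have hgi0 : (g i : K) ≠ 0 := by
    intro h
    apply hfi
    rw [IntermediateField.smul_def, h, zero_smul]
  have hgj0 : (g j : K) ≠ 0 := by
    intro h
    apply hfj
    rw [IntermediateField.smul_def, h, zero_smul]
  obtain ⟨m, hm⟩ := hv.adjoin_eq_zpow hx hx0 (g i : K) (g i).2 hgi0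
  obtain ⟨m', hm'⟩ := hv.adjoin_eq_zpow hx hx0 (g j : K) (g j).2 hgj0
  simp only [IntermediateField.smul_def, smul_eq_mul, Valuation.map_mul, hm, hm'] at heq
  exact hinj (eq_of_zpow_mul_eq hvx0 hx (hz1 i) (hz2 i) (hz1 j) (hz2 j) m m' heq)

/-- A bound for the number of values in `[v x, 1)`. -/
theorem card_le_finrank_of_val {v : Valuation K Γ₀} (hv : TrivOn k v)
    {x : K} [FiniteDimensional k⟮x⟯ K] (hx : v x < 1) (hx0 : x ≠ 0) (T : Finset Γ₀)
    (hT : ∀ γ ∈ T, ∃ z : K, v z = γ ∧ v x ≤ γ ∧ γ < 1) : T.card ≤ Module.finrank k⟮x⟯ K := by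
  classical
  choose! z hz using hT
  have hli : LinearIndependent k⟮x⟯ (fun γ : T => z γ.1) := by
    apply linearIndependent_of_val hv hx hx0
    · intro γ; rw [(hz γ.1 γ.2).1]; exact (hz γ.1 γ.2).2.1
    · intro γ; rw [(hz γ.1 γ.2).1]; exact (hz γ.1 γ.2).2.2
    · intro γ γ' h
      simp only at h
      rw [(hz γ.1 γ.2).1, (hz γ'.1 γ'.2).1] at h
      exact Subtype.ext h
  have := hli.fintype_card_le_finrank
  simpa using this

end FF

end Groth.Agent.Lib.helper10
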