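import Groth.Agent.Lib.Helper10.FunFld19

/-!
Function fields of one variable (helper10), part 20: linear series `V ⊆ L(D)`, vanishing
dimensions `dim V(-nP)`, two-point bounds.
-/

set_option autoImplicit false
set_option linter.unusedSectionVars false
set_option linter.style.haveILetI false

universe u v w

open IntermediateField FunFld

namespace Groth.Agent.Lib.helper10

namespace FF

open RD

variable {k : Type u} {K : Type v} [Field k] [Field K] [Algebra k K]

/-- Over an algebraically closed constant field every place has degree one. -/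
theorem Place.deg_eq_one (hK : IsFunctionField k K) [IsAlgClosed k] (P : Place k K) : P.deg = 1 := by
  have hfin := Place.finiteDimensional_residueField hK P
  have hpos := Place.deg_pos hK P
  apply le_antisymm _ hpos
  unfold Place.deg
  apply finrank_le_one (1 : IsLocalRing.ResidueField P.O)
  intro w
  letI alg : Algebra k (IsLocalRing.ResidueField P.O) := IsLocalRing.ResidueField.algebra P.O
  haveI hfin' : Module.Finite k (IsLocalRing.ResidueField P.O) := hfin
  haveI : Algebra.IsIntegral k (IsLocalRing.ResidueField P.O) := Algebra.IsIntegral.of_finite _ _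
  obtain ⟨c, hc⟩ := (IsAlgClosed.algebraMap_bijective_of_isIntegral
    (k := k) (K := IsLocalRing.ResidueField P.O)).2 w
  refine ⟨c, ?_⟩
  rw [← hc]
  exact (Algebra.algebraMap_eq_smul_one c).symm

/-- `dim V(-nP)`. -/
noncomputable def aDim (V : Submodule k K) (D : Divisor k K) (P : Place k K) (n : ℤ) : ℕ :=
  Module.finrank k ↥(V ⊓ L (D - Finsupp.single P n))

/-- `∑_{n=1}^{d} dim V(-nP)`. -/
noncomputable def SS (V : Submodule k K) (D : Divisor k K) (P : Place k K) (d : ℕ) : ℕ :=
  ∑ j ∈ Finset.range d, aDim V D P ((j : ℤ) + 1)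

theorem L_inf_L_le {D : Divisor k K} {P Q : Place k K} (hPQ : P ≠ Q) (n m : ℤ) :
    L (D - Finsupp.single P n) ⊓ L (D - Finsupp.single Q m) ≤
      L (D - Finsupp.single P n - Finsupp.single Q m) := by
  classical
  rintro x ⟨h1, h2⟩ R
  by_cases hR : R = Q
  · subst hR
    have := h2 R
    rw [Finsupp.sub_apply, Finsupp.single_eq_same] at this
    rw [Finsupp.sub_apply, Finsupp.sub_apply, Finsupp.single_eq_same, Finsupp.single_apply,
      if_neg hPQ, sub_zero]
    exact this
  · have := h1 R
    rw [Finsupp.sub_apply] at this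
    rw [Finsupp.sub_apply, Finsupp.sub_apply, Finsupp.single_apply (a := Q), if_neg (Ne.symm hR),
      sub_zero]
    exact this

/-- The two-point bound. -/
theorem two_point (hK : IsFunctionField k K) {V : Submodule k K} {D : Divisor k K} {r : ℕ}
    (hVr : Module.finrank k ↥V = r + 1) {P Q : Place k K} (hPQ : P ≠ Q) (hP : P.deg = 1)
    (hQ : Q.deg = 1) {n m : ℤ} (hnm : D.deg < n + m) :
    aDim V D P n + aDim V D Q m ≤ r + 1 := by
  unfold aDim
  haveI : FiniteDimensional k V := Module.finite_of_finrank_pos (by omega)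
  set V₁ := V ⊓ L (D - Finsupp.single P n) with hV₁
  set V₂ := V ⊓ L (D - Finsupp.single Q m) with hV₂
  haveI : FiniteDimensional k V₁ := Submodule.finiteDimensional_of_le inf_le_left
  haveI : FiniteDimensional k V₂ := Submodule.finiteDimensional_of_le inf_le_left
  have h1 := Submodule.finrank_sup_add_finrank_inf_eq V₁ V₂
  have h2 : Module.finrank k ↥(V₁ ⊔ V₂) ≤ r + 1 := by
    rw [← hVr]
    exact Submodule.finrank_mono (sup_le inf_le_left inf_le_left)
  have h3 : V₁ ⊓ V₂ = ⊥ := by
    rw [eq_bot_iff]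
    have hle : V₁ ⊓ V₂ ≤ L (D - Finsupp.single P n - Finsupp.single Q m) :=
      le_trans (inf_le_inf inf_le_right inf_le_right) (L_inf_L_le hPQ n m)
    have hdeg : (D - Finsupp.single P n - Finsupp.single Q m).deg < 0 := by
      rw [deg_sub, deg_sub, deg_single, deg_single, hP, hQ]
      push_cast
      linarith
    rwa [L_eq_bot_of_deg_neg hK hdeg] at hle
  rw [h3, finrank_bot] at h1
  omega

/-- The two-point bound on weights. -/
theorem SS_add_SS_le (hK : IsFunctionField k K) {V : Submodule k K} {D : Divisor k K} {r d : ℕ}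
    (hD : D.deg = d) (hVr : Module.finrank k ↥V = r + 1) {P Q : Place k K} (hPQ : P ≠ Q)
    (hP : P.deg = 1) (hQ : Q.deg = 1) : SS V D P d + SS V D Q d ≤ (r + 1) * d := by
  unfold SS
  rw [← Finset.sum_range_reflect (fun j => aDim V D Q ((j : ℤ) + 1)) d, ← Finset.sum_add_distrib]
  calc ∑ j ∈ Finset.range d, (aDim V D P ((j : ℤ) + 1) + aDim V D Q (((d - 1 - j : ℕ) : ℤ) + 1))
      ≤ ∑ j ∈ Finset.range d, (r + 1) := by
        apply Finset.sum_le_sum
        intro j hj
        rw [Finset.mem_range] at hj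
        apply two_point hK hVr hPQ hP hQ
        rw [hD]
        have : ((d - 1 - j : ℕ) : ℤ) = (d : ℤ) - 1 - j := by
          rw [Nat.cast_sub (by omega), Nat.cast_sub (by omega)]
          rfl
        rw [this]
        linarith
    _ = (r + 1) * d := by
        rw [Finset.sum_const, Finset.card_range, smul_eq_mul, mul_comm]

/-- Compatible aspects have complementary weights. -/
theorem SS_add_SS_eq_of_compat {K' : Type w} [Field K'] [Algebra k K'] {V : Submodule k K}
    {D : Divisor k K} {V' : Submodule k K'} {D' : Divisor k K'} {B : Place k K} {A : Place k K'}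
    {r d : ℕ}
    (hcomp : ∀ m : ℕ, m ≤ d + 1 → aDim V D B (m : ℤ) + aDim V' D' A ((d : ℤ) + 1 - m) = r + 1) :
    SS V D B d + SS V' D' A d = (r + 1) * d := by
  unfold SS
  rw [← Finset.sum_range_reflect (fun j => aDim V' D' A ((j : ℤ) + 1)) d, ← Finset.sum_add_distrib]
  calc ∑ j ∈ Finset.range d, (aDim V D B ((j : ℤ) + 1) + aDim V' D' A (((d - 1 - j : ℕ) : ℤ) + 1))
      = ∑ j ∈ Finset.range d, (r + 1) := by
        apply Finset.sum_congr rfl
        intro j hj
        rw [Finset.mem_range] at hj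
        have h := hcomp (j + 1) (by omega)
        have e1 : (((j + 1 : ℕ)) : ℤ) = (j : ℤ) + 1 := by push_cast; rfl
        have e2 : (d : ℤ) + 1 - ((j + 1 : ℕ) : ℤ) = ((d - 1 - j : ℕ) : ℤ) + 1 := by
          rw [Nat.cast_sub (by omega), Nat.cast_sub (by omega)]
          push_cast
          ring
        rw [e1] at h
        rw [← e2]
        rw [e1]
        exact h
    _ = (r + 1) * d := by
        rw [Finset.sum_const, Finset.card_range, smul_eq_mul, mul_comm]

theorem aDim_eq_zero_of_deg_lt (hK : IsFunctionField k K) (V : Submodule k K) {D : Divisor k K}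
    {P : Place k K} (hP : P.deg = 1) {n : ℤ} (h : D.deg < n) : aDim V D P n = 0 := by
  unfold aDim
  have hdeg : (D - Finsupp.single P n).deg < 0 := by
    rw [deg_sub, deg_single, hP]
    push_cast
    linarith
  rw [L_eq_bot_of_deg_neg hK hdeg, inf_bot_eq]
  exact finrank_bot k K

/-- S18173 -/
theorem aDim_le_of_compat (hK : IsFunctionField k K) [IsAlgClosed k] {K' : Type w} [Field K']
    [Algebra k K'] {V : Submodule k K} {D : Divisor k K} {V' : Submodule k K'} {D' : Divisor k K'}
    {P P' : Place k K} {Q : Place k K'} {r d : ℕ} (hD : D.deg = d)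
    (hVr : Module.finrank k ↥V = r + 1)
    (hcomp : ∀ m : ℕ, m ≤ d + 1 → aDim V D P (m : ℤ) + aDim V' D' Q ((d : ℤ) + 1 - m) = r + 1)
    (hP' : P' ≠ P) (n : ℕ) : aDim V D P' (n : ℤ) ≤ aDim V' D' Q (n : ℤ) := by
  by_cases hn : n ≤ d + 1
  · have h1 := two_point hK hVr hP' (Place.deg_eq_one hK P') (Place.deg_eq_one hK P)
      (n := (n : ℤ)) (m := ((d + 1 - n : ℕ) : ℤ)) (by
        rw [hD, Nat.cast_sub hn]
        push_cast
        linarith)
    have h2 := hcomp (d + 1 - n) (by omega)
    have e : (d : ℤ) + 1 - ((d + 1 - n : ℕ) : ℤ) = n := by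
      rw [Nat.cast_sub hn]
      push_cast
      ring
    rw [e] at h2
    omega
  · rw [aDim_eq_zero_of_deg_lt hK V (Place.deg_eq_one hK P') (by
      rw [hD]
      have : d + 1 < n := by omega
      exact_mod_cast (by omega : d < n))]
    exact Nat.zero_le _

/-- S18184: weights along a chain. -/
theorem chain_weight_ge [IsAlgClosed k] (n : ℕ) (U : Fin (n + 1) → Type w) [∀ l, Field (U l)]
    [∀ l, Algebra k (U l)] (hU : ∀ l, IsFunctionField k (U l)) (d r : ℕ)
    (D : ∀ l, Divisor k (U l)) (hD : ∀ l, (D l).deg = d) (V : ∀ l, Submodule k (U l))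
    (hVr : ∀ l, Module.finrank k ↥(V l) = r + 1) (A B : ∀ l, Place k (U l))
    (hAB : ∀ l : Fin (n + 1), 0 < (l : ℕ) → (l : ℕ) < n → A l ≠ B l)
    (hcomp : ∀ (l : Fin n) (m : ℕ), m ≤ d + 1 →
      aDim (V l.castSucc) (D l.castSucc) (B l.castSucc) (m : ℤ) +
        aDim (V l.succ) (D l.succ) (A l.succ) ((d : ℤ) + 1 - m) = r + 1)
    (c : ℕ) (hc : SS (V 0) (D 0) (B 0) d + c + r * (r + 1) ≤ (r + 1) * d + r * (r + 1) / 2)
    (l : Fin (n + 1)) (hl : 0 < (l : ℕ)) : c + r * (r + 1) / 2 ≤ SS (V l) (D l) (A l) d := by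
  induction l using Fin.induction with
  | zero => exact absurd hl (lt_irrefl 0)
  | succ j ih =>
    have hsum := SS_add_SS_eq_of_compat (hcomp j)
    by_cases hj : (j : ℕ) = 0
    · have h0 : j.castSucc = 0 := Fin.ext (by simpa using hj)
      rw [h0] at hsum
      omega
    · have hpos : 0 < ((j.castSucc : Fin (n + 1)) : ℕ) := by
        simpa using Nat.pos_of_ne_zero hj
      have hlt : ((j.castSucc : Fin (n + 1)) : ℕ) < n := by simp
      have h1 := ih hpos
      have h2 := SS_add_SS_le (hU j.castSucc) (hD j.castSucc) (hVr j.castSucc)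
        (hAB j.castSucc hpos hlt) (Place.deg_eq_one (hU _) _) (Place.deg_eq_one (hU _) _)
      omega

/-- S18186 -/
theorem chain_weight_le_last [IsAlgClosed k] (n : ℕ) (hn : 0 < n) (U : Fin (n + 1) → Type w)
    [∀ l, Field (U l)]
    [∀ l, Algebra k (U l)] (hU : ∀ l, IsFunctionField k (U l)) (d r : ℕ)
    (D : ∀ l, Divisor k (U l)) (hD : ∀ l, (D l).deg = d) (V : ∀ l, Submodule k (U l))
    (hVr : ∀ l, Module.finrank k ↥(V l) = r + 1) (A B : ∀ l, Place k (U l))
    (hAB : ∀ l : Fin (n + 1), 0 < (l : ℕ) → (l : ℕ) < n → A l ≠ B l)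
    (hcomp : ∀ (l : Fin n) (m : ℕ), m ≤ d + 1 →
      aDim (V l.castSucc) (D l.castSucc) (B l.castSucc) (m : ℤ) +
        aDim (V l.succ) (D l.succ) (A l.succ) ((d : ℤ) + 1 - m) = r + 1)
    (c : ℕ) (hc : SS (V 0) (D 0) (B 0) d + c + r * (r + 1) ≤ (r + 1) * d + r * (r + 1) / 2)
    (Q : Place k (U (Fin.last n))) (hQ : Q ≠ A (Fin.last n)) :
    SS (V (Fin.last n)) (D (Fin.last n)) Q d + c + r * (r + 1) ≤
      (r + 1) * d + r * (r + 1) / 2 := by
  have h1 := chain_weight_ge n U hU d r D hD V hVr A B hAB hcomp c hc (Fin.last n)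
    (by simpa using hn)
  have h2 := SS_add_SS_le (hU (Fin.last n)) (hD _) (hVr _) hQ (Place.deg_eq_one (hU _) _)
    (Place.deg_eq_one (hU _) _)
  have heven : 2 * (r * (r + 1) / 2) = r * (r + 1) :=
    Nat.mul_div_cancel' (even_iff_two_dvd.mp (Nat.even_mul_succ_self r))
  omega

end FF

end Groth.Agent.Lib.helper10
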