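import Groth.Agent.Lib.Helper10.FunFld20

/-!
Function fields of one variable (helper10), part 21: more on linear series: steps of the
vanishing dimensions, cusps forced by tails of positive genus, torsion from large weights.
-/

set_option autoImplicit false
set_option linter.unusedSectionVars false
set_option linter.style.haveILetI false

universe u v w

open IntermediateField FunFld

namespace Groth.Agent.Lib.helper10

namespace FF

open RD

variable {k : Type u} {K : Type v} [Field k] [Field K] [Algebra k K]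

theorem aDim_zero {V : Submodule k K} {D : Divisor k K} (hV : V ≤ L D) (P : Place k K) :
    aDim V D P 0 = Module.finrank k ↥V := by
  unfold aDim
  rw [Finsupp.single_zero, sub_zero, inf_eq_left.mpr hV]

theorem aDim_anti (hK : IsFunctionField k K) (V : Submodule k K) (D : Divisor k K) (P : Place k K)
    {m n : ℤ} (h : m ≤ n) : aDim V D P n ≤ aDim V D P m := by
  classical
  unfold aDim
  haveI : FiniteDimensional k ↥(V ⊓ L (D - Finsupp.single P m)) :=
    haveI := finiteDimensional_L hK (D - Finsupp.single P m)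
    Submodule.finiteDimensional_of_le inf_le_right
  apply Submodule.finrank_mono
  apply inf_le_inf_left
  apply L_mono
  apply sub_le_sub_left
  intro Q
  by_cases hQ : Q = P
  · subst hQ
    simpa using h
  · simp [Ne.symm hQ]

/-- The vanishing dimensions drop by at most `deg P` at each step. -/
theorem aDim_step (hK : IsFunctionField k K) (V : Submodule k K) (D : Divisor k K) (P : Place k K)
    (m : ℤ) : aDim V D P m ≤ aDim V D P (m + 1) + P.deg := by
  unfold aDim
  set A' : Divisor k K := D - Finsupp.single P (m + 1) with hA'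
  have hA'1 : D - Finsupp.single P m = A' + Finsupp.single P 1 := by
    rw [hA', Finsupp.single_add]
    abel
  rw [hA'1]
  have hstep := relFin_L_step hK A' P
  have h1 := relFin_of_injective (LinearMap.id : K →ₗ[k] K) (U := V ⊓ L A')
    (W := V ⊓ L (A' + Finsupp.single P 1)) (U' := L A') (W' := L (A' + Finsupp.single P 1))
    (fun x hx => hx.2) (fun x _ hx => hx.2) (fun x hx hx' => ⟨hx.1, hx'⟩) hstep.1
  haveI : FiniteDimensional k ↥(V ⊓ L A') :=
    haveI := finiteDimensional_L hK A'
    Submodule.finiteDimensional_of_le inf_le_right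
  have hle : V ⊓ L A' ≤ V ⊓ L (A' + Finsupp.single P 1) :=
    inf_le_inf_left _ (L_mono (le_add_of_nonneg_right (single_nonneg' P zero_le_one)))
  have h2 := finite_of_relFin hle inferInstance h1.1
  rw [h2.2]
  have h3 : (relDim (V ⊓ L A') (V ⊓ L (A' + Finsupp.single P 1)) : ℤ) ≤ P.deg :=
    le_trans (by exact_mod_cast h1.2) hstep.2
  have h4 : relDim (V ⊓ L A') (V ⊓ L (A' + Finsupp.single P 1)) ≤ P.deg := by exact_mod_cast h3
  omega

/-- `r ≤ d` for a `g^r_d`. -/
theorem r_le_d (hK : IsFunctionField k K) {V : Submodule k K} {D : Divisor k K} {r d : ℕ}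
    (hD : D.deg = d) (hV : V ≤ L D) (hVr : Module.finrank k ↥V = r + 1) : r ≤ d := by
  haveI := finiteDimensional_L hK D
  have h1 : r + 1 ≤ ell D := by
    rw [← hVr]
    exact Submodule.finrank_mono hV
  obtain ⟨z, hz0, hz⟩ := exists_ne_zero_mem_L hK (by omega : 0 < ell D)
  rw [mem_L_iff_div hK hz0] at hz
  have h2 := ell_le_deg_add_one hK hz
  rw [ell_add_div hK D hz0, deg_add_div hK, hD] at h2
  have : (r : ℤ) + 1 ≤ ell D := by exact_mod_cast h1
  have : (r : ℤ) ≤ d := by linarith
  exact_mod_cast this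

/-- A place of degree one with `ℓ(P) ≥ 2` forces a rational function field. -/
theorem adjoin_eq_top_of_ell_single (hK : IsFunctionField k K) {P : Place k K} (hP : P.deg = 1)
    (h2 : 2 ≤ ell (Finsupp.single P 1 : Divisor k K)) : ∃ x : K, k⟮x⟯ = ⊤ := by
  have hdeg : Divisor.deg (Finsupp.single P 1 : Divisor k K) = 1 := by
    rw [deg_single, hP]
    rfl
  have hex : ∃ x : K, x ∈ L (Finsupp.single P 1 : Divisor k K) ∧
      x ∉ Set.range (algebraMap k K) := by
    by_contra hno
    push Not at hno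
    have hle : L (Finsupp.single P 1 : Divisor k K) ≤ L (0 : Divisor k K) := by
      intro x hx
      obtain ⟨c, rfl⟩ := hno x hx
      rw [L_zero hK, Submodule.one_eq_range]
      exact ⟨c, rfl⟩
    haveI := (finite_L_zero hK).1
    have := Submodule.finrank_mono hle
    rw [(finite_L_zero hK).2] at this
    unfold ell at h2
    omega
  obtain ⟨x, hxL, hxk⟩ := hex
  have hx := transcendental_of_not_mem_range hK hxk
  have hx0 : x ≠ 0 := by
    rintro rfl
    exact hxk ⟨0, map_zero _⟩
  refine ⟨x, adjoin_eq_top_of_deg_polesDiv hK hx ?_⟩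
  have hle : polesDiv k x ≤ Finsupp.single P 1 := by
    intro Q
    rw [polesDiv_apply hK]
    have h3 := hxL Q
    rw [Place.val_eq_exp_neg_ord Q hx0, WithZero.exp_le_exp] at h3
    have h4 : (0 : ℤ) ≤ (Finsupp.single P 1 : Divisor k K) Q := single_nonneg' P zero_le_one Q
    exact max_le h3 h4
  have h5 := deg_mono hle
  rw [hdeg] at h5
  have h6 : (1 : ℤ) ≤ (polesDiv k x).deg := by
    rw [deg_polesDiv hK hx]
    haveI : FiniteDimensional k⟮x⟯ K := finiteDimensional_adjoin hK hx
    have : 0 < Module.finrank k⟮x⟯ K := Module.finrank_pos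
    exact_mod_cast this
  omega

/-- In positive genus, divisors of degree one have `ℓ ≤ 1`. -/
theorem ell_le_one_of_deg_one (hK : IsFunctionField k K) [IsAlgClosed k] (hg : 0 < genus k K)
    {E : Divisor k K} (hE : E.deg = 1) : ell E ≤ 1 := by
  by_contra hgt
  rw [not_le] at hgt
  obtain ⟨z, hz0, hz⟩ := exists_ne_zero_mem_L hK (by omega : 0 < ell E)
  rw [mem_L_iff_div hK hz0] at hz
  have hdeg : (E + FunFld.div k z).deg = 1 := by rw [deg_add_div hK, hE]
  obtain ⟨P, hP, hPE⟩ := eq_single_of_deg_eq_one hK hz hdeg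
  have h2 : 2 ≤ ell (Finsupp.single P 1 : Divisor k K) := by
    rw [← hPE, ell_add_div hK E hz0]
    omega
  obtain ⟨x, hx⟩ := adjoin_eq_top_of_ell_single hK hP h2
  have := genus_eq_zero_of_adjoin_eq_top hK hx
  omega

theorem aDim_le_ell (hK : IsFunctionField k K) (V : Submodule k K) (D : Divisor k K)
    (P : Place k K) (n : ℤ) : aDim V D P n ≤ ell (D - Finsupp.single P n) := by
  unfold aDim ell
  haveI := finiteDimensional_L hK (D - Finsupp.single P n)
  exact Submodule.finrank_mono inf_le_right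

/-- S18174: a chain ending in a tail of positive genus forces a cusp. -/
theorem cusp_of_tail [IsAlgClosed k] (hKY : IsFunctionField k K) (n : ℕ) (hn : 0 < n)
    (W : Fin n → Type w) [∀ j, Field (W j)] [∀ j, Algebra k (W j)]
    (hW : ∀ j, IsFunctionField k (W j))
    (hpos : ∀ j : Fin n, (j : ℕ) + 1 = n → 0 < genus k (W j))
    (d r : ℕ) (DY : Divisor k K) (hDY : DY.deg = d)
    (VY : Submodule k K) (hVY : VY ≤ L DY) (hVYr : Module.finrank k ↥VY = r + 1)
    (D : ∀ j, Divisor k (W j)) (hD : ∀ j, (D j).deg = d)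
    (V : ∀ j, Submodule k (W j))
    (hVr : ∀ j, Module.finrank k ↥(V j) = r + 1)
    (P : Place k K) (A B : ∀ j, Place k (W j))
    (hAB : ∀ j : Fin n, (j : ℕ) + 1 < n → A j ≠ B j)
    (hcomp0 : ∀ m : ℕ, m ≤ d + 1 →
      aDim VY DY P (m : ℤ) + aDim (V ⟨0, hn⟩) (D ⟨0, hn⟩) (A ⟨0, hn⟩) ((d : ℤ) + 1 - m) = r + 1)
    (hcomp : ∀ (j : Fin n) (hj : (j : ℕ) + 1 < n) (m : ℕ), m ≤ d + 1 →
      aDim (V j) (D j) (B j) (m : ℤ) +
        aDim (V ⟨(j : ℕ) + 1, hj⟩) (D ⟨(j : ℕ) + 1, hj⟩) (A ⟨(j : ℕ) + 1, hj⟩) ((d : ℤ) + 1 - m) =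
          r + 1) :
    r ≤ aDim VY DY P 2 := by
  by_cases hd : d = 0
  · have := r_le_d hKY hDY hVY hVYr
    omega
  have hd1 : 2 ≤ d + 1 := by omega
  have key : ∀ (t : ℕ) (j : Fin n), (j : ℕ) + t + 1 = n →
      aDim (V j) (D j) (A j) ((d : ℤ) + 1 - ((2 : ℕ) : ℤ)) ≤ 1 := by
    intro t
    induction t with
    | zero =>
      intro j hj
      have hg := hpos j (by omega)
      apply le_trans (aDim_le_ell (hW j) _ _ _ _)
      apply ell_le_one_of_deg_one (hW j) hg
      rw [deg_sub, deg_single, hD, Place.deg_eq_one (hW j)]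
      push_cast
      ring
    | succ t ih =>
      intro j hj
      have hj' : (j : ℕ) + 1 < n := by omega
      have h1 := ih ⟨(j : ℕ) + 1, hj'⟩ (by simp; omega)
      have h2 := hcomp j hj' 2 hd1
      have h3 := two_point (hW j) (hVr j) (hAB j hj') (Place.deg_eq_one (hW j) _)
        (Place.deg_eq_one (hW j) _) (n := (d : ℤ) + 1 - ((2 : ℕ) : ℤ)) (m := ((2 : ℕ) : ℤ)) (by
          rw [hD]
          push_cast
          linarith)
      omega
  have h1 := key (n - 1) ⟨0, hn⟩ (by simp; omega)
  have h2 := hcomp0 2 hd1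
  have e : ((2 : ℕ) : ℤ) = 2 := by norm_num
  rw [e] at h2
  rw [e] at h1
  omega

end FF

end Groth.Agent.Lib.helper10
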