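import Groth.Agent.Lib.Helper10.FunFld21

/-!
Function fields of one variable (helper10), part 22: large weights at two points force torsion.
-/

set_option autoImplicit false
set_option linter.unusedSectionVars false
set_option linter.style.haveILetI false

universe u v w

open IntermediateField FunFld

namespace Groth.Agent.Lib.helper10

namespace FF

open RD

variable {k : Type u} {K : Type v} [Field k] [Field K] [Algebra k K]

/-- If `dim V(-nP) + dim V(-mQ) > dim V` with `n + m = deg D`, some member of `V` has divisor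
exactly `nP + mQ`. -/
theorem exists_div_eq_of_aDim (hK : IsFunctionField k K) {V : Submodule k K} {D : Divisor k K}
    {r : ℕ} (hVr : Module.finrank k ↥V = r + 1) {P Q : Place k K} (hPQ : P ≠ Q) (hP : P.deg = 1)
    (hQ : Q.deg = 1) {n m : ℤ} (hnm : D.deg = n + m)
    (h : r + 2 ≤ aDim V D P n + aDim V D Q m) :
    ∃ f : K, f ≠ 0 ∧ FunFld.div k f = Finsupp.single P n + Finsupp.single Q m - D := by
  unfold aDim at h
  haveI : FiniteDimensional k V := Module.finite_of_finrank_pos (by omega)
  set V₁ := V ⊓ L (D - Finsupp.single P n) with hV₁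
  set V₂ := V ⊓ L (D - Finsupp.single Q m) with hV₂
  haveI : FiniteDimensional k V₁ := Submodule.finiteDimensional_of_le inf_le_left
  haveI : FiniteDimensional k V₂ := Submodule.finiteDimensional_of_le inf_le_left
  have h1 := Submodule.finrank_sup_add_finrank_inf_eq V₁ V₂
  have h2 : Module.finrank k ↥(V₁ ⊔ V₂) ≤ r + 1 := by
    rw [← hVr]
    exact Submodule.finrank_mono (sup_le inf_le_left inf_le_left)
  have h3 : 0 < Module.finrank k ↥(V₁ ⊓ V₂) := by omega
  haveI : Nontrivial ↥(V₁ ⊓ V₂) := Module.nontrivial_of_finrank_pos h3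
  obtain ⟨f, hf⟩ := exists_ne (0 : ↥(V₁ ⊓ V₂))
  have hf0 : (f : K) ≠ 0 := fun h0 => hf (Subtype.ext h0)
  have hle : V₁ ⊓ V₂ ≤ L (D - Finsupp.single P n - Finsupp.single Q m) :=
    le_trans (inf_le_inf inf_le_right inf_le_right) (L_inf_L_le hPQ n m)
  have hfL := hle f.2
  rw [mem_L_iff_div hK hf0] at hfL
  have hdeg : (D - Finsupp.single P n - Finsupp.single Q m + FunFld.div k (f : K)).deg = 0 := by
    rw [deg_add_div hK, deg_sub, deg_sub, deg_single, deg_single, hP, hQ, hnm]
    push_cast
    ring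
  have h0 := eq_zero_of_nonneg_of_deg_eq_zero hK hfL hdeg
  refine ⟨f, hf0, ?_⟩
  have : FunFld.div k (f : K) = (D - Finsupp.single P n - Finsupp.single Q m +
      FunFld.div k (f : K)) - (D - Finsupp.single P n - Finsupp.single Q m) := by abel
  rw [this, h0]
  abel

/-- S18177 -/
theorem exists_torsion_of_weight (hK : IsFunctionField k K) [IsAlgClosed k] {d r : ℕ}
    {D : Divisor k K} (hD : D.deg = d) {V : Submodule k K} (hV : V ≤ L D)
    (hVr : Module.finrank k ↥V = r + 1) {P Q : Place k K} (hPQ : P ≠ Q)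
    (hw : (r + 1) * d + 1 ≤ SS V D P d + SS V D Q d + r) :
    ∃ m : ℕ, 1 ≤ m ∧ m ≤ d ∧ ∃ h : K, h ≠ 0 ∧
      FunFld.div k h = Finsupp.single Q (m : ℤ) - Finsupp.single P (m : ℤ) := by
  classical
  have hP := Place.deg_eq_one hK P
  have hQ := Place.deg_eq_one hK Q
  set c : ℕ → ℕ := fun n => aDim V D P (n : ℤ) + aDim V D Q (((d - n : ℕ) : ℤ)) with hc
  have hc_le : ∀ n ∈ Finset.range (d + 1), c n ≤ r + 2 := by
    intro n hn
    rw [Finset.mem_range] at hn
    have h1 := aDim_step hK V D Q ((d - n : ℕ) : ℤ)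
    rw [hQ] at h1
    have h2 := two_point hK hVr hPQ hP hQ (n := (n : ℤ)) (m := ((d - n : ℕ) : ℤ) + 1) (by
      rw [hD, Nat.cast_sub (by omega)]
      linarith)
    simp only [hc]
    omega
  have hsum : ∑ n ∈ Finset.range (d + 1), c n = 2 * (r + 1) + SS V D P d + SS V D Q d := by
    simp only [hc]
    rw [Finset.sum_add_distrib]
    have e1 : ∑ n ∈ Finset.range (d + 1), aDim V D P (n : ℤ) = (r + 1) + SS V D P d := by
      rw [Finset.sum_range_succ']
      unfold SS
      have : aDim V D P ((0 : ℕ) : ℤ) = r + 1 := by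
        rw [Nat.cast_zero, aDim_zero hV, hVr]
      rw [this, add_comm]
      congr 1
    have e2 : ∑ n ∈ Finset.range (d + 1), aDim V D Q (((d - n : ℕ) : ℤ)) = (r + 1) + SS V D Q d := by
      have := Finset.sum_range_reflect (fun j => aDim V D Q ((j : ℕ) : ℤ)) (d + 1)
      simp only [Nat.add_sub_cancel] at this
      rw [this, Finset.sum_range_succ']
      unfold SS
      have : aDim V D Q ((0 : ℕ) : ℤ) = r + 1 := by
        rw [Nat.cast_zero, aDim_zero hV, hVr]
      rw [this, add_comm]
      congr 1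
    rw [e1, e2]
    ring
  set G := (Finset.range (d + 1)).filter (fun n => c n = r + 2) with hG
  have hGcard : 1 < G.card := by
    by_contra hle
    rw [not_lt] at hle
    have h1 : ∑ n ∈ Finset.range (d + 1), c n ≤
        ∑ n ∈ Finset.range (d + 1), ((r + 1) + if c n = r + 2 then 1 else 0) := by
      apply Finset.sum_le_sum
      intro n hn
      have := hc_le n hn
      split_ifs with h
      · omega
      · omega
    have h1' : ∑ n ∈ Finset.range (d + 1), ((r + 1) + if c n = r + 2 then 1 else 0) =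
        (d + 1) * (r + 1) + G.card := by
      rw [Finset.sum_add_distrib, Finset.sum_const, Finset.card_range, smul_eq_mul,
        Finset.sum_boole]
      simp only [Nat.cast_id]
      rfl
    rw [h1', hsum] at h1
    have h3 : (d + 1) * (r + 1) = (r + 1) * d + (r + 1) := by ring
    omega
  obtain ⟨n₁, hn₁, n₂, hn₂, hne⟩ := Finset.one_lt_card.mp hGcard
  -- reduce to `n₁ < n₂`
  have key : ∀ a b : ℕ, a ∈ G → b ∈ G → a < b → ∃ m : ℕ, 1 ≤ m ∧ m ≤ d ∧ ∃ h : K, h ≠ 0 ∧
      FunFld.div k h = Finsupp.single Q (m : ℤ) - Finsupp.single P (m : ℤ) := by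
    intro a b ha hb hab
    rw [hG, Finset.mem_filter, Finset.mem_range] at ha hb
    obtain ⟨f₁, hf₁0, hf₁⟩ := exists_div_eq_of_aDim hK hVr hPQ hP hQ (n := (a : ℤ))
      (m := ((d - a : ℕ) : ℤ)) (by
        rw [hD, Nat.cast_sub (by omega)]
        ring) (by
        have := ha.2
        simp only [hc] at this
        omega)
    obtain ⟨f₂, hf₂0, hf₂⟩ := exists_div_eq_of_aDim hK hVr hPQ hP hQ (n := (b : ℤ))
      (m := ((d - b : ℕ) : ℤ)) (by
        rw [hD, Nat.cast_sub (by omega)]
        ring) (by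
        have := hb.2
        simp only [hc] at this
        omega)
    refine ⟨b - a, by omega, by omega, f₁ * f₂⁻¹, mul_ne_zero hf₁0 (inv_ne_zero hf₂0), ?_⟩
    rw [div_mul hK hf₁0 (inv_ne_zero hf₂0), div_inv hK, hf₁, hf₂, Nat.cast_sub (by omega),
      Nat.cast_sub (by omega), Nat.cast_sub (by omega)]
    simp only [sub_eq_add_neg, Finsupp.single_add, Finsupp.single_neg]
    abel
  rcases lt_or_gt_of_ne hne with h | h
  · exact key n₁ n₂ hn₁ hn₂ h
  · exact key n₂ n₁ hn₂ hn₁ h

end FF

end Groth.Agent.Lib.helper10
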