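import Groth.Agent.Lib.Helper10.FunFld23

/-!
Function fields of one variable (helper10), part 24: consequences of the Plücker inequality for
limit linear series on chains of rational curves.
-/

set_option autoImplicit false
set_option linter.unusedSectionVars false
set_option linter.style.haveILetI false

universe u v w

open IntermediateField FunFld Polynomial

namespace Groth.Agent.Lib.helper10

namespace FF

open RD

variable {k : Type u} {K : Type v} [Field k] [Field K] [Algebra k K]

/-- Plücker inequality in genus zero. -/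
theorem plucker (hK : IsFunctionField k K) [IsAlgClosed k] [CharZero k]
    (hg : genus k K = 0) {d r : ℕ} {D : Divisor k K} (hD : D.deg = d)
    {V : Submodule k K} (hV : V ≤ L D) (hVr : Module.finrank k ↥V = r + 1)
    (S : Finset (Place k K)) :
    ∑ P ∈ S, SS V D P d + r * (r + 1) ≤ (r + 1) * d + S.card * (r * (r + 1) / 2) := by
  rcases S.eq_empty_or_nonempty with hS | ⟨P, hP⟩
  · subst hS
    have := r_le_d hK hD hV hVr
    simp only [Finset.sum_empty, Finset.card_empty, zero_mul, add_zero, zero_add]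
    rw [mul_comm]
    exact Nat.mul_le_mul_left _ this
  · exact plucker_of_mem hK hg hD hV hVr S hP

/-- Plücker inequality for an injective finite family of places. -/
theorem weights_fin (hK : IsFunctionField k K) [IsAlgClosed k] [CharZero k]
    (hg : genus k K = 0) {d r : ℕ} {D : Divisor k K} (hD : D.deg = d)
    {V : Submodule k K} (hV : V ≤ L D) (hVr : Module.finrank k ↥V = r + 1)
    {n : ℕ} (pl : Fin n → Place k K) (hinj : Function.Injective pl) :
    ∑ a, SS V D (pl a) d + r * (r + 1) ≤ (r + 1) * d + n * (r * (r + 1) / 2) := by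
  classical
  have := plucker hK hg hD hV hVr (Finset.univ.image pl)
  rw [Finset.sum_image (fun a _ b _ h => hinj h), Finset.card_image_of_injective _ hinj,
    Finset.card_univ, Fintype.card_fin] at this
  exact this

theorem sum_tri (r : ℕ) : ∑ j ∈ Finset.range r, (r - j) = r * (r + 1) / 2 := by
  have h1 : ∑ j ∈ Finset.range r, (r - j) = ∑ j ∈ Finset.range r, (j + 1) := by
    rw [← Finset.sum_range_reflect (fun j => j + 1) r]
    refine Finset.sum_congr rfl fun j hj => ?_
    rw [Finset.mem_range] at hj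
    omega
  have h2 : ∑ j ∈ Finset.range (r + 1), j = ∑ j ∈ Finset.range r, (j + 1) + 0 :=
    Finset.sum_range_succ' (fun j => j) r
  rw [h1, ← add_zero (∑ j ∈ Finset.range r, (j + 1)), ← h2, Finset.sum_range_id,
    Nat.add_sub_cancel, mul_comm]

theorem aDim_lower (hK : IsFunctionField k K) [IsAlgClosed k] (V : Submodule k K)
    (D : Divisor k K) (P : Place k K) (m : ℤ) (t : ℕ) :
    aDim V D P m ≤ aDim V D P (m + t) + t := by
  induction t with
  | zero => simp
  | succ t ih =>
    have h1 := aDim_step hK V D P (m + t)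
    rw [Place.deg_eq_one hK P] at h1
    have e : m + ((t + 1 : ℕ) : ℤ) = m + t + 1 := by push_cast; ring
    rw [e]
    omega

/-- Every weight is nonnegative. -/
theorem SS_ge (hK : IsFunctionField k K) [IsAlgClosed k] {d r : ℕ} {D : Divisor k K}
    (hD : D.deg = d) {V : Submodule k K} (hV : V ≤ L D) (hVr : Module.finrank k ↥V = r + 1)
    (P : Place k K) : r * (r + 1) / 2 ≤ SS V D P d := by
  have hrd := r_le_d hK hD hV hVr
  unfold SS
  calc r * (r + 1) / 2 = ∑ j ∈ Finset.range r, (r - j) := (sum_tri r).symm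
    _ ≤ ∑ j ∈ Finset.range r, aDim V D P ((j : ℤ) + 1) := by
        refine Finset.sum_le_sum fun j _ => ?_
        have h1 := aDim_lower hK V D P 0 (j + 1)
        rw [aDim_zero hV, hVr] at h1
        have e : (0 : ℤ) + ((j + 1 : ℕ) : ℤ) = (j : ℤ) + 1 := by push_cast; ring
        rw [e] at h1
        omega
    _ ≤ ∑ j ∈ Finset.range d, aDim V D P ((j : ℤ) + 1) :=
        Finset.sum_le_sum_of_subset (Finset.range_mono hrd)

/-- A cusp has weight at least `r`. -/
theorem SS_ge_of_cusp (hK : IsFunctionField k K) [IsAlgClosed k] {d r : ℕ} {D : Divisor k K}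
    (hD : D.deg = d) {V : Submodule k K}
    {Q : Place k K} (hcusp : r ≤ aDim V D Q 2) : r + r * (r + 1) / 2 ≤ SS V D Q d := by
  by_cases hr : r = 0
  · subst hr; simp
  have hlow : ∀ j : ℕ, r - (j - 1) ≤ aDim V D Q ((j : ℤ) + 1) := by
    intro j
    rcases Nat.eq_zero_or_pos j with hj | hj
    · subst hj
      have := aDim_anti hK V D Q (m := 1) (n := 2) (by norm_num)
      simp only [Nat.cast_zero, zero_add]
      omega
    · have h1 := aDim_lower hK V D Q 2 (j - 1)
      have e : (2 : ℤ) + ((j - 1 : ℕ) : ℤ) = (j : ℤ) + 1 := by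
        rw [Nat.cast_sub hj]; push_cast; ring
      rw [e] at h1
      omega
  have hd : r + 1 ≤ d := by
    by_contra hlt
    have h1 := hlow r
    have h2 := aDim_eq_zero_of_deg_lt hK V (D := D) (Place.deg_eq_one hK Q) (n := (r : ℤ) + 1) (by
      rw [hD]
      have : d < r + 1 := by omega
      exact_mod_cast this)
    omega
  unfold SS
  calc r + r * (r + 1) / 2 = ∑ j ∈ Finset.range (r + 1), (r - (j - 1)) := by
        rw [Finset.sum_range_succ' (fun j => r - (j - 1)) r, ← sum_tri r]
        simp only [Nat.add_sub_cancel, Nat.zero_sub, Nat.sub_zero]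
        rw [add_comm]
    _ ≤ ∑ j ∈ Finset.range (r + 1), aDim V D Q ((j : ℤ) + 1) :=
        Finset.sum_le_sum fun j _ => hlow j
    _ ≤ ∑ j ∈ Finset.range d, aDim V D Q ((j : ℤ) + 1) :=
        Finset.sum_le_sum_of_subset (Finset.range_mono hd)


section weights

variable (hK : IsFunctionField k K) [IsAlgClosed k] [CharZero k]
    (hg : genus k K = 0) {d r : ℕ} {D : Divisor k K} (hD : D.deg = d)
    {V : Submodule k K} (hV : V ≤ L D) (hVr : Module.finrank k ↥V = r + 1)

include hK hg hD hV hVr

theorem w1 (P1 : Place k K) :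
    SS V D P1 d + r * (r + 1) ≤ (r + 1) * d + 1 * (r * (r + 1) / 2) := by
  have := weights_fin hK hg hD hV hVr ![P1] (by
    intro a b _
    exact Subsingleton.elim a b)
  simpa using this

theorem w2 (P1 P2 : Place k K) (h12 : P1 ≠ P2) :
    SS V D P1 d + SS V D P2 d + r * (r + 1) ≤ (r + 1) * d + 2 * (r * (r + 1) / 2) := by
  have := weights_fin hK hg hD hV hVr ![P1, P2] (by
    intro a b hab
    fin_cases a <;> fin_cases b <;> simp_all)
  simpa [Fin.sum_univ_two] using this

theorem w3 (P1 P2 P3 : Place k K) (h12 : P1 ≠ P2) (h13 : P1 ≠ P3) (h23 : P2 ≠ P3) :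
    SS V D P1 d + SS V D P2 d + SS V D P3 d + r * (r + 1) ≤
      (r + 1) * d + 3 * (r * (r + 1) / 2) := by
  have := weights_fin hK hg hD hV hVr ![P1, P2, P3] (by
    intro a b hab
    fin_cases a <;> fin_cases b <;> simp_all [eq_comm])
  simpa [Fin.sum_univ_three] using this

theorem w4 (P1 P2 P3 P4 : Place k K) (h12 : P1 ≠ P2) (h13 : P1 ≠ P3) (h14 : P1 ≠ P4)
    (h23 : P2 ≠ P3) (h24 : P2 ≠ P4) (h34 : P3 ≠ P4) :
    SS V D P1 d + SS V D P2 d + SS V D P3 d + SS V D P4 d + r * (r + 1) ≤
      (r + 1) * d + 4 * (r * (r + 1) / 2) := by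
  have := weights_fin hK hg hD hV hVr ![P1, P2, P3, P4] (by
    intro a b hab
    fin_cases a <;> fin_cases b <;> simp_all [eq_comm])
  simpa [Fin.sum_univ_four] using this

/-- Plücker bound on one component with up to three optional further places. -/
theorem comp_bound (A B Q Q' : Place k K) (uA uB uQ : Prop)
    (hAB : uA → uB → A ≠ B) (hAQ : uA → uQ → A ≠ Q) (hBQ : uB → uQ → B ≠ Q)
    (hA' : uA → Q' ≠ A) (hB' : uB → Q' ≠ B) (hQ' : uQ → Q' ≠ Q)
    (la lb lq : ℕ)
    (hla : uA → la + r * (r + 1) / 2 ≤ SS V D A d) (hla0 : ¬uA → la = 0)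
    (hlb : uB → lb + r * (r + 1) / 2 ≤ SS V D B d) (hlb0 : ¬uB → lb = 0)
    (hlq : uQ → lq + r * (r + 1) / 2 ≤ SS V D Q d) (hlq0 : ¬uQ → lq = 0) :
    SS V D Q' d + la + lb + lq + r * (r + 1) ≤ (r + 1) * d + r * (r + 1) / 2 := by
  by_cases ha : uA <;> by_cases hb : uB <;> by_cases hq : uQ
  · have := w4 hK hg hD hV hVr Q' A B Q (hA' ha) (hB' hb) (hQ' hq) (hAB ha hb) (hAQ ha hq)
      (hBQ hb hq)
    have := hla ha; have := hlb hb; have := hlq hq
    omega
  · have := w3 hK hg hD hV hVr Q' A B (hA' ha) (hB' hb) (hAB ha hb)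
    have := hla ha; have := hlb hb; have := hlq0 hq
    omega
  · have := w3 hK hg hD hV hVr Q' A Q (hA' ha) (hQ' hq) (hAQ ha hq)
    have := hla ha; have := hlb0 hb; have := hlq hq
    omega
  · have := w2 hK hg hD hV hVr Q' A (hA' ha)
    have := hla ha; have := hlb0 hb; have := hlq0 hq
    omega
  · have := w3 hK hg hD hV hVr Q' B Q (hB' hb) (hQ' hq) (hBQ hb hq)
    have := hla0 ha; have := hlb hb; have := hlq hq
    omega
  · have := w2 hK hg hD hV hVr Q' B (hB' hb)
    have := hla0 ha; have := hlb hb; have := hlq0 hq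
    omega
  · have := w2 hK hg hD hV hVr Q' Q (hQ' hq)
    have := hla0 ha; have := hlb0 hb; have := hlq hq
    omega
  · have := w1 hK hg hD hV hVr Q'
    have := hla0 ha; have := hlb0 hb; have := hlq0 hq
    omega

end weights


theorem card_split {n : ℕ} (T : Finset (Fin n)) (i : Fin n) :
    T.card = (T.filter (fun t => t < i)).card + (T.filter (fun t => i < t)).card +
      (if i ∈ T then 1 else 0) := by
  classical
  have h1 := Finset.card_filter_add_card_filter_not (s := T) (fun t => t < i)
  have h2 := Finset.card_filter_add_card_filter_not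
    (s := T.filter (fun t => ¬ t < i)) (fun t => i < t)
  have h3 : (T.filter (fun t => ¬ t < i)).filter (fun t => i < t) = T.filter (fun t => i < t) := by
    ext t
    simp only [Finset.mem_filter]
    constructor
    · rintro ⟨⟨h, _⟩, h'⟩; exact ⟨h, h'⟩
    · rintro ⟨h, h'⟩; exact ⟨⟨h, not_lt.mpr h'.le⟩, h'⟩
  have h4 : (T.filter (fun t => ¬ t < i)).filter (fun t => ¬ i < t) = if i ∈ T then {i} else ∅ := by
    ext t
    simp only [Finset.mem_filter]
    split_ifs with hi
    · simp only [Finset.mem_singleton]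
      constructor
      · rintro ⟨⟨_, h⟩, h'⟩; exact le_antisymm (not_lt.mp h') (not_lt.mp h)
      · rintro rfl; exact ⟨⟨hi, lt_irrefl _⟩, lt_irrefl _⟩
    · simp only [Finset.notMem_empty, iff_false]
      rintro ⟨⟨h0, h⟩, h'⟩
      have : t = i := le_antisymm (not_lt.mp h') (not_lt.mp h)
      exact hi (this ▸ h0)
  rw [h3, h4] at h2
  have h5 : (if i ∈ T then ({i} : Finset (Fin n)) else ∅).card = if i ∈ T then 1 else 0 := by
    split_ifs <;> simp
  rw [h5] at h2
  omega

theorem card_lt_succ {N : ℕ} (T : Finset (Fin (N + 1))) (j : Fin N) :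
    (T.filter (fun t => t < j.succ)).card =
      (T.filter (fun t => t < j.castSucc)).card + (if j.castSucc ∈ T then 1 else 0) := by
  classical
  have h := card_split (T.filter (fun t => t < j.succ)) j.castSucc
  have h1 : (T.filter (fun t => t < j.succ)).filter (fun t => t < j.castSucc) =
      T.filter (fun t => t < j.castSucc) := by
    ext t
    simp only [Finset.mem_filter]
    constructor
    · rintro ⟨⟨h, _⟩, h'⟩; exact ⟨h, h'⟩
    · rintro ⟨h, h'⟩
      exact ⟨⟨h, lt_trans h' (Fin.castSucc_lt_succ)⟩, h'⟩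
  have h2 : (T.filter (fun t => t < j.succ)).filter (fun t => j.castSucc < t) = ∅ := by
    ext t
    simp only [Finset.mem_filter, Finset.notMem_empty, iff_false]
    rintro ⟨⟨_, h⟩, h'⟩
    rw [Fin.lt_def] at h h'
    simp at h h'
    omega
  have h3 : (j.castSucc ∈ T.filter (fun t => t < j.succ)) ↔ j.castSucc ∈ T := by
    simp only [Finset.mem_filter, and_iff_left_iff_imp]
    intro _
    exact Fin.castSucc_lt_succ
  rw [h1, h2] at h
  simp only [h3, Finset.card_empty, add_zero] at h
  exact h

theorem card_gt_castSucc {N : ℕ} (T : Finset (Fin (N + 1))) (j : Fin N) :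
    (T.filter (fun t => j.castSucc < t)).card =
      (T.filter (fun t => j.succ < t)).card + (if j.succ ∈ T then 1 else 0) := by
  classical
  have h := card_split (T.filter (fun t => j.castSucc < t)) j.succ
  have h1 : (T.filter (fun t => j.castSucc < t)).filter (fun t => j.succ < t) =
      T.filter (fun t => j.succ < t) := by
    ext t
    simp only [Finset.mem_filter]
    constructor
    · rintro ⟨⟨h, _⟩, h'⟩; exact ⟨h, h'⟩
    · rintro ⟨h, h'⟩
      exact ⟨⟨h, lt_trans (Fin.castSucc_lt_succ) h'⟩, h'⟩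
  have h2 : (T.filter (fun t => j.castSucc < t)).filter (fun t => t < j.succ) = ∅ := by
    ext t
    simp only [Finset.mem_filter, Finset.notMem_empty, iff_false]
    rintro ⟨⟨_, h⟩, h'⟩
    rw [Fin.lt_def] at h h'
    simp at h h'
    omega
  have h3 : (j.succ ∈ T.filter (fun t => j.castSucc < t)) ↔ j.succ ∈ T := by
    simp only [Finset.mem_filter, and_iff_left_iff_imp]
    intro _
    exact Fin.castSucc_lt_succ
  rw [h1, h2] at h
  simp only [h3, Finset.card_empty, zero_add] at h
  exact h


section backbone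

variable [IsAlgClosed k] [CharZero k] (N : ℕ) (Z : Fin (N + 1) → Type w) [∀ i, Field (Z i)]
    [∀ i, Algebra k (Z i)] (hZ : ∀ i, IsFunctionField k (Z i)) (hrat : ∀ i, genus k (Z i) = 0)
    (d r : ℕ) (D : ∀ i, Divisor k (Z i)) (hD : ∀ i, (D i).deg = d)
    (V : ∀ i, Submodule k (Z i)) (hV : ∀ i, V i ≤ L (D i))
    (hVr : ∀ i, Module.finrank k ↥(V i) = r + 1) (A B : ∀ i, Place k (Z i))
    (hAB : ∀ i : Fin (N + 1), 0 < (i : ℕ) → (i : ℕ) < N → A i ≠ B i)
    (hcomp : ∀ (l : Fin N) (m : ℕ), m ≤ d + 1 →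
      aDim (V l.castSucc) (D l.castSucc) (B l.castSucc) (m : ℤ) +
        aDim (V l.succ) (D l.succ) (A l.succ) ((d : ℤ) + 1 - m) = r + 1)
    (T : Finset (Fin (N + 1))) (Q : ∀ i, Place k (Z i))
    (hQA : ∀ i ∈ T, 0 < (i : ℕ) → Q i ≠ A i) (hQB : ∀ i ∈ T, (i : ℕ) < N → Q i ≠ B i)
    (hcusp : ∀ i ∈ T, r ≤ aDim (V i) (D i) (Q i) 2)

include hZ hrat hD hV hVr hAB hcomp hQA hQB hcusp

theorem backbone_A (i : Fin (N + 1)) (hi : 0 < (i : ℕ)) :
    r * (T.filter (fun t => t < i)).card + r * (r + 1) / 2 ≤ SS (V i) (D i) (A i) d := by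
  classical
  induction i using Fin.induction with
  | zero => exact absurd hi (lt_irrefl 0)
  | succ j ih =>
    have hsum := SS_add_SS_eq_of_compat (hcomp j)
    have hjN : ((j.castSucc : Fin (N + 1)) : ℕ) < N := by simp
    have hb := comp_bound (hZ j.castSucc) (hrat _) (hD _) (hV _) (hVr _)
      (A j.castSucc) (B j.castSucc) (Q j.castSucc) (B j.castSucc)
      (0 < ((j.castSucc : Fin (N + 1)) : ℕ)) False (j.castSucc ∈ T)
      (fun _ h => h.elim) (fun ha hq => (hQA _ hq ha).symm) (fun h _ => h.elim)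
      (fun ha => (hAB _ ha hjN).symm) (fun h => h.elim) (fun hq => (hQB _ hq hjN).symm)
      (r * (T.filter (fun t => t < j.castSucc)).card) 0 (if j.castSucc ∈ T then r else 0)
      (fun ha => ih ha)
      (fun ha => by
        have h0 : (T.filter (fun t => t < j.castSucc)) = ∅ := by
          ext t
          simp only [Finset.mem_filter, Finset.notMem_empty, iff_false]
          rintro ⟨_, h⟩
          rw [Fin.lt_def] at h
          omega
        rw [h0]; simp)
      (fun h => h.elim) (fun _ => rfl)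
      (fun hq => by
        rw [if_pos hq]
        exact SS_ge_of_cusp (hZ _) (hD _) (hcusp _ hq))
      (fun hq => by rw [if_neg hq])
    rw [card_lt_succ T j]
    have heven : 2 * (r * (r + 1) / 2) = r * (r + 1) :=
      Nat.mul_div_cancel' (even_iff_two_dvd.mp (Nat.even_mul_succ_self r))
    rw [Nat.mul_add]
    split_ifs at hb ⊢ with hq
    · omega
    · omega

theorem backbone_B (i : Fin (N + 1)) (hi : (i : ℕ) < N) :
    r * (T.filter (fun t => i < t)).card + r * (r + 1) / 2 ≤ SS (V i) (D i) (B i) d := by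
  classical
  induction i using Fin.reverseInduction with
  | last => exact absurd hi (by simp)
  | cast j ih =>
    have hsum := SS_add_SS_eq_of_compat (hcomp j)
    have hj0 : 0 < ((j.succ : Fin (N + 1)) : ℕ) := by simp
    have hb := comp_bound (hZ j.succ) (hrat _) (hD _) (hV _) (hVr _)
      (B j.succ) (B j.succ) (Q j.succ) (A j.succ)
      (((j.succ : Fin (N + 1)) : ℕ) < N) False (j.succ ∈ T)
      (fun _ h => h.elim) (fun ha hq => (hQB _ hq ha).symm) (fun h _ => h.elim)
      (fun ha => hAB _ hj0 ha) (fun h => h.elim) (fun hq => (hQA _ hq hj0).symm)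
      (r * (T.filter (fun t => j.succ < t)).card) 0 (if j.succ ∈ T then r else 0)
      (fun ha => ih ha)
      (fun ha => by
        have h0 : (T.filter (fun t => j.succ < t)) = ∅ := by
          ext t
          simp only [Finset.mem_filter, Finset.notMem_empty, iff_false]
          rintro ⟨_, h⟩
          rw [Fin.lt_def] at h
          have := t.2
          omega
        rw [h0]; simp)
      (fun h => h.elim) (fun _ => rfl)
      (fun hq => by
        rw [if_pos hq]
        exact SS_ge_of_cusp (hZ _) (hD _) (hcusp _ hq))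
      (fun hq => by rw [if_neg hq])
    rw [card_gt_castSucc T j]
    have heven : 2 * (r * (r + 1) / 2) = r * (r + 1) :=
      Nat.mul_div_cancel' (even_iff_two_dvd.mp (Nat.even_mul_succ_self r))
    rw [Nat.mul_add]
    split_ifs at hb ⊢ with hq
    · omega
    · omega


/-- S18183 -/
theorem backbone_point (i : Fin (N + 1)) (Q' : Place k (Z i)) (hQ'A : 0 < (i : ℕ) → Q' ≠ A i)
    (hQ'B : (i : ℕ) < N → Q' ≠ B i) (hQ'Q : i ∈ T → Q' ≠ Q i) :
    SS (V i) (D i) Q' d + r * T.card + r * (r + 1) ≤ (r + 1) * d + r * (r + 1) / 2 := by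
  classical
  have hb := comp_bound (hZ i) (hrat _) (hD _) (hV _) (hVr _)
    (A i) (B i) (Q i) Q' (0 < (i : ℕ)) ((i : ℕ) < N) (i ∈ T)
    (fun ha hb => hAB i ha hb) (fun ha hq => (hQA _ hq ha).symm) (fun hb hq => (hQB _ hq hb).symm)
    hQ'A hQ'B hQ'Q
    (r * (T.filter (fun t => t < i)).card) (r * (T.filter (fun t => i < t)).card)
    (if i ∈ T then r else 0)
    (fun ha => backbone_A N Z hZ hrat d r D hD V hV hVr A B hAB hcomp T Q hQA hQB hcusp i ha)
    (fun ha => by
      have h0 : (T.filter (fun t => t < i)) = ∅ := by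
        ext t
        simp only [Finset.mem_filter, Finset.notMem_empty, iff_false]
        rintro ⟨_, h⟩
        rw [Fin.lt_def] at h
        omega
      rw [h0]; simp)
    (fun hb => backbone_B N Z hZ hrat d r D hD V hV hVr A B hAB hcomp T Q hQA hQB hcusp i hb)
    (fun hb => by
      have h0 : (T.filter (fun t => i < t)) = ∅ := by
        ext t
        simp only [Finset.mem_filter, Finset.notMem_empty, iff_false]
        rintro ⟨_, h⟩
        rw [Fin.lt_def] at h
        have := t.2
        omega
      rw [h0]; simp)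
    (fun hq => by
      rw [if_pos hq]
      exact SS_ge_of_cusp (hZ _) (hD _) (hcusp _ hq))
    (fun hq => by rw [if_neg hq])
  rw [card_split T i, Nat.mul_add, Nat.mul_add]
  split_ifs at hb ⊢ with hq
  · omega
  · omega

/-- S18180 -/
theorem backbone_inner (i : Fin (N + 1)) (hi0 : 0 < (i : ℕ)) (hiN : (i : ℕ) < N) :
    r * (T.erase i).card + r * (r + 1) ≤ SS (V i) (D i) (A i) d + SS (V i) (D i) (B i) d := by
  classical
  have h1 := backbone_A N Z hZ hrat d r D hD V hV hVr A B hAB hcomp T Q hQA hQB hcusp i hi0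
  have h2 := backbone_B N Z hZ hrat d r D hD V hV hVr A B hAB hcomp T Q hQA hQB hcusp i hiN
  have heven : 2 * (r * (r + 1) / 2) = r * (r + 1) :=
    Nat.mul_div_cancel' (even_iff_two_dvd.mp (Nat.even_mul_succ_self r))
  have h3 := card_split T i
  have h4 : (T.erase i).card = (T.filter (fun t => t < i)).card +
      (T.filter (fun t => i < t)).card := by
    by_cases hi : i ∈ T
    · rw [Finset.card_erase_of_mem hi]
      rw [if_pos hi] at h3
      omega
    · rw [Finset.erase_eq_of_notMem hi]
      rw [if_neg hi] at h3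
      omega
  rw [h4, Nat.mul_add]
  omega

/-- S18181 -/
theorem backbone_tail (i : Fin (N + 1)) (hiT : i ∈ T) (hi0 : 0 < (i : ℕ)) (hiN : (i : ℕ) < N) :
    SS (V i) (D i) (Q i) d + r * (T.erase i).card + r * (r + 1) / 2 ≤ (r + 1) * d := by
  classical
  have h1 := backbone_A N Z hZ hrat d r D hD V hV hVr A B hAB hcomp T Q hQA hQB hcusp i hi0
  have h2 := backbone_B N Z hZ hrat d r D hD V hV hVr A B hAB hcomp T Q hQA hQB hcusp i hiN
  have heven : 2 * (r * (r + 1) / 2) = r * (r + 1) :=
    Nat.mul_div_cancel' (even_iff_two_dvd.mp (Nat.even_mul_succ_self r))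
  have h3 := card_split T i
  rw [if_pos hiT] at h3
  have h4 : (T.erase i).card = (T.filter (fun t => t < i)).card +
      (T.filter (fun t => i < t)).card := by
    rw [Finset.card_erase_of_mem hiT]
    omega
  have h5 := w3 (hZ i) (hrat _) (hD _) (hV _) (hVr _) (Q i) (A i) (B i) (hQA i hiT hi0)
    (hQB i hiT hiN) (hAB i hi0 hiN)
  rw [h4, Nat.mul_add]
  omega

/-- S18179 -/
theorem backbone_rho : r * T.card + r * (r + 1) ≤ (r + 1) * d := by
  classical
  have heven : 2 * (r * (r + 1) / 2) = r * (r + 1) :=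
    Nat.mul_div_cancel' (even_iff_two_dvd.mp (Nat.even_mul_succ_self r))
  by_cases hT : T = ∅
  · subst hT
    have := r_le_d (hZ 0) (hD 0) (hV 0) (hVr 0)
    simp only [Finset.card_empty, mul_zero, zero_add]
    rw [mul_comm]
    exact Nat.mul_le_mul_left _ this
  · obtain ⟨i, hi⟩ := Finset.nonempty_iff_ne_empty.mpr hT
    have hb := comp_bound (hZ i) (hrat _) (hD _) (hV _) (hVr _)
      (A i) (B i) (Q i) (Q i) (0 < (i : ℕ)) ((i : ℕ) < N) False
      (fun ha hb => hAB i ha hb) (fun _ h => h.elim) (fun _ h => h.elim)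
      (fun ha => hQA i hi ha) (fun hb => hQB i hi hb) (fun h => h.elim)
      (r * (T.filter (fun t => t < i)).card) (r * (T.filter (fun t => i < t)).card) 0
      (fun ha => backbone_A N Z hZ hrat d r D hD V hV hVr A B hAB hcomp T Q hQA hQB hcusp i ha)
      (fun ha => by
        have h0 : (T.filter (fun t => t < i)) = ∅ := by
          ext t
          simp only [Finset.mem_filter, Finset.notMem_empty, iff_false]
          rintro ⟨_, h⟩
          rw [Fin.lt_def] at h
          omega
        rw [h0]; simp)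
      (fun hb => backbone_B N Z hZ hrat d r D hD V hV hVr A B hAB hcomp T Q hQA hQB hcusp i hb)
      (fun hb => by
        have h0 : (T.filter (fun t => i < t)) = ∅ := by
          ext t
          simp only [Finset.mem_filter, Finset.notMem_empty, iff_false]
          rintro ⟨_, h⟩
          rw [Fin.lt_def] at h
          have := t.2
          omega
        rw [h0]; simp)
      (fun h => h.elim) (fun _ => rfl)
    have hq := SS_ge_of_cusp (hZ i) (hD i) (hcusp i hi)
    have h3 := card_split T i
    rw [if_pos hi] at h3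
    rw [h3, Nat.mul_add, Nat.mul_add]
    omega

end backbone


section tailchain

variable [IsAlgClosed k] [CharZero k] (n : ℕ) (U : Fin (n + 1) → Type w) [∀ l, Field (U l)]
    [∀ l, Algebra k (U l)] (hU : ∀ l, IsFunctionField k (U l))
    (hrat : ∀ l : Fin (n + 1), 0 < (l : ℕ) → (l : ℕ) < n → genus k (U l) = 0)
    (d r : ℕ) (D : ∀ l, Divisor k (U l)) (hD : ∀ l, (D l).deg = d)
    (V : ∀ l, Submodule k (U l)) (hV : ∀ l, V l ≤ L (D l))
    (hVr : ∀ l, Module.finrank k ↥(V l) = r + 1) (A B : ∀ l, Place k (U l))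
    (hAB : ∀ l : Fin (n + 1), 0 < (l : ℕ) → (l : ℕ) < n → A l ≠ B l)
    (hcomp : ∀ (l : Fin n) (m : ℕ), m ≤ d + 1 →
      aDim (V l.castSucc) (D l.castSucc) (B l.castSucc) (m : ℤ) +
        aDim (V l.succ) (D l.succ) (A l.succ) ((d : ℤ) + 1 - m) = r + 1)
    (hpos : 0 < genus k (U (Fin.last n)))

include hU hD hV hVr hAB hcomp hpos

/-- Along a chain ending in a tail of positive genus, every aspect has weight at least `r` at the
node towards the tail. -/
theorem tail_B (l : Fin (n + 1)) (hl : (l : ℕ) < n) :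
    r + r * (r + 1) / 2 ≤ SS (V l) (D l) (B l) d := by
  classical
  have hposg : ∀ l' : Fin (n + 1), (l' : ℕ) = n → 0 < genus k (U l') := by
    intro l' h
    have : l' = Fin.last n := Fin.ext h
    subst this
    exact hpos
  induction l using Fin.reverseInduction with
  | last => exact absurd hl (by simp)
  | cast j ih =>
    by_cases hjs : ((j.succ : Fin (n + 1)) : ℕ) < n
    · have h1 := ih hjs
      have hsum := SS_add_SS_eq_of_compat (hcomp j)
      have h2 := SS_add_SS_le (hU j.succ) (hD j.succ) (hVr j.succ)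
        (hAB j.succ (by simp) hjs) (Place.deg_eq_one (hU _) _) (Place.deg_eq_one (hU _) _)
      omega
    · have hjn : ((j.succ : Fin (n + 1)) : ℕ) = n := by
        have := j.succ.2
        omega
      have hg := hposg j.succ hjn
      apply SS_ge_of_cusp (hU _) (hD _)
      by_cases hd : d = 0
      · have := r_le_d (hU j.castSucc) (hD _) (hV _) (hVr _)
        omega
      have hd1 : 2 ≤ d + 1 := by omega
      have h2 := hcomp j 2 hd1
      have h3 : aDim (V j.succ) (D j.succ) (A j.succ) ((d : ℤ) + 1 - ((2 : ℕ) : ℤ)) ≤ 1 := by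
        apply le_trans (aDim_le_ell (hU j.succ) _ _ _ _)
        apply ell_le_one_of_deg_one (hU j.succ) hg
        rw [deg_sub, deg_single, hD, Place.deg_eq_one (hU j.succ)]
        push_cast
        ring
      have e : ((2 : ℕ) : ℤ) = 2 := by norm_num
      rw [e] at h2 h3
      omega

include hrat in
/-- S18185 -/
theorem chain_point (c : ℕ)
    (hc : SS (V 0) (D 0) (B 0) d + c + r * (r + 1) ≤ (r + 1) * d + r * (r + 1) / 2)
    (l : Fin (n + 1)) (hl0 : 0 < (l : ℕ)) (hln : (l : ℕ) < n)
    (Q' : Place k (U l)) (hQ'A : Q' ≠ A l) (hQ'B : Q' ≠ B l) :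
    SS (V l) (D l) Q' d + c + r + r * (r + 1) ≤ (r + 1) * d + r * (r + 1) / 2 := by
  have h1 := chain_weight_ge n U hU d r D hD V hVr A B hAB hcomp c hc l hl0
  have h2 := tail_B n U hU d r D hD V hV hVr A B hAB hcomp hpos l hln
  have h3 := w3 (hU l) (hrat l hl0 hln) (hD _) (hV _) (hVr _) Q' (A l) (B l) hQ'A hQ'B
    (hAB l hl0 hln)
  have heven : 2 * (r * (r + 1) / 2) = r * (r + 1) :=
    Nat.mul_div_cancel' (even_iff_two_dvd.mp (Nat.even_mul_succ_self r))
  omega

end tailchain

end FF

end Groth.Agent.Lib.helper10
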