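import Groth.Agent.Lib.Helper10.FunFld24

/-!
Function fields of one variable (helper10), part 25: sections supported on two points of a
rational component with a cusp.
-/

set_option autoImplicit false
set_option linter.unusedSectionVars false
set_option linter.style.haveILetI false

universe u v w

open IntermediateField FunFld Polynomial

namespace Groth.Agent.Lib.helper10

namespace FF

open RD

variable {k : Type u} {K : Type v} [Field k] [Field K] [Algebra k K]

theorem supp_two {E : Divisor k K} {P P' : Place k K} (hPP : P ≠ P')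
    (h : ∀ R : Place k K, R ≠ P → R ≠ P' → E R = 0) :
    E = Finsupp.single P (E P) + Finsupp.single P' (E P') := by
  classical
  ext R
  rw [Finsupp.add_apply]
  by_cases h1 : R = P
  · subst h1
    rw [Finsupp.single_eq_same, Finsupp.single_eq_of_ne hPP, add_zero]
  · by_cases h2 : R = P'
    · subst h2
      rw [Finsupp.single_eq_same, Finsupp.single_eq_of_ne h1, zero_add]
    · rw [Finsupp.single_eq_of_ne h1, Finsupp.single_eq_of_ne h2, h R h1 h2, add_zero]

/-- A section whose divisor is supported on two points vanishes to complementary orders there. -/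
theorem mem_or_mem (hK : IsFunctionField k K) [IsAlgClosed k] {d : ℕ} {D : Divisor k K}
    (hD : D.deg = d) {P P' : Place k K} (hPP : P ≠ P') {f : K} (hf0 : f ≠ 0) (hf : f ∈ L D)
    (hfs : ∀ R : Place k K, R ≠ P → R ≠ P' → (FunFld.div k f + D) R = 0) (j : ℤ) :
    f ∈ L (D - Finsupp.single P j) ∨ f ∈ L (D - Finsupp.single P' ((d : ℤ) + 1 - j)) := by
  classical
  set E : Divisor k K := FunFld.div k f + D with hE
  have hE0 : 0 ≤ E := by
    rw [hE, add_comm]
    exact (mem_L_iff_div hK hf0 D).1 hf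
  have hEdeg : E.deg = d := by
    rw [hE, add_comm, deg_add_div hK, hD]
  have hsupp := supp_two hPP hfs
  have hsum : E P + E P' = d := by
    have := hEdeg
    rw [hsupp, deg_add, deg_single, deg_single, Place.deg_eq_one hK, Place.deg_eq_one hK] at this
    simpa using this
  by_cases hj : j ≤ E P
  · left
    rw [mem_L_iff_div hK hf0]
    have e : D - Finsupp.single P j + FunFld.div k f = E - Finsupp.single P j := by
      rw [hE]; abel
    rw [e]
    intro R
    rw [Finsupp.sub_apply]
    by_cases hR : R = P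
    · subst hR
      rw [Finsupp.single_eq_same]
      simpa using hj
    · rw [Finsupp.single_eq_of_ne hR, sub_zero]
      exact hE0 R
  · right
    rw [mem_L_iff_div hK hf0]
    have e : D - Finsupp.single P' ((d : ℤ) + 1 - j) + FunFld.div k f =
        E - Finsupp.single P' ((d : ℤ) + 1 - j) := by
      rw [hE]; abel
    rw [e]
    intro R
    rw [Finsupp.sub_apply]
    by_cases hR : R = P'
    · subst hR
      rw [Finsupp.single_eq_same]
      have : (0 : ℤ) ≤ E R - ((d : ℤ) + 1 - j) := by
        rw [not_le] at hj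
        linarith
      simpa using this
    · rw [Finsupp.single_eq_of_ne hR, sub_zero]
      exact hE0 R


theorem two_le_of_mem {V2 L1 L2 : Submodule k K} [FiniteDimensional k V2] {f g : K}
    (hspan : Submodule.span k {f, g} = V2) (hV2 : Module.finrank k ↥V2 = 2) (hf0 : f ≠ 0)
    (hg0 : g ≠ 0)
    (hf : f ∈ L1 ∨ f ∈ L2) (hg : g ∈ L1 ∨ g ∈ L2) :
    2 ≤ Module.finrank k ↥(V2 ⊓ L1) + Module.finrank k ↥(V2 ⊓ L2) := by
  have hfV : f ∈ V2 := by rw [← hspan]; exact Submodule.subset_span (by simp)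
  have hgV : g ∈ V2 := by rw [← hspan]; exact Submodule.subset_span (by simp)
  have hpos : ∀ (W : Submodule k K) (x : K), x ≠ 0 → x ∈ V2 → x ∈ W →
      1 ≤ Module.finrank k ↥(V2 ⊓ W) := by
    intro W x hx0 hxV hxW
    haveI : FiniteDimensional k ↥(V2 ⊓ W) := Submodule.finiteDimensional_of_le inf_le_left
    apply Module.finrank_pos_iff_exists_ne_zero.2
    exact ⟨⟨x, hxV, hxW⟩, fun h => hx0 (congrArg Subtype.val h)⟩
  have hfull : ∀ W : Submodule k K, f ∈ W → g ∈ W → Module.finrank k ↥(V2 ⊓ W) = 2 := by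
    intro W hfW hgW
    have : V2 ≤ W := by
      rw [← hspan, Submodule.span_le]
      intro x hx
      rcases hx with rfl | rfl
      · exact hfW
      · exact hgW
    rw [inf_eq_left.mpr this, hV2]
  rcases hf with hf | hf <;> rcases hg with hg | hg
  · rw [hfull L1 hf hg]; omega
  · have := hpos L1 f hf0 hfV hf
    have := hpos L2 g hg0 hgV hg
    omega
  · have := hpos L2 f hf0 hfV hf
    have := hpos L1 g hg0 hgV hg
    omega
  · rw [hfull L2 hf hg]; omega

/-- S18175 -/
theorem pencil_unique (hK : IsFunctionField k K) [IsAlgClosed k] [CharZero k]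
    (hg0 : genus k K = 0) (d r : ℕ) (D : Divisor k K) (hD : D.deg = d)
    (V : Submodule k K) (hV : V ≤ L D) (hVr : Module.finrank k ↥V = r + 1)
    (Q : Place k K) (hcusp : r ≤ aDim V D Q 2)
    (P P' : Place k K) (hP : P ≠ Q) (hP' : P' ≠ Q)
    (f g : K) (hf : f ∈ V) (hg : g ∈ V) (hf0 : f ≠ 0) (hg0' : g ≠ 0)
    (hfs : ∀ R : Place k K, R ≠ P → R ≠ P' → (FunFld.div k f + D) R = 0)
    (hgs : ∀ R : Place k K, R ≠ P → R ≠ P' → (FunFld.div k g + D) R = 0) :
    ∃ c : k, g = c • f := by
  classical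
  by_cases hPP : P = P'
  · subst hPP
    have hE : ∀ z : K, z ≠ 0 → z ∈ V →
        (∀ R : Place k K, R ≠ P → R ≠ P → (FunFld.div k z + D) R = 0) →
        FunFld.div k z + D = Finsupp.single P (d : ℤ) := by
      intro z hz0 hzV hzs
      have h1 : FunFld.div k z + D = Finsupp.single P ((FunFld.div k z + D) P) := by
        ext R
        by_cases hR : R = P
        · subst hR; rw [Finsupp.single_eq_same]
        · rw [Finsupp.single_eq_of_ne hR, hzs R hR hR]
      have h2 : (FunFld.div k z + D).deg = d := by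
        rw [add_comm, deg_add_div hK, hD]
      rw [h1, deg_single, Place.deg_eq_one hK] at h2
      rw [h1]
      congr 1
      simpa using h2
    have h1 := hE f hf0 hf hfs
    have h2 := hE g hg0' hg hgs
    have h3 : FunFld.div k g = FunFld.div k f := add_right_cancel (h2.trans h1.symm)
    have h4 : g * f⁻¹ ∈ L (0 : Divisor k K) := by
      rw [mem_L_iff_div hK (mul_ne_zero hg0' (inv_ne_zero hf0)), zero_add,
        div_mul hK hg0' (inv_ne_zero hf0), div_inv hK, h3, add_neg_cancel]
    rw [L_zero hK, Submodule.one_eq_range] at h4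
    obtain ⟨c, hc⟩ := h4
    refine ⟨c, ?_⟩
    have hc' : algebraMap k K c = g * f⁻¹ := by simpa using hc
    rw [Algebra.smul_def, hc', mul_assoc, inv_mul_cancel₀ hf0, mul_one]
  by_contra hne
  push Not at hne
  have hli : LinearIndependent k ![g, f] := by
    rw [linearIndependent_fin2]
    exact ⟨by simpa using hf0, fun a h => hne a (by simpa using h.symm)⟩
  set V2 : Submodule k K := Submodule.span k {f, g} with hV2
  have hV2V : V2 ≤ V := by
    rw [hV2, Submodule.span_le]
    intro x hx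
    rcases hx with rfl | rfl
    · exact hf
    · exact hg
  haveI : FiniteDimensional k V := Module.finite_of_finrank_pos (by omega)
  haveI : FiniteDimensional k V2 := Submodule.finiteDimensional_of_le hV2V
  have hV2r : Module.finrank k ↥V2 = 1 + 1 := by
    have h1 := finrank_span_eq_card hli
    have h2 : Set.range ![g, f] = {f, g} := by
      ext x
      simp only [Set.mem_range, Set.mem_insert_iff, Set.mem_singleton_iff]
      constructor
      · rintro ⟨i, rfl⟩
        fin_cases i
        · right; rfl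
        · left; rfl
      · rintro (rfl | rfl)
        · exact ⟨1, rfl⟩
        · exact ⟨0, rfl⟩
    rw [h2] at h1
    rw [hV2, h1]
    simp
  have hV2L : V2 ≤ L D := hV2V.trans hV
  -- the cusp
  have hc2 : 1 ≤ aDim V2 D Q 2 := by
    unfold aDim at hcusp ⊢
    set Vc := V ⊓ L (D - Finsupp.single Q 2) with hVc
    haveI : FiniteDimensional k Vc := Submodule.finiteDimensional_of_le inf_le_left
    have h1 := Submodule.finrank_sup_add_finrank_inf_eq V2 Vc
    have h2 : Module.finrank k ↥(V2 ⊔ Vc) ≤ r + 1 := by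
      rw [← hVr]
      exact Submodule.finrank_mono (sup_le hV2V inf_le_left)
    have h3 : V2 ⊓ Vc = V2 ⊓ L (D - Finsupp.single Q 2) := by
      rw [hVc, ← inf_assoc, inf_eq_left.mpr hV2V]
    rw [h3] at h1
    omega
  have hQ := SS_ge_of_cusp hK hD hc2
  have hw := w3 hK hg0 hD hV2L hV2r P P' Q hPP hP hP'
  -- two-point lower bound
  have hsum : 2 * d ≤ SS V2 D P d + SS V2 D P' d := by
    unfold SS
    rw [← Finset.sum_range_reflect (fun j => aDim V2 D P' ((j : ℤ) + 1)) d,
      ← Finset.sum_add_distrib]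
    calc 2 * d = ∑ j ∈ Finset.range d, 2 := by
          rw [Finset.sum_const, Finset.card_range, smul_eq_mul, mul_comm]
      _ ≤ ∑ j ∈ Finset.range d,
          (aDim V2 D P ((j : ℤ) + 1) + aDim V2 D P' (((d - 1 - j : ℕ) : ℤ) + 1)) := by
          refine Finset.sum_le_sum fun j hj => ?_
          rw [Finset.mem_range] at hj
          have e2 : ((d - 1 - j : ℕ) : ℤ) + 1 = (d : ℤ) + 1 - ((j : ℤ) + 1) := by
            rw [Nat.cast_sub (by omega), Nat.cast_sub (by omega)]
            push_cast
            ring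
          rw [e2]
          unfold aDim
          exact two_le_of_mem hV2.symm hV2r hf0 hg0'
            (mem_or_mem hK hD hPP hf0 (hV hf) hfs _) (mem_or_mem hK hD hPP hg0' (hV hg) hgs _)
  norm_num at hQ hw
  omega


/-- Variant of `exists_div_eq_of_aDim` recording membership in `V`. -/
theorem exists_mem_div_eq_of_aDim (hK : IsFunctionField k K) {V : Submodule k K} {D : Divisor k K}
    {r : ℕ} (hVr : Module.finrank k ↥V = r + 1) {P Q : Place k K} (hPQ : P ≠ Q) (hP : P.deg = 1)
    (hQ : Q.deg = 1) {n m : ℤ} (hnm : D.deg = n + m)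
    (h : r + 2 ≤ aDim V D P n + aDim V D Q m) :
    ∃ f : K, f ∈ V ∧ f ≠ 0 ∧ FunFld.div k f = Finsupp.single P n + Finsupp.single Q m - D := by
  unfold aDim at h
  haveI : FiniteDimensional k V := Module.finite_of_finrank_pos (by omega)
  set V₁ := V ⊓ L (D - Finsupp.single P n) with hV₁
  set V₂ := V ⊓ L (D - Finsupp.single Q m) with hV₂
  haveI : FiniteDimensional k V₁ := Submodule.finiteDimensional_of_le inf_le_left
  haveI : FiniteDimensional k V₂ := Submodule.finiteDimensional_of_le inf_le_left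
  have h1 := Submodule.finrank_sup_add_finrank_inf_eq V₁ V₂
  have h2 : Module.finrank k ↥(V₁ ⊔ V₂) ≤ r + 1 := by
    rw [← hVr]
    exact Submodule.finrank_mono (sup_le inf_le_left inf_le_left)
  have h3 : 0 < Module.finrank k ↥(V₁ ⊓ V₂) := by omega
  haveI : Nontrivial ↥(V₁ ⊓ V₂) := Module.nontrivial_of_finrank_pos h3
  obtain ⟨f, hf⟩ := exists_ne (0 : ↥(V₁ ⊓ V₂))
  have hf0 : (f : K) ≠ 0 := fun h0 => hf (Subtype.ext h0)
  have hle : V₁ ⊓ V₂ ≤ L (D - Finsupp.single P n - Finsupp.single Q m) :=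
    le_trans (inf_le_inf inf_le_right inf_le_right) (L_inf_L_le hPQ n m)
  have hfL := hle f.2
  rw [mem_L_iff_div hK hf0] at hfL
  have hdeg : (D - Finsupp.single P n - Finsupp.single Q m + FunFld.div k (f : K)).deg = 0 := by
    rw [deg_add_div hK, deg_sub, deg_sub, deg_single, deg_single, hP, hQ, hnm]
    push_cast
    ring
  have h0 := eq_zero_of_nonneg_of_deg_eq_zero hK hfL hdeg
  refine ⟨f, (inf_le_left : V₁ ⊓ V₂ ≤ V₁).trans inf_le_left f.2, hf0, ?_⟩
  have : FunFld.div k (f : K) = (D - Finsupp.single P n - Finsupp.single Q m +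
      FunFld.div k (f : K)) - (D - Finsupp.single P n - Finsupp.single Q m) := by abel
  rw [this, h0]
  abel

/-- S19710 -/
theorem vanishing_unique [IsAlgClosed k] [CharZero k] (hKY : IsFunctionField k K)
    (hg0 : genus k K = 0) {KZ : Type w} [Field KZ] [Algebra k KZ] (hKZ : IsFunctionField k KZ)
    (d r : ℕ) (DY : Divisor k K) (hDY : DY.deg = d) (DZ : Divisor k KZ) (hDZ : DZ.deg = d)
    (VY : Submodule k K) (hVY : VY ≤ L DY) (hVYr : Module.finrank k ↥VY = r + 1)
    (VZ : Submodule k KZ)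
    (QY : Place k K) (hcusp : r ≤ aDim VY DY QY 2)
    (P : Place k K) (hP : P ≠ QY) (Q : Place k KZ)
    (hcomp : ∀ n : ℕ, n ≤ d + 1 → aDim VY DY P (n : ℤ) + aDim VZ DZ Q ((d : ℤ) + 1 - n) = r + 1)
    (P' : Place k K) (hP'P : P' ≠ P) (hP'Q : P' ≠ QY) :
    {i : ℕ | i ≤ r ∧ ∃ m : ℕ,
        aDim VY DY P' (m : ℤ) = r + 1 - i ∧ aDim VY DY P' ((m : ℤ) + 1) = r - i ∧
        aDim VZ DZ Q (m : ℤ) = r + 1 - i ∧ aDim VZ DZ Q ((m : ℤ) + 1) = r - i}.Subsingleton := by
  classical
  have key : ∀ (i m : ℕ), i ≤ r → aDim VY DY P' (m : ℤ) = r + 1 - i →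
      aDim VZ DZ Q (m : ℤ) = r + 1 - i → aDim VZ DZ Q ((m : ℤ) + 1) = r - i →
      m ≤ d ∧ ∃ f : K, f ∈ VY ∧ f ≠ 0 ∧ FunFld.div k f =
        Finsupp.single P' (m : ℤ) + Finsupp.single P (((d - m : ℕ)) : ℤ) - DY := by
    intro i m hi h1 h3 h4
    have hmd : m ≤ d := by
      by_contra hlt
      have := aDim_eq_zero_of_deg_lt hKZ VZ (D := DZ) (Place.deg_eq_one hKZ Q) (n := (m : ℤ)) (by
        rw [hDZ]
        have : d < m := by omega
        exact_mod_cast this)
      omega
    refine ⟨hmd, ?_⟩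
    have h5 := hcomp (d - m) (by omega)
    have e : (d : ℤ) + 1 - ((d - m : ℕ) : ℤ) = (m : ℤ) + 1 := by
      rw [Nat.cast_sub hmd]
      ring
    rw [e, h4] at h5
    apply exists_mem_div_eq_of_aDim hKY hVYr hP'P (Place.deg_eq_one hKY _) (Place.deg_eq_one hKY _)
    · rw [hDY, Nat.cast_sub hmd]
      ring
    · omega
  rintro i ⟨hi, m, h1, h2, h3, h4⟩ i' ⟨hi', m', h1', h2', h3', h4'⟩
  obtain ⟨hmd, f, hfV, hf0, hfdiv⟩ := key i m hi h1 h3 h4
  obtain ⟨hmd', f', hfV', hf0', hfdiv'⟩ := key i' m' hi' h1' h3' h4'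
  have hsupp : ∀ (z : K) (n : ℕ), FunFld.div k z =
      Finsupp.single P' (n : ℤ) + Finsupp.single P (((d - n : ℕ)) : ℤ) - DY →
      ∀ R : Place k K, R ≠ P' → R ≠ P → (FunFld.div k z + DY) R = 0 := by
    intro z n hz R hR1 hR2
    rw [hz, sub_add_cancel, Finsupp.add_apply, Finsupp.single_eq_of_ne hR1,
      Finsupp.single_eq_of_ne hR2, add_zero]
  obtain ⟨c, hc⟩ := pencil_unique hKY hg0 d r DY hDY VY hVY hVYr QY hcusp P' P hP'Q hP f f' hfV hfV'
    hf0 hf0' (hsupp f m hfdiv) (hsupp f' m' hfdiv')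
  have hc0 : c ≠ 0 := by
    rintro rfl
    rw [zero_smul] at hc
    exact hf0' hc
  have hdiveq : FunFld.div k f' = FunFld.div k f := by
    rw [hc, Algebra.smul_def, div_mul hKY ((map_ne_zero (algebraMap k K)).2 hc0) hf0,
      div_algebraMap hKY, zero_add]
  rw [hfdiv, hfdiv'] at hdiveq
  have h6 := congrArg (fun E : Divisor k K => E P') hdiveq
  simp only [Finsupp.sub_apply, Finsupp.add_apply, Finsupp.single_eq_same,
    Finsupp.single_eq_of_ne hP'P, add_zero] at h6
  have hmm : m' = m := by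
    have : (m' : ℤ) = m := by linarith
    exact_mod_cast this
  subst hmm
  omega

end FF

end Groth.Agent.Lib.helper10
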