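import Groth.Agent.Lib.Helper10.FunFld22

/-!
Function fields of one variable (helper10), part 26: Weierstrass gaps at a place of degree one.
-/

set_option autoImplicit false
set_option linter.unusedSectionVars false
set_option linter.style.haveILetI false

universe u v w

open IntermediateField FunFld

namespace Groth.Agent.Lib.helper10

namespace FF

open RD

variable {k : Type u} {K : Type v} [Field k] [Field K] [Algebra k K]

/-- `m` is a gap at `P`: `L(mP) = L((m-1)P)`. -/
def IsGap (P : Place k K) (m : ℕ) : Prop :=
  L (Finsupp.single P (m : ℤ) : Divisor k K) = L (Finsupp.single P ((m : ℤ) - 1))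

theorem L_single_le (P : Place k K) (m : ℤ) :
    L (Finsupp.single P (m - 1) : Divisor k K) ≤ L (Finsupp.single P m) := by
  classical
  apply L_mono
  intro Q
  by_cases hQ : Q = P
  · subst hQ
    simp
  · simp [Finsupp.single_eq_of_ne hQ]

/-- A non-gap is the exact pole order of some function with no other pole. -/
theorem not_isGap_iff (P : Place k K) (m : ℕ) :
    ¬ IsGap P m ↔ ∃ f : K, f ∈ L (Finsupp.single P (m : ℤ) : Divisor k K) ∧
      P.1 f = WithZero.exp (m : ℤ) := by
  classical
  constructor
  · intro h
    have hlt : L (Finsupp.single P ((m : ℤ) - 1) : Divisor k K) < L (Finsupp.single P (m : ℤ)) :=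
      lt_of_le_of_ne (L_single_le P m) (fun e => h e.symm)
    obtain ⟨f, hf, hnf⟩ := SetLike.exists_of_lt hlt
    refine ⟨f, hf, ?_⟩
    have h1 := hf P
    rw [Finsupp.single_eq_same] at h1
    apply le_antisymm h1
    by_contra hlt'
    rw [not_le, lt_exp_iff_le_exp_sub_one] at hlt'
    apply hnf
    intro Q
    by_cases hQ : Q = P
    · subst hQ
      rw [Finsupp.single_eq_same]
      exact hlt'
    · have := hf Q
      rw [Finsupp.single_eq_of_ne hQ] at this ⊢
      exact this
  · rintro ⟨f, hf, hval⟩ h
    rw [IsGap] at h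
    rw [h] at hf
    have h1 := hf P
    rw [Finsupp.single_eq_same, hval, WithZero.exp_le_exp] at h1
    omega

/-- Non-gaps are closed under addition. -/
theorem not_isGap_add (P : Place k K) {n m : ℕ} (hn : ¬ IsGap P n) (hm : ¬ IsGap P m) :
    ¬ IsGap P (n + m) := by
  classical
  rw [not_isGap_iff] at hn hm ⊢
  obtain ⟨f, hf, hfv⟩ := hn
  obtain ⟨g, hg, hgv⟩ := hm
  refine ⟨f * g, ?_, ?_⟩
  · intro Q
    rw [Valuation.map_mul]
    by_cases hQ : Q = P
    · subst hQ
      rw [Finsupp.single_eq_same, hfv, hgv, ← WithZero.exp_add]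
      push_cast
      exact le_rfl
    · have h1 := hf Q
      have h2 := hg Q
      rw [Finsupp.single_eq_of_ne hQ, WithZero.exp_zero] at h1 h2 ⊢
      exact mul_le_one' h1 h2
  · rw [Valuation.map_mul, hfv, hgv, ← WithZero.exp_add]
    push_cast
    rfl

section count

variable (hK : IsFunctionField k K) [IsAlgClosed k]
include hK

theorem ell_single_step (P : Place k K) (m : ℕ) :
    (IsGap P m ∧ ell (Finsupp.single P (m : ℤ) : Divisor k K) =
        ell (Finsupp.single P ((m : ℤ) - 1) : Divisor k K)) ∨
    (¬ IsGap P m ∧ ell (Finsupp.single P (m : ℤ) : Divisor k K) =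
        ell (Finsupp.single P ((m : ℤ) - 1) : Divisor k K) + 1) := by
  classical
  have hle : (Finsupp.single P ((m : ℤ) - 1) : Divisor k K) ≤ Finsupp.single P (m : ℤ) := by
    intro Q
    by_cases hQ : Q = P
    · subst hQ; simp
    · simp [Finsupp.single_eq_of_ne hQ]
  have h1 := ell_le_add hK hle
  rw [deg_single, deg_single, Place.deg_eq_one hK P] at h1
  have h2 := ell_mono hK hle
  have h3 : ell (Finsupp.single P (m : ℤ) : Divisor k K) ≤
      ell (Finsupp.single P ((m : ℤ) - 1) : Divisor k K) + 1 := by
    have : (ell (Finsupp.single P (m : ℤ) : Divisor k K) : ℤ) ≤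
        ell (Finsupp.single P ((m : ℤ) - 1) : Divisor k K) + 1 := by
      push_cast at h1
      linarith
    exact_mod_cast this
  by_cases hgap : IsGap P m
  · left
    refine ⟨hgap, ?_⟩
    unfold ell
    rw [hgap]
  · right
    refine ⟨hgap, ?_⟩
    by_contra hne
    have heq : ell (Finsupp.single P (m : ℤ) : Divisor k K) =
        ell (Finsupp.single P ((m : ℤ) - 1) : Divisor k K) := by omega
    apply hgap
    haveI := finiteDimensional_L hK (Finsupp.single P (m : ℤ) : Divisor k K)
    exact (Submodule.eq_of_le_of_finrank_eq (L_single_le P m) heq.symm).symm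

open scoped Classical in
/-- The number of gaps in `[1, N]`. -/
noncomputable def gapCount (P : Place k K) (N : ℕ) : ℕ :=
  ((Finset.Icc 1 N).filter (fun m => IsGap P m)).card

omit hK in
theorem gapCount_succ (P : Place k K) (N : ℕ) :
    gapCount P (N + 1) = gapCount P N + (open scoped Classical in if IsGap P (N + 1) then 1 else 0) := by
  classical
  unfold gapCount
  have : Finset.Icc 1 (N + 1) = insert (N + 1) (Finset.Icc 1 N) := by
    ext m
    simp only [Finset.mem_Icc, Finset.mem_insert]
    omega
  rw [this, Finset.filter_insert]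
  split_ifs with h
  · rw [Finset.card_insert_of_notMem]
    intro hmem
    have := (Finset.mem_Icc.1 (Finset.mem_filter.1 hmem).1).2
    omega
  · rfl

theorem ell_add_gapCount (P : Place k K) (N : ℕ) :
    ell (Finsupp.single P (N : ℤ) : Divisor k K) + gapCount P N = N + 1 := by
  classical
  induction N with
  | zero =>
    have : gapCount P 0 = 0 := by
      unfold gapCount
      simp
    rw [this]
    simp only [Nat.cast_zero, Finsupp.single_zero, add_zero, zero_add]
    exact ell_zero hK
  | succ N ih =>
    rw [gapCount_succ]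
    have e : (((N + 1 : ℕ) : ℤ)) - 1 = (N : ℤ) := by push_cast; ring
    rcases ell_single_step hK P (N + 1) with ⟨hg, h⟩ | ⟨hg, h⟩
    · rw [if_pos hg, h, e]
      omega
    · rw [if_neg hg, h, e]
      omega

omit hK in
/-- S11045: below a gap `n`, at least half of the integers are gaps. -/
theorem gap_half (P : Place k K) {n : ℕ} (hn : 1 ≤ n) (hgap : IsGap P n) :
    n - 1 ≤ 2 * gapCount P (n - 1) := by
  classical
  set A := (Finset.Icc 1 (n - 1)).filter (fun m => IsGap P m) with hA
  set B := (Finset.Icc 1 (n - 1)).filter (fun m => ¬ IsGap P m) with hB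
  have hAB : A.card + B.card = n - 1 := by
    rw [hA, hB, Finset.card_filter_add_card_filter_not]
    simp
  have hBA : B.card ≤ A.card := by
    apply Finset.card_le_card_of_injOn (fun m => n - m)
    · intro m hm
      rw [Finset.mem_coe, hB, Finset.mem_filter, Finset.mem_Icc] at hm
      rw [Finset.mem_coe, hA, Finset.mem_filter, Finset.mem_Icc]
      beta_reduce
      refine ⟨⟨by omega, by omega⟩, ?_⟩
      by_contra hng
      have := not_isGap_add P hm.2 hng
      rw [Nat.add_sub_cancel' (by omega : m ≤ n)] at this
      exact this hgap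
    · intro a ha b hb hab
      rw [Finset.mem_coe, hB, Finset.mem_filter, Finset.mem_Icc] at ha hb
      simp only at hab
      omega
  have hgc : gapCount P (n - 1) = A.card := rfl
  rw [hgc]
  omega


omit hK in
theorem gapCount_eq_of_no_gap (P : Place k K) {a b : ℕ} (hab : a ≤ b)
    (h : ∀ m, a < m → m ≤ b → ¬ IsGap P m) : gapCount P b = gapCount P a := by
  classical
  induction b, hab using Nat.le_induction with
  | base => rfl
  | succ b hab ih =>
    rw [gapCount_succ, if_neg (h (b + 1) (by omega) le_rfl), add_zero]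
    exact ih fun m h1 h2 => h m h1 (by omega)

omit hK in
theorem ncard_gaps_eq (P : Place k K) (N : ℕ) :
    Set.ncard {m : ℕ | 1 ≤ m ∧ m ≤ N ∧
      L (Finsupp.single P (m : ℤ) : Divisor k K) = L (Finsupp.single P ((m : ℤ) - 1))} =
      gapCount P N := by
  classical
  unfold gapCount
  rw [← Set.ncard_coe_finset]
  congr 1
  ext m
  simp only [Set.mem_ofPred_eq, Finset.coe_filter, Finset.mem_Icc, IsGap]
  tauto

theorem gapCount_total (P : Place k K) (hg : 1 ≤ genus k K) :
    gapCount P (2 * genus k K - 1) = genus k K := by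
  have h1 := ell_add_gapCount hK P (2 * genus k K - 1)
  have hdeg : Divisor.deg (Finsupp.single P ((2 * genus k K - 1 : ℕ) : ℤ) : Divisor k K) =
      2 * (genus k K : ℤ) - 1 := by
    rw [deg_single, Place.deg_eq_one hK P, Nat.cast_sub (by omega)]
    push_cast
    ring
  have h2 := ell_of_deg_ge hK (D := (Finsupp.single P ((2 * genus k K - 1 : ℕ) : ℤ) : Divisor k K))
    (by rw [hdeg])
  rw [hdeg] at h2
  have h3 : ell (Finsupp.single P ((2 * genus k K - 1 : ℕ) : ℤ) : Divisor k K) = genus k K := by
    have : (ell (Finsupp.single P ((2 * genus k K - 1 : ℕ) : ℤ) : Divisor k K) : ℤ) = genus k K := by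
      rw [h2]; ring
    exact_mod_cast this
  omega

/-- S11063: the `l`-th gap is at most `2l - 1`. -/
theorem le_gapCount (P : Place k K) {l : ℕ} (hl : 1 ≤ l) (hlg : l ≤ genus k K) :
    l ≤ gapCount P (2 * l - 1) := by
  classical
  by_contra hlt
  rw [not_le] at hlt
  have hg1 : 1 ≤ genus k K := le_trans hl hlg
  have htot := gapCount_total hK P hg1
  have hex : ∃ n, 2 * l ≤ n ∧ IsGap P n := by
    by_contra hno
    push Not at hno
    have := gapCount_eq_of_no_gap P (a := 2 * l - 1) (b := 2 * genus k K - 1) (by omega)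
      (fun m h1 _ => hno m (by omega))
    omega
  have hspec := Nat.find_spec hex
  set n' := Nat.find hex with hn'
  have hmin : ∀ m, 2 * l - 1 < m → m ≤ n' - 1 → ¬ IsGap P m := by
    intro m h1 h2 hgap
    have := Nat.find_min' hex ⟨(by omega : 2 * l ≤ m), hgap⟩
    omega
  have h1 := gapCount_eq_of_no_gap P (a := 2 * l - 1) (b := n' - 1) (by omega) hmin
  have h2 := gap_half P (by omega : 1 ≤ n') hspec.2
  omega

end count

end FF

end Groth.Agent.Lib.helper10
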