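import Groth.Agent.Lib.Helper10.FunFld27
import Groth.Prelude.Def_W4bk4goldsch45

/-!
Function fields of one variable (helper10), part 29: the base-point-free pencil trick and a
criterion for a projective map to be nonsingular at a place.
-/

set_option autoImplicit false
set_option linter.unusedSectionVars false
set_option linter.style.haveILetI false

universe u v w

open IntermediateField FunFld Polynomial

namespace Groth.Agent.Lib.helper10

namespace FF

open RD

variable {k : Type u} {K : Type v} [Field k] [Field K] [Algebra k K]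

theorem mem_L_sub_single_iff {F : Divisor k K} {Q : Place k K} {t : K} (ht : t ∈ L F) :
    t ∈ L (F - Finsupp.single Q 1) ↔ Q.1 t < WithZero.exp (F Q) := by
  classical
  rw [lt_exp_iff_le_exp_sub_one]
  constructor
  · intro h
    have := h Q
    rwa [Finsupp.sub_apply, Finsupp.single_eq_same] at this
  · intro h Q'
    by_cases hQ : Q' = Q
    · subst hQ
      rwa [Finsupp.sub_apply, Finsupp.single_eq_same]
    · rw [Finsupp.sub_apply, Finsupp.single_eq_of_ne hQ, sub_zero]
      exact ht Q'

theorem L_sub_single_le (F : Divisor k K) (Q : Place k K) :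
    L (F - Finsupp.single Q 1) ≤ L F := by
  classical
  apply L_mono
  intro Q'
  by_cases hQ : Q' = Q
  · subst hQ
    rw [Finsupp.sub_apply, Finsupp.single_eq_same]
    omega
  · rw [Finsupp.sub_apply, Finsupp.single_eq_of_ne hQ, sub_zero]

/-- A base-point-free pair in `L(F)`. -/
def IsBpfPair (F : Divisor k K) (s t : K) : Prop :=
  s ∈ L F ∧ t ∈ L F ∧ s ≠ 0 ∧ t ≠ 0 ∧
    ∀ Q : Place k K, Q.1 s = WithZero.exp (F Q) ∨ Q.1 t = WithZero.exp (F Q)

/-- The base-point-free pencil trick. -/
theorem pencil (hK : IsFunctionField k K) {F G : Divisor k K} {s t : K} (h : IsBpfPair F s t)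
    (hG : 2 * (genus k K : ℤ) - 1 ≤ G.deg) (hGF : 2 * (genus k K : ℤ) - 1 ≤ (G - F).deg)
    (hFG : 2 * (genus k K : ℤ) - 1 ≤ (F + G).deg) {x : K} (hx : x ∈ L (F + G)) :
    ∃ a ∈ L G, ∃ b ∈ L G, x = s * a + t * b := by
  classical
  obtain ⟨hs, ht, hs0, ht0, hbpf⟩ := h
  haveI := finiteDimensional_L hK G
  haveI := finiteDimensional_L hK (F + G)
  haveI := finiteDimensional_L hK (G - F)
  let T : (↥(L G) × ↥(L G)) →ₗ[k] K :=
    ((LinearMap.mulLeft k s).comp (L G).subtype).coprod ((LinearMap.mulLeft k t).comp (L G).subtype)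
  have hT : ∀ p : ↥(L G) × ↥(L G), T p = s * p.1.1 + t * p.2.1 := by
    intro p
    simp [T]
  have hrange : LinearMap.range T ≤ L (F + G) := by
    rintro _ ⟨p, rfl⟩
    rw [hT]
    exact add_mem (W4c6gradedringsgw.mul_mem_L hs p.1.2) (W4c6gradedringsgw.mul_mem_L ht p.2.2)
  -- the kernel injects into `L(G - F)`
  have hker : ∀ p ∈ LinearMap.ker T, t⁻¹ * (p.1 : K) ∈ L (G - F) := by
    intro p hp
    rw [LinearMap.mem_ker, hT] at hp
    intro Q
    rw [Finsupp.sub_apply, sub_eq_add_neg, WithZero.exp_add]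
    rcases hbpf Q with hQ | hQ
    · -- use `b / s`
      have e : t⁻¹ * (p.1 : K) = -(s⁻¹ * (p.2 : K)) := by
        field_simp
        linear_combination hp
      rw [e, Valuation.map_neg, Valuation.map_mul, map_inv₀, hQ, ← WithZero.exp_neg, mul_comm]
      gcongr
      exact p.2.2 Q
    · rw [Valuation.map_mul, map_inv₀, hQ, ← WithZero.exp_neg, mul_comm]
      gcongr
      exact p.1.2 Q
  let j : ↥(LinearMap.ker T) →ₗ[k] ↥(L (G - F)) :=
    LinearMap.codRestrict (L (G - F))
      ((LinearMap.mulLeft k t⁻¹).comp ((L G).subtype.comp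
        ((LinearMap.fst k ↥(L G) ↥(L G)).comp (LinearMap.ker T).subtype)))
      (fun p => by simpa using hker p.1 p.2)
  have hj : Function.Injective j := by
    rw [injective_iff_map_eq_zero]
    intro p hp
    have h1 : t⁻¹ * ((p.1.1 : ↥(L G)) : K) = 0 := by
      have := congrArg Subtype.val hp
      simpa [j] using this
    have h2 : ((p.1.1 : ↥(L G)) : K) = 0 := by
      rcases mul_eq_zero.mp h1 with h | h
      · exact absurd (inv_eq_zero.mp h) ht0
      · exact h
    have h3 := p.2
    rw [LinearMap.mem_ker, hT, h2, mul_zero, zero_add] at h3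
    have h4 : ((p.1.2 : ↥(L G)) : K) = 0 := by
      rcases mul_eq_zero.mp h3 with h | h
      · exact absurd h ht0
      · exact h
    apply Subtype.ext
    apply Prod.ext
    · exact Subtype.ext h2
    · exact Subtype.ext h4
  have hkdim : Module.finrank k ↥(LinearMap.ker T) ≤ ell (G - F) :=
    LinearMap.finrank_le_finrank_of_injective hj
  have hrn := LinearMap.finrank_range_add_finrank_ker T
  rw [Module.finrank_prod] at hrn
  have e1 := ell_of_deg_ge hK hG
  have e2 := ell_of_deg_ge hK hGF
  have e3 := ell_of_deg_ge hK hFG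
  rw [deg_sub] at e2
  rw [deg_add] at e3
  have hdim : ell (F + G) ≤ Module.finrank k ↥(LinearMap.range T) := by
    unfold ell at e1 e2 e3 hkdim ⊢
    omega
  have heq : LinearMap.range T = L (F + G) :=
    Submodule.eq_of_le_of_finrank_le hrange hdim
  rw [← heq] at hx
  obtain ⟨p, rfl⟩ := hx
  exact ⟨p.1.1, p.1.2, p.2.1, p.2.2, hT p⟩

/-- Existence of base-point-free pairs over an infinite (algebraically closed) field. -/
theorem exists_bpf_pair (hK : IsFunctionField k K) [IsAlgClosed k] (F : Divisor k K)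
    (hF : ∀ Q : Place k K, L (F - Finsupp.single Q 1) ≠ L F) : ∃ s t, IsBpfPair F s t := by
  classical
  obtain ⟨P0⟩ := exists_place hK
  have hne : L F ≠ ⊥ := by
    intro h
    apply hF P0
    rw [h, eq_bot_iff, ← h]
    exact L_sub_single_le F P0
  obtain ⟨s, hs, hs0⟩ := (Submodule.ne_bot_iff _).mp hne
  set Z : Divisor k K := F + FunFld.div k s with hZ
  have hZs : ∀ Q : Place k K, Q ∉ Z.support → Q.1 s = WithZero.exp (F Q) := by
    intro Q hQ
    rw [Finsupp.notMem_support_iff, hZ, Finsupp.add_apply, div_apply hK] at hQ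
    rw [Place.val_eq_exp_neg_ord Q hs0]
    congr 1
    omega
  let p : Option ↥(Z.support : Set (Place k K)) → Submodule k ↥(L F)
    | none => ⊥
    | some Q => Submodule.comap (L F).subtype (L (F - Finsupp.single Q.1 1))
  have hp : ∀ i, p i ≠ ⊤ := by
    intro i
    cases i with
    | none =>
      show (⊥ : Submodule k ↥(L F)) ≠ ⊤
      intro h
      have : (⟨s, hs⟩ : ↥(L F)) ∈ (⊥ : Submodule k ↥(L F)) := by rw [h]; trivial
      rw [Submodule.mem_bot] at this
      exact hs0 (congrArg Subtype.val this)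
    | some Q =>
      show Submodule.comap (L F).subtype (L (F - Finsupp.single Q.1 1)) ≠ ⊤
      intro h
      apply hF Q.1
      apply le_antisymm (L_sub_single_le F Q.1)
      intro x hx
      have : (⟨x, hx⟩ : ↥(L F)) ∈ Submodule.comap (L F).subtype (L (F - Finsupp.single Q.1 1)) := by
        rw [h]; trivial
      exact this
  haveI : Finite (Option ↥(Z.support : Set (Place k K))) := by
    haveI : Finite ↥(Z.support : Set (Place k K)) := (Finset.finite_toSet _).to_subtype
    infer_instance
  obtain ⟨t, ht⟩ := Submodule.exists_forall_notMem_of_forall_ne_top p hp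
  have ht0 : (t : K) ≠ 0 := by
    intro h
    apply ht none
    show t ∈ (⊥ : Submodule k ↥(L F))
    rw [Submodule.mem_bot]
    exact Subtype.ext h
  refine ⟨s, t.1, hs, t.2, hs0, ht0, ?_⟩
  intro Q
  by_cases hQ : Q ∈ Z.support
  · right
    have h1 := ht (some ⟨Q, hQ⟩)
    have h2 : (t : K) ∉ L (F - Finsupp.single Q 1) := h1
    rw [mem_L_sub_single_iff t.2, not_lt] at h2
    exact le_antisymm (t.2 Q) h2
  · left
    exact hZs Q hQ

/-- The main criterion: an effective divisor `E` not containing `P`, with `E` and `E - P`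
base point free and of degree at least the genus, generates the local ring at `P`. -/
theorem embed_main (hK : IsFunctionField k K) [IsAlgClosed k] (E : Divisor k K) (hE : 0 ≤ E)
    (P : Place k K) (hP : E P = 0) (hdeg : (genus k K : ℤ) ≤ E.deg) (hdeg1 : 1 ≤ E.deg)
    (hbpf : ∀ Q : Place k K, L (E - Finsupp.single Q 1) ≠ L E)
    (hbpf' : ∀ Q : Place k K,
      L (E - Finsupp.single P 1 - Finsupp.single Q 1) ≠ L (E - Finsupp.single P 1))
    (A : Subalgebra k K) (hA : ∀ f ∈ L E, f ∈ A) (hAP : ∀ a ∈ A, P.1 a ≤ 1) :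
    ∀ z : K, P.1 z ≤ 1 → ∃ u ∈ A, ∃ w ∈ A, P.1 w = 1 ∧ z * w = u := by
  classical
  obtain ⟨s, t, hstE⟩ := exists_bpf_pair hK E hbpf
  obtain ⟨s', t', hstE'⟩ := exists_bpf_pair hK (E - Finsupp.single P 1) hbpf'
  have hdegP : Divisor.deg (Finsupp.single P 1 : Divisor k K) = 1 := by
    rw [deg_single, Place.deg_eq_one hK P]; rfl
  set d : ℤ := E.deg with hd
  set g' : ℤ := (genus k K : ℤ) with hg'
  let nE : ℕ → Divisor k K := fun m => (m : ℤ) • E
  have hnE_deg : ∀ m : ℕ, (nE m).deg = m * d := fun m => deg_zsmul _ _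
  have hnE_apply : ∀ (m : ℕ) (Q : Place k K), nE m Q = m * E Q := by
    intro m Q
    simp only [nE, Finsupp.smul_apply, smul_eq_mul]
  have hnE_mono : ∀ {a b : ℕ}, a ≤ b → nE a ≤ nE b := by
    intro a b hab Q
    rw [hnE_apply, hnE_apply]
    have h1 : (0 : ℤ) ≤ E Q := hE Q
    have h2 : (a : ℤ) ≤ b := by exact_mod_cast hab
    exact mul_le_mul_of_nonneg_right h2 h1
  have hnE_succ : ∀ m : ℕ, nE (m + 1) = E + nE m := by
    intro m
    simp only [nE]
    push_cast
    rw [add_smul, one_smul, add_comm]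
  have hnE_nonneg : ∀ m : ℕ, 0 ≤ nE m := by
    intro m Q
    rw [hnE_apply]
    exact mul_nonneg (Int.natCast_nonneg m) (hE Q)
  -- the module `M`
  let M : Submodule ↥A K := Submodule.span ↥A (L (nE 3) : Set K)
  have hsmul : ∀ (a : K) (ha : a ∈ A) (x : K), x ∈ M → a * x ∈ M := by
    intro a ha x hx
    exact Submodule.smul_mem M (⟨a, ha⟩ : ↥A) hx
  have hM3 : ∀ m : ℕ, 3 ≤ m → ∀ x ∈ L (nE m), x ∈ M := by
    intro m hm
    induction m, hm using Nat.le_induction with
    | base => intro x hx; exact Submodule.subset_span hx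
    | succ m hm ih =>
      intro x hx
      rw [hnE_succ] at hx
      have hm' : (3 : ℤ) ≤ m := by exact_mod_cast hm
      obtain ⟨a, ha, b, hb, rfl⟩ := pencil hK hstE (G := nE m)
        (by rw [hnE_deg]; nlinarith) (by rw [deg_sub, hnE_deg]; nlinarith)
        (by rw [deg_add, hnE_deg]; nlinarith) hx
      exact add_mem (hsmul s (hA s hstE.1) a (ih a ha)) (hsmul t (hA t hstE.2.1) b (ih b hb))
  have hM : ∀ m : ℕ, ∀ x ∈ L (nE m), x ∈ M := by
    intro m x hx
    by_cases h : 3 ≤ m
    · exact hM3 m h x hx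
    · exact Submodule.subset_span (L_mono (hnE_mono (by omega)) hx)
  -- the ideal of `P`
  let I : Ideal ↥A :=
    { carrier := {a | P.1 (a : K) < 1}
      add_mem' := fun {a b} ha hb =>
        lt_of_le_of_lt (Valuation.map_add P.1 _ _) (max_lt ha hb)
      zero_mem' := by
        show P.1 ((0 : ↥A) : K) < 1
        rw [ZeroMemClass.coe_zero, Valuation.map_zero]
        exact zero_lt_one
      smul_mem' := fun c x hx => by
        show P.1 ((c : K) * (x : K)) < 1
        rw [Valuation.map_mul]
        calc P.1 (c : K) * P.1 (x : K) ≤ 1 * P.1 (x : K) := by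
              gcongr
              exact hAP c c.2
          _ < 1 := by rw [one_mul]; exact hx }
  have hE'le : L (E - Finsupp.single P 1) ≤ L E := L_sub_single_le E P
  have hIM4 : ∀ m : ℕ, 4 ≤ m → ∀ x ∈ L (nE m - Finsupp.single P 1), x ∈ I • M := by
    intro m hm x hx
    obtain ⟨m, rfl⟩ : ∃ m', m = m' + 1 := ⟨m - 1, by omega⟩
    have hm' : (3 : ℤ) ≤ m := by
      have : 3 ≤ m := by omega
      exact_mod_cast this
    have e : nE (m + 1) - Finsupp.single P 1 = (E - Finsupp.single P 1) + nE m := by
      rw [hnE_succ]; abel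
    rw [e] at hx
    obtain ⟨a, ha, b, hb, rfl⟩ := pencil hK hstE' (G := nE m)
      (by rw [hnE_deg]; nlinarith)
      (by rw [deg_sub, deg_sub, hnE_deg, hdegP]; nlinarith)
      (by rw [deg_add, deg_sub, hnE_deg, hdegP]; nlinarith) hx
    have hlt : ∀ f ∈ L (E - Finsupp.single P 1), P.1 f < 1 := by
      intro f hf
      have := hf P
      rw [Finsupp.sub_apply, Finsupp.single_eq_same, hP] at this
      refine lt_of_le_of_lt this ?_
      rw [← WithZero.exp_zero, WithZero.exp_lt_exp]
      norm_num
    have h1 : (⟨s', hA s' (hE'le hstE'.1)⟩ : ↥A) • a ∈ I • M :=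
      Submodule.smul_mem_smul (hlt s' hstE'.1) (hM m a ha)
    have h2 : (⟨t', hA t' (hE'le hstE'.2.1)⟩ : ↥A) • b ∈ I • M :=
      Submodule.smul_mem_smul (hlt t' hstE'.2.1) (hM m b hb)
    exact add_mem h1 h2
  have hIM : ∀ m : ℕ, ∀ x ∈ L (nE m - Finsupp.single P 1), x ∈ I • M := by
    intro m x hx
    by_cases h : 4 ≤ m
    · exact hIM4 m h x hx
    · refine hIM4 4 le_rfl x (L_mono ?_ hx)
      exact sub_le_sub_right (hnE_mono (by omega)) _
  -- Nakayama
  let A' : Submodule ↥A K := Submodule.span ↥A {(1 : K)}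
  have hle : M ≤ A' ⊔ I • M := by
    apply Submodule.span_le.mpr
    intro x hx
    have hx' : x ∈ L (nE 3) := hx
    have hxP : P.1 x ≤ 1 := by
      have := hx' P
      rwa [hnE_apply, hP, mul_zero, WithZero.exp_zero] at this
    set c := Place.cst hK P x with hc
    have hcL : algebraMap k K c ∈ L (nE 3) := by
      intro Q
      refine le_trans (Q.2.1 c) ?_
      rw [← WithZero.exp_zero, WithZero.exp_le_exp]
      exact hnE_nonneg 3 Q
    have h1 : x - algebraMap k K c ∈ L (nE 3 - Finsupp.single P 1) := by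
      rw [mem_L_sub_single_iff (sub_mem hx' hcL), hnE_apply, hP, mul_zero, WithZero.exp_zero]
      exact Place.cst_spec hK P hxP
    have h2 : algebraMap k K c ∈ A' := by
      rw [Submodule.mem_span_singleton]
      refine ⟨⟨algebraMap k K c, A.algebraMap_mem c⟩, ?_⟩
      show algebraMap k K c * 1 = _
      rw [mul_one]
    have : x = algebraMap k K c + (x - algebraMap k K c) := by ring
    rw [this]
    exact Submodule.add_mem_sup h2 (hIM 3 _ h1)
  have hMfg : M.FG := by
    haveI := finiteDimensional_L hK (nE 3)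
    obtain ⟨S, hS⟩ := (Submodule.fg_iff_finiteDimensional (L (nE 3))).mpr inferInstance
    refine ⟨S, le_antisymm (Submodule.span_mono ?_) (Submodule.span_le.mpr ?_)⟩
    · intro x hx
      show x ∈ L (nE 3)
      rw [← hS]
      exact Submodule.subset_span hx
    · intro x hx
      have hx' : x ∈ L (nE 3) := hx
      rw [← hS] at hx'
      exact Submodule.span_le_restrictScalars k ↥A (S : Set K) hx'
  let q := A'.mkQ
  have hNfg : (M.map q).FG := hMfg.map q
  have hNle : M.map q ≤ I • M.map q := by
    calc M.map q ≤ (A' ⊔ I • M).map q := Submodule.map_mono hle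
      _ = I • M.map q := by
        rw [Submodule.map_sup, Submodule.mkQ_map_self, bot_sup_eq, Submodule.map_smul'']
  obtain ⟨r, hr1, hr0⟩ :=
    Submodule.exists_sub_one_mem_and_smul_eq_zero_of_fg_of_le_smul I (M.map q) hNfg hNle
  have hrM : ∀ x ∈ M, (r : K) * x ∈ A := by
    intro x hx
    have h1 := hr0 (q x) (Submodule.mem_map_of_mem hx)
    rw [← map_smul, Submodule.mkQ_apply, Submodule.Quotient.mk_eq_zero,
      Submodule.mem_span_singleton] at h1
    obtain ⟨a, ha⟩ := h1
    have h2 : (a : K) * 1 = (r : K) * x := ha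
    rw [mul_one] at h2
    rw [← h2]
    exact a.2
  have hrP : P.1 (r : K) = 1 := by
    have h1 : P.1 ((r : K) - 1) < 1 := hr1
    have h2 : (r : K) = 1 + ((r : K) - 1) := by ring
    rw [h2]
    exact P.1.map_one_add_of_lt h1
  -- conclusion
  intro z hz
  by_cases hz0 : z = 0
  · refine ⟨0, zero_mem _, 1, one_mem _, Valuation.map_one _, ?_⟩
    rw [hz0, zero_mul]
  set B : Divisor k K := polesDiv k z with hB
  have hB0 : 0 ≤ B := polesDiv_nonneg z
  have hzB : ∀ Q : Place k K, Q.1 z ≤ WithZero.exp (B Q) := by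
    intro Q
    rw [Place.val_eq_exp_neg_ord Q hz0, WithZero.exp_le_exp, hB, polesDiv_apply hK]
    exact le_max_left _ _
  have hBP : B P = 0 := by
    rw [hB, polesDiv_apply hK]
    have := (Place.ord_nonneg_iff P hz0).mpr hz
    exact max_eq_right (by omega)
  have hBdeg : 0 ≤ B.deg := deg_nonneg hB0
  have hg0 : (0 : ℤ) ≤ g' := Int.natCast_nonneg _
  set m : ℕ := (2 * g' + B.deg).toNat with hm
  have hmcast : (m : ℤ) = 2 * g' + B.deg := Int.toNat_of_nonneg (by omega)
  have hmd : (m : ℤ) ≤ m * d := by nlinarith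
  have e1 := ell_of_deg_ge hK (D := nE m - B) (by rw [deg_sub, hnE_deg]; omega)
  have e2 := ell_of_deg_ge hK (D := nE m - B - Finsupp.single P 1) (by
    rw [deg_sub, deg_sub, hnE_deg, hdegP]; omega)
  rw [deg_sub, hnE_deg] at e1
  rw [deg_sub, deg_sub, hnE_deg, hdegP] at e2
  have hne : L (nE m - B - Finsupp.single P 1) ≠ L (nE m - B) := by
    intro h
    unfold ell at e1 e2
    rw [h] at e2
    omega
  have hlt : L (nE m - B - Finsupp.single P 1) < L (nE m - B) :=
    lt_of_le_of_ne (L_sub_single_le _ P) hne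
  obtain ⟨γ, hγ, hγn⟩ := SetLike.exists_of_lt hlt
  have hγP : P.1 γ = 1 := by
    rw [mem_L_sub_single_iff hγ, not_lt, Finsupp.sub_apply, hnE_apply, hP, hBP, mul_zero,
      sub_zero, WithZero.exp_zero] at hγn
    have := hγ P
    rw [Finsupp.sub_apply, hnE_apply, hP, hBP, mul_zero, sub_zero, WithZero.exp_zero] at this
    exact le_antisymm this hγn
  have hγM : γ ∈ M := by
    apply hM m
    refine L_mono ?_ hγ
    exact sub_le_self _ hB0
  have hzγM : z * γ ∈ M := by
    apply hM m
    intro Q
    rw [Valuation.map_mul]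
    have h1 := hzB Q
    have h2 := hγ Q
    calc Q.1 z * Q.1 γ ≤ WithZero.exp (B Q) * WithZero.exp ((nE m - B) Q) := mul_le_mul' h1 h2
      _ = WithZero.exp (nE m Q) := by
        rw [← WithZero.exp_add, Finsupp.sub_apply]
        congr 1
        ring
  refine ⟨(r : K) * (z * γ), hrM _ hzγM, (r : K) * γ, hrM _ hγM, ?_, ?_⟩
  · rw [Valuation.map_mul, hrP, hγP, one_mul]
  · ring

theorem L_add_div_ne (hK : IsFunctionField k K) {X Y : Divisor k K} {z : K} (hz : z ≠ 0)
    (h : L X ≠ L Y) : L (X + FunFld.div k z) ≠ L (Y + FunFld.div k z) := by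
  intro e
  apply h
  ext x
  have h1 := mem_L_add_div_iff hK X hz (x / z)
  have h2 := mem_L_add_div_iff hK Y hz (x / z)
  rw [div_mul_cancel₀ x hz] at h1 h2
  rw [← h1, ← h2, e]

/-- A complete linear system of degree at least the genus which separates points and tangent
vectors gives a projective map that is nonsingular at every place. -/
theorem nonsingular_of_bpf (hK : IsFunctionField k K) [IsAlgClosed k] (D : Divisor k K)
    (hdeg : (genus k K : ℤ) ≤ D.deg) (hdeg1 : 1 ≤ D.deg)
    (h1 : ∀ Q : Place k K, L (D - Finsupp.single Q 1) ≠ L D)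
    (h2 : ∀ P Q : Place k K,
      L (D - Finsupp.single P 1 - Finsupp.single Q 1) ≠ L (D - Finsupp.single P 1))
    {n : ℕ} (φ : Fin (n + 1) → K) (hspan : Submodule.span k (Set.range φ) = L D)
    (P : Place k K) : IsNonsingularAt φ P := by
  classical
  have hφL : ∀ i, φ i ∈ L D := by
    intro i
    rw [← hspan]
    exact Submodule.subset_span ⟨i, rfl⟩
  -- a function of least order at `P`
  have hlt : L (D - Finsupp.single P 1) < L D := lt_of_le_of_ne (L_sub_single_le D P) (h1 P)
  obtain ⟨f, hf, hfn⟩ := SetLike.exists_of_lt hlt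
  have hfP : P.1 f = WithZero.exp (D P) := by
    rw [mem_L_sub_single_iff hf, not_lt] at hfn
    exact le_antisymm (hf P) hfn
  obtain ⟨j, -, hj⟩ := Finset.exists_max_image Finset.univ (fun i => P.1 (φ i))
    Finset.univ_nonempty
  have hj' : ∀ i, P.1 (φ i) ≤ P.1 (φ j) := fun i => hj i (Finset.mem_univ i)
  have hfspan : f ∈ Submodule.span k (Set.range φ) := by rw [hspan]; exact hf
  obtain ⟨c, hc⟩ := (Submodule.mem_span_range_iff_exists_fun k).mp hfspan
  have hfj : P.1 f ≤ P.1 (φ j) := by
    rw [← hc]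
    apply Valuation.map_sum_le
    intro i _
    rw [Algebra.smul_def, Valuation.map_mul]
    calc P.1 (algebraMap k K (c i)) * P.1 (φ i) ≤ 1 * P.1 (φ j) :=
          mul_le_mul' (P.2.1 _) (hj' i)
      _ = P.1 (φ j) := one_mul _
  have hjP : P.1 (φ j) = WithZero.exp (D P) :=
    le_antisymm (hφL j P) (hfP ▸ hfj)
  have hj0 : φ j ≠ 0 := by
    intro h
    rw [h, Valuation.map_zero] at hjP
    exact WithZero.exp_ne_zero hjP.symm
  set E : Divisor k K := D + FunFld.div k (φ j) with hE
  have hE0 : 0 ≤ E := (mem_L_iff_div hK hj0 D).mp (hφL j)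
  have hEP : E P = 0 := by
    rw [hE, Finsupp.add_apply, div_apply hK]
    rw [Place.val_eq_exp_neg_ord P hj0] at hjP
    have := WithZero.exp_injective hjP
    omega
  have hEdeg : E.deg = D.deg := deg_add_div hK D (φ j)
  have hbpf : ∀ Q : Place k K, L (E - Finsupp.single Q 1) ≠ L E := by
    intro Q
    have e : E - Finsupp.single Q 1 = (D - Finsupp.single Q 1) + FunFld.div k (φ j) := by
      rw [hE]; abel
    rw [e]
    exact L_add_div_ne hK hj0 (h1 Q)
  have hbpf' : ∀ Q : Place k K,
      L (E - Finsupp.single P 1 - Finsupp.single Q 1) ≠ L (E - Finsupp.single P 1) := by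
    intro Q
    have e : E - Finsupp.single P 1 - Finsupp.single Q 1 =
        (D - Finsupp.single P 1 - Finsupp.single Q 1) + FunFld.div k (φ j) := by
      rw [hE]; abel
    have e' : E - Finsupp.single P 1 = (D - Finsupp.single P 1) + FunFld.div k (φ j) := by
      rw [hE]; abel
    rw [e, e']
    exact L_add_div_ne hK hj0 (h2 P Q)
  set A : Subalgebra k K := Algebra.adjoin k (Set.range fun i => φ i / φ j) with hAdef
  have hA : ∀ y ∈ L E, y ∈ A := by
    intro y hy
    rw [hE, mem_L_add_div_iff hK D hj0] at hy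
    rw [← hspan] at hy
    obtain ⟨c', hc'⟩ := (Submodule.mem_span_range_iff_exists_fun k).mp hy
    have : y = ∑ i, c' i • (φ i / φ j) := by
      rw [eq_comm, ← eq_div_iff hj0] at hc'
      rw [hc', Finset.sum_div]
      refine Finset.sum_congr rfl fun i _ => ?_
      rw [smul_div_assoc]
    rw [this]
    refine Subalgebra.sum_mem _ fun i _ => Subalgebra.smul_mem _ ?_ _
    exact Algebra.subset_adjoin ⟨i, rfl⟩
  have hAP : ∀ a ∈ A, P.1 a ≤ 1 := by
    intro a ha
    induction ha using Algebra.adjoin_induction with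
    | mem x hx =>
      obtain ⟨i, rfl⟩ := hx
      rw [map_div₀]
      exact div_le_one_of_le₀ (hj' i) zero_le
    | algebraMap r => exact P.2.1 r
    | add x y _ _ hx hy => exact le_trans (Valuation.map_add P.1 _ _) (max_le hx hy)
    | mul x y _ _ hx hy => rw [Valuation.map_mul]; exact mul_le_one' hx hy
  intro z hz
  obtain ⟨u, hu, w, hw, hwP, hzw⟩ := embed_main hK E hE0 P hEP (by rw [hEdeg]; exact hdeg)
    (by rw [hEdeg]; exact hdeg1) hbpf hbpf' A hA hAP z hz
  exact ⟨j, hj0, hj', u, hu, w, hw, hwP, hzw⟩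

/-- Dropping a point from a divisor of degree at least `2g` drops `ℓ`. -/
theorem L_sub_single_ne_of_deg (hK : IsFunctionField k K) [IsAlgClosed k] {D : Divisor k K}
    (hD : 2 * (genus k K : ℤ) ≤ D.deg) (Q : Place k K) : L (D - Finsupp.single Q 1) ≠ L D := by
  have hdegQ : Divisor.deg (Finsupp.single Q 1 : Divisor k K) = 1 := by
    rw [deg_single, Place.deg_eq_one hK Q]; rfl
  have e1 := ell_of_deg_ge hK (D := D) (by omega)
  have e2 := ell_of_deg_ge hK (D := D - Finsupp.single Q 1) (by rw [deg_sub, hdegQ]; omega)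
  rw [deg_sub, hdegQ] at e2
  intro h
  unfold ell at e1 e2
  rw [h] at e2
  omega

/-- S11056: divisors of degree at least `2g + 1` are very ample. -/
theorem nonsingular_of_deg_ge (hK : IsFunctionField k K) [IsAlgClosed k] (D : Divisor k K)
    (hD : 2 * (genus k K : ℤ) + 1 ≤ D.deg) {n : ℕ} (φ : Fin (n + 1) → K)
    (hspan : Submodule.span k (Set.range φ) = L D) (P : Place k K) : IsNonsingularAt φ P := by
  have hg0 : (0 : ℤ) ≤ (genus k K : ℤ) := Int.natCast_nonneg _
  refine nonsingular_of_bpf hK D (by omega) (by omega)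
    (fun Q => L_sub_single_ne_of_deg hK (by omega) Q) (fun P' Q => ?_) φ hspan P
  have hdegP : Divisor.deg (Finsupp.single P' 1 : Divisor k K) = 1 := by
    rw [deg_single, Place.deg_eq_one hK P']; rfl
  exact L_sub_single_ne_of_deg hK (by rw [deg_sub, hdegP]; omega) Q

/-- A pencil of degree two gives a subfield of index at most two. -/
theorem exists_deg_le_two (hK : IsFunctionField k K) [IsAlgClosed k] (P Q : Place k K)
    (h : 2 ≤ ell (Finsupp.single P 1 + Finsupp.single Q 1 : Divisor k K)) :
    ∃ x : K, Transcendental k x ∧ Module.finrank k⟮x⟯ K ≤ 2 := by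
  classical
  set D : Divisor k K := Finsupp.single P 1 + Finsupp.single Q 1 with hD
  have hD0 : 0 ≤ D := by
    intro R
    rw [hD, Finsupp.add_apply]
    have h1 : (0 : ℤ) ≤ (Finsupp.single P 1 : Divisor k K) R := by
      by_cases hR : R = P
      · subst hR; simp
      · simp [Finsupp.single_eq_of_ne hR]
    have h2 : (0 : ℤ) ≤ (Finsupp.single Q 1 : Divisor k K) R := by
      by_cases hR : R = Q
      · subst hR; simp
      · simp [Finsupp.single_eq_of_ne hR]
    exact add_nonneg h1 h2
  have hex : ∃ x ∈ L D, x ∉ Set.range (algebraMap k K) := by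
    by_contra hno
    push Not at hno
    have hle : L D ≤ L (0 : Divisor k K) := by
      intro x hx
      obtain ⟨c, rfl⟩ := hno x hx
      rw [L_zero hK, Submodule.one_eq_range]
      exact ⟨c, rfl⟩
    haveI := finiteDimensional_L hK (0 : Divisor k K)
    have := Submodule.finrank_mono hle
    have h0 := ell_zero hK (k := k) (K := K)
    unfold ell at h h0
    omega
  obtain ⟨x, hx, hxc⟩ := hex
  have htr := transcendental_of_not_mem_range hK hxc
  have hx0 : x ≠ 0 := by
    rintro rfl
    exact hxc ⟨0, map_zero _⟩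
  refine ⟨x, htr, ?_⟩
  have hle : polesDiv k x ≤ D := by
    intro R
    rw [polesDiv_apply hK]
    apply max_le _ (hD0 R)
    have := hx R
    rw [Place.val_eq_exp_neg_ord R hx0, WithZero.exp_le_exp] at this
    exact this
  have h1 := deg_mono hle
  rw [deg_polesDiv hK htr, hD, deg_add, deg_single, deg_single, Place.deg_eq_one hK P,
    Place.deg_eq_one hK Q] at h1
  have : ((Module.finrank k⟮x⟯ K : ℕ) : ℤ) ≤ 2 := by
    simpa using h1
  exact_mod_cast this

/-- S11057: the canonical map of a non-hyperelliptic function field is an embedding. -/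
theorem nonsingular_canonical (hK : IsFunctionField k K) [IsAlgClosed k]
    (h2 : ∀ x : K, Transcendental k x → 2 < Module.finrank k⟮x⟯ K)
    (D : Divisor k K) (hD : IsCanonical k K D) {n : ℕ} (φ : Fin (n + 1) → K)
    (hspan : Submodule.span k (Set.range φ) = L D) (P : Place k K) : IsNonsingularAt φ P := by
  classical
  have hpair : ∀ P' Q : Place k K,
      ell (Finsupp.single P' 1 + Finsupp.single Q 1 : Divisor k K) ≤ 1 := by
    intro P' Q
    by_contra hlt
    rw [not_le] at hlt
    obtain ⟨x, hx, hx2⟩ := exists_deg_le_two hK P' Q (by omega)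
    have := h2 x hx
    omega
  have hdegS : ∀ R : Place k K, Divisor.deg (Finsupp.single R 1 : Divisor k K) = 1 := by
    intro R
    rw [deg_single, Place.deg_eq_one hK R]; rfl
  obtain ⟨hCell, hCdeg⟩ := ell_canonical hK hD
  -- genus at least two
  have hg2 : 2 ≤ genus k K := by
    by_contra hlt
    rw [not_le] at hlt
    have e := ell_of_deg_ge hK (D := (Finsupp.single P 1 + Finsupp.single P 1 : Divisor k K)) (by
      rw [deg_add, hdegS]; omega)
    rw [deg_add, hdegS] at e
    have := hpair P P
    omega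
  have hge1 : ∀ P' Q : Place k K,
      1 ≤ ell (Finsupp.single P' 1 + Finsupp.single Q 1 : Divisor k K) := by
    intro P' Q
    have hD0 : (0 : Divisor k K) ≤ Finsupp.single P' 1 + Finsupp.single Q 1 := by
      intro R
      rw [Finsupp.add_apply]
      have h1 : (0 : ℤ) ≤ (Finsupp.single P' 1 : Divisor k K) R := by
        by_cases hR : R = P'
        · subst hR; simp
        · simp [Finsupp.single_eq_of_ne hR]
      have h2 : (0 : ℤ) ≤ (Finsupp.single Q 1 : Divisor k K) R := by
        by_cases hR : R = Q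
        · subst hR; simp
        · simp [Finsupp.single_eq_of_ne hR]
      exact add_nonneg h1 h2
    have := ell_mono hK hD0
    rwa [ell_zero hK] at this
  have hone : ∀ R : Place k K, ell (Finsupp.single R 1 : Divisor k K) = 1 := by
    intro R
    have hle : (Finsupp.single R 1 : Divisor k K) ≤ Finsupp.single R 1 + Finsupp.single R 1 := by
      intro R'
      rw [Finsupp.add_apply]
      have h1 : (0 : ℤ) ≤ (Finsupp.single R 1 : Divisor k K) R' := by
        by_cases hR : R' = R
        · subst hR; simp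
        · simp [Finsupp.single_eq_of_ne hR]
      omega
    have h1 := ell_mono hK hle
    have h3 := hpair R R
    have h0 : (0 : Divisor k K) ≤ Finsupp.single R 1 := by
      intro R'
      by_cases hR : R' = R
      · subst hR; simp
      · simp [Finsupp.single_eq_of_ne hR]
    have h4 := ell_mono hK h0
    rw [ell_zero hK] at h4
    omega
  have hCQ : ∀ Q : Place k K, (ell (D - Finsupp.single Q 1) : ℤ) = (genus k K : ℤ) - 1 := by
    intro Q
    have := riemann_roch hK hD (D - Finsupp.single Q 1)
    rw [sub_sub_cancel, deg_sub, hdegS, hCdeg, hone] at this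
    rw [this]
    push_cast
    ring
  have hCPQ : ∀ P' Q : Place k K,
      (ell (D - Finsupp.single P' 1 - Finsupp.single Q 1) : ℤ) = (genus k K : ℤ) - 2 := by
    intro P' Q
    have := riemann_roch hK hD (D - Finsupp.single P' 1 - Finsupp.single Q 1)
    have e : D - (D - Finsupp.single P' 1 - Finsupp.single Q 1) =
        Finsupp.single P' 1 + Finsupp.single Q 1 := by abel
    have hl : ell (Finsupp.single P' 1 + Finsupp.single Q 1 : Divisor k K) = 1 :=
      le_antisymm (hpair P' Q) (hge1 P' Q)
    rw [e, deg_sub, deg_sub, hdegS, hdegS, hCdeg, hl] at this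
    rw [this]
    push_cast
    ring
  refine nonsingular_of_bpf hK D (by rw [hCdeg]; omega) (by rw [hCdeg]; omega)
    (fun Q => ?_) (fun P' Q => ?_) φ hspan P
  · intro h
    have := hCQ Q
    unfold ell at this hCell
    rw [h, hCell] at this
    omega
  · intro h
    have h3 := hCPQ P' Q
    have h4 := hCQ P'
    unfold ell at h3 h4
    rw [h] at h3
    omega

end FF

end Groth.Agent.Lib.helper10
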