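import Groth.Agent.Lib.Helper10.FunFld2

/-!
Function fields of one variable (helper10), part 3: valuation rings of `K/k` are discrete; places.
-/

set_option autoImplicit false
set_option linter.unusedSectionVars false

universe u v w

open IntermediateField Polynomial

namespace Groth.Agent.Lib.helper10

namespace FF

variable {k : Type u} {K : Type v} [Field k] [Field K] [Algebra k K]

section ValSubring

variable (O : ValuationSubring K)

theorem trivOn_valuationSubring (hkO : ∀ c : k, algebraMap k K c ∈ O) : TrivOn k O.valuation :=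
  trivOn_of_le_one fun c => (O.valuation_le_one_iff _).mpr (hkO c)

theorem exists_nonunit_of_ne_top (hO : O ≠ ⊤) : ∃ x : K, x ≠ 0 ∧ O.valuation x < 1 := by
  have : ∃ z : K, z ∉ O := by
    by_contra h
    push Not at h
    exact hO (eq_top_iff.mpr fun z _ => h z)
  obtain ⟨z, hz⟩ := this
  have hz0 : z ≠ 0 := fun h => hz (h ▸ O.zero_mem)
  refine ⟨z⁻¹, inv_ne_zero hz0, ?_⟩
  rw [← O.valuation_le_one_iff, not_le] at hz
  rw [map_inv₀]
  exact inv_lt_one_of_one_lt₀ hz

theorem transcendental_of_val_lt_one (hK : FunFld.IsFunctionField k K)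
    (hkO : ∀ c : k, algebraMap k K c ∈ O) {x : K} (hx0 : x ≠ 0) (hx : O.valuation x < 1) :
    Transcendental k x := by
  intro halg
  obtain ⟨c, rfl⟩ := hK.2 x halg
  have hc : c ≠ 0 := by
    rintro rfl
    exact hx0 (map_zero _)
  rw [trivOn_valuationSubring O hkO c hc] at hx
  exact lt_irrefl _ hx

/-- Every ideal of a valuation ring of a function field (containing the constants) is principal. -/
theorem isPrincipal_of_valuationSubring (hK : FunFld.IsFunctionField k K)
    (hkO : ∀ c : k, algebraMap k K c ∈ O) (I : Ideal O) : I.IsPrincipal := by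
  classical
  by_cases hbot : I = ⊥
  · rw [hbot]; exact bot_isPrincipal
  by_cases htop : I = ⊤
  · rw [htop]; exact top_isPrincipal
  have hv := trivOn_valuationSubring O hkO
  set v := O.valuation with hvdef
  obtain ⟨x₁, hx₁I, hx₁0⟩ := Submodule.exists_mem_ne_zero_of_ne_bot hbot
  have hImax : ∀ a ∈ I, v (a : K) < 1 := by
    intro a ha
    rw [← O.valuation_lt_one_iff]
    exact (IsLocalRing.le_maximalIdeal htop) ha
  have hx₁0' : (x₁ : K) ≠ 0 := fun h => hx₁0 (Subtype.ext h)
  have hx₁lt : v (x₁ : K) < 1 := hImax x₁ hx₁I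
  have htr := transcendental_of_val_lt_one O hK hkO hx₁0' hx₁lt
  haveI := finiteDimensional_adjoin hK htr
  -- the set of values
  set V : Set O.ValueGroup := {γ | ∃ a ∈ I, v (a : K) = γ ∧ v (x₁ : K) ≤ γ} with hV
  have hVfin : V.Finite := by
    by_contra hinf
    obtain ⟨T, hTV, hTcard⟩ := Set.Infinite.exists_subset_card_eq hinf
      (Module.finrank k⟮(x₁ : K)⟯ K + 1)
    have := card_le_finrank_of_val hv hx₁lt hx₁0' T (fun γ hγ => by
      obtain ⟨a, haI, hva, hle⟩ := hTV hγ
      exact ⟨a, hva, hle, hva ▸ hImax a haI⟩)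
    omega
  have hVne : V.Nonempty := ⟨v (x₁ : K), x₁, hx₁I, rfl, le_rfl⟩
  obtain ⟨γ, hγV, hγmax⟩ := Set.Finite.exists_maximal hVfin hVne
  obtain ⟨a, haI, hva, hle⟩ := hγV
  have ha0 : (a : K) ≠ 0 := by
    intro h
    rw [h, Valuation.map_zero] at hva
    rw [← hva] at hle
    exact (Valuation.ne_zero_iff v).mpr hx₁0' (le_antisymm hle zero_le)
  refine ⟨⟨a, ?_⟩⟩
  apply le_antisymm
  · intro b hb
    have hb' : v (b : K) ≤ v (a : K) := by
      by_contra hlt
      rw [not_le] at hlt
      have hbV : v (b : K) ∈ V := ⟨b, hb, rfl, le_trans hle (hva ▸ hlt.le)⟩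
      have := hγmax hbV (hva ▸ hlt.le)
      rw [← hva] at this
      exact absurd hlt (not_lt.mpr this)
    have hq : (b : K) / (a : K) ∈ O := by
      rw [← O.valuation_le_one_iff, map_div₀]
      exact div_le_one_of_le₀ hb' zero_le
    rw [Submodule.mem_span_singleton]
    refine ⟨⟨_, hq⟩, ?_⟩
    apply Subtype.ext
    simp only [smul_eq_mul, MulMemClass.coe_mul]
    exact div_mul_cancel₀ _ ha0
  · rw [Submodule.span_singleton_le_iff_mem]
    exact haI

/-- A valuation ring of a function field, containing the constants and different from the whole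
field, is a discrete valuation ring. -/
theorem isDVR_of_valuationSubring (hK : FunFld.IsFunctionField k K)
    (hkO : ∀ c : k, algebraMap k K c ∈ O) (hO : O ≠ ⊤) : IsDiscreteValuationRing O := by
  have hpir : IsPrincipalIdealRing O := ⟨fun I => isPrincipal_of_valuationSubring O hK hkO I⟩
  refine { not_a_field' := ?_ }
  obtain ⟨x, hx0, hx⟩ := exists_nonunit_of_ne_top O hO
  have hxO : x ∈ O := (O.valuation_le_one_iff x).mp hx.le
  intro hbot
  have hmem : (⟨x, hxO⟩ : O) ∈ IsLocalRing.maximalIdeal O := (O.valuation_lt_one_iff _).mpr hx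
  rw [hbot, Ideal.mem_bot] at hmem
  exact hx0 (congrArg Subtype.val hmem)

/-- The place attached to a valuation ring. -/
noncomputable def placeOf (hK : FunFld.IsFunctionField k K)
    (hkO : ∀ c : k, algebraMap k K c ∈ O) (hO : O ≠ ⊤) : FunFld.Place k K :=
  haveI := isDVR_of_valuationSubring O hK hkO hO
  ⟨(IsDiscreteValuationRing.maximalIdeal O).valuation K,
    fun c => by
      have := IsDedekindDomain.HeightOneSpectrum.valuation_le_one (K := K)
        (IsDiscreteValuationRing.maximalIdeal O) (⟨algebraMap k K c, hkO c⟩ : O)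
      exact this,
    IsDedekindDomain.HeightOneSpectrum.valuation_surjective K _⟩

theorem placeOf_O (hK : FunFld.IsFunctionField k K)
    (hkO : ∀ c : k, algebraMap k K c ∈ O) (hO : O ≠ ⊤) : (placeOf O hK hkO hO).O = O := by
  haveI := isDVR_of_valuationSubring O hK hkO hO
  apply ValuationSubring.toSubring_injective
  have h := IsDiscreteValuationRing.map_algebraMap_eq_valuationSubring (A := O) (K := K)
  change ((IsDiscreteValuationRing.maximalIdeal O).valuation K).valuationSubring.toSubring = _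
  rw [← h]
  ext z
  simp only [Subring.mem_map, Subring.mem_top, true_and]
  constructor
  · rintro ⟨y, rfl⟩
    exact y.2
  · intro hz
    exact ⟨⟨z, hz⟩, rfl⟩

end ValSubring

section Places

open FunFld

theorem Place.trivOn (P : Place k K) : TrivOn k P.1 := trivOn_of_le_one P.2.1

theorem Place.mem_O_iff (P : Place k K) (x : K) : x ∈ P.O ↔ P.1 x ≤ 1 := Iff.rfl

theorem Place.algebraMap_mem_O (P : Place k K) (c : k) : algebraMap k K c ∈ P.O := P.2.1 c

theorem Place.ord_pos_iff (P : Place k K) {x : K} (hx : x ≠ 0) : 0 < P.ord x ↔ P.1 x < 1 := by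
  have h0 : P.1 x ≠ 0 := (Valuation.ne_zero_iff _).mpr hx
  unfold Place.ord
  rw [neg_pos, ← WithZero.log_one, WithZero.log_lt_log h0 one_ne_zero]

theorem Place.ord_neg_iff (P : Place k K) {x : K} (hx : x ≠ 0) : P.ord x < 0 ↔ 1 < P.1 x := by
  have h0 : P.1 x ≠ 0 := (Valuation.ne_zero_iff _).mpr hx
  unfold Place.ord
  rw [neg_lt_zero, ← WithZero.log_one, WithZero.log_lt_log one_ne_zero h0]

theorem Place.ord_nonneg_iff (P : Place k K) {x : K} (hx : x ≠ 0) : 0 ≤ P.ord x ↔ P.1 x ≤ 1 := by
  rw [← not_lt, Place.ord_neg_iff P hx, not_lt]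

theorem Place.val_eq_exp_neg_ord (P : Place k K) {x : K} (hx : x ≠ 0) :
    P.1 x = WithZero.exp (-P.ord x) := by
  have h0 : P.1 x ≠ 0 := (Valuation.ne_zero_iff _).mpr hx
  unfold Place.ord
  rw [neg_neg, WithZero.exp_log h0]

theorem Place.ord_mul (P : Place k K) {x y : K} (hx : x ≠ 0) (hy : y ≠ 0) :
    P.ord (x * y) = P.ord x + P.ord y := by
  have h0 : P.1 x ≠ 0 := (Valuation.ne_zero_iff _).mpr hx
  have h1 : P.1 y ≠ 0 := (Valuation.ne_zero_iff _).mpr hy
  unfold Place.ord
  rw [Valuation.map_mul, WithZero.log_mul h0 h1, neg_add]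

theorem Place.ord_inv (P : Place k K) (x : K) : P.ord x⁻¹ = -P.ord x := by
  unfold Place.ord
  rw [map_inv₀, WithZero.log_inv]

theorem Place.ord_one (P : Place k K) : P.ord (1 : K) = 0 := by
  unfold Place.ord
  rw [Valuation.map_one, WithZero.log_one, neg_zero]

theorem Place.ord_algebraMap (P : Place k K) (c : k) : P.ord (algebraMap k K c) = 0 := by
  by_cases hc : c = 0
  · rw [hc, map_zero]
    unfold Place.ord
    rw [Valuation.map_zero, WithZero.log_zero, neg_zero]
  · unfold Place.ord
    rw [Place.trivOn P c hc, WithZero.log_one, neg_zero]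

theorem Place.O_ne_top (P : Place k K) : P.O ≠ ⊤ := by
  intro h
  obtain ⟨x, hx⟩ := P.2.2 (WithZero.exp 1)
  have hx' : x ∈ P.O := h ▸ ValuationSubring.mem_top x
  rw [Place.mem_O_iff P, hx, ← WithZero.exp_zero, WithZero.exp_le_exp] at hx'
  omega

/-- Existence of places: a subring containing the constants together with a proper ideal is dominated
by a place. -/
theorem exists_place_of_ideal (hK : IsFunctionField k K) (A : Subring K)
    (hkA : ∀ c : k, algebraMap k K c ∈ A) (I : Ideal A) (hI : I ≠ ⊤) (hI0 : I ≠ ⊥) :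
    ∃ P : Place k K, (∀ a ∈ A, a ∈ P.O) ∧ ∀ a ∈ I, P.1 (a : K) < 1 := by
  obtain ⟨B, hAB, hIB⟩ := Ideal.image_subset_nonunits_valuationSubring I hI
  have hkB : ∀ c : k, algebraMap k K c ∈ B := fun c => hAB (hkA c)
  have hB : B ≠ ⊤ := by
    obtain ⟨a, haI, ha0⟩ := Submodule.exists_mem_ne_zero_of_ne_bot hI0
    have ha : (a : K) ∈ B.nonunits := hIB ⟨a, haI, rfl⟩
    rw [ValuationSubring.mem_nonunits_iff] at ha
    intro htop
    have ha0' : (a : K) ≠ 0 := fun h => ha0 (Subtype.ext h)
    have hinv : (a : K)⁻¹ ∈ B := htop ▸ ValuationSubring.mem_top _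
    rw [← B.valuation_le_one_iff, map_inv₀] at hinv
    have h1 : B.valuation (a : K) ≠ 0 := (Valuation.ne_zero_iff _).mpr ha0'
    have : (1 : B.ValueGroup) < (B.valuation (a : K))⁻¹ := (one_lt_inv₀ (zero_lt_iff.mpr h1)).mpr ha
    exact absurd hinv (not_le.mpr this)
  refine ⟨placeOf B hK hkB hB, ?_, ?_⟩
  · intro a ha
    rw [placeOf_O]
    exact hAB ha
  · intro a haI
    have ha : (a : K) ∈ B.nonunits := hIB ⟨a, haI, rfl⟩
    have hmem : (a : K) ∈ (placeOf B hK hkB hB).O.nonunits := by rw [placeOf_O]; exact ha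
    rw [ValuationSubring.mem_nonunits_iff] at hmem
    have h2 : (a : K) ∈ (placeOf B hK hkB hB).O := by rw [placeOf_O]; exact hAB a.2
    by_contra hge
    rw [not_lt] at hge
    have h3 : (placeOf B hK hkB hB).1 (a : K) = 1 := le_antisymm h2 hge
    -- then `a` is a unit of the valuation ring
    have h4 : (a : K)⁻¹ ∈ (placeOf B hK hkB hB).O := by
      rw [Place.mem_O_iff, map_inv₀, h3, inv_one]
    have ha0 : (a : K) ≠ 0 := by
      intro h
      rw [h, Valuation.map_zero] at h3
      exact zero_ne_one h3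
    have h5 := (ValuationSubring.valuation_le_one_iff _ _).mpr h4
    rw [map_inv₀] at h5
    have h6 : (placeOf B hK hkB hB).O.valuation (a : K) ≠ 0 := (Valuation.ne_zero_iff _).mpr ha0
    have h7 : 1 ≤ (placeOf B hK hkB hB).O.valuation (a : K) := by
      rwa [inv_le_one₀ (zero_lt_iff.mpr h6)] at h5
    exact absurd hmem (not_lt.mpr h7)

/-- A nonconstant element has a zero. -/
theorem exists_zero (hK : IsFunctionField k K) {x : K} (hx : x ∉ Set.range (algebraMap k K)) :
    ∃ P : Place k K, 0 < P.ord x := by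
  have htr := transcendental_of_not_mem_range hK hx
  have hx0 : x ≠ 0 := by
    rintro rfl
    exact hx ⟨0, map_zero _⟩
  set A : Subring K := (Algebra.adjoin k ({x} : Set K)).toSubring with hA
  have hxA : x ∈ A := Algebra.subset_adjoin (Set.mem_singleton x)
  have hkA : ∀ c : k, algebraMap k K c ∈ A := fun c => Subalgebra.algebraMap_mem _ c
  set I : Ideal A := Ideal.span {⟨x, hxA⟩} with hIdef
  have hI0 : I ≠ ⊥ := by
    rw [hIdef, Ne, Ideal.span_singleton_eq_bot]
    intro h
    exact hx0 (congrArg Subtype.val h)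
  have hI : I ≠ ⊤ := by
    rw [hIdef, Ne, Ideal.span_singleton_eq_top]
    intro hu
    obtain ⟨⟨y, hy⟩, hxy⟩ := isUnit_iff_exists_inv.mp hu
    have hxy' : x * y = 1 := congrArg Subtype.val hxy
    have hy' : y ∈ Algebra.adjoin k ({x} : Set K) := hy
    rw [Algebra.adjoin_singleton_eq_range_aeval] at hy'
    obtain ⟨p, rfl⟩ := hy'
    apply htr
    refine ⟨X * p - 1, ?_, ?_⟩
    · intro h
      have := congrArg (fun q => Polynomial.coeff q 0) h
      simp at this
    · simp only [map_sub, map_mul, aeval_X, map_one]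
      rw [sub_eq_zero]
      exact hxy'
  obtain ⟨P, -, hP⟩ := exists_place_of_ideal hK A hkA I hI hI0
  refine ⟨P, ?_⟩
  rw [Place.ord_pos_iff P hx0]
  exact hP ⟨x, hxA⟩ (Ideal.subset_span (Set.mem_singleton _))

/-- A nonconstant element has a pole. -/
theorem exists_pole (hK : IsFunctionField k K) {x : K} (hx : x ∉ Set.range (algebraMap k K)) :
    ∃ P : Place k K, P.ord x < 0 := by
  have hinv : x⁻¹ ∉ Set.range (algebraMap k K) := by
    rintro ⟨c, hc⟩
    apply hx
    refine ⟨c⁻¹, ?_⟩
    rw [map_inv₀, hc, inv_inv]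
  obtain ⟨P, hP⟩ := exists_zero hK hinv
  refine ⟨P, ?_⟩
  rw [Place.ord_inv P] at hP
  omega

end Places

end FF

end Groth.Agent.Lib.helper10
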