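import Groth.Agent.Lib.Helper10.FunFld29

/-!
Function fields of one variable (helper10), part 31: the divisor of a projective map and the
genus bound for plane models.
-/

set_option autoImplicit false
set_option linter.unusedSectionVars false
set_option linter.style.haveILetI false

universe u v w

open IntermediateField FunFld Polynomial

namespace Groth.Agent.Lib.helper10

namespace FF

open RD

variable {k : Type u} {K : Type v} [Field k] [Field K] [Algebra k K]

theorem mapDiv_apply (hK : IsFunctionField k K) {ι : Type*} [Fintype ι] [Nonempty ι] (φ : ι → K)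
    (Q : Place k K) :
    mapDiv k φ Q = -Finset.univ.inf' Finset.univ_nonempty (fun i => Q.ord (φ i)) := by
  classical
  have hfin : (Function.support fun P : Place k K =>
      -Finset.univ.inf' Finset.univ_nonempty (fun i => P.ord (φ i))).Finite := by
    refine (Set.finite_iUnion fun i => support_ord_finite hK (φ i)).subset ?_
    intro P hP
    rw [Function.mem_support] at hP
    obtain ⟨i, -, hi⟩ := Finset.exists_mem_eq_inf' Finset.univ_nonempty (fun i => P.ord (φ i))
    rw [Set.mem_iUnion]
    refine ⟨i, ?_⟩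
    rw [Function.mem_support, ← hi]
    intro h0
    apply hP
    rw [h0, neg_zero]
  unfold mapDiv
  rw [dif_pos hfin]
  rfl

theorem neg_ord_le_mapDiv (hK : IsFunctionField k K) {ι : Type*} [Fintype ι] [Nonempty ι]
    (φ : ι → K) (Q : Place k K) (i : ι) : -Q.ord (φ i) ≤ mapDiv k φ Q := by
  rw [mapDiv_apply hK, neg_le_neg_iff]
  exact Finset.inf'_le _ (Finset.mem_univ i)

theorem exists_mapDiv_eq (hK : IsFunctionField k K) {ι : Type*} [Fintype ι] [Nonempty ι]
    (φ : ι → K) (Q : Place k K) : ∃ i, mapDiv k φ Q = -Q.ord (φ i) := by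
  obtain ⟨i, -, hi⟩ := Finset.exists_mem_eq_inf' Finset.univ_nonempty (fun i => Q.ord (φ i))
  exact ⟨i, by rw [mapDiv_apply hK, hi]⟩

theorem Place.val_le_exp_neg_ord (Q : Place k K) (z : K) : Q.1 z ≤ WithZero.exp (-Q.ord z) := by
  by_cases hz : z = 0
  · rw [hz, Valuation.map_zero]; exact zero_le
  · rw [Place.val_eq_exp_neg_ord Q hz]

/-- The line divisor of a plane model in terms of valuations. -/
theorem exp_mapDiv_plane (hK : IsFunctionField k K) (x y : K) (Q : Place k K) :
    WithZero.exp (mapDiv k ![(1 : K), x, y] Q) = max 1 (max (Q.1 x) (Q.1 y)) := by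
  apply le_antisymm
  · obtain ⟨i, hi⟩ := exists_mapDiv_eq hK ![(1 : K), x, y] Q
    rw [hi]
    fin_cases i
    · simp only [Fin.zero_eta, Matrix.cons_val_zero]
      rw [Place.ord_one, neg_zero, WithZero.exp_zero]
      exact le_max_left _ _
    · simp only [Fin.mk_one, Matrix.cons_val_one, Matrix.cons_val_zero]
      by_cases hx : x = 0
      · rw [hx, Place.ord_zero, neg_zero, WithZero.exp_zero]; exact le_max_left _ _
      · rw [← Place.val_eq_exp_neg_ord Q hx]
        exact le_trans (le_max_left _ _) (le_max_right _ _)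
    · simp only [Fin.reduceFinMk, Matrix.cons_val]
      by_cases hy : y = 0
      · rw [hy, Place.ord_zero, neg_zero, WithZero.exp_zero]; exact le_max_left _ _
      · rw [← Place.val_eq_exp_neg_ord Q hy]
        exact le_trans (le_max_right _ _) (le_max_right _ _)
  · refine max_le ?_ (max_le ?_ ?_)
    · have := neg_ord_le_mapDiv hK ![(1 : K), x, y] Q 0
      simp only [Matrix.cons_val_zero, Place.ord_one, neg_zero] at this
      rw [← WithZero.exp_zero, WithZero.exp_le_exp]
      exact this
    · have := neg_ord_le_mapDiv hK ![(1 : K), x, y] Q 1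
      simp only [Matrix.cons_val_one, Matrix.cons_val_zero] at this
      exact le_trans (Place.val_le_exp_neg_ord Q x) (WithZero.exp_le_exp.mpr this)
    · have := neg_ord_le_mapDiv hK ![(1 : K), x, y] Q 2
      simp only [Matrix.cons_val] at this
      exact le_trans (Place.val_le_exp_neg_ord Q y) (WithZero.exp_le_exp.mpr this)

/-- A generic linear form in `x, y` has polar divisor equal to the line divisor, and together
with one of `x`, `y` it generates the field. -/
theorem exists_generic_form (hK : IsFunctionField k K) [IsAlgClosed k] (x y : K)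
    (hxy : IntermediateField.adjoin k ({x, y} : Set K) = ⊤) :
    ∃ x' y' : K, x' ∈ L (mapDiv k ![(1 : K), x, y]) ∧ y' ∈ L (mapDiv k ![(1 : K), x, y]) ∧
      Transcendental k x' ∧ polesDiv k x' = mapDiv k ![(1 : K), x, y] ∧
      IntermediateField.adjoin k ({x', y'} : Set K) = ⊤ := by
  classical
  set D : Divisor k K := mapDiv k ![(1 : K), x, y] with hD
  have hexp : ∀ Q : Place k K, WithZero.exp (D Q) = max 1 (max (Q.1 x) (Q.1 y)) :=
    fun Q => exp_mapDiv_plane hK x y Q
  have hD0 : 0 ≤ D := by
    intro Q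
    have : (1 : WithZero (Multiplicative ℤ)) ≤ WithZero.exp (D Q) := by
      rw [hexp]; exact le_max_left _ _
    rwa [← WithZero.exp_zero, WithZero.exp_le_exp] at this
  have hxL : x ∈ L D := fun Q => by
    rw [hexp]; exact le_trans (le_max_left _ _) (le_max_right _ _)
  have hyL : y ∈ L D := fun Q => by
    rw [hexp]; exact le_trans (le_max_right _ _) (le_max_right _ _)
  -- the support is nonempty
  have hsupp : D.support.Nonempty := by
    by_contra hemp
    rw [Finset.not_nonempty_iff_eq_empty, Finsupp.support_eq_empty] at hemp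
    have hx0 : x ∈ L (0 : Divisor k K) := hemp ▸ hxL
    have hy0 : y ∈ L (0 : Divisor k K) := hemp ▸ hyL
    rw [L_zero hK, Submodule.one_eq_range] at hx0 hy0
    obtain ⟨a, ha⟩ := hx0
    obtain ⟨b, hb⟩ := hy0
    obtain ⟨⟨t, ht, -⟩, -⟩ := id hK
    have htop : t ∈ IntermediateField.adjoin k ({x, y} : Set K) := by rw [hxy]; trivial
    have hle : IntermediateField.adjoin k ({x, y} : Set K) ≤ ⊥ := by
      rw [IntermediateField.adjoin_le_iff]
      rintro z (rfl | hz)
      · rw [← ha]; exact (⊥ : IntermediateField k K).algebraMap_mem a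
      · rw [Set.mem_singleton_iff.mp hz, ← hb]
        exact (⊥ : IntermediateField k K).algebraMap_mem b
    have := hle htop
    rw [IntermediateField.mem_bot] at this
    obtain ⟨c, rfl⟩ := this
    exact ht (isAlgebraic_algebraMap c)
  let T : (k × k) →ₗ[k] K :=
    (LinearMap.toSpanSingleton k K x).coprod (LinearMap.toSpanSingleton k K y)
  have hT : ∀ p : k × k, T p = p.1 • x + p.2 • y := fun p => by simp [T]
  let p : ↥(D.support : Set (Place k K)) → Submodule k (k × k) :=
    fun Q => Submodule.comap T (Place.ball Q.1 (D Q.1 - 1))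
  have hDpos : ∀ Q ∈ D.support, WithZero.exp (D Q) = max (Q.1 x) (Q.1 y) := by
    intro Q hQ
    rw [Finsupp.mem_support_iff] at hQ
    have h1 : (1 : WithZero (Multiplicative ℤ)) < WithZero.exp (D Q) := by
      rw [← WithZero.exp_zero, WithZero.exp_lt_exp]
      have := hD0 Q
      simp only [Finsupp.coe_zero, Pi.zero_apply] at this
      omega
    rw [hexp] at h1 ⊢
    rcases max_choice 1 (max (Q.1 x) (Q.1 y)) with h | h
    · rw [h] at h1; exact absurd h1 (lt_irrefl _)
    · exact h
  have hp : ∀ Q, p Q ≠ ⊤ := by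
    intro Q htop
    have hQ := hDpos Q.1 Q.2
    have hlt : WithZero.exp (D Q.1 - 1) < WithZero.exp (D Q.1) := by
      rw [WithZero.exp_lt_exp]; omega
    rcases max_choice (Q.1.1 x) (Q.1.1 y) with h | h
    · have : ((1, 0) : k × k) ∈ p Q := by rw [htop]; trivial
      have h2 : Q.1.1 (T (1, 0)) ≤ WithZero.exp (D Q.1 - 1) := this
      rw [hT] at h2
      simp only [one_smul, zero_smul, add_zero] at h2
      rw [← h, ← hQ] at h2
      exact absurd h2 (not_le.mpr hlt)
    · have : ((0, 1) : k × k) ∈ p Q := by rw [htop]; trivial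
      have h2 : Q.1.1 (T (0, 1)) ≤ WithZero.exp (D Q.1 - 1) := this
      rw [hT] at h2
      simp only [one_smul, zero_smul, zero_add] at h2
      rw [← h, ← hQ] at h2
      exact absurd h2 (not_le.mpr hlt)
  haveI : Finite ↥(D.support : Set (Place k K)) := (Finset.finite_toSet _).to_subtype
  obtain ⟨bc, hbc⟩ := Submodule.exists_forall_notMem_of_forall_ne_top p hp
  set x' : K := T bc with hx'
  have hx'L : x' ∈ L D := by
    rw [hx', hT]
    exact add_mem (Submodule.smul_mem _ _ hxL) (Submodule.smul_mem _ _ hyL)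
  have hx'val : ∀ Q ∈ D.support, Q.1 x' = WithZero.exp (D Q) := by
    intro Q hQ
    have h1 : x' ∉ Place.ball Q (D Q - 1) := hbc ⟨Q, hQ⟩
    rw [Place.mem_ball, ← lt_exp_iff_le_exp_sub_one, not_lt] at h1
    exact le_antisymm (hx'L Q) h1
  obtain ⟨Q₀, hQ₀⟩ := hsupp
  have hx'tr : Transcendental k x' := by
    apply transcendental_of_not_mem_range hK
    rintro ⟨c, hc⟩
    have h1 := hx'val Q₀ hQ₀
    rw [← hc] at h1
    have h2 := Q₀.2.1 c
    rw [h1, ← WithZero.exp_zero, WithZero.exp_le_exp] at h2
    rw [Finsupp.mem_support_iff] at hQ₀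
    have := hD0 Q₀
    simp only [Finsupp.coe_zero, Pi.zero_apply] at this
    omega
  have hx'0 : x' ≠ 0 := by
    rintro h
    rw [h] at hx'tr
    exact hx'tr (isAlgebraic_zero)
  have hpoles : polesDiv k x' = D := by
    ext Q
    rw [polesDiv_apply hK]
    by_cases hQ : Q ∈ D.support
    · have h1 := hx'val Q hQ
      rw [Place.val_eq_exp_neg_ord Q hx'0] at h1
      have h2 := WithZero.exp_injective h1
      have := hD0 Q
      simp only [Finsupp.coe_zero, Pi.zero_apply] at this
      rw [h2]
      exact max_eq_left this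
    · rw [Finsupp.notMem_support_iff] at hQ
      rw [hQ]
      have h1 := hx'L Q
      rw [hQ, WithZero.exp_zero] at h1
      have := (Place.ord_nonneg_iff Q hx'0).mpr h1
      exact max_eq_right (by omega)
  by_cases hc : bc.2 = 0
  · -- then `bc.1 ≠ 0` and `y' = y`
    have hb : bc.1 ≠ 0 := by
      intro hb
      apply hx'0
      rw [hx', hT, hb, hc, zero_smul, zero_smul, add_zero]
    refine ⟨x', y, hx'L, hyL, hx'tr, hpoles, ?_⟩
    rw [eq_top_iff, ← hxy, IntermediateField.adjoin_le_iff]
    rintro z (rfl | hz)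
    · have : z = bc.1⁻¹ • x' := by
        rw [hx', hT, hc, zero_smul, add_zero, smul_smul, inv_mul_cancel₀ hb, one_smul]
      rw [this]
      exact (IntermediateField.adjoin k ({x', y} : Set K)).smul_mem
        (IntermediateField.subset_adjoin k _ (by simp))
    · rw [Set.mem_singleton_iff.mp hz]
      exact IntermediateField.subset_adjoin k _ (by simp)
  · refine ⟨x', x, hx'L, hxL, hx'tr, hpoles, ?_⟩
    rw [eq_top_iff, ← hxy, IntermediateField.adjoin_le_iff]
    rintro z (rfl | hz)
    · exact IntermediateField.subset_adjoin k _ (by simp)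
    · rw [Set.mem_singleton_iff.mp hz]
      have : y = bc.2⁻¹ • (x' - bc.1 • x) := by
        rw [hx', hT, add_sub_cancel_left, smul_smul, inv_mul_cancel₀ hc, one_smul]
      rw [this]
      refine (IntermediateField.adjoin k ({x', x} : Set K)).smul_mem (sub_mem ?_ ?_)
      · exact IntermediateField.subset_adjoin k _ (by simp)
      · exact (IntermediateField.adjoin k ({x', x} : Set K)).smul_mem
          (IntermediateField.subset_adjoin k _ (by simp))

theorem pow_mem_L {D : Divisor k K} {z : K} (hz : z ∈ L D) (n : ℕ) :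
    z ^ n ∈ L ((n : ℤ) • D) := by
  induction n with
  | zero =>
    rw [pow_zero, Nat.cast_zero, zero_smul]
    intro Q
    rw [Valuation.map_one, Finsupp.zero_apply, WithZero.exp_zero]
  | succ n ih =>
    rw [pow_succ, Nat.cast_succ, add_smul, one_smul]
    exact W4c6gradedringsgw.mul_mem_L ih hz

theorem sum_range_sub (m d : ℕ) (hd : d ≤ m + 1) :
    (2 : ℤ) * ((∑ j ∈ Finset.range d, (m - j + 1) : ℕ) : ℤ) =
      2 * d * (m + 1) - d * (d - 1) := by
  induction d with
  | zero => simp
  | succ d ih =>
    rw [Finset.sum_range_succ, Nat.cast_add, mul_add, ih (by omega)]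
    push_cast [Nat.cast_sub (show d ≤ m by omega)]
    ring

/-- **Genus bound for plane models.** -/
theorem genus_le_plane (hK : IsFunctionField k K) [IsAlgClosed k] (x y : K)
    (hxy : IntermediateField.adjoin k ({x, y} : Set K) = ⊤) :
    2 * (genus k K : ℤ) ≤
      ((mapDiv k ![(1 : K), x, y]).deg - 1) * ((mapDiv k ![(1 : K), x, y]).deg - 2) := by
  classical
  obtain ⟨x', y', hx'L, hy'L, htr, hpoles, hgen⟩ := exists_generic_form hK x y hxy
  set D : Divisor k K := mapDiv k ![(1 : K), x, y] with hD
  have hD0 : 0 ≤ D := by rw [← hpoles]; exact polesDiv_nonneg x'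
  haveI := finiteDimensional_adjoin hK htr
  set d : ℕ := Module.finrank k⟮x'⟯ K with hd
  have hdeg : D.deg = d := by rw [← hpoles, deg_polesDiv hK htr]
  have hdpos : 0 < d := Module.finrank_pos
  -- `y'` generates `K` over `k(x')`
  have hFtop : k⟮x'⟯⟮y'⟯ = ⊤ := by
    have h1 := IntermediateField.adjoin_adjoin_left k ({x'} : Set K) ({y'} : Set K)
    rw [Set.singleton_union, hgen] at h1
    rw [eq_top_iff]
    intro z _
    have : z ∈ (k⟮x'⟯⟮y'⟯).restrictScalars k := by rw [h1]; trivial
    exact this
  have hint : IsIntegral ↥k⟮x'⟯ y' := Algebra.IsIntegral.isIntegral y'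
  have hnat : (minpoly ↥k⟮x'⟯ y').natDegree = d := by
    rw [← IntermediateField.adjoin.finrank hint, hFtop, IntermediateField.finrank_top']
  have hpowK : LinearIndependent ↥k⟮x'⟯ (fun j : Fin d => y' ^ (j : ℕ)) := by
    have h1 := (linearIndependent_pow (K := ↥k⟮x'⟯) y').comp (Fin.cast hnat.symm)
      (Fin.cast_injective _)
    exact h1
  -- powers of the generator of `k(x')` are independent over `k`
  set gen : ↥k⟮x'⟯ := AdjoinSimple.gen k x' with hgen'
  have hpowF : LinearIndependent k (fun i : ℕ => gen ^ i) := by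
    have hinj : Function.Injective (Polynomial.aeval (R := k) gen) := by
      intro p q hpq
      have h1 : Polynomial.aeval x' p = Polynomial.aeval x' q := by
        have := congrArg (algebraMap ↥k⟮x'⟯ K) hpq
        rw [← Polynomial.aeval_algebraMap_apply, ← Polynomial.aeval_algebraMap_apply] at this
        exact this
      exact (transcendental_iff_injective.mp htr) h1
    have h2 := (Polynomial.basisMonomials k).linearIndependent.map'
      (Polynomial.aeval (R := k) gen).toLinearMap (LinearMap.ker_eq_bot.mpr hinj)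
    rw [Polynomial.coe_basisMonomials] at h2
    have e : (fun i : ℕ => gen ^ i) =
        (Polynomial.aeval (R := k) gen).toLinearMap ∘ (fun s => Polynomial.monomial s (1 : k)) := by
      funext i
      simp [Polynomial.aeval_monomial]
    rw [e]
    exact h2
  have hprod := linearIndependent_smul hpowF hpowK
  -- the index set
  set m : ℕ := d + 2 * genus k K + 1 with hm
  let ι : (Σ j : Fin d, Fin (m - (j : ℕ) + 1)) → ℕ × Fin d := fun p => ((p.2 : ℕ), p.1)
  have hι : Function.Injective ι := by
    rintro ⟨j, i⟩ ⟨j', i'⟩ h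
    simp only [ι, Prod.mk.injEq] at h
    obtain ⟨h1, rfl⟩ := h
    congr 1
    exact Fin.ext h1
  have hli := hprod.comp ι hι
  have hmem : ∀ p : (Σ j : Fin d, Fin (m - (j : ℕ) + 1)),
      gen ^ (ι p).1 • y' ^ ((ι p).2 : ℕ) ∈ L ((m : ℤ) • D) := by
    rintro ⟨j, i⟩
    have h1 := pow_mem_L hx'L (i : ℕ)
    have h2 := pow_mem_L hy'L (j : ℕ)
    have h3 := W4c6gradedringsgw.mul_mem_L h1 h2
    rw [← add_smul] at h3
    have hle : (((i : ℕ) : ℤ) + ((j : ℕ) : ℤ)) • D ≤ (m : ℤ) • D := by
      intro Q
      rw [Finsupp.smul_apply, Finsupp.smul_apply, smul_eq_mul, smul_eq_mul]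
      have hQ : (0 : ℤ) ≤ D Q := hD0 Q
      have hi := i.2
      have hj := j.2
      have : ((i : ℕ) : ℤ) + ((j : ℕ) : ℤ) ≤ (m : ℤ) := by
        have : (i : ℕ) + (j : ℕ) ≤ m := by omega
        exact_mod_cast this
      exact mul_le_mul_of_nonneg_right this hQ
    have h4 := L_mono hle h3
    show gen ^ (i : ℕ) • y' ^ (j : ℕ) ∈ L ((m : ℤ) • D)
    have e : gen ^ (i : ℕ) • y' ^ (j : ℕ) = x' ^ (i : ℕ) * y' ^ (j : ℕ) := by
      rw [Algebra.smul_def, map_pow]
      rfl
    rw [e]
    exact h4
  haveI := finiteDimensional_L hK ((m : ℤ) • D)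
  let μ' : (Σ j : Fin d, Fin (m - (j : ℕ) + 1)) → ↥(L ((m : ℤ) • D)) := fun p => ⟨_, hmem p⟩
  have hli' : LinearIndependent k μ' :=
    LinearIndependent.of_comp (L ((m : ℤ) • D)).subtype hli
  have hcard := hli'.fintype_card_le_finrank
  rw [Fintype.card_sigma] at hcard
  simp only [Fintype.card_fin] at hcard
  rw [Fin.sum_univ_eq_sum_range (fun j => m - j + 1) d] at hcard
  have hsum := sum_range_sub m d (by omega)
  have hell := ell_of_deg_ge hK (D := (m : ℤ) • D) (by
    rw [deg_zsmul, hdeg, hm]
    push_cast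
    have : (0 : ℤ) < d := by exact_mod_cast hdpos
    nlinarith [Int.natCast_nonneg (genus k K)])
  rw [deg_zsmul, hdeg] at hell
  unfold ell at hell
  have hcard' : ((∑ j ∈ Finset.range d, (m - j + 1) : ℕ) : ℤ) ≤
      (Module.finrank k ↥(L ((m : ℤ) • D)) : ℤ) := by exact_mod_cast hcard
  rw [hdeg]
  have e1 : (2 : ℤ) * d * (m + 1) = 2 * (m * d) + 2 * d := by ring
  have e2 : ((d : ℤ) - 1) * (d - 2) = d * (d - 1) - 2 * d + 2 := by ring
  rw [e2]
  linarith

end FF

end Groth.Agent.Lib.helper10
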