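import Groth.Agent.Lib.Helper10.FunFld33

/-!
Function fields of one variable (helper10), part 34: the local ring of a projective map at a
place — homogeneous description, fibres, separating forms, the local conductor.
-/

set_option autoImplicit false
set_option linter.unusedSectionVars false
set_option linter.style.haveILetI false

universe u v w

open IntermediateField FunFld Polynomial

namespace Groth.Agent.Lib.helper10

namespace FF

open RD PA

variable {k : Type u} {K : Type v} [Field k] [Field K] [Algebra k K]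

section Local

variable {ι : Type*} [Fintype ι] [Nonempty ι]

theorem Place.val_algebraMap_eq_one (P : Place k K) {c : k} (hc : c ≠ 0) :
    P.1 (algebraMap k K c) = 1 :=
  trivOn_of_le_one P.2.1 c hc

/-- The homogeneous description of the local ring of a projective map. -/
theorem inLocRing_iff_forms (hK : IsFunctionField k K) (φ : ι → K) (h0 : ∀ i, φ i ≠ 0)
    (P : Place k K) (z : K) :
    InLocRing φ P z ↔ ∃ (m : ℕ) (U W : K), U ∈ SG k φ m ∧ W ∈ SG k φ m ∧
      P.1 W = WithZero.exp ((m : ℤ) * mapDiv k φ P) ∧ z * W = U := by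
  constructor
  · rintro ⟨j, hj0, hj, u, hu, w, hw, hwP, hzw⟩
    have hjP := val_argmax_eq_gen hK φ h0 P j hj
    obtain ⟨n₁, h₁⟩ := exists_mul_pow_mem_SG φ j hj0 hu
    obtain ⟨n₂, h₂⟩ := exists_mul_pow_mem_SG φ j hj0 hw
    set n := max n₁ n₂ with hn
    refine ⟨n, u * (φ j) ^ n, w * (φ j) ^ n, h₁ n (le_max_left _ _), h₂ n (le_max_right _ _),
      ?_, ?_⟩
    · rw [Valuation.map_mul, hwP, one_mul, Valuation.map_pow, hjP, ← WithZero.exp_nsmul,
        nsmul_eq_mul]
    · rw [← hzw]; ring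
  · rintro ⟨m, U, W, hU, hW, hWP, hzW⟩
    obtain ⟨j, hj⟩ := exists_argmax_gen φ P
    have hjP := val_argmax_eq_gen hK φ h0 P j hj
    have hpow0 : (φ j) ^ m ≠ 0 := pow_ne_zero _ (h0 j)
    refine ⟨j, h0 j, hj, U / (φ j) ^ m, div_pow_mem_adjoin_gen φ j (h0 j) hU,
      W / (φ j) ^ m, div_pow_mem_adjoin_gen φ j (h0 j) hW, ?_, ?_⟩
    · rw [map_div₀, hWP, Valuation.map_pow, hjP, ← WithZero.exp_nsmul, nsmul_eq_mul]
      exact div_self WithZero.exp_ne_zero
    · rw [← hzW]; field_simp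

/-- Under `SameImage`, an index of least order at `P` has least order at `Q`, and the residues
of all ratios agree. -/
theorem sameImage_argmax (φ : ι → K) (h0 : ∀ i, φ i ≠ 0) {P Q : Place k K}
    (h : SameImage φ P Q) (j : ι) (hj : ∀ i, P.1 (φ i) ≤ P.1 (φ j)) :
    (∀ i, Q.1 (φ i) ≤ Q.1 (φ j)) ∧
      ∀ i, ∃ c : k, P.1 (φ i / φ j - algebraMap k K c) < 1 ∧
        Q.1 (φ i / φ j - algebraMap k K c) < 1 := by
  obtain ⟨j', hj'0, hj'P, hj'Q, hres⟩ := h
  have hPjj' : P.1 (φ j / φ j') = 1 := by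
    rw [map_div₀]
    have : P.1 (φ j) = P.1 (φ j') := le_antisymm (hj'P j) (hj j')
    rw [this]
    exact div_self ((Valuation.ne_zero_iff _).mpr hj'0)
  obtain ⟨cj, hcjP, hcjQ⟩ := hres j
  have hcj0 : cj ≠ 0 := by
    rintro rfl
    rw [map_zero, sub_zero, hPjj'] at hcjP
    exact lt_irrefl _ hcjP
  have hQjj' : Q.1 (φ j / φ j') = 1 := by
    have e : φ j / φ j' = algebraMap k K cj + (φ j / φ j' - algebraMap k K cj) := by ring
    rw [e, Valuation.map_add_eq_of_lt_left]
    · exact Place.val_algebraMap_eq_one Q hcj0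
    · rw [Place.val_algebraMap_eq_one Q hcj0]; exact hcjQ
  have hQj : Q.1 (φ j) = Q.1 (φ j') := by
    rw [map_div₀] at hQjj'
    exact (div_eq_one_iff_eq ((Valuation.ne_zero_iff _).mpr hj'0)).mp hQjj'
  refine ⟨fun i => hQj ▸ hj'Q i, fun i => ?_⟩
  obtain ⟨ci, hciP, hciQ⟩ := hres i
  refine ⟨ci / cj, ?_, ?_⟩
  · have e : φ i / φ j - algebraMap k K (ci / cj) =
        ((φ i / φ j' - algebraMap k K ci) * algebraMap k K cj -
          algebraMap k K ci * (φ j / φ j' - algebraMap k K cj)) /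
            ((φ j / φ j') * algebraMap k K cj) := by
      have h1 : φ j ≠ 0 := h0 j
      have h3 : algebraMap k K cj ≠ 0 := by
        rw [Ne, map_eq_zero_iff _ (algebraMap k K).injective]; exact hcj0
      rw [map_div₀]
      field_simp
      ring
    rw [e, map_div₀, Valuation.map_mul, hPjj', Place.val_algebraMap_eq_one P hcj0, mul_one,
      div_one]
    refine lt_of_le_of_lt (Valuation.map_sub _ _ _) (max_lt ?_ ?_)
    · rw [Valuation.map_mul, Place.val_algebraMap_eq_one P hcj0, mul_one]; exact hciP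
    · rw [Valuation.map_mul]
      calc P.1 (algebraMap k K ci) * P.1 (φ j / φ j' - algebraMap k K cj)
          ≤ 1 * P.1 (φ j / φ j' - algebraMap k K cj) := mul_le_mul' (P.2.1 ci) le_rfl
        _ = P.1 (φ j / φ j' - algebraMap k K cj) := one_mul _
        _ < 1 := hcjP
  · have e : φ i / φ j - algebraMap k K (ci / cj) =
        ((φ i / φ j' - algebraMap k K ci) * algebraMap k K cj -
          algebraMap k K ci * (φ j / φ j' - algebraMap k K cj)) /
            ((φ j / φ j') * algebraMap k K cj) := by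
      have h1 : φ j ≠ 0 := h0 j
      have h3 : algebraMap k K cj ≠ 0 := by
        rw [Ne, map_eq_zero_iff _ (algebraMap k K).injective]; exact hcj0
      rw [map_div₀]
      field_simp
      ring
    rw [e, map_div₀, Valuation.map_mul, hQjj', Place.val_algebraMap_eq_one Q hcj0, mul_one,
      div_one]
    refine lt_of_le_of_lt (Valuation.map_sub _ _ _) (max_lt ?_ ?_)
    · rw [Valuation.map_mul, Place.val_algebraMap_eq_one Q hcj0, mul_one]; exact hciQ
    · rw [Valuation.map_mul]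
      calc Q.1 (algebraMap k K ci) * Q.1 (φ j / φ j' - algebraMap k K cj)
          ≤ 1 * Q.1 (φ j / φ j' - algebraMap k K cj) := mul_le_mul' (Q.2.1 ci) le_rfl
        _ = Q.1 (φ j / φ j' - algebraMap k K cj) := one_mul _
        _ < 1 := hcjQ

/-- A linear form separating `P` from a place outside its fibre. -/
theorem separating_form (hK : IsFunctionField k K) [IsAlgClosed k] (φ : ι → K)
    (h0 : ∀ i, φ i ≠ 0) {P Q : Place k K} (h : ¬ SameImage φ P Q) :
    ∃ ℓ ∈ SG k φ 1, P.1 ℓ = WithZero.exp (mapDiv k φ P) ∧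
      Q.1 ℓ < WithZero.exp (mapDiv k φ Q) := by
  obtain ⟨j, hj⟩ := exists_argmax_gen φ P
  have hjP := val_argmax_eq_gen hK φ h0 P j hj
  by_cases hjQ : ∀ i, Q.1 (φ i) ≤ Q.1 (φ j)
  · -- residues must differ somewhere
    have hex : ∃ i, ∀ c : k, ¬ (P.1 (φ i / φ j - algebraMap k K c) < 1 ∧
        Q.1 (φ i / φ j - algebraMap k K c) < 1) := by
      by_contra hcon
      push Not at hcon
      exact h ⟨j, h0 j, hj, hjQ, hcon⟩
    obtain ⟨i, hi⟩ := hex
    have hQi : Q.1 (φ i / φ j) ≤ 1 := by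
      rw [map_div₀]; exact div_le_one_of_le₀ (hjQ i) zero_le
    have hPi : P.1 (φ i / φ j) ≤ 1 := by
      rw [map_div₀]; exact div_le_one_of_le₀ (hj i) zero_le
    obtain ⟨c, hc⟩ := Place.exists_const_sub_lt hK Q hQi
    have hPc : ¬ P.1 (φ i / φ j - algebraMap k K c) < 1 := fun hlt => hi c ⟨hlt, hc⟩
    have hPc1 : P.1 (φ i / φ j - algebraMap k K c) = 1 := by
      apply le_antisymm _ (not_lt.mp hPc)
      exact le_trans (Valuation.map_sub _ _ _) (max_le hPi (P.2.1 c))
    have hjQ' := val_argmax_eq_gen hK φ h0 Q j hjQ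
    refine ⟨φ i - c • φ j, ?_, ?_, ?_⟩
    · unfold SG
      rw [pow_one]
      exact sub_mem (Submodule.subset_span ⟨i, rfl⟩)
        (Submodule.smul_mem _ _ (Submodule.subset_span ⟨j, rfl⟩))
    · have e : φ i - c • φ j = (φ i / φ j - algebraMap k K c) * φ j := by
        rw [Algebra.smul_def, sub_mul, div_mul_cancel₀ _ (h0 j)]
      rw [e, Valuation.map_mul, hPc1, one_mul, hjP]
    · have e : φ i - c • φ j = (φ i / φ j - algebraMap k K c) * φ j := by
        rw [Algebra.smul_def, sub_mul, div_mul_cancel₀ _ (h0 j)]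
      rw [e, Valuation.map_mul, hjQ']
      calc Q.1 (φ i / φ j - algebraMap k K c) * WithZero.exp (mapDiv k φ Q)
          < 1 * WithZero.exp (mapDiv k φ Q) :=
            mul_lt_mul_of_pos_right hc WithZero.exp_pos
        _ = WithZero.exp (mapDiv k φ Q) := one_mul _
  · push Not at hjQ
    obtain ⟨i, hi⟩ := hjQ
    exact ⟨φ j, phi_mem_SG φ j, hjP, lt_of_lt_of_le hi (val_le_exp_mapDiv hK φ Q i)⟩

/-- Under `SameImage`, every polynomial in the ratios has the same residue at both places. -/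
theorem adjoin_residue_eq (φ : ι → K) (h0 : ∀ i, φ i ≠ 0) {P Q : Place k K}
    (h : SameImage φ P Q) (j : ι) (hj : ∀ i, P.1 (φ i) ≤ P.1 (φ j)) {a : K}
    (ha : a ∈ Algebra.adjoin k (Set.range fun i => φ i / φ j)) :
    ∃ c : k, P.1 (a - algebraMap k K c) < 1 ∧ Q.1 (a - algebraMap k K c) < 1 := by
  obtain ⟨-, hres⟩ := sameImage_argmax φ h0 h j hj
  induction ha using Algebra.adjoin_induction with
  | mem z hz =>
    obtain ⟨i, rfl⟩ := hz
    exact hres i
  | algebraMap r =>
    exact ⟨r, by rw [sub_self, Valuation.map_zero]; exact zero_lt_one,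
      by rw [sub_self, Valuation.map_zero]; exact zero_lt_one⟩
  | add x y _ _ hx hy =>
    obtain ⟨c, hcP, hcQ⟩ := hx
    obtain ⟨d, hdP, hdQ⟩ := hy
    refine ⟨c + d, ?_, ?_⟩
    · have e : x + y - algebraMap k K (c + d) =
          (x - algebraMap k K c) + (y - algebraMap k K d) := by rw [map_add]; ring
      rw [e]
      exact lt_of_le_of_lt (Valuation.map_add _ _ _) (max_lt hcP hdP)
    · have e : x + y - algebraMap k K (c + d) =
          (x - algebraMap k K c) + (y - algebraMap k K d) := by rw [map_add]; ring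
      rw [e]
      exact lt_of_le_of_lt (Valuation.map_add _ _ _) (max_lt hcQ hdQ)
  | mul x y _ _ hx hy =>
    obtain ⟨c, hcP, hcQ⟩ := hx
    obtain ⟨d, hdP, hdQ⟩ := hy
    have key : ∀ R : Place k K, R.1 (x - algebraMap k K c) < 1 → R.1 (y - algebraMap k K d) < 1 →
        R.1 (x * y - algebraMap k K (c * d)) < 1 := by
      intro R h1 h2
      have hy1 : R.1 y ≤ 1 := by
        have e : y = (y - algebraMap k K d) + algebraMap k K d := by ring
        rw [e]
        exact le_trans (Valuation.map_add _ _ _) (max_le h2.le (R.2.1 d))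
      have e : x * y - algebraMap k K (c * d) =
          (x - algebraMap k K c) * y + algebraMap k K c * (y - algebraMap k K d) := by
        rw [map_mul]; ring
      rw [e]
      refine lt_of_le_of_lt (Valuation.map_add _ _ _) (max_lt ?_ ?_)
      · rw [Valuation.map_mul]
        calc R.1 (x - algebraMap k K c) * R.1 y ≤ R.1 (x - algebraMap k K c) * 1 :=
              mul_le_mul' le_rfl hy1
          _ = R.1 (x - algebraMap k K c) := mul_one _
          _ < 1 := h1
      · rw [Valuation.map_mul]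
        calc R.1 (algebraMap k K c) * R.1 (y - algebraMap k K d)
            ≤ 1 * R.1 (y - algebraMap k K d) := mul_le_mul' (R.2.1 c) le_rfl
          _ = R.1 (y - algebraMap k K d) := one_mul _
          _ < 1 := h2
    exact ⟨c * d, key P hcP hdP, key Q hcQ hdQ⟩

theorem coeff_le_deg (hK : IsFunctionField k K) [IsAlgClosed k] {E : Divisor k K} (hE : 0 ≤ E)
    (Q : Place k K) : E Q ≤ E.deg := by
  classical
  have h1 : 0 ≤ E - Finsupp.single Q (E Q) := by
    intro R
    rw [Finsupp.zero_apply, Finsupp.sub_apply]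
    by_cases hR : R = Q
    · rw [hR, Finsupp.single_eq_same, sub_self]
    · rw [Finsupp.single_eq_of_ne hR, sub_zero]; exact hE R
  have h2 := deg_nonneg h1
  rw [deg_sub, deg_single, Place.deg_eq_one hK Q] at h2
  simp only [Nat.cast_one, mul_one] at h2
  omega

/-- Clearing the poles outside the fibre by a form not vanishing at `P`. -/
theorem rep_aux (hK : IsFunctionField k K) [IsAlgClosed k] (φ : ι → K) (h0 : ∀ i, φ i ≠ 0)
    (P : Place k K) :
    ∀ (N : ℕ) (F : Divisor k K) (m : ℕ) (z : K), 0 ≤ F → F.deg = N →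
      (∀ Q, F Q ≠ 0 → ¬ SameImage φ P Q) → z ∈ L ((m : ℤ) • mapDiv k φ + F) →
      ∃ (m' : ℕ) (s : K), s ∈ SG k φ m' ∧
        P.1 s = WithZero.exp ((m' : ℤ) * mapDiv k φ P) ∧
        z * s ∈ L (((m + m' : ℕ) : ℤ) • mapDiv k φ) := by
  classical
  set D := mapDiv k φ with hD
  intro N
  induction N with
  | zero =>
    intro F m z hF hdeg _ hz
    have hF0 : F = 0 := eq_zero_of_nonneg_of_deg_eq_zero hK hF (by exact_mod_cast hdeg)
    rw [hF0, add_zero] at hz
    refine ⟨0, 1, one_mem_SG φ, ?_, ?_⟩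
    · rw [Valuation.map_one, Nat.cast_zero, zero_mul, WithZero.exp_zero]
    · rw [mul_one, Nat.add_zero]; exact hz
  | succ N ih =>
    intro F m z hF hdeg hsupp hz
    have hFne : F ≠ 0 := by
      rintro rfl
      rw [deg_zero] at hdeg
      have : (0 : ℤ) = ((N + 1 : ℕ) : ℤ) := hdeg
      omega
    obtain ⟨Q₀, hQ₀⟩ : ∃ Q₀, F Q₀ ≠ 0 := by
      by_contra hcon
      push Not at hcon
      exact hFne (Finsupp.ext hcon)
    have hFQ₀ : 1 ≤ F Q₀ := by
      have := hF Q₀
      rw [Finsupp.zero_apply] at this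
      omega
    obtain ⟨ℓ, hℓS, hℓP, hℓQ⟩ := separating_form hK φ h0 (hsupp Q₀ hQ₀)
    set F' : Divisor k K := F - Finsupp.single Q₀ 1 with hF'
    have hF'0 : 0 ≤ F' := by
      intro R
      rw [Finsupp.zero_apply, hF', Finsupp.sub_apply]
      by_cases hR : R = Q₀
      · rw [hR, Finsupp.single_eq_same]; omega
      · rw [Finsupp.single_eq_of_ne hR, sub_zero]; exact hF R
    have hF'deg : F'.deg = N := by
      rw [hF', deg_sub, deg_single, Place.deg_eq_one hK Q₀, hdeg]
      push_cast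
      ring
    have hF'supp : ∀ Q, F' Q ≠ 0 → ¬ SameImage φ P Q := by
      intro Q hQ
      by_cases hR : Q = Q₀
      · rw [hR]; exact hsupp Q₀ hQ₀
      · apply hsupp Q
        rw [hF', Finsupp.sub_apply, Finsupp.single_eq_of_ne hR, sub_zero] at hQ
        exact hQ
    have hℓL : ℓ ∈ L D := by
      have := SG_le_L hK φ 1 hℓS
      rwa [Nat.cast_one, one_smul] at this
    have hzℓ : z * ℓ ∈ L (((m + 1 : ℕ) : ℤ) • D + F') := by
      intro Q
      rw [Valuation.map_mul]
      have h1 := hz Q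
      rw [Finsupp.add_apply, Finsupp.smul_apply, smul_eq_mul] at h1
      rw [Finsupp.add_apply, Finsupp.smul_apply, smul_eq_mul, hF', Finsupp.sub_apply]
      by_cases hR : Q = Q₀
      · rw [hR, Finsupp.single_eq_same]
        rw [hR] at h1
        have h2 : Q₀.1 ℓ ≤ WithZero.exp (D Q₀ - 1) := by
          rwa [← lt_exp_iff_le_exp_sub_one]
        calc Q₀.1 z * Q₀.1 ℓ ≤ WithZero.exp ((m : ℤ) * D Q₀ + F Q₀) * WithZero.exp (D Q₀ - 1) :=
              mul_le_mul' h1 h2
          _ = WithZero.exp (((m + 1 : ℕ) : ℤ) * D Q₀ + (F Q₀ - 1)) := by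
            rw [← WithZero.exp_add]; congr 1; push_cast; ring
      · rw [Finsupp.single_eq_of_ne hR, sub_zero]
        calc Q.1 z * Q.1 ℓ ≤ WithZero.exp ((m : ℤ) * D Q + F Q) * WithZero.exp (D Q) :=
              mul_le_mul' h1 (hℓL Q)
          _ = WithZero.exp (((m + 1 : ℕ) : ℤ) * D Q + F Q) := by
            rw [← WithZero.exp_add]; congr 1; push_cast; ring
    obtain ⟨m'', s'', hs''S, hs''P, hs''L⟩ := ih F' (m + 1) (z * ℓ) hF'0 hF'deg hF'supp hzℓ
    refine ⟨1 + m'', ℓ * s'', mul_mem_SG hℓS hs''S, ?_, ?_⟩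
    · rw [Valuation.map_mul, hℓP, hs''P, ← WithZero.exp_add]
      congr 1
      push_cast
      ring
    · rw [← mul_assoc, show m + (1 + m'') = m + 1 + m'' by omega]
      exact hs''L

/-- Elements regular on the fibre of `P` are quotients `γ / s` with `γ ∈ L(mD)`, `s` a form of
degree `m` not vanishing at `P`, `m` as large as we like. -/
theorem exists_rep (hK : IsFunctionField k K) [IsAlgClosed k] (φ : ι → K) (h0 : ∀ i, φ i ≠ 0)
    (P : Place k K) (M₀ : ℕ) {z : K} (hz : ∀ Q, SameImage φ P Q → Q.1 z ≤ 1) :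
    ∃ (m : ℕ) (s : K), M₀ ≤ m ∧ s ∈ SG k φ m ∧
      P.1 s = WithZero.exp ((m : ℤ) * mapDiv k φ P) ∧ z * s ∈ L ((m : ℤ) • mapDiv k φ) := by
  classical
  set D := mapDiv k φ with hD
  set B := polesDiv k z with hB
  have hB0 : 0 ≤ B := polesDiv_nonneg z
  have hBdeg : 0 ≤ B.deg := deg_nonneg hB0
  have hBsupp : ∀ Q, B Q ≠ 0 → ¬ SameImage φ P Q := by
    intro Q hQ hsame
    apply hQ
    apply WithZero.exp_injective
    rw [hB, exp_polesDiv hK, WithZero.exp_zero]
    exact max_eq_right (hz Q hsame)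
  have hzL : z ∈ L (((0 : ℕ) : ℤ) • D + B) := by
    rw [Nat.cast_zero, zero_smul, zero_add]
    exact fun Q => val_le_exp_polesDiv hK z Q
  obtain ⟨m', s, hsS, hsP, hsL⟩ := rep_aux hK φ h0 P B.deg.toNat B 0 z hB0
    (by rw [Int.toNat_of_nonneg hBdeg]) hBsupp hzL
  rw [Nat.zero_add] at hsL
  obtain ⟨j, hj⟩ := exists_argmax_gen φ P
  have hjP := val_argmax_eq_gen hK φ h0 P j hj
  refine ⟨m' + M₀, s * (φ j) ^ M₀, by omega, mul_mem_SG hsS (phi_pow_mem_SG φ j M₀), ?_, ?_⟩
  · rw [Valuation.map_mul, hsP, Valuation.map_pow, hjP, ← WithZero.exp_nsmul, nsmul_eq_mul,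
      ← WithZero.exp_add]
    congr 1
    push_cast
    ring
  · have h1 : (φ j) ^ M₀ ∈ L ((M₀ : ℤ) • D) :=
      pow_mem_L (fun Q => val_le_exp_mapDiv hK φ Q j) M₀
    have h2 := W4c6gradedringsgw.mul_mem_L hsL h1
    rw [← add_smul] at h2
    rw [← mul_assoc]
    exact_mod_cast h2

/-- **S12532**: the local conductor — elements of high order along the fibre of `P` lie in the
local ring of a birational projective map at `P`. -/
theorem exists_bound_inLocRing (hK : IsFunctionField k K) [IsAlgClosed k] (φ : ι → K)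
    (h0 : ∀ i, φ i ≠ 0) (j₀ : ι)
    (hbir : IntermediateField.adjoin k (Set.range fun i => φ i / φ j₀) = ⊤) (P : Place k K) :
    ∃ N : ℕ, ∀ z : K, (∀ Q : Place k K, SameImage φ P Q → Q.1 z ≤ WithZero.exp (-(N : ℤ))) →
      InLocRing φ P z := by
  classical
  obtain ⟨n, w, hw0, hw, hcond⟩ := exists_global_conductor hK φ h0 j₀ hbir
  set D := mapDiv k φ with hD
  have hwL : w ∈ L ((n : ℤ) • D) := SG_le_L hK φ n hw
  set E : Divisor k K := (n : ℤ) • D + FunFld.div k w with hE
  have hE0 : 0 ≤ E := (mem_L_iff_div hK hw0 _).mp hwL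
  have hEdeg : 0 ≤ E.deg := deg_nonneg hE0
  refine ⟨E.deg.toNat, fun z hz => ?_⟩
  obtain ⟨j, hj⟩ := exists_argmax_gen φ P
  have hjP := val_argmax_eq_gen hK φ h0 P j hj
  have hpow0 : (φ j) ^ n ≠ 0 := pow_ne_zero _ (h0 j)
  set z' := z * (φ j) ^ n / w with hz'
  have hz'fib : ∀ Q, SameImage φ P Q → Q.1 z' ≤ 1 := by
    intro Q hQ
    obtain ⟨hjQ, -⟩ := sameImage_argmax φ h0 hQ j hj
    have hjQ' := val_argmax_eq_gen hK φ h0 Q j hjQ
    have h1 := hz Q hQ
    have h2 : Q.1 ((φ j) ^ n / w) = WithZero.exp (E Q) := by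
      rw [map_div₀, Valuation.map_pow, hjQ', Place.val_eq_exp_neg_ord Q hw0,
        ← WithZero.exp_nsmul, ← WithZero.exp_sub, hE, Finsupp.add_apply, div_apply hK,
        Finsupp.smul_apply]
      congr 1
      rw [nsmul_eq_mul, smul_eq_mul]
      ring
    have h3 : E Q ≤ E.deg := coeff_le_deg hK hE0 Q
    have e : z' = z * ((φ j) ^ n / w) := by rw [hz']; ring
    rw [e, Valuation.map_mul, h2]
    calc Q.1 z * WithZero.exp (E Q)
        ≤ WithZero.exp (-((E.deg.toNat : ℕ) : ℤ)) * WithZero.exp (E Q) := mul_le_mul' h1 le_rfl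
      _ = WithZero.exp (-((E.deg.toNat : ℕ) : ℤ) + E Q) := by rw [← WithZero.exp_add]
      _ ≤ WithZero.exp 0 := by
        rw [WithZero.exp_le_exp, Int.toNat_of_nonneg hEdeg]; omega
      _ = 1 := WithZero.exp_zero
  obtain ⟨m, s, hm, hsS, hsP, hsL⟩ := exists_rep hK φ h0 P (2 * genus k K + 1) hz'fib
  have h1 := hcond m hm _ hsL
  rw [inLocRing_iff_forms hK φ h0]
  refine ⟨n + m, w * (z' * s), (φ j) ^ n * s, h1, mul_mem_SG (phi_pow_mem_SG φ j n) hsS, ?_, ?_⟩
  · rw [Valuation.map_mul, Valuation.map_pow, hjP, hsP, ← WithZero.exp_nsmul, nsmul_eq_mul,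
      ← WithZero.exp_add]
    congr 1
    push_cast
    ring
  · rw [hz']
    field_simp

/-! ### The local ring as a ring; fibres -/

theorem inLocRing_val_le_one (hK : IsFunctionField k K) (φ : ι → K) (h0 : ∀ i, φ i ≠ 0)
    (P : Place k K) {z : K} (h : InLocRing φ P z) : P.1 z ≤ 1 := by
  rw [inLocRing_iff_forms hK φ h0] at h
  obtain ⟨m, U, W, hU, hW, hWP, hzW⟩ := h
  have hUL := SG_le_L hK φ m hU P
  rw [Finsupp.smul_apply, smul_eq_mul] at hUL
  have hW0 : P.1 W ≠ 0 := by rw [hWP]; exact WithZero.exp_ne_zero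
  have : P.1 z = P.1 U / P.1 W := by
    rw [← hzW, Valuation.map_mul, mul_div_assoc, div_self hW0, mul_one]
  rw [this, hWP]
  exact div_le_one_of_le₀ hUL zero_le

theorem inLocRing_algebraMap (hK : IsFunctionField k K) (φ : ι → K) (h0 : ∀ i, φ i ≠ 0)
    (P : Place k K) (c : k) : InLocRing φ P (algebraMap k K c) := by
  rw [inLocRing_iff_forms hK φ h0]
  refine ⟨0, algebraMap k K c, 1, algebraMap_mem_SG φ c, one_mem_SG φ, ?_, mul_one _⟩
  rw [Valuation.map_one, Nat.cast_zero, zero_mul, WithZero.exp_zero]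

theorem inLocRing_add (hK : IsFunctionField k K) (φ : ι → K) (h0 : ∀ i, φ i ≠ 0)
    (P : Place k K) {z₁ z₂ : K} (h₁ : InLocRing φ P z₁) (h₂ : InLocRing φ P z₂) :
    InLocRing φ P (z₁ + z₂) := by
  rw [inLocRing_iff_forms hK φ h0] at h₁ h₂ ⊢
  obtain ⟨m₁, U₁, W₁, hU₁, hW₁, hW₁P, hz₁⟩ := h₁
  obtain ⟨m₂, U₂, W₂, hU₂, hW₂, hW₂P, hz₂⟩ := h₂
  refine ⟨m₁ + m₂, U₁ * W₂ + W₁ * U₂, W₁ * W₂,
    add_mem (mul_mem_SG hU₁ hW₂) (mul_mem_SG hW₁ hU₂), mul_mem_SG hW₁ hW₂, ?_, ?_⟩
  · rw [Valuation.map_mul, hW₁P, hW₂P, ← WithZero.exp_add]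
    congr 1; push_cast; ring
  · rw [← hz₁, ← hz₂]; ring

theorem inLocRing_mul (hK : IsFunctionField k K) (φ : ι → K) (h0 : ∀ i, φ i ≠ 0)
    (P : Place k K) {z₁ z₂ : K} (h₁ : InLocRing φ P z₁) (h₂ : InLocRing φ P z₂) :
    InLocRing φ P (z₁ * z₂) := by
  rw [inLocRing_iff_forms hK φ h0] at h₁ h₂ ⊢
  obtain ⟨m₁, U₁, W₁, hU₁, hW₁, hW₁P, hz₁⟩ := h₁
  obtain ⟨m₂, U₂, W₂, hU₂, hW₂, hW₂P, hz₂⟩ := h₂
  refine ⟨m₁ + m₂, U₁ * U₂, W₁ * W₂, mul_mem_SG hU₁ hU₂, mul_mem_SG hW₁ hW₂, ?_, ?_⟩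
  · rw [Valuation.map_mul, hW₁P, hW₂P, ← WithZero.exp_add]
    congr 1; push_cast; ring
  · rw [← hz₁, ← hz₂]; ring

theorem inLocRing_of_mem_adjoin (hK : IsFunctionField k K) (φ : ι → K) (h0 : ∀ i, φ i ≠ 0)
    (P : Place k K) {t : K} (ht : InLocRing φ P t) {p : K}
    (hp : p ∈ Algebra.adjoin k ({t} : Set K)) : InLocRing φ P p := by
  induction hp using Algebra.adjoin_induction with
  | mem z hz => rw [Set.mem_singleton_iff.mp hz]; exact ht
  | algebraMap r => exact inLocRing_algebraMap hK φ h0 P r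
  | add x y _ _ hx hy => exact inLocRing_add hK φ h0 P hx hy
  | mul x y _ _ hx hy => exact inLocRing_mul hK φ h0 P hx hy

/-- The local ring at `P` lies in the valuation ring of every place of the fibre. -/
theorem inLocRing_le_of_sameImage (hK : IsFunctionField k K) (φ : ι → K) (h0 : ∀ i, φ i ≠ 0)
    {P Q : Place k K} (hPQ : SameImage φ P Q) {z : K} (h : InLocRing φ P z) : Q.1 z ≤ 1 := by
  obtain ⟨j, hj0, hj, u, hu, w, hw, hwP, hzw⟩ := h
  obtain ⟨c, hcP, hcQ⟩ := adjoin_residue_eq φ h0 hPQ j hj hw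
  obtain ⟨d, hdP, hdQ⟩ := adjoin_residue_eq φ h0 hPQ j hj hu
  have hc0 : c ≠ 0 := by
    rintro rfl
    rw [map_zero, sub_zero, hwP] at hcP
    exact lt_irrefl _ hcP
  have hwQ : Q.1 w = 1 := by
    have e : w = algebraMap k K c + (w - algebraMap k K c) := by ring
    rw [e, Valuation.map_add_eq_of_lt_left]
    · exact Place.val_algebraMap_eq_one Q hc0
    · rw [Place.val_algebraMap_eq_one Q hc0]; exact hcQ
  have huQ : Q.1 u ≤ 1 := by
    have e : u = (u - algebraMap k K d) + algebraMap k K d := by ring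
    rw [e]
    exact le_trans (Valuation.map_add _ _ _) (max_le hdQ.le (Q.2.1 d))
  have : Q.1 z = Q.1 u := by
    rw [← hzw, Valuation.map_mul, hwQ, mul_one]
  rw [this]
  exact huQ

/-- A place whose valuation ring contains the local ring at `P` lies in the fibre of `P`. -/
theorem sameImage_of_inLocRing_le (hK : IsFunctionField k K) [IsAlgClosed k] (φ : ι → K)
    (h0 : ∀ i, φ i ≠ 0) {P Q : Place k K}
    (h : ∀ z : K, InLocRing φ P z → Q.1 z ≤ 1) : SameImage φ P Q := by
  by_contra hns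
  obtain ⟨ℓ, hℓS, hℓP, hℓQ⟩ := separating_form hK φ h0 hns
  obtain ⟨j, hj⟩ := exists_argmax_gen φ Q
  have hjQ := val_argmax_eq_gen hK φ h0 Q j hj
  have hℓ0 : ℓ ≠ 0 := by
    rintro rfl
    rw [Valuation.map_zero] at hℓP
    exact WithZero.exp_ne_zero hℓP.symm
  have hin : InLocRing φ P (φ j / ℓ) := by
    rw [inLocRing_iff_forms hK φ h0]
    refine ⟨1, φ j, ℓ, phi_mem_SG φ j, hℓS, ?_, div_mul_cancel₀ _ hℓ0⟩
    rw [hℓP, Nat.cast_one, one_mul]
  have h1 := h _ hin
  rw [map_div₀, hjQ] at h1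
  have hℓQ0 : Q.1 ℓ ≠ 0 := (Valuation.ne_zero_iff _).mpr hℓ0
  rw [div_le_one₀ (zero_lt_iff.mpr hℓQ0)] at h1
  exact absurd hℓQ (not_lt.mpr h1)

theorem sameImage_refl (hK : IsFunctionField k K) [IsAlgClosed k] (φ : ι → K)
    (h0 : ∀ i, φ i ≠ 0) (P : Place k K) : SameImage φ P P :=
  sameImage_of_inLocRing_le hK φ h0 fun _ hz => inLocRing_val_le_one hK φ h0 P hz

/-- Expansion in a local parameter. -/
theorem exists_expansion (hK : IsFunctionField k K) [IsAlgClosed k] (P : Place k K) {t : K}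
    (ht : P.1 t = WithZero.exp (-1 : ℤ)) (N : ℕ) :
    ∀ z : K, P.1 z ≤ 1 → ∃ (p z' : K), p ∈ Algebra.adjoin k ({t} : Set K) ∧ P.1 z' ≤ 1 ∧
      z = p + t ^ N * z' := by
  have ht0 : t ≠ 0 := by
    rintro rfl
    rw [Valuation.map_zero] at ht
    exact WithZero.exp_ne_zero ht.symm
  induction N with
  | zero =>
    intro z hz
    exact ⟨0, z, zero_mem _, hz, by rw [pow_zero, one_mul, zero_add]⟩
  | succ N ih =>
    intro z hz
    obtain ⟨p, z', hp, hz', hzp⟩ := ih z hz
    obtain ⟨c, hc⟩ := Place.exists_const_sub_lt hK P hz'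
    have hc' : P.1 (z' - algebraMap k K c) ≤ WithZero.exp (-1 : ℤ) := by
      have := (lt_exp_iff_le_exp_sub_one _ 0).mp (by rwa [WithZero.exp_zero])
      simpa using this
    refine ⟨p + algebraMap k K c * t ^ N, (z' - algebraMap k K c) / t, ?_, ?_, ?_⟩
    · refine add_mem hp (mul_mem (Subalgebra.algebraMap_mem _ c) (pow_mem ?_ N))
      exact Algebra.subset_adjoin (Set.mem_singleton t)
    · rw [map_div₀, ht]
      exact div_le_one_of_le₀ hc' zero_le
    · rw [hzp, pow_succ]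
      field_simp
      ring

/-- **S11065**: nonsingularity means the local ring lies in no other valuation ring and
contains a local parameter. -/
theorem isNonsingularAt_iff_unique_place_and_uniformizer (hK : IsFunctionField k K)
    [IsAlgClosed k] (φ : ι → K) (h0 : ∀ i, φ i ≠ 0) (j₀ : ι)
    (hbir : IntermediateField.adjoin k (Set.range fun i => φ i / φ j₀) = ⊤) (P : Place k K) :
    IsNonsingularAt φ P ↔
      (∀ Q : Place k K, (∀ z : K, InLocRing φ P z → Q.1 z ≤ 1) → Q = P) ∧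
        ∃ t : K, InLocRing φ P t ∧ P.1 t = WithZero.exp (-1) := by
  constructor
  · intro hns
    refine ⟨fun Q hQ => ?_, ?_⟩
    · symm
      apply Place.eq_of_O_le
      intro z hz
      exact (Valuation.mem_valuationSubring_iff _ _).mpr
        (hQ z (hns z ((Valuation.mem_valuationSubring_iff _ _).mp hz)))
    · obtain ⟨t, ht⟩ := Place.exists_uniformizer P
      refine ⟨t, hns t ?_, ht⟩
      rw [ht, ← WithZero.exp_zero, WithZero.exp_le_exp]
      omega
  · rintro ⟨hQ, t, htR, ht⟩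
    have hfib : ∀ Q, SameImage φ P Q → Q = P := fun Q hPQ =>
      hQ Q fun z hz => inLocRing_le_of_sameImage hK φ h0 hPQ hz
    obtain ⟨N, hN⟩ := exists_bound_inLocRing hK φ h0 j₀ hbir P
    intro z hz
    obtain ⟨p, z', hp, hz', rfl⟩ := exists_expansion hK P ht N z hz
    refine inLocRing_add hK φ h0 P (inLocRing_of_mem_adjoin hK φ h0 P htR hp) (hN _ ?_)
    intro Q hPQ
    rw [hfib Q hPQ, Valuation.map_mul, Valuation.map_pow, ht, ← WithZero.exp_nsmul]
    calc WithZero.exp (N • (-1 : ℤ)) * P.1 z' ≤ WithZero.exp (N • (-1 : ℤ)) * 1 :=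
          mul_le_mul' le_rfl hz'
      _ = WithZero.exp (-(N : ℤ)) := by rw [mul_one]; congr 1; simp

/-! ### Tangent lines: local parameters among the linear forms -/

/-- If no linear form vanishes to order exactly one at `P`, every polynomial in the ratios is
a constant modulo `m_P^2`. -/
theorem adjoin_const_mod_sq (hK : IsFunctionField k K) [IsAlgClosed k] (φ : ι → K)
    (h0 : ∀ i, φ i ≠ 0) (P : Place k K) (j : ι) (hj : ∀ i, P.1 (φ i) ≤ P.1 (φ j))
    (hno : ∀ ℓ ∈ SG k φ 1, P.1 ℓ < WithZero.exp (mapDiv k φ P) →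
      P.1 ℓ ≤ WithZero.exp (mapDiv k φ P - 2)) {a : K}
    (ha : a ∈ Algebra.adjoin k (Set.range fun i => φ i / φ j)) :
    ∃ c : k, P.1 (a - algebraMap k K c) ≤ WithZero.exp (-2 : ℤ) := by
  have hjP := val_argmax_eq_gen hK φ h0 P j hj
  have hlt1 : WithZero.exp (-2 : ℤ) ≤ (1 : WithZero (Multiplicative ℤ)) := by
    rw [← WithZero.exp_zero, WithZero.exp_le_exp]; omega
  induction ha using Algebra.adjoin_induction with
  | mem z hz =>
    obtain ⟨i, rfl⟩ := hz
    have hPi : P.1 (φ i / φ j) ≤ 1 := by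
      rw [map_div₀]; exact div_le_one_of_le₀ (hj i) zero_le
    obtain ⟨c, hc⟩ := Place.exists_const_sub_lt hK P hPi
    refine ⟨c, ?_⟩
    have hℓS : φ i - c • φ j ∈ SG k φ 1 := by
      unfold SG
      rw [pow_one]
      exact sub_mem (Submodule.subset_span ⟨i, rfl⟩)
        (Submodule.smul_mem _ _ (Submodule.subset_span ⟨j, rfl⟩))
    have e : φ i - c • φ j = (φ i / φ j - algebraMap k K c) * φ j := by
      rw [Algebra.smul_def, sub_mul, div_mul_cancel₀ _ (h0 j)]
    have h1 : P.1 (φ i - c • φ j) < WithZero.exp (mapDiv k φ P) := by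
      rw [e, Valuation.map_mul, hjP]
      calc P.1 (φ i / φ j - algebraMap k K c) * WithZero.exp (mapDiv k φ P)
          < 1 * WithZero.exp (mapDiv k φ P) := mul_lt_mul_of_pos_right hc WithZero.exp_pos
        _ = WithZero.exp (mapDiv k φ P) := one_mul _
    have h2 := hno _ hℓS h1
    rw [e, Valuation.map_mul, hjP] at h2
    have h3 : WithZero.exp (mapDiv k φ P - 2) =
        WithZero.exp (-2 : ℤ) * WithZero.exp (mapDiv k φ P) := by
      rw [← WithZero.exp_add]; congr 1; ring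
    rw [h3] at h2
    exact le_of_mul_le_mul_right h2 WithZero.exp_pos
  | algebraMap r =>
    exact ⟨r, by rw [sub_self, Valuation.map_zero]; exact zero_le⟩
  | add x y _ _ hx hy =>
    obtain ⟨c, hc⟩ := hx
    obtain ⟨d, hd⟩ := hy
    refine ⟨c + d, ?_⟩
    have e : x + y - algebraMap k K (c + d) =
        (x - algebraMap k K c) + (y - algebraMap k K d) := by rw [map_add]; ring
    rw [e]
    exact le_trans (Valuation.map_add _ _ _) (max_le hc hd)
  | mul x y _ _ hx hy =>
    obtain ⟨c, hc⟩ := hx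
    obtain ⟨d, hd⟩ := hy
    refine ⟨c * d, ?_⟩
    have hy1 : P.1 y ≤ 1 := by
      have e : y = (y - algebraMap k K d) + algebraMap k K d := by ring
      rw [e]
      exact le_trans (Valuation.map_add _ _ _) (max_le (hd.trans hlt1) (P.2.1 d))
    have e : x * y - algebraMap k K (c * d) =
        (x - algebraMap k K c) * y + algebraMap k K c * (y - algebraMap k K d) := by
      rw [map_mul]; ring
    rw [e]
    refine le_trans (Valuation.map_add _ _ _) (max_le ?_ ?_)
    · rw [Valuation.map_mul]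
      calc P.1 (x - algebraMap k K c) * P.1 y ≤ P.1 (x - algebraMap k K c) * 1 :=
            mul_le_mul' le_rfl hy1
        _ = P.1 (x - algebraMap k K c) := mul_one _
        _ ≤ _ := hc
    · rw [Valuation.map_mul]
      calc P.1 (algebraMap k K c) * P.1 (y - algebraMap k K d)
          ≤ 1 * P.1 (y - algebraMap k K d) := mul_le_mul' (P.2.1 c) le_rfl
        _ = P.1 (y - algebraMap k K d) := one_mul _
        _ ≤ _ := hd

/-- The local ring contains a local parameter iff some linear form vanishes to order exactly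
one. -/
theorem exists_uniformizer_inLocRing_iff (hK : IsFunctionField k K) [IsAlgClosed k] (φ : ι → K)
    (h0 : ∀ i, φ i ≠ 0) (P : Place k K) :
    (∃ t : K, InLocRing φ P t ∧ P.1 t = WithZero.exp (-1)) ↔
      ∃ ℓ ∈ SG k φ 1, P.1 ℓ = WithZero.exp (mapDiv k φ P - 1) := by
  constructor
  · rintro ⟨t, ⟨j, hj0, hj, u, hu, w, hw, hwP, htw⟩, ht⟩
    by_contra hcon
    push Not at hcon
    have hno : ∀ ℓ ∈ SG k φ 1, P.1 ℓ < WithZero.exp (mapDiv k φ P) →
        P.1 ℓ ≤ WithZero.exp (mapDiv k φ P - 2) := by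
      intro ℓ hℓ hlt
      have h1 : P.1 ℓ ≤ WithZero.exp (mapDiv k φ P - 1) :=
        (lt_exp_iff_le_exp_sub_one _ _).mp hlt
      have h2 : P.1 ℓ < WithZero.exp (mapDiv k φ P - 1) := lt_of_le_of_ne h1 (hcon ℓ hℓ)
      have h3 := (lt_exp_iff_le_exp_sub_one _ _).mp h2
      rwa [show mapDiv k φ P - 1 - 1 = mapDiv k φ P - 2 by ring] at h3
    obtain ⟨c, hc⟩ := adjoin_const_mod_sq hK φ h0 P j hj hno hu
    have huP : P.1 u = WithZero.exp (-1 : ℤ) := by
      rw [← htw, Valuation.map_mul, hwP, mul_one, ht]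
    have hlt : WithZero.exp (-2 : ℤ) < WithZero.exp (-1 : ℤ) := by
      rw [WithZero.exp_lt_exp]; omega
    by_cases hc0 : c = 0
    · rw [hc0, map_zero, sub_zero, huP] at hc
      exact absurd hc (not_le.mpr hlt)
    · have e : u = algebraMap k K c + (u - algebraMap k K c) := by ring
      have h1 : P.1 u = 1 := by
        rw [e, Valuation.map_add_eq_of_lt_left]
        · exact Place.val_algebraMap_eq_one P hc0
        · rw [Place.val_algebraMap_eq_one P hc0]
          refine lt_of_le_of_lt hc ?_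
          rw [← WithZero.exp_zero, WithZero.exp_lt_exp]; omega
      rw [huP] at h1
      have : (-1 : ℤ) = 0 := WithZero.exp_injective (h1.trans WithZero.exp_zero.symm)
      omega
  · rintro ⟨ℓ, hℓS, hℓP⟩
    obtain ⟨j, hj⟩ := exists_argmax_gen φ P
    have hjP := val_argmax_eq_gen hK φ h0 P j hj
    refine ⟨ℓ / φ j, ?_, ?_⟩
    · rw [inLocRing_iff_forms hK φ h0]
      refine ⟨1, ℓ, φ j, hℓS, phi_mem_SG φ j, ?_, div_mul_cancel₀ _ (h0 j)⟩
      rw [hjP, Nat.cast_one, one_mul]
    · rw [map_div₀, hℓP, hjP, ← WithZero.exp_sub]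
      congr 1
      ring

end Local

end FF

end Groth.Agent.Lib.helper10
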