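import Groth.Agent.Lib.Helper10.FunFld34

/-!
Function fields of one variable (helper10), part 35: nonsingularity via hyperplane
multiplicities and via separation of points and tangent vectors.
-/

set_option autoImplicit false
set_option linter.unusedSectionVars false
set_option linter.style.haveILetI false

universe u v w

open IntermediateField FunFld Polynomial

namespace Groth.Agent.Lib.helper10

namespace FF

open RD PA

variable {k : Type u} {K : Type v} [Field k] [Field K] [Algebra k K]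

section Local

variable {ι : Type*} [Fintype ι] [Nonempty ι]

/-- Nonsingularity in terms of the fibre and the linear forms. -/
theorem isNonsingularAt_iff_fibre_and_form (hK : IsFunctionField k K)
    [IsAlgClosed k] (φ : ι → K) (h0 : ∀ i, φ i ≠ 0) (j₀ : ι)
    (hbir : IntermediateField.adjoin k (Set.range fun i => φ i / φ j₀) = ⊤) (P : Place k K) :
    IsNonsingularAt φ P ↔
      (∀ Q : Place k K, SameImage φ P Q → Q = P) ∧
        ∃ ℓ ∈ SG k φ 1, P.1 ℓ = WithZero.exp (mapDiv k φ P - 1) := by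
  rw [isNonsingularAt_iff_unique_place_and_uniformizer hK φ h0 j₀ hbir P,
    exists_uniformizer_inLocRing_iff hK φ h0 P]
  constructor
  · rintro ⟨h1, h2⟩
    exact ⟨fun Q hPQ => h1 Q fun z hz => inLocRing_le_of_sameImage hK φ h0 hPQ hz, h2⟩
  · rintro ⟨h1, h2⟩
    exact ⟨fun Q hQ => h1 Q (sameImage_of_inLocRing_le hK φ h0 hQ), h2⟩

/-- A linear form vanishing at `P` vanishes on the whole fibre; one not vanishing at `P`
vanishes nowhere on the fibre. -/
theorem form_vanishing_on_fibre (hK : IsFunctionField k K) (φ : ι → K) (h0 : ∀ i, φ i ≠ 0)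
    {P Q : Place k K} (hPQ : SameImage φ P Q) {ℓ : K} (hℓ : ℓ ∈ SG k φ 1) :
    P.1 ℓ < WithZero.exp (mapDiv k φ P) ↔ Q.1 ℓ < WithZero.exp (mapDiv k φ Q) := by
  obtain ⟨j, hj⟩ := exists_argmax_gen φ P
  have hjP := val_argmax_eq_gen hK φ h0 P j hj
  obtain ⟨hjQ, -⟩ := sameImage_argmax φ h0 hPQ j hj
  have hjQ' := val_argmax_eq_gen hK φ h0 Q j hjQ
  have ha : ℓ / φ j ∈ Algebra.adjoin k (Set.range fun i => φ i / φ j) := by
    have := div_pow_mem_adjoin_gen φ j (h0 j) hℓ
    rwa [pow_one] at this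
  obtain ⟨c, hcP, hcQ⟩ := adjoin_residue_eq φ h0 hPQ j hj ha
  have key : ∀ R : Place k K, R.1 (φ j) = WithZero.exp (mapDiv k φ R) →
      R.1 (ℓ / φ j - algebraMap k K c) < 1 →
      (R.1 ℓ < WithZero.exp (mapDiv k φ R) ↔ c = 0) := by
    intro R hR hres
    have hval : R.1 ℓ = R.1 (ℓ / φ j) * WithZero.exp (mapDiv k φ R) := by
      rw [← hR, ← Valuation.map_mul, div_mul_cancel₀ _ (h0 j)]
    constructor
    · intro hlt
      by_contra hc0
      have e : ℓ / φ j = algebraMap k K c + (ℓ / φ j - algebraMap k K c) := by ring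
      have h1 : R.1 (ℓ / φ j) = 1 := by
        rw [e, Valuation.map_add_eq_of_lt_left]
        · exact Place.val_algebraMap_eq_one R hc0
        · rw [Place.val_algebraMap_eq_one R hc0]; exact hres
      rw [hval, h1, one_mul] at hlt
      exact lt_irrefl _ hlt
    · intro hc0
      rw [hc0, map_zero, sub_zero] at hres
      rw [hval]
      calc R.1 (ℓ / φ j) * WithZero.exp (mapDiv k φ R)
          < 1 * WithZero.exp (mapDiv k φ R) := mul_lt_mul_of_pos_right hres WithZero.exp_pos
        _ = WithZero.exp (mapDiv k φ R) := one_mul _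
  rw [key P hjP hcP, key Q hjQ' hcQ]

/-- **S11076**: nonsingularity via a hyperplane of intersection multiplicity one. -/
theorem isNonsingularAt_iff_exists_hyperplane_mult_one (hK : IsFunctionField k K)
    [IsAlgClosed k] (φ : ι → K) (h0 : ∀ i, φ i ≠ 0) (j₀ : ι)
    (hbir : IntermediateField.adjoin k (Set.range fun i => φ i / φ j₀) = ⊤) (P : Place k K) :
    IsNonsingularAt φ P ↔ ∃ c : ι → k, ∑ i, c i • φ i ≠ 0 ∧
      ∑ᶠ Q ∈ {Q : Place k K | SameImage φ P Q},
        ((mapDiv k φ) Q + Q.ord (∑ i, c i • φ i)) = 1 := by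
  classical
  set D := mapDiv k φ with hD
  rw [isNonsingularAt_iff_fibre_and_form hK φ h0 j₀ hbir P]
  have hordval : ∀ (Q : Place k K) (ℓ : K), ℓ ≠ 0 → ∀ n : ℤ,
      (Q.1 ℓ = WithZero.exp (D Q - n) ↔ D Q + Q.ord ℓ = n) := by
    intro Q ℓ hℓ n
    rw [Place.val_eq_exp_neg_ord Q hℓ]
    constructor
    · intro h
      have := WithZero.exp_injective h
      omega
    · intro h
      congr 1
      omega
  constructor
  · rintro ⟨hfib, ℓ, hℓS, hℓP⟩
    have hℓ0 : ℓ ≠ 0 := by
      rintro rfl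
      rw [Valuation.map_zero] at hℓP
      exact WithZero.exp_ne_zero hℓP.symm
    have hspan : ℓ ∈ Submodule.span k (Set.range φ) := by
      unfold SG at hℓS
      rwa [pow_one] at hℓS
    obtain ⟨c, hc⟩ := (Submodule.mem_span_range_iff_exists_fun k).mp hspan
    refine ⟨c, by rw [hc]; exact hℓ0, ?_⟩
    have hset : {Q : Place k K | SameImage φ P Q} = {P} := by
      ext Q
      constructor
      · intro hQ; exact hfib Q hQ
      · intro hQ
        rw [Set.mem_singleton_iff.mp hQ]
        exact sameImage_refl hK φ h0 P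
    rw [hset, finsum_mem_singleton, hc]
    exact (hordval P ℓ hℓ0 1).mp hℓP
  · rintro ⟨c, hℓ0, hsum⟩
    set ℓ := ∑ i, c i • φ i with hℓ
    have hℓS : ℓ ∈ SG k φ 1 := by
      have := linearCombination_mem_SG φ c
      rwa [Fintype.linearCombination_apply] at this
    have hℓL : ℓ ∈ L D := by
      have := SG_le_L hK φ 1 hℓS
      rwa [Nat.cast_one, one_smul] at this
    set E : Divisor k K := D + FunFld.div k ℓ with hE
    have hE0 : 0 ≤ E := (mem_L_iff_div hK hℓ0 _).mp hℓL
    have hEapp : ∀ Q : Place k K, E Q = D Q + Q.ord ℓ := by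
      intro Q
      rw [hE, Finsupp.add_apply, div_apply hK]
    have hEnn : ∀ Q : Place k K, 0 ≤ D Q + Q.ord ℓ := by
      intro Q
      rw [← hEapp]
      exact hE0 Q
    have hvan : ∀ Q : Place k K, Q.1 ℓ < WithZero.exp (D Q) ↔ 1 ≤ D Q + Q.ord ℓ := by
      intro Q
      rw [Place.val_eq_exp_neg_ord Q hℓ0, WithZero.exp_lt_exp]
      constructor <;> intro h <;> omega
    have hPP : SameImage φ P P := sameImage_refl hK φ h0 P
    -- `ℓ` vanishes at `P`
    have hvanP : P.1 ℓ < WithZero.exp (D P) := by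
      by_contra hnot
      have hzero : ∀ Q ∈ {Q : Place k K | SameImage φ P Q}, D Q + Q.ord ℓ = 0 := by
        intro Q hQ
        have h1 : ¬ Q.1 ℓ < WithZero.exp (D Q) := by
          rw [← form_vanishing_on_fibre hK φ h0 hQ hℓS]; exact hnot
        rw [hvan] at h1
        have := hEnn Q
        omega
      rw [finsum_mem_congr rfl hzero, finsum_mem_zero] at hsum
      exact zero_ne_one hsum
    have hge : ∀ Q ∈ {Q : Place k K | SameImage φ P Q}, 1 ≤ D Q + Q.ord ℓ := by
      intro Q hQ
      rw [← hvan, ← form_vanishing_on_fibre hK φ h0 hQ hℓS]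
      exact hvanP
    have hfin : {Q : Place k K | SameImage φ P Q}.Finite := by
      refine (Finset.finite_toSet E.support).subset ?_
      intro Q hQ
      rw [Finset.mem_coe, Finsupp.mem_support_iff, hEapp]
      have := hge Q hQ
      omega
    rw [finsum_mem_eq_finite_toFinset_sum _ hfin] at hsum
    have hcard := Finset.card_nsmul_le_sum hfin.toFinset (fun Q => D Q + Q.ord ℓ) 1
      (fun Q hQ => hge Q (hfin.mem_toFinset.mp hQ))
    rw [hsum, nsmul_eq_mul, mul_one] at hcard
    have hcard' : hfin.toFinset.card ≤ 1 := by exact_mod_cast hcard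
    have hPmem : P ∈ hfin.toFinset := hfin.mem_toFinset.mpr hPP
    have hfib : ∀ Q : Place k K, SameImage φ P Q → Q = P := by
      intro Q hQ
      exact Finset.card_le_one.mp hcard' Q (hfin.mem_toFinset.mpr hQ) P hPmem
    have hsingle : hfin.toFinset = {P} := by
      ext Q
      rw [Finset.mem_singleton]
      constructor
      · intro hQ; exact hfib Q (hfin.mem_toFinset.mp hQ)
      · intro hQ; rw [hQ]; exact hPmem
    rw [hsingle, Finset.sum_singleton] at hsum
    exact ⟨hfib, ℓ, hℓS, (hordval P ℓ hℓ0 1).mpr hsum⟩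

/-! ### Separation of points and tangent vectors -/

theorem sameImage_symm (φ : ι → K) {P Q : Place k K} (h : SameImage φ P Q) :
    SameImage φ Q P := by
  obtain ⟨j, hj0, hjP, hjQ, hres⟩ := h
  exact ⟨j, hj0, hjQ, hjP, fun i => by
    obtain ⟨c, h1, h2⟩ := hres i
    exact ⟨c, h2, h1⟩⟩

theorem finrank_inf_step (hK : IsFunctionField k K) [IsAlgClosed k] (V : Submodule k K)
    (F : Divisor k K) (Q : Place k K) :
    Module.finrank k ↥(V ⊓ L F) ≤ Module.finrank k ↥(V ⊓ L (F - Finsupp.single Q 1)) + 1 := by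
  have h := aDim_step hK V F Q 0
  unfold aDim at h
  rw [Finsupp.single_zero, sub_zero, zero_add, Place.deg_eq_one hK Q] at h
  exact h

/-- The codimension-two criterion. -/
theorem codim_two_iff (hK : IsFunctionField k K) [IsAlgClosed k] (φ : ι → K)
    (h0 : ∀ i, φ i ≠ 0) (P Q : Place k K) :
    Module.finrank k ↥(Submodule.span k (Set.range φ) ⊓
          L (mapDiv k φ - Finsupp.single P 1 - Finsupp.single Q 1)) + 2 =
        Module.finrank k ↥(Submodule.span k (Set.range φ)) ↔
      ∃ ℓ ∈ Submodule.span k (Set.range φ), ℓ ∈ L (mapDiv k φ - Finsupp.single P 1) ∧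
        ℓ ∉ L (mapDiv k φ - Finsupp.single P 1 - Finsupp.single Q 1) := by
  classical
  set D := mapDiv k φ with hD
  set W := Submodule.span k (Set.range φ) with hW
  haveI : FiniteDimensional k ↥W := FiniteDimensional.span_of_finite k (Set.finite_range φ)
  have hWL : W ≤ L D := span_le_L_mapDiv hK φ
  have hW0 : W ⊓ L D = W := inf_eq_left.mpr hWL
  -- first step: exactly one
  have h1 := finrank_inf_step hK W D P
  rw [hW0] at h1
  obtain ⟨j, hj⟩ := exists_argmax_gen φ P
  have hjP := val_argmax_eq_gen hK φ h0 P j hj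
  have hjW : φ j ∈ W := Submodule.subset_span ⟨j, rfl⟩
  have hjn : φ j ∉ L (D - Finsupp.single P 1) := by
    rw [mem_L_sub_single_iff (hWL hjW), hjP]
    exact lt_irrefl _
  have hlt : W ⊓ L (D - Finsupp.single P 1) < W := by
    refine lt_of_le_of_ne inf_le_left ?_
    intro heq
    apply hjn
    have : φ j ∈ W ⊓ L (D - Finsupp.single P 1) := by rw [heq]; exact hjW
    exact this.2
  have h2 := Submodule.finrank_lt_finrank_of_lt hlt
  -- second step
  have h3 := finrank_inf_step hK W (D - Finsupp.single P 1) Q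
  haveI : FiniteDimensional k ↥(W ⊓ L (D - Finsupp.single P 1)) :=
    Submodule.finiteDimensional_of_le inf_le_left
  have hle : W ⊓ L (D - Finsupp.single P 1 - Finsupp.single Q 1) ≤
      W ⊓ L (D - Finsupp.single P 1) :=
    inf_le_inf_left _ (L_sub_single_le _ Q)
  have h4 := Submodule.finrank_mono hle
  constructor
  · intro h
    by_contra hcon
    push Not at hcon
    have heq : W ⊓ L (D - Finsupp.single P 1 - Finsupp.single Q 1) =
        W ⊓ L (D - Finsupp.single P 1) := by
      apply le_antisymm hle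
      rintro ℓ ⟨hℓW, hℓL⟩
      exact ⟨hℓW, hcon ℓ hℓW hℓL⟩
    rw [heq] at h
    omega
  · rintro ⟨ℓ, hℓW, hℓL, hℓn⟩
    have hlt2 : W ⊓ L (D - Finsupp.single P 1 - Finsupp.single Q 1) <
        W ⊓ L (D - Finsupp.single P 1) := by
      refine lt_of_le_of_ne hle ?_
      intro heq
      apply hℓn
      have : ℓ ∈ W ⊓ L (D - Finsupp.single P 1 - Finsupp.single Q 1) := by
        rw [heq]; exact ⟨hℓW, hℓL⟩
      exact this.2
    have h5 := Submodule.finrank_lt_finrank_of_lt hlt2
    omega

/-- **S11055**: nonsingularity as separation of points and tangent vectors. -/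
theorem isNonsingularAt_iff_codim_two (hK : IsFunctionField k K)
    [IsAlgClosed k] (φ : ι → K) (h0 : ∀ i, φ i ≠ 0) (j₀ : ι)
    (hbir : IntermediateField.adjoin k (Set.range fun i => φ i / φ j₀) = ⊤) (P : Place k K) :
    IsNonsingularAt φ P ↔ ∀ Q : Place k K,
      Module.finrank k ↥(Submodule.span k (Set.range φ) ⊓
          L (mapDiv k φ - Finsupp.single P 1 - Finsupp.single Q 1)) + 2 =
        Module.finrank k ↥(Submodule.span k (Set.range φ)) := by
  classical
  set D := mapDiv k φ with hD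
  have hSG : ∀ ℓ : K, ℓ ∈ SG k φ 1 ↔ ℓ ∈ Submodule.span k (Set.range φ) := by
    intro ℓ
    unfold SG
    rw [pow_one]
  have hWL : Submodule.span k (Set.range φ) ≤ L D := span_le_L_mapDiv hK φ
  have hsubP : (D - Finsupp.single P 1 : Divisor k K) P = D P - 1 := by
    rw [Finsupp.sub_apply, Finsupp.single_eq_same]
  have hsubQ : ∀ Q : Place k K, Q ≠ P → (D - Finsupp.single P 1 : Divisor k K) Q = D Q := by
    intro Q hQ
    rw [Finsupp.sub_apply, Finsupp.single_eq_of_ne hQ, sub_zero]
  rw [isNonsingularAt_iff_fibre_and_form hK φ h0 j₀ hbir P]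
  constructor
  · rintro ⟨hfib, ℓ, hℓS, hℓP⟩ Q
    rw [codim_two_iff hK φ h0 P Q]
    by_cases hQP : Q = P
    · subst hQP
      have hℓW := (hSG ℓ).mp hℓS
      have hℓL : ℓ ∈ L (D - Finsupp.single Q 1) := by
        rw [mem_L_sub_single_iff (hWL hℓW), hℓP, WithZero.exp_lt_exp]
        have : D Q = mapDiv k φ Q := rfl
        omega
      refine ⟨ℓ, hℓW, hℓL, ?_⟩
      rw [mem_L_sub_single_iff hℓL, hsubP, hℓP]
      exact lt_irrefl _
    · have hns : ¬ SameImage φ Q P := fun h => hQP (hfib Q (sameImage_symm φ h))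
      obtain ⟨ℓ', hℓ'S, hℓ'Q, hℓ'P⟩ := separating_form hK φ h0 hns
      have hℓ'W := (hSG ℓ').mp hℓ'S
      have hℓ'L : ℓ' ∈ L (D - Finsupp.single P 1) := by
        rw [mem_L_sub_single_iff (hWL hℓ'W)]; exact hℓ'P
      refine ⟨ℓ', hℓ'W, hℓ'L, ?_⟩
      rw [mem_L_sub_single_iff hℓ'L, hsubQ Q hQP, hℓ'Q]
      exact lt_irrefl _
  · intro h
    refine ⟨fun Q hPQ => ?_, ?_⟩
    · by_contra hQP
      obtain ⟨ℓ, hℓW, hℓL, hℓn⟩ := (codim_two_iff hK φ h0 P Q).mp (h Q)
      rw [mem_L_sub_single_iff hℓL, hsubQ Q hQP] at hℓn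
      have hvP : P.1 ℓ < WithZero.exp (D P) := (mem_L_sub_single_iff (hWL hℓW)).mp hℓL
      exact hℓn ((form_vanishing_on_fibre hK φ h0 hPQ ((hSG ℓ).mpr hℓW)).mp hvP)
    · obtain ⟨ℓ, hℓW, hℓL, hℓn⟩ := (codim_two_iff hK φ h0 P P).mp (h P)
      refine ⟨ℓ, (hSG ℓ).mpr hℓW, ?_⟩
      rw [mem_L_sub_single_iff hℓL, hsubP, not_lt] at hℓn
      have h1 := hℓL P
      rw [hsubP] at h1
      exact le_antisymm h1 hℓn

end Local

end FF

end Groth.Agent.Lib.helper10
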