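import Groth.Agent.Lib.Helper10.FunFld36

/-!
Function fields of one variable (helper10), part 37: the Galois group acting on the places of a
finite Galois extension — transitivity on the places above a given place, orbit–stabilizer.
-/

set_option autoImplicit false
set_option linter.unusedSectionVars false
set_option linter.style.haveILetI false

universe u v w

open IntermediateField FunFld Polynomial

namespace Groth.Agent.Lib.helper10

namespace FF

open RD PA

section Galois

variable {k : Type u} {F : Type v} {E : Type w} [Field k] [Field F] [Field E]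
  [Algebra k F] [Algebra F E] [Algebra k E] [IsScalarTower k F E]

/-- The place `z ↦ v_Q(σ z)`. -/
def Place.comapAut (Q : Place k E) (σ : E ≃ₐ[F] E) : Place k E :=
  ⟨Q.1.comap (σ : E →+* E), fun c => by
      show Q.1 (σ (algebraMap k E c)) ≤ 1
      rw [IsScalarTower.algebraMap_apply k F E, σ.commutes, ← IsScalarTower.algebraMap_apply]
      exact Q.2.1 c,
    fun γ => by
      obtain ⟨z, hz⟩ := Q.2.2 γ
      refine ⟨σ.symm z, ?_⟩
      show Q.1 (σ (σ.symm z)) = γ
      rw [AlgEquiv.apply_symm_apply, hz]⟩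

theorem Place.comapAut_apply (Q : Place k E) (σ : E ≃ₐ[F] E) (z : E) :
    (Place.comapAut Q σ).1 z = Q.1 (σ z) := rfl

theorem Place.comapAut_one (Q : Place k E) : Place.comapAut Q (1 : E ≃ₐ[F] E) = Q := by
  apply Subtype.ext
  ext z
  rfl

theorem Place.comapAut_mul (Q : Place k E) (σ τ : E ≃ₐ[F] E) :
    Place.comapAut (Place.comapAut Q σ) τ = Place.comapAut Q (σ * τ) := by
  apply Subtype.ext
  ext z
  rfl

theorem Place.comapAut_isOverWith {Q : Place k E} {P : Place k F} {e : ℕ}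
    (h : IsOverWith Q P e) (σ : E ≃ₐ[F] E) : IsOverWith (Place.comapAut Q σ) P e := by
  intro z
  rw [Place.comapAut_apply, σ.commutes]
  exact h z

/-- **S11013**: the Galois group acts transitively on the places above a given place. -/
theorem exists_comapAut_eq [FiniteDimensional F E] [IsGalois F E] (Q₁ Q₂ : Place k E)
    (h : (Q₁.1.comap (algebraMap F E)).IsEquiv (Q₂.1.comap (algebraMap F E))) :
    ∃ σ : E ≃ₐ[F] E, Place.comapAut Q₁ σ = Q₂ := by
  classical
  by_contra hne
  push Not at hne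
  set O₁ : Finset (Place k E) := Finset.univ.image (fun σ : E ≃ₐ[F] E => Place.comapAut Q₁ σ) with hO₁
  set O₂ : Finset (Place k E) := Finset.univ.image (fun σ : E ≃ₐ[F] E => Place.comapAut Q₂ σ) with hO₂
  have hdisj : ∀ τ : E ≃ₐ[F] E, Place.comapAut Q₂ τ ∉ O₁ := by
    intro τ hmem
    obtain ⟨σ, -, hσ⟩ := Finset.mem_image.mp hmem
    have h1 := congrArg (fun Q : Place k E => Place.comapAut Q τ⁻¹) hσ
    simp only [Place.comapAut_mul, mul_inv_cancel, Place.comapAut_one] at h1
    exact hne _ h1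
  obtain ⟨z, hz⟩ := weak_approx_eq (O₁ ∪ O₂) (fun _ => (0 : E))
    (fun Q => if Q ∈ O₁ then 0 else 1)
  have hz1 : ∀ σ : E ≃ₐ[F] E, Q₁.1 (σ z) = 1 := by
    intro σ
    have hmem : Place.comapAut Q₁ σ ∈ O₁ := Finset.mem_image.mpr ⟨σ, Finset.mem_univ _, rfl⟩
    have := hz _ (Finset.mem_union_left _ hmem)
    rw [if_pos hmem, sub_zero, neg_zero, WithZero.exp_zero] at this
    exact this
  have hz2 : ∀ σ : E ≃ₐ[F] E, Q₂.1 (σ z) = WithZero.exp (-1 : ℤ) := by
    intro σ
    have hmem : Place.comapAut Q₂ σ ∈ O₂ := Finset.mem_image.mpr ⟨σ, Finset.mem_univ _, rfl⟩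
    have := hz _ (Finset.mem_union_right _ hmem)
    rw [if_neg (hdisj σ), sub_zero] at this
    exact this
  have hnorm : algebraMap F E (Algebra.norm F z) = ∏ σ : E ≃ₐ[F] E, σ z :=
    Algebra.norm_eq_prod_automorphisms F z
  have hv1 : Q₁.1 (algebraMap F E (Algebra.norm F z)) = 1 := by
    rw [hnorm, map_prod]
    exact Finset.prod_eq_one fun σ _ => hz1 σ
  have hv2 : Q₂.1 (algebraMap F E (Algebra.norm F z)) < 1 := by
    rw [hnorm, map_prod, Finset.prod_congr rfl fun σ _ => hz2 σ, Finset.prod_const,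
      ← WithZero.exp_nsmul, ← WithZero.exp_zero, WithZero.exp_lt_exp]
    have hcard : 0 < (Finset.univ : Finset (E ≃ₐ[F] E)).card :=
      Finset.card_pos.mpr ⟨1, Finset.mem_univ _⟩
    simp only [nsmul_eq_mul, mul_neg, mul_one, Left.neg_neg_iff]
    exact_mod_cast hcard
  have h3 := (h 1 (Algebra.norm F z)).mp (by
    show Q₁.1 (algebraMap F E 1) ≤ Q₁.1 (algebraMap F E (Algebra.norm F z))
    rw [hv1, map_one, Valuation.map_one])
  have h4 : Q₂.1 (algebraMap F E 1) ≤ Q₂.1 (algebraMap F E (Algebra.norm F z)) := h3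
  rw [map_one, Valuation.map_one] at h4
  exact absurd h4 (not_le.mpr hv2)


open scoped Pointwise in
theorem smul_O (Q : Place k E) (σ : E ≃ₐ[F] E) :
    σ • Q.O = (Place.comapAut Q σ⁻¹).O := by
  ext y
  rw [ValuationSubring.mem_pointwise_smul_iff_inv_smul_mem]
  rfl

theorem isEquiv_of_isOver {Q₁ Q₂ : Place k E} {P : Place k F} (h₁ : IsOver Q₁ P)
    (h₂ : IsOver Q₂ P) :
    (Q₁.1.comap (algebraMap F E)).IsEquiv (Q₂.1.comap (algebraMap F E)) := by
  obtain ⟨e₁, he₁⟩ := h₁
  obtain ⟨e₂, he₂⟩ := h₂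
  have hp₁ := isOverWith_pos he₁
  have hp₂ := isOverWith_pos he₂
  intro r s
  show Q₁.1 (algebraMap F E r) ≤ Q₁.1 (algebraMap F E s) ↔
    Q₂.1 (algebraMap F E r) ≤ Q₂.1 (algebraMap F E s)
  rw [he₁ r, he₁ s, he₂ r, he₂ s, pow_le_pow_iff_left₀ zero_le zero_le (by omega),
    pow_le_pow_iff_left₀ zero_le zero_le (by omega)]

/-- The isomorphism of valuation rings induced by an automorphism. -/
def comapAutRingEquiv (Q : Place k E) (σ : E ≃ₐ[F] E) : ↥(Place.comapAut Q σ).O ≃+* ↥Q.O where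
  toFun z := ⟨σ z.1, z.2⟩
  invFun w := ⟨σ.symm w.1, by
    show Q.1 (σ (σ.symm w.1)) ≤ 1
    rw [AlgEquiv.apply_symm_apply]
    exact w.2⟩
  left_inv z := Subtype.ext (σ.symm_apply_apply z.1)
  right_inv w := Subtype.ext (σ.apply_symm_apply w.1)
  map_mul' a b := Subtype.ext (map_mul σ a.1 b.1)
  map_add' a b := Subtype.ext (map_add σ a.1 b.1)

theorem Place.deg_comapAut (Q : Place k E) (σ : E ≃ₐ[F] E) :
    (Place.comapAut Q σ).deg = Q.deg := by
  set φ := comapAutRingEquiv Q σ with hφ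
  set ψ := IsLocalRing.ResidueField.mapEquiv φ with hψ
  have hcomm : ∀ c : k, ψ (algebraMap k _ c) = algebraMap k _ c := by
    intro c
    show ψ (IsLocalRing.residue _ (algebraMap k (Place.comapAut Q σ).O c)) =
      IsLocalRing.residue _ (algebraMap k Q.O c)
    rw [hψ, IsLocalRing.ResidueField.mapEquiv_apply, IsLocalRing.ResidueField.map_residue]
    congr 1
    apply Subtype.ext
    show σ (algebraMap k E c) = algebraMap k E c
    rw [IsScalarTower.algebraMap_apply k F E, σ.commutes]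
  exact (AlgEquiv.ofRingEquiv (f := ψ) hcomm).toLinearEquiv.finrank_eq

open scoped Pointwise in
/-- **S11022**, first half: orbit–stabilizer for the places above `P`. -/
theorem card_places_mul_card_decomposition [FiniteDimensional F E] [IsGalois F E]
    {Q : Place k E} {P : Place k F} (hQ : IsOver Q P) :
    Nat.card {Q' : Place k E // IsOver Q' P} * Nat.card ((Q.O).decompositionSubgroup F) =
      Module.finrank F E := by
  classical
  have h1 : Nat.card {Q' : Place k E // IsOver Q' P} =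
      Nat.card (MulAction.orbit (E ≃ₐ[F] E) Q.O) := by
    have hmem : ∀ Q' : {Q' : Place k E // IsOver Q' P},
        Q'.1.O ∈ MulAction.orbit (E ≃ₐ[F] E) Q.O := by
      rintro ⟨Q', hQ'⟩
      obtain ⟨σ, hσ⟩ := exists_comapAut_eq Q Q' (isEquiv_of_isOver hQ hQ')
      refine ⟨σ⁻¹, ?_⟩
      show σ⁻¹ • Q.O = Q'.O
      rw [smul_O, inv_inv, hσ]
    apply Nat.card_congr
    refine Equiv.ofBijective (fun Q' => ⟨Q'.1.O, hmem Q'⟩) ⟨?_, ?_⟩
    · rintro ⟨Q₁, h₁⟩ ⟨Q₂, h₂⟩ h
      apply Subtype.ext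
      exact Place.eq_of_O_eq Q₁ Q₂ (congrArg Subtype.val h)
    · rintro ⟨A, σ, rfl⟩
      obtain ⟨e, he⟩ := hQ
      refine ⟨⟨Place.comapAut Q σ⁻¹, e, Place.comapAut_isOverWith he _⟩, ?_⟩
      apply Subtype.ext
      exact (smul_O Q σ).symm
  rw [h1, ← IsGalois.card_aut_eq_finrank F E, Nat.card_coe_set_eq,
    ← MulAction.index_stabilizer, mul_comm]
  exact Subgroup.card_mul_index _

/-- **S11022**, second half: conjugate places share `e` and the degree. -/
theorem isOverWith_and_deg_eq [FiniteDimensional F E] [IsGalois F E]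
    {Q : Place k E} {P : Place k F} {e : ℕ} (he : IsOverWith Q P e)
    {Q' : Place k E} (hQ' : IsOver Q' P) : IsOverWith Q' P e ∧ Q'.deg = Q.deg := by
  obtain ⟨σ, hσ⟩ := exists_comapAut_eq Q Q' (isEquiv_of_isOver ⟨e, he⟩ hQ')
  rw [← hσ]
  exact ⟨Place.comapAut_isOverWith he σ, Place.deg_comapAut Q σ⟩

end Galois

end FF

end Groth.Agent.Lib.helper10
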