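import Groth.Agent.Lib.Helper10.FunFld3

/-!
Function fields of one variable (helper10), part 4: residue fields of places are finite over `k`,
`deg P ≤ [K : k(x)]` for `x` in the maximal ideal.
-/

set_option autoImplicit false
set_option linter.unusedSectionVars false

universe u v w

open IntermediateField Polynomial FunFld

namespace Groth.Agent.Lib.helper10

namespace FF

variable {k : Type u} {K : Type v} [Field k] [Field K] [Algebra k K]
  {Γ₀ : Type w} [LinearOrderedCommGroupWithZero Γ₀]

/-- a polynomial in an element of the maximal ideal is congruent to its constant term -/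
theorem TrivOn.aeval_sub_coeff_lt {v : Valuation K Γ₀} (hv : TrivOn k v) {x : K} (hx : v x < 1)
    (p : k[X]) : v (aeval x p - algebraMap k K (p.coeff 0)) < 1 := by
  have h1 : p = divX p * X + C (p.coeff 0) := (divX_mul_X_add p).symm
  have h2 : aeval x p - algebraMap k K (p.coeff 0) = aeval x (divX p) * x := by
    conv_lhs => rw [h1]
    simp
  rw [h2, Valuation.map_mul]
  calc v (aeval x (divX p)) * v x ≤ 1 * v x := by gcongr; exact hv.aeval_le_one hx.le _
    _ = v x := one_mul _
    _ < 1 := hx

/-- Elements of `k(x)` in the valuation ring are congruent to constants modulo the maximal ideal. -/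
theorem TrivOn.exists_const_sub_lt {v : Valuation K Γ₀} (hv : TrivOn k v) {x : K} (hx : v x < 1)
    (hx0 : x ≠ 0) (c : K) (hc : c ∈ k⟮x⟯) (hc1 : v c ≤ 1) :
    ∃ a : k, v (c - algebraMap k K a) < 1 := by
  by_cases hc0 : c = 0
  · exact ⟨0, by rw [hc0, map_zero, sub_zero, Valuation.map_zero]; exact zero_lt_one⟩
  obtain ⟨r, s, rfl⟩ := (mem_adjoin_simple_iff k c).mp hc
  have hr : r ≠ 0 := by
    rintro rfl
    simp at hc0
  have hs : s ≠ 0 := by
    rintro rfl
    simp at hc0
  have hvx0 : v x ≠ 0 := (Valuation.ne_zero_iff v).mpr hx0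
  obtain ⟨r₁, hr₁, hrnd⟩ := exists_eq_pow_rootMultiplicity_mul_and_not_dvd r hr 0
  obtain ⟨s₁, hs₁, hsnd⟩ := exists_eq_pow_rootMultiplicity_mul_and_not_dvd s hs 0
  set m := r.rootMultiplicity 0 with hm
  set l := s.rootMultiplicity 0 with hl
  rw [C_0, sub_zero] at hr₁ hs₁ hrnd hsnd
  have hr₁0 : r₁.coeff 0 ≠ 0 := fun h => hrnd (X_dvd_iff.mpr h)
  have hs₁0 : s₁.coeff 0 ≠ 0 := fun h => hsnd (X_dvd_iff.mpr h)
  have hvr₁ : v (aeval x r₁) = 1 := hv.aeval_eq_one hx r₁ hr₁0
  have hvs₁ : v (aeval x s₁) = 1 := hv.aeval_eq_one hx s₁ hs₁0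
  have hs₁x : aeval x s₁ ≠ 0 := by
    intro h
    rw [h, Valuation.map_zero] at hvs₁
    exact zero_ne_one hvs₁
  have er : aeval x r = x ^ m * aeval x r₁ := by
    conv_lhs => rw [hr₁]
    simp
  have es : aeval x s = x ^ l * aeval x s₁ := by
    conv_lhs => rw [hs₁]
    simp
  have hval : v (aeval x r / aeval x s) = v x ^ m / v x ^ l := by
    rw [map_div₀, er, es, Valuation.map_mul, Valuation.map_mul, Valuation.map_pow, Valuation.map_pow,
      hvr₁, hvs₁, mul_one, mul_one]
  have hlm : l ≤ m := by
    by_contra hlt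
    rw [not_le] at hlt
    rw [hval] at hc1
    obtain ⟨d, hd⟩ := Nat.exists_eq_add_of_lt hlt
    have : v x ^ m / v x ^ l = (v x ^ (d + 1))⁻¹ := by
      rw [hd, show m + d + 1 = m + (d + 1) by ring, pow_add, div_mul_cancel_left₀ (pow_ne_zero m hvx0)]
    rw [this] at hc1
    have h1 : v x ^ (d + 1) < 1 := pow_lt_one' hx (Nat.succ_ne_zero d)
    have h2 : (1 : Γ₀) < (v x ^ (d + 1))⁻¹ :=
      (one_lt_inv₀ (zero_lt_iff.mpr (pow_ne_zero _ hvx0))).mpr h1
    exact absurd hc1 (not_le.mpr h2)
  rcases Nat.lt_or_ge l m with hlt | hge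
  · refine ⟨0, ?_⟩
    rw [map_zero, sub_zero, hval]
    obtain ⟨d, hd⟩ := Nat.exists_eq_add_of_lt hlt
    have : v x ^ m / v x ^ l = v x ^ (d + 1) := by
      rw [hd, show l + d + 1 = (d + 1) + l by ring, pow_add, mul_div_assoc,
        div_self (pow_ne_zero l hvx0), mul_one]
    rw [this]
    exact pow_lt_one' hx (Nat.succ_ne_zero d)
  · have hml : m = l := le_antisymm hge hlm
    refine ⟨r₁.coeff 0 / s₁.coeff 0, ?_⟩
    have hx0' : x ^ l ≠ 0 := pow_ne_zero l hx0
    have e1 : aeval x r / aeval x s = aeval x r₁ / aeval x s₁ := by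
      rw [er, es, hml, mul_div_mul_left _ _ hx0']
    have hs₁c : algebraMap k K (s₁.coeff 0) ≠ 0 := by
      intro h
      have := hv _ hs₁0
      rw [h, Valuation.map_zero] at this
      exact zero_ne_one this
    have e2 : aeval x r₁ / aeval x s₁ - algebraMap k K (r₁.coeff 0 / s₁.coeff 0) =
        ((aeval x r₁ - algebraMap k K (r₁.coeff 0)) * algebraMap k K (s₁.coeff 0) -
          algebraMap k K (r₁.coeff 0) * (aeval x s₁ - algebraMap k K (s₁.coeff 0))) /
        (aeval x s₁ * algebraMap k K (s₁.coeff 0)) := by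
      rw [map_div₀]
      field_simp
      ring
    rw [e1, e2, map_div₀, Valuation.map_mul, hvs₁, hv _ hs₁0, mul_one, div_one]
    apply lt_of_le_of_lt (Valuation.map_sub _ _ _)
    apply max_lt
    · rw [Valuation.map_mul, hv _ hs₁0, mul_one]
      exact hv.aeval_sub_coeff_lt hx r₁
    · rw [Valuation.map_mul, hv _ hr₁0, one_mul]
      exact hv.aeval_sub_coeff_lt hx s₁

/-- Lifts of `k`-linearly independent residues are linearly independent over `k(x)`, `x` a nonzero
element of the maximal ideal. -/
theorem Place.linearIndependent_lift (P : Place k K) {x : K} (hx0 : x ≠ 0) (hx : P.1 x < 1)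
    {ι : Type*} [Fintype ι] (y : ι → P.O)
    (hy : LinearIndependent k (fun i => IsLocalRing.residue P.O (y i))) :
    LinearIndependent k⟮x⟯ (fun i => (y i : K)) := by
  classical
  have hv := Place.trivOn P
  rw [Fintype.linearIndependent_iff]
  intro g hsum
  by_contra hne
  push Not at hne
  obtain ⟨i₁, hi₁⟩ := hne
  set t' : Finset ι := Finset.univ.filter (fun i => g i ≠ 0) with ht'
  have ht'ne : t'.Nonempty := ⟨i₁, Finset.mem_filter.mpr ⟨Finset.mem_univ _, hi₁⟩⟩
  obtain ⟨i₀, hi₀, hmax⟩ := Finset.exists_max_image t' (fun i => P.1 (g i : K)) ht'ne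
  have hg₀ : g i₀ ≠ 0 := (Finset.mem_filter.mp hi₀).2
  have hg₀' : (g i₀ : K) ≠ 0 := by simpa using hg₀
  have hv₀ : P.1 (g i₀ : K) ≠ 0 := (Valuation.ne_zero_iff _).mpr hg₀'
  set c : ι → K := fun i => (g i : K) / (g i₀ : K) with hc
  have hcmem : ∀ i, c i ∈ k⟮x⟯ := fun i => div_mem (g i).2 (g i₀).2
  have hc1 : ∀ i, P.1 (c i) ≤ 1 := by
    intro i
    rw [hc]
    simp only
    rw [map_div₀]
    apply div_le_one_of_le₀ _ zero_le
    by_cases hgi : g i = 0
    · rw [hgi]; simp
    · exact hmax i (Finset.mem_filter.mpr ⟨Finset.mem_univ _, hgi⟩)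
  have hex : ∀ i, ∃ a : k, P.1 (c i - algebraMap k K a) < 1 :=
    fun i => hv.exists_const_sub_lt hx hx0 (c i) (hcmem i) (hc1 i)
  choose a ha using hex
  -- the relation divided by `g i₀`
  have hsum' : ∑ i, c i * (y i : K) = 0 := by
    have h1 : ∑ i, c i * (y i : K) = (g i₀ : K)⁻¹ * ∑ i, g i • (y i : K) := by
      rw [Finset.mul_sum]
      apply Finset.sum_congr rfl
      intro i _
      rw [hc, IntermediateField.smul_def, smul_eq_mul]
      field_simp
    rw [h1, hsum, mul_zero]
  set w : ι → P.O := fun i => ⟨c i, hc1 i⟩ with hw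
  have hres : ∀ i, IsLocalRing.residue P.O (w i) = algebraMap k (IsLocalRing.ResidueField P.O) (a i) := by
    intro i
    have h1 : algebraMap k (IsLocalRing.ResidueField P.O) (a i) =
        IsLocalRing.residue P.O ⟨algebraMap k K (a i), P.2.1 (a i)⟩ := rfl
    rw [h1, ← sub_eq_zero, ← map_sub, IsLocalRing.residue_eq_zero_iff,
      ValuationSubring.valuation_lt_one_iff]
    have h2 := ha i
    exact ((Valuation.isEquiv_valuation_valuationSubring P.1).lt_one_iff_lt_one).mp h2
  have hsumO : ∑ i, w i * y i = 0 := by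
    apply Subtype.ext
    push_cast
    exact hsum'
  have hrel : ∑ i, a i • IsLocalRing.residue P.O (y i) = 0 := by
    have := congrArg (IsLocalRing.residue P.O) hsumO
    rw [map_sum, map_zero] at this
    rw [← this]
    apply Finset.sum_congr rfl
    intro i _
    rw [map_mul, hres, Algebra.smul_def]
  have hall := Fintype.linearIndependent_iff.mp hy a hrel
  have h0 := ha i₀
  rw [hall i₀, map_zero, sub_zero, hc] at h0
  simp only at h0
  rw [div_self hg₀', Valuation.map_one] at h0
  exact lt_irrefl _ h0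

/-- A bound for the rank of the residue field. -/
theorem Place.rank_residueField_le (hK : IsFunctionField k K) (P : Place k K) {x : K} (hx0 : x ≠ 0)
    (hx : P.1 x < 1) :
    Module.rank k (IsLocalRing.ResidueField P.O) ≤ (Module.finrank k⟮x⟯ K : ℕ) := by
  classical
  have htr : Transcendental k x := by
    intro halg
    obtain ⟨c, rfl⟩ := hK.2 x halg
    have hc : c ≠ 0 := by
      rintro rfl
      exact hx0 (map_zero _)
    rw [Place.trivOn P c hc] at hx
    exact lt_irrefl _ hx
  have hfin := finiteDimensional_adjoin hK htr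
  apply rank_le
  intro s hs
  have hsurj := IsLocalRing.residue_surjective (R := P.O)
  choose lift hlift using hsurj
  have hli := Place.linearIndependent_lift P hx0 hx (fun i : s => lift (i : IsLocalRing.ResidueField P.O))
    (by
      have : (fun i : s => IsLocalRing.residue P.O (lift (i : IsLocalRing.ResidueField P.O))) =
          fun i : s => (i : IsLocalRing.ResidueField P.O) := by
        funext i
        exact hlift _
      rw [this]
      exact hs)
  have := hli.fintype_card_le_finrank
  simpa using this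

/-- the maximal ideal of a place contains a nonzero element -/
theorem Place.exists_uniformizer (P : Place k K) : ∃ t : K, P.1 t = WithZero.exp (-1 : ℤ) :=
  P.2.2 _

theorem Place.exists_ne_zero_lt_one (P : Place k K) : ∃ t : K, t ≠ 0 ∧ P.1 t < 1 := by
  obtain ⟨t, ht⟩ := Place.exists_uniformizer P
  refine ⟨t, ?_, ?_⟩
  · intro h
    rw [h, Valuation.map_zero] at ht
    exact WithZero.exp_ne_zero ht.symm
  · rw [ht, ← WithZero.exp_zero, WithZero.exp_lt_exp]
    omega

/-- The residue field of a place is finite over `k`. -/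
theorem Place.finiteDimensional_residueField (hK : IsFunctionField k K) (P : Place k K) :
    FiniteDimensional k (IsLocalRing.ResidueField P.O) := by
  obtain ⟨t, ht0, ht⟩ := Place.exists_ne_zero_lt_one P
  have h := Place.rank_residueField_le hK P ht0 ht
  exact Module.rank_lt_aleph0_iff.mp (lt_of_le_of_lt h (Cardinal.natCast_lt_aleph0))

/-- `deg P ≤ [K : k(x)]` for `x` in the maximal ideal of `P`. -/
theorem Place.deg_le_finrank (hK : IsFunctionField k K) (P : Place k K) {x : K} (hx0 : x ≠ 0)
    (hx : P.1 x < 1) : P.deg ≤ Module.finrank k⟮x⟯ K :=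
  Module.finrank_le_of_rank_le (Place.rank_residueField_le hK P hx0 hx)

theorem Place.deg_pos (hK : IsFunctionField k K) (P : Place k K) : 0 < P.deg := by
  have := Place.finiteDimensional_residueField hK P
  exact Module.finrank_pos

end FF

end Groth.Agent.Lib.helper10
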