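import Groth.Agent.Lib.Helper10.FunFld40

/-!
Function fields of one variable (helper10), part 41: quadratic extensions of the rational function
field — hyperelliptic (`y² = f`) and Artin–Schreier (`y² + y = f`) places.
-/

set_option autoImplicit false
set_option linter.unusedSectionVars false
set_option linter.style.haveILetI false

universe u v w

open IntermediateField FunFld Polynomial

namespace Groth.Agent.Lib.helper10

namespace FF

open RD PA

section Hyper

variable {k : Type u} {K : Type v} [Field k] [Field K] [Algebra k K] [Algebra (RatFunc k) K]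
  [IsScalarTower k (RatFunc k) K]

theorem Place.ord_pow' {F : Type*} [Field F] [Algebra k F] (P : Place k F) (y : F) (n : ℕ) :
    P.ord (y ^ n) = n * P.ord y := by
  unfold Place.ord
  rw [Valuation.map_pow, WithZero.log_pow, nsmul_eq_mul]
  ring

theorem finiteDimensional_of_finrank_two (hdeg : Module.finrank (RatFunc k) K = 2) :
    FiniteDimensional (RatFunc k) K :=
  Module.finite_of_finrank_pos (by rw [hdeg]; norm_num)

/-- The basic order relation for `y² = g`. -/
theorem two_mul_ord_eq {Q : Place k K} {P₀ : Place k (RatFunc k)} {e : ℕ}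
    (he : IsOverWith Q P₀ e) {y : K} {g : RatFunc k} (heq : y ^ 2 = algebraMap (RatFunc k) K g) :
    2 * Q.ord y = e * P₀.ord g := by
  rw [← ord_algebraMap_of_isOverWith he, ← heq, Place.ord_pow']
  rfl

theorem ord_of_val_eq_exp_neg_one {F : Type*} [Field F] [Algebra k F] (P : Place k F) {z : F}
    (h : P.1 z = WithZero.exp (-1 : ℤ)) : P.ord z = 1 := by
  unfold Place.ord
  rw [h, WithZero.log_exp]
  rfl

/-- **S11034**: above an irreducible factor of a squarefree `f`, the extension `y² = f` is totally
ramified. -/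
theorem hyper_ramified_finite (hdeg : Module.finrank (RatFunc k) K = 2) {y : K} {f : k[X]}
    (hf : Squarefree f)
    (heq : y ^ 2 = algebraMap (RatFunc k) K (algebraMap k[X] (RatFunc k) f))
    {p : k[X]} (hp : Irreducible p) (hpf : p ∣ f)
    (P₀ : Place k (RatFunc k)) (hP₀ : P₀.1 (algebraMap k[X] (RatFunc k) p) < 1) :
    (∃! P : Place k K, IsOver P P₀) ∧
      ∀ P : Place k K, IsOver P P₀ → IsOverWith P P₀ 2 ∧ P.deg = P₀.deg := by
  haveI := finiteDimensional_of_finrank_two hdeg
  apply quadratic_totally_ramified isFunctionField_ratFunc hdeg P₀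
  intro Q e he
  have h1 := two_mul_ord_eq he heq
  rw [ord_of_val_eq_exp_neg_one P₀ (Place.val_squarefree_eq P₀ hp hP₀ hf hpf), mul_one] at h1
  have h2 : Even (e : ℤ) := ⟨Q.ord y, by omega⟩
  exact (Int.even_coe_nat e).mp h2

/-- **S12535**: the zeros of `y` in `y² = f`. -/
theorem hyper_zeros_y (hdeg : Module.finrank (RatFunc k) K = 2) {y : K} {f : k[X]}
    (hf : Squarefree f) (hd : 1 ≤ f.natDegree)
    (heq : y ^ 2 = algebraMap (RatFunc k) K (algebraMap k[X] (RatFunc k) f)) (P : Place k K) :
    (0 < P.ord y → P.ord y = 1) ∧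
    (0 < P.ord y ↔ ∃ P₀ : Place k (RatFunc k), IsOver P P₀ ∧
      0 ≤ P₀.ord (RatFunc.X : RatFunc k) ∧ 0 < P₀.ord (algebraMap k[X] (RatFunc k) f)) := by
  haveI := finiteDimensional_of_finrank_two hdeg
  have hR := isFunctionField_ratFunc (k := k)
  have hf0 : f ≠ 0 := by
    rintro rfl
    simp at hd
  have hιf0 : algebraMap k[X] (RatFunc k) f ≠ 0 :=
    (_root_.map_ne_zero_iff _ (RatFunc.algebraMap_injective k)).mpr hf0
  obtain ⟨P₀, e, he⟩ := exists_place_under hR P
  have hepos := isOverWith_pos he
  have h1 := two_mul_ord_eq he heq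
  -- if `y` vanishes at `P` then `P₀` is finite and `f` vanishes at `P₀`
  have hkey : 0 < P.ord y → 0 ≤ P₀.ord (RatFunc.X : RatFunc k) ∧
      0 < P₀.ord (algebraMap k[X] (RatFunc k) f) := by
    intro hpos
    have h2 : 0 < P₀.ord (algebraMap k[X] (RatFunc k) f) := by
      by_contra hle
      rw [not_lt] at hle
      have : (e : ℤ) * P₀.ord (algebraMap k[X] (RatFunc k) f) ≤ 0 :=
        mul_nonpos_of_nonneg_of_nonpos (Int.natCast_nonneg _) hle
      omega
    refine ⟨?_, h2⟩
    by_contra hneg
    rw [not_le] at hneg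
    rw [Place.infinity_ord_polynomial P₀ hneg hf0] at h2
    omega
  refine ⟨?_, ?_⟩
  · intro hpos
    obtain ⟨hX, hfpos⟩ := hkey hpos
    have hX' : P₀.1 RatFunc.X ≤ 1 := (Place.ord_nonneg_iff P₀ RatFunc.X_ne_zero).mp hX
    have hf' : P₀.1 (algebraMap k[X] (RatFunc k) f) < 1 := (Place.ord_pos_iff P₀ hιf0).mp hfpos
    obtain ⟨p, hp, hpf, hpv⟩ := Place.exists_irreducible_factor P₀ hX' hf0 hf'
    rw [ord_of_val_eq_exp_neg_one P₀ (Place.val_squarefree_eq P₀ hp hpv hf hpf), mul_one] at h1
    have h3 := (quadratic_cases hR hdeg he).1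
    omega
  · constructor
    · intro hpos
      exact ⟨P₀, ⟨e, he⟩, hkey hpos⟩
    · rintro ⟨P₀', ⟨e', he'⟩, -, hfpos⟩
      have h2 := two_mul_ord_eq he' heq
      have h3 := isOverWith_pos he'
      have : 0 < (e' : ℤ) * P₀'.ord (algebraMap k[X] (RatFunc k) f) :=
        mul_pos (by exact_mod_cast h3) hfpos
      omega

end Hyper

section Quad2

variable {F : Type v} {E : Type w} [Field F] [Field E] [Algebra F E]

theorem span_of_not_mem_range (hn : Module.finrank F E = 2) {w : E}
    (hw : w ∉ Set.range (algebraMap F E)) :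
    ∀ z : E, ∃ α β : F, z = algebraMap F E α + algebraMap F E β * w := by
  haveI : FiniteDimensional F E := Module.finite_of_finrank_pos (by rw [hn]; norm_num)
  have hli : LinearIndependent F ![(1 : E), w] :=
    (LinearIndependent.pair_iff' one_ne_zero).mpr (fun a ha =>
      hw ⟨a, by rw [← ha, Algebra.smul_def, mul_one]⟩)
  have hspan := hli.span_eq_top_of_card_eq_finrank' (by rw [Fintype.card_fin, hn])
  intro z
  have hz : z ∈ Submodule.span F (Set.range ![(1 : E), w]) := by
    rw [hspan]; trivial
  rw [Matrix.range_cons, Matrix.range_cons, Matrix.range_empty, Set.union_empty] at hz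
  obtain ⟨a, b, hab⟩ := Submodule.mem_span_pair.mp hz
  refine ⟨a, b, ?_⟩
  rw [← hab, Algebra.smul_def, Algebra.smul_def, mul_one]

theorem exists_aut_ne_one [FiniteDimensional F E] [IsGalois F E]
    (hn : Module.finrank F E = 2) : ∃ σ : E ≃ₐ[F] E, σ ≠ 1 := by
  by_contra h
  push Not at h
  haveI : Subsingleton (E ≃ₐ[F] E) := ⟨fun a b => by rw [h a, h b]⟩
  have h1 := IsGalois.card_aut_eq_finrank F E
  rw [Nat.card_of_subsingleton (1 : E ≃ₐ[F] E), hn] at h1
  omega

theorem aut_apply_ne_of_span {w : E}
    (hspan : ∀ z : E, ∃ α β : F, z = algebraMap F E α + algebraMap F E β * w)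
    {σ : E ≃ₐ[F] E} (hσ : σ ≠ 1) : σ w ≠ w := by
  intro h
  apply hσ
  ext z
  obtain ⟨α, β, rfl⟩ := hspan z
  rw [map_add, map_mul, σ.commutes, σ.commutes, h]
  rfl

/-- A quadratic extension generated by a square root is Galois away from characteristic two. -/
theorem isGalois_of_sq (hn : Module.finrank F E = 2) (h2 : (2 : F) ≠ 0) {y : E} {g : F}
    (hg : g ≠ 0) (heq : y ^ 2 = algebraMap F E g) (hy : y ∉ Set.range (algebraMap F E)) :
    IsGalois F E := by
  have hspan := span_of_not_mem_range hn hy
  have hsep : IsSeparable F y := by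
    have h1 : (X ^ 2 - C g : F[X]).Separable :=
      separable_X_pow_sub_C g (by exact_mod_cast h2) hg
    have h2 : minpoly F y ∣ X ^ 2 - C g := by
      apply minpoly.dvd
      rw [map_sub, map_pow, aeval_X, aeval_C, heq, sub_self]
    exact h1.of_dvd h2
  haveI : Algebra.IsSeparable F E := ⟨fun z => by
    obtain ⟨α, β, rfl⟩ := hspan z
    exact Field.isSeparable_add (isSeparable_algebraMap α)
      (Field.isSeparable_mul (isSeparable_algebraMap β) hsep)⟩
  haveI : Algebra.IsQuadraticExtension F E := { finrank_eq_two' := hn }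
  exact Algebra.IsQuadraticExtension.isGalois F E

end Quad2

section Hyper2

variable {k : Type u} {K : Type v} [Field k] [Field K] [Algebra k K] [Algebra (RatFunc k) K]
  [IsScalarTower k (RatFunc k) K]


theorem hyper_not_mem_range {y : K} {f : k[X]} (hf : Squarefree f) (hd : 1 ≤ f.natDegree)
    (heq : y ^ 2 = algebraMap (RatFunc k) K (algebraMap k[X] (RatFunc k) f)) :
    y ∉ Set.range (algebraMap (RatFunc k) K) := by
  rintro ⟨g, rfl⟩
  have hR := isFunctionField_ratFunc (k := k)
  have hg2 : g ^ 2 = algebraMap k[X] (RatFunc k) f :=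
    (algebraMap (RatFunc k) K).injective (by rw [map_pow]; exact heq)
  have hf0 : f ≠ 0 := by
    rintro rfl
    simp at hd
  have hfu : ¬ IsUnit f := by
    intro hu
    have := natDegree_eq_zero_of_isUnit hu
    omega
  obtain ⟨p, hp, hpf⟩ := WfDvdMonoid.exists_irreducible_factor hfu hf0
  have hιp0 : algebraMap k[X] (RatFunc k) p ≠ 0 :=
    (_root_.map_ne_zero_iff _ (RatFunc.algebraMap_injective k)).mpr hp.ne_zero
  have hpc : algebraMap k[X] (RatFunc k) p ∉ Set.range (algebraMap k (RatFunc k)) := by
    rintro ⟨c, hc⟩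
    have h1 : p = C c := by
      apply RatFunc.algebraMap_injective k
      rw [← hc, IsScalarTower.algebraMap_apply k k[X] (RatFunc k)]
      rfl
    by_cases hc0 : c = 0
    · rw [hc0, C_0] at h1
      exact hp.ne_zero h1
    · exact hp.not_isUnit (h1 ▸ isUnit_C.mpr (IsUnit.mk0 c hc0))
  obtain ⟨P₀, hP₀⟩ := exists_zero hR hpc
  have hP₀' : P₀.1 (algebraMap k[X] (RatFunc k) p) < 1 := (Place.ord_pos_iff P₀ hιp0).mp hP₀
  have h1 := ord_of_val_eq_exp_neg_one P₀ (Place.val_squarefree_eq P₀ hp hP₀' hf hpf)
  rw [← hg2, Place.ord_pow'] at h1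
  omega

/-- **S12516**: the places of `y² = f` above the infinite place. -/
theorem hyper_infinity (h2 : ringChar k ≠ 2) (hdeg : Module.finrank (RatFunc k) K = 2) {y : K}
    {f : k[X]} (hf : Squarefree f) (hd : 1 ≤ f.natDegree)
    (heq : y ^ 2 = algebraMap (RatFunc k) K (algebraMap k[X] (RatFunc k) f))
    (Pinf : Place k (RatFunc k)) (hinf : Pinf.ord (RatFunc.X : RatFunc k) < 0) :
    (Odd f.natDegree → (∃! P : Place k K, IsOver P Pinf) ∧
      ∀ P : Place k K, IsOver P Pinf → IsOverWith P Pinf 2 ∧ P.deg = 1) ∧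
    (Even f.natDegree → (conorm K (Finsupp.single Pinf 1)).deg = 2 ∧
      ∀ P : Place k K, IsOver P Pinf → IsOverWith P Pinf 1) := by
  haveI := finiteDimensional_of_finrank_two hdeg
  have hR := isFunctionField_ratFunc (k := k)
  have hf0 : f ≠ 0 := by
    rintro rfl
    simp at hd
  obtain ⟨hdeg1, hordX⟩ := Place.infinity_deg_and_ord Pinf hinf
  have hordf := Place.infinity_ord_polynomial Pinf hinf hf0
  constructor
  · intro hodd
    have hmain := quadratic_totally_ramified hR hdeg Pinf (by
      intro Q e he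
      have h1 := two_mul_ord_eq he heq
      rw [hordf] at h1
      have h3 : Even ((e : ℤ) * (f.natDegree : ℤ)) := ⟨-Q.ord y, by linarith⟩
      rcases Int.even_mul.mp h3 with h | h
      · exact (Int.even_coe_nat e).mp h
      · exact absurd ((Int.even_coe_nat _).mp h) (Nat.not_even_iff_odd.mpr hodd))
    exact ⟨hmain.1, fun P hP => ⟨(hmain.2 P hP).1, by rw [(hmain.2 P hP).2, hdeg1]⟩⟩
  · rintro ⟨m, hm⟩
    constructor
    · rw [deg_conorm hR, hdeg, deg_single, hdeg1]
      norm_num
    · rintro P ⟨e, he⟩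
      have hy := hyper_not_mem_range hf hd heq
      have hιf0 : algebraMap k[X] (RatFunc k) f ≠ 0 :=
        (_root_.map_ne_zero_iff _ (RatFunc.algebraMap_injective k)).mpr hf0
      have h2k : (2 : k) ≠ 0 := Ring.two_ne_zero h2
      have h2R : (2 : RatFunc k) ≠ 0 := by
        rw [← map_ofNat (algebraMap k (RatFunc k)) 2]
        exact (_root_.map_ne_zero _).mpr h2k
      haveI : IsGalois (RatFunc k) K := isGalois_of_sq hdeg h2R hιf0 heq hy
      obtain ⟨σ, hσ⟩ := exists_aut_ne_one (F := RatFunc k) (E := K) hdeg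
      have hspan := span_of_not_mem_range hdeg hy
      have hσy : σ y = -y := by
        have h1 : σ y ≠ y := aut_apply_ne_of_span hspan hσ
        have h2' : (σ y) ^ 2 = y ^ 2 := by rw [← map_pow, heq, σ.commutes]
        have h3 : (σ y - y) * (σ y + y) = 0 := by linear_combination h2'
        rcases mul_eq_zero.mp h3 with h | h
        · exact absurd (sub_eq_zero.mp h) h1
        · exact eq_neg_of_add_eq_zero_left h
      set X' : K := algebraMap (RatFunc k) K RatFunc.X with hX'
      have hX'0 : X' ≠ 0 := (_root_.map_ne_zero _).mpr RatFunc.X_ne_zero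
      set w : K := y / X' ^ m with hw
      have hspanw : ∀ z : K, ∃ α β : RatFunc k,
          z = algebraMap (RatFunc k) K α + algebraMap (RatFunc k) K β * w := by
        intro z
        obtain ⟨α, β, rfl⟩ := hspan z
        refine ⟨α, β * RatFunc.X ^ m, ?_⟩
        rw [map_mul, map_pow, ← hX', hw]
        field_simp
      have hy0 : y ≠ 0 := by
        rintro rfl
        exact hy ⟨0, map_zero _⟩
      have hordy : P.ord y = -((e : ℤ) * m) := by
        have h1 := two_mul_ord_eq he heq
        rw [hordf, hm] at h1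
        push_cast at h1
        linarith
      have hordX' : P.ord X' = -(e : ℤ) := by
        rw [hX', ord_algebraMap_of_isOverWith he, hordX]
        ring
      have hpow0 : X' ^ m ≠ 0 := pow_ne_zero m hX'0
      have hordw : P.ord w = 0 := by
        rw [hw, div_eq_mul_inv, Place.ord_mul P hy0 (inv_ne_zero hpow0), Place.ord_inv,
          Place.ord_pow', hordy, hordX']
        ring
      have hw0 : w ≠ 0 := div_ne_zero hy0 hpow0
      have hw1 : P.1 w = 1 := by
        rw [Place.val_eq_exp_neg_ord P hw0, hordw, neg_zero, WithZero.exp_zero]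
      have hσw : σ w = -w := by
        rw [hw, map_div₀, map_pow, hX', σ.commutes, hσy, neg_div]
      have hσ1 : P.1 (σ w - w) = 1 := by
        rw [hσw]
        have e1 : -w - w = -(2 * w) := by ring
        rw [e1, Valuation.map_neg, Valuation.map_mul, hw1, mul_one]
        have e2 : (2 : K) = algebraMap k K 2 := (map_ofNat _ 2).symm
        rw [e2]
        exact Place.trivOn P 2 h2k
      have := quadratic_unramified hR hdeg he w σ hspanw hw1.le hσ1
      rw [this] at he
      exact he

/-- **S12519**: the places of an Artin–Schreier extension `y² + y = f` in characteristic two. -/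
theorem artin_schreier_places (h2 : ringChar k = 2) (hdeg : Module.finrank (RatFunc k) K = 2)
    [Algebra.IsSeparable (RatFunc k) K] {y : K} (hy : y ∉ Set.range (algebraMap (RatFunc k) K))
    {f : RatFunc k} (heq : y ^ 2 + y = algebraMap (RatFunc k) K f)
    (P₀ : Place k (RatFunc k)) :
    ((P₀.ord f < 0 ∧ Odd (P₀.ord f)) → (∃! P : Place k K, IsOver P P₀) ∧
      ∀ P : Place k K, IsOver P P₀ → IsOverWith P P₀ 2 ∧ P.deg = P₀.deg) ∧
    (0 ≤ P₀.ord f → ∀ P : Place k K, IsOver P P₀ → IsOverWith P P₀ 1) := by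
  haveI := finiteDimensional_of_finrank_two hdeg
  have hR := isFunctionField_ratFunc (k := k)
  -- a pole of `y` forces a pole of `f`
  have hpole : ∀ (Q : Place k K) (e : ℕ), IsOverWith Q P₀ e → 1 < Q.1 y →
      2 * Q.ord y = e * P₀.ord f := by
    intro Q e he hgt
    have h1 : Q.1 y < Q.1 (y ^ 2) := by
      rw [Valuation.map_pow, pow_two]
      calc Q.1 y = 1 * Q.1 y := (one_mul _).symm
        _ < Q.1 y * Q.1 y := by
          apply mul_lt_mul_of_pos_right hgt
          exact lt_trans zero_lt_one hgt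
    have h3 : Q.1 (y ^ 2 + y) = Q.1 (y ^ 2) := Valuation.map_add_eq_of_lt_left _ h1
    have h4 : Q.ord (y ^ 2 + y) = Q.ord (y ^ 2) := by
      unfold Place.ord
      rw [h3]
    rw [heq, ord_algebraMap_of_isOverWith he, Place.ord_pow'] at h4
    push_cast at h4
    linarith
  have hint : ∀ (Q : Place k K) (e : ℕ), IsOverWith Q P₀ e → 0 ≤ P₀.ord f → Q.1 y ≤ 1 := by
    intro Q e he hf
    by_contra hgt
    rw [not_le] at hgt
    have h1 := hpole Q e he hgt
    have hy0 : y ≠ 0 := by
      rintro rfl
      rw [Valuation.map_zero] at hgt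
      exact absurd hgt (not_lt.mpr zero_le)
    have h2' : Q.ord y < 0 := (Place.ord_neg_iff Q hy0).mpr hgt
    have h3 : 0 ≤ (e : ℤ) * P₀.ord f := mul_nonneg (Int.natCast_nonneg _) hf
    omega
  constructor
  · rintro ⟨hneg, hodd⟩
    apply quadratic_totally_ramified hR hdeg P₀
    intro Q e he
    have hepos := isOverWith_pos he
    have hf0 : f ≠ 0 := by
      rintro rfl
      rw [Place.ord_zero] at hneg
      exact lt_irrefl _ hneg
    have hfgt : 1 < P₀.1 f := (Place.ord_neg_iff P₀ hf0).mp hneg
    have hQf : 1 < Q.1 (algebraMap (RatFunc k) K f) := by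
      rw [he f]
      exact one_lt_pow₀ hfgt (by omega)
    have hygt : 1 < Q.1 y := by
      by_contra hle
      rw [not_lt] at hle
      have : Q.1 (y ^ 2 + y) ≤ 1 := by
        apply le_trans (Valuation.map_add _ _ _)
        apply max_le _ hle
        rw [Valuation.map_pow]
        exact pow_le_one' hle 2
      rw [heq] at this
      exact absurd this (not_le.mpr hQf)
    have h1 := hpole Q e he hygt
    have h3 : Even ((e : ℤ) * P₀.ord f) := ⟨Q.ord y, by linarith⟩
    rcases Int.even_mul.mp h3 with h | h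
    · exact (Int.even_coe_nat e).mp h
    · exact absurd h (Int.not_even_iff_odd.mpr hodd)
  · intro hf
    rintro P ⟨e, he⟩
    haveI : Algebra.IsQuadraticExtension (RatFunc k) K := { finrank_eq_two' := hdeg }
    haveI : IsGalois (RatFunc k) K := Algebra.IsQuadraticExtension.isGalois (RatFunc k) K
    obtain ⟨σ, hσ⟩ := exists_aut_ne_one (F := RatFunc k) (E := K) hdeg
    have hspan := span_of_not_mem_range hdeg hy
    have hσy : σ y ≠ y := aut_apply_ne_of_span hspan hσ
    haveI : CharP k 2 := ringChar.of_eq h2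
    have h2k : (2 : k) = 0 := by
      have := CharP.cast_eq_zero k 2
      exact_mod_cast this
    have h2K : (2 : K) = 0 := by
      rw [← map_ofNat (algebraMap k K) 2, h2k, map_zero]
    have hσeq : (σ y) ^ 2 + σ y = y ^ 2 + y := by
      rw [← map_pow, ← map_add, heq, σ.commutes]
    have hd : (σ y - y) * (σ y - y + 1) = 0 := by
      linear_combination hσeq + (y ^ 2 - σ y * y) * h2K
    have hd1 : σ y - y = -1 := by
      rcases mul_eq_zero.mp hd with h | h
      · exact absurd (sub_eq_zero.mp h) hσy
      · exact eq_neg_of_add_eq_zero_left h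
    have hσ1 : P.1 (σ y - y) = 1 := by
      rw [hd1, Valuation.map_neg, Valuation.map_one]
    have := quadratic_unramified hR hdeg he y σ hspan (hint P e he hf) hσ1
    rw [this] at he
    exact he

/-- A place of `k(X)` at which some irreducible factor of a nonconstant polynomial vanishes. -/
theorem exists_place_irreducible_factor {f : k[X]} (hd : 1 ≤ f.natDegree) :
    ∃ (p : k[X]) (P₀ : Place k (RatFunc k)), Irreducible p ∧ p ∣ f ∧
      P₀.1 (algebraMap k[X] (RatFunc k) p) < 1 := by
  have hR := isFunctionField_ratFunc (k := k)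
  have hf0 : f ≠ 0 := by
    rintro rfl
    simp at hd
  have hfu : ¬ IsUnit f := by
    intro hu
    have := natDegree_eq_zero_of_isUnit hu
    omega
  obtain ⟨p, hp, hpf⟩ := WfDvdMonoid.exists_irreducible_factor hfu hf0
  have hιp0 : algebraMap k[X] (RatFunc k) p ≠ 0 :=
    (_root_.map_ne_zero_iff _ (RatFunc.algebraMap_injective k)).mpr hp.ne_zero
  have hpc : algebraMap k[X] (RatFunc k) p ∉ Set.range (algebraMap k (RatFunc k)) := by
    rintro ⟨c, hc⟩
    have h1 : p = C c := by
      apply RatFunc.algebraMap_injective k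
      rw [← hc, IsScalarTower.algebraMap_apply k k[X] (RatFunc k)]
      rfl
    by_cases hc0 : c = 0
    · rw [hc0, C_0] at h1
      exact hp.ne_zero h1
    · exact hp.not_isUnit (h1 ▸ isUnit_C.mpr (IsUnit.mk0 c hc0))
  obtain ⟨P₀, hP₀⟩ := exists_zero hR hpc
  exact ⟨p, P₀, hp, hpf, (Place.ord_pos_iff P₀ hιp0).mp hP₀⟩

/-- In `y² = f` (`f` squarefree, nonconstant, characteristic not two) the constants are
algebraically closed. -/
theorem hyper_constants (h2 : ringChar k ≠ 2) (hdeg : Module.finrank (RatFunc k) K = 2) {y : K}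
    {f : k[X]} (hf : Squarefree f) (hd : 1 ≤ f.natDegree)
    (heq : y ^ 2 = algebraMap (RatFunc k) K (algebraMap k[X] (RatFunc k) f))
    {c : K} (hc : IsAlgebraic k c) : c ∈ Set.range (algebraMap k K) := by
  haveI := finiteDimensional_of_finrank_two hdeg
  have hR := isFunctionField_ratFunc (k := k)
  by_contra hck
  have hcF : c ∉ Set.range (algebraMap (RatFunc k) K) := by
    rintro ⟨u, rfl⟩
    have hu : IsAlgebraic k u :=
      (isAlgebraic_algebraMap_iff (algebraMap (RatFunc k) K).injective).mp hc
    obtain ⟨a, rfl⟩ := hR.2 u hu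
    exact hck ⟨a, by rw [← IsScalarTower.algebraMap_apply]⟩
  have hf0 : f ≠ 0 := by
    rintro rfl
    simp at hd
  have hy := hyper_not_mem_range hf hd heq
  have hιf0 : algebraMap k[X] (RatFunc k) f ≠ 0 :=
    (_root_.map_ne_zero_iff _ (RatFunc.algebraMap_injective k)).mpr hf0
  have h2k : (2 : k) ≠ 0 := Ring.two_ne_zero h2
  have h2R : (2 : RatFunc k) ≠ 0 := by
    rw [← map_ofNat (algebraMap k (RatFunc k)) 2]
    exact (_root_.map_ne_zero _).mpr h2k
  haveI : IsGalois (RatFunc k) K := isGalois_of_sq hdeg h2R hιf0 heq hy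
  obtain ⟨σ, hσ⟩ := exists_aut_ne_one (F := RatFunc k) (E := K) hdeg
  have hspan := span_of_not_mem_range hdeg hcF
  have hσc : σ c ≠ c := aut_apply_ne_of_span hspan hσ
  obtain ⟨p, P₀, hp, hpf, hP₀⟩ := exists_place_irreducible_factor hd
  obtain ⟨⟨Q, hQ, -⟩, hall⟩ := hyper_ramified_finite hdeg hf heq hp hpf P₀ hP₀
  have he := (hall Q hQ).1
  have hσalg : IsAlgebraic k (σ c) := hc.algHom (σ.toAlgHom.restrictScalars k)
  have hdalg : IsAlgebraic k (σ c - c) := hσalg.sub hc
  have hd0 : σ c - c ≠ 0 := sub_ne_zero.mpr hσc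
  have hσ1 : Q.1 (σ c - c) = 1 := by
    apply le_antisymm (Place.val_le_one_of_isAlgebraic Q hdalg)
    have h1 := Place.val_le_one_of_isAlgebraic Q hdalg.inv
    rw [map_inv₀] at h1
    have hpos : 0 < Q.1 (σ c - c) := zero_lt_iff.mpr ((Valuation.ne_zero_iff _).mpr hd0)
    exact (inv_le_one₀ hpos).mp h1
  have := quadratic_unramified hR hdeg he c σ hspan (Place.val_le_one_of_isAlgebraic Q hc) hσ1
  omega

end Hyper2

section Hyper3

variable {k : Type u} {K : Type v} [Field k] [Field K] [Algebra k K]

/-- **S11019**: `k(x, y)` with `y² = f(x)`, `f` squarefree and nonconstant, is a function field of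
one variable over `k` (characteristic not two). -/
theorem hyper_isFunctionField (h2 : ringChar k ≠ 2) (x y : K) (hx : Transcendental k x)
    (hxy : IntermediateField.adjoin k ({x, y} : Set K) = ⊤) (f : k[X]) (hf : Squarefree f)
    (hd : 1 ≤ f.natDegree) (heq : y ^ 2 = aeval x f) : IsFunctionField k K := by
  set e := RatFunc.algEquivOfTranscendental x hx with he
  letI : Algebra (RatFunc k) K :=
    ((algebraMap k⟮x⟯ K).comp (e : RatFunc k →+* k⟮x⟯)).toAlgebra
  have hmap : ∀ u : RatFunc k, algebraMap (RatFunc k) K u = (e u : K) := fun u => rfl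
  haveI : IsScalarTower k (RatFunc k) K := IsScalarTower.of_algebraMap_eq (fun c => by
    rw [hmap, e.commutes]
    rfl)
  have heq' : y ^ 2 = algebraMap (RatFunc k) K (algebraMap k[X] (RatFunc k) f) := by
    rw [heq, hmap, he, RatFunc.algEquivOfTranscendental_algebraMap, ← IntermediateField.aeval_coe]
    rfl
  have hXx : algebraMap (RatFunc k) K RatFunc.X = x := by
    rw [hmap, he, RatFunc.algEquivOfTranscendental_X]
  have hy := hyper_not_mem_range hf hd heq'
  -- `K = k(X)(y)`
  have htop : IntermediateField.adjoin (RatFunc k) ({y} : Set K) = ⊤ := by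
    rw [eq_top_iff]
    intro z _
    have hz : z ∈ IntermediateField.adjoin k ({x, y} : Set K) := by rw [hxy]; trivial
    induction hz using IntermediateField.adjoin_induction with
    | mem w hw =>
      rcases hw with rfl | hw
      · rw [← hXx]
        exact IntermediateField.algebraMap_mem _ _
      · rw [Set.mem_singleton_iff.mp hw]
        exact IntermediateField.mem_adjoin_simple_self _ _
    | algebraMap c =>
      rw [IsScalarTower.algebraMap_apply k (RatFunc k) K]
      exact IntermediateField.algebraMap_mem _ _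
    | add a b _ _ ha hb => exact add_mem (ha trivial) (hb trivial)
    | inv a _ ha => exact inv_mem (ha trivial)
    | mul a b _ _ ha hb => exact mul_mem (ha trivial) (hb trivial)
  have hf0 : f ≠ 0 := by
    rintro rfl
    simp at hd
  have hint : IsIntegral (RatFunc k) y := by
    refine ⟨X ^ 2 - C (algebraMap k[X] (RatFunc k) f), monic_X_pow_sub_C _ (by norm_num), ?_⟩
    rw [eval₂_sub, eval₂_pow, eval₂_X, eval₂_C, heq', sub_self]
  have hdeg : Module.finrank (RatFunc k) K = 2 := by
    have h1 := IntermediateField.adjoin.finrank hint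
    rw [htop, IntermediateField.finrank_top'] at h1
    rw [h1]
    have h3 : minpoly (RatFunc k) y ∣ X ^ 2 - C (algebraMap k[X] (RatFunc k) f) := by
      apply minpoly.dvd
      rw [map_sub, map_pow, aeval_X, aeval_C, heq', sub_self]
    have h4 : (minpoly (RatFunc k) y).natDegree ≤ 2 := by
      have := natDegree_le_of_dvd h3 (monic_X_pow_sub_C _ (by norm_num)).ne_zero
      rwa [natDegree_X_pow_sub_C] at this
    have h5 := (minpoly.two_le_natDegree_iff hint).mpr hy
    omega
  haveI := finiteDimensional_of_finrank_two hdeg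
  refine ⟨⟨x, hx, ?_⟩, fun c hc => hyper_constants h2 hdeg hf hd heq' hc⟩
  exact finite_of_ringHom (E := K) (e : RatFunc k →+* k⟮x⟯) (fun a => rfl)

end Hyper3

end FF

end Groth.Agent.Lib.helper10
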