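import Groth.Agent.Lib.Helper10.FunFld42

/-!
Function fields of one variable (helper10), part 43: the genus of an Artin–Schreier function field
`y² + y = f(x)` in characteristic two.
-/

set_option autoImplicit false
set_option linter.unusedSectionVars false
set_option linter.style.haveILetI false

universe u v w

open IntermediateField FunFld Polynomial

namespace Groth.Agent.Lib.helper10

namespace FF

open RD PA

section Quad3

variable {F : Type v} {E : Type w} [Field F] [Field E] [Algebra F E]

/-- A quadratic Artin–Schreier extension in characteristic two is Galois. -/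
theorem isGalois_of_artin_schreier (hn : Module.finrank F E = 2) (h2 : (2 : F) = 0) {y : E} {g : F}
    (heq : y ^ 2 + y = algebraMap F E g) (hy : y ∉ Set.range (algebraMap F E)) :
    IsGalois F E := by
  have hspan := span_of_not_mem_range hn hy
  have hsep : IsSeparable F y := by
    have h1 : (X ^ 2 + X - C g : F[X]).Separable := by
      rw [separable_def]
      have hder : derivative (X ^ 2 + X - C g : F[X]) = 1 := by
        rw [derivative_sub, derivative_add, derivative_X_pow, derivative_X, derivative_C]
        have : (C ((2 : ℕ) : F) : F[X]) = 0 := by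
          rw [Nat.cast_ofNat, h2, C_0]
        rw [this]
        simp
      rw [hder]
      exact isCoprime_one_right
    have h2 : minpoly F y ∣ X ^ 2 + X - C g := by
      apply minpoly.dvd
      rw [map_sub, map_add, map_pow, aeval_X, aeval_C, heq, sub_self]
    exact h1.of_dvd h2
  haveI : Algebra.IsSeparable F E := ⟨fun z => by
    obtain ⟨α, β, rfl⟩ := hspan z
    exact Field.isSeparable_add (isSeparable_algebraMap α)
      (Field.isSeparable_mul (isSeparable_algebraMap β) hsep)⟩
  haveI : Algebra.IsQuadraticExtension F E := { finrank_eq_two' := hn }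
  exact Algebra.IsQuadraticExtension.isGalois F E

end Quad3

section ConormInv

variable {k : Type u} {F : Type v} {E : Type w} [Field k] [Field F] [Field E]
  [Algebra k F] [Algebra F E] [Algebra k E] [IsScalarTower k F E]

/-- `L(N*(D))` is stable under automorphisms over the small field. -/
theorem L_conorm_invariant [FiniteDimensional F E] (hF : IsFunctionField k F) (D : Divisor k F)
    (σ : E ≃ₐ[F] E) {z : E} (hz : z ∈ L (conorm E D)) : σ z ∈ L (conorm E D) := by
  intro Q
  have h1 := hz (Place.comapAut Q σ)
  obtain ⟨P, e, he⟩ := exists_place_under hF Q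
  rw [Place.comapAut_apply, conorm_apply' hF D (Place.comapAut_isOverWith he σ)] at h1
  rw [conorm_apply' hF D he]
  exact h1

end ConormInv

section ASGenus

variable {k : Type u} {K : Type v} [Field k] [Field K] [Algebra k K] [Algebra (RatFunc k) K]
  [IsScalarTower k (RatFunc k) K]

/-- The divisor `∑ d_P P` over the poles `P` of `f`, where the pole order is `2 d_P - 1`. -/
noncomputable def asDiv (f : RatFunc k) : Divisor k (RatFunc k) :=
  (FunFld.div k f).mapRange (fun n => if n < 0 then (1 - n) / 2 else 0) (by simp)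

theorem asDiv_apply (f : RatFunc k) (P : Place k (RatFunc k)) :
    asDiv f P = if P.ord f < 0 then (1 - P.ord f) / 2 else 0 := by
  unfold asDiv
  rw [Finsupp.mapRange_apply, div_apply isFunctionField_ratFunc]

theorem deg_asDiv (f : RatFunc k) :
    (asDiv f).deg = ∑ P ∈ (FunFld.div k f).support with FunFld.div k f P < 0,
      (1 - FunFld.div k f P) / 2 * (P.deg : ℤ) := by
  unfold asDiv Divisor.deg
  rw [Finsupp.sum_mapRange_index (fun a => by simp), Finsupp.sum, Finset.sum_filter]
  apply Finset.sum_congr rfl
  intro P _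
  split_ifs <;> simp

theorem two_eq_zero_of_ringChar (h2 : ringChar k = 2) : (2 : K) = 0 := by
  haveI : CharP k 2 := ringChar.of_eq h2
  have h2k : (2 : k) = 0 := by
    have := CharP.cast_eq_zero k 2
    exact_mod_cast this
  rw [← map_ofNat (algebraMap k K) 2, h2k, map_zero]

variable {y : K} {f : RatFunc k} (heq : y ^ 2 + y = algebraMap (RatFunc k) K f)

include heq in
/-- A pole of `y` lies over a pole of `f`, with `2 ord y = e ord f`. -/
theorem as_pole {Q : Place k K} {P₀ : Place k (RatFunc k)} {e : ℕ} (he : IsOverWith Q P₀ e)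
    (hgt : 1 < Q.1 y) : 2 * Q.ord y = e * P₀.ord f := by
  have h1 : Q.1 y < Q.1 (y ^ 2) := by
    rw [Valuation.map_pow, pow_two]
    calc Q.1 y = 1 * Q.1 y := (one_mul _).symm
      _ < Q.1 y * Q.1 y := by
        apply mul_lt_mul_of_pos_right hgt
        exact lt_trans zero_lt_one hgt
  have h3 : Q.1 (y ^ 2 + y) = Q.1 (y ^ 2) := Valuation.map_add_eq_of_lt_left _ h1
  have h4 : Q.ord (y ^ 2 + y) = Q.ord (y ^ 2) := by
    unfold Place.ord
    rw [h3]
  rw [heq, ord_algebraMap_of_isOverWith he, Place.ord_pow'] at h4
  push_cast at h4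
  linarith

include heq in
/-- `y` is integral over places where `f` is. -/
theorem as_integral {Q : Place k K} {P₀ : Place k (RatFunc k)} {e : ℕ} (he : IsOverWith Q P₀ e)
    (hf : 0 ≤ P₀.ord f) : Q.1 y ≤ 1 := by
  by_contra hgt
  rw [not_le] at hgt
  have h1 := as_pole heq he hgt
  have hy0 : y ≠ 0 := by
    rintro rfl
    rw [Valuation.map_zero] at hgt
    exact absurd hgt (not_lt.mpr zero_le)
  have h2' : Q.ord y < 0 := (Place.ord_neg_iff Q hy0).mpr hgt
  have h3 : 0 ≤ (e : ℤ) * P₀.ord f := mul_nonneg (Int.natCast_nonneg _) hf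
  omega

include heq in
/-- Over an odd pole of `f` the extension is ramified and `ord y = ord f`. -/
theorem as_ramified (hdeg : Module.finrank (RatFunc k) K = 2) {Q : Place k K}
    {P₀ : Place k (RatFunc k)} {e : ℕ} (he : IsOverWith Q P₀ e)
    (hneg : P₀.ord f < 0) (hodd : Odd (P₀.ord f)) :
    e = 2 ∧ Q.ord y = P₀.ord f ∧ y ≠ 0 := by
  haveI := finiteDimensional_of_finrank_two hdeg
  have hR := isFunctionField_ratFunc (k := k)
  have hepos := isOverWith_pos he
  have hf0 : f ≠ 0 := by
    rintro rfl
    rw [Place.ord_zero] at hneg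
    exact lt_irrefl _ hneg
  have hfgt : 1 < P₀.1 f := (Place.ord_neg_iff P₀ hf0).mp hneg
  have hQf : 1 < Q.1 (algebraMap (RatFunc k) K f) := by
    rw [he f]
    exact one_lt_pow₀ hfgt (by omega)
  have hygt : 1 < Q.1 y := by
    by_contra hle
    rw [not_lt] at hle
    have : Q.1 (y ^ 2 + y) ≤ 1 := by
      apply le_trans (Valuation.map_add _ _ _)
      apply max_le _ hle
      rw [Valuation.map_pow]
      exact pow_le_one' hle 2
    rw [heq] at this
    exact absurd this (not_le.mpr hQf)
  have hy0 : y ≠ 0 := by
    rintro rfl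
    rw [Valuation.map_zero] at hygt
    exact absurd hygt (not_lt.mpr zero_le)
  have h1 := as_pole heq he hygt
  have h3 : Even ((e : ℤ) * P₀.ord f) := ⟨Q.ord y, by linarith⟩
  have heven : Even e := by
    rcases Int.even_mul.mp h3 with h | h
    · exact (Int.even_coe_nat e).mp h
    · exact absurd h (Int.not_even_iff_odd.mpr hodd)
  have hle := (quadratic_cases hR hdeg he).1
  have he2 : e = 2 := by
    obtain ⟨j, hj⟩ := heven
    omega
  refine ⟨he2, ?_, hy0⟩
  rw [he2] at h1
  push_cast at h1
  linarith

theorem exp_natCast_mul (e : ℕ) (n : ℤ) :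
    WithZero.exp ((e : ℤ) * n) = WithZero.exp n ^ e := by
  rw [← WithZero.exp_nsmul, nsmul_eq_mul]

theorem le_of_pow_le_pow' {a b : WithZero (Multiplicative ℤ)} {e : ℕ} (he : 1 ≤ e)
    (h : a ^ e ≤ b ^ e) : a ≤ b :=
  (pow_le_pow_iff_left₀ zero_le zero_le (by omega)).mp h

include heq in
/-- The easy inclusion in the description of `L(N*(D))` for an Artin–Schreier extension. -/
theorem as_mem_L_of (hdeg : Module.finrank (RatFunc k) K = 2)
    (hodd : ∀ P : Place k (RatFunc k), P.ord f < 0 → Odd (P.ord f))
    (D : Divisor k (RatFunc k)) {a b : RatFunc k}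
    (ha : a ∈ L D) (hb : b ∈ L (D - asDiv f)) :
    algebraMap (RatFunc k) K a + algebraMap (RatFunc k) K b * y ∈ L (conorm K D) := by
  haveI := finiteDimensional_of_finrank_two hdeg
  have hR := isFunctionField_ratFunc (k := k)
  intro Q
  obtain ⟨P, e, he⟩ := exists_place_under hR Q
  rw [conorm_apply' hR D he, exp_natCast_mul]
  apply le_trans (Valuation.map_add _ _ _)
  apply max_le
  · rw [he a]
    exact pow_le_pow_left' (ha P) e
  · rw [Valuation.map_mul, he b]
    have hbP := hb P
    rw [Finsupp.coe_sub, Pi.sub_apply, asDiv_apply] at hbP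
    by_cases hf : P.ord f < 0
    · rw [if_pos hf] at hbP
      obtain ⟨he2, hy1, hy0⟩ := as_ramified heq hdeg he hf (hodd P hf)
      subst he2
      rw [Place.val_eq_exp_neg_ord Q hy0, hy1]
      obtain ⟨j, hj⟩ := hodd P hf
      calc P.1 b ^ 2 * WithZero.exp (-P.ord f)
          ≤ WithZero.exp (D P - (1 - P.ord f) / 2) ^ 2 * WithZero.exp (-P.ord f) :=
            mul_le_mul_left (pow_le_pow_left' hbP 2) _
        _ = WithZero.exp (2 * (D P - (1 - P.ord f) / 2) + -P.ord f) := by
            rw [← WithZero.exp_nsmul, ← WithZero.exp_add]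
            simp
        _ ≤ WithZero.exp (D P) ^ 2 := by
            rw [← WithZero.exp_nsmul, WithZero.exp_le_exp]
            simp only [nsmul_eq_mul, Nat.cast_ofNat]
            omega
    · rw [if_neg hf, sub_zero] at hbP
      rw [not_lt] at hf
      have hy1 := as_integral heq he hf
      calc P.1 b ^ e * Q.1 y ≤ WithZero.exp (D P) ^ e * 1 :=
            mul_le_mul' (pow_le_pow_left' hbP e) hy1
        _ = _ := mul_one _

include heq in
/-- The Galois conjugate of `y` is `y + 1`. -/
theorem as_aut (h2 : ringChar k = 2) (hdeg : Module.finrank (RatFunc k) K = 2)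
    (hy : y ∉ Set.range (algebraMap (RatFunc k) K)) :
    ∃ σ : K ≃ₐ[RatFunc k] K, σ y = y + 1 := by
  haveI := finiteDimensional_of_finrank_two hdeg
  have h2K : (2 : K) = 0 := two_eq_zero_of_ringChar h2
  have h2R : (2 : RatFunc k) = 0 := two_eq_zero_of_ringChar h2
  haveI : IsGalois (RatFunc k) K := isGalois_of_artin_schreier hdeg h2R heq hy
  obtain ⟨σ, hσ⟩ := exists_aut_ne_one (F := RatFunc k) (E := K) hdeg
  have hspan := span_of_not_mem_range hdeg hy
  have hσy : σ y ≠ y := aut_apply_ne_of_span hspan hσ
  have hσeq : (σ y) ^ 2 + σ y = y ^ 2 + y := by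
    rw [← map_pow, ← map_add, heq, σ.commutes]
  have hd : (σ y - y) * (σ y - y + 1) = 0 := by
    linear_combination hσeq + (y ^ 2 - σ y * y) * h2K
  refine ⟨σ, ?_⟩
  rcases mul_eq_zero.mp hd with h | h
  · exact absurd (sub_eq_zero.mp h) hσy
  · linear_combination h - h2K

include heq in
/-- The hard inclusion in the description of `L(N*(D))` for an Artin–Schreier extension. -/
theorem as_mem_L_imp (h2 : ringChar k = 2) (hdeg : Module.finrank (RatFunc k) K = 2)
    (hy : y ∉ Set.range (algebraMap (RatFunc k) K))
    (hodd : ∀ P : Place k (RatFunc k), P.ord f < 0 → Odd (P.ord f))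
    (D : Divisor k (RatFunc k)) {a b : RatFunc k}
    (hz : algebraMap (RatFunc k) K a + algebraMap (RatFunc k) K b * y ∈ L (conorm K D)) :
    a ∈ L D ∧ b ∈ L (D - asDiv f) := by
  haveI := finiteDimensional_of_finrank_two hdeg
  have hR := isFunctionField_ratFunc (k := k)
  obtain ⟨σ, hd1⟩ := as_aut heq h2 hdeg hy
  set z := algebraMap (RatFunc k) K a + algebraMap (RatFunc k) K b * y with hzdef
  have hσz : σ z = z + algebraMap (RatFunc k) K b := by
    rw [hzdef, map_add, map_mul, σ.commutes, σ.commutes, hd1]
    ring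
  have hbL : algebraMap (RatFunc k) K b ∈ L (conorm K D) := by
    have := sub_mem (L_conorm_invariant hR D σ hz) hz
    rwa [hσz, add_sub_cancel_left] at this
  have key : ∀ P : Place k (RatFunc k),
      P.1 a ≤ WithZero.exp (D P) ∧ P.1 b ≤ WithZero.exp ((D - asDiv f) P) := by
    intro P
    obtain ⟨Q, e, he⟩ := exists_place_over (E := K) hR P
    have hepos := isOverWith_pos he
    have hzQ := hz Q
    have hbQ := hbL Q
    rw [conorm_apply' hR D he, exp_natCast_mul] at hzQ hbQ
    rw [Finsupp.coe_sub, Pi.sub_apply, asDiv_apply]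
    by_cases hf : P.ord f < 0
    · rw [if_pos hf]
      obtain ⟨he2, hy1, hy0⟩ := as_ramified heq hdeg he hf (hodd P hf)
      subst he2
      obtain ⟨j, hj⟩ := hodd P hf
      by_cases hb0 : b = 0
      · rw [hb0, Valuation.map_zero]
        refine ⟨?_, zero_le⟩
        have hza : z = algebraMap (RatFunc k) K a := by
          rw [hzdef, hb0, map_zero, zero_mul, add_zero]
        rw [hza, he a] at hzQ
        exact le_of_pow_le_pow' (by norm_num) hzQ
      · have hιb0 : algebraMap (RatFunc k) K b ≠ 0 := (_root_.map_ne_zero _).mpr hb0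
        have hby0 : algebraMap (RatFunc k) K b * y ≠ 0 := mul_ne_zero hιb0 hy0
        have hordby : Q.ord (algebraMap (RatFunc k) K b * y) = 2 * P.ord b + P.ord f := by
          rw [Place.ord_mul Q hιb0 hy0, ord_algebraMap_of_isOverWith he, hy1]
          push_cast
          ring
        have hne : Q.1 (algebraMap (RatFunc k) K a) ≠ Q.1 (algebraMap (RatFunc k) K b * y) := by
          by_cases ha0 : a = 0
          · rw [ha0, map_zero, Valuation.map_zero]
            exact ((Valuation.ne_zero_iff _).mpr hby0).symm
          · intro heq'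
            have : Q.ord (algebraMap (RatFunc k) K a) =
                Q.ord (algebraMap (RatFunc k) K b * y) := by
              unfold Place.ord
              rw [heq']
            rw [hordby, ord_algebraMap_of_isOverWith he] at this
            push_cast at this
            omega
        have hmax := Valuation.map_add_of_distinct_val Q.1 hne
        rw [← hzdef] at hmax
        rw [hmax] at hzQ
        have h1 := le_trans (le_max_left _ _) hzQ
        have h2' := le_trans (le_max_right _ _) hzQ
        constructor
        · rw [he a] at h1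
          exact le_of_pow_le_pow' (by norm_num) h1
        · rw [Place.val_eq_exp_neg_ord Q hby0, hordby, ← WithZero.exp_nsmul,
            WithZero.exp_le_exp] at h2'
          rw [Place.val_eq_exp_neg_ord P hb0, WithZero.exp_le_exp]
          simp only [nsmul_eq_mul, Nat.cast_ofNat] at h2'
          omega
    · rw [if_neg hf, sub_zero]
      rw [not_lt] at hf
      have hy1 := as_integral heq he hf
      have hb' : P.1 b ≤ WithZero.exp (D P) := by
        rw [he b] at hbQ
        exact le_of_pow_le_pow' hepos hbQ
      refine ⟨?_, hb'⟩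
      have hby : Q.1 (algebraMap (RatFunc k) K b * y) ≤ WithZero.exp (D P) ^ e := by
        rw [Valuation.map_mul]
        calc Q.1 (algebraMap (RatFunc k) K b) * Q.1 y
            ≤ Q.1 (algebraMap (RatFunc k) K b) * 1 := mul_le_mul_right hy1 _
          _ = Q.1 (algebraMap (RatFunc k) K b) := mul_one _
          _ ≤ _ := hbQ
      have ha' : Q.1 (algebraMap (RatFunc k) K a) ≤ WithZero.exp (D P) ^ e := by
        have : algebraMap (RatFunc k) K a = z - algebraMap (RatFunc k) K b * y := by
          rw [hzdef, add_sub_cancel_right]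
        rw [this]
        exact le_trans (Valuation.map_sub _ _ _) (max_le hzQ hby)
      rw [he a] at ha'
      exact le_of_pow_le_pow' hepos ha'
  exact ⟨fun P => (key P).1, fun P => (key P).2⟩

include heq in
/-- `ℓ(N*(D)) = ℓ(D) + ℓ(D - E)` for an Artin–Schreier extension. -/
theorem as_ell (h2 : ringChar k = 2) (hdeg : Module.finrank (RatFunc k) K = 2)
    (hy : y ∉ Set.range (algebraMap (RatFunc k) K))
    (hodd : ∀ P : Place k (RatFunc k), P.ord f < 0 → Odd (P.ord f))
    (D : Divisor k (RatFunc k)) :
    ell (conorm K D) = ell D + ell (D - asDiv f) := by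
  have hR := isFunctionField_ratFunc (k := k)
  haveI := finiteDimensional_L hR D
  haveI := finiteDimensional_L hR (D - asDiv f)
  let ι : RatFunc k →ₗ[k] K := (IsScalarTower.toAlgHom k (RatFunc k) K).toLinearMap
  have hι : ∀ a, ι a = algebraMap (RatFunc k) K a := fun a => rfl
  let Φ : (L D) × (L (D - asDiv f)) →ₗ[k] K :=
    (ι ∘ₗ (L D).subtype).coprod ((LinearMap.mulRight k y) ∘ₗ ι ∘ₗ (L (D - asDiv f)).subtype)
  have hΦ : ∀ pq, Φ pq = algebraMap (RatFunc k) K (pq.1 : RatFunc k) +
      algebraMap (RatFunc k) K (pq.2 : RatFunc k) * y := fun pq => rfl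
  have hspan := span_of_not_mem_range hdeg hy
  have hrange : LinearMap.range Φ = L (conorm K D) := by
    apply le_antisymm
    · rintro _ ⟨⟨a, b⟩, rfl⟩
      rw [hΦ]
      exact as_mem_L_of heq hdeg hodd D a.2 b.2
    · intro z hz
      obtain ⟨a, b, rfl⟩ := hspan z
      obtain ⟨ha, hb⟩ := as_mem_L_imp heq h2 hdeg hy hodd D hz
      exact ⟨⟨⟨a, ha⟩, ⟨b, hb⟩⟩, rfl⟩
  have hinj : Function.Injective Φ := by
    rw [← LinearMap.ker_eq_bot, LinearMap.ker_eq_bot']
    rintro ⟨a, b⟩ hab
    rw [hΦ] at hab
    have hb0 : (b : RatFunc k) = 0 := by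
      by_contra hne
      have hιb : algebraMap (RatFunc k) K (b : RatFunc k) ≠ 0 := (_root_.map_ne_zero _).mpr hne
      apply hy
      refine ⟨-(a : RatFunc k) / (b : RatFunc k), ?_⟩
      rw [map_div₀, map_neg, div_eq_iff hιb]
      linear_combination -hab
    have ha0 : (a : RatFunc k) = 0 := by
      simp only at hab
      rw [hb0, map_zero, zero_mul, add_zero] at hab
      exact (_root_.map_eq_zero _).mp hab
    exact Prod.ext (Subtype.ext ha0) (Subtype.ext hb0)
  unfold ell
  rw [← hrange, LinearMap.finrank_range_of_inj hinj, Module.finrank_prod]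

theorem genus_ratFunc : genus k (RatFunc k) = 0 :=
  ((genus_zero_iff (isFunctionField_ratFunc (k := k))).mpr ⟨RatFunc.X, RatFunc.adjoin_X⟩).1

include heq in
/-- **S11028**: the genus of an Artin–Schreier function field in characteristic two. -/
theorem as_genus (hK : IsFunctionField k K) (h2 : ringChar k = 2)
    (hdeg : Module.finrank (RatFunc k) K = 2)
    (hy : y ∉ Set.range (algebraMap (RatFunc k) K))
    (hodd : ∀ P : Place k (RatFunc k), P.ord f < 0 → Odd (P.ord f)) :
    (genus k K : ℤ) = -1 + (asDiv f).deg := by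
  haveI := finiteDimensional_of_finrank_two hdeg
  have hR := isFunctionField_ratFunc (k := k)
  obtain ⟨N, hN⟩ := riemann hK
  set m : ℕ := N.toNat + ((asDiv f).deg).toNat with hm
  set D : Divisor k (RatFunc k) := (m : ℤ) • polesDiv k (RatFunc.X : RatFunc k) with hD
  have hdegD : D.deg = m := by
    rw [hD, deg_zsmul, deg_polesDiv hR RatFunc.transcendental_X, RatFunc.adjoin_X,
      IntermediateField.finrank_top]
    push_cast
    ring
  have hcon : (conorm K D).deg = 2 * m := by
    rw [deg_conorm hR, hdeg, hdegD]
    push_cast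
    ring
  have hN1 := Int.self_le_toNat N
  have hN2 := Int.self_le_toNat (asDiv f).deg
  have h1 := hN (conorm K D) (by rw [hcon, hm]; push_cast; omega)
  have h3 := ell_of_deg_ge hR (D := D) (by rw [genus_ratFunc, hdegD]; push_cast; omega)
  have h4 := ell_of_deg_ge hR (D := D - asDiv f) (by
    rw [genus_ratFunc, deg_sub, hdegD, hm]; push_cast; omega)
  rw [genus_ratFunc, hdegD] at h3
  rw [genus_ratFunc, deg_sub, hdegD] at h4
  rw [hcon, as_ell heq h2 hdeg hy hodd D] at h1
  push_cast at h1 h3 h4
  omega

end ASGenus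

end FF

end Groth.Agent.Lib.helper10
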