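import Groth.Agent.Lib.Helper10.FunFld44

/-!
Function fields of one variable (helper10), part 45: Riemann's inequality for two subfields of
index two, and the uniqueness of the rational subfield of index two in genus at least two.
-/

set_option autoImplicit false
set_option linter.unusedSectionVars false
set_option linter.style.haveILetI false

universe u v w

open IntermediateField FunFld Polynomial

namespace Groth.Agent.Lib.helper10

namespace FF

open RD PA

section IndexTwo

variable {k : Type u} {K : Type v} [Field k] [Field K] [Algebra k K]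

/-- Powers `x^i`, `i ≤ a`, lie in `L(a (x)_∞)`, pointwise. -/
theorem Place.val_pow_le_exp_smul_polesDiv (hK : IsFunctionField k K) (x : K) {i a : ℕ}
    (hi : i ≤ a) (P : Place k K) :
    P.1 (x ^ i) ≤ WithZero.exp (((a : ℤ) • polesDiv k x) P) := by
  rw [Finsupp.smul_apply, smul_eq_mul, polesDiv_apply hK, Valuation.map_pow]
  by_cases h : P.1 x ≤ 1
  · apply le_trans (pow_le_one' h i)
    rw [← WithZero.exp_zero, WithZero.exp_le_exp]
    exact mul_nonneg (Int.natCast_nonneg _) (le_max_right _ _)
  · rw [not_le] at h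
    have hx0 : x ≠ 0 := by
      rintro rfl
      rw [Valuation.map_zero] at h
      exact absurd h (not_lt.mpr zero_le)
    have hord : P.ord x < 0 := (Place.ord_neg_iff P hx0).mpr h
    rw [Place.val_eq_exp_neg_ord P hx0, ← WithZero.exp_nsmul, WithZero.exp_le_exp,
      max_eq_left (by omega), nsmul_eq_mul]
    have : (i : ℤ) ≤ a := by exact_mod_cast hi
    nlinarith

/-- An element lies in `L` of its pole divisor, pointwise. -/
theorem Place.val_le_exp_polesDiv (hK : IsFunctionField k K) (x : K) (P : Place k K) :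
    P.1 x ≤ WithZero.exp (polesDiv k x P) := by
  have := Place.val_pow_le_exp_smul_polesDiv hK x (le_refl 1) P
  rwa [pow_one, Nat.cast_one, one_smul] at this

/-- A generator of a subfield of finite index is transcendental. -/
theorem transcendental_of_finrank_adjoin (hK : IsFunctionField k K) {x : K} {n : ℕ}
    (hn : 0 < n) (hx : Module.finrank k⟮x⟯ K = n) : Transcendental k x := by
  intro halg
  obtain ⟨⟨t, ht, -⟩, hconst⟩ := hK
  haveI : FiniteDimensional k⟮x⟯ K := Module.finite_of_finrank_pos (by rw [hx]; exact hn)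
  haveI : Algebra.IsAlgebraic k k⟮x⟯ := IntermediateField.isAlgebraic_adjoin_simple halg.isIntegral
  haveI : Algebra.IsAlgebraic k⟮x⟯ K := Algebra.IsAlgebraic.of_finite _ _
  have : Algebra.IsAlgebraic k K := Algebra.IsAlgebraic.trans k k⟮x⟯ K
  exact ht (Algebra.IsAlgebraic.isAlgebraic t)

end IndexTwo

section Riemann

variable {k : Type u} {K : Type v} [Field k] [Field K] [Algebra k K]

/-- Polynomials in `x` of degree `≤ a` lie in `L(a (x)_∞)`. -/
theorem aeval_mem_L_smul_polesDiv (hK : IsFunctionField k K) (x : K) {a : ℕ} {p : k[X]}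
    (hp : p.natDegree ≤ a) : aeval x p ∈ L ((a : ℤ) • polesDiv k x) := by
  rw [aeval_eq_sum_range]
  apply Submodule.sum_mem
  intro i hi
  apply Submodule.smul_mem
  intro P
  exact Place.val_pow_le_exp_smul_polesDiv hK x (by
    have := Finset.mem_range.mp hi
    omega) P

theorem aeval_mem_adjoin_simple (x : K) (p : k[X]) : aeval x p ∈ k⟮x⟯ := by
  have h1 : aeval x p ∈ Algebra.adjoin k ({x} : Set K) := aeval_mem_adjoin_singleton k x
  exact IntermediateField.algebra_adjoin_le_adjoin k _ h1

/-- Riemann's inequality for two elements of degree two: if `x' ∉ k(x)` then the genus is at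
most one. -/
theorem genus_le_one_of_two_index_two (hK : IsFunctionField k K) {x x' : K}
    (hx : Module.finrank k⟮x⟯ K = 2) (hx' : Module.finrank k⟮x'⟯ K = 2) (hne : x' ∉ k⟮x⟯) :
    genus k K ≤ 1 := by
  have hxtr := transcendental_of_finrank_adjoin hK (by norm_num) hx
  have hx'tr := transcendental_of_finrank_adjoin hK (by norm_num) hx'
  obtain ⟨N, hN⟩ := riemann hK
  obtain ⟨a, ha⟩ : ∃ a : ℕ, a = N.toNat := ⟨_, rfl⟩
  obtain ⟨D, hD⟩ : ∃ D : Divisor k K, D = (a : ℤ) • polesDiv k x + polesDiv k x' := ⟨_, rfl⟩
  have hdegD : D.deg = 2 * a + 2 := by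
    rw [hD, deg_add, deg_zsmul, deg_polesDiv hK hxtr, deg_polesDiv hK hx'tr, hx, hx']
    push_cast
    ring
  haveI := finiteDimensional_L hK D
  let Φ : (degreeLT k (a + 1)) × (degreeLT k (a + 1)) →ₗ[k] K :=
    ((aeval x).toLinearMap ∘ₗ (degreeLT k (a + 1)).subtype).coprod
      ((LinearMap.mulRight k x') ∘ₗ (aeval x).toLinearMap ∘ₗ (degreeLT k (a + 1)).subtype)
  have hΦ : ∀ pq, Φ pq = aeval x (pq.1 : k[X]) + aeval x (pq.2 : k[X]) * x' := fun pq => rfl
  have hrange : LinearMap.range Φ ≤ L D := by
    rintro _ ⟨⟨p, q⟩, rfl⟩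
    rw [hΦ]
    have hp := aeval_mem_L_smul_polesDiv hK x (natDegree_le_of_mem_degreeLT p.2)
    have hq := aeval_mem_L_smul_polesDiv hK x (natDegree_le_of_mem_degreeLT q.2)
    apply add_mem
    · intro P
      apply le_trans (hp P)
      rw [hD, WithZero.exp_le_exp, Finsupp.coe_add, Pi.add_apply]
      have := polesDiv_nonneg (k := k) x' P
      simp only [Finsupp.coe_zero, Pi.zero_apply] at this
      omega
    · intro P
      rw [Valuation.map_mul, hD, Finsupp.coe_add, Pi.add_apply, WithZero.exp_add]
      exact mul_le_mul' (hq P) (Place.val_le_exp_polesDiv hK x' P)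
  have hinj : Function.Injective Φ := by
    rw [← LinearMap.ker_eq_bot, LinearMap.ker_eq_bot']
    rintro ⟨p, q⟩ hpq
    rw [hΦ] at hpq
    simp only at hpq
    have hq0 : (q : k[X]) = 0 := by
      by_contra hq
      have hq' : aeval x (q : k[X]) ≠ 0 := fun h => hq ((transcendental_iff.mp hxtr) _ h)
      apply hne
      have e1 : x' = -(aeval x (p : k[X])) / aeval x (q : k[X]) := by
        rw [eq_div_iff hq']
        linear_combination hpq
      rw [e1]
      exact div_mem (neg_mem (aeval_mem_adjoin_simple x _)) (aeval_mem_adjoin_simple x _)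
    have hp0 : (p : k[X]) = 0 := by
      rw [hq0, map_zero, zero_mul, add_zero] at hpq
      exact (transcendental_iff.mp hxtr) _ hpq
    exact Prod.ext (Subtype.ext hp0) (Subtype.ext hq0)
  have hdim : 2 * (a + 1) ≤ ell D := by
    unfold ell
    calc 2 * (a + 1) = Module.finrank k (LinearMap.range Φ) := by
          rw [LinearMap.finrank_range_of_inj hinj, Module.finrank_prod, finrank_degreeLT']
          ring
      _ ≤ Module.finrank k (L D) := Submodule.finrank_mono hrange
  have h1 := hN D (by
    rw [hdegD, ha]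
    have := Int.self_le_toNat N
    omega)
  rw [hdegD] at h1
  have : ((2 * (a + 1) : ℕ) : ℤ) ≤ ell D := by exact_mod_cast hdim
  push_cast at this
  omega

/-- **S12585 / S12586**: in genus at least two there is at most one rational subfield of index two. -/
theorem adjoin_eq_of_finrank_two (hK : IsFunctionField k K) (hg : 2 ≤ genus k K) {x x' : K}
    (hx : Module.finrank k⟮x⟯ K = 2) (hx' : Module.finrank k⟮x'⟯ K = 2) : k⟮x⟯ = k⟮x'⟯ := by
  have hmem : x' ∈ k⟮x⟯ := by
    by_contra hne
    have := genus_le_one_of_two_index_two hK hx hx' hne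
    omega
  have hle : k⟮x'⟯ ≤ k⟮x⟯ := by
    rw [IntermediateField.adjoin_simple_le_iff]
    exact hmem
  haveI : FiniteDimensional k⟮x'⟯ K := Module.finite_of_finrank_pos (by rw [hx']; norm_num)
  exact (IntermediateField.eq_of_le_of_finrank_eq' hle (by rw [hx, hx'])).symm

end Riemann

end FF

end Groth.Agent.Lib.helper10
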