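import Groth.Agent.Lib.Helper10.FunFld45
import Groth.Agent.Lib.Helper10.LocRes1

/-!
Function fields of one variable (helper10), part 46: the Artin–Schreier normal form with odd
poles (characteristic two, perfect constant field).
-/

set_option autoImplicit false
set_option linter.unusedSectionVars false
set_option linter.style.haveILetI false

universe u v w

open IntermediateField FunFld Polynomial

namespace Groth.Agent.Lib.helper10

namespace FF

open RD PA

section ResidueSurj

variable {k : Type u} {F : Type v} [Field k] [Field F] [Algebra k F]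

/-- In genus zero every residue class at `P` is the leading coefficient at `P` of a function with
a pole of order at most `m ≥ 1` at `P` and no other pole. -/
theorem exists_mem_L_single_residue (hF : IsFunctionField k F) (hg : genus k F = 0)
    (P : Place k F) {m : ℕ} (hm : 1 ≤ m) {t : F} (ht : P.1 t = WithZero.exp (-1 : ℤ))
    (r : IsLocalRing.ResidueField P.O) :
    ∃ g : F, g ∈ L (Finsupp.single P (m : ℤ) : Divisor k F) ∧
      ∃ h : g * t ^ m ∈ P.O, IsLocalRing.residue P.O ⟨g * t ^ m, h⟩ = r := by
  classical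
  obtain ⟨D, hD⟩ : ∃ D : Divisor k F, D = Finsupp.single P (m : ℤ) := ⟨_, rfl⟩
  obtain ⟨D', hD'⟩ : ∃ D' : Divisor k F, D' = Finsupp.single P ((m : ℤ) - 1) := ⟨_, rfl⟩
  have hle : L D' ≤ L D := by rw [hD, hD']; exact L_single_le P m
  have htm : P.1 (t ^ m) = WithZero.exp (-(m : ℤ)) := by
    have := Place.val_zpow_uniformizer P ht (m : ℤ)
    rwa [zpow_natCast] at this
  have hmem : ∀ g ∈ L D, g * t ^ m ∈ P.O := by
    intro g hg'
    have h1 := hg' P
    have e1 : D P = (m : ℤ) := by rw [hD, Finsupp.single_eq_same]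
    rw [e1] at h1
    rw [Place.mem_O_iff, map_mul, htm]
    calc P.1 g * WithZero.exp (-(m : ℤ)) ≤ WithZero.exp (m : ℤ) * WithZero.exp (-(m : ℤ)) :=
          mul_le_mul' h1 le_rfl
      _ = 1 := by rw [← WithZero.exp_add, add_neg_cancel, WithZero.exp_zero]
  let θ : L D →ₗ[k] IsLocalRing.ResidueField P.O :=
    { toFun := fun x => IsLocalRing.residue P.O ⟨x.1 * t ^ m, hmem x.1 x.2⟩
      map_add' := fun x y => by
        rw [← map_add]
        congr 1
        apply Subtype.ext
        simp [add_mul]
      map_smul' := fun c x => by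
        simp only [RingHom.id_apply]
        change _ = IsLocalRing.residue P.O (c • ⟨x.1 * t ^ m, hmem x.1 x.2⟩)
        congr 1
        apply Subtype.ext
        change (c • x.1) * t ^ m = algebraMap k F c * (x.1 * t ^ m)
        rw [Algebra.smul_def, mul_assoc] }
  have hθ : ∀ x : L D, θ x = IsLocalRing.residue P.O ⟨x.1 * t ^ m, hmem x.1 x.2⟩ := fun _ => rfl
  have hker : LinearMap.ker θ = (L D').comap (L D).subtype := by
    ext x
    rw [LinearMap.mem_ker, hθ, Place.residue_eq_zero_iff, Submodule.mem_comap]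
    simp only [Submodule.subtype_apply]
    rw [map_mul, htm]
    constructor
    · intro h Q
      by_cases hQ : Q = P
      · subst hQ
        have e2 : D' Q = (m : ℤ) - 1 := by rw [hD', Finsupp.single_eq_same]
        rw [e2, ← lt_exp_iff_le_exp_sub_one]
        have h1 : Q.1 x.1 = (Q.1 x.1 * WithZero.exp (-(m : ℤ))) * WithZero.exp (m : ℤ) := by
          rw [mul_assoc, ← WithZero.exp_add, neg_add_cancel, WithZero.exp_zero, mul_one]
        rw [h1]
        calc Q.1 x.1 * WithZero.exp (-(m : ℤ)) * WithZero.exp (m : ℤ)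
            < 1 * WithZero.exp (m : ℤ) := mul_lt_mul_of_pos_right h WithZero.exp_pos
          _ = WithZero.exp (m : ℤ) := one_mul _
      · have := x.2 Q
        have e1 : D Q = 0 := by rw [hD, Finsupp.single_eq_of_ne hQ]
        have e2 : D' Q = 0 := by rw [hD', Finsupp.single_eq_of_ne hQ]
        rw [e1] at this
        rw [e2]
        exact this
    · intro h
      have h1 := h P
      have e2 : D' P = (m : ℤ) - 1 := by rw [hD', Finsupp.single_eq_same]
      rw [e2, ← lt_exp_iff_le_exp_sub_one] at h1
      calc P.1 x.1 * WithZero.exp (-(m : ℤ)) < WithZero.exp (m : ℤ) * WithZero.exp (-(m : ℤ)) :=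
            mul_lt_mul_of_pos_right h1 WithZero.exp_pos
        _ = 1 := by rw [← WithZero.exp_add, add_neg_cancel, WithZero.exp_zero]
  haveI := finiteDimensional_L hF D
  haveI := finiteDimensional_L hF D'
  haveI := Place.finiteDimensional_residueField hF P
  have hdim := LinearMap.finrank_range_add_finrank_ker θ
  have hkerdim : Module.finrank k (LinearMap.ker θ) = ell D' := by
    rw [hker]
    exact (Submodule.comapSubtypeEquivOfLe hle).finrank_eq
  have hdegP := Place.deg_pos hF P
  have hellD : (ell D : ℤ) = m * P.deg + 1 := by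
    have := ell_of_deg_ge hF (D := D) (by
      rw [hg, hD, deg_single]
      have : (0 : ℤ) ≤ (m : ℤ) * P.deg := by positivity
      push_cast
      omega)
    rw [this, hg, hD, deg_single]
    push_cast
    ring
  have hellD' : (ell D' : ℤ) = ((m : ℤ) - 1) * P.deg + 1 := by
    have := ell_of_deg_ge hF (D := D') (by
      rw [hg, hD', deg_single]
      have h1 : (0 : ℤ) ≤ ((m : ℤ) - 1) := by omega
      have : (0 : ℤ) ≤ ((m : ℤ) - 1) * P.deg := by positivity
      push_cast
      omega)
    rw [this, hg, hD', deg_single]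
    push_cast
    ring
  have hrange : Module.finrank k (LinearMap.range θ) = P.deg := by
    have h1 : (Module.finrank k (LinearMap.range θ) : ℤ) + ell D' = ell D := by
      rw [← hkerdim]
      unfold ell
      exact_mod_cast hdim
    have : (Module.finrank k (LinearMap.range θ) : ℤ) = P.deg := by
      rw [hellD, hellD'] at h1
      linarith
    exact_mod_cast this
  have htop : LinearMap.range θ = ⊤ := Submodule.eq_top_of_finrank_eq (by rw [hrange]; rfl)
  have hr : r ∈ LinearMap.range θ := by rw [htop]; trivial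
  obtain ⟨x, hx⟩ := hr
  exact ⟨x.1, by rw [← hD]; exact x.2, hmem x.1 x.2, hx⟩

end ResidueSurj

section ASReduce

variable {k : Type u} [Field k] [PerfectField k]

/-- One step of pole reduction: an even pole of `f` can be lowered by an Artin–Schreier change
`f ↦ f + g² + g` with `g` regular away from the pole. -/
theorem as_reduce_step (h2 : ringChar k = 2) (f : RatFunc k) (P : Place k (RatFunc k)) {m : ℕ}
    (hm : 1 ≤ m) (hord : P.ord f = -(2 * m : ℤ)) :
    ∃ g : RatFunc k, (∀ Q : Place k (RatFunc k), Q ≠ P → Q.1 g ≤ 1) ∧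
      P.1 g ≤ WithZero.exp (m : ℤ) ∧ P.1 (f + g ^ 2 + g) < WithZero.exp (2 * m : ℤ) := by
  classical
  have hR := isFunctionField_ratFunc (k := k)
  have hg0 := genus_ratFunc (k := k)
  have hf0 : f ≠ 0 := by
    rintro rfl
    rw [Place.ord_zero] at hord
    omega
  obtain ⟨t, ht⟩ := Place.exists_uniformizer P
  have ht2m : P.1 (t ^ (2 * m)) = WithZero.exp (-(2 * m : ℤ)) := by
    have := Place.val_zpow_uniformizer P ht ((2 * m : ℕ) : ℤ)
    rw [zpow_natCast] at this
    rw [this]
    push_cast
    rfl
  have hvf : P.1 f = WithZero.exp (2 * m : ℤ) := by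
    rw [Place.val_eq_exp_neg_ord P hf0, hord, neg_neg]
  have hu1 : P.1 (f * t ^ (2 * m)) = 1 := by
    rw [map_mul, hvf, ht2m, ← WithZero.exp_add, add_neg_cancel, WithZero.exp_zero]
  have hu : f * t ^ (2 * m) ∈ P.O := hu1.le
  letI iP : Algebra k (IsLocalRing.ResidueField P.O) := Place.algRes P
  haveI hfin : @Module.Finite k (IsLocalRing.ResidueField P.O) _ _ iP.toModule :=
    Place.finiteDimensional_residueField hR P
  haveI halg : @Algebra.IsAlgebraic k (IsLocalRing.ResidueField P.O) _ _ iP :=
    @Algebra.IsAlgebraic.of_finite k (IsLocalRing.ResidueField P.O) _ _ _ iP hfin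
  haveI : PerfectField (IsLocalRing.ResidueField P.O) :=
    @Algebra.IsAlgebraic.perfectField k (IsLocalRing.ResidueField P.O) _ _ iP halg _
  haveI : CharP k 2 := ringChar.of_eq h2
  haveI : CharP (IsLocalRing.ResidueField P.O) 2 :=
    @charP_of_injective_algebraMap k (IsLocalRing.ResidueField P.O) _ _ iP
      (@algebraMap k (IsLocalRing.ResidueField P.O) _ _ iP).injective 2 _
  haveI : Fact (Nat.Prime 2) := ⟨Nat.prime_two⟩
  haveI : PerfectRing (IsLocalRing.ResidueField P.O) 2 := PerfectField.toPerfectRing 2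
  obtain ⟨vbar, hvbar⟩ := surjective_frobenius (IsLocalRing.ResidueField P.O) 2
    (IsLocalRing.residue P.O ⟨f * t ^ (2 * m), hu⟩)
  rw [frobenius_def] at hvbar
  obtain ⟨g, hgL, hmem, hres⟩ := exists_mem_L_single_residue hR hg0 P hm ht vbar
  refine ⟨g, ?_, ?_, ?_⟩
  · intro Q hQ
    have := hgL Q
    rwa [Finsupp.single_eq_of_ne hQ, WithZero.exp_zero] at this
  · have := hgL P
    rwa [Finsupp.single_eq_same] at this
  · have hgm := hgL P
    rw [Finsupp.single_eq_same] at hgm
    have hw : (f + g ^ 2) * t ^ (2 * m) ∈ P.O := by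
      have e1 : (f + g ^ 2) * t ^ (2 * m) = f * t ^ (2 * m) + (g * t ^ m) ^ 2 := by ring
      rw [e1]
      exact add_mem hu (pow_mem hmem 2)
    have hwres : IsLocalRing.residue P.O ⟨(f + g ^ 2) * t ^ (2 * m), hw⟩ = 0 := by
      have e2 : (⟨(f + g ^ 2) * t ^ (2 * m), hw⟩ : P.O) =
          ⟨f * t ^ (2 * m), hu⟩ + ⟨g * t ^ m, hmem⟩ ^ 2 := by
        apply Subtype.ext
        simp only [AddMemClass.coe_add, SubmonoidClass.coe_pow]
        ring
      rw [e2, map_add, map_pow, hres, ← hvbar]
      exact CharTwo.add_self_eq_zero _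
    rw [Place.residue_eq_zero_iff] at hwres
    simp only at hwres
    rw [map_mul, ht2m] at hwres
    have h1 : P.1 (f + g ^ 2) < WithZero.exp (2 * m : ℤ) := by
      have e3 : P.1 (f + g ^ 2) = (P.1 (f + g ^ 2) * WithZero.exp (-(2 * m : ℤ))) *
          WithZero.exp (2 * m : ℤ) := by
        rw [mul_assoc, ← WithZero.exp_add, neg_add_cancel, WithZero.exp_zero, mul_one]
      rw [e3]
      calc P.1 (f + g ^ 2) * WithZero.exp (-(2 * m : ℤ)) * WithZero.exp (2 * m : ℤ)
          < 1 * WithZero.exp (2 * m : ℤ) := mul_lt_mul_of_pos_right hwres WithZero.exp_pos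
        _ = WithZero.exp (2 * m : ℤ) := one_mul _
    have h2' : P.1 g < WithZero.exp (2 * m : ℤ) := by
      apply lt_of_le_of_lt hgm
      rw [WithZero.exp_lt_exp]
      omega
    exact lt_of_le_of_lt (Valuation.map_add _ _ _) (max_lt h1 h2')

end ASReduce

section ASMeasure

variable {k : Type u} [Field k]

theorem polesDiv_le_of_val_le {F : Type v} [Field F] [Algebra k F] (hF : IsFunctionField k F)
    (x : F) (Q : Place k F) {n : ℤ} (hn : 0 ≤ n) (h : Q.1 x ≤ WithZero.exp n) :
    polesDiv k x Q ≤ n := by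
  rw [polesDiv_apply hF]
  by_cases hx : x = 0
  · rw [hx, Place.ord_zero]
    simp [hn]
  · rw [Place.val_eq_exp_neg_ord Q hx, WithZero.exp_le_exp] at h
    exact max_le h hn

/-- The reduction step lowers the degree of the pole divisor. -/
theorem as_reduce_measure [PerfectField k] (h2 : ringChar k = 2) (f : RatFunc k)
    (P : Place k (RatFunc k)) {m : ℕ} (hm : 1 ≤ m) (hord : P.ord f = -(2 * m : ℤ)) :
    ∃ g : RatFunc k, (polesDiv k (f + g ^ 2 + g)).deg < (polesDiv k f).deg := by
  classical
  have hR := isFunctionField_ratFunc (k := k)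
  obtain ⟨g, hgQ, hgP, hlt⟩ := as_reduce_step h2 f P hm hord
  refine ⟨g, ?_⟩
  have hle : polesDiv k (f + g ^ 2 + g) + Finsupp.single P 1 ≤ polesDiv k f := by
    intro Q
    rw [Finsupp.coe_add, Pi.add_apply]
    by_cases hQ : Q = P
    · subst hQ
      rw [Finsupp.single_eq_same]
      have hfP : polesDiv k f Q = 2 * m := by
        rw [polesDiv_apply hR, hord]
        simp
      rw [hfP]
      rw [lt_exp_iff_le_exp_sub_one] at hlt
      have := polesDiv_le_of_val_le hR _ Q (by omega) hlt
      omega
    · rw [Finsupp.single_eq_of_ne hQ, add_zero]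
      have hnn : (0 : ℤ) ≤ polesDiv k f Q := by
        have := polesDiv_nonneg (k := k) f Q
        simpa using this
      apply polesDiv_le_of_val_le hR _ Q hnn
      have h1 : Q.1 g ≤ 1 := hgQ Q hQ
      have hone : (1 : WithZero (Multiplicative ℤ)) ≤ WithZero.exp (polesDiv k f Q) := by
        rw [← WithZero.exp_zero, WithZero.exp_le_exp]
        exact hnn
      apply le_trans (Valuation.map_add _ _ _)
      apply max_le
      · apply le_trans (Valuation.map_add _ _ _)
        apply max_le (Place.val_le_exp_polesDiv hR f Q)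
        rw [Valuation.map_pow]
        exact le_trans (pow_le_one' h1 2) hone
      · exact le_trans h1 hone
  have h3 := deg_mono hle
  rw [deg_add, deg_single] at h3
  have h4 := Place.deg_pos hR P
  have : (1 : ℤ) ≤ P.deg := by exact_mod_cast h4
  linarith

end ASMeasure

section ASNormal

variable {k : Type u} {K : Type v} [Field k] [Field K] [Algebra k K] [Algebra (RatFunc k) K]
  [IsScalarTower k (RatFunc k) K]

theorem as_normal_form_aux [PerfectField k] (h2 : ringChar k = 2) :
    ∀ (n : ℕ) (y : K) (f : RatFunc k), y ∉ Set.range (algebraMap (RatFunc k) K) →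
      y ^ 2 + y = algebraMap (RatFunc k) K f → (polesDiv k f).deg ≤ n →
      ∃ (y' : K) (f' : RatFunc k), y' ∉ Set.range (algebraMap (RatFunc k) K) ∧
        y' ^ 2 + y' = algebraMap (RatFunc k) K f' ∧
        ∀ P : Place k (RatFunc k), P.ord f' < 0 → Odd (P.ord f') := by
  have h2K : (2 : K) = 0 := two_eq_zero_of_ringChar' (k := k) h2
  have hstep : ∀ (y : K) (f : RatFunc k), y ∉ Set.range (algebraMap (RatFunc k) K) →
      y ^ 2 + y = algebraMap (RatFunc k) K f →
      (¬ ∀ P : Place k (RatFunc k), P.ord f < 0 → Odd (P.ord f)) →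
      ∃ (y' : K) (f' : RatFunc k), y' ∉ Set.range (algebraMap (RatFunc k) K) ∧
        y' ^ 2 + y' = algebraMap (RatFunc k) K f' ∧
        (polesDiv k f').deg < (polesDiv k f).deg := by
    intro y f hy heq hnot
    push Not at hnot
    obtain ⟨P, hneg, hnodd⟩ := hnot
    rw [Int.not_odd_iff_even] at hnodd
    obtain ⟨j, hj⟩ := hnodd
    obtain ⟨m, hm⟩ : ∃ m : ℕ, j = -(m : ℤ) := ⟨j.natAbs, by omega⟩
    have hm1 : 1 ≤ m := by omega
    obtain ⟨g, hg⟩ := as_reduce_measure h2 f P hm1 (by rw [hj, hm]; ring)
    refine ⟨y + algebraMap (RatFunc k) K g, f + g ^ 2 + g, ?_, ?_, hg⟩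
    · rintro ⟨c, hc⟩
      apply hy
      exact ⟨c - g, by rw [map_sub, hc]; ring⟩
    · rw [map_add, map_add, map_pow]
      linear_combination heq + (y * algebraMap (RatFunc k) K g) * h2K
  intro n
  induction n with
  | zero =>
    intro y f hy heq hle
    by_cases hall : ∀ P : Place k (RatFunc k), P.ord f < 0 → Odd (P.ord f)
    · exact ⟨y, f, hy, heq, hall⟩
    · exfalso
      obtain ⟨y', f', -, -, hlt⟩ := hstep y f hy heq hall
      have := deg_nonneg (polesDiv_nonneg (k := k) f')
      simp only [Nat.cast_zero] at hle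
      omega
  | succ n ih =>
    intro y f hy heq hle
    by_cases hall : ∀ P : Place k (RatFunc k), P.ord f < 0 → Odd (P.ord f)
    · exact ⟨y, f, hy, heq, hall⟩
    · obtain ⟨y', f', hy', heq', hlt⟩ := hstep y f hy heq hall
      exact ih y' f' hy' heq' (by push_cast at hle; omega)

/-- A separable quadratic extension in characteristic two has an Artin–Schreier generator. -/
theorem exists_artin_schreier_generator (h2 : ringChar k = 2)
    (hdeg : Module.finrank (RatFunc k) K = 2) [Algebra.IsSeparable (RatFunc k) K] :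
    ∃ (y : K) (f : RatFunc k), y ∉ Set.range (algebraMap (RatFunc k) K) ∧
      y ^ 2 + y = algebraMap (RatFunc k) K f := by
  have h2K : (2 : K) = 0 := two_eq_zero_of_ringChar' (k := k) h2
  have h2R : (2 : RatFunc k) = 0 := two_eq_zero_of_ringChar' (k := k) h2
  obtain ⟨w, hw⟩ : ∃ w : K, w ∉ Set.range (algebraMap (RatFunc k) K) := by
    by_contra hall
    push Not at hall
    have := finrank_le_one (1 : K) (fun z => by
      obtain ⟨c, hc⟩ := hall z
      exact ⟨c, by rw [Algebra.smul_def, mul_one, hc]⟩)
    omega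
  have hspan := span_of_not_mem_range hdeg hw
  obtain ⟨α, β, hαβ⟩ := hspan (w ^ 2)
  have hβ : β ≠ 0 := by
    rintro rfl
    rw [map_zero, zero_mul, add_zero] at hαβ
    haveI : FiniteDimensional (RatFunc k) K := finiteDimensional_of_finrank_two hdeg
    have hint : IsIntegral (RatFunc k) w := Algebra.IsIntegral.isIntegral w
    have hsep : (minpoly (RatFunc k) w).Separable := Algebra.IsSeparable.isSeparable (RatFunc k) w
    have hdvd : minpoly (RatFunc k) w ∣ X ^ 2 - C α := by
      apply minpoly.dvd
      rw [map_sub, map_pow, aeval_X, aeval_C, hαβ, sub_self]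
    have hmon : (X ^ 2 - C α : (RatFunc k)[X]).Monic := monic_X_pow_sub_C _ (by norm_num)
    have h5 := (minpoly.two_le_natDegree_iff hint).mpr hw
    have heqp : minpoly (RatFunc k) w = X ^ 2 - C α := by
      symm
      apply Polynomial.eq_of_monic_of_dvd_of_natDegree_le (minpoly.monic hint) hmon hdvd
      rw [natDegree_X_pow_sub_C]
      exact h5
    rw [heqp, separable_def] at hsep
    have hder : derivative (X ^ 2 - C α : (RatFunc k)[X]) = 0 := by
      rw [derivative_sub, derivative_X_pow, derivative_C, sub_zero]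
      have : (C ((2 : ℕ) : RatFunc k) : (RatFunc k)[X]) = 0 := by
        rw [Nat.cast_ofNat, h2R, C_0]
      rw [this, zero_mul]
    rw [hder, isCoprime_zero_right] at hsep
    have := natDegree_eq_zero_of_isUnit hsep
    rw [natDegree_X_pow_sub_C] at this
    omega
  have hιβ : algebraMap (RatFunc k) K β ≠ 0 := (_root_.map_ne_zero _).mpr hβ
  refine ⟨w / algebraMap (RatFunc k) K β, α / β ^ 2, ?_, ?_⟩
  · rintro ⟨c, hc⟩
    apply hw
    refine ⟨c * β, ?_⟩
    rw [map_mul, hc, div_mul_cancel₀ _ hιβ]
  · rw [map_div₀, map_pow, div_pow, hαβ]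
    field_simp
    linear_combination (algebraMap (RatFunc k) K β * w) * h2K

/-- **S12518**: the Artin–Schreier normal form with all poles of odd order. -/
theorem as_normal_form [PerfectField k] (h2 : ringChar k = 2)
    (hdeg : Module.finrank (RatFunc k) K = 2) [Algebra.IsSeparable (RatFunc k) K] :
    ∃ (y : K) (f : RatFunc k), y ^ 2 + y = algebraMap (RatFunc k) K f ∧
      IntermediateField.adjoin (RatFunc k) ({y} : Set K) = ⊤ ∧
      ∀ P : FunFld.Place k (RatFunc k), P.ord f < 0 → Odd (P.ord f) := by
  obtain ⟨y₀, f₀, hy₀, heq₀⟩ := exists_artin_schreier_generator h2 hdeg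
  obtain ⟨y, f, hy, heq, hodd⟩ := as_normal_form_aux h2 (polesDiv k f₀).deg.toNat y₀ f₀ hy₀ heq₀
    (Int.self_le_toNat _)
  refine ⟨y, f, heq, ?_, hodd⟩
  rw [eq_top_iff]
  intro z _
  obtain ⟨α, β, rfl⟩ := span_of_not_mem_range hdeg hy z
  exact add_mem (IntermediateField.algebraMap_mem _ _)
    (mul_mem (IntermediateField.algebraMap_mem _ _) (IntermediateField.mem_adjoin_simple_self _ _))

end ASNormal

end FF

end Groth.Agent.Lib.helper10
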