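import Groth.Agent.Lib.Helper10.FunFld9
import Groth.Agent.Lib.Helper26.FunFldSep

/-!
Function fields of one variable (helper10), part 47: at a place with separable residue field,
every nonzero element of `k K^p` has order divisible by `p`; a local parameter at such a place
is a separating variable (`dt ≠ 0`).
-/

set_option autoImplicit false
set_option linter.unusedSectionVars false

universe u v w

open IntermediateField Polynomial FunFld

namespace Groth.Agent.Lib.helper10

namespace FF

variable {k : Type u} {K : Type v} [Field k] [Field K] [Algebra k K]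

/-- the `k`-span of the `p`-th powers of `K` -/
def spanPow (k : Type u) (K : Type v) [Field k] [Field K] [Algebra k K] (p : ℕ) : Submodule k K :=
  Submodule.span k (Set.range fun y : K => y ^ p)

theorem pow_mem_spanPow (p : ℕ) (y : K) : y ^ p ∈ spanPow k K p :=
  Submodule.subset_span ⟨y, rfl⟩

theorem one_mem_spanPow (p : ℕ) : (1 : K) ∈ spanPow k K p := by
  have := pow_mem_spanPow (k := k) p (1 : K)
  rwa [one_pow] at this

theorem mul_mem_spanPow (p : ℕ) {x y : K} (hx : x ∈ spanPow k K p) (hy : y ∈ spanPow k K p) :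
    x * y ∈ spanPow k K p := by
  unfold spanPow at hx hy
  induction hx using Submodule.span_induction with
  | mem x hx =>
    obtain ⟨u, rfl⟩ := hx
    induction hy using Submodule.span_induction with
    | mem y hy =>
      obtain ⟨w, rfl⟩ := hy
      simp only
      rw [← mul_pow]
      exact pow_mem_spanPow p _
    | zero => rw [mul_zero]; exact zero_mem _
    | add a b _ _ ha hb => rw [mul_add]; exact add_mem ha hb
    | smul c a _ ha => rw [mul_smul_comm]; exact Submodule.smul_mem _ c ha
  | zero => rw [zero_mul]; exact zero_mem _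
  | add a b _ _ ha hb => rw [add_mul]; exact add_mem ha hb
  | smul c a _ ha => rw [smul_mul_assoc]; exact Submodule.smul_mem _ c ha

theorem npow_mem_spanPow (p : ℕ) {x : K} (hx : x ∈ spanPow k K p) (n : ℕ) :
    x ^ n ∈ spanPow k K p := by
  induction n with
  | zero => rw [pow_zero]; exact one_mem_spanPow p
  | succ n ih => rw [pow_succ]; exact mul_mem_spanPow p ih hx

theorem inv_mem_spanPow (p : ℕ) (hp : 1 ≤ p) {x : K} (hx : x ∈ spanPow k K p) :
    x⁻¹ ∈ spanPow k K p := by
  by_cases h0 : x = 0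
  · rw [h0, inv_zero]; exact zero_mem _
  have h1 : x ^ p = x ^ (p - 1) * x := by rw [← pow_succ, Nat.sub_add_cancel hp]
  have e : x⁻¹ = x ^ (p - 1) * (x⁻¹) ^ p := by
    rw [inv_pow, h1]
    field_simp
  rw [e]
  exact mul_mem_spanPow p (npow_mem_spanPow p hx _) (pow_mem_spanPow p _)

theorem mem_spanPow_of_mem_kKp (p : ℕ) (hp : 1 ≤ p) {z : K}
    (hz : z ∈ Groth.Agent.Lib.helper26.FunFldSep.kKp k K p) : z ∈ spanPow k K p := by
  induction hz using IntermediateField.adjoin_induction with
  | mem z hz => exact Submodule.subset_span hz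
  | algebraMap c =>
    rw [Algebra.algebraMap_eq_smul_one]
    exact Submodule.smul_mem _ c (one_mem_spanPow p)
  | add x y _ _ hx hy => exact add_mem hx hy
  | inv x _ hx => exact inv_mem_spanPow p hp hx
  | mul x y _ _ hx hy => exact mul_mem_spanPow p hx hy

/-- `T_m`: the `k`-span of the `p`-th powers of the elements of order at least `m`. -/
def spanPowGe (P : Place k K) (p : ℕ) (m : ℤ) : Submodule k K :=
  Submodule.span k {y | ∃ u : K, P.1 u ≤ WithZero.exp (-m) ∧ y = u ^ p}

theorem spanPowGe_anti (P : Place k K) (p : ℕ) {m m' : ℤ} (h : m' ≤ m) :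
    spanPowGe P p m ≤ spanPowGe P p m' := by
  apply Submodule.span_mono
  rintro y ⟨u, hu, rfl⟩
  exact ⟨u, hu.trans (WithZero.exp_le_exp.2 (by omega)), rfl⟩

theorem exp_neg_pow (p : ℕ) (m : ℤ) :
    (WithZero.exp (-m) : WithZero (Multiplicative ℤ)) ^ p = WithZero.exp (-((p : ℤ) * m)) := by
  rw [← WithZero.exp_nsmul]
  congr 1
  rw [nsmul_eq_mul]
  ring

theorem val_le_of_mem_spanPowGe (P : Place k K) (p : ℕ) (m : ℤ) {z : K}
    (hz : z ∈ spanPowGe P p m) : P.1 z ≤ WithZero.exp (-((p : ℤ) * m)) := by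
  unfold spanPowGe at hz
  induction hz using Submodule.span_induction with
  | mem z hz =>
    obtain ⟨u, hu, rfl⟩ := hz
    rw [map_pow, ← exp_neg_pow]
    exact pow_le_pow_left' hu p
  | zero => simp
  | add a b _ _ ha hb => exact (P.1.map_add a b).trans (max_le ha hb)
  | smul c a _ ha =>
    rw [Algebra.smul_def, map_mul]
    exact (mul_le_mul' (P.2.1 c) ha).trans_eq (one_mul _)

theorem exists_mem_spanPowGe (P : Place k K) (p : ℕ) {z : K} (hz : z ∈ spanPow k K p) :
    ∃ m : ℤ, z ∈ spanPowGe P p m := by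
  unfold spanPow at hz
  induction hz using Submodule.span_induction with
  | mem z hz =>
    obtain ⟨u, rfl⟩ := hz
    refine ⟨-(((P.ord u).natAbs : ℕ) : ℤ), Submodule.subset_span ⟨u, ?_, rfl⟩⟩
    rw [neg_neg]
    exact Place.val_le_exp_natAbs P u
  | zero => exact ⟨0, zero_mem _⟩
  | add a b _ _ ha hb =>
    obtain ⟨m₁, h₁⟩ := ha
    obtain ⟨m₂, h₂⟩ := hb
    exact ⟨min m₁ m₂, add_mem (spanPowGe_anti P p (min_le_left _ _) h₁)
      (spanPowGe_anti P p (min_le_right _ _) h₂)⟩
  | smul c a _ ha =>
    obtain ⟨m, h⟩ := ha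
    exact ⟨m, Submodule.smul_mem _ c h⟩

theorem exists_lift_basis (hK : IsFunctionField k K) (P : Place k K) :
    ∃ (n : ℕ) (b : Module.Basis (Fin n) k (IsLocalRing.ResidueField P.O)) (β : Fin n → P.O),
      ∀ j, IsLocalRing.residue P.O (β j) = b j := by
  have := Place.finiteDimensional_residueField hK P
  let b := Module.finBasis k (IsLocalRing.ResidueField P.O)
  choose β hβ using fun j => IsLocalRing.residue_surjective (b j)
  exact ⟨_, b, β, hβ⟩

theorem residue_algebraMap_mul (P : Place k K) (c : k) (y : P.O) :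
    IsLocalRing.residue P.O (algebraMap k P.O c * y) = c • IsLocalRing.residue P.O y := by
  rw [map_mul, Algebra.smul_def]
  rfl

theorem exists_approx_basis (P : Place k K) {n : ℕ}
    (b : Module.Basis (Fin n) k (IsLocalRing.ResidueField P.O)) (β : Fin n → P.O)
    (hβ : ∀ j, IsLocalRing.residue P.O (β j) = b j) {w : K} (hw : P.1 w ≤ 1) :
    ∃ a : Fin n → k, P.1 (w - ∑ j, algebraMap k K (a j) * (β j : K)) < 1 := by
  let w' : P.O := ⟨w, (Valuation.mem_valuationSubring_iff _ _).2 hw⟩
  refine ⟨fun j => b.repr (IsLocalRing.residue P.O w') j, ?_⟩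
  have h0 : IsLocalRing.residue P.O
      (w' - ∑ j, algebraMap k P.O (b.repr (IsLocalRing.residue P.O w') j) * β j) = 0 := by
    rw [map_sub, map_sum, sub_eq_zero]
    conv_lhs => rw [← b.sum_repr (IsLocalRing.residue P.O w')]
    refine Finset.sum_congr rfl fun j _ => ?_
    have e := residue_algebraMap_mul P (b.repr (IsLocalRing.residue P.O w') j) (β j)
    rw [hβ] at e
    exact e.symm
  have h := (Place.residue_eq_zero_iff P _).1 h0
  have hc : ((w' - ∑ j, algebraMap k P.O (b.repr (IsLocalRing.residue P.O w') j) * β j : P.O) : K)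
      = w - ∑ j, algebraMap k K (b.repr (IsLocalRing.residue P.O w') j) * (β j : K) := by
    push_cast
    rfl
  rwa [hc] at h

theorem val_sum_pow_eq_one (p : ℕ) [hp : Fact p.Prime] [CharP k p] (P : Place k K)
    [Algebra.IsSeparable k (IsLocalRing.ResidueField P.O)] {n : ℕ}
    (b : Module.Basis (Fin n) k (IsLocalRing.ResidueField P.O)) (β : Fin n → P.O)
    (hβ : ∀ j, IsLocalRing.residue P.O (β j) = b j) (d : Fin n → k) (hd : d ≠ 0) :
    P.1 (∑ j, algebraMap k K (d j) * (β j : K) ^ p) = 1 := by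
  have : ExpChar k p := ExpChar.prime hp.out
  have hli : LinearIndependent k (fun j => b j ^ p ^ 1) :=
    b.linearIndependent.map_pow_expChar_pow_of_isSeparable p 1
  let y : P.O := ∑ j, algebraMap k P.O (d j) * β j ^ p
  have hy : ((y : P.O) : K) = ∑ j, algebraMap k K (d j) * (β j : K) ^ p := by
    simp only [y]
    push_cast
    rfl
  rw [← hy]
  have hle : P.1 (y : K) ≤ 1 := (Valuation.mem_valuationSubring_iff _ _).1 y.2
  refine le_antisymm hle (not_lt.1 fun hlt => hd ?_)
  have h0 := (Place.residue_eq_zero_iff P y).2 hlt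
  simp only [y] at h0
  rw [map_sum] at h0
  have h1 : ∑ j, d j • (b j ^ p ^ 1) = 0 := by
    rw [← h0]
    refine Finset.sum_congr rfl fun j _ => ?_
    have e := residue_algebraMap_mul P (d j) (β j ^ p)
    rw [map_pow, hβ] at e
    rw [pow_one]
    exact e.symm
  funext j
  exact Fintype.linearIndependent_iff.1 hli d h1 j

theorem spanPowGe_step (p : ℕ) [hp : Fact p.Prime] [CharP K p] (hK : IsFunctionField k K)
    (P : Place k K) [Algebra.IsSeparable k (IsLocalRing.ResidueField P.O)] {t : K}
    (ht : P.1 t = WithZero.exp (-1 : ℤ)) (m : ℤ) {z : K} (hz : z ∈ spanPowGe P p m) :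
    P.1 z = WithZero.exp (-((p : ℤ) * m)) ∨ z ∈ spanPowGe P p (m + 1) := by
  have hpk : CharP k p := (Algebra.charP_iff k K p).2 inferInstance
  obtain ⟨n, b, β, hβ⟩ := exists_lift_basis hK P
  obtain ⟨N, c, g, rfl⟩ := Submodule.mem_span_set'.1 hz
  choose u hu hgu using fun i => (g i).2
  have ht0 : t ≠ 0 := by
    rintro rfl
    rw [Valuation.map_zero] at ht
    exact WithZero.exp_ne_zero ht.symm
  have htm : P.1 (t ^ m) = WithZero.exp (-m) := Place.val_zpow_uniformizer P ht m
  have htm' : P.1 (t ^ (-m)) = WithZero.exp m := by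
    have := Place.val_zpow_uniformizer P ht (-m)
    rwa [neg_neg] at this
  have hw : ∀ i, P.1 (u i * t ^ (-m)) ≤ 1 := by
    intro i
    rw [map_mul, htm']
    calc P.1 (u i) * WithZero.exp m ≤ WithZero.exp (-m) * WithZero.exp m :=
          mul_le_mul' (hu i) le_rfl
      _ = 1 := by rw [← WithZero.exp_add, neg_add_cancel, WithZero.exp_zero]
  choose a ha using fun i => exists_approx_basis P b β hβ (hw i)
  obtain ⟨r, hr⟩ : ∃ r : Fin N → K,
      r = fun i => u i * t ^ (-m) - ∑ j, algebraMap k K (a i j) * (β j : K) := ⟨_, rfl⟩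
  have hr1 : ∀ i, P.1 (r i) ≤ WithZero.exp (-1 : ℤ) := by
    intro i
    have h := (lt_exp_iff_le_exp_sub_one (P.1 (r i)) 0).1
      (by rw [WithZero.exp_zero, hr]; exact ha i)
    simpa using h
  obtain ⟨d, hd⟩ : ∃ d : Fin n → k, d = fun j => ∑ i, c i * a i j ^ p := ⟨_, rfl⟩
  obtain ⟨z', hz'⟩ : ∃ z' : K, z' = ∑ i, c i • (t ^ m * r i) ^ p := ⟨_, rfl⟩
  have hz'mem : z' ∈ spanPowGe P p (m + 1) := by
    rw [hz']
    refine Submodule.sum_mem _ fun i _ =>
      Submodule.smul_mem _ _ (Submodule.subset_span ⟨t ^ m * r i, ?_, rfl⟩)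
    rw [map_mul, htm, neg_add, WithZero.exp_add]
    exact mul_le_mul' le_rfl (hr1 i)
  have hui : ∀ i, u i = t ^ m * (∑ j, algebraMap k K (a i j) * (β j : K) + r i) := by
    intro i
    rw [hr]
    simp only
    rw [add_sub_cancel, mul_left_comm, ← zpow_add₀ ht0, add_neg_cancel, zpow_zero, mul_one]
  have hi : ∀ i, c i • (g i : K) =
      (t ^ m) ^ p * (∑ j, algebraMap k K (c i * a i j ^ p) * (β j : K) ^ p) +
        c i • (t ^ m * r i) ^ p := by
    intro i
    have hA : (∑ j, algebraMap k K (a i j) * (β j : K)) ^ p =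
        ∑ j, algebraMap k K (a i j ^ p) * (β j : K) ^ p := by
      rw [sum_pow_char]
      refine Finset.sum_congr rfl fun j _ => ?_
      rw [mul_pow, map_pow]
    have hS : ∑ j, algebraMap k K (c i * a i j ^ p) * (β j : K) ^ p =
        algebraMap k K (c i) * ∑ j, algebraMap k K (a i j ^ p) * (β j : K) ^ p := by
      rw [Finset.mul_sum]
      refine Finset.sum_congr rfl fun j _ => ?_
      rw [map_mul, mul_assoc]
    rw [hgu i]
    conv_lhs => rw [hui i]
    rw [mul_pow, add_pow_char, hA, Algebra.smul_def, Algebra.smul_def, mul_pow (t ^ m) (r i), hS]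
    ring
  have key : ∑ i, c i • (g i : K) =
      (t ^ m) ^ p * (∑ j, algebraMap k K (d j) * (β j : K) ^ p) + z' := by
    rw [Finset.sum_congr rfl fun i _ => hi i, Finset.sum_add_distrib, ← Finset.mul_sum,
      Finset.sum_comm, hz', hd]
    congr 2
    refine Finset.sum_congr rfl fun j _ => ?_
    rw [← Finset.sum_mul, ← map_sum]
  rw [key]
  by_cases hd0 : d = 0
  · right
    have h0 : ∑ j, algebraMap k K (d j) * (β j : K) ^ p = 0 := by
      refine Finset.sum_eq_zero fun j _ => ?_
      rw [hd0, Pi.zero_apply, map_zero, zero_mul]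
    rw [h0, mul_zero, zero_add]
    exact hz'mem
  · left
    have h1 := val_sum_pow_eq_one p P b β hβ d hd0
    have hT : P.1 ((t ^ m) ^ p * ∑ j, algebraMap k K (d j) * (β j : K) ^ p) =
        WithZero.exp (-((p : ℤ) * m)) := by
      rw [map_mul, h1, mul_one, map_pow, htm, exp_neg_pow]
    have hz'val : P.1 z' < WithZero.exp (-((p : ℤ) * m)) := by
      refine lt_of_le_of_lt (val_le_of_mem_spanPowGe P p (m + 1) hz'mem) ?_
      rw [WithZero.exp_lt_exp]
      have : (0 : ℤ) < p := by exact_mod_cast hp.out.pos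
      nlinarith
    rw [Valuation.map_add_eq_of_lt_left _ (by rw [hT]; exact hz'val), hT]

/-- At a place with separable residue field, every nonzero element of the `k`-span of the
`p`-th powers has order divisible by `p`. -/
theorem val_eq_exp_mul_of_mem_spanPow (p : ℕ) [hp : Fact p.Prime] [CharP K p]
    (hK : IsFunctionField k K) (P : Place k K)
    [Algebra.IsSeparable k (IsLocalRing.ResidueField P.O)] {z : K} (hz : z ∈ spanPow k K p)
    (hz0 : z ≠ 0) : ∃ m : ℤ, P.1 z = WithZero.exp (-((p : ℤ) * m)) := by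
  obtain ⟨t, ht⟩ := Place.exists_uniformizer P
  obtain ⟨m₀, hm₀⟩ := exists_mem_spanPowGe P p hz
  have hind : ∀ j : ℕ, (∃ m : ℤ, P.1 z = WithZero.exp (-((p : ℤ) * m))) ∨
      z ∈ spanPowGe P p (m₀ + j) := by
    intro j
    induction j with
    | zero => right; simpa using hm₀
    | succ j ih =>
      rcases ih with h | h
      · exact Or.inl h
      · rcases spanPowGe_step p hK P ht _ h with h' | h'
        · exact Or.inl ⟨_, h'⟩
        · right
          have e : m₀ + ((j + 1 : ℕ) : ℤ) = m₀ + (j : ℤ) + 1 := by push_cast; ring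
          rw [e]
          exact h'
  by_contra hcon
  have hall : ∀ j : ℕ, z ∈ spanPowGe P p (m₀ + j) := fun j => (hind j).resolve_left hcon
  have hp1 : (1 : ℤ) ≤ p := by exact_mod_cast hp.out.one_le
  have hb := val_le_of_mem_spanPowGe P p _ (hall (P.ord z - p * m₀ + 1).toNat)
  rw [Place.val_eq_exp_neg_ord P hz0, WithZero.exp_le_exp] at hb
  have hJ : P.ord z - p * m₀ + 1 ≤ ((P.ord z - p * m₀ + 1).toNat : ℤ) := Int.self_le_toNat _
  have hJ0 : (0 : ℤ) ≤ ((P.ord z - p * m₀ + 1).toNat : ℤ) := Int.natCast_nonneg _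
  nlinarith [mul_nonneg (sub_nonneg.2 hp1) hJ0]

/-- A local parameter at a place with separable residue field of a geometric function field is a
separating variable: `dt ≠ 0`. -/
theorem D_uniformizer_ne_zero (hK : IsFunctionField k K) (hg : IsGeometric k K) (P : Place k K)
    [Algebra.IsSeparable k (IsLocalRing.ResidueField P.O)] {t : K}
    (ht : P.1 t = WithZero.exp (-1 : ℤ)) : KaehlerDifferential.D k K t ≠ 0 := by
  have ht0 : t ≠ 0 := by
    rintro rfl
    rw [Valuation.map_zero] at ht
    exact WithZero.exp_ne_zero ht.symm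
  have hlt : P.1 t < 1 := by
    rw [ht, ← WithZero.exp_zero, WithZero.exp_lt_exp]
    norm_num
  have htr : Transcendental k t := Place.transcendental_of_lt_one hK P ht0 hlt
  obtain hchar | ⟨p, hp, hpk⟩ := CharP.exists' k
  · have hfd : FiniteDimensional k⟮t⟯ K := finiteDimensional_adjoin hK htr
    have hcz : CharZero k⟮t⟯ := charZero_of_injective_algebraMap (algebraMap k k⟮t⟯).injective
    have hsep : Algebra.IsSeparable k⟮t⟯ K := inferInstance
    exact Groth.Agent.Lib.helper26.FunFldSep.D_ne_zero_of_separating htr hsep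
  · have hpK : CharP K p := (Algebra.charP_iff k K p).1 hpk
    intro hD
    have hmem := Groth.Agent.Lib.helper26.FunFldSep.mem_kKp_of_D_eq_zero p hK hg hD
    have hsp := mem_spanPow_of_mem_kKp p hp.out.one_le hmem
    obtain ⟨m, hm⟩ := val_eq_exp_mul_of_mem_spanPow p hK P hsp ht0
    rw [ht, WithZero.exp_inj] at hm
    have hdvd : (p : ℤ) ∣ 1 := ⟨m, by linarith⟩
    have h1 : (p : ℤ) = 1 := Int.eq_one_of_dvd_one (Int.natCast_nonneg p) hdvd
    have := hp.out.one_lt
    omega

end FF

end Groth.Agent.Lib.helper10
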