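import Groth.Agent.Lib.Helper10.FunFld48
import Groth.Agent.Lib.Helper10.FunFld47
import Groth.Agent.Lib.Helper10.FunFld42

/-!
Function fields of one variable (helper10), part 49: the semilocal ring `R = ⋂_{Q | P} O_Q` of a
finite extension `E / F` is a free `O_P`-module of rank `[E : F]` (separable or not).
-/

set_option autoImplicit false
set_option linter.unusedSectionVars false
set_option linter.style.haveILetI false

universe u v w

open IntermediateField FunFld

namespace Groth.Agent.Lib.helper10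

namespace FF

open RD PA

section LocalFree

variable {k : Type u} {F : Type v} {E : Type w} [Field k] [Field F] [Field E]
  [Algebra k F] [Algebra F E] [Algebra k E] [IsScalarTower k F E]

theorem isOverWith_ramIdx {Q : Place k E} {P : Place k F} (h : IsOver Q P) :
    IsOverWith Q P (ramIdx Q P) := by
  obtain ⟨e, he⟩ := h
  rw [ramIdx_eq he]
  exact he

/-- The semilocal ring `⋂_{Q ∈ Qs} O_Q` as a `k`-subspace. -/
abbrev semiO (Qs : Finset (Place k E)) : Submodule k E := semiBall Qs (fun _ => 0)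

/-- `𝔪_P · ⋂_{Q ∈ Qs} O_Q` as a `k`-subspace. -/
noncomputable abbrev semiM (Qs : Finset (Place k E)) (P : Place k F) : Submodule k E :=
  semiBall Qs (fun Q => 0 - (ramIdx Q P : ℤ))

theorem mem_semiO {Qs : Finset (Place k E)} {z : E} : z ∈ semiO Qs ↔ ∀ Q ∈ Qs, Q.1 z ≤ 1 := by
  simp only [mem_semiBall, WithZero.exp_zero]

theorem relDim_semiM [FiniteDimensional F E] (hF : IsFunctionField k F) (P : Place k F)
    (Qs : Finset (Place k E)) (hQs : ∀ Q, Q ∈ Qs ↔ IsOver Q P) :
    RelFin (semiM Qs P) (semiO Qs) ∧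
      relDim (semiM Qs P) (semiO Qs) = Module.finrank F E * P.deg := by
  have h := relFin_semiBall Qs (fun Q _ => Place.finiteDimensional_residueField' hF Q)
    (fun _ => 0) (fun Q => ramIdx Q P)
  exact ⟨h.1, h.2.trans (sum_ramIdx_mul_deg hF P Qs hQs)⟩

theorem algebraMap_mul_mem_semiO {Qs : Finset (Place k E)} {P : Place k F}
    (hQs : ∀ Q ∈ Qs, IsOver Q P) {b : F} (hb : P.1 b ≤ 1) {z : E} (hz : z ∈ semiO Qs) :
    algebraMap F E b * z ∈ semiO Qs := by
  rw [mem_semiO] at hz ⊢
  intro Q hQ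
  obtain ⟨e, he⟩ := hQs Q hQ
  rw [map_mul, he b]
  exact mul_le_one' (pow_le_one' hb e) (hz Q hQ)

theorem algebraMap_mul_mem_semiM {Qs : Finset (Place k E)} {P : Place k F}
    (hQs : ∀ Q ∈ Qs, IsOver Q P) {b : F} (hb : P.1 b ≤ 1) {z : E} (hz : z ∈ semiM Qs P) :
    algebraMap F E b * z ∈ semiM Qs P := by
  intro Q hQ
  obtain ⟨e, he⟩ := hQs Q hQ
  rw [map_mul, he b]
  calc P.1 b ^ e * Q.1 z ≤ 1 * Q.1 z := mul_le_mul' (pow_le_one' hb e) le_rfl
    _ = Q.1 z := one_mul _
    _ ≤ _ := hz Q hQ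

theorem algebraMap_mul_mem_semiM_of_lt {Qs : Finset (Place k E)} {P : Place k F}
    (hQs : ∀ Q ∈ Qs, IsOver Q P) {b : F} (hb : P.1 b < 1) {z : E} (hz : z ∈ semiO Qs) :
    algebraMap F E b * z ∈ semiM Qs P := by
  rw [mem_semiO] at hz
  intro Q hQ
  have he := isOverWith_ramIdx (hQs Q hQ)
  rw [map_mul, he b]
  have hb' : P.1 b ≤ WithZero.exp (-1 : ℤ) := (lt_one_iff_le_exp_neg_one _).1 hb
  have e1 : (WithZero.exp (-1 : ℤ) : WithZero (Multiplicative ℤ)) ^ ramIdx Q P =
      WithZero.exp (0 - (ramIdx Q P : ℤ)) := by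
    rw [← WithZero.exp_nsmul]
    congr 1
    rw [nsmul_eq_mul]
    ring
  calc P.1 b ^ ramIdx Q P * Q.1 z ≤ WithZero.exp (-1 : ℤ) ^ ramIdx Q P * 1 :=
        mul_le_mul' (pow_le_pow_left' hb' _) (hz Q hQ)
    _ = _ := by rw [mul_one, e1]

/-- A family in the semilocal ring that is independent modulo `𝔪_P`. -/
def LocIndep (Qs : Finset (Place k E)) (P : Place k F) {m : ℕ} (y : Fin m → E) : Prop :=
  (∀ i, y i ∈ semiO Qs) ∧ ∀ a : Fin m → F, (∀ i, P.1 (a i) ≤ 1) →
    (∑ i, algebraMap F E (a i) * y i) ∈ semiM Qs P → ∀ i, P.1 (a i) < 1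

theorem LocIndep.linearIndependent {Qs : Finset (Place k E)} {P : Place k F} {m : ℕ}
    {y : Fin m → E} (h : LocIndep Qs P y) : LinearIndependent F y := by
  rw [Fintype.linearIndependent_iff]
  intro c hc
  by_contra hne
  push Not at hne
  obtain ⟨i₁, hi₁⟩ := hne
  obtain ⟨i₀, -, hmax⟩ := Finset.exists_max_image Finset.univ (fun i => P.1 (c i))
    ⟨i₁, Finset.mem_univ _⟩
  have hc0 : c i₀ ≠ 0 := by
    intro h0
    have := hmax i₁ (Finset.mem_univ _)
    rw [h0, Valuation.map_zero] at this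
    exact hi₁ ((Valuation.zero_iff _).1 (le_zero_iff.1 this))
  have ha : ∀ i, P.1 (c i / c i₀) ≤ 1 := fun i => by
    rw [map_div₀]
    exact div_le_one_of_le₀ (hmax i (Finset.mem_univ _)) zero_le
  have hsum : ∑ i, algebraMap F E (c i / c i₀) * y i = 0 := by
    have : ∑ i, algebraMap F E (c i / c i₀) * y i =
        algebraMap F E (c i₀)⁻¹ * ∑ i, c i • y i := by
      rw [Finset.mul_sum]
      refine Finset.sum_congr rfl fun i _ => ?_
      rw [Algebra.smul_def, ← mul_assoc, ← map_mul, inv_mul_eq_div]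
    rw [this, hc, mul_zero]
  have := h.2 _ ha (by rw [hsum]; exact zero_mem _) i₀
  rw [div_self hc0, Valuation.map_one] at this
  exact lt_irrefl _ this

theorem LocIndep.cons {Qs : Finset (Place k E)} {P : Place k F}
    (hQs : ∀ Q ∈ Qs, IsOver Q P) {m : ℕ} {y : Fin m → E} (h : LocIndep Qs P y) {z : E}
    (hz : z ∈ semiO Qs)
    (hnot : ¬ ∃ a : Fin m → F, (∀ i, P.1 (a i) ≤ 1) ∧
      z - ∑ i, algebraMap F E (a i) * y i ∈ semiM Qs P) :
    LocIndep Qs P (Fin.cons z y : Fin (m + 1) → E) := by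
  refine ⟨fun i => ?_, fun a ha hsum => ?_⟩
  · refine Fin.cases ?_ (fun j => ?_) i
    · rw [Fin.cons_zero]; exact hz
    · rw [Fin.cons_succ]; exact h.1 j
  · rw [Fin.sum_univ_succ] at hsum
    simp only [Fin.cons_zero, Fin.cons_succ] at hsum
    have h0 : P.1 (a 0) < 1 := by
      by_contra hge
      have h1 : P.1 (a 0) = 1 := le_antisymm (ha 0) (not_lt.1 hge)
      have ha0 : a 0 ≠ 0 := by
        intro h0
        rw [h0, Valuation.map_zero] at h1
        exact zero_ne_one h1
      have hb : P.1 (a 0)⁻¹ ≤ 1 := by rw [map_inv₀, h1, inv_one]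
      apply hnot
      refine ⟨fun i => -((a 0)⁻¹ * a i.succ), fun i => ?_, ?_⟩
      · rw [Valuation.map_neg, map_mul]
        exact mul_le_one' hb (ha _)
      · have e : z - ∑ i, algebraMap F E (-((a 0)⁻¹ * a (Fin.succ i))) * y i =
            algebraMap F E (a 0)⁻¹ *
              (algebraMap F E (a 0) * z + ∑ i : Fin m, algebraMap F E (a i.succ) * y i) := by
          rw [mul_add, ← mul_assoc, ← map_mul, inv_mul_cancel₀ ha0, map_one, one_mul,
            Finset.mul_sum, sub_eq_add_neg, ← Finset.sum_neg_distrib]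
          congr 1
          refine Finset.sum_congr rfl fun i _ => ?_
          rw [map_neg, map_mul, neg_mul, neg_neg, mul_assoc]
        rw [e]
        exact algebraMap_mul_mem_semiM hQs hb hsum
    have h1 : algebraMap F E (a 0) * z ∈ semiM Qs P := algebraMap_mul_mem_semiM_of_lt hQs h0 hz
    have h2 : ∑ i : Fin m, algebraMap F E (a i.succ) * y i ∈ semiM Qs P := by
      have := Submodule.sub_mem _ hsum h1
      rwa [add_sub_cancel_left] at this
    have h3 := h.2 (fun i => a i.succ) (fun i => ha _) h2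
    intro i
    refine Fin.cases h0 (fun j => h3 j) i

theorem relDim_le_of_span (hF : IsFunctionField k F) (P : Place k F) (Qs : Finset (Place k E))
    (hQs : ∀ Q ∈ Qs, IsOver Q P) {m : ℕ} (y : Fin m → E) (hy : ∀ i, y i ∈ semiO Qs)
    (hspan : ∀ z ∈ semiO Qs, ∃ a : Fin m → F, (∀ i, P.1 (a i) ≤ 1) ∧
      z - ∑ i, algebraMap F E (a i) * y i ∈ semiM Qs P) :
    relDim (semiM Qs P) (semiO Qs) ≤ m * P.deg := by
  obtain ⟨d, b, β, hβ⟩ := exists_lift_basis hF P
  have hd : P.deg = d := by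
    unfold Place.deg
    rw [Module.finrank_eq_card_basis b, Fintype.card_fin]
  let v : Fin m × Fin d → E := fun p => algebraMap F E (β p.2 : F) * y p.1
  have hv : ∀ p, v p ∈ semiO Qs := fun p => algebraMap_mul_mem_semiO hQs (β p.2).2 (hy p.1)
  let ψ : (Fin m × Fin d → k) →ₗ[k] E := Fintype.linearCombination k v
  have hψ : ∀ c, ψ c ∈ semiO Qs := by
    intro c
    simp only [ψ, Fintype.linearCombination_apply]
    exact Submodule.sum_mem _ fun p _ => Submodule.smul_mem _ _ (hv p)
  let g : (Fin m × Fin d → k) →ₗ[k] RQ (semiM Qs P) (semiO Qs) :=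
    (Submodule.mkQ _) ∘ₗ (ψ.codRestrict (semiO Qs) hψ)
  have hg : Function.Surjective g := by
    intro q
    obtain ⟨z, rfl⟩ := Submodule.Quotient.mk_surjective _ q
    obtain ⟨a, ha, haz⟩ := hspan z.1 z.2
    choose c hc using fun i => exists_approx_basis P b β hβ (ha i)
    refine ⟨fun p => c p.1 p.2, ?_⟩
    simp only [g, LinearMap.comp_apply, Submodule.mkQ_apply]
    rw [Submodule.Quotient.eq, Submodule.mem_comap]
    simp only [Submodule.subtype_apply, Submodule.coe_sub, LinearMap.codRestrict_apply]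
    -- ψ c - z ∈ semiM
    have e : ψ (fun p => c p.1 p.2) - (z : E) =
        -((z : E) - ∑ i, algebraMap F E (a i) * y i) -
          ∑ i, algebraMap F E (a i - ∑ j, algebraMap k F (c i j) * (β j : F)) * y i := by
      simp only [ψ, Fintype.linearCombination_apply, v, Fintype.sum_prod_type]
      have : ∀ i, algebraMap F E (a i - ∑ j, algebraMap k F (c i j) * (β j : F)) * y i =
          algebraMap F E (a i) * y i - ∑ j, c i j • (algebraMap F E (β j : F) * y i) := by
        intro i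
        rw [map_sub, sub_mul, map_sum, Finset.sum_mul]
        congr 1
        refine Finset.sum_congr rfl fun j _ => ?_
        rw [map_mul, ← IsScalarTower.algebraMap_apply, Algebra.smul_def, mul_assoc]
      rw [Finset.sum_congr rfl fun i _ => this i, Finset.sum_sub_distrib]
      ring
    rw [e]
    refine Submodule.sub_mem _ (Submodule.neg_mem _ haz) (Submodule.sum_mem _ fun i _ => ?_)
    exact algebraMap_mul_mem_semiM_of_lt hQs (hc i) (hy i)
  have h1 := LinearMap.finrank_le_finrank_of_surjective hg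
  have h2 : Module.finrank k (Fin m × Fin d → k) = m * d := by
    rw [Module.finrank_fintype_fun_eq_card, Fintype.card_prod, Fintype.card_fin, Fintype.card_fin]
  rw [h2] at h1
  rw [hd]
  exact h1

/-- The semilocal ring above `P` in a finite extension is free of rank `[E : F]` over `O_P`. -/
theorem exists_local_basis [FiniteDimensional F E] (hF : IsFunctionField k F) (P : Place k F)
    (Qs : Finset (Place k E)) (hQs : ∀ Q, Q ∈ Qs ↔ IsOver Q P) (n : ℕ)
    (hn : Module.finrank F E = n) :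
    ∃ y : Fin n → E, LocIndep Qs P y ∧ LinearIndependent F y ∧
      ∀ z ∈ semiO Qs, ∃ a : Fin n → F, (∀ i, P.1 (a i) ≤ 1) ∧
        z = ∑ i, algebraMap F E (a i) * y i := by
  classical
  have hQs' : ∀ Q ∈ Qs, IsOver Q P := fun Q hQ => (hQs Q).1 hQ
  let p : ℕ → Prop := fun m => ∃ y : Fin m → E, LocIndep Qs P y
  have hp0 : p 0 := ⟨Fin.elim0, fun i => i.elim0, fun a _ _ i => i.elim0⟩
  have hbdd : ∀ m, p m → m ≤ n := by
    rintro m ⟨y, hy⟩
    have := hy.linearIndependent.fintype_card_le_finrank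
    rwa [Fintype.card_fin, hn] at this
  obtain ⟨m, hmdef⟩ : ∃ m, m = Nat.findGreatest p n := ⟨_, rfl⟩
  have hpm : p m := by rw [hmdef]; exact Nat.findGreatest_spec (Nat.zero_le n) hp0
  have hmn : m ≤ n := by rw [hmdef]; exact Nat.findGreatest_le n
  obtain ⟨y, hy⟩ := hpm
  have hspan : ∀ z ∈ semiO Qs, ∃ a : Fin m → F, (∀ i, P.1 (a i) ≤ 1) ∧
      z - ∑ i, algebraMap F E (a i) * y i ∈ semiM Qs P := by
    intro z hz
    by_contra hnot
    have hp1 : p (m + 1) := ⟨_, hy.cons hQs' hz hnot⟩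
    have h1 := hbdd _ hp1
    have h2 := Nat.le_findGreatest h1 hp1
    omega
  have hdim := relDim_le_of_span hF P Qs hQs' y hy.1 hspan
  rw [(relDim_semiM hF P Qs hQs).2, hn] at hdim
  have hnm : n ≤ m := Nat.le_of_mul_le_mul_right hdim (Place.deg_pos hF P)
  obtain rfl : m = n := le_antisymm hmn hnm
  refine ⟨y, hy, hy.linearIndependent, fun z hz => ?_⟩
  have hcard : Fintype.card (Fin m) = Module.finrank F E := by rw [Fintype.card_fin, hn]
  let B := basisOfLinearIndependentOfCardEqFinrank' y hy.linearIndependent hcard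
  have hB : ∀ i, B i = y i := fun i => by
    simp only [B, coe_basisOfLinearIndependentOfCardEqFinrank']
  have hz_eq : z = ∑ i, algebraMap F E (B.repr z i) * y i := by
    conv_lhs => rw [← B.sum_repr z]
    refine Finset.sum_congr rfl fun i _ => ?_
    rw [hB, Algebra.smul_def]
  refine ⟨fun i => B.repr z i, ?_, hz_eq⟩
  by_contra hcon
  push Not at hcon
  obtain ⟨i₁, hi₁⟩ := hcon
  obtain ⟨i₀, -, hmax⟩ := Finset.exists_max_image Finset.univ (fun i => P.1 (B.repr z i))
    ⟨i₁, Finset.mem_univ _⟩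
  have hgt : 1 < P.1 (B.repr z i₀) := lt_of_lt_of_le hi₁ (hmax i₁ (Finset.mem_univ _))
  have hc0 : B.repr z i₀ ≠ 0 := by
    intro h0
    rw [h0, Valuation.map_zero] at hgt
    exact not_lt.2 zero_le hgt
  have ha : ∀ i, P.1 (B.repr z i / B.repr z i₀) ≤ 1 := fun i => by
    rw [map_div₀]
    exact div_le_one_of_le₀ (hmax i (Finset.mem_univ _)) zero_le
  have hinv : P.1 (B.repr z i₀)⁻¹ < 1 := by
    rw [map_inv₀]
    exact inv_lt_one_of_one_lt₀ hgt
  have hsum : ∑ i, algebraMap F E (B.repr z i / B.repr z i₀) * y i =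
      algebraMap F E (B.repr z i₀)⁻¹ * z := by
    have e1 : algebraMap F E (B.repr z i₀)⁻¹ * z = algebraMap F E (B.repr z i₀)⁻¹ *
        ∑ i, algebraMap F E (B.repr z i) * y i :=
      congrArg (fun w => algebraMap F E (B.repr z i₀)⁻¹ * w) hz_eq
    rw [e1, Finset.mul_sum]
    refine Finset.sum_congr rfl fun i _ => ?_
    rw [← mul_assoc, ← map_mul, inv_mul_eq_div]
  have := hy.2 _ ha (by rw [hsum]; exact algebraMap_mul_mem_semiM_of_lt hQs' hinv hz) i₀
  rw [div_self hc0, Valuation.map_one] at this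
  exact lt_irrefl _ this

end LocalFree

end FF

end Groth.Agent.Lib.helper10
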