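import Groth.Agent.Lib.Helper10.FunFld49

/-!
Function fields of one variable (helper10), part 50: the integral closure of `O_P` in a finite
extension (separable or not) is module-finite (S10981).
-/

set_option autoImplicit false
set_option linter.unusedSectionVars false
set_option linter.style.haveILetI false

universe u v w

open IntermediateField FunFld

namespace Groth.Agent.Lib.helper10

namespace FF

open RD PA

theorem val_le_one_of_isIntegral {R : Type*} [CommRing R] {L : Type*} [Field L] [Algebra R L]
    {Γ₀ : Type*} [LinearOrderedCommGroupWithZero Γ₀] (v : Valuation L Γ₀)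
    (hR : ∀ r : R, v (algebraMap R L r) ≤ 1) {x : L} (hx : IsIntegral R x) : v x ≤ 1 := by
  obtain ⟨f, hm, hf⟩ := hx
  by_cases hn : f.natDegree = 0
  · rw [Polynomial.natDegree_eq_zero] at hn
    obtain ⟨c, rfl⟩ := hn
    have hc : c = 1 := by
      have := hm.leadingCoeff
      rwa [Polynomial.leadingCoeff_C] at this
    rw [hc, Polynomial.eval₂_C, map_one] at hf
    exact absurd hf one_ne_zero
  simp only [Polynomial.eval₂_eq_sum_range, Finset.sum_range_succ, hm.coeff_natDegree, map_one,
    one_mul, add_eq_zero_iff_eq_neg] at hf
  apply_fun v at hf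
  simp only [Valuation.map_neg, map_pow] at hf
  by_contra hcon
  have hlt : 1 < v x := not_le.1 hcon
  refine absurd hf (ne_of_lt (v.map_sum_lt ?_ ?_))
  · exact pow_ne_zero _ (ne_of_gt (lt_trans zero_lt_one hlt))
  · intro i hi
    rw [Finset.mem_range] at hi
    rw [map_mul, map_pow]
    exact mul_lt_of_le_one_of_lt (hR _) (pow_lt_pow_right₀ hlt hi)

section IntClosure

variable {k : Type u} {F : Type v} {E : Type w} [Field k] [Field F] [Field E]
  [Algebra k F] [Algebra F E] [Algebra k E] [IsScalarTower k F E]

theorem Place.isDVR (hF : IsFunctionField k F) (P : Place k F) : IsDiscreteValuationRing P.O :=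
  isDVR_of_valuationSubring P.O hF P.2.1 (Place.O_ne_top P)

/-- Integral elements over `O_P` lie in the semilocal ring above `P`. -/
theorem mem_semiO_of_isIntegral (P : Place k F) [Algebra P.O E] [IsScalarTower P.O F E]
    (Qs : Finset (Place k E)) (hQs : ∀ Q ∈ Qs, IsOver Q P) {z : E} (hz : IsIntegral P.O z) :
    z ∈ semiO Qs := by
  rw [mem_semiO]
  intro Q hQ
  apply val_le_one_of_isIntegral Q.1 _ hz
  intro r
  rw [IsScalarTower.algebraMap_apply P.O F E]
  obtain ⟨e, he⟩ := hQs Q hQ
  rw [he]
  exact pow_le_one' r.2 e

/-- **S10981**: the integral closure of `O_P` in a finite extension is module-finite. -/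
theorem integralClosure_finite [FiniteDimensional F E] (hF : IsFunctionField k F) (P : Place k F)
    [Algebra P.O E] [IsScalarTower P.O F E] : Module.Finite P.O (integralClosure P.O E) := by
  classical
  have hfin := finite_places_over' (E := E) hF P
  have hQs : ∀ Q, Q ∈ hfin.toFinset ↔ IsOver Q P := fun Q => Set.Finite.mem_toFinset hfin
  obtain ⟨y, -, -, hspan⟩ := exists_local_basis hF P hfin.toFinset hQs _ rfl
  let M : Submodule P.O E := Submodule.span P.O (Set.range y)
  have hMfin : Module.Finite P.O M := Module.Finite.span_of_finite P.O (Set.finite_range y)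
  haveI := Place.isDVR hF P
  have hle : (integralClosure P.O E).toSubmodule ≤ M := by
    intro z hz
    have hzint : IsIntegral P.O z := hz
    have hzO := mem_semiO_of_isIntegral P hfin.toFinset (fun Q hQ => (hQs Q).1 hQ) hzint
    obtain ⟨a, ha, rfl⟩ := hspan z hzO
    refine Submodule.sum_mem _ fun i _ => ?_
    have e : algebraMap F E (a i) * y i = (⟨a i, ha i⟩ : P.O) • y i := by
      rw [Algebra.smul_def, IsScalarTower.algebraMap_apply P.O F E]
      rfl
    rw [e]
    exact Submodule.smul_mem _ _ (Submodule.subset_span ⟨i, rfl⟩)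
  haveI : IsNoetherian P.O M := isNoetherian_of_isNoetherianRing_of_finite P.O M
  exact Module.Finite.of_injective (Submodule.inclusion hle) (Submodule.inclusion_injective hle)

end IntClosure

end FF

end Groth.Agent.Lib.helper10
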