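import Groth.Agent.Lib.Helper10.FunFld51

/-!
Function fields of one variable (helper10), part 52: compatible bases of the semilocal ring above
a place, traces of its elements, and the trace of an element nilpotent modulo `𝔪_P`.
-/

set_option autoImplicit false
set_option linter.unusedSectionVars false
set_option linter.style.haveILetI false

universe u v w

open IntermediateField FunFld

namespace Groth.Agent.Lib.helper10

namespace FF

open RD PA

section Compat

variable {R₀ F E : Type*} [CommRing R₀] [Field F] [Field E] [Algebra R₀ F] [Algebra F E]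
  [Algebra R₀ E] [IsScalarTower R₀ F E]

theorem repr_coe_eq (S : Subalgebra R₀ E) {ι : Type*} [Fintype ι] (b : Module.Basis ι R₀ S)
    (bE : Module.Basis ι F E) (hb : ∀ i, ((b i : S) : E) = bE i) (s : S) (i : ι) :
    bE.repr (s : E) i = algebraMap R₀ F (b.repr s i) := by
  have hs : (s : E) = ∑ j, (algebraMap R₀ F (b.repr s j)) • bE j := by
    conv_lhs => rw [← b.sum_repr s]
    simp only [AddSubmonoidClass.coe_finsetSum, Subalgebra.coe_smul]
    refine Finset.sum_congr rfl fun j _ => ?_
    rw [hb, algebraMap_smul]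
  rw [hs, bE.repr_sum_self]

theorem mapMatrix_leftMulMatrix_coe (S : Subalgebra R₀ E) {ι : Type*} [Fintype ι] [DecidableEq ι]
    (b : Module.Basis ι R₀ S) (bE : Module.Basis ι F E) (hb : ∀ i, ((b i : S) : E) = bE i)
    (s : S) :
    (Algebra.leftMulMatrix b s).map (algebraMap R₀ F) = Algebra.leftMulMatrix bE (s : E) := by
  ext i j
  rw [Matrix.map_apply, Algebra.leftMulMatrix_eq_repr_mul, Algebra.leftMulMatrix_eq_repr_mul,
    ← repr_coe_eq S b bE hb, MulMemClass.coe_mul, hb]

theorem trace_coe_eq (S : Subalgebra R₀ E) {ι : Type*} [Fintype ι] [DecidableEq ι]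
    (b : Module.Basis ι R₀ S) (bE : Module.Basis ι F E) (hb : ∀ i, ((b i : S) : E) = bE i)
    (s : S) :
    Algebra.trace F E (s : E) = algebraMap R₀ F (Algebra.trace R₀ S s) := by
  rw [Algebra.trace_eq_matrix_trace bE, Algebra.trace_eq_matrix_trace b,
    ← mapMatrix_leftMulMatrix_coe S b bE hb, AddMonoidHom.map_trace]

end Compat

section Semi

variable {k : Type u} {F : Type v} {E : Type w} [Field k] [Field F] [Field E]
  [Algebra k F] [Algebra F E] [Algebra k E] [IsScalarTower k F E]

/-- Compatible bases of the semilocal ring over `O_P` and of `E` over `F`. -/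
theorem exists_semiAlg_basis [FiniteDimensional F E] (hF : IsFunctionField k F) (P : Place k F)
    [Algebra P.O E] [IsScalarTower P.O F E] (Qs : Finset (Place k E))
    (hQs : ∀ Q, Q ∈ Qs ↔ IsOver Q P) :
    ∃ (n : ℕ) (b : Module.Basis (Fin n) P.O (semiAlg P Qs (fun Q hQ => (hQs Q).1 hQ)))
      (bE : Module.Basis (Fin n) F E),
      ∀ i, ((b i : semiAlg P Qs (fun Q hQ => (hQs Q).1 hQ)) : E) = bE i := by
  classical
  have hQs' : ∀ Q ∈ Qs, IsOver Q P := fun Q hQ => (hQs Q).1 hQ
  obtain ⟨n, hn⟩ : ∃ n, Module.finrank F E = n := ⟨_, rfl⟩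
  obtain ⟨y, hy, hli, hspan⟩ := exists_local_basis hF P Qs hQs n hn
  obtain ⟨S, hS⟩ : ∃ S : Subalgebra P.O E, S = semiAlg P Qs hQs' := ⟨_, rfl⟩
  have hmemS : ∀ z : E, z ∈ S ↔ z ∈ semiO Qs := fun z => by
    rw [hS, mem_semiO, mem_semiAlg]
  let y' : Fin n → S := fun i => ⟨y i, (hmemS _).2 (hy.1 i)⟩
  have hliO : LinearIndependent P.O y := by
    refine hli.restrict_scalars ?_
    intro a b hab
    simp only [Algebra.smul_def, mul_one] at hab
    exact Subtype.ext hab
  have hli' : LinearIndependent P.O y' := by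
    refine LinearIndependent.of_comp S.val.toLinearMap ?_
    exact hliO
  have hsp' : ⊤ ≤ Submodule.span P.O (Set.range y') := by
    intro z _
    obtain ⟨a, ha, hz⟩ := hspan z.1 ((hmemS _).1 z.2)
    have e : z = ∑ i, (⟨a i, ha i⟩ : P.O) • y' i := by
      apply Subtype.ext
      rw [hz]
      simp only [AddSubmonoidClass.coe_finsetSum, Subalgebra.coe_smul]
      refine Finset.sum_congr rfl fun i _ => ?_
      rw [Algebra.smul_def, IsScalarTower.algebraMap_apply P.O F E]
      rfl
    rw [e]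
    exact Submodule.sum_mem _ fun i _ => Submodule.smul_mem _ _ (Submodule.subset_span ⟨i, rfl⟩)
  have hcard : Fintype.card (Fin n) = Module.finrank F E := by rw [Fintype.card_fin, hn]
  subst hS
  refine ⟨n, Module.Basis.mk hli' hsp', basisOfLinearIndependentOfCardEqFinrank' y hli hcard,
    fun i => ?_⟩
  simp only [Module.Basis.mk_apply, y', coe_basisOfLinearIndependentOfCardEqFinrank']

/-- Traces of elements of the semilocal ring are integral at `P`. -/
theorem val_trace_le_one [FiniteDimensional F E] (hF : IsFunctionField k F) (P : Place k F)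
    (Qs : Finset (Place k E)) (hQs : ∀ Q, Q ∈ Qs ↔ IsOver Q P) {s : E} (hs : s ∈ semiO Qs) :
    P.1 (Algebra.trace F E s) ≤ 1 := by
  classical
  letI : Algebra P.O E := ((algebraMap F E).comp (algebraMap P.O F)).toAlgebra
  haveI : IsScalarTower P.O F E := IsScalarTower.of_algebraMap_eq (fun _ => rfl)
  obtain ⟨n, b, bE, hb⟩ := exists_semiAlg_basis hF P Qs hQs
  have hmem : s ∈ semiAlg P Qs (fun Q hQ => (hQs Q).1 hQ) := mem_semiO.1 hs
  have := trace_coe_eq _ b bE hb ⟨s, hmem⟩
  rw [this]
  exact (Algebra.trace P.O _ (⟨s, hmem⟩ : semiAlg P Qs _)).2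

theorem exists_eq_mul_of_mem_semiM {Qs : Finset (Place k E)} {P : Place k F}
    (hQs : ∀ Q ∈ Qs, IsOver Q P) {t : F} (ht : P.1 t = WithZero.exp (-1 : ℤ)) {z : E}
    (hz : z ∈ semiM Qs P) : ∃ z' ∈ semiO Qs, z = algebraMap F E t * z' := by
  have ht0 : t ≠ 0 := by
    rintro rfl
    rw [Valuation.map_zero] at ht
    exact WithZero.exp_ne_zero ht.symm
  have hτ0 : algebraMap F E t ≠ 0 := (_root_.map_ne_zero _).2 ht0
  refine ⟨z / algebraMap F E t, ?_, by rw [mul_div_cancel₀ _ hτ0]⟩
  rw [mem_semiO]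
  intro Q hQ
  have he := isOverWith_ramIdx (hQs Q hQ)
  rw [map_div₀, he t, ht]
  have h1 := hz Q hQ
  have e1 : (WithZero.exp (-1 : ℤ) : WithZero (Multiplicative ℤ)) ^ ramIdx Q P =
      WithZero.exp (0 - (ramIdx Q P : ℤ)) := by
    rw [← WithZero.exp_nsmul]
    congr 1
    rw [nsmul_eq_mul]
    ring
  rw [e1]
  exact div_le_one_of_le₀ h1 zero_le

/-- The trace of an element of the semilocal ring that is nilpotent modulo `𝔪_P` lies in `𝔪_P`. -/
theorem val_trace_lt_one_of_pow_mem_semiM [FiniteDimensional F E] (hF : IsFunctionField k F)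
    (P : Place k F) (Qs : Finset (Place k E)) (hQs : ∀ Q, Q ∈ Qs ↔ IsOver Q P) {s : E}
    (hs : s ∈ semiO Qs) {e : ℕ} (hse : s ^ e ∈ semiM Qs P) :
    P.1 (Algebra.trace F E s) < 1 := by
  classical
  letI : Algebra P.O E := ((algebraMap F E).comp (algebraMap P.O F)).toAlgebra
  haveI : IsScalarTower P.O F E := IsScalarTower.of_algebraMap_eq (fun _ => rfl)
  have hQs' : ∀ Q ∈ Qs, IsOver Q P := fun Q hQ => (hQs Q).1 hQ
  obtain ⟨n, b, bE, hb⟩ := exists_semiAlg_basis hF P Qs hQs
  obtain ⟨t, ht⟩ := Place.exists_uniformizer P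
  obtain ⟨z', hz', hz'eq⟩ := exists_eq_mul_of_mem_semiM hQs' ht hse
  have hmem : s ∈ semiAlg P Qs hQs' := mem_semiO.1 hs
  have hmem' : z' ∈ semiAlg P Qs hQs' := mem_semiO.1 hz'
  have htO : P.1 t ≤ 1 := by
    rw [ht, ← WithZero.exp_zero, WithZero.exp_le_exp]
    norm_num
  let s' : semiAlg P Qs hQs' := ⟨s, hmem⟩
  let z'' : semiAlg P Qs hQs' := ⟨z', hmem'⟩
  let t' : P.O := ⟨t, htO⟩
  have hpow : s' ^ e = t' • z'' := by
    apply Subtype.ext
    simp only [SubmonoidClass.coe_pow, Subalgebra.coe_smul, s', z'', t']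
    rw [hz'eq, Algebra.smul_def, IsScalarTower.algebraMap_apply P.O F E]
    rfl
  let N := Algebra.leftMulMatrix b s'
  have hN : N ^ e = t' • Algebra.leftMulMatrix b z'' := by
    simp only [N]
    rw [← map_pow, hpow, map_smul]
  let φ : P.O →+* IsLocalRing.ResidueField P.O := IsLocalRing.residue P.O
  have hφt : φ t' = 0 := by
    rw [Place.residue_eq_zero_iff]
    simp only [t']
    rw [ht, ← WithZero.exp_zero, WithZero.exp_lt_exp]
    norm_num
  have hnil : IsNilpotent (φ.mapMatrix N) := by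
    refine ⟨e, ?_⟩
    rw [← map_pow, hN]
    ext i j
    simp only [RingHom.mapMatrix_apply, Matrix.map_apply, Matrix.smul_apply, smul_eq_mul, map_mul,
      hφt, zero_mul, Matrix.zero_apply]
  have htr := Matrix.isNilpotent_trace_of_isNilpotent hnil
  have htr0 : φ (Matrix.trace N) = 0 := by
    have := htr.eq_zero
    rw [RingHom.mapMatrix_apply, ← AddMonoidHom.map_trace] at this
    exact this
  have h1 := trace_coe_eq _ b bE hb s'
  rw [← Algebra.trace_eq_matrix_trace b s'] at htr0
  have h2 := (Place.residue_eq_zero_iff P _).1 htr0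
  have h3 : Algebra.trace F E s = ((Algebra.trace P.O _ s' : P.O) : F) := h1
  rw [h3]
  exact h2

end Semi

end FF

end Groth.Agent.Lib.helper10
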