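import Groth.Agent.Lib.Helper10.FunFld52

/-!
Function fields of one variable (helper10), part 53: a family of `[E:F]` elements of the
semilocal ring above `P` whose discriminant is a unit at `P` is an `O_P`-basis of the semilocal
ring, and then `P` is unramified in `E`.
-/

set_option autoImplicit false
set_option linter.unusedSectionVars false
set_option linter.style.haveILetI false

universe u v w

open IntermediateField FunFld

namespace Groth.Agent.Lib.helper10

namespace FF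

open RD PA

section UnitDisc

variable {k : Type u} {F : Type v} {E : Type w} [Field k] [Field F] [Field E]
  [Algebra k F] [Algebra F E] [Algebra k E] [IsScalarTower k F E]

theorem val_adjugate_le_one (P : Place k F) {ι : Type*} [Fintype ι] [DecidableEq ι]
    (T : Matrix ι ι F) (hT : ∀ i j, P.1 (T i j) ≤ 1) (i j : ι) :
    P.1 (T.adjugate i j) ≤ 1 := by
  let T₀ : Matrix ι ι P.O := fun i j => ⟨T i j, hT i j⟩
  have hT₀ : T = (algebraMap P.O F).mapMatrix T₀ := by
    ext i j; rfl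
  rw [hT₀, ← RingHom.map_adjugate]
  exact (T₀.adjugate i j).2

/-- If the trace matrix of `w` is `P`-integral with unit determinant, and all traces
`Tr((∑ cᵢ wᵢ) wⱼ)` lie in `𝔪_P`, then all `cᵢ` lie in `𝔪_P`. -/
theorem val_lt_one_of_trace_lt_one {n : ℕ} (P : Place k F) (w : Fin n → E)
    (hT : ∀ i j, P.1 (Algebra.trace F E (w i * w j)) ≤ 1)
    (hd : P.1 (Algebra.discr F w) = 1) (c : Fin n → F)
    (hc : ∀ j, P.1 (Algebra.trace F E ((∑ i, algebraMap F E (c i) * w i) * w j)) < 1) :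
    ∀ i, P.1 (c i) < 1 := by
  classical
  obtain ⟨T, hTdef⟩ : ∃ T, T = Algebra.traceMatrix F w := ⟨_, rfl⟩
  have hTij : ∀ i j, T i j = Algebra.trace F E (w i * w j) := fun i j => by
    rw [hTdef, Algebra.traceMatrix_apply, Algebra.traceForm_apply]
  have hv : ∀ j, (Matrix.vecMul c T) j =
      Algebra.trace F E ((∑ i, algebraMap F E (c i) * w i) * w j) := by
    intro j
    simp only [Matrix.vecMul, dotProduct]
    rw [Finset.sum_mul, map_sum]
    refine Finset.sum_congr rfl fun i _ => ?_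
    rw [hTij, mul_assoc, ← Algebra.smul_def, map_smul, smul_eq_mul]
  have key : Matrix.vecMul (Matrix.vecMul c T) T.adjugate = T.det • c := by
    rw [Matrix.vecMul_vecMul, Matrix.mul_adjugate, Matrix.vecMul_smul, Matrix.vecMul_one]
  intro i
  have h2 : P.1 (T.det * c i) < 1 := by
    have e : T.det * c i = ∑ j, (Matrix.vecMul c T) j * T.adjugate j i := by
      rw [← smul_eq_mul, ← Pi.smul_apply, ← key]
      rfl
    rw [e]
    refine Valuation.map_sum_lt _ one_ne_zero fun j _ => ?_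
    rw [map_mul, hv]
    calc P.1 (Algebra.trace F E ((∑ i, algebraMap F E (c i) * w i) * w j)) * P.1 (T.adjugate j i)
        ≤ P.1 (Algebra.trace F E ((∑ i, algebraMap F E (c i) * w i) * w j)) * 1 :=
          mul_le_mul' le_rfl (val_adjugate_le_one P T (fun i j => by rw [hTij]; exact hT i j) j i)
      _ < 1 := by rw [mul_one]; exact hc j
  rw [map_mul] at h2
  have hdet : P.1 T.det = 1 := by
    rw [hTdef, ← Algebra.discr_def]
    exact hd
  rwa [hdet, one_mul] at h2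

theorem mul_mem_semiO {Qs : Finset (Place k E)} {x y : E} (hx : x ∈ semiO Qs)
    (hy : y ∈ semiO Qs) : x * y ∈ semiO Qs := by
  rw [mem_semiO] at hx hy ⊢
  intro Q hQ
  rw [map_mul]
  exact mul_le_one' (hx Q hQ) (hy Q hQ)

theorem pow_mem_semiO {Qs : Finset (Place k E)} {x : E} (hx : x ∈ semiO Qs) (m : ℕ) :
    x ^ m ∈ semiO Qs := by
  rw [mem_semiO] at hx ⊢
  intro Q hQ
  rw [map_pow]
  exact pow_le_one' (hx Q hQ) m

theorem mul_mem_semiM {Qs : Finset (Place k E)} {P : Place k F} {x y : E}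
    (hx : x ∈ semiM Qs P) (hy : y ∈ semiO Qs) : x * y ∈ semiM Qs P := by
  rw [mem_semiO] at hy
  intro Q hQ
  rw [map_mul]
  calc Q.1 x * Q.1 y ≤ Q.1 x * 1 := mul_le_mul' le_rfl (hy Q hQ)
    _ = Q.1 x := mul_one _
    _ ≤ _ := hx Q hQ

theorem semiM_le_semiO {Qs : Finset (Place k E)} {P : Place k F} : semiM Qs P ≤ semiO Qs := by
  intro x hx
  rw [mem_semiO]
  intro Q hQ
  refine (hx Q hQ).trans ?_
  rw [← WithZero.exp_zero, WithZero.exp_le_exp]
  have : (0 : ℤ) ≤ (ramIdx Q P : ℤ) := Int.natCast_nonneg _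
  show (0 : ℤ) - (ramIdx Q P : ℤ) ≤ 0
  omega

/-- A family independent modulo `𝔪_P` of cardinality `[E:F]` spans the semilocal ring over
`O_P`. -/
theorem LocIndep.exists_repr [FiniteDimensional F E] {Qs : Finset (Place k E)} {P : Place k F}
    (hQs' : ∀ Q ∈ Qs, IsOver Q P) {n : ℕ} (hn : Module.finrank F E = n) {y : Fin n → E}
    (hy : LocIndep Qs P y) {z : E} (hz : z ∈ semiO Qs) :
    ∃ a : Fin n → F, (∀ i, P.1 (a i) ≤ 1) ∧ z = ∑ i, algebraMap F E (a i) * y i := by
  classical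
  have hcard : Fintype.card (Fin n) = Module.finrank F E := by rw [Fintype.card_fin, hn]
  let B := basisOfLinearIndependentOfCardEqFinrank' y hy.linearIndependent hcard
  have hB : ∀ i, B i = y i := fun i => by
    simp only [B, coe_basisOfLinearIndependentOfCardEqFinrank']
  have hz_eq : z = ∑ i, algebraMap F E (B.repr z i) * y i := by
    conv_lhs => rw [← B.sum_repr z]
    refine Finset.sum_congr rfl fun i _ => ?_
    rw [hB, Algebra.smul_def]
  refine ⟨fun i => B.repr z i, ?_, hz_eq⟩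
  by_contra hcon
  push Not at hcon
  obtain ⟨i₁, hi₁⟩ := hcon
  obtain ⟨i₀, -, hmax⟩ := Finset.exists_max_image Finset.univ (fun i => P.1 (B.repr z i))
    ⟨i₁, Finset.mem_univ _⟩
  have hgt : 1 < P.1 (B.repr z i₀) := lt_of_lt_of_le hi₁ (hmax i₁ (Finset.mem_univ _))
  have hc0 : B.repr z i₀ ≠ 0 := by
    intro h0
    rw [h0, Valuation.map_zero] at hgt
    exact not_lt.2 zero_le hgt
  have ha : ∀ i, P.1 (B.repr z i / B.repr z i₀) ≤ 1 := fun i => by
    rw [map_div₀]
    exact div_le_one_of_le₀ (hmax i (Finset.mem_univ _)) zero_le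
  have hinv : P.1 (B.repr z i₀)⁻¹ < 1 := by
    rw [map_inv₀]
    exact inv_lt_one_of_one_lt₀ hgt
  have hsum : ∑ i, algebraMap F E (B.repr z i / B.repr z i₀) * y i =
      algebraMap F E (B.repr z i₀)⁻¹ * z := by
    have e1 : algebraMap F E (B.repr z i₀)⁻¹ * z = algebraMap F E (B.repr z i₀)⁻¹ *
        ∑ i, algebraMap F E (B.repr z i) * y i :=
      congrArg (fun w => algebraMap F E (B.repr z i₀)⁻¹ * w) hz_eq
    rw [e1, Finset.mul_sum]
    refine Finset.sum_congr rfl fun i _ => ?_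
    rw [← mul_assoc, ← map_mul, inv_mul_eq_div]
  have := hy.2 _ ha (by rw [hsum]; exact algebraMap_mul_mem_semiM_of_lt hQs' hinv hz) i₀
  rw [div_self hc0, Valuation.map_one] at this
  exact lt_irrefl _ this

variable [FiniteDimensional F E]

/-- Unit discriminant ⇒ independent modulo `𝔪_P`. -/
theorem locIndep_of_discr (hF : IsFunctionField k F) (P : Place k F)
    (Qs : Finset (Place k E)) (hQs : ∀ Q, Q ∈ Qs ↔ IsOver Q P) {n : ℕ} (w : Fin n → E)
    (hw : ∀ i, w i ∈ semiO Qs) (hd : P.1 (Algebra.discr F w) = 1) : LocIndep Qs P w := by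
  have hQs' : ∀ Q ∈ Qs, IsOver Q P := fun Q hQ => (hQs Q).1 hQ
  refine ⟨hw, fun a ha hsum => ?_⟩
  refine val_lt_one_of_trace_lt_one P w
    (fun i j => val_trace_le_one hF P Qs hQs (mul_mem_semiO (hw i) (hw j))) hd a fun j => ?_
  have h1 : (∑ i, algebraMap F E (a i) * w i) * w j ∈ semiM Qs P := mul_mem_semiM hsum (hw j)
  exact val_trace_lt_one_of_pow_mem_semiM hF P Qs hQs (semiM_le_semiO h1) (e := 1)
    (by rw [pow_one]; exact h1)

/-- Unit discriminant ⇒ `O_P`-basis of the semilocal ring. -/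
theorem exists_repr_of_discr (hF : IsFunctionField k F) (P : Place k F)
    (Qs : Finset (Place k E)) (hQs : ∀ Q, Q ∈ Qs ↔ IsOver Q P) {n : ℕ}
    (hn : Module.finrank F E = n) (w : Fin n → E)
    (hw : ∀ i, w i ∈ semiO Qs) (hd : P.1 (Algebra.discr F w) = 1) {z : E} (hz : z ∈ semiO Qs) :
    ∃ a : Fin n → F, (∀ i, P.1 (a i) ≤ 1) ∧ z = ∑ i, algebraMap F E (a i) * w i :=
  (locIndep_of_discr hF P Qs hQs w hw hd).exists_repr (fun Q hQ => (hQs Q).1 hQ) hn hz

/-- Unit discriminant ⇒ unramified. -/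
theorem ramIdx_eq_one_of_discr (hF : IsFunctionField k F) (P : Place k F)
    (Qs : Finset (Place k E)) (hQs : ∀ Q, Q ∈ Qs ↔ IsOver Q P) {n : ℕ}
    (hn : Module.finrank F E = n) (w : Fin n → E)
    (hw : ∀ i, w i ∈ semiO Qs) (hd : P.1 (Algebra.discr F w) = 1) {Q₀ : Place k E}
    (hQ₀ : Q₀ ∈ Qs) : ramIdx Q₀ P = 1 := by
  classical
  have hQs' : ∀ Q ∈ Qs, IsOver Q P := fun Q hQ => (hQs Q).1 hQ
  have hpos : ∀ Q ∈ Qs, 1 ≤ ramIdx Q P := fun Q hQ => isOverWith_pos (isOverWith_ramIdx (hQs' Q hQ))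
  by_contra hne
  have he₀ : 2 ≤ ramIdx Q₀ P := by
    have := hpos Q₀ hQ₀
    omega
  obtain ⟨z, hz⟩ := weak_approx_eq Qs (fun _ => (0 : E))
    (fun Q => if Q = Q₀ then 1 else (ramIdx Q P : ℤ))
  simp only [sub_zero] at hz
  have hzQ₀ : Q₀.1 z = WithZero.exp (-1 : ℤ) := by
    rw [hz Q₀ hQ₀, if_pos rfl]
  have hzQ : ∀ Q ∈ Qs, Q ≠ Q₀ → Q.1 z = WithZero.exp (-(ramIdx Q P : ℤ)) := by
    intro Q hQ hne'
    rw [hz Q hQ, if_neg hne']
  have hzO : z ∈ semiO Qs := by
    rw [mem_semiO]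
    intro Q hQ
    rw [hz Q hQ, ← WithZero.exp_zero, WithZero.exp_le_exp]
    split_ifs
    · norm_num
    · have := hpos Q hQ
      omega
  have hzM : z ∉ semiM Qs P := by
    intro hzm
    have := hzm Q₀ hQ₀
    rw [hzQ₀, WithZero.exp_le_exp] at this
    have this' : (-1 : ℤ) ≤ 0 - (ramIdx Q₀ P : ℤ) := this
    omega
  have hzpow : z ^ ramIdx Q₀ P ∈ semiM Qs P := by
    intro Q hQ
    rw [map_pow]
    by_cases hQQ : Q = Q₀
    · subst hQQ
      rw [hzQ₀, ← WithZero.exp_nsmul, WithZero.exp_le_exp, nsmul_eq_mul]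
      show (ramIdx Q P : ℤ) * (-1 : ℤ) ≤ 0 - (ramIdx Q P : ℤ)
      omega
    · rw [hzQ Q hQ hQQ, ← WithZero.exp_nsmul, WithZero.exp_le_exp, nsmul_eq_mul]
      show (ramIdx Q₀ P : ℤ) * (-(ramIdx Q P : ℤ)) ≤ 0 - (ramIdx Q P : ℤ)
      have h1 := hpos Q hQ
      have h2 : (1 : ℤ) ≤ (ramIdx Q₀ P : ℤ) := by exact_mod_cast hpos Q₀ hQ₀
      have h3 : (0 : ℤ) ≤ (ramIdx Q P : ℤ) := Int.natCast_nonneg _
      nlinarith
  obtain ⟨a, ha, hza⟩ := exists_repr_of_discr hF P Qs hQs hn w hw hd hzO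
  have hlt : ∀ i, P.1 (a i) < 1 := by
    refine val_lt_one_of_trace_lt_one P w
      (fun i j => val_trace_le_one hF P Qs hQs (mul_mem_semiO (hw i) (hw j))) hd a fun j => ?_
    rw [← hza]
    refine val_trace_lt_one_of_pow_mem_semiM hF P Qs hQs (mul_mem_semiO hzO (hw j))
      (e := ramIdx Q₀ P) ?_
    rw [mul_pow]
    exact mul_mem_semiM hzpow (pow_mem_semiO (hw j) _)
  apply hzM
  rw [hza]
  exact Submodule.sum_mem _ fun i _ => algebraMap_mul_mem_semiM_of_lt hQs' (hlt i) (hw i)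

end UnitDisc

end FF

end Groth.Agent.Lib.helper10
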