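import Groth.Agent.Lib.Helper10.FunFld53

/-!
Function fields of one variable (helper10), part 54: traces and discriminants under base change
along compatible bases, and the basis of a constant field extension `K' = k' ⊗_k K`.
-/

set_option autoImplicit false
set_option linter.unusedSectionVars false
set_option linter.style.haveILetI false

universe u v w

open IntermediateField FunFld

namespace Groth.Agent.Lib.helper10

namespace FF

open RD PA

section BaseChange

variable {R₀ F A E : Type*} [CommRing R₀] [CommRing F] [CommRing A] [CommRing E] [Algebra R₀ F]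
  [Algebra R₀ A] [Algebra F E] [Algebra R₀ E] [IsScalarTower R₀ F E]

theorem repr_map_eq (φ : A →ₐ[R₀] E) {ι : Type*} [Fintype ι] (b : Module.Basis ι R₀ A)
    (bE : Module.Basis ι F E) (hb : ∀ i, φ (b i) = bE i) (a : A) (i : ι) :
    bE.repr (φ a) i = algebraMap R₀ F (b.repr a i) := by
  have hs : φ a = ∑ j, (algebraMap R₀ F (b.repr a j)) • bE j := by
    conv_lhs => rw [← b.sum_repr a]
    rw [map_sum]
    refine Finset.sum_congr rfl fun j _ => ?_
    rw [map_smul, hb, algebraMap_smul]
  rw [hs, bE.repr_sum_self]

theorem leftMulMatrix_map_eq (φ : A →ₐ[R₀] E) {ι : Type*} [Fintype ι] [DecidableEq ι]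
    (b : Module.Basis ι R₀ A) (bE : Module.Basis ι F E) (hb : ∀ i, φ (b i) = bE i) (a : A) :
    (Algebra.leftMulMatrix b a).map (algebraMap R₀ F) = Algebra.leftMulMatrix bE (φ a) := by
  ext i j
  rw [Matrix.map_apply, Algebra.leftMulMatrix_eq_repr_mul, Algebra.leftMulMatrix_eq_repr_mul,
    ← repr_map_eq φ b bE hb, map_mul, hb]

theorem trace_map_eq (φ : A →ₐ[R₀] E) {ι : Type*} [Fintype ι] [DecidableEq ι]
    (b : Module.Basis ι R₀ A) (bE : Module.Basis ι F E) (hb : ∀ i, φ (b i) = bE i) (a : A) :
    Algebra.trace F E (φ a) = algebraMap R₀ F (Algebra.trace R₀ A a) := by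
  rw [Algebra.trace_eq_matrix_trace bE, Algebra.trace_eq_matrix_trace b,
    ← leftMulMatrix_map_eq φ b bE hb, AddMonoidHom.map_trace]

theorem discr_map_eq (φ : A →ₐ[R₀] E) {ι : Type*} [Fintype ι] [DecidableEq ι]
    (b : Module.Basis ι R₀ A) (bE : Module.Basis ι F E) (hb : ∀ i, φ (b i) = bE i) :
    Algebra.discr F bE = algebraMap R₀ F (Algebra.discr R₀ b) := by
  rw [Algebra.discr_def, Algebra.discr_def, RingHom.map_det]
  congr 1
  ext i j
  rw [RingHom.mapMatrix_apply, Matrix.map_apply, Algebra.traceMatrix_apply,
    Algebra.traceMatrix_apply, Algebra.traceForm_apply, Algebra.traceForm_apply, ← hb, ← hb,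
    ← map_mul, trace_map_eq φ b bE hb]

end BaseChange

section ConstExt

open TensorProduct

variable {k k' K K' : Type*} [Field k] [Field k'] [Field K] [Field K']
  [Algebra k k'] [Algebra k K] [Algebra K K'] [Algebra k' K'] [Algebra k K']
  [IsScalarTower k k' K'] [IsScalarTower k K K']

/-- A `k`-basis of `k'` is a `K`-basis of `K' = k' ⊗_k K`. -/
theorem exists_const_basis
    (h : Function.Bijective (Algebra.TensorProduct.productMap
      (IsScalarTower.toAlgHom k k' K') (IsScalarTower.toAlgHom k K K')))
    {ι : Type*} [Fintype ι] [DecidableEq ι] (c : Module.Basis ι k k') :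
    ∃ bE : Module.Basis ι K K', ∀ i, bE i = algebraMap k' K' (c i) := by
  let ν : (K ⊗[k] k') →ₐ[K] K' :=
    Algebra.TensorProduct.productLeftAlgHom (Algebra.ofId K K') (IsScalarTower.toAlgHom k k' K')
  have hν : ∀ w : k' ⊗[k] K, ν (Algebra.TensorProduct.comm k k' K w) =
      Algebra.TensorProduct.productMap
        (IsScalarTower.toAlgHom k k' K') (IsScalarTower.toAlgHom k K K') w := by
    intro w
    induction w using TensorProduct.induction_on with
    | zero => simp
    | tmul a b =>
      show algebraMap K K' b * algebraMap k' K' a = algebraMap k' K' a * algebraMap K K' b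
      exact mul_comm _ _
    | add x y hx hy => rw [map_add, map_add, map_add, hx, hy]
  have hbij : Function.Bijective ν := by
    have hfun : ⇑ν = (Algebra.TensorProduct.productMap
        (IsScalarTower.toAlgHom k k' K') (IsScalarTower.toAlgHom k K K')) ∘
          (Algebra.TensorProduct.comm k k' K).symm := by
      funext z
      rw [Function.comp_apply, ← hν, AlgEquiv.apply_symm_apply]
    rw [hfun]
    exact h.comp (Algebra.TensorProduct.comm k k' K).symm.bijective
  let e : (K ⊗[k] k') ≃ₐ[K] K' := AlgEquiv.ofBijective ν hbij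
  refine ⟨(Algebra.TensorProduct.basis K c).map e.toLinearEquiv, fun i => ?_⟩
  rw [Module.Basis.map_apply, Algebra.TensorProduct.basis_apply]
  show ν (1 ⊗ₜ c i) = _
  show algebraMap K K' 1 * algebraMap k' K' (c i) = _
  rw [map_one, one_mul]

end ConstExt

end FF

end Groth.Agent.Lib.helper10
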