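import Groth.Agent.Lib.Helper10.FunFld54

/-!
Function fields of one variable (helper10), part 55: a place with separable residue field is
nonsingular: under any finite constant extension `K' = k' ⊗_k K`, a `k`-basis of `k'` is an
`O_P`-basis of the semilocal ring above `P`.
-/

set_option autoImplicit false
set_option linter.unusedSectionVars false
set_option linter.style.haveILetI false

universe u v w

open IntermediateField FunFld

namespace Groth.Agent.Lib.helper10

namespace FF

open RD PA

section Integral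

variable {k : Type u} {F : Type v} {E : Type w} [Field k] [Field F] [Field E]
  [Algebra k F] [Algebra F E] [Algebra k E] [IsScalarTower k F E]

/-- Elements of the semilocal ring above `P` are integral over `O_P`. -/
theorem isIntegral_of_mem_semiO [FiniteDimensional F E] (hF : IsFunctionField k F)
    (P : Place k F) [Algebra P.O E] [IsScalarTower P.O F E] (Qs : Finset (Place k E))
    (hQs : ∀ Q, Q ∈ Qs ↔ IsOver Q P) {s : E} (hs : s ∈ semiO Qs) : IsIntegral P.O s := by
  classical
  obtain ⟨n, b, bE, hb⟩ := exists_semiAlg_basis hF P Qs hQs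
  have : Module.Finite P.O (semiAlg P Qs (fun Q hQ => (hQs Q).1 hQ)) := Module.Finite.of_basis b
  have hmem : s ∈ semiAlg P Qs (fun Q hQ => (hQs Q).1 hQ) := mem_semiO.1 hs
  have h1 : IsIntegral P.O (⟨s, hmem⟩ : semiAlg P Qs (fun Q hQ => (hQs Q).1 hQ)) :=
    Algebra.IsIntegral.isIntegral _
  exact h1.map (semiAlg P Qs (fun Q hQ => (hQs Q).1 hQ)).val

end Integral

section ConstExtSep

open TensorProduct

variable {k k' K K' : Type*} [Field k] [Field k'] [Field K] [Field K']
  [Algebra k k'] [Algebra k K] [Algebra K K'] [Algebra k' K'] [Algebra k K']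
  [IsScalarTower k k' K'] [IsScalarTower k K K']

theorem locIndep_const_of_isSeparable' (hK : IsFunctionField k K) (P : Place k K)
    (κ : Type*) [Field κ] [Algebra k κ] [Algebra.IsSeparable k κ] (hfin : FiniteDimensional k κ)
    (res : P.O →ₐ[k] κ) (hres : ∀ x : P.O, res x = 0 ↔ P.1 (x : K) < 1)
    {n : ℕ} (c : Module.Basis (Fin n) k k') (bE : Module.Basis (Fin n) K K')
    (hbE : ∀ i, bE i = algebraMap k' K' (c i)) (Qs : Finset (Place k K'))
    (hQs : ∀ Q, Q ∈ Qs ↔ IsOver Q P) : LocIndep Qs P bE := by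
  classical
  have : FiniteDimensional K K' := Module.Finite.of_basis bE
  have : FiniteDimensional k k' := Module.Finite.of_basis c
  letI : Algebra P.O K' := ((algebraMap K K').comp (algebraMap P.O K)).toAlgebra
  haveI : IsScalarTower P.O K K' := IsScalarTower.of_algebraMap_eq (fun _ => rfl)
  haveI : IsScalarTower k P.O K' := IsScalarTower.of_algebraMap_eq (fun x => by
    rw [IsScalarTower.algebraMap_apply P.O K K', IsScalarTower.algebraMap_apply k K K']
    rfl)
  have hQs' : ∀ Q ∈ Qs, IsOver Q P := fun Q hQ => (hQs Q).1 hQ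
  have hw : ∀ i, bE i ∈ semiO Qs := by
    intro i
    rw [mem_semiO, hbE]
    intro Q' _
    apply Place.val_le_one_of_isAlgebraic
    exact (Algebra.IsAlgebraic.isAlgebraic (c i)).algebraMap
  refine ⟨hw, fun a ha hsum => ?_⟩
  let ψ : (P.O ⊗[k] k') →ₐ[P.O] K' :=
    Algebra.TensorProduct.productLeftAlgHom (Algebra.ofId P.O K') (IsScalarTower.toAlgHom k k' K')
  let ρ : (P.O ⊗[k] k') →ₐ[k] (κ ⊗[k] k') :=
    Algebra.TensorProduct.map res (AlgHom.id k k')
  let bA := Algebra.TensorProduct.basis P.O c
  let bR := Algebra.TensorProduct.basis κ c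
  have hψb : ∀ i, ψ (bA i) = bE i := by
    intro i
    rw [Algebra.TensorProduct.basis_apply, hbE]
    show algebraMap P.O K' 1 * algebraMap k' K' (c i) = _
    rw [map_one, one_mul]
  have hψinj : Function.Injective ψ := by
    rw [injective_iff_map_eq_zero]
    intro x hx
    rw [← bA.sum_repr x, map_sum] at hx
    have hx' : ∑ i, ((bA.repr x i : P.O) : K) • bE i = 0 := by
      rw [← hx]
      refine Finset.sum_congr rfl fun i _ => ?_
      rw [map_smul, hψb, Algebra.smul_def, Algebra.smul_def,
        IsScalarTower.algebraMap_apply P.O K K']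
      rfl
    have hli := bE.linearIndependent
    rw [Fintype.linearIndependent_iff] at hli
    have h0 := hli _ hx'
    rw [← bA.sum_repr x]
    refine Finset.sum_eq_zero fun i _ => ?_
    have : bA.repr x i = 0 := Subtype.ext (h0 i)
    rw [this, zero_smul]
  obtain ⟨u, hu⟩ : ∃ u : P.O ⊗[k] k', u = ∑ i, (⟨a i, ha i⟩ : P.O) • bA i := ⟨_, rfl⟩
  have hψu : ψ u = ∑ i, algebraMap K K' (a i) * bE i := by
    rw [hu, map_sum]
    refine Finset.sum_congr rfl fun i _ => ?_
    rw [map_smul, hψb, Algebra.smul_def, IsScalarTower.algebraMap_apply P.O K K']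
    rfl
  have hρu : ρ u = ∑ i, (res ⟨a i, ha i⟩) • bR i := by
    rw [hu, map_sum]
    refine Finset.sum_congr rfl fun i _ => ?_
    rw [Algebra.TensorProduct.basis_apply, Algebra.TensorProduct.basis_apply,
      TensorProduct.smul_tmul', TensorProduct.smul_tmul', smul_eq_mul, mul_one, smul_eq_mul,
      mul_one]
    rfl
  obtain ⟨t, ht⟩ := Place.exists_uniformizer P
  obtain ⟨v, hv, hzv⟩ := exists_eq_mul_of_mem_semiM hQs' ht hsum
  have hvint : IsIntegral P.O v := isIntegral_of_mem_semiO hK P Qs hQs hv
  obtain ⟨f, hfm, hfv⟩ := hvint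
  have htlt : P.1 t < 1 := by
    rw [ht, ← WithZero.exp_zero, WithZero.exp_lt_exp]
    norm_num
  obtain ⟨t', ht'⟩ : ∃ t' : P.O, t' = ⟨t, htlt.le⟩ := ⟨_, rfl⟩
  have hres_t : res t' = 0 := by
    rw [hres, ht']
    exact htlt
  obtain ⟨q, hq⟩ : ∃ q, q = Polynomial.scaleRoots f t' := ⟨_, rfl⟩
  have hq0 : Polynomial.aeval (ψ u) q = 0 := by
    rw [hψu, hzv, hq]
    have e : algebraMap K K' t = algebraMap P.O K' t' := by
      rw [ht']
      rfl
    rw [e]
    exact Polynomial.scaleRoots_aeval_eq_zero hfv
  have hq1 : Polynomial.aeval u q = 0 := by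
    apply hψinj
    rw [map_zero, ← Polynomial.aeval_algHom_apply]
    exact hq0
  have hqmap : q.map (res : P.O →+* κ) = Polynomial.X ^ f.natDegree := by
    ext i
    rw [Polynomial.coeff_map, hq, Polynomial.coeff_scaleRoots, Polynomial.coeff_X_pow]
    split_ifs with hi
    · subst hi
      rw [Nat.sub_self, pow_zero, mul_one, hfm.coeff_natDegree, map_one]
    · rcases lt_or_gt_of_ne hi with hlt | hgt
      · have e : f.natDegree - i = (f.natDegree - i - 1) + 1 := by omega
        have hres_t' : (res : P.O →+* κ) t' = 0 := hres_t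
        rw [e, pow_succ, ← mul_assoc, map_mul, hres_t', mul_zero]
      · rw [Polynomial.coeff_eq_zero_of_natDegree_lt hgt, zero_mul, map_zero]
  have hnil : (ρ u) ^ f.natDegree = 0 := by
    have h1 : ρ (Polynomial.aeval u q) = 0 := by rw [hq1, map_zero]
    rw [Polynomial.aeval_def] at h1
    have h2 := Polynomial.hom_eval₂ q (algebraMap P.O (P.O ⊗[k] k'))
      (ρ : (P.O ⊗[k] k') →+* (κ ⊗[k] k')) u
    have hcomp : (ρ : (P.O ⊗[k] k') →+* (κ ⊗[k] k')).comp
        (algebraMap P.O (P.O ⊗[k] k')) =
        (algebraMap κ (κ ⊗[k] k')).comp (res : P.O →+* κ) := by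
      ext x
      rfl
    rw [hcomp, ← Polynomial.eval₂_map, hqmap, Polynomial.eval₂_X_pow] at h2
    exact h2.symm.trans h1
  have hred : IsReduced (κ ⊗[k] k') := by
    haveI : Algebra.FormallyUnramified k κ := Algebra.FormallyUnramified.of_isSeparable k κ
    haveI : IsReduced (k' ⊗[k] κ) :=
      Algebra.FormallyUnramified.isReduced_of_field k' (k' ⊗[k] κ)
    exact isReduced_of_injective (Algebra.TensorProduct.comm k κ k')
      (Algebra.TensorProduct.comm k κ k').injective
  have hρ0 : ρ u = 0 := IsNilpotent.eq_zero ⟨_, hnil⟩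
  rw [hρu] at hρ0
  have hli := bR.linearIndependent
  rw [Fintype.linearIndependent_iff] at hli
  intro i
  have h0 := hli _ hρ0 i
  exact (hres _).1 h0

theorem locIndep_const_of_isSeparable (hK : IsFunctionField k K) (P : Place k K)
    [Algebra.IsSeparable k (IsLocalRing.ResidueField P.O)]
    {n : ℕ} (c : Module.Basis (Fin n) k k') (bE : Module.Basis (Fin n) K K')
    (hbE : ∀ i, bE i = algebraMap k' K' (c i)) (Qs : Finset (Place k K'))
    (hQs : ∀ Q, Q ∈ Qs ↔ IsOver Q P) : LocIndep Qs P bE := by
  exact locIndep_const_of_isSeparable' hK P (IsLocalRing.ResidueField P.O)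
    (Place.finiteDimensional_residueField hK P)
    { IsLocalRing.residue P.O with commutes' := fun _ => rfl }
    (fun x => Place.residue_eq_zero_iff P x) c bE hbE Qs hQs

end ConstExtSep

end FF

end Groth.Agent.Lib.helper10
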