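import Groth.Agent.Lib.Helper10.FunFld55

/-!
Function fields of one variable (helper10), part 56: Mathlib's `Valuation.HasExtension` versus
`FunFld.IsOver`.
-/

set_option autoImplicit false
set_option linter.unusedSectionVars false
set_option linter.style.haveILetI false

universe u v w

open IntermediateField FunFld

namespace Groth.Agent.Lib.helper10

namespace FF

open RD PA

section HasExt

variable {k : Type u} {F : Type v} {E : Type w} [Field k] [Field F] [Field E]
  [Algebra k F] [Algebra F E] [Algebra k E] [IsScalarTower k F E]

theorem isOver_of_hasExtension [Algebra.IsAlgebraic F E] (hF : IsFunctionField k F)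
    (Q : Place k E) (P : Place k F) [P.1.HasExtension Q.1] : IsOver Q P := by
  obtain ⟨P₀, e, he⟩ := exists_place_under hF Q
  have hpos := isOverWith_pos he
  have hPP : P = P₀ := by
    apply Place.eq_of_O_le
    intro z hz
    have h1 : P.1 z ≤ 1 := hz
    have h2 : Q.1 (algebraMap F E z) ≤ 1 :=
      (Valuation.HasExtension.val_map_le_one_iff (vR := P.1) Q.1 z).2 h1
    rw [he z] at h2
    show P₀.1 z ≤ 1
    by_contra hgt
    rw [not_le] at hgt
    have : 1 < P₀.1 z ^ e := one_lt_pow' hgt (by omega)
    exact absurd h2 (not_le.mpr this)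
  rw [hPP]
  exact ⟨e, he⟩

theorem hasExtension_of_isOver {Q : Place k E} {P : Place k F} (h : IsOver Q P) :
    P.1.HasExtension Q.1 := by
  obtain ⟨e, he⟩ := h
  have hpos := isOverWith_pos he
  refine ⟨fun x y => ?_⟩
  rw [Valuation.comap_apply, Valuation.comap_apply, he x, he y]
  exact (pow_le_pow_iff_left₀ zero_le zero_le (by omega)).symm

end HasExt

end FF

end Groth.Agent.Lib.helper10
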