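import Groth.Agent.Lib.Helper10.FunFld57

/-!
Function fields of one variable (helper10), part 58: at a place `P` of `K` above a rational
point `x = a` of `k(x)`, away from the discriminant of a power basis of `K / k(x)`, the residue
field of `P` is separable over `k`.
-/

set_option autoImplicit false
set_option linter.unusedSectionVars false
set_option linter.style.haveILetI false

universe u v w

open IntermediateField FunFld Polynomial

namespace Groth.Agent.Lib.helper10

namespace FF

open RD PA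

section Main

variable {k : Type u} {K : Type v} [Field k] [Field K] [Algebra k K]

theorem Place.ord_eq_zero_of_val_eq_one {F : Type*} [Field F] [Algebra k F] (P : Place k F) {z : F}
    (h : P.1 z = 1) : P.ord z = 0 := by
  unfold Place.ord
  rw [h, WithZero.log_one, neg_zero]

theorem Place.ord_nonneg_of_val_le_one' {F : Type*} [Field F] [Algebra k F] (P : Place k F)
    {z : F} (h : P.1 z ≤ 1) : 0 ≤ P.ord z := by
  by_cases hz : z = 0
  · rw [hz, Place.ord_zero]
  · exact (Place.ord_nonneg_iff P hz).mpr h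

theorem isSeparable_residueField_of_good (hK : IsFunctionField k K) {x : K}
    (hx : Transcendental k x) [FiniteDimensional k⟮x⟯ K] [Algebra.IsSeparable k⟮x⟯ K]
    (pb : PowerBasis k⟮x⟯ K) (P : Place k K) (p : Place k k⟮x⟯) (hPp : IsOver P p)
    (Qs : Finset (Place k K)) (hQs : ∀ Q, Q ∈ Qs ↔ IsOver Q p)
    (hy : ∀ Q ∈ Qs, Q.1 pb.gen ≤ 1) (hd : p.1 (Algebra.discr k⟮x⟯ pb.basis) = 1)
    (a : k) (hPa : P.1 (x - algebraMap k K a) < 1) :
    Algebra.IsSeparable k (IsLocalRing.ResidueField P.O) := by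
  classical
  have hF : IsFunctionField k k⟮x⟯ := isFunctionField_adjoin_simple hK hx
  have hQs' : ∀ Q ∈ Qs, IsOver Q p := fun Q hQ => (hQs Q).1 hQ
  have hPmem : P ∈ Qs := (hQs P).2 hPp
  obtain ⟨y, hydef⟩ : ∃ y, y = pb.gen := ⟨_, rfl⟩
  have hn : Module.finrank k⟮x⟯ K = pb.dim := pb.finrank
  have hyQ : ∀ Q ∈ Qs, Q.1 y ≤ 1 := fun Q hQ => by rw [hydef]; exact hy Q hQ
  have hyP : P.1 y ≤ 1 := hyQ P hPmem
  have hyO : y ∈ semiO Qs := mem_semiO.2 hyQ
  have hw : ∀ i, pb.basis i ∈ semiO Qs := fun i => by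
    rw [pb.basis_eq_pow, ← hydef]
    exact pow_mem_semiO hyO _
  have hrepr : ∀ z ∈ semiO Qs, ∃ c : Fin pb.dim → k⟮x⟯, (∀ i, p.1 (c i) ≤ 1) ∧
      z = ∑ i, algebraMap k⟮x⟯ K (c i) * pb.basis i :=
    fun z hz => exists_repr_of_discr hF p Qs hQs hn pb.basis hw hd hz
  -- constants modulo `𝔪_P`
  obtain ⟨x', hx'def⟩ : ∃ x', x' = x - algebraMap k K a := ⟨_, rfl⟩
  rw [← hx'def] at hPa
  have hx'0 : x' ≠ 0 := by
    intro h0
    apply hx
    have : x = algebraMap k K a := by
      rw [hx'def] at h0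
      exact sub_eq_zero.1 h0
    rw [this]
    exact isAlgebraic_algebraMap a
  have hle : k⟮x⟯ ≤ k⟮x'⟯ := by
    rw [adjoin_simple_le_iff]
    have e : x = x' + algebraMap k K a := by rw [hx'def]; ring
    rw [e]
    exact add_mem (mem_adjoin_simple_self k x') (IntermediateField.algebraMap_mem _ a)
  have hconst : ∀ c : k⟮x⟯, p.1 c ≤ 1 → ∃ c₀ : k,
      P.1 (algebraMap k⟮x⟯ K c - algebraMap k K c₀) < 1 := by
    intro c hc
    obtain ⟨e, he⟩ := hPp
    refine exists_const_approx P hPa hx'0 (hle c.2) ?_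
    have : P.1 (algebraMap k⟮x⟯ K c) ≤ 1 := by
      rw [he c]
      exact pow_le_one' hc e
    exact this
  -- the minimal polynomial has `p`-integral coefficients
  obtain ⟨f, hfdef⟩ : ∃ f, f = minpoly k⟮x⟯ y := ⟨_, rfl⟩
  have hfgen : f = X ^ pb.dim - ∑ i : Fin pb.dim,
      C (pb.basis.repr (pb.gen ^ pb.dim) i) * X ^ (i : ℕ) := by
    rw [hfdef, hydef, ← pb.minpolyGen_eq]
    rfl
  have hfdeg : f.natDegree = pb.dim := by rw [hfdef, hydef]; exact pb.natDegree_minpoly
  have hreprint : ∀ i : Fin pb.dim, p.1 (pb.basis.repr (pb.gen ^ pb.dim) i) ≤ 1 := by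
    obtain ⟨c, hc, hceq⟩ := hrepr (y ^ pb.dim) (pow_mem_semiO hyO _)
    intro i
    have e : pb.gen ^ pb.dim = ∑ j, c j • pb.basis j := by
      rw [← hydef, hceq]
      refine Finset.sum_congr rfl fun j _ => ?_
      rw [Algebra.smul_def]
    rw [e, pb.basis.repr_sum_self]
    exact hc i
  have hfcoef : ∀ j, p.1 (f.coeff j) ≤ 1 := by
    intro j
    rw [hfgen, coeff_sub, coeff_X_pow, finsetSum_coeff]
    refine (Valuation.map_sub _ _ _).trans (max_le ?_ ?_)
    · split_ifs
      · rw [Valuation.map_one]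
      · rw [Valuation.map_zero]; exact zero_le
    · refine Valuation.map_sum_le _ fun i _ => ?_
      rw [coeff_C_mul, coeff_X_pow, map_mul]
      refine mul_le_one' (hreprint i) ?_
      split_ifs
      · rw [Valuation.map_one]
      · rw [Valuation.map_zero]; exact zero_le
  -- reduce the minimal polynomial
  choose c₀ hc₀ using fun j : ℕ => hconst (f.coeff j) (hfcoef j)
  obtain ⟨g, hgdef⟩ : ∃ g : k[X], g = ∑ j ∈ Finset.range (pb.dim + 1), monomial j (c₀ j) :=
    ⟨_, rfl⟩
  have hgcoeff : ∀ j, g.coeff j = if j ≤ pb.dim then c₀ j else 0 := by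
    intro j
    rw [hgdef, finsetSum_coeff]
    simp only [coeff_monomial]
    rw [Finset.sum_ite_eq' (Finset.range (pb.dim + 1)) j]
    simp only [Finset.mem_range, Nat.lt_succ_iff]
  have hcoef : ∀ j, P.1 (algebraMap k⟮x⟯ K (f.coeff j) - algebraMap k K (g.coeff j)) < 1 := by
    intro j
    rw [hgcoeff]
    split_ifs with hj
    · exact hc₀ j
    · rw [coeff_eq_zero_of_natDegree_lt (by rw [hfdeg]; omega), map_zero, map_zero, sub_zero,
        Valuation.map_zero]
      exact zero_lt_one
  have hfy : aeval y f = 0 := by rw [hfdef]; exact minpoly.aeval _ _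
  have h1 : P.1 (aeval y g) < 1 := by
    have := val_aeval_sub_lt_one P hyP g f hcoef
    rwa [hfy, zero_sub, Valuation.map_neg] at this
  have hnat : ∀ m : ℕ, P.1 ((m : K)) ≤ 1 := fun m => by
    have : (m : K) = algebraMap k K (m : k) := (map_natCast _ m).symm
    rw [this]
    exact P.2.1 _
  have hcoef' : ∀ j, P.1 (algebraMap k⟮x⟯ K ((derivative f).coeff j) -
      algebraMap k K ((derivative g).coeff j)) < 1 := by
    intro j
    rw [coeff_derivative, coeff_derivative, map_mul, map_mul, map_add, map_add, map_natCast,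
      map_natCast, map_one, map_one, ← sub_mul, map_mul]
    calc P.1 (algebraMap k⟮x⟯ K (f.coeff (j + 1)) - algebraMap k K (g.coeff (j + 1))) *
          P.1 ((j : K) + 1)
        ≤ P.1 (algebraMap k⟮x⟯ K (f.coeff (j + 1)) - algebraMap k K (g.coeff (j + 1))) * 1 := by
          refine mul_le_mul' le_rfl ?_
          have := hnat (j + 1)
          rwa [Nat.cast_add, Nat.cast_one] at this
      _ < 1 := by rw [mul_one]; exact hcoef (j + 1)
  have h2 : P.1 (aeval y (derivative f) - aeval y (derivative g)) < 1 :=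
    val_aeval_sub_lt_one P hyP (derivative g) (derivative f) hcoef'
  -- `f'(y)` is a unit at `P`
  obtain ⟨u, hudef⟩ : ∃ u, u = aeval y (derivative f) := ⟨_, rfl⟩
  have hnorm : p.1 (Algebra.norm k⟮x⟯ u) = 1 := by
    have h := Algebra.discr_powerBasis_eq_norm k⟮x⟯ pb
    rw [h, map_mul, map_pow, Valuation.map_neg, Valuation.map_one, one_pow, one_mul] at hd
    rw [hudef, hfdef, hydef]
    exact hd
  have hu0 : u ≠ 0 := by
    intro h0
    rw [h0, Algebra.norm_zero, Valuation.map_zero] at hnorm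
    exact zero_ne_one hnorm
  have huO : u ∈ semiO Qs := by
    rw [hudef, aeval_eq_sum_range]
    refine Submodule.sum_mem _ fun j _ => ?_
    rw [Algebra.smul_def]
    refine algebraMap_mul_mem_semiO hQs' ?_ (pow_mem_semiO hyO _)
    rw [coeff_derivative, map_mul]
    refine mul_le_one' (hfcoef _) ?_
    have e : ((j : k⟮x⟯) + 1) = algebraMap k k⟮x⟯ ((j + 1 : ℕ) : k) := by
      rw [map_natCast, Nat.cast_add, Nat.cast_one]
    rw [e]
    exact p.2.1 _
  have h3 : P.1 u = 1 := by
    have hsum := deg_mul_ord_norm_of_mem_semiO hF p Qs hQs hu0 huO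
    rw [Place.ord_eq_zero_of_val_eq_one p hnorm, mul_zero] at hsum
    have hnn : ∀ Q ∈ Qs, (0 : ℤ) ≤ (Q.deg : ℤ) * Q.ord u := fun Q hQ =>
      mul_nonneg (Int.natCast_nonneg _)
        (Place.ord_nonneg_of_val_le_one' Q (mem_semiO.1 huO Q hQ))
    have h0 := (Finset.sum_eq_zero_iff_of_nonneg hnn).1 hsum.symm P hPmem
    have hdeg : (0 : ℤ) < (P.deg : ℤ) := by exact_mod_cast Place.deg_pos hK P
    have hord : P.ord u = 0 := by
      rcases mul_eq_zero.1 h0 with h | h
      · omega
      · exact h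
    rw [Place.val_eq_exp_neg_ord P hu0, hord, neg_zero, WithZero.exp_zero]
  have h4 : P.1 (aeval y (derivative g)) = 1 := by
    have e : aeval y (derivative g) = u - (u - aeval y (derivative g)) := by ring
    rw [e, Valuation.map_sub_eq_of_lt_left]
    · exact h3
    · rw [h3, hudef]
      exact h2
  -- the residue of `y`
  obtain ⟨y', hy'⟩ : ∃ y' : P.O, y' = ⟨y, hyP⟩ := ⟨_, rfl⟩
  have hy'c : (y' : K) = y := by rw [hy']
  obtain ⟨ybar, hybar⟩ : ∃ ybar, ybar = IsLocalRing.residue P.O y' := ⟨_, rfl⟩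
  have hroot : aeval ybar g = 0 := by
    rw [hybar, ← Place.residue_aeval, Place.residue_eq_zero_iff, Place.coe_aeval, hy'c]
    exact h1
  have hder : aeval ybar (derivative g) ≠ 0 := by
    rw [hybar, ← Place.residue_aeval]
    intro h
    rw [Place.residue_eq_zero_iff, Place.coe_aeval, hy'c, h4] at h
    exact lt_irrefl _ h
  have hg0 : g ≠ 0 := by
    rintro rfl
    rw [derivative_zero, map_zero] at hder
    exact hder rfl
  have hint : IsIntegral k ybar := (isAlgebraic_iff_isIntegral.1 ⟨g, hg0, hroot⟩)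
  have hsep : IsSeparable k ybar := by
    obtain ⟨q, hq⟩ := minpoly.dvd k ybar hroot
    show (minpoly k ybar).Separable
    rw [separable_iff_derivative_ne_zero (minpoly.irreducible hint)]
    intro hm0
    apply hder
    rw [hq, derivative_mul, hm0, zero_mul, zero_add, map_mul, minpoly.aeval, zero_mul]
  -- the residue field is generated by the residue of `y`
  have hexp : (WithZero.exp (-((1 : ℕ) : ℤ)) : WithZero (Multiplicative ℤ)) < 1 := by
    rw [← WithZero.exp_zero, WithZero.exp_lt_exp]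
    norm_num
  have hgen : ∀ ξ : IsLocalRing.ResidueField P.O, ξ ∈ Algebra.adjoin k {ybar} := by
    intro ξ
    obtain ⟨z, rfl⟩ := IsLocalRing.residue_surjective ξ
    obtain ⟨z', hz'⟩ := weak_approx Qs (fun Q' => if Q' = P then (z : K) else 0) 1
    have hz'P : P.1 (z' - z) ≤ WithZero.exp (-((1 : ℕ) : ℤ)) := by
      have := hz' P hPmem
      rwa [if_pos rfl] at this
    have hz'O : z' ∈ semiO Qs := by
      rw [mem_semiO]
      intro Q' hQ'
      have h1 := hz' Q' hQ'
      by_cases hQQ : Q' = P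
      · subst hQQ
        rw [if_pos rfl] at h1
        have e : z' = (z' - z) + z := by ring
        rw [e]
        exact (Valuation.map_add _ _ _).trans (max_le (h1.trans hexp.le) z.2)
      · rw [if_neg hQQ, sub_zero] at h1
        exact h1.trans hexp.le
    obtain ⟨c, hc, hceq⟩ := hrepr z' hz'O
    choose b hb using fun i : Fin pb.dim => hconst (c i) (hc i)
    obtain ⟨G, hGdef⟩ : ∃ G : k[X], G = ∑ i : Fin pb.dim, monomial (i : ℕ) (b i) := ⟨_, rfl⟩
    have hGy : aeval y G = ∑ i : Fin pb.dim, algebraMap k K (b i) * y ^ (i : ℕ) := by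
      rw [hGdef, map_sum]
      refine Finset.sum_congr rfl fun i _ => ?_
      rw [aeval_monomial]
    have hclose : P.1 (z' - aeval y G) < 1 := by
      rw [hGy, hceq, ← Finset.sum_sub_distrib]
      refine Valuation.map_sum_lt _ one_ne_zero fun i _ => ?_
      rw [pb.basis_eq_pow, ← hydef, ← sub_mul, map_mul]
      calc P.1 (algebraMap k⟮x⟯ K (c i) - algebraMap k K (b i)) * P.1 (y ^ (i : ℕ))
          ≤ P.1 (algebraMap k⟮x⟯ K (c i) - algebraMap k K (b i)) * 1 := by
            refine mul_le_mul' le_rfl ?_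
            rw [map_pow]
            exact pow_le_one' hyP _
        _ < 1 := by rw [mul_one]; exact hb i
    have hres : IsLocalRing.residue P.O z = aeval ybar G := by
      rw [hybar, ← Place.residue_aeval, ← sub_eq_zero, ← map_sub, Place.residue_eq_zero_iff]
      show P.1 ((z : K) - ((aeval y' G : P.O) : K)) < 1
      rw [Place.coe_aeval, hy'c]
      have e : (z : K) - aeval y G = -(z' - z) + (z' - aeval y G) := by ring
      rw [e]
      refine lt_of_le_of_lt (Valuation.map_add _ _ _) (max_lt ?_ hclose)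
      rw [Valuation.map_neg]
      exact lt_of_le_of_lt hz'P hexp
    rw [hres]
    exact aeval_mem_adjoin_singleton _ _
  -- conclusion
  refine ⟨fun ξ => ?_⟩
  have hle' : Algebra.adjoin k {ybar} ≤
      (separableClosure k (IsLocalRing.ResidueField P.O)).toSubalgebra := by
    apply Algebra.adjoin_le
    intro ζ hζ
    rw [Set.mem_singleton_iff.1 hζ]
    exact hsep
  exact hle' (hgen ξ)

end Main

end FF

end Groth.Agent.Lib.helper10
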