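import Groth.Agent.Lib.Helper10.FunFld58

/-!
Function fields of one variable (helper10), part 59: a function field has infinitely many places;
a geometric function field has infinitely many places with separable residue field.
-/

set_option autoImplicit false
set_option linter.unusedSectionVars false
set_option linter.style.haveILetI false

universe u v w

open IntermediateField FunFld Polynomial

namespace Groth.Agent.Lib.helper10

namespace FF

open RD PA

section Inf

variable {k : Type u} {K : Type v} [Field k] [Field K] [Algebra k K]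

/-- A zero of a nonconstant element, in valuation form. -/
theorem exists_val_lt_one (hK : IsFunctionField k K) {z : K}
    (hz : z ∉ Set.range (algebraMap k K)) : ∃ P : Place k K, P.1 z < 1 := by
  obtain ⟨P, hP⟩ := exists_zero hK hz
  have hz0 : z ≠ 0 := by
    rintro rfl
    exact hz ⟨0, map_zero _⟩
  exact ⟨P, (Place.ord_pos_iff P hz0).1 hP⟩

/-- A function field of one variable has infinitely many places (Euclid). -/
theorem infinite_places (hK : IsFunctionField k K) : (Set.univ : Set (Place k K)).Infinite := by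
  classical
  intro hfin
  obtain ⟨x, hx, -⟩ := hK.1
  have hπ : ∀ P : Place k K, P.1 x ≤ 1 → ∃ m : k[X], m ≠ 0 ∧ P.1 (aeval x m) < 1 := by
    intro P hP
    have hfd := Place.finiteDimensional_residueField hK P
    have hfd' : @Module.Finite k (IsLocalRing.ResidueField P.O) _ _ (Place.algRes P).toModule :=
      hfd
    have hA : Algebra.IsAlgebraic k (IsLocalRing.ResidueField P.O) :=
      Algebra.IsAlgebraic.of_finite k (IsLocalRing.ResidueField P.O)
    have halg : IsAlgebraic k (IsLocalRing.residue P.O ⟨x, hP⟩) :=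
      Algebra.IsAlgebraic.isAlgebraic _
    obtain ⟨m, hm0, hm⟩ := halg
    refine ⟨m, hm0, ?_⟩
    rw [← Place.residue_aeval, Place.residue_eq_zero_iff, Place.coe_aeval] at hm
    exact hm
  choose! π hπ0 hπlt using hπ
  obtain ⟨S₀, hS₀⟩ : ∃ S₀ : Finset (Place k K), S₀ = hfin.toFinset.filter (fun P => P.1 x ≤ 1) :=
    ⟨_, rfl⟩
  have hmemS₀ : ∀ P : Place k K, P ∈ S₀ ↔ P.1 x ≤ 1 := fun P => by
    rw [hS₀, Finset.mem_filter, Set.Finite.mem_toFinset]
    exact ⟨fun h => h.2, fun h => ⟨Set.mem_univ _, h⟩⟩
  obtain ⟨Pr, hPr⟩ : ∃ Pr : k[X], Pr = ∏ P ∈ S₀, π P := ⟨_, rfl⟩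
  have hPr0 : Pr ≠ 0 := by
    rw [hPr]
    exact Finset.prod_ne_zero_iff.2 fun P hP => hπ0 P ((hmemS₀ P).1 hP)
  obtain ⟨g, hg⟩ : ∃ g : k[X], g = X * Pr + 1 := ⟨_, rfl⟩
  have hXPr : (X * Pr).natDegree = Pr.natDegree + 1 := natDegree_X_mul hPr0
  have hgdeg : g.natDegree ≠ 0 := by
    rw [hg, natDegree_add_eq_left_of_natDegree_lt (by rw [natDegree_one, hXPr]; omega), hXPr]
    omega
  have hg0 : g ≠ 0 := by
    rintro rfl
    exact hgdeg natDegree_zero
  have hz := hx.aeval g hgdeg (mem_nonZeroDivisors_of_ne_zero (leadingCoeff_ne_zero.2 hg0))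
  have hznot : aeval x g ∉ Set.range (algebraMap k K) := by
    rintro ⟨c, hc⟩
    exact hz (hc ▸ isAlgebraic_algebraMap c)
  obtain ⟨P, hP⟩ := exists_val_lt_one hK hznot
  by_cases hPx : P.1 x ≤ 1
  · have hPS : P ∈ S₀ := (hmemS₀ P).2 hPx
    have h1 : P.1 (aeval x Pr) < 1 := by
      rw [hPr, ← Finset.mul_prod_erase S₀ _ hPS, map_mul, map_mul]
      calc P.1 (aeval x (π P)) * P.1 (aeval x (∏ Q ∈ S₀.erase P, π Q))
          ≤ P.1 (aeval x (π P)) * 1 :=
            mul_le_mul' le_rfl ((Place.trivOn P).aeval_le_one hPx _)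
        _ < 1 := by rw [mul_one]; exact hπlt P hPx
    have h2 : P.1 (aeval x (X * Pr)) < 1 := by
      rw [map_mul, aeval_X, map_mul]
      calc P.1 x * P.1 (aeval x Pr) ≤ 1 * P.1 (aeval x Pr) := mul_le_mul' hPx le_rfl
        _ < 1 := by rw [one_mul]; exact h1
    have h3 : P.1 (aeval x g) = 1 := by
      rw [hg, map_add, map_one, Valuation.map_add_eq_of_lt_right, Valuation.map_one]
      rw [Valuation.map_one]
      exact h2
    rw [h3] at hP
    exact lt_irrefl _ hP
  · rw [not_le] at hPx
    have h1 := Place.val_aeval_of_one_lt P hPx g hg0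
    rw [h1] at hP
    exact absurd hP (not_lt.2 (one_le_pow_of_one_le' hPx.le _))

/-- **S11004**: a geometric function field of one variable has infinitely many places with
residue field separable over `k`. -/
theorem infinite_separable_places (hK : IsFunctionField k K) (hg : IsGeometric k K) :
    {P : Place k K | Algebra.IsSeparable k (IsLocalRing.ResidueField P.O)}.Infinite := by
  classical
  rcases finite_or_infinite k with hfin | hinf
  · haveI : PerfectField k := PerfectField.ofFinite
    have hall : {P : Place k K | Algebra.IsSeparable k (IsLocalRing.ResidueField P.O)} =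
        Set.univ := by
      ext P
      simp only [Set.mem_ofPred_eq, Set.mem_univ, iff_true]
      have hfd := Place.finiteDimensional_residueField hK P
      have hfd' : @Module.Finite k (IsLocalRing.ResidueField P.O) _ _
          (Place.algRes P).toModule := hfd
      haveI : Algebra.IsAlgebraic k (IsLocalRing.ResidueField P.O) :=
        Algebra.IsAlgebraic.of_finite k (IsLocalRing.ResidueField P.O)
      exact Algebra.IsAlgebraic.isSeparable_of_perfectField
    rw [hall]
    exact infinite_places hK
  · obtain ⟨x, hx, hsep⟩ := Groth.Agent.Lib.helper26.FunFldSep.exists_separating_element hK hg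
    haveI := hsep
    have hfinKF : FiniteDimensional k⟮x⟯ K := by
      obtain ⟨⟨x₀, hx₀, hfin₀⟩, -⟩ := hK
      have hess : Algebra.EssFiniteType k K :=
        Groth.Agent.Lib.helper26.FunFldSep.essFiniteType_of_finite_adjoin x₀
      have hess' : Algebra.EssFiniteType k⟮x⟯ K := Algebra.EssFiniteType.of_comp k k⟮x⟯ K
      have hunr : Algebra.FormallyUnramified k⟮x⟯ K :=
        Algebra.FormallyUnramified.of_isSeparable k⟮x⟯ K
      exact Algebra.FormallyUnramified.finite_of_free k⟮x⟯ K
    have hF : IsFunctionField k k⟮x⟯ := isFunctionField_adjoin_simple hK hx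
    obtain ⟨pb, hpb⟩ : ∃ pb : PowerBasis k⟮x⟯ K, pb = Field.powerBasisOfFiniteOfSeparable k⟮x⟯ K :=
      ⟨_, rfl⟩
    have hd0 : Algebra.discr k⟮x⟯ pb.basis ≠ 0 := Algebra.discr_not_zero_of_basis _ _
    obtain ⟨d, hd⟩ : ∃ d, d = algebraMap k⟮x⟯ K (Algebra.discr k⟮x⟯ pb.basis) := ⟨_, rfl⟩
    have hd'0 : d ≠ 0 := by
      rw [hd]
      exact (_root_.map_ne_zero _).2 hd0
    let B' : Set (Place k K) :=
      ({Q | Q.1 d < 1} ∪ {Q | Q.1 d⁻¹ < 1}) ∪ {Q | 1 < Q.1 pb.gen}
    have hB' : B'.Finite :=
      ((finite_zeros hK hd'0).union (finite_zeros hK (inv_ne_zero hd'0))).union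
        (finite_poles hK pb.gen)
    choose under eU hU using fun Q : Place k K => exists_place_under hF Q
    have hS : (⋃ Q' ∈ B', {Q : Place k K | IsOver Q (under Q')}).Finite :=
      hB'.biUnion fun Q' _ => finite_places_over' hF _
    have hPa : ∀ a : k, ∃ P : Place k K, P.1 (x - algebraMap k K a) < 1 := by
      intro a
      apply exists_val_lt_one hK
      rintro ⟨c, hc⟩
      apply hx
      have : x = algebraMap k K (c + a) := by
        rw [map_add, hc]
        ring
      rw [this]
      exact isAlgebraic_algebraMap _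
    choose Pa hPa using hPa
    have hinj : Function.Injective Pa := by
      intro a b hab
      by_contra hne
      have h1 := hPa a
      have h2 := hPa b
      rw [hab] at h1
      have e : algebraMap k K (b - a) = (x - algebraMap k K a) - (x - algebraMap k K b) := by
        rw [map_sub]
        ring
      have h3 : (Pa b).1 (algebraMap k K (b - a)) < 1 := by
        rw [e]
        exact lt_of_le_of_lt (Valuation.map_sub _ _ _) (max_lt h1 h2)
      rw [Place.val_algebraMap_eq_one (Pa b) (sub_ne_zero.2 (Ne.symm hne))] at h3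
      exact lt_irrefl _ h3
    have hT : (Set.range Pa).Infinite := Set.infinite_range_of_injective hinj
    refine (hT.sdiff hS).mono ?_
    rintro P ⟨⟨a, rfl⟩, hnotS⟩
    have hQP := hU (Pa a)
    obtain ⟨p, hp⟩ : ∃ p, p = under (Pa a) := ⟨_, rfl⟩
    rw [← hp] at hQP
    let Qs := (finite_places_over' (E := K) hF p).toFinset
    have hQs : ∀ Q', Q' ∈ Qs ↔ IsOver Q' p := fun Q' => by
      simp only [Qs, Set.Finite.mem_toFinset, Set.mem_ofPred_eq]
    have hQmem : Pa a ∈ Qs := (hQs _).2 ⟨_, hQP⟩
    have hgood : ∀ Q' ∈ Qs, Q' ∉ B' := by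
      intro Q' hQ' hB
      apply hnotS
      simp only [Set.mem_iUnion, Set.mem_ofPred_eq]
      refine ⟨Q', hB, ?_⟩
      obtain ⟨e', he'⟩ := (hQs Q').1 hQ'
      have : under Q' = p := isOverWith_unique_place (hU Q') he'
      rw [this]
      exact ⟨_, hQP⟩
    have hy : ∀ Q ∈ Qs, Q.1 pb.gen ≤ 1 := by
      intro Q' hQ'
      by_contra hlt
      push Not at hlt
      exact hgood Q' hQ' (Or.inr hlt)
    have hdP : p.1 (Algebra.discr k⟮x⟯ pb.basis) = 1 := by
      have hgd := hgood (Pa a) hQmem
      have h1 : ¬ (Pa a).1 d < 1 := fun h => hgd (Or.inl (Or.inl h))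
      have h2 : ¬ (Pa a).1 d⁻¹ < 1 := fun h => hgd (Or.inl (Or.inr h))
      have h3 : (Pa a).1 d = 1 := by
        refine le_antisymm ?_ (not_lt.1 h1)
        by_contra hlt
        push Not at hlt
        apply h2
        rw [map_inv₀]
        exact inv_lt_one_of_one_lt₀ hlt
      rw [hd, hQP] at h3
      have hpos := isOverWith_pos hQP
      rcases pow_eq_one_iff.1 h3 with h | h
      · exact h
      · omega
    exact isSeparable_residueField_of_good hK hx pb (Pa a) p ⟨_, hQP⟩ Qs hQs hy hdP a (hPa a)

end Inf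

end FF

end Groth.Agent.Lib.helper10
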