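import Groth.Agent.Lib.Helper10.FunFld5

/-!
Function fields of one variable (helper10), part 6: the local ring `k[x]_(x)` inside `k(x)` and the
reduction of `k(x)`-linear independence to `k`-linear independence modulo `x`.
-/

set_option autoImplicit false
set_option linter.unusedSectionVars false

universe u v w

open IntermediateField Polynomial FunFld

namespace Groth.Agent.Lib.helper10

namespace FF

variable {k : Type u} {K : Type v} [Field k] [Field K] [Algebra k K]
  {Γ₀ : Type w} [LinearOrderedCommGroupWithZero Γ₀]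

/-- The local ring `k[x]_(x)`: fractions `r(x)/s(x)` with `s(0) ≠ 0`. -/
def Loc0 (k : Type u) [Field k] [Algebra k K] (x : K) : Set K :=
  {c | ∃ r s : k[X], s.coeff 0 ≠ 0 ∧ c = aeval x r / aeval x s}

theorem Loc0.mem_adjoin {x c : K} (hc : c ∈ Loc0 k x) : c ∈ k⟮x⟯ := by
  obtain ⟨r, s, -, rfl⟩ := hc
  exact (mem_adjoin_simple_iff k _).mpr ⟨r, s, rfl⟩

theorem Loc0.val_le_one {v : Valuation K Γ₀} (hv : TrivOn k v) {x : K} (hx : v x < 1) {c : K}
    (hc : c ∈ Loc0 k x) : v c ≤ 1 := by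
  obtain ⟨r, s, hs, rfl⟩ := hc
  rw [map_div₀, hv.aeval_eq_one hx s hs, div_one]
  exact hv.aeval_le_one hx.le r

/-- Elements of the local ring are constants modulo `x`. -/
theorem Loc0.exists_eq_add_mul {v : Valuation K Γ₀} (hv : TrivOn k v) {x : K} (hx : v x < 1) {c : K}
    (hc : c ∈ Loc0 k x) : ∃ a : k, ∃ c' ∈ Loc0 k x, c = algebraMap k K a + x * c' := by
  obtain ⟨r, s, hs, rfl⟩ := hc
  have hsx : aeval x s ≠ 0 := by
    intro h
    have := hv.aeval_eq_one hx s hs
    rw [h, Valuation.map_zero] at this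
    exact zero_ne_one this
  have hsc : algebraMap k K (s.coeff 0) ≠ 0 := by
    intro h
    have := hv _ hs
    rw [h, Valuation.map_zero] at this
    exact zero_ne_one this
  set q : k[X] := C (s.coeff 0) * divX r - C (r.coeff 0) * divX s with hq
  refine ⟨r.coeff 0 / s.coeff 0, aeval x q / aeval x (C (s.coeff 0) * s), ⟨q, C (s.coeff 0) * s, ?_, rfl⟩, ?_⟩
  · rw [coeff_C_mul]
    exact mul_ne_zero hs hs
  · have hr : aeval x r = aeval x (divX r) * x + algebraMap k K (r.coeff 0) := by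
      conv_lhs => rw [← divX_mul_X_add r]
      simp
    have hs' : aeval x s = aeval x (divX s) * x + algebraMap k K (s.coeff 0) := by
      conv_lhs => rw [← divX_mul_X_add s]
      simp
    have hq' : aeval x q = algebraMap k K (s.coeff 0) * aeval x (divX r) -
        algebraMap k K (r.coeff 0) * aeval x (divX s) := by
      rw [hq]
      simp
    have hcs : aeval x (C (s.coeff 0) * s) = algebraMap k K (s.coeff 0) * aeval x s := by simp
    rw [hq', hcs, map_div₀]
    field_simp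
    rw [hr]
    set A := aeval x (divX r)
    set B := aeval x (divX s)
    set a := algebraMap k K (r.coeff 0)
    set b := algebraMap k K (s.coeff 0)
    rw [hs']
    ring

/-- The valuation ring property of `k[x]_(x)` in `k(x)`. -/
theorem Loc0.mem_or_inv {v : Valuation K Γ₀} (hv : TrivOn k v) {x : K} (hx : v x < 1) (hx0 : x ≠ 0)
    {c : K} (hc : c ∈ k⟮x⟯) (hc1 : v c ≤ 1) : c ∈ Loc0 k x := by
  by_cases hc0 : c = 0
  · exact ⟨0, 1, by simp, by simp [hc0]⟩
  obtain ⟨r, s, rfl⟩ := (mem_adjoin_simple_iff k c).mp hc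
  have hr : r ≠ 0 := by
    rintro rfl
    simp at hc0
  have hs : s ≠ 0 := by
    rintro rfl
    simp at hc0
  have hvx0 : v x ≠ 0 := (Valuation.ne_zero_iff v).mpr hx0
  obtain ⟨r₁, hr₁, hrnd⟩ := exists_eq_pow_rootMultiplicity_mul_and_not_dvd r hr 0
  obtain ⟨s₁, hs₁, hsnd⟩ := exists_eq_pow_rootMultiplicity_mul_and_not_dvd s hs 0
  set m := r.rootMultiplicity 0 with hm
  set l := s.rootMultiplicity 0 with hl
  rw [C_0, sub_zero] at hr₁ hs₁ hrnd hsnd
  have hr₁0 : r₁.coeff 0 ≠ 0 := fun h => hrnd (X_dvd_iff.mpr h)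
  have hs₁0 : s₁.coeff 0 ≠ 0 := fun h => hsnd (X_dvd_iff.mpr h)
  have hvr₁ : v (aeval x r₁) = 1 := hv.aeval_eq_one hx r₁ hr₁0
  have hvs₁ : v (aeval x s₁) = 1 := hv.aeval_eq_one hx s₁ hs₁0
  have er : aeval x r = x ^ m * aeval x r₁ := by
    conv_lhs => rw [hr₁]
    simp
  have es : aeval x s = x ^ l * aeval x s₁ := by
    conv_lhs => rw [hs₁]
    simp
  have hval : v (aeval x r / aeval x s) = v x ^ m / v x ^ l := by
    rw [map_div₀, er, es, Valuation.map_mul, Valuation.map_mul, Valuation.map_pow, Valuation.map_pow,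
      hvr₁, hvs₁, mul_one, mul_one]
  have hlm : l ≤ m := by
    by_contra hlt
    rw [not_le] at hlt
    rw [hval] at hc1
    obtain ⟨d, hd⟩ := Nat.exists_eq_add_of_lt hlt
    have : v x ^ m / v x ^ l = (v x ^ (d + 1))⁻¹ := by
      rw [hd, show m + d + 1 = m + (d + 1) by ring, pow_add, div_mul_cancel_left₀ (pow_ne_zero m hvx0)]
    rw [this] at hc1
    have h1 : v x ^ (d + 1) < 1 := pow_lt_one' hx (Nat.succ_ne_zero d)
    have h2 : (1 : Γ₀) < (v x ^ (d + 1))⁻¹ :=
      (one_lt_inv₀ (zero_lt_iff.mpr (pow_ne_zero _ hvx0))).mpr h1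
    exact absurd hc1 (not_le.mpr h2)
  obtain ⟨d, hd⟩ := Nat.exists_eq_add_of_le hlm
  refine ⟨X ^ d * r₁, s₁, hs₁0, ?_⟩
  rw [er, es, hd, pow_add]
  have hx0' : x ^ l ≠ 0 := pow_ne_zero l hx0
  simp only [map_mul, map_pow, aeval_X]
  rw [mul_assoc, mul_div_mul_left _ _ hx0']

/-- Claim A: elements integral at the zeros `S` of `x` which are `k`-linearly independent modulo `x`
are linearly independent over `k(x)`. -/
theorem linearIndependent_of_mod (S : Finset (Place k K)) (hS : S.Nonempty) {x : K} (hx0 : x ≠ 0)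
    (hxS : ∀ P ∈ S, P.1 x < 1) {ι : Type*} [Fintype ι] (y : ι → K)
    (hy : ∀ i, ∀ P ∈ S, P.1 (y i) ≤ 1)
    (hind : ∀ c : ι → k, (∃ ρ : K, (∀ P ∈ S, P.1 ρ ≤ 1) ∧
      ∑ i, algebraMap k K (c i) * y i = x * ρ) → ∀ i, c i = 0) :
    LinearIndependent k⟮x⟯ y := by
  classical
  obtain ⟨Pr, hPr⟩ := hS
  have hv := Place.trivOn Pr
  have hxr := hxS Pr hPr
  rw [Fintype.linearIndependent_iff]
  intro g hsum
  by_contra hne
  push Not at hne
  obtain ⟨i₁, hi₁⟩ := hne
  set t' : Finset ι := Finset.univ.filter (fun i => g i ≠ 0) with ht'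
  have ht'ne : t'.Nonempty := ⟨i₁, Finset.mem_filter.mpr ⟨Finset.mem_univ _, hi₁⟩⟩
  obtain ⟨i₀, hi₀, hmax⟩ := Finset.exists_max_image t' (fun i => Pr.1 (g i : K)) ht'ne
  have hg₀ : g i₀ ≠ 0 := (Finset.mem_filter.mp hi₀).2
  have hg₀' : (g i₀ : K) ≠ 0 := by simpa using hg₀
  set h : ι → K := fun i => (g i : K) / (g i₀ : K) with hh
  have hhmem : ∀ i, h i ∈ k⟮x⟯ := fun i => div_mem (g i).2 (g i₀).2
  have hh1 : ∀ i, Pr.1 (h i) ≤ 1 := by
    intro i
    rw [hh]
    simp only
    rw [map_div₀]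
    apply div_le_one_of_le₀ _ zero_le
    by_cases hgi : g i = 0
    · rw [hgi]; simp
    · exact hmax i (Finset.mem_filter.mpr ⟨Finset.mem_univ _, hgi⟩)
  have hloc : ∀ i, h i ∈ Loc0 k x := fun i => Loc0.mem_or_inv hv hxr hx0 (hhmem i) (hh1 i)
  have hex : ∀ i, ∃ a : k, ∃ c' ∈ Loc0 k x, h i = algebraMap k K a + x * c' :=
    fun i => Loc0.exists_eq_add_mul hv hxr (hloc i)
  choose a c' hc' ha using hex
  have hsum' : ∑ i, h i * y i = 0 := by
    have h1 : ∑ i, h i * y i = (g i₀ : K)⁻¹ * ∑ i, g i • y i := by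
      rw [Finset.mul_sum]
      apply Finset.sum_congr rfl
      intro i _
      rw [hh, IntermediateField.smul_def, smul_eq_mul]
      field_simp
    rw [h1, hsum, mul_zero]
  have hrel : ∑ i, algebraMap k K (a i) * y i = x * (-∑ i, c' i * y i) := by
    have h2 : ∑ i, h i * y i = ∑ i, algebraMap k K (a i) * y i + x * ∑ i, c' i * y i := by
      rw [Finset.mul_sum, ← Finset.sum_add_distrib]
      apply Finset.sum_congr rfl
      intro i _
      rw [ha i]
      ring
    rw [hsum'] at h2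
    rw [mul_neg]
    exact eq_neg_of_add_eq_zero_left h2.symm
  have hall := hind a ⟨-∑ i, c' i * y i, ?_, hrel⟩
  · have h0 := ha i₀
    rw [hall i₀, map_zero, zero_add, hh] at h0
    simp only at h0
    rw [div_self hg₀'] at h0
    have h1 := congrArg Pr.1 h0
    rw [Valuation.map_one, Valuation.map_mul] at h1
    have h2 : Pr.1 x * Pr.1 (c' i₀) < 1 := by
      calc Pr.1 x * Pr.1 (c' i₀) ≤ Pr.1 x * 1 := by
            gcongr
            exact Loc0.val_le_one hv hxr (hc' i₀)
        _ = Pr.1 x := mul_one _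
        _ < 1 := hxr
    rw [← h1] at h2
    exact lt_irrefl _ h2
  · intro P hP
    rw [Valuation.map_neg]
    apply Valuation.map_sum_le
    intro i _
    rw [Valuation.map_mul]
    exact mul_le_one' (Loc0.val_le_one (Place.trivOn P) (hxS P hP) (hc' i)) (hy i P hP)

end FF

end Groth.Agent.Lib.helper10
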