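import Groth.Agent.Lib.Helper10.FunFld59

/-!
Function fields of one variable (helper10), part 60: places above `P` in radicial extensions and
in separable constant extensions when `F_P / k` is purely inseparable.
-/

set_option autoImplicit false
set_option linter.unusedSectionVars false
set_option linter.style.haveILetI false

universe u v w

open IntermediateField FunFld Polynomial

namespace Groth.Agent.Lib.helper10

namespace FF

open RD PA

section Radicial

variable {k : Type*} {E : Type*} {K' : Type*} [Field k] [Field E] [Field K']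
  [Algebra k E] [Algebra E K'] [Algebra k K'] [IsScalarTower k E K']

/-- Two places of a radicial extension above the same place are equal. -/
theorem place_unique_of_radicial {PE : Place k E} {Q₁ Q₂ : Place k K'} (h₁ : IsOver Q₁ PE)
    (h₂ : IsOver Q₂ PE)
    (hrad : ∀ z : K', ∃ m : ℕ, 0 < m ∧ z ^ m ∈ Set.range (algebraMap E K')) : Q₁ = Q₂ := by
  apply Place.eq_of_O_le
  intro z hz
  have hz1 : Q₁.1 z ≤ 1 := hz
  show Q₂.1 z ≤ 1
  obtain ⟨m, hm, y, hy⟩ := hrad z
  obtain ⟨e₁, he₁⟩ := h₁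
  obtain ⟨e₂, he₂⟩ := h₂
  have hpos₁ := isOverWith_pos he₁
  have h3 : PE.1 y ^ e₁ ≤ 1 := by
    rw [← he₁ y, hy, map_pow]
    exact pow_le_one' hz1 m
  have h4 : PE.1 y ≤ 1 := by
    by_contra hgt
    rw [not_le] at hgt
    exact absurd h3 (not_le.2 (one_lt_pow' hgt (by omega)))
  have h5 : Q₂.1 z ^ m ≤ 1 := by
    rw [← map_pow, ← hy, he₂ y]
    exact pow_le_one' h4 e₂
  by_contra hgt
  rw [not_le] at hgt
  exact absurd h5 (not_le.2 (one_lt_pow' hgt (by omega)))

end Radicial

section RadGen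

variable {k k' K K' : Type*} [Field k] [Field k'] [Field K] [Field K']
  [Algebra k k'] [Algebra k K] [Algebra K K'] [Algebra k' K'] [Algebra k K']
  [IsScalarTower k k' K'] [IsScalarTower k K K']

/-- If every constant of `k'` has a `q`-power in the subring `T ⊇ K`, so has every element of
`K' = k' ⊗_k K`. -/
theorem exists_pow_mem_of_const [FiniteDimensional k k']
    (h : Function.Bijective (Algebra.TensorProduct.productMap
      (IsScalarTower.toAlgHom k k' K') (IsScalarTower.toAlgHom k K K')))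
    (q : ℕ) [ExpChar K' q] (T : Subring K') (hT : ∀ b : K, algebraMap K K' b ∈ T)
    (hk' : ∀ c : k', ∃ n : ℕ, (algebraMap k' K' c) ^ (q ^ n) ∈ T) (z : K') :
    ∃ n : ℕ, z ^ (q ^ n) ∈ T := by
  classical
  obtain ⟨n, hn⟩ : ∃ n, Module.finrank k k' = n := ⟨_, rfl⟩
  let c : Module.Basis (Fin n) k k' := Module.finBasisOfFinrankEq k k' hn
  obtain ⟨bE, hbE⟩ := exists_const_basis h c
  choose m hm using fun i : Fin n => hk' (c i)
  obtain ⟨N, hN⟩ : ∃ N, N = ∑ i, m i := ⟨_, rfl⟩
  have hmN : ∀ i, m i ≤ N := fun i => by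
    rw [hN]
    exact Finset.single_le_sum (fun _ _ => Nat.zero_le _) (Finset.mem_univ i)
  have hw : ∀ i, (bE i) ^ (q ^ N) ∈ T := by
    intro i
    obtain ⟨d, hd⟩ := Nat.exists_eq_add_of_le (hmN i)
    rw [hd, pow_add, pow_mul, hbE]
    exact pow_mem (hm i) _
  refine ⟨N, ?_⟩
  have hz : z = ∑ i, algebraMap K K' (bE.repr z i) * bE i := by
    conv_lhs => rw [← bE.sum_repr z]
    refine Finset.sum_congr rfl fun i _ => ?_
    rw [Algebra.smul_def]
  rw [hz, sum_pow_char_pow]
  refine Subring.sum_mem _ fun i _ => ?_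
  rw [mul_pow]
  exact Subring.mul_mem _ (Subring.pow_mem _ (hT _) _) (hw i)

end RadGen

section SepConst

variable {k k₁ K K₁ : Type*} [Field k] [Field k₁] [Field K] [Field K₁]
  [Algebra k k₁] [Algebra k K] [Algebra K K₁] [Algebra k₁ K₁] [Algebra k K₁]
  [IsScalarTower k k₁ K₁] [IsScalarTower k K K₁]

theorem Place.val_eq_one_of_isAlgebraic {E : Type*} [Field E] [Algebra k E] (Q : Place k E) {c : E}
    (hc : IsAlgebraic k c) (hc0 : c ≠ 0) : Q.1 c = 1 := by
  refine le_antisymm (Place.val_le_one_of_isAlgebraic Q hc) ?_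
  have h1 := Place.val_le_one_of_isAlgebraic Q hc.inv
  rw [map_inv₀] at h1
  by_contra hlt
  rw [not_le] at hlt
  have h0 : Q.1 c ≠ 0 := (Valuation.ne_zero_iff _).2 hc0
  exact absurd h1 (not_le.2 ((one_lt_inv₀ (zero_lt_iff.2 h0)).2 hlt))

/-- In a finite separable constant extension, a place whose residue field is purely inseparable
over `k` has at most one place above it. -/
theorem place_unique_of_sep_const [FiniteDimensional k k₁] [Algebra.IsSeparable k k₁]
    (h₁ : Function.Bijective (Algebra.TensorProduct.productMap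
      (IsScalarTower.toAlgHom k k₁ K₁) (IsScalarTower.toAlgHom k K K₁)))
    (hK : IsFunctionField k K) (P : Place k K) (q : ℕ) [ExpChar k q]
    (hpi : ∀ a : K, P.1 a ≤ 1 → ∃ (n : ℕ) (γ : k), P.1 (a ^ (q ^ n) - algebraMap k K γ) < 1)
    {Qa Qb : Place k K₁} (ha : IsOver Qa P) (hb : IsOver Qb P) : Qa = Qb := by
  classical
  by_contra hne
  haveI : ExpChar K q := expChar_of_injective_algebraMap (algebraMap k K).injective q
  haveI : ExpChar K₁ q := expChar_of_injective_algebraMap (algebraMap k K₁).injective q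
  obtain ⟨n, hn⟩ : ∃ n, Module.finrank k k₁ = n := ⟨_, rfl⟩
  let c : Module.Basis (Fin n) k k₁ := Module.finBasisOfFinrankEq k k₁ hn
  obtain ⟨bE, hbE⟩ := exists_const_basis h₁ c
  have : FiniteDimensional K K₁ := Module.Finite.of_basis bE
  have hnK : Module.finrank K K₁ = n := by
    rw [Module.finrank_eq_card_basis bE, Fintype.card_fin]
  have hdiscr : Algebra.discr K bE = algebraMap k K (Algebra.discr k c) :=
    discr_map_eq (IsScalarTower.toAlgHom k k₁ K₁) c bE (fun i => (hbE i).symm)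
  have hd0 : Algebra.discr k c ≠ 0 := Algebra.discr_not_zero_of_basis k c
  have hdP : P.1 (Algebra.discr K bE) = 1 := by
    rw [hdiscr]
    exact Place.val_algebraMap_eq_one P hd0
  let Qs := (finite_places_over' (E := K₁) hK P).toFinset
  have hQs : ∀ Q', Q' ∈ Qs ↔ IsOver Q' P := fun Q' => by
    simp only [Qs, Set.Finite.mem_toFinset, Set.mem_ofPred_eq]
  have hQs' : ∀ Q ∈ Qs, IsOver Q P := fun Q hQ => (hQs Q).1 hQ
  have hw : ∀ i, bE i ∈ semiO Qs := by
    intro i
    rw [mem_semiO, hbE]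
    intro Q' _
    apply Place.val_le_one_of_isAlgebraic
    exact (Algebra.IsAlgebraic.isAlgebraic (c i)).algebraMap
  have hQa : Qa ∈ Qs := (hQs Qa).2 ha
  have hQb : Qb ∈ Qs := (hQs Qb).2 hb
  have hexp : (WithZero.exp (-((1 : ℕ) : ℤ)) : WithZero (Multiplicative ℤ)) < 1 := by
    rw [← WithZero.exp_zero, WithZero.exp_lt_exp]
    norm_num
  obtain ⟨z, hz⟩ := weak_approx Qs (fun Q => if Q = Qb then (1 : K₁) else 0) 1
  have hza : Qa.1 z < 1 := by
    have := hz Qa hQa
    rw [if_neg hne, sub_zero] at this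
    exact lt_of_le_of_lt this hexp
  have hzb : Qb.1 (z - 1) < 1 := by
    have := hz Qb hQb
    rw [if_pos rfl] at this
    exact lt_of_le_of_lt this hexp
  have hzO : z ∈ semiO Qs := by
    rw [mem_semiO]
    intro Q' hQ'
    have h1 := hz Q' hQ'
    by_cases hQQ : Q' = Qb
    · subst hQQ
      rw [if_pos rfl] at h1
      have e : z = (z - 1) + 1 := by ring
      rw [e]
      refine (Valuation.map_add _ _ _).trans (max_le (h1.trans hexp.le) ?_)
      rw [Valuation.map_one]
    · rw [if_neg hQQ, sub_zero] at h1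
      exact h1.trans hexp.le
  obtain ⟨a, haO, hza_eq⟩ := exists_repr_of_discr hK P Qs hQs hnK bE hw hdP hzO
  choose m γ hmγ using fun i : Fin n => hpi (a i) (haO i)
  obtain ⟨N, hN⟩ : ∃ N, N = ∑ i, m i := ⟨_, rfl⟩
  have hmN : ∀ i, m i ≤ N := fun i => by
    rw [hN]
    exact Finset.single_le_sum (fun _ _ => Nat.zero_le _) (Finset.mem_univ i)
  have hγ' : ∀ i, ∃ γ' : k, P.1 ((a i) ^ (q ^ N) - algebraMap k K γ') < 1 := by
    intro i
    obtain ⟨d, hd⟩ := Nat.exists_eq_add_of_le (hmN i)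
    refine ⟨(γ i) ^ (q ^ d), ?_⟩
    rw [hd, pow_add, pow_mul, map_pow, ← sub_pow_expChar_pow, map_pow]
    exact pow_lt_one' (hmγ i) (pow_pos (expChar_pos k q) d).ne'
  choose γ' hγ'lt using hγ'
  obtain ⟨g, hg⟩ : ∃ g : k₁, g = ∑ i, algebraMap k k₁ (γ' i) * (c i) ^ (q ^ N) := ⟨_, rfl⟩
  have hΓ : algebraMap k₁ K₁ g = ∑ i, algebraMap K K₁ (algebraMap k K (γ' i)) * (bE i) ^ (q ^ N) := by
    rw [hg, map_sum]
    refine Finset.sum_congr rfl fun i _ => ?_
    rw [map_mul, map_pow, ← hbE, ← IsScalarTower.algebraMap_apply, ← IsScalarTower.algebraMap_apply]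
  have hzpow : z ^ (q ^ N) = ∑ i, algebraMap K K₁ ((a i) ^ (q ^ N)) * (bE i) ^ (q ^ N) := by
    rw [hza_eq, sum_pow_char_pow]
    refine Finset.sum_congr rfl fun i _ => ?_
    rw [mul_pow, map_pow]
  have hclose : ∀ Q ∈ Qs, Q.1 (z ^ (q ^ N) - algebraMap k₁ K₁ g) < 1 := by
    intro Q hQ
    rw [hzpow, hΓ, ← Finset.sum_sub_distrib]
    refine Valuation.map_sum_lt _ one_ne_zero fun i _ => ?_
    rw [← sub_mul, ← map_sub, map_mul]
    obtain ⟨e, he⟩ := hQs' Q hQ
    have hepos := isOverWith_pos he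
    have h1 : Q.1 (algebraMap K K₁ ((a i) ^ (q ^ N) - algebraMap k K (γ' i))) < 1 := by
      rw [he]
      exact pow_lt_one' (hγ'lt i) (by omega)
    have h2 : Q.1 ((bE i) ^ (q ^ N)) ≤ 1 := by
      rw [map_pow]
      exact pow_le_one' (mem_semiO.1 (hw i) Q hQ) _
    calc _ ≤ Q.1 (algebraMap K K₁ ((a i) ^ (q ^ N) - algebraMap k K (γ' i))) * 1 :=
          mul_le_mul' le_rfl h2
      _ < 1 := by rw [mul_one]; exact h1
  have hqN : q ^ N ≠ 0 := (pow_pos (expChar_pos k q) N).ne'
  have hg0 : g = 0 := by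
    by_contra hg0
    have h1 : Qa.1 (algebraMap k₁ K₁ g) = 1 := by
      apply Place.val_eq_one_of_isAlgebraic
      · exact (Algebra.IsAlgebraic.isAlgebraic g).algebraMap
      · exact (_root_.map_ne_zero _).2 hg0
    have h2 : Qa.1 (z ^ (q ^ N)) < 1 := by
      rw [map_pow]
      exact pow_lt_one' hza hqN
    have e : algebraMap k₁ K₁ g = z ^ (q ^ N) - (z ^ (q ^ N) - algebraMap k₁ K₁ g) := by ring
    rw [e] at h1
    have h3 := lt_of_le_of_lt (Valuation.map_sub _ _ _) (max_lt h2 (hclose Qa hQa))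
    rw [h1] at h3
    exact lt_irrefl _ h3
  have h4 : Qb.1 (z ^ (q ^ N) - 1) < 1 := by
    have e : z ^ (q ^ N) - 1 = (z - 1) ^ (q ^ N) := by
      rw [sub_pow_expChar_pow, one_pow]
    rw [e, map_pow]
    exact pow_lt_one' hzb hqN
  have h5 := hclose Qb hQb
  rw [hg0, map_zero, sub_zero] at h5
  have e : (1 : K₁) = z ^ (q ^ N) - (z ^ (q ^ N) - 1) := by ring
  have h6 := lt_of_le_of_lt (Valuation.map_sub Qb.1 (z ^ (q ^ N)) (z ^ (q ^ N) - 1)) (max_lt h5 h4)
  rw [← e, Valuation.map_one] at h6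
  exact lt_irrefl _ h6

end SepConst

end FF

end Groth.Agent.Lib.helper10
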