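import Groth.Agent.Lib.Helper10.FunFld60

/-!
Function fields of one variable (helper10), part 61: a finite-dimensional complement from relative
finiteness; bounded denominators of the semilocal ring with respect to a constant basis.
-/

set_option autoImplicit false
set_option linter.unusedSectionVars false
set_option linter.style.haveILetI false

universe u v w

open IntermediateField FunFld Polynomial

namespace Groth.Agent.Lib.helper10

namespace FF

open RD PA

section Compl

variable {k : Type u} [Field k] {V : Type v} [AddCommGroup V] [Module k V]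

/-- If `W / (U ∩ W)` is finite-dimensional, `W ⊆ U + V₀` for a finite-dimensional `V₀`. -/
theorem exists_fd_of_relFin {U W : Submodule k V} (h : RelFin U W) :
    ∃ V₀ : Submodule k V, FiniteDimensional k V₀ ∧ ∀ w ∈ W, ∃ u ∈ U, w - u ∈ V₀ := by
  classical
  haveI : FiniteDimensional k (RQ U W) := h
  let b := Module.finBasis k (RQ U W)
  choose l hl using fun i => Submodule.Quotient.mk_surjective _ (b i)
  refine ⟨Submodule.span k (Set.range fun i => ((l i : W) : V)), ?_, ?_⟩
  · exact FiniteDimensional.span_of_finite k (Set.finite_range _)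
  · intro w hw
    obtain ⟨s, hs⟩ : ∃ s : W, s = ∑ i, b.repr (Submodule.Quotient.mk ⟨w, hw⟩) i • l i := ⟨_, rfl⟩
    have e1 : (Submodule.mkQ (U.comap W.subtype)) s =
        ∑ i, b.repr (Submodule.Quotient.mk ⟨w, hw⟩) i • b i := by
      rw [hs, map_sum]
      refine Finset.sum_congr rfl fun i _ => ?_
      rw [map_smul, Submodule.mkQ_apply, hl]
    have hq : (Submodule.Quotient.mk (⟨w, hw⟩ : W) : RQ U W) = Submodule.Quotient.mk s := by
      rw [← Submodule.mkQ_apply (U.comap W.subtype) s, e1, b.sum_repr]
    rw [Submodule.Quotient.eq] at hq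
    refine ⟨w - (s : V), hq, ?_⟩
    rw [sub_sub_cancel, hs]
    simp only [AddSubmonoidClass.coe_finsetSum, Submodule.coe_smul]
    exact Submodule.sum_mem _ fun i _ => Submodule.smul_mem _ _ (Submodule.subset_span ⟨i, rfl⟩)

end Compl

end FF

end Groth.Agent.Lib.helper10
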