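import Groth.Agent.Lib.Helper10.FunFld61
import Mathlib.RingTheory.Invariant.Basic
import Mathlib.RingTheory.Valuation.RamificationGroup

/-!
Function fields of one variable (helper10), part 62: residue field maps, decomposition groups and
the key lemma on the fixed points of the decomposition group in the residue field.
-/

set_option autoImplicit false
set_option linter.unusedSectionVars false
set_option linter.style.haveILetI false

universe u v w

open IntermediateField FunFld Polynomial

namespace Groth.Agent.Lib.helper10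

namespace FF

open RD PA

section Maps

variable {k : Type u} {F : Type v} {E : Type w} [Field k] [Field F] [Field E]
  [Algebra k F] [Algebra F E] [Algebra k E] [IsScalarTower k F E]

/-- `O_P → O_Q` for `Q` over `P`. -/
def Place.mapO {Q : Place k E} {P : Place k F} (h : IsOver Q P) : ↥P.O →+* ↥Q.O where
  toFun z := ⟨algebraMap F E z.1, by
    obtain ⟨e, he⟩ := h
    show Q.1 (algebraMap F E z.1) ≤ 1
    rw [he]
    exact pow_le_one' z.2 e⟩
  map_one' := Subtype.ext (map_one _)
  map_mul' a b := Subtype.ext (map_mul _ _ _)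
  map_zero' := Subtype.ext (map_zero _)
  map_add' a b := Subtype.ext (map_add _ _ _)

theorem Place.mapO_coe {Q : Place k E} {P : Place k F} (h : IsOver Q P) (z : P.O) :
    ((Place.mapO h z : Q.O) : E) = algebraMap F E z.1 := rfl

theorem Place.residue_mapO_eq_zero {Q : Place k E} {P : Place k F} (h : IsOver Q P)
    (z : P.O) (hz : z ∈ IsLocalRing.maximalIdeal P.O) :
    IsLocalRing.residue Q.O (Place.mapO h z) = 0 := by
  obtain ⟨e, he⟩ := h
  have hepos := isOverWith_pos he
  have hz' : P.1 (z : F) < 1 := by
    rw [← Place.residue_eq_zero_iff, IsLocalRing.residue_eq_zero_iff]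
    exact hz
  rw [Place.residue_eq_zero_iff]
  show Q.1 (algebraMap F E z.1) < 1
  rw [he]
  exact pow_lt_one₀ zero_le hz' (by omega)

/-- The map of residue fields `F_P → F_Q` for `Q` over `P`. -/
noncomputable def Place.mapResRing {Q : Place k E} {P : Place k F} (h : IsOver Q P) :
    IsLocalRing.ResidueField P.O →+* IsLocalRing.ResidueField Q.O :=
  Ideal.Quotient.lift (IsLocalRing.maximalIdeal P.O)
    ((IsLocalRing.residue Q.O).comp (Place.mapO h)) (Place.residue_mapO_eq_zero h)

theorem Place.mapResRing_residue {Q : Place k E} {P : Place k F} (h : IsOver Q P) (z : P.O) :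
    Place.mapResRing h (IsLocalRing.residue P.O z) = IsLocalRing.residue Q.O (Place.mapO h z) :=
  rfl

theorem Place.mapResRing_algebraMap {Q : Place k E} {P : Place k F} (h : IsOver Q P) (c : k) :
    Place.mapResRing h (algebraMap k _ c) = algebraMap k _ c := by
  show Place.mapResRing h (IsLocalRing.residue _ (algebraMap k P.O c)) =
    IsLocalRing.residue _ (algebraMap k Q.O c)
  rw [Place.mapResRing_residue]
  congr 1
  apply Subtype.ext
  show algebraMap F E (algebraMap k F c) = algebraMap k E c
  rw [← IsScalarTower.algebraMap_apply]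

/-- The map of residue fields `F_P → F_Q` as a `k`-algebra homomorphism. -/
noncomputable def Place.mapRes {Q : Place k E} {P : Place k F} (h : IsOver Q P) :
    IsLocalRing.ResidueField P.O →ₐ[k] IsLocalRing.ResidueField Q.O :=
  { Place.mapResRing h with
    commutes' := Place.mapResRing_algebraMap h }

theorem Place.mapRes_residue {Q : Place k E} {P : Place k F} (h : IsOver Q P) (z : P.O) :
    Place.mapRes h (IsLocalRing.residue P.O z) = IsLocalRing.residue Q.O (Place.mapO h z) :=
  rfl

theorem Place.finrank_fieldRange_mapRes {Q : Place k E} {P : Place k F} (h : IsOver Q P) :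
    Module.finrank k (Place.mapRes h).fieldRange = P.deg := by
  have e := AlgEquiv.ofInjectiveField (Place.mapRes h)
  exact e.toLinearEquiv.finrank_eq.symm

/-- An element of `F` that is integral at `Q` is integral at `P`. -/
theorem val_le_one_of_isOverWith {Q : Place k E} {P : Place k F} {e : ℕ} (he : IsOverWith Q P e)
    {a : F} (ha : Q.1 (algebraMap F E a) ≤ 1) : P.1 a ≤ 1 := by
  have hepos := isOverWith_pos he
  rw [he] at ha
  exact (pow_le_one_iff (by omega)).mp ha

end Maps

section Decomp

variable {k : Type u} {F : Type v} {E : Type w} [Field k] [Field F] [Field E]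
  [Algebra k F] [Algebra F E] [Algebra k E] [IsScalarTower k F E]

open scoped Pointwise

theorem mem_decomposition_iff (Q : Place k E) (σ : E ≃ₐ[F] E) :
    σ ∈ (Q.O).decompositionSubgroup F ↔ Place.comapAut Q σ = Q := by
  rw [MulAction.mem_stabilizer_iff, smul_O]
  constructor
  · intro h
    have h1 : Place.comapAut Q σ⁻¹ = Q := Place.eq_of_O_le _ _ h.le
    have h2 := congrArg (fun Q' => Place.comapAut Q' σ) h1
    simp only [Place.comapAut_mul, inv_mul_cancel, Place.comapAut_one] at h2
    exact h2.symm
  · intro h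
    have h2 := congrArg (fun Q' => Place.comapAut Q' σ⁻¹) h
    simp only [Place.comapAut_mul, mul_inv_cancel, Place.comapAut_one] at h2
    rw [← h2]

theorem val_apply_of_mem_decomposition (Q : Place k E) {σ : E ≃ₐ[F] E}
    (hσ : σ ∈ (Q.O).decompositionSubgroup F) (z : E) : Q.1 (σ z) = Q.1 z := by
  have h := (mem_decomposition_iff Q σ).mp hσ
  have h2 : (Place.comapAut Q σ).1 z = Q.1 z := by rw [h]
  exact h2

theorem decomposition_smul_coe (Q : Place k E) (σ : (Q.O).decompositionSubgroup F) (z : Q.O) :
    ((σ • z : Q.O) : E) = σ.1 z.1 := rfl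

/-- **Key lemma**: an element of the residue field of `Q`, separable over `k` and fixed by the
decomposition group, comes from the residue field of `P`. -/
theorem residue_mem_range_of_fixed [FiniteDimensional F E] [IsGalois F E]
    {Q : Place k E} {P : Place k F} (h : IsOver Q P)
    (x : IsLocalRing.ResidueField Q.O) (hsep : IsSeparable k x)
    (hx : ∀ σ : (Q.O).decompositionSubgroup F, σ • x = x) :
    x ∈ (Place.mapRes h).fieldRange := by
  classical
  by_cases hx0 : x = 0
  · rw [hx0]; exact zero_mem _
  obtain ⟨e, he⟩ := id h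
  obtain ⟨ξ₀, hξ₀⟩ := IsLocalRing.residue_surjective x
  obtain ⟨S, hS⟩ : ∃ S : Finset (Place k E),
      S = Finset.univ.image (fun σ : E ≃ₐ[F] E => Place.comapAut Q σ) := ⟨_, rfl⟩
  obtain ⟨z, hz⟩ := weak_approx S (fun Q' => if Q' = Q then (ξ₀ : E) else 0) 1
  have hQS : Q ∈ S := by
    rw [hS]
    exact Finset.mem_image.mpr ⟨1, Finset.mem_univ _, Place.comapAut_one Q⟩
  have hzQ : Q.1 (z - ξ₀) ≤ WithZero.exp (-(1 : ℤ)) := by
    have := hz Q hQS
    rw [if_pos rfl] at this
    exact this
  have hlt : WithZero.exp (-(1 : ℤ)) < (1 : WithZero (Multiplicative ℤ)) := by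
    rw [← WithZero.exp_zero, WithZero.exp_lt_exp]; norm_num
  have hzO : Q.1 z ≤ 1 := by
    have hzz : z = (z - ξ₀) + ξ₀ := by ring
    rw [hzz]
    exact (Q.1.map_add _ _).trans (max_le (hzQ.trans hlt.le) ξ₀.2)
  have hres : IsLocalRing.residue Q.O ⟨z, hzO⟩ = x := by
    rw [← hξ₀, ← sub_eq_zero, ← map_sub, Place.residue_eq_zero_iff]
    exact lt_of_le_of_lt hzQ hlt
  have hσz : ∀ σ : E ≃ₐ[F] E, σ ∉ (Q.O).decompositionSubgroup F →
      Q.1 (σ z) ≤ WithZero.exp (-(1 : ℤ)) := by
    intro σ hσ
    have hne : Place.comapAut Q σ ≠ Q := fun h' => hσ ((mem_decomposition_iff Q σ).mpr h')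
    have := hz (Place.comapAut Q σ) (by
      rw [hS]; exact Finset.mem_image.mpr ⟨σ, Finset.mem_univ _, rfl⟩)
    rw [if_neg hne, sub_zero] at this
    exact this
  have hσO : ∀ σ : E ≃ₐ[F] E, Q.1 (σ z) ≤ 1 := by
    intro σ
    by_cases hσ : σ ∈ (Q.O).decompositionSubgroup F
    · rw [val_apply_of_mem_decomposition Q hσ]; exact hzO
    · exact (hσz σ hσ).trans hlt.le
  -- residues of the conjugates
  have hresσ : ∀ σ : E ≃ₐ[F] E, IsLocalRing.residue Q.O ⟨σ z, hσO σ⟩ =
      if σ ∈ (Q.O).decompositionSubgroup F then x else 0 := by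
    intro σ
    split_ifs with hσ
    · have h1 : (⟨σ z, hσO σ⟩ : Q.O) =
          (⟨σ, hσ⟩ : (Q.O).decompositionSubgroup F) • (⟨z, hzO⟩ : Q.O) := Subtype.ext rfl
      rw [h1, IsLocalRing.ResidueField.residue_smul, hres, hx]
    · rw [Place.residue_eq_zero_iff]
      exact lt_of_le_of_lt (hσz σ hσ) hlt
  -- the polynomial over `O_Q`
  obtain ⟨gO, hgO⟩ : ∃ gO : (Q.O)[X],
      gO = ∏ σ : E ≃ₐ[F] E, (X - C (⟨σ z, hσO σ⟩ : Q.O)) := ⟨_, rfl⟩
  have hmapE : gO.map (Q.O).subtype = MulSemiringAction.charpoly (E ≃ₐ[F] E) z := by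
    rw [hgO, Polynomial.map_prod, MulSemiringAction.charpoly_eq]
    refine Finset.prod_congr rfl fun σ _ => ?_
    rw [Polynomial.map_sub, Polynomial.map_X, Polynomial.map_C]
    rfl
  haveI : Algebra.IsInvariant F E (E ≃ₐ[F] E) :=
    ⟨fun y hy => (IsGalois.mem_range_algebraMap_iff_fixed y).mpr hy⟩
  have hlift := Algebra.IsInvariant.charpoly_mem_lifts F E (E ≃ₐ[F] E) z
  rw [Polynomial.lifts_iff_coeff_lifts] at hlift
  have hmapres : gO.map (IsLocalRing.residue Q.O) =
      ∏ σ : E ≃ₐ[F] E, (if σ ∈ (Q.O).decompositionSubgroup F then X - C x else X) := by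
    rw [hgO, Polynomial.map_prod]
    refine Finset.prod_congr rfl fun σ _ => ?_
    rw [Polynomial.map_sub, Polynomial.map_X, Polynomial.map_C, hresσ σ]
    split_ifs
    · rfl
    · rw [map_zero, sub_zero]
  -- coefficients of the reduction lie in the range
  have hcoeff : ∀ n : ℕ, (gO.map (IsLocalRing.residue Q.O)).coeff n ∈
      (Place.mapRes h).fieldRange := by
    intro n
    obtain ⟨a, ha⟩ := hlift n
    have h1 : ((gO.coeff n : Q.O) : E) = algebraMap F E a := by
      rw [ha, ← hmapE, Polynomial.coeff_map]
      rfl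
    have haP : P.1 a ≤ 1 := by
      apply val_le_one_of_isOverWith he
      rw [← h1]
      exact (gO.coeff n).2
    have h2 : gO.coeff n = Place.mapO h ⟨a, haP⟩ := Subtype.ext h1
    rw [Polynomial.coeff_map, h2, ← Place.mapRes_residue]
    exact ⟨_, rfl⟩
  obtain ⟨κ, hκ⟩ : ∃ κ : IntermediateField k (IsLocalRing.ResidueField Q.O),
      κ = (Place.mapRes h).fieldRange := ⟨_, rfl⟩
  rw [← hκ] at hcoeff ⊢
  have hgl : gO.map (IsLocalRing.residue Q.O) ∈
      Polynomial.lifts (algebraMap κ (IsLocalRing.ResidueField Q.O)) := by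
    rw [Polynomial.lifts_iff_coeff_lifts]
    intro n
    exact ⟨⟨_, hcoeff n⟩, rfl⟩
  obtain ⟨q, hq⟩ := (Polynomial.mem_lifts _).mp hgl
  have hsepκ : IsSeparable κ x := hsep.tower_top κ
  have hint : IsIntegral κ x := hsepκ.isIntegral
  have hroot : (gO.map (IsLocalRing.residue Q.O)).eval x = 0 := by
    rw [hmapres, Polynomial.eval_prod]
    apply Finset.prod_eq_zero (Finset.mem_univ (1 : E ≃ₐ[F] E))
    rw [if_pos (one_mem _)]
    simp
  have hdvd : minpoly κ x ∣ q := by
    apply minpoly.dvd
    rw [Polynomial.aeval_def, Polynomial.eval₂_eq_eval_map, hq]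
    exact hroot
  have hdvdL : (minpoly κ x).map (algebraMap κ (IsLocalRing.ResidueField Q.O)) ∣
      gO.map (IsLocalRing.residue Q.O) := by
    rw [← hq]
    exact Polynomial.map_dvd _ hdvd
  have hg0 : gO.map (IsLocalRing.residue Q.O) ≠ 0 := by
    rw [hmapres]
    apply Polynomial.Monic.ne_zero
    apply Polynomial.monic_prod_of_monic
    intro σ _
    split_ifs
    · exact Polynomial.monic_X_sub_C x
    · exact Polynomial.monic_X
  have hgsplits : (gO.map (IsLocalRing.residue Q.O)).Splits := by
    rw [hmapres]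
    apply Polynomial.Splits.prod
    intro σ _
    split_ifs
    · exact Polynomial.Splits.X_sub_C x
    · exact Polynomial.Splits.X
  have hμsplits := Polynomial.Splits.of_dvd hgsplits hg0 hdvdL
  have hμsep : ((minpoly κ x).map (algebraMap κ (IsLocalRing.ResidueField Q.O))).Separable :=
    Polynomial.Separable.map (f := algebraMap κ (IsLocalRing.ResidueField Q.O)) hsepκ
  have hroots : ∀ y ∈ ((minpoly κ x).map (algebraMap κ (IsLocalRing.ResidueField Q.O))).roots,
      y = x := by
    intro y hy
    have hy0 : ((minpoly κ x).map (algebraMap κ (IsLocalRing.ResidueField Q.O))).eval y = 0 :=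
      ((Polynomial.mem_roots').mp hy).2
    have hyg : (gO.map (IsLocalRing.residue Q.O)).eval y = 0 := by
      obtain ⟨c, hc⟩ := hdvdL
      rw [hc, Polynomial.eval_mul, hy0, zero_mul]
    rw [hmapres, Polynomial.eval_prod, Finset.prod_eq_zero_iff] at hyg
    obtain ⟨σ, -, hσ⟩ := hyg
    split_ifs at hσ with hσD
    · rw [Polynomial.eval_sub, Polynomial.eval_X, Polynomial.eval_C, sub_eq_zero] at hσ
      exact hσ
    · exfalso
      rw [Polynomial.eval_X] at hσ
      rw [hσ, ← Polynomial.coeff_zero_eq_eval_zero, Polynomial.coeff_map] at hy0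
      exact minpoly.coeff_zero_ne_zero hint hx0 ((map_eq_zero _).mp hy0)
  have hcard : ((minpoly κ x).map (algebraMap κ (IsLocalRing.ResidueField Q.O))).roots.card ≤ 1 := by
    have hnd := Polynomial.nodup_roots hμsep
    rw [← Multiset.toFinset_card_of_nodup hnd]
    have hsub : ((minpoly κ x).map (algebraMap κ (IsLocalRing.ResidueField Q.O))).roots.toFinset ⊆
        {x} := by
      intro y hy
      rw [Multiset.mem_toFinset] at hy
      rw [Finset.mem_singleton]
      exact hroots y hy
    exact (Finset.card_le_card hsub).trans (by simp)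
  have hdeg : (minpoly κ x).natDegree ≤ 1 := by
    rw [← Polynomial.natDegree_map (algebraMap κ (IsLocalRing.ResidueField Q.O)),
      hμsplits.natDegree_eq_card_roots]
    exact hcard
  have hdeg1 : (minpoly κ x).natDegree = 1 := le_antisymm hdeg (minpoly.natDegree_pos hint)
  obtain ⟨⟨c, hc⟩, hcx⟩ := (minpoly.natDegree_eq_one_iff).mp hdeg1
  rw [← hcx]
  exact hc

end Decomp

section Inertia

variable {k : Type u} {F : Type v} {E : Type w} [Field k] [Field F] [Field E]
  [Algebra k F] [Algebra F E] [Algebra k E] [IsScalarTower k F E]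

theorem decomposition_smul_algebraMap (Q : Place k E) (σ : (Q.O).decompositionSubgroup F)
    (c : k) : σ • (algebraMap k (IsLocalRing.ResidueField Q.O) c) =
      algebraMap k (IsLocalRing.ResidueField Q.O) c := by
  show σ • (IsLocalRing.residue Q.O (algebraMap k Q.O c)) =
    IsLocalRing.residue Q.O (algebraMap k Q.O c)
  rw [← IsLocalRing.ResidueField.residue_smul]
  congr 1
  apply Subtype.ext
  show σ.1 (algebraMap k E c) = algebraMap k E c
  rw [IsScalarTower.algebraMap_apply k F E, σ.1.commutes]

/-- The action of the decomposition group on the residue field, by `k`-algebra automorphisms. -/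
noncomputable def decompToAut (Q : Place k E) :
    (Q.O).decompositionSubgroup F →*
      (IsLocalRing.ResidueField Q.O ≃ₐ[k] IsLocalRing.ResidueField Q.O) where
  toFun σ := AlgEquiv.ofRingEquiv
    (f := MulSemiringAction.toRingAut _ (IsLocalRing.ResidueField Q.O) σ)
    (decomposition_smul_algebraMap Q σ)
  map_one' := by
    ext x
    show (1 : (Q.O).decompositionSubgroup F) • x = x
    rw [one_smul]
  map_mul' σ τ := by
    ext x
    show (σ * τ) • x = σ • (τ • x)
    rw [mul_smul]

theorem decompToAut_apply (Q : Place k E) (σ : (Q.O).decompositionSubgroup F)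
    (x : IsLocalRing.ResidueField Q.O) : decompToAut Q σ x = σ • x := rfl

theorem ker_decompToAut (Q : Place k E) :
    (decompToAut (F := F) Q).ker = (Q.O).inertiaSubgroup F := by
  ext σ
  rw [MonoidHom.mem_ker]
  show _ ↔ σ ∈ MonoidHom.ker _
  rw [MonoidHom.mem_ker]
  constructor
  · intro h
    ext x
    have := congrArg (fun f => f x) h
    exact this
  · intro h
    ext x
    have := congrArg (fun f => f x) h
    exact this

theorem fixedField_decompToAut [FiniteDimensional F E] [IsGalois F E]
    {Q : Place k E} {P : Place k F} (h : IsOver Q P)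
    [Algebra.IsSeparable k (IsLocalRing.ResidueField Q.O)] :
    IntermediateField.fixedField (decompToAut (F := F) Q).range = (Place.mapRes h).fieldRange := by
  apply le_antisymm
  · intro x hx
    rw [IntermediateField.mem_fixedField_iff] at hx
    apply residue_mem_range_of_fixed h x (Algebra.IsSeparable.isSeparable k x)
    intro σ
    exact hx _ ⟨σ, rfl⟩
  · rintro x ⟨y, rfl⟩
    rw [IntermediateField.mem_fixedField_iff]
    rintro f ⟨σ, rfl⟩
    obtain ⟨w, rfl⟩ := IsLocalRing.residue_surjective y
    show σ • (IsLocalRing.residue Q.O (Place.mapO h w)) = IsLocalRing.residue Q.O (Place.mapO h w)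
    rw [← IsLocalRing.ResidueField.residue_smul]
    congr 1
    apply Subtype.ext
    show σ.1 (algebraMap F E w.1) = algebraMap F E w.1
    exact σ.1.commutes _

/-- **S11023** (general form): the inertia group has order `e(Q|P)` when the residue field of `Q`
is separable over `k`. -/
theorem card_inertia_eq [FiniteDimensional F E] [IsGalois F E]
    (hF : IsFunctionField k F) {Q : Place k E} {P : Place k F} {e : ℕ} (he : IsOverWith Q P e)
    [Algebra.IsSeparable k (IsLocalRing.ResidueField Q.O)] :
    Nat.card ((Q.O).inertiaSubgroup F) = e := by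
  have h1 := card_decomposition_mul_deg hF he
  have h2 : Nat.card ((Q.O).inertiaSubgroup F) * Nat.card (decompToAut (F := F) Q).range =
      Nat.card ((Q.O).decompositionSubgroup F) := by
    rw [← ker_decompToAut, ← Subgroup.index_ker]
    exact Subgroup.card_mul_index _
  haveI : @Module.Finite k (IsLocalRing.ResidueField Q.O) _ _ (Place.algRes Q).toModule :=
    Place.finiteDimensional_residueField' hF Q
  have h3 : Nat.card (decompToAut (F := F) Q).range * P.deg = Q.deg := by
    rw [← IntermediateField.finrank_fixedField_eq_card, fixedField_decompToAut ⟨e, he⟩,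
      ← Place.finrank_fieldRange_mapRes ⟨e, he⟩, mul_comm]
    have htower : Module.finrank k (Place.mapRes (⟨e, he⟩ : IsOver Q P)).fieldRange *
        Module.finrank (Place.mapRes (⟨e, he⟩ : IsOver Q P)).fieldRange
          (IsLocalRing.ResidueField Q.O) =
        @Module.finrank k (IsLocalRing.ResidueField Q.O) _ _ (Place.algRes Q).toModule :=
      Module.finrank_mul_finrank k _ _
    exact htower
  have hpos : 0 < Q.deg := Place.deg_pos' hF Q
  rw [← h2, ← h3, mul_assoc] at h1
  rw [← h3] at hpos
  exact Nat.eq_of_mul_eq_mul_right hpos h1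

end Inertia

end FF

end Groth.Agent.Lib.helper10
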