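import Groth.Agent.Lib.Helper10.FunFld63

/-!
Function fields of one variable (helper10), part 64: higher ramification groups via a uniformizer.
-/

set_option autoImplicit false
set_option linter.unusedSectionVars false
set_option linter.style.haveILetI false

universe u v w

open IntermediateField FunFld Polynomial

namespace Groth.Agent.Lib.helper10

namespace FF

open RD PA

section Ram

variable {k : Type u} {F : Type v} {E : Type w} [Field k] [Field F] [Field E]
  [Algebra k F] [Algebra F E] [Algebra k E] [IsScalarTower k F E]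

/-- Every integral element is congruent modulo `Q` to an integral element fixed by the inertia
group. -/
theorem exists_fixed_approx [FiniteDimensional F E] [IsGalois F E]
    (hF : IsFunctionField k F) (Q : Place k E)
    [Algebra.IsSeparable k (IsLocalRing.ResidueField Q.O)] {x : E} (hx : Q.1 x ≤ 1) :
    ∃ a : E, (∀ σ ∈ inertiaImage (F := F) Q, σ a = a) ∧ Q.1 a ≤ 1 ∧ Q.1 (x - a) < 1 := by
  obtain ⟨M, hM⟩ : ∃ M : IntermediateField F E,
      M = IntermediateField.fixedField (inertiaImage (F := F) Q) := ⟨_, rfl⟩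
  have hMff : IsFunctionField (algebraicClosure k M) M :=
    isFunctionField_algebraicClosure' (F := F) (E := M) hF
  obtain ⟨QM, e, he⟩ := exists_place_under' (F := M) (E := E) hMff Q
  have hover : IsOver Q QM := ⟨e, he⟩
  have hfix : ∀ σ : (Q.O).decompositionSubgroup M,
      σ • (IsLocalRing.residue Q.O ⟨x, hx⟩) = IsLocalRing.residue Q.O ⟨x, hx⟩ := by
    intro σ
    have h1 : σ.1.restrictScalars F ∈ inertiaImage (F := F) Q := by
      rw [← IntermediateField.fixingSubgroup_fixedField (inertiaImage (F := F) Q), ← hM,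
        IntermediateField.mem_fixingSubgroup_iff]
      intro y hy
      exact σ.1.commutes ⟨y, hy⟩
    have h2 := (mem_inertiaImage_iff Q _).mp h1 x hx
    rw [← IsLocalRing.ResidueField.residue_smul, ← sub_eq_zero, ← map_sub,
      Place.residue_eq_zero_iff]
    exact h2
  have hmem := residue_mem_range_of_fixed hover (IsLocalRing.residue Q.O ⟨x, hx⟩)
    (Algebra.IsSeparable.isSeparable k _) hfix
  obtain ⟨y, hy⟩ := hmem
  obtain ⟨w, rfl⟩ := IsLocalRing.residue_surjective y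
  have hy' : IsLocalRing.residue Q.O (Place.mapO hover w) = IsLocalRing.residue Q.O ⟨x, hx⟩ := hy
  refine ⟨algebraMap M E w.1, ?_, (Place.mapO hover w).2, ?_⟩
  · intro σ hσ
    have hw : (w.1 : E) ∈ IntermediateField.fixedField (inertiaImage (F := F) Q) := by
      rw [← hM]
      exact w.1.2
    exact (IntermediateField.mem_fixedField_iff _ _).mp hw σ hσ
  · have h3 : IsLocalRing.residue Q.O (⟨x, hx⟩ - Place.mapO hover w) = 0 := by
      rw [map_sub, hy', sub_self]
    rw [Place.residue_eq_zero_iff] at h3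
    exact h3

/-- An inertia element moving a uniformizer by `Q^j` moves every integral element by `Q^j`. -/
theorem ramification_of_uniformizer [FiniteDimensional F E] [IsGalois F E]
    (hF : IsFunctionField k F) (Q : Place k E)
    [Algebra.IsSeparable k (IsLocalRing.ResidueField Q.O)] {σ : E ≃ₐ[F] E}
    (hσ : σ ∈ inertiaImage (F := F) Q) {t : E} (ht : Q.1 t = WithZero.exp (-1 : ℤ)) :
    ∀ j : ℕ, 1 ≤ j → Q.1 (σ t - t) ≤ WithZero.exp (-(j : ℤ)) →
      ∀ x : E, Q.1 x ≤ 1 → Q.1 (σ x - x) ≤ WithZero.exp (-(j : ℤ)) := by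
  have ht0 : t ≠ 0 := by
    rintro rfl
    rw [Valuation.map_zero] at ht
    exact WithZero.exp_ne_zero ht.symm
  have hσD := inertiaImage_le_decomposition Q hσ
  intro j hj
  induction j, hj using Nat.le_induction with
  | base =>
    intro _ x hx
    rw [Nat.cast_one]
    exact (lt_one_iff_le_exp_neg_one _).mp ((mem_inertiaImage_iff Q σ).mp hσ x hx)
  | succ j hj ih =>
    intro hj1 x hx
    have hjt : Q.1 (σ t - t) ≤ WithZero.exp (-(j : ℤ)) :=
      hj1.trans (WithZero.exp_le_exp.mpr (by push_cast; omega))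
    obtain ⟨a, ha_fix, haO, hxa⟩ := exists_fixed_approx hF Q hx
    obtain ⟨y, hy_def⟩ : ∃ y : E, y = (x - a) / t := ⟨_, rfl⟩
    have hy : Q.1 y ≤ 1 := by
      rw [hy_def, map_div₀, ht, div_le_one₀ WithZero.exp_pos]
      exact (lt_one_iff_le_exp_neg_one _).mp hxa
    have hx_eq : x = a + t * y := by
      rw [hy_def]
      field_simp
      ring
    have hσy : Q.1 (σ y) ≤ 1 := by
      rw [val_apply_of_mem_decomposition Q hσD]
      exact hy
    have key : σ x - x = (σ t - t) * σ y + t * (σ y - y) := by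
      rw [hx_eq, map_add, map_mul, ha_fix σ hσ]
      ring
    rw [key]
    refine (Q.1.map_add _ _).trans (max_le ?_ ?_)
    · rw [map_mul]
      calc Q.1 (σ t - t) * Q.1 (σ y) ≤ WithZero.exp (-((j + 1 : ℕ) : ℤ)) * 1 :=
            mul_le_mul' hj1 hσy
        _ = _ := mul_one _
    · rw [map_mul, ht]
      have h1 := ih hjt y hy
      calc WithZero.exp (-1 : ℤ) * Q.1 (σ y - y)
          ≤ WithZero.exp (-1 : ℤ) * WithZero.exp (-(j : ℤ)) := mul_le_mul' le_rfl h1
        _ = WithZero.exp (-((j + 1 : ℕ) : ℤ)) := by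
            rw [← WithZero.exp_add]
            congr 1
            push_cast
            ring

/-- **S11027**. -/
theorem mem_ramificationGroup_iff_uniformizer [FiniteDimensional F E] [IsGalois F E]
    (hF : IsFunctionField k F) (Q : Place k E)
    [Algebra.IsSeparable k (IsLocalRing.ResidueField Q.O)] (σ : E ≃ₐ[F] E)
    (hσ : ∀ x : E, Q.1 x ≤ 1 → Q.1 (σ x - x) ≤ WithZero.exp (-(1 : ℤ))) (t : E)
    (ht : Q.1 t = WithZero.exp (-1)) (j : ℕ) (hj : 1 ≤ j) :
    (∀ x : E, Q.1 x ≤ 1 → Q.1 (σ x - x) ≤ WithZero.exp (-(j : ℤ))) ↔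
      Q.1 (σ t - t) ≤ WithZero.exp (-(j : ℤ)) := by
  constructor
  · intro h
    apply h t
    rw [ht, ← WithZero.exp_zero, WithZero.exp_le_exp]
    norm_num
  · intro h
    have hσI : σ ∈ inertiaImage (F := F) Q := by
      rw [mem_inertiaImage_iff]
      intro z hz
      exact (lt_one_iff_le_exp_neg_one _).mpr (hσ z hz)
    exact ramification_of_uniformizer hF Q hσI ht j hj h

theorem residue_eq_of_val_sub_lt (Q : Place k E) {a b : E} (ha : Q.1 a ≤ 1) (hb : Q.1 b ≤ 1)
    (h : Q.1 (a - b) < 1) :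
    IsLocalRing.residue Q.O ⟨a, ha⟩ = IsLocalRing.residue Q.O ⟨b, hb⟩ := by
  rw [← sub_eq_zero, ← map_sub, Place.residue_eq_zero_iff]
  exact h

theorem val_sub_lt_of_residue_eq (Q : Place k E) {a b : E} (ha : Q.1 a ≤ 1) (hb : Q.1 b ≤ 1)
    (h : IsLocalRing.residue Q.O ⟨a, ha⟩ = IsLocalRing.residue Q.O ⟨b, hb⟩) :
    Q.1 (a - b) < 1 := by
  rw [← sub_eq_zero, ← map_sub, Place.residue_eq_zero_iff] at h
  exact h

theorem val_apply_div_self (Q : Place k E) {σ : E ≃ₐ[F] E}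
    (hσ : σ ∈ (Q.O).decompositionSubgroup F) {t : E} (ht0 : Q.1 t ≠ 0) :
    Q.1 (σ t / t) = 1 := by
  rw [map_div₀, val_apply_of_mem_decomposition Q hσ, div_self ht0]

/-- The tame character `σ ↦ σ(t)/t mod Q` on the inertia group. -/
noncomputable def tameChar (Q : Place k E) {t : E} (ht0 : Q.1 t ≠ 0) :
    inertiaImage (F := F) Q →* IsLocalRing.ResidueField Q.O where
  toFun σ := IsLocalRing.residue Q.O ⟨σ.1 t / t,
    (val_apply_div_self Q (inertiaImage_le_decomposition Q σ.2) ht0).le⟩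
  map_one' := by
    have ht : t ≠ 0 := fun h => ht0 (by rw [h, Valuation.map_zero])
    show IsLocalRing.residue Q.O _ = 1
    rw [← map_one (IsLocalRing.residue Q.O)]
    congr 1
    apply Subtype.ext
    exact div_self ht
  map_mul' σ τ := by
    have ht : t ≠ 0 := fun h => ht0 (by rw [h, Valuation.map_zero])
    have hσD := inertiaImage_le_decomposition Q σ.2
    have hτD := inertiaImage_le_decomposition Q τ.2
    have hτ1 : Q.1 (τ.1 t / t) ≤ 1 := (val_apply_div_self Q hτD ht0).le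
    have hσ1 : Q.1 (σ.1 t / t) ≤ 1 := (val_apply_div_self Q hσD ht0).le
    have hστ1 : Q.1 (σ.1 (τ.1 t / t)) ≤ 1 := by
      rw [val_apply_of_mem_decomposition Q hσD]
      exact hτ1
    have hσt : σ.1 t ≠ 0 := (_root_.map_ne_zero _).mpr ht
    have h1 : (⟨(σ * τ).1 t / t, (val_apply_div_self Q
        (inertiaImage_le_decomposition Q (σ * τ).2) ht0).le⟩ : Q.O) =
        ⟨σ.1 (τ.1 t / t), hστ1⟩ * ⟨σ.1 t / t, hσ1⟩ := by
      apply Subtype.ext
      show σ.1 (τ.1 t) / t = σ.1 (τ.1 t / t) * (σ.1 t / t)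
      rw [map_div₀]
      field_simp
    have h2 : IsLocalRing.residue Q.O ⟨σ.1 (τ.1 t / t), hστ1⟩ =
        IsLocalRing.residue Q.O ⟨τ.1 t / t, hτ1⟩ :=
      residue_eq_of_val_sub_lt Q hστ1 hτ1 ((mem_inertiaImage_iff Q σ.1).mp σ.2 _ hτ1)
    show IsLocalRing.residue Q.O _ = IsLocalRing.residue Q.O _ * IsLocalRing.residue Q.O _
    rw [h1, map_mul, h2, mul_comm]

theorem tameChar_apply (Q : Place k E) {t : E} (ht0 : Q.1 t ≠ 0)
    (σ : inertiaImage (F := F) Q) :
    tameChar Q ht0 σ = IsLocalRing.residue Q.O ⟨σ.1 t / t,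
      (val_apply_div_self Q (inertiaImage_le_decomposition Q σ.2) ht0).le⟩ := rfl

/-- The kernel of the tame character is `G₂`. -/
theorem val_sub_le_of_tameChar_eq_one (Q : Place k E) {t : E} (ht : Q.1 t = WithZero.exp (-1 : ℤ))
    (σ : inertiaImage (F := F) Q)
    (h : tameChar Q (t := t) (by rw [ht]; exact WithZero.exp_ne_zero) σ = 1) :
    Q.1 (σ.1 t - t) ≤ WithZero.exp (-(2 : ℤ)) := by
  have ht0 : Q.1 t ≠ 0 := by rw [ht]; exact WithZero.exp_ne_zero
  have htt : t ≠ 0 := fun h => ht0 (by rw [h, Valuation.map_zero])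
  rw [tameChar_apply] at h
  have h1 : IsLocalRing.residue Q.O ⟨σ.1 t / t,
      (val_apply_div_self Q (inertiaImage_le_decomposition Q σ.2) ht0).le⟩ =
      IsLocalRing.residue Q.O ⟨1, (Valuation.map_one Q.1).le⟩ := by
    rw [h]
    exact (map_one _).symm
  have h2 := val_sub_lt_of_residue_eq Q _ _ h1
  have h3 : σ.1 t - t = t * (σ.1 t / t - 1) := by
    field_simp
  rw [h3, map_mul, ht]
  have h4 : WithZero.exp (-1 : ℤ) * Q.1 (σ.1 t / t - 1) < WithZero.exp (-1 : ℤ) * 1 :=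
    mul_lt_mul_of_pos_left h2 WithZero.exp_pos
  rw [mul_one, lt_exp_iff_le_exp_sub_one] at h4
  exact h4

/-- **S11024**: `G₁/G₂` is cyclic. -/
theorem exists_generator_mod_G2 [FiniteDimensional F E] [IsGalois F E]
    (hF : IsFunctionField k F) (Q : Place k E)
    [Algebra.IsSeparable k (IsLocalRing.ResidueField Q.O)] :
    ∃ σ₀ : E ≃ₐ[F] E, (∀ x : E, Q.1 x ≤ 1 → Q.1 (σ₀ x - x) ≤ WithZero.exp (-(1 : ℤ))) ∧
      ∀ σ : E ≃ₐ[F] E, (∀ x : E, Q.1 x ≤ 1 → Q.1 (σ x - x) ≤ WithZero.exp (-(1 : ℤ))) →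
        ∃ n : ℕ, (∀ x : E, Q.1 x ≤ 1 →
          Q.1 (((σ₀ ^ n)⁻¹ * σ) x - x) ≤ WithZero.exp (-(2 : ℤ))) := by
  obtain ⟨t, ht⟩ := Place.exists_uniformizer Q
  have ht0 : Q.1 t ≠ 0 := by rw [ht]; exact WithZero.exp_ne_zero
  obtain ⟨θ, hθ⟩ : ∃ θ : inertiaImage (F := F) Q →* (IsLocalRing.ResidueField Q.O)ˣ,
      θ = (tameChar (F := F) Q ht0).toHomUnits := ⟨_, rfl⟩
  haveI : Finite θ.range := Finite.of_surjective θ.rangeRestrict θ.rangeRestrict_surjective
  obtain ⟨g, hg⟩ := IsCyclic.exists_monoid_generator (α := θ.range)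
  obtain ⟨σ₀, hσ₀⟩ := g.2
  refine ⟨σ₀.1, fun x hx => (lt_one_iff_le_exp_neg_one _).mp
    ((mem_inertiaImage_iff Q σ₀.1).mp σ₀.2 x hx), ?_⟩
  intro σ hσ
  have hσI : σ ∈ inertiaImage (F := F) Q := by
    rw [mem_inertiaImage_iff]
    intro z hz
    exact (lt_one_iff_le_exp_neg_one _).mpr (hσ z hz)
  obtain ⟨n, hn⟩ := Submonoid.mem_powers_iff _ _ |>.mp (hg ⟨θ ⟨σ, hσI⟩, ⟨_, rfl⟩⟩)
  refine ⟨n, ?_⟩
  have hn' : θ σ₀ ^ n = θ ⟨σ, hσI⟩ := by
    have := congrArg Subtype.val hn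
    rw [SubmonoidClass.coe_pow, ← hσ₀] at this
    exact this
  obtain ⟨ρ, hρ⟩ : ∃ ρ : inertiaImage (F := F) Q, ρ = (σ₀ ^ n)⁻¹ * ⟨σ, hσI⟩ := ⟨_, rfl⟩
  have hθρ : θ ρ = 1 := by
    rw [hρ, map_mul, map_inv, map_pow, hn', inv_mul_cancel]
  have hρ' : tameChar (F := F) Q ht0 ρ = 1 := by
    have := congrArg Units.val hθρ
    rw [hθ] at this
    exact this
  have h2 := val_sub_le_of_tameChar_eq_one Q ht ρ hρ'
  have h3 := ramification_of_uniformizer hF Q ρ.2 ht 2 (by norm_num) h2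
  have hρ1 : ρ.1 = (σ₀.1 ^ n)⁻¹ * σ := by rw [hρ]; rfl
  rw [hρ1] at h3
  exact h3

end Ram

end FF

end Groth.Agent.Lib.helper10
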