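import Groth.Agent.Lib.Helper10.FunFld64

/-!
Function fields of one variable (helper10), part 65: the wild ramification quotients
`G_i / G_{i+1}` (`i ≥ 2`) embed into the additive group of the residue field.
-/

set_option autoImplicit false
set_option linter.unusedSectionVars false
set_option linter.style.haveILetI false

universe u v w

open IntermediateField FunFld Polynomial

namespace Groth.Agent.Lib.helper10

namespace FF

open RD PA

section Wild

variable {k : Type u} {F : Type v} {E : Type w} [Field k] [Field F] [Field E]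
  [Algebra k F] [Algebra F E] [Algebra k E] [IsScalarTower k F E]

theorem exp_neg_lt_one {i : ℕ} (hi : 1 ≤ i) :
    WithZero.exp (-(i : ℤ)) < (1 : WithZero (Multiplicative ℤ)) := by
  rw [← WithZero.exp_zero, WithZero.exp_lt_exp]
  omega

/-- The `i`-th ramification group (`i ≥ 1`; `G₁` is the inertia group). -/
def ramSubgroup (Q : Place k E) (i : ℕ) (hi : 1 ≤ i) : Subgroup (E ≃ₐ[F] E) where
  carrier := {σ | ∀ x : E, Q.1 x ≤ 1 → Q.1 (σ x - x) ≤ WithZero.exp (-(i : ℤ))}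
  one_mem' := by
    intro x _
    show Q.1 (x - x) ≤ _
    rw [sub_self, Valuation.map_zero]
    exact zero_le
  mul_mem' := by
    intro σ τ hσ hτ x hx
    have hσD : σ ∈ (Q.O).decompositionSubgroup F :=
      mem_decomposition_of_forall_lt Q σ fun z hz => lt_of_le_of_lt (hσ z hz) (exp_neg_lt_one hi)
    have h1 : (σ * τ) x - x = σ (τ x - x) + (σ x - x) := by
      show σ (τ x) - x = _
      rw [map_sub]
      ring
    rw [h1]
    refine (Q.1.map_add _ _).trans (max_le ?_ (hσ x hx))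
    rw [val_apply_of_mem_decomposition Q hσD]
    exact hτ x hx
  inv_mem' := by
    intro σ hσ x hx
    have hσD : σ ∈ (Q.O).decompositionSubgroup F :=
      mem_decomposition_of_forall_lt Q σ fun z hz => lt_of_le_of_lt (hσ z hz) (exp_neg_lt_one hi)
    have hσD' : σ⁻¹ ∈ (Q.O).decompositionSubgroup F := inv_mem hσD
    have hx' : Q.1 (σ⁻¹ x) ≤ 1 := by
      rw [val_apply_of_mem_decomposition Q hσD']
      exact hx
    have h1 : σ⁻¹ x - x = -(σ (σ⁻¹ x) - σ⁻¹ x) := by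
      have : σ (σ⁻¹ x) = x := AlgEquiv.apply_symm_apply σ x
      rw [this]
      ring
    rw [h1, Valuation.map_neg]
    exact hσ _ hx'

theorem mem_ramSubgroup_iff (Q : Place k E) (i : ℕ) (hi : 1 ≤ i) (σ : E ≃ₐ[F] E) :
    σ ∈ ramSubgroup (F := F) Q i hi ↔
      ∀ x : E, Q.1 x ≤ 1 → Q.1 (σ x - x) ≤ WithZero.exp (-(i : ℤ)) := Iff.rfl

theorem ramSubgroup_le_inertiaImage (Q : Place k E) (i : ℕ) (hi : 1 ≤ i) :
    ramSubgroup (F := F) Q i hi ≤ inertiaImage (F := F) Q := by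
  intro σ hσ
  rw [mem_inertiaImage_iff]
  intro z hz
  exact lt_of_le_of_lt (hσ z hz) (exp_neg_lt_one hi)

theorem val_pow_uniformizer (Q : Place k E) {t : E} (ht : Q.1 t = WithZero.exp (-1 : ℤ)) (n : ℕ) :
    Q.1 (t ^ n) = WithZero.exp (-(n : ℤ)) := by
  rw [map_pow, ht, ← WithZero.exp_nsmul]
  congr 1
  simp

/-- Key estimate: an element of `G_i` (`i ≥ 2`) moves `b t^i` by `Q^{i+1}`. -/
theorem val_apply_sub_le_of_mem_ramSubgroup (Q : Place k E) {i : ℕ} (hi : 2 ≤ i)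
    {σ : E ≃ₐ[F] E} (hσ : σ ∈ ramSubgroup (F := F) Q i (by omega)) {t : E}
    (ht : Q.1 t = WithZero.exp (-1 : ℤ)) {b : E} (hb : Q.1 b ≤ 1) :
    Q.1 (σ (b * t ^ i) - b * t ^ i) ≤ WithZero.exp (-((i : ℤ) + 1)) := by
  have hσD : σ ∈ (Q.O).decompositionSubgroup F :=
    inertiaImage_le_decomposition Q (ramSubgroup_le_inertiaImage Q i (by omega) hσ)
  have htO : Q.1 t ≤ 1 := by
    rw [ht, ← WithZero.exp_zero, WithZero.exp_le_exp]
    norm_num
  have hσt : Q.1 (σ t) = WithZero.exp (-1 : ℤ) := by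
    rw [val_apply_of_mem_decomposition Q hσD, ht]
  have h1 : σ (b * t ^ i) - b * t ^ i =
      (σ b - b) * σ t ^ i + b * ((∑ l ∈ Finset.range i, σ t ^ l * t ^ (i - 1 - l)) * (σ t - t)) := by
    rw [geom_sum₂_mul, map_mul, map_pow]
    ring
  rw [h1]
  refine (Q.1.map_add _ _).trans (max_le ?_ ?_)
  · rw [map_mul, val_pow_uniformizer Q hσt]
    calc Q.1 (σ b - b) * WithZero.exp (-(i : ℤ))
        ≤ WithZero.exp (-(i : ℤ)) * WithZero.exp (-(i : ℤ)) := mul_le_mul' (hσ b hb) le_rfl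
      _ = WithZero.exp (-(i : ℤ) + -(i : ℤ)) := (WithZero.exp_add _ _).symm
      _ ≤ WithZero.exp (-((i : ℤ) + 1)) := by
          rw [WithZero.exp_le_exp]
          omega
  · rw [map_mul, map_mul]
    have hS : Q.1 (∑ l ∈ Finset.range i, σ t ^ l * t ^ (i - 1 - l)) ≤ WithZero.exp (-1 : ℤ) := by
      apply Valuation.map_sum_le
      intro l hl
      rw [Finset.mem_range] at hl
      rw [map_mul, val_pow_uniformizer Q hσt, val_pow_uniformizer Q ht, ← WithZero.exp_add,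
        WithZero.exp_le_exp]
      have : ((i - 1 - l : ℕ) : ℤ) = (i : ℤ) - 1 - l := by omega
      rw [this]
      omega
    calc Q.1 b * (Q.1 (∑ l ∈ Finset.range i, σ t ^ l * t ^ (i - 1 - l)) * Q.1 (σ t - t))
        ≤ 1 * (WithZero.exp (-1 : ℤ) * WithZero.exp (-(i : ℤ))) :=
          mul_le_mul' hb (mul_le_mul' hS (hσ t htO))
      _ = WithZero.exp (-((i : ℤ) + 1)) := by
          rw [one_mul, ← WithZero.exp_add]
          congr 1
          ring

theorem uniformizer_val_le_one (Q : Place k E) {t : E} (ht : Q.1 t = WithZero.exp (-1 : ℤ)) :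
    Q.1 t ≤ 1 := by
  rw [ht, ← WithZero.exp_zero, WithZero.exp_le_exp]
  norm_num

theorem val_div_pow_le_one (Q : Place k E) {i : ℕ} (hi : 1 ≤ i) {σ : E ≃ₐ[F] E}
    (hσ : σ ∈ ramSubgroup (F := F) Q i hi) {t : E} (ht : Q.1 t = WithZero.exp (-1 : ℤ)) :
    Q.1 ((σ t - t) / t ^ i) ≤ 1 := by
  rw [map_div₀, val_pow_uniformizer Q ht, div_le_one₀ WithZero.exp_pos]
  exact hσ t (uniformizer_val_le_one Q ht)

/-- The wild character `σ ↦ (σ t - t)/t^i mod Q` on `G_i`, `i ≥ 2`. -/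
noncomputable def wildChar (Q : Place k E) {i : ℕ} (hi : 2 ≤ i) {t : E}
    (ht : Q.1 t = WithZero.exp (-1 : ℤ)) :
    ramSubgroup (F := F) Q i (by omega) →* Multiplicative (IsLocalRing.ResidueField Q.O) where
  toFun σ := Multiplicative.ofAdd (IsLocalRing.residue Q.O
    ⟨(σ.1 t - t) / t ^ i, val_div_pow_le_one Q (by omega) σ.2 ht⟩)
  map_one' := by
    rw [← ofAdd_zero]
    congr 1
    rw [← map_zero (IsLocalRing.residue Q.O)]
    congr 1
    apply Subtype.ext
    show ((1 : E ≃ₐ[F] E) t - t) / t ^ i = 0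
    rw [AlgEquiv.one_apply, sub_self, zero_div]
  map_mul' σ τ := by
    have ht0 : t ≠ 0 := by
      rintro rfl
      rw [Valuation.map_zero] at ht
      exact WithZero.exp_ne_zero ht.symm
    have ha := val_div_pow_le_one Q (by omega) σ.2 ht
    have hb := val_div_pow_le_one Q (by omega) τ.2 ht
    have hc := val_div_pow_le_one Q (by omega) (σ * τ).2 ht
    rw [← ofAdd_add]
    congr 1
    have hab : Q.1 ((σ.1 t - t) / t ^ i + (τ.1 t - t) / t ^ i) ≤ 1 :=
      (Q.1.map_add _ _).trans (max_le ha hb)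
    have h1 : IsLocalRing.residue Q.O ⟨(σ.1 t - t) / t ^ i, ha⟩ +
        IsLocalRing.residue Q.O ⟨(τ.1 t - t) / t ^ i, hb⟩ =
        IsLocalRing.residue Q.O ⟨(σ.1 t - t) / t ^ i + (τ.1 t - t) / t ^ i, hab⟩ := by
      rw [← map_add]
      rfl
    rw [h1]
    apply residue_eq_of_val_sub_lt Q hc hab
    have hw : τ.1 t - t = (τ.1 t - t) / t ^ i * t ^ i := by
      field_simp
    have h2 : ((σ * τ).1 t - t) / t ^ i - ((σ.1 t - t) / t ^ i + (τ.1 t - t) / t ^ i) =
        (σ.1 ((τ.1 t - t) / t ^ i * t ^ i) - (τ.1 t - t) / t ^ i * t ^ i) / t ^ i := by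
      rw [← hw]
      show (σ.1 (τ.1 t) - t) / t ^ i - _ = _
      rw [map_sub]
      field_simp
      ring
    rw [h2, map_div₀, val_pow_uniformizer Q ht]
    have h3 := val_apply_sub_le_of_mem_ramSubgroup Q hi σ.2 ht hb
    rw [div_lt_one₀ WithZero.exp_pos]
    refine lt_of_le_of_lt h3 ?_
    rw [WithZero.exp_lt_exp]
    omega

theorem wildChar_apply (Q : Place k E) {i : ℕ} (hi : 2 ≤ i) {t : E}
    (ht : Q.1 t = WithZero.exp (-1 : ℤ)) (σ : ramSubgroup (F := F) Q i (by omega)) :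
    wildChar Q hi ht σ = Multiplicative.ofAdd (IsLocalRing.residue Q.O
      ⟨(σ.1 t - t) / t ^ i, val_div_pow_le_one Q (by omega) σ.2 ht⟩) := rfl

/-- The kernel of the wild character is `G_{i+1}`. -/
theorem mem_ramSubgroup_succ_of_wildChar_eq_one [FiniteDimensional F E] [IsGalois F E]
    (hF : IsFunctionField k F) (Q : Place k E)
    [Algebra.IsSeparable k (IsLocalRing.ResidueField Q.O)] {i : ℕ} (hi : 2 ≤ i) {t : E}
    (ht : Q.1 t = WithZero.exp (-1 : ℤ)) (σ : ramSubgroup (F := F) Q i (by omega))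
    (h : wildChar Q hi ht σ = 1) :
    ∀ x : E, Q.1 x ≤ 1 → Q.1 (σ.1 x - x) ≤ WithZero.exp (-((i : ℤ) + 1)) := by
  have ht0 : t ≠ 0 := by
    rintro rfl
    rw [Valuation.map_zero] at ht
    exact WithZero.exp_ne_zero ht.symm
  rw [wildChar_apply, ← ofAdd_zero] at h
  have h1 := Multiplicative.ofAdd.injective h
  rw [Place.residue_eq_zero_iff] at h1
  have h2 : Q.1 ((σ.1 t - t) / t ^ i) < 1 := h1
  rw [map_div₀, val_pow_uniformizer Q ht, div_lt_one₀ WithZero.exp_pos,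
    lt_exp_iff_le_exp_sub_one] at h2
  have h3 := ramification_of_uniformizer hF Q
    (ramSubgroup_le_inertiaImage Q i (by omega) σ.2) ht (i + 1) (by omega)
  have hcast : (-((i + 1 : ℕ) : ℤ)) = -((i : ℤ) + 1) := by push_cast; ring
  have hcast' : (-(i : ℤ) - 1) = -((i : ℤ) + 1) := by ring
  rw [hcast] at h3
  rw [hcast'] at h2
  exact h3 h2

/-- **S11025**: for `i ≥ 2` the quotient `G_i/G_{i+1}` is abelian, trivial in characteristic `0`
and of exponent `p` in characteristic `p`. -/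
theorem ramification_quotient_elementary [FiniteDimensional F E] [IsGalois F E]
    (hF : IsFunctionField k F) (Q : Place k E)
    [Algebra.IsSeparable k (IsLocalRing.ResidueField Q.O)] (i : ℕ) (hi : 2 ≤ i)
    (σ τ : E ≃ₐ[F] E)
    (hσ : ∀ x : E, Q.1 x ≤ 1 → Q.1 (σ x - x) ≤ WithZero.exp (-(i : ℤ)))
    (hτ : ∀ x : E, Q.1 x ≤ 1 → Q.1 (τ x - x) ≤ WithZero.exp (-(i : ℤ))) :
    (∀ x : E, Q.1 x ≤ 1 →
      Q.1 ((σ * τ * σ⁻¹ * τ⁻¹) x - x) ≤ WithZero.exp (-((i : ℤ) + 1))) ∧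
    (ringChar F = 0 → (∀ x : E, Q.1 x ≤ 1 → Q.1 (σ x - x) ≤ WithZero.exp (-((i : ℤ) + 1)))) ∧
    ∀ p : ℕ, p.Prime → ringChar F = p →
      (∀ x : E, Q.1 x ≤ 1 → Q.1 ((σ ^ p) x - x) ≤ WithZero.exp (-((i : ℤ) + 1))) := by
  obtain ⟨t, ht⟩ := Place.exists_uniformizer Q
  obtain ⟨σ', hσ'⟩ : ∃ σ' : ramSubgroup (F := F) Q i (by omega), σ'.1 = σ := ⟨⟨σ, hσ⟩, rfl⟩
  obtain ⟨τ', hτ'⟩ : ∃ τ' : ramSubgroup (F := F) Q i (by omega), τ'.1 = τ := ⟨⟨τ, hτ⟩, rfl⟩
  refine ⟨?_, ?_, ?_⟩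
  · have h1 : wildChar Q hi ht (σ' * τ' * σ'⁻¹ * τ'⁻¹) = 1 := by
      rw [map_mul, map_mul, map_mul, map_inv, map_inv]
      rw [mul_comm (wildChar Q hi ht σ') (wildChar Q hi ht τ'), mul_inv_cancel_right,
        mul_inv_cancel]
    have h2 := mem_ramSubgroup_succ_of_wildChar_eq_one hF Q hi ht _ h1
    have h3 : (σ' * τ' * σ'⁻¹ * τ'⁻¹).1 = σ * τ * σ⁻¹ * τ⁻¹ := by
      rw [← hσ', ← hτ']
      rfl
    rw [h3] at h2
    exact h2
  · intro hchar
    haveI : CharP F 0 := ringChar.of_eq hchar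
    haveI : CharZero F := CharP.charP_to_charZero F
    haveI : CharZero k := (algebraMap k F).charZero
    haveI : CharZero (IsLocalRing.ResidueField Q.O) :=
      charZero_of_injective_algebraMap (algebraMap k (IsLocalRing.ResidueField Q.O)).injective
    have hn : 0 < orderOf σ' := orderOf_pos σ'
    have h1 : wildChar Q hi ht σ' ^ orderOf σ' = 1 := by
      rw [← map_pow, pow_orderOf_eq_one, map_one]
    have h2 : wildChar Q hi ht σ' = 1 := by
      obtain ⟨a, ha⟩ : ∃ a : IsLocalRing.ResidueField Q.O,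
          wildChar Q hi ht σ' = Multiplicative.ofAdd a := ⟨_, (ofAdd_toAdd _).symm⟩
      rw [ha, ← ofAdd_nsmul, ← ofAdd_zero] at h1
      have h3 := Multiplicative.ofAdd.injective h1
      rw [nsmul_eq_mul, mul_eq_zero] at h3
      rcases h3 with h3 | h3
      · exact absurd (Nat.cast_eq_zero.mp h3) (by omega)
      · rw [ha, h3, ofAdd_zero]
    have h4 := mem_ramSubgroup_succ_of_wildChar_eq_one hF Q hi ht _ h2
    rw [hσ'] at h4
    exact h4
  · intro p hp hchar
    haveI : CharP F p := ringChar.of_eq hchar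
    haveI : CharP k p := (algebraMap k F).charP (algebraMap k F).injective p
    haveI : CharP (IsLocalRing.ResidueField Q.O) p :=
      charP_of_injective_algebraMap (algebraMap k (IsLocalRing.ResidueField Q.O)).injective p
    have h1 : wildChar Q hi ht (σ' ^ p) = 1 := by
      rw [map_pow]
      obtain ⟨a, ha⟩ : ∃ a : IsLocalRing.ResidueField Q.O,
          wildChar Q hi ht σ' = Multiplicative.ofAdd a := ⟨_, (ofAdd_toAdd _).symm⟩
      rw [ha, ← ofAdd_nsmul, nsmul_eq_mul, CharP.cast_eq_zero, zero_mul, ofAdd_zero]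
    have h2 := mem_ramSubgroup_succ_of_wildChar_eq_one hF Q hi ht _ h1
    have h3 : (σ' ^ p).1 = σ ^ p := by
      rw [← hσ']
      rfl
    rw [h3] at h2
    exact h2

end Wild

end FF

end Groth.Agent.Lib.helper10
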