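import Groth.Agent.Lib.Helper10.FunFld6

/-!
Function fields of one variable (helper10), part 7: the fundamental inequality
`∑_{P ∈ S} ord_P(x) · deg P ≤ [K : k(x)]` for finitely many zeros `S` of `x`.
-/

set_option autoImplicit false
set_option linter.unusedSectionVars false

universe u v w

open IntermediateField Polynomial FunFld

namespace Groth.Agent.Lib.helper10

namespace FF

variable {k : Type u} {K : Type v} [Field k] [Field K] [Algebra k K]

theorem Place.transcendental_of_lt_one (hK : IsFunctionField k K) (P : Place k K) {x : K}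
    (hx0 : x ≠ 0) (hx : P.1 x < 1) : Transcendental k x := by
  intro halg
  obtain ⟨c, rfl⟩ := hK.2 x halg
  have hc : c ≠ 0 := by
    rintro rfl
    exact hx0 (map_zero _)
  rw [Place.trivOn P c hc] at hx
  exact lt_irrefl _ hx

theorem Place.residue_eq_zero_iff (P : Place k K) (w : P.O) :
    IsLocalRing.residue P.O w = 0 ↔ P.1 (w : K) < 1 := by
  rw [IsLocalRing.residue_eq_zero_iff, ValuationSubring.valuation_lt_one_iff]
  exact ((Valuation.isEquiv_valuation_valuationSubring P.1).lt_one_iff_lt_one).symm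

/-- Local independence lemma. -/
theorem Place.coeff_eq_zero_of_val_le (P : Place k K) {t : K} (ht : P.1 t = WithZero.exp (-1 : ℤ))
    {J : Type*} [Fintype J] (z : J → K) (hz : ∀ j, P.1 (z j) ≤ 1)
    (hind : ∀ c : J → k, P.1 (∑ j, algebraMap k K (c j) * z j) < 1 → ∀ j, c j = 0)
    (c : J → ℕ → k) (e : ℕ)
    (h : P.1 (∑ a ∈ Finset.range e, t ^ a * ∑ j, algebraMap k K (c j a) * z j) ≤
      WithZero.exp (-(e : ℤ))) :
    ∀ a < e, ∀ j, c j a = 0 := by
  induction e with
  | zero => intro a ha; omega
  | succ e ih =>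
    rw [Finset.sum_range_succ] at h
    set W := ∑ a ∈ Finset.range e, t ^ a * ∑ j, algebraMap k K (c j a) * z j with hW
    set u := ∑ j, algebraMap k K (c j e) * z j with hu
    have hu1 : P.1 u ≤ 1 := by
      apply Valuation.map_sum_le
      intro j _
      rw [Valuation.map_mul]
      exact mul_le_one' (P.2.1 _) (hz j)
    have hte : P.1 (t ^ e) = WithZero.exp (-(e : ℤ)) := by
      have := Place.val_zpow_uniformizer P ht (e : ℤ)
      rwa [zpow_natCast] at this
    have htu : P.1 (t ^ e * u) ≤ WithZero.exp (-(e : ℤ)) := by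
      rw [Valuation.map_mul, hte]
      exact mul_le_of_le_one_right' hu1
    have hWe : P.1 W ≤ WithZero.exp (-(e : ℤ)) := by
      have : W = (W + t ^ e * u) - t ^ e * u := by ring
      rw [this]
      apply le_trans (Valuation.map_sub _ _ _)
      apply max_le _ htu
      apply le_trans h
      rw [WithZero.exp_le_exp]
      push_cast
      omega
    have ih' := ih hWe
    have hW0 : W = 0 := by
      rw [hW]
      apply Finset.sum_eq_zero
      intro a ha
      rw [Finset.mem_range] at ha
      have : ∑ j, algebraMap k K (c j a) * z j = 0 := by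
        apply Finset.sum_eq_zero
        intro j _
        rw [ih' a ha j, map_zero, zero_mul]
      rw [this, mul_zero]
    rw [hW0, zero_add, Valuation.map_mul, hte] at h
    have hu_lt : P.1 u < 1 := by
      rw [lt_one_iff_le_exp_neg_one]
      have h2 : WithZero.exp (-((e + 1 : ℕ) : ℤ)) =
          WithZero.exp (-(e : ℤ)) * WithZero.exp (-1 : ℤ) := by
        rw [← WithZero.exp_add]
        congr 1
        push_cast
        ring
      rw [h2] at h
      exact le_of_mul_le_mul_left h WithZero.exp_pos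
    have hce := hind (fun j => c j e) hu_lt
    intro a ha j
    rcases Nat.lt_succ_iff_lt_or_eq.mp ha with h1 | h1
    · exact ih' a h1 j
    · rw [h1]; exact hce j

/-- The fundamental inequality: for finitely many zeros `S` of `x`,
`∑_{P ∈ S} ord_P(x) · deg P ≤ [K : k(x)]`. -/
theorem sum_ord_mul_deg_le (hK : IsFunctionField k K) (S : Finset (Place k K)) {x : K} (hx0 : x ≠ 0)
    (hxS : ∀ P ∈ S, P.1 x < 1) :
    ∑ P ∈ S, (P.ord x).toNat * P.deg ≤ Module.finrank k⟮x⟯ K := by
  classical
  rcases S.eq_empty_or_nonempty with rfl | hS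
  · simp
  have hS' := hS
  obtain ⟨P₁, hP₁⟩ := hS'
  have htr : Transcendental k x := Place.transcendental_of_lt_one hK P₁ hx0 (hxS P₁ hP₁)
  haveI : FiniteDimensional k⟮x⟯ K := finiteDimensional_adjoin hK htr
  -- uniformizers
  have ht : ∀ P : Place k K, ∃ t : K, ∀ Q ∈ S,
      Q.1 t = if Q = P then WithZero.exp (-1 : ℤ) else 1 := by
    intro P
    obtain ⟨z, hz⟩ := weak_approx_eq S (fun _ => 0) (fun Q => if Q = P then 1 else 0)
    refine ⟨z, fun Q hQ => ?_⟩
    have := hz Q hQ
    rw [sub_zero] at this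
    rw [this]
    split_ifs <;> simp
  choose t ht using ht
  -- bases of residue fields
  have hfd : ∀ P : Place k K, FiniteDimensional k (IsLocalRing.ResidueField P.O) :=
    fun P => Place.finiteDimensional_residueField hK P
  let b : ∀ P : Place k K, Module.Basis (Fin P.deg) k (IsLocalRing.ResidueField P.O) :=
    fun P => Module.finBasis k _
  have hs : ∀ P : Place k K, ∀ j : Fin P.deg, ∃ s : P.O, IsLocalRing.residue P.O s = b P j :=
    fun P j => IsLocalRing.residue_surjective _
  choose s hs using hs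
  -- approximations
  set e : Place k K → ℕ := fun P => (P.ord x).toNat with he
  have hex : ∀ P ∈ S, P.1 x = WithZero.exp (-(e P : ℤ)) := by
    intro P hP
    rw [Place.val_eq_exp_neg_ord P hx0, he]
    simp only
    have := (Place.ord_pos_iff P hx0).mpr (hxS P hP)
    rw [Int.toNat_of_nonneg this.le]
  set N : ℕ := 1 + ∑ Q ∈ S, e Q with hN
  have hNe : ∀ Q ∈ S, WithZero.exp (-(N : ℤ)) ≤ WithZero.exp (-(e Q : ℤ)) := by
    intro Q hQ
    rw [WithZero.exp_le_exp, hN]
    have := Finset.single_le_sum (f := e) (fun i _ => Nat.zero_le _) hQ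
    push_cast
    have h2 : (e Q : ℤ) ≤ ∑ Q ∈ S, (e Q : ℤ) := by exact_mod_cast this
    omega
  have hN1 : WithZero.exp (-(N : ℤ)) < 1 := by
    rw [← WithZero.exp_zero, WithZero.exp_lt_exp, hN]
    push_cast
    have : (0 : ℤ) ≤ ∑ Q ∈ S, (e Q : ℤ) := Finset.sum_nonneg (fun i _ => Int.natCast_nonneg _)
    omega
  have hz : ∀ P : Place k K, ∀ j : Fin P.deg, ∃ z : K, ∀ Q ∈ S,
      Q.1 (z - if Q = P then (s P j : K) else 0) ≤ WithZero.exp (-(N : ℤ)) :=
    fun P j => weak_approx S (fun Q => if Q = P then (s P j : K) else 0) N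
  choose z hz using hz
  have hzP : ∀ P ∈ S, ∀ j : Fin P.deg, P.1 (z P j - (s P j : K)) < 1 := by
    intro P hP j
    have := hz P j P hP
    rw [if_pos rfl] at this
    exact lt_of_le_of_lt this hN1
  have hzQ : ∀ P : Place k K, ∀ j : Fin P.deg, ∀ Q ∈ S, Q ≠ P →
      Q.1 (z P j) ≤ WithZero.exp (-(e Q : ℤ)) := by
    intro P j Q hQ hne
    have := hz P j Q hQ
    rw [if_neg hne, sub_zero] at this
    exact le_trans this (hNe Q hQ)
  have hz1 : ∀ P ∈ S, ∀ j : Fin P.deg, ∀ Q ∈ S, Q.1 (z P j) ≤ 1 := by
    intro P hP j Q hQ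
    by_cases hne : Q = P
    · subst hne
      have h1 : z Q j = (z Q j - (s Q j : K)) + (s Q j : K) := by ring
      rw [h1]
      apply le_trans (Valuation.map_add _ _ _)
      exact max_le (hzP Q hQ j).le (s Q j).2
    · apply le_trans (hzQ P j Q hQ hne)
      rw [← WithZero.exp_zero, WithZero.exp_le_exp]
      omega
  have ht1 : ∀ P : Place k K, ∀ Q ∈ S, Q.1 (t P) ≤ 1 := by
    intro P Q hQ
    rw [ht P Q hQ]
    split_ifs
    · rw [← WithZero.exp_zero, WithZero.exp_le_exp]; omega
    · exact le_rfl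
  -- local independence at each `P ∈ S`
  have hindP : ∀ P ∈ S, ∀ c : Fin P.deg → k,
      P.1 (∑ j, algebraMap k K (c j) * z P j) < 1 → ∀ j, c j = 0 := by
    intro P hP c hc
    have h1 : P.1 (∑ j, algebraMap k K (c j) * (s P j : K)) < 1 := by
      have h2 : ∑ j, algebraMap k K (c j) * (s P j : K) =
          ∑ j, algebraMap k K (c j) * z P j - ∑ j, algebraMap k K (c j) * (z P j - (s P j : K)) := by
        rw [← Finset.sum_sub_distrib]
        apply Finset.sum_congr rfl
        intro j _
        ring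
      rw [h2]
      apply lt_of_le_of_lt (Valuation.map_sub _ _ _)
      apply max_lt hc
      apply Valuation.map_sum_lt _ one_ne_zero
      intro j _
      rw [Valuation.map_mul]
      calc P.1 (algebraMap k K (c j)) * P.1 (z P j - (s P j : K))
          ≤ 1 * P.1 (z P j - (s P j : K)) := by gcongr; exact P.2.1 _
        _ = P.1 (z P j - (s P j : K)) := one_mul _
        _ < 1 := hzP P hP j
    set w : P.O := ∑ j, (algebraMap k P.O (c j)) * s P j with hw
    have hwK : (w : K) = ∑ j, algebraMap k K (c j) * (s P j : K) := by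
      rw [hw]
      push_cast
      rfl
    have hres : IsLocalRing.residue P.O w = 0 := by
      rw [Place.residue_eq_zero_iff, hwK]
      exact h1
    have hrel : ∑ j, c j • b P j = 0 := by
      rw [← hres, hw, map_sum]
      apply Finset.sum_congr rfl
      intro j _
      rw [map_mul, hs, Algebra.smul_def]
      rfl
    exact Fintype.linearIndependent_iff.mp (b P).linearIndependent c hrel
  -- the family
  let ι := Σ P : S, Fin (e P.1) × Fin (P.1.deg)
  let y : ι → K := fun i => t i.1.1 ^ (i.2.1 : ℕ) * z i.1.1 i.2.2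
  have hli : LinearIndependent k⟮x⟯ y := by
    apply linearIndependent_of_mod S hS hx0 hxS y
    · intro i Q hQ
      rw [Valuation.map_mul, Valuation.map_pow]
      exact mul_le_one' (pow_le_one' (ht1 _ Q hQ) _) (hz1 _ i.1.2 _ Q hQ)
    · rintro c ⟨ρ, hρ, hrel⟩ ⟨⟨P₀, hP₀⟩, a₀, j₀⟩
      -- coefficients at `P₀`
      set c' : Fin P₀.deg → ℕ → k := fun j a =>
        if h : a < e P₀ then c ⟨⟨P₀, hP₀⟩, ⟨a, h⟩, j⟩ else 0 with hc'
      set F : S → K := fun P => ∑ a : Fin (e P.1), ∑ j : Fin P.1.deg,
        algebraMap k K (c ⟨P, a, j⟩) * (t P.1 ^ (a : ℕ) * z P.1 j) with hF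
      have htot : ∑ i, algebraMap k K (c i) * y i = ∑ P, F P := by
        rw [Fintype.sum_sigma]
        apply Finset.sum_congr rfl
        intro P _
        rw [Fintype.sum_prod_type]
      have hF₀ : F ⟨P₀, hP₀⟩ = ∑ a ∈ Finset.range (e P₀),
          t P₀ ^ a * ∑ j, algebraMap k K (c' j a) * z P₀ j := by
        rw [Finset.sum_range, hF]
        apply Finset.sum_congr rfl
        intro a _
        rw [Finset.mul_sum]
        apply Finset.sum_congr rfl
        intro j _
        rw [hc']
        simp only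
        rw [dif_pos a.2]
        ring
      have hFQ : ∀ P : S, P ≠ ⟨P₀, hP₀⟩ → P₀.1 (F P) ≤ WithZero.exp (-(e P₀ : ℤ)) := by
        intro P hne
        have hne' : P₀ ≠ P.1 := fun h => hne (Subtype.ext h.symm)
        apply Valuation.map_sum_le
        intro a _
        apply Valuation.map_sum_le
        intro j _
        rw [Valuation.map_mul, Valuation.map_mul, Valuation.map_pow]
        calc P₀.1 (algebraMap k K (c ⟨P, a, j⟩)) * (P₀.1 (t P.1) ^ (a : ℕ) * P₀.1 (z P.1 j))
            ≤ 1 * (1 * P₀.1 (z P.1 j)) := by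
              gcongr
              · exact P₀.2.1 _
              · exact pow_le_one' (ht1 _ P₀ hP₀) _
          _ = P₀.1 (z P.1 j) := by rw [one_mul, one_mul]
          _ ≤ WithZero.exp (-(e P₀ : ℤ)) := hzQ P.1 j P₀ hP₀ hne'
      have hxρ : P₀.1 (x * ρ) ≤ WithZero.exp (-(e P₀ : ℤ)) := by
        rw [Valuation.map_mul, hex P₀ hP₀]
        exact mul_le_of_le_one_right' (hρ P₀ hP₀)
      have hsplit : F ⟨P₀, hP₀⟩ = x * ρ - ∑ P ∈ Finset.univ.erase (⟨P₀, hP₀⟩ : S), F P := by
        rw [← hrel, htot, ← Finset.add_sum_erase _ _ (Finset.mem_univ (⟨P₀, hP₀⟩ : S))]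
        ring
      have hval : P₀.1 (F ⟨P₀, hP₀⟩) ≤ WithZero.exp (-(e P₀ : ℤ)) := by
        rw [hsplit]
        apply le_trans (Valuation.map_sub _ _ _)
        apply max_le hxρ
        apply Valuation.map_sum_le
        intro P hP
        exact hFQ P (Finset.ne_of_mem_erase hP)
      rw [hF₀] at hval
      have hzero := Place.coeff_eq_zero_of_val_le P₀ (by rw [ht P₀ P₀ hP₀, if_pos rfl])
        (z P₀) (fun j => hz1 P₀ hP₀ j P₀ hP₀) (hindP P₀ hP₀) c' (e P₀) hval
      have := hzero a₀ a₀.2 j₀
      rw [hc'] at this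
      simp only at this
      rw [dif_pos a₀.2] at this
      exact this
  have hcard := hli.fintype_card_le_finrank
  have hcardι : Fintype.card ι = ∑ P ∈ S, (P.ord x).toNat * P.deg := by
    rw [Fintype.card_sigma]
    rw [← Finset.sum_coe_sort S (fun P => (P.ord x).toNat * P.deg)]
    apply Finset.sum_congr rfl
    intro P _
    rw [Fintype.card_prod, Fintype.card_fin, Fintype.card_fin]
  rw [← hcardι]
  exact hcard

end FF

end Groth.Agent.Lib.helper10
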