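import Groth.Agent.Lib.Helper10.FunFld7

/-!
Function fields of one variable (helper10), part 8: finiteness of zeros and poles, principal
divisors.
-/

set_option autoImplicit false
set_option linter.unusedSectionVars false

universe u v w

open IntermediateField FunFld

namespace Groth.Agent.Lib.helper10

namespace FF

variable {k : Type u} {K : Type v} [Field k] [Field K] [Algebra k K]

theorem Place.ord_zero (P : Place k K) : P.ord (0 : K) = 0 := by
  unfold Place.ord
  rw [Valuation.map_zero, WithZero.log_zero, neg_zero]

/-- The zeros of a nonzero element form a finite set. -/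
theorem zeros_finite (hK : IsFunctionField k K) {x : K} (hx0 : x ≠ 0) :
    {P : Place k K | P.1 x < 1}.Finite := by
  classical
  by_contra hinf
  have hinf' : {P : Place k K | P.1 x < 1}.Infinite := hinf
  obtain ⟨S, hS, hcard⟩ := hinf'.exists_subset_card_eq (Module.finrank k⟮x⟯ K + 1)
  have hxS : ∀ P ∈ S, P.1 x < 1 := fun P hP => hS hP
  have h1 := sum_ord_mul_deg_le hK S hx0 hxS
  have h2 : S.card ≤ ∑ P ∈ S, (P.ord x).toNat * P.deg := by
    rw [Finset.card_eq_sum_ones]
    apply Finset.sum_le_sum
    intro P hP
    have ha : 0 < P.ord x := (Place.ord_pos_iff P hx0).mpr (hxS P hP)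
    have hb : 0 < P.deg := Place.deg_pos hK P
    have hc : 0 < (P.ord x).toNat := by omega
    exact Nat.mul_pos hc hb
  omega

/-- The poles of an element form a finite set. -/
theorem poles_finite (hK : IsFunctionField k K) (x : K) :
    {P : Place k K | 1 < P.1 x}.Finite := by
  by_cases hx0 : x = 0
  · convert Set.finite_empty
    ext P
    simp [hx0]
  · have h := zeros_finite hK (inv_ne_zero hx0)
    convert h using 2
    ext P
    rw [map_inv₀, inv_lt_one₀ (zero_lt_iff.mpr ((Valuation.ne_zero_iff _).mpr hx0))]

theorem support_ord_finite (hK : IsFunctionField k K) (x : K) :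
    (Function.support fun P : Place k K => P.ord x).Finite := by
  by_cases hx0 : x = 0
  · convert Set.finite_empty
    ext P
    simp [hx0, Place.ord_zero]
  · apply ((zeros_finite hK hx0).union (poles_finite hK x)).subset
    intro P hP
    rw [Function.mem_support] at hP
    rcases lt_or_gt_of_ne hP with h | h
    · right
      exact (Place.ord_neg_iff P hx0).mp h
    · left
      exact (Place.ord_pos_iff P hx0).mp h

theorem div_apply (hK : IsFunctionField k K) (x : K) (P : Place k K) :
    FunFld.div k x P = P.ord x := by
  unfold FunFld.div
  rw [dif_pos (support_ord_finite hK x)]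
  rfl

end FF

end Groth.Agent.Lib.helper10
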