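import Groth.Agent.Lib.Helper10.FunFld8
import Groth.Agent.Lib.Helper10.RelDim

/-!
Function fields of one variable (helper10), part 9: degrees of divisors, the balls
`{x | v_P(x) ≤ exp n}`, and the step lemma for `L(D)` and `A(D)`.
-/

set_option autoImplicit false
set_option linter.unusedSectionVars false
set_option linter.style.haveILetI false

universe u v w

open IntermediateField FunFld

namespace Groth.Agent.Lib.helper10

namespace FF

open RD

variable {k : Type u} {K : Type v} [Field k] [Field K] [Algebra k K]

/-! ### degrees -/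

theorem deg_add (A B : Divisor k K) : (A + B).deg = A.deg + B.deg := by
  unfold Divisor.deg
  rw [Finsupp.sum_add_index']
  · intro P; simp
  · intro P m n; ring

theorem deg_zero : (0 : Divisor k K).deg = 0 := by
  unfold Divisor.deg
  simp

theorem deg_single (P : Place k K) (n : ℤ) :
    Divisor.deg (Finsupp.single P n : Divisor k K) = n * P.deg := by
  unfold Divisor.deg
  rw [Finsupp.sum_single_index]
  simp

theorem deg_neg (A : Divisor k K) : (-A).deg = -A.deg := by
  have h := deg_add A (-A)
  rw [add_neg_cancel, deg_zero] at h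
  omega

theorem deg_sub (A B : Divisor k K) : (A - B).deg = A.deg - B.deg := by
  rw [sub_eq_add_neg, deg_add, deg_neg]
  ring

theorem deg_nonneg {A : Divisor k K} (h : 0 ≤ A) : 0 ≤ A.deg := by
  unfold Divisor.deg
  apply Finset.sum_nonneg
  intro P _
  exact mul_nonneg (h P) (Int.natCast_nonneg _)

theorem deg_mono {A B : Divisor k K} (h : A ≤ B) : A.deg ≤ B.deg := by
  have h1 : 0 ≤ B - A := sub_nonneg.mpr h
  have h2 := deg_nonneg h1
  rw [deg_sub] at h2
  omega

/-! ### balls -/

/-- in `ℤᵐ⁰`, `< exp n` means `≤ exp (n - 1)` -/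
theorem lt_exp_iff_le_exp_sub_one (γ : WithZero (Multiplicative ℤ)) (n : ℤ) :
    γ < WithZero.exp n ↔ γ ≤ WithZero.exp (n - 1) := by
  by_cases h : γ = 0
  · rw [h]
    exact ⟨fun _ => zero_le, fun _ => WithZero.exp_pos⟩
  · rw [← WithZero.exp_log h, WithZero.exp_lt_exp, WithZero.exp_le_exp]
    omega

/-- The `k`-subspace `{x | v_P(x) ≤ exp n}` of `K`. -/
def Place.ball (P : Place k K) (n : ℤ) : Submodule k K where
  carrier := {x | P.1 x ≤ WithZero.exp n}
  add_mem' {x y} hx hy := (P.1.map_add x y).trans (max_le hx hy)
  zero_mem' := by simp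
  smul_mem' c x hx := by
    change P.1 (c • x) ≤ _
    rw [Algebra.smul_def, map_mul]
    exact (mul_le_mul' (P.2.1 c) hx).trans_eq (one_mul _)

theorem Place.mem_ball (P : Place k K) (n : ℤ) (x : K) : x ∈ Place.ball P n ↔ P.1 x ≤ WithZero.exp n :=
  Iff.rfl

theorem Place.ball_mono (P : Place k K) {m n : ℤ} (h : m ≤ n) : Place.ball P m ≤ Place.ball P n :=
  fun _ hx => le_trans hx (WithZero.exp_le_exp.mpr h)

/-- The graded pieces of the filtration by balls are copies of the residue field. -/
theorem Place.relFin_ball (hK : IsFunctionField k K) (P : Place k K) (n : ℤ) :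
    RelFin (Place.ball P (n - 1)) (Place.ball P n) ∧
      relDim (Place.ball P (n - 1)) (Place.ball P n) = P.deg := by
  obtain ⟨t, ht⟩ := Place.exists_uniformizer P
  have ht0 : t ≠ 0 := by
    intro h
    rw [h, Valuation.map_zero] at ht
    exact WithZero.exp_ne_zero ht.symm
  have htn : P.1 (t ^ n) = WithZero.exp (-n) := Place.val_zpow_uniformizer P ht n
  have htn0 : t ^ n ≠ 0 := zpow_ne_zero n ht0
  have hmem : ∀ x ∈ Place.ball P n, x * t ^ n ∈ P.O := by
    intro x hx
    rw [Place.mem_O_iff, map_mul, htn]
    calc P.1 x * WithZero.exp (-n) ≤ WithZero.exp n * WithZero.exp (-n) := mul_le_mul_left hx _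
      _ = 1 := by rw [← WithZero.exp_add, add_neg_cancel, WithZero.exp_zero]
  let θ : Place.ball P n →ₗ[k] IsLocalRing.ResidueField P.O :=
    { toFun := fun x => IsLocalRing.residue P.O ⟨x.1 * t ^ n, hmem x.1 x.2⟩
      map_add' := fun x y => by
        rw [← map_add]
        congr 1
        apply Subtype.ext
        simp [add_mul]
      map_smul' := fun c x => by
        simp only [RingHom.id_apply]
        change _ = IsLocalRing.residue P.O (c • ⟨x.1 * t ^ n, hmem x.1 x.2⟩)
        congr 1
        apply Subtype.ext
        change (c • x.1) * t ^ n = algebraMap k K c * (x.1 * t ^ n)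
        rw [Algebra.smul_def, mul_assoc] }
  have hθ : ∀ x : Place.ball P n, θ x = IsLocalRing.residue P.O ⟨x.1 * t ^ n, hmem x.1 x.2⟩ :=
    fun _ => rfl
  have hsurj : Function.Surjective θ := by
    intro r
    obtain ⟨w, rfl⟩ := IsLocalRing.residue_surjective r
    have hw : (w : K) * (t ^ n)⁻¹ ∈ Place.ball P n := by
      rw [Place.mem_ball, map_mul, map_inv₀, htn, ← WithZero.exp_neg, neg_neg]
      calc P.1 (w : K) * WithZero.exp n ≤ 1 * WithZero.exp n := mul_le_mul_left w.2 _
        _ = WithZero.exp n := one_mul _
    refine ⟨⟨_, hw⟩, ?_⟩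
    rw [hθ]
    congr 1
    apply Subtype.ext
    simp only
    rw [mul_assoc, inv_mul_cancel₀ htn0, mul_one]
  have hker : LinearMap.ker θ = (Place.ball P (n - 1)).comap (Place.ball P n).subtype := by
    ext x
    rw [LinearMap.mem_ker, hθ, Place.residue_eq_zero_iff, Submodule.mem_comap, Place.mem_ball]
    simp only [Submodule.subtype_apply]
    rw [map_mul, htn, ← lt_exp_iff_le_exp_sub_one]
    constructor
    · intro h
      have h1 : P.1 x.1 = (P.1 x.1 * WithZero.exp (-n)) * WithZero.exp n := by
        rw [mul_assoc, ← WithZero.exp_add, neg_add_cancel, WithZero.exp_zero, mul_one]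
      rw [h1]
      calc P.1 x.1 * WithZero.exp (-n) * WithZero.exp n < 1 * WithZero.exp n :=
            mul_lt_mul_of_pos_right h WithZero.exp_pos
        _ = WithZero.exp n := one_mul _
    · intro h
      calc P.1 x.1 * WithZero.exp (-n) < WithZero.exp n * WithZero.exp (-n) :=
            mul_lt_mul_of_pos_right h WithZero.exp_pos
        _ = 1 := by rw [← WithZero.exp_add, add_neg_cancel, WithZero.exp_zero]
  have e : RQ (Place.ball P (n - 1)) (Place.ball P n) ≃ₗ[k] IsLocalRing.ResidueField P.O :=
    (Submodule.quotEquivOfEq _ _ hker.symm).trans (θ.quotKerEquivOfSurjective hsurj)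
  haveI := Place.finiteDimensional_residueField hK P
  exact ⟨Module.Finite.equiv e.symm, e.finrank_eq⟩

/-! ### chain induction over divisors -/

theorem chain_single {V : Type*} [AddCommGroup V] [Module k V] (r : ℤ → ℤ → Prop) (h0 : r 0 0)
    (hadd : ∀ a b c d, r a b → r c d → r (a + c) (b + d))
    (F : Divisor k K → Submodule k V) (hmono : Monotone F)
    (hstep : ∀ (A : Divisor k K) (P : Place k K), RelFin (F A) (F (A + Finsupp.single P 1)) ∧
      r (relDim (F A) (F (A + Finsupp.single P 1))) P.deg)
    (m : ℕ) (A : Divisor k K) (P : Place k K) :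
    RelFin (F A) (F (A + Finsupp.single P (m : ℤ))) ∧
      r (relDim (F A) (F (A + Finsupp.single P (m : ℤ))))
        ((A + Finsupp.single P (m : ℤ)).deg - A.deg) := by
  induction m with
  | zero =>
    have := relFin_self (F A)
    simp only [Nat.cast_zero, Finsupp.single_zero, add_zero, sub_self]
    refine ⟨this.1, ?_⟩
    rw [this.2]
    exact_mod_cast h0
  | succ m ih =>
    have e : A + Finsupp.single P ((m + 1 : ℕ) : ℤ) =
        (A + Finsupp.single P (m : ℤ)) + Finsupp.single P 1 := by
      rw [add_assoc, ← Finsupp.single_add]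
      push_cast
      rfl
    rw [e]
    have h2 := hstep (A + Finsupp.single P (m : ℤ)) P
    have hle1 : A ≤ A + Finsupp.single P (m : ℤ) := by
      apply le_add_of_nonneg_right
      intro Q
      by_cases hQ : Q = P
      · subst hQ; simp
      · simp [Finsupp.single_apply, Ne.symm hQ]
    have hle2 : A + Finsupp.single P (m : ℤ) ≤ A + Finsupp.single P (m : ℤ) + Finsupp.single P 1 := by
      apply le_add_of_nonneg_right
      intro Q
      by_cases hQ : Q = P
      · subst hQ; simp
      · simp [Finsupp.single_apply, Ne.symm hQ]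
    have hc := relFin_chain (hmono hle1) (hmono hle2) ih.1 h2.1
    refine ⟨hc.1, ?_⟩
    rw [hc.2]
    have := hadd _ _ _ _ ih.2 h2.2
    push_cast
    convert this using 1
    rw [deg_add (A + Finsupp.single P (m : ℤ)), deg_single]
    ring

/-- Abstract chain induction over divisors. -/
theorem chain_induction {V : Type*} [AddCommGroup V] [Module k V] (r : ℤ → ℤ → Prop) (h0 : r 0 0)
    (hadd : ∀ a b c d, r a b → r c d → r (a + c) (b + d))
    (F : Divisor k K → Submodule k V) (hmono : Monotone F)
    (hstep : ∀ (A : Divisor k K) (P : Place k K), RelFin (F A) (F (A + Finsupp.single P 1)) ∧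
      r (relDim (F A) (F (A + Finsupp.single P 1))) P.deg)
    {A B : Divisor k K} (hAB : A ≤ B) :
    RelFin (F A) (F B) ∧ r (relDim (F A) (F B)) (B.deg - A.deg) := by
  classical
  have key : ∀ E : Divisor k K, 0 ≤ E → ∀ A : Divisor k K, RelFin (F A) (F (A + E)) ∧
      r (relDim (F A) (F (A + E))) ((A + E).deg - A.deg) := by
    intro E
    induction E using Finsupp.induction with
    | zero =>
      intro _ A
      rw [add_zero, sub_self]
      have := relFin_self (F A)
      refine ⟨this.1, ?_⟩
      rw [this.2]
      exact_mod_cast h0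
    | single_add P b f hPf hb ih =>
      intro hE A
      have hfP : f P = 0 := Finsupp.notMem_support_iff.mp hPf
      have hb0 : 0 ≤ b := by
        have := hE P
        simpa [Finsupp.add_apply, hfP] using this
      have hf0 : 0 ≤ f := by
        intro Q
        by_cases hQ : Q = P
        · subst hQ
          rw [hfP]
          rfl
        · have := hE Q
          simpa [Finsupp.add_apply, Finsupp.single_apply, Ne.symm hQ] using this
      obtain ⟨m, rfl⟩ := Int.eq_ofNat_of_zero_le hb0
      have h1 := ih hf0 A
      have h2 := chain_single r h0 hadd F hmono hstep m (A + f) P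
      have e : A + (Finsupp.single P (m : ℤ) + f) = (A + f) + Finsupp.single P (m : ℤ) := by abel
      rw [e]
      have hle2 : A + f ≤ A + f + Finsupp.single P (m : ℤ) := by
        apply le_add_of_nonneg_right
        intro Q
        by_cases hQ : Q = P
        · subst hQ; simp
        · simp [Finsupp.single_apply, Ne.symm hQ]
      have hc := relFin_chain (hmono (le_add_of_nonneg_right hf0)) (hmono hle2) h1.1 h2.1
      refine ⟨hc.1, ?_⟩
      rw [hc.2]
      have := hadd _ _ _ _ h1.2 h2.2
      push_cast
      convert this using 1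
      ring
  have := key (B - A) (sub_nonneg.mpr hAB) A
  rwa [add_sub_cancel] at this

end FF

end Groth.Agent.Lib.helper10
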