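import Mathlib
import Groth.Prelude.Def_KZero
import Groth.Agent.Lib.Helper7.K0API

/-!
# `G₀` of finitely generated modules: classes, dévissage over a PID quotient (helper10)

* `cF M` : the class of a finite module in `K0sub (Module.Finite)`.
* `cF_ses`, `cF_equiv`, `cF_subsingleton`.
* `cF_mem_zmultiples` : if `A ⧸ I` is a principal ideal domain, every finite `A`-module killed by `I`
  has class in `ℤ • [A ⧸ I]`.
-/

set_option autoImplicit false
universe u
open CategoryTheory KZero

namespace Groth.Agent.Lib.helper10.G0

set_option linter.style.haveILetI false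

variable (A : Type u) [CommRing A]

/-- the object property "finitely generated module" -/
abbrev PF : ObjectProperty (ModuleCat.{u} A) := fun M => Module.Finite A M

/-- the class of a module in `G₀` -/
noncomputable abbrev cF (M : Type u) [AddCommGroup M] [Module A M] : K0sub (PF A) :=
  clSub (PF A) (ModuleCat.of A M)

variable {A}

theorem cF_ses {M₁ M₂ M₃ : Type u} [AddCommGroup M₁] [Module A M₁] [AddCommGroup M₂] [Module A M₂]
    [AddCommGroup M₃] [Module A M₃] [Module.Finite A M₁] [Module.Finite A M₂] [Module.Finite A M₃]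
    (f : M₁ →ₗ[A] M₂) (g : M₂ →ₗ[A] M₃) (hf : Function.Injective f) (hg : Function.Surjective g)
    (hfg : Function.Exact f g) : cF A M₂ = cF A M₁ + cF A M₃ := by
  have h0 : g.comp f = 0 := hfg.linearMap_comp_eq_zero
  let S := ModuleCat.shortComplexOfCompEqZero f g h0
  have hS : S.ShortExact := ModuleCat.shortComplex_shortExact S hfg hf hg
  exact Groth.Agent.Lib.helper7.K0API.clSub_additive (PF A) S hS
    (inferInstanceAs (Module.Finite A M₁)) (inferInstanceAs (Module.Finite A M₂))
    (inferInstanceAs (Module.Finite A M₃))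

theorem cF_subsingleton (M : Type u) [AddCommGroup M] [Module A M] [Subsingleton M] :
    cF A M = 0 := by
  haveI : Module.Finite A M := Module.Finite.of_surjective (0 : A →ₗ[A] M)
    (fun m => ⟨0, Subsingleton.elim _ _⟩)
  have h := cF_ses (A := A) (LinearMap.id : M →ₗ[A] M) (LinearMap.id : M →ₗ[A] M)
    (fun _ _ h => h) (fun m => ⟨m, rfl⟩) (fun m => by
      constructor
      · intro _; exact ⟨0, Subsingleton.elim _ _⟩
      · intro _; exact Subsingleton.elim _ _)
  exact left_eq_add.mp h

theorem cF_equiv {M N : Type u} [AddCommGroup M] [Module A M] [AddCommGroup N] [Module A N]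
    [Module.Finite A M] (e : M ≃ₗ[A] N) : cF A M = cF A N := by
  haveI : Module.Finite A N := Module.Finite.equiv e
  have h := cF_ses (A := A) (0 : PUnit.{u+1} →ₗ[A] M) e.toLinearMap
    (fun _ _ _ => Subsingleton.elim _ _) e.surjective (fun m => by
      constructor
      · intro hm
        exact ⟨0, by simpa using (e.injective (by simpa using hm : e m = e 0)).symm⟩
      · rintro ⟨_, rfl⟩; simp)
  rw [cF_subsingleton (A := A) PUnit.{u+1}, zero_add] at h
  exact h

section rank

theorem rank_ses {T : Type u} [CommRing T] [IsDomain T] {M₁ M₂ M₃ : Type u}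
    [AddCommGroup M₁] [Module T M₁] [AddCommGroup M₂] [Module T M₂] [AddCommGroup M₃] [Module T M₃]
    (f : M₁ →ₗ[T] M₂) (g : M₂ →ₗ[T] M₃) (hf : Function.Injective f) (hg : Function.Surjective g)
    (hfg : Function.Exact f g) :
    Module.rank T M₂ = Module.rank T M₁ + Module.rank T M₃ := by
  rw [LinearMap.rank_eq_of_surjective hg, add_comm]
  congr 1
  have hker : LinearMap.ker g = LinearMap.range f := hfg.linearMap_ker_eq
  rw [hker]
  exact (LinearEquiv.ofInjective f hf).rank_eq.symm

theorem finrank_ses {T : Type u} [CommRing T] [IsDomain T] {M₁ M₂ M₃ : Type u}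
    [AddCommGroup M₁] [Module T M₁] [AddCommGroup M₂] [Module T M₂] [AddCommGroup M₃] [Module T M₃]
    (f : M₁ →ₗ[T] M₂) (g : M₂ →ₗ[T] M₃) (hf : Function.Injective f) (hg : Function.Surjective g)
    (hfg : Function.Exact f g) (h1 : Module.rank T M₁ < Cardinal.aleph0)
    (h3 : Module.rank T M₃ < Cardinal.aleph0) :
    Module.finrank T M₂ = Module.finrank T M₁ + Module.finrank T M₃ := by
  unfold Module.finrank
  rw [rank_ses f g hf hg hfg, Cardinal.toNat_add h1 h3]

end rank

section devissage

variable (I : Ideal A) [IsDomain (A ⧸ I)] [IsPrincipalIdealRing (A ⧸ I)]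

theorem cF_cyclic_mem (N : Type u) [AddCommGroup N] [Module A N]
    (hI : ∀ a ∈ I, ∀ m : N, a • m = 0) (s : N) (hs : ∀ m : N, ∃ a : A, a • s = m) :
    cF A N ∈ AddSubgroup.zmultiples (cF A (A ⧸ I)) := by
  classical
  have hle : I ≤ LinearMap.ker (LinearMap.toSpanSingleton A N s) := by
    intro a ha
    rw [LinearMap.mem_ker, LinearMap.toSpanSingleton_apply]
    exact hI a ha s
  let φ : (A ⧸ I) →ₗ[A] N := Submodule.liftQ I (LinearMap.toSpanSingleton A N s) hle
  have hφ : ∀ a : A, φ (Ideal.Quotient.mk I a) = a • s := fun a => rfl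
  have hφsurj : Function.Surjective φ := by
    intro m
    obtain ⟨a, ha⟩ := hs m
    exact ⟨Ideal.Quotient.mk I a, by rw [hφ, ha]⟩
  haveI : Module.Finite A N := Module.Finite.of_surjective φ hφsurj
  let K : Submodule A (A ⧸ I) := LinearMap.ker φ
  let K' : Ideal (A ⧸ I) :=
    { carrier := K
      add_mem' := fun {x y} hx hy => K.add_mem hx hy
      zero_mem' := K.zero_mem
      smul_mem' := by
        intro r x hx
        obtain ⟨r', rfl⟩ := Ideal.Quotient.mk_surjective r
        have : Ideal.Quotient.mk I r' • x = r' • x := by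
          rw [smul_eq_mul, Algebra.smul_def]; rfl
        change Ideal.Quotient.mk I r' • x ∈ K
        rw [this]
        exact K.smul_mem r' hx }
  have hKK' : ∀ x, x ∈ K' ↔ x ∈ K := fun x => Iff.rfl
  obtain ⟨b, hb⟩ := (IsPrincipalIdealRing.principal K').principal
  have hses : ∀ [Module.Finite A K], cF A (A ⧸ I) = cF A K + cF A N := by
    intro _
    exact cF_ses (A := A) K.subtype φ K.injective_subtype hφsurj (fun x => by
      constructor
      · intro hx; exact ⟨⟨x, hx⟩, rfl⟩
      · rintro ⟨y, rfl⟩; exact y.2)
  by_cases hb0 : b = 0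
  · have hKbot : ∀ x : K, x = 0 := by
      intro x
      have hx : (x : A ⧸ I) ∈ K' := x.2
      rw [hb, hb0, Submodule.span_singleton_eq_bot.2 rfl, Submodule.mem_bot] at hx
      exact Subtype.ext hx
    haveI : Subsingleton K := ⟨fun x y => by rw [hKbot x, hKbot y]⟩
    haveI : Module.Finite A K := Module.Finite.of_surjective (0 : A →ₗ[A] K)
      (fun m => ⟨0, Subsingleton.elim _ _⟩)
    have h := hses
    rw [cF_subsingleton (A := A) K, zero_add] at h
    rw [← h]
    exact AddSubgroup.mem_zmultiples _
  · have hbK : ∀ r : A ⧸ I, r * b ∈ K := by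
      intro r
      rw [← hKK', hb]
      exact Ideal.mem_span_singleton'.2 ⟨r, rfl⟩
    let ψ : (A ⧸ I) →ₗ[A] K :=
      { toFun := fun r => ⟨r * b, hbK r⟩
        map_add' := fun x y => Subtype.ext (add_mul x y b)
        map_smul' := fun c x => Subtype.ext (smul_mul_assoc c x b) }
    have hψinj : Function.Injective ψ := by
      intro x y hxy
      have : x * b = y * b := congrArg Subtype.val hxy
      exact mul_right_cancel₀ hb0 this
    have hψsurj : Function.Surjective ψ := by
      intro x
      have hx : (x : A ⧸ I) ∈ K' := x.2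
      rw [hb] at hx
      obtain ⟨r, hr⟩ := Ideal.mem_span_singleton'.1 hx
      exact ⟨r, Subtype.ext hr⟩
    let e : (A ⧸ I) ≃ₗ[A] K := LinearEquiv.ofBijective ψ ⟨hψinj, hψsurj⟩
    haveI : Module.Finite A K := Module.Finite.equiv e
    have h := hses
    rw [← cF_equiv e] at h
    have h0 : cF A N = 0 := by
      have := h
      exact (left_eq_add.mp this)
    rw [h0]
    exact AddSubgroup.zero_mem _

theorem cF_mem_zmultiples_aux : ∀ (n : ℕ) (M : Type u) [AddCommGroup M] [Module A M]
    (_ : ∀ a ∈ I, ∀ m : M, a • m = 0) (s : Fin n → M)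
    (_ : Submodule.span A (Set.range s) = ⊤),
    cF A M ∈ AddSubgroup.zmultiples (cF A (A ⧸ I)) := by
  intro n
  induction n with
  | zero =>
    intro M _ _ hI s hs
    have : Set.range s = ∅ := Set.range_eq_empty s
    rw [this, Submodule.span_empty] at hs
    haveI : Subsingleton M := by
      constructor
      intro x y
      have hx : x ∈ (⊤ : Submodule A M) := Submodule.mem_top
      have hy : y ∈ (⊤ : Submodule A M) := Submodule.mem_top
      rw [← hs, Submodule.mem_bot] at hx hy
      rw [hx, hy]
    rw [cF_subsingleton (A := A) M]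
    exact AddSubgroup.zero_mem _
  | succ n ih =>
    intro M _ _ hI s hs
    haveI hMfin : Module.Finite A M := by
      constructor
      rw [← hs]
      exact Submodule.fg_span (Set.finite_range s)
    let N : Submodule A M := Submodule.span A {s 0}
    haveI hNfin : Module.Finite A N :=
      Module.Finite.of_fg (Submodule.fg_span_singleton (s 0))
    have hses := cF_ses (A := A) N.subtype N.mkQ N.injective_subtype N.mkQ_surjective
      (fun x => by
        constructor
        · intro hx
          exact ⟨⟨x, (Submodule.Quotient.mk_eq_zero N).1 hx⟩, rfl⟩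
        · rintro ⟨y, rfl⟩
          exact (Submodule.Quotient.mk_eq_zero N).2 y.2)
    have hN : cF A N ∈ AddSubgroup.zmultiples (cF A (A ⧸ I)) := by
      apply cF_cyclic_mem I N (fun a ha m => Subtype.ext (hI a ha m.1))
        ⟨s 0, Submodule.mem_span_singleton_self _⟩
      intro m
      obtain ⟨a, ha⟩ := Submodule.mem_span_singleton.1 m.2
      exact ⟨a, Subtype.ext ha⟩
    have hQ : cF A (M ⧸ N) ∈ AddSubgroup.zmultiples (cF A (A ⧸ I)) := by
      apply ih (M ⧸ N) _ (fun i => N.mkQ (s i.succ))
      · rw [eq_top_iff]
        rintro x -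
        obtain ⟨m, rfl⟩ := N.mkQ_surjective x
        have hm : m ∈ Submodule.span A (Set.range s) := by rw [hs]; exact Submodule.mem_top
        induction hm using Submodule.span_induction with
        | mem y hy =>
          obtain ⟨i, rfl⟩ := hy
          refine Fin.cases ?_ (fun j => ?_) i
          · have : N.mkQ (s 0) = 0 :=
              (Submodule.Quotient.mk_eq_zero N).2 (Submodule.mem_span_singleton_self _)
            rw [this]
            exact Submodule.zero_mem _
          · exact Submodule.subset_span ⟨j, rfl⟩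
        | zero => rw [map_zero]; exact Submodule.zero_mem _
        | add x y _ _ hx hy => rw [map_add]; exact Submodule.add_mem _ hx hy
        | smul a x _ hx => rw [map_smul]; exact Submodule.smul_mem _ a hx
      · intro a ha x
        obtain ⟨m, rfl⟩ := N.mkQ_surjective x
        rw [← map_smul, hI a ha m, map_zero]
    rw [hses]
    exact AddSubgroup.add_mem _ hN hQ

theorem cF_mem_zmultiples (M : Type u) [AddCommGroup M] [Module A M] [Module.Finite A M]
    (hI : ∀ a ∈ I, ∀ m : M, a • m = 0) :
    cF A M ∈ AddSubgroup.zmultiples (cF A (A ⧸ I)) := by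
  obtain ⟨n, s, hs⟩ := Module.Finite.exists_fin (R := A) (M := M)
  exact cF_mem_zmultiples_aux I n M hI s hs

end devissage

end Groth.Agent.Lib.helper10.G0
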