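import Groth.Agent.Lib.Helper10.DetV10

/-!
# The first fundamental theorem for `GL_n` (helper10), part 1: the translation action, evaluation
at points, and enlarging the matrices
-/

set_option autoImplicit false
set_option linter.unusedSectionVars false
set_option linter.style.haveILetI false

universe u

open MvPolynomial W4bk4grassmannian

namespace Groth.Agent.Lib.helper10.GLF

open Groth.Agent.Lib.helper10.SMT Groth.Agent.Lib.helper10.FFT Groth.Agent.Lib.helper10.DetV

section Basic

variable (K : Type u) [Field K] (n m q : ℕ)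

/-- The point `(U₀, W₀)` of the space of pairs of matrices. -/
def pt (U₀ : Matrix (Fin m) (Fin n) K) (W₀ : Matrix (Fin n) (Fin q) K) :
    (Fin m × Fin n) ⊕ (Fin n × Fin q) → K :=
  Sum.elim (fun p : Fin m × Fin n => U₀ p.1 p.2) (fun p : Fin n × Fin q => W₀ p.1 p.2)

theorem glTranslate_X_inl (A : GL (Fin n) K) (p : Fin m × Fin n) :
    glTranslate K n m q A (X (Sum.inl p)) = Finset.univ.sum fun k : Fin n =>
      X (Sum.inl (p.1, k)) * C (((A⁻¹ : GL (Fin n) K) : Matrix (Fin n) (Fin n) K) k p.2) := by
  unfold glTranslate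
  rw [aeval_X]
  rfl

theorem glTranslate_X_inr (A : GL (Fin n) K) (p : Fin n × Fin q) :
    glTranslate K n m q A (X (Sum.inr p)) = Finset.univ.sum fun k : Fin n =>
      C ((A : Matrix (Fin n) (Fin n) K) p.1 k) * X (Sum.inr (k, p.2)) := by
  unfold glTranslate
  rw [aeval_X]
  rfl

/-- Polynomials in the entries of the product are invariant. -/
theorem glTranslate_pairingMap (A : GL (Fin n) K) (Φ : MvPolynomial (Fin m × Fin q) K) :
    glTranslate K n m q A (pairingMap K n m q Φ) = pairingMap K n m q Φ := by
  have h : (glTranslate K n m q A).comp (pairingMap K n m q) = pairingMap K n m q := by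
    apply MvPolynomial.algHom_ext
    intro p
    rw [AlgHom.comp_apply]
    unfold pairingMap
    rw [aeval_X, map_sum]
    simp only [map_mul, glTranslate_X_inl, glTranslate_X_inr]
    obtain ⟨CA, hCA⟩ : ∃ CA : Matrix (Fin n) (Fin n) (PairRing K n m q),
        CA = (A : Matrix (Fin n) (Fin n) K).map C := ⟨_, rfl⟩
    obtain ⟨CAi, hCAi⟩ : ∃ CAi : Matrix (Fin n) (Fin n) (PairRing K n m q),
        CAi = ((A⁻¹ : GL (Fin n) K) : Matrix (Fin n) (Fin n) K).map C := ⟨_, rfl⟩
    have hinv : CAi * CA = 1 := by
      rw [hCA, hCAi, ← Matrix.map_mul, ← Matrix.GeneralLinearGroup.coe_mul, inv_mul_cancel,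
        Matrix.GeneralLinearGroup.coe_one, Matrix.map_one _ C.map_zero C.map_one]
    have h1 : (Finset.univ.sum fun k : Fin n =>
        (Finset.univ.sum fun l : Fin n => X (Sum.inl (p.1, l)) *
          C (((A⁻¹ : GL (Fin n) K) : Matrix (Fin n) (Fin n) K) l k)) *
        (Finset.univ.sum fun l : Fin n => C ((A : Matrix (Fin n) (Fin n) K) k l) *
          (X (Sum.inr (l, p.2)) : PairRing K n m q))) =
        ((Umat K n m q * CAi) * (CA * Wmat K n m q)) p.1 p.2 := by
      rw [Matrix.mul_apply]
      apply Finset.sum_congr rfl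
      intro k _
      rw [Matrix.mul_apply, Matrix.mul_apply, hCA, hCAi]
      rfl
    have h2 : (Finset.univ.sum fun k : Fin n =>
        (X (Sum.inl (p.1, k)) : PairRing K n m q) * X (Sum.inr (k, p.2))) =
        (Umat K n m q * Wmat K n m q) p.1 p.2 := by
      rw [Matrix.mul_apply]
      rfl
    rw [h2]
    refine Eq.trans h1 ?_
    rw [Matrix.mul_assoc, ← Matrix.mul_assoc CAi, hinv, Matrix.one_mul]
  have h1 := DFunLike.congr_fun h Φ
  rw [AlgHom.comp_apply] at h1
  exact h1

/-- Evaluating a translate at `(U₀, W₀)` is evaluating at `(U₀ A⁻¹, A W₀)`. -/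
theorem eval_glTranslate (A : GL (Fin n) K) (U₀ : Matrix (Fin m) (Fin n) K)
    (W₀ : Matrix (Fin n) (Fin q) K) (f : PairRing K n m q) :
    MvPolynomial.eval (pt K n m q U₀ W₀) (glTranslate K n m q A f) =
      MvPolynomial.eval (pt K n m q (U₀ * ((A⁻¹ : GL (Fin n) K) : Matrix (Fin n) (Fin n) K))
        ((A : Matrix (Fin n) (Fin n) K) * W₀)) f := by
  have h : (MvPolynomial.aeval (pt K n m q U₀ W₀) : PairRing K n m q →ₐ[K] K).comp
      (glTranslate K n m q A) =
      MvPolynomial.aeval (pt K n m q (U₀ * ((A⁻¹ : GL (Fin n) K) : Matrix (Fin n) (Fin n) K))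
        ((A : Matrix (Fin n) (Fin n) K) * W₀)) := by
    apply MvPolynomial.algHom_ext
    rintro (p | p)
    · rw [AlgHom.comp_apply, glTranslate_X_inl, map_sum, aeval_X]
      unfold pt
      rw [Sum.elim_inl, Matrix.mul_apply]
      apply Finset.sum_congr rfl
      intro k _
      rw [map_mul, aeval_X, aeval_C]
      rfl
    · rw [AlgHom.comp_apply, glTranslate_X_inr, map_sum, aeval_X]
      unfold pt
      rw [Sum.elim_inr, Matrix.mul_apply]
      apply Finset.sum_congr rfl
      intro k _
      rw [map_mul, aeval_X, aeval_C]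
      rfl
  have h1 := DFunLike.congr_fun h f
  rw [AlgHom.comp_apply] at h1
  exact h1

/-- Evaluating the pairing at `(U₀, W₀)` is evaluating at the product `U₀ W₀`. -/
theorem eval_pt_pairingMap (U₀ : Matrix (Fin m) (Fin n) K) (W₀ : Matrix (Fin n) (Fin q) K)
    (f : MvPolynomial (Fin m × Fin q) K) :
    MvPolynomial.eval (pt K n m q U₀ W₀) (pairingMap K n m q f) =
    MvPolynomial.eval (fun p : Fin m × Fin q => (U₀ * W₀) p.1 p.2) f :=
  eval_pairingMap K n m q U₀ W₀ f

end Basic

section Enlarge

variable (K : Type u) [Field K] (n m q a b : ℕ)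

/-- Enlarging the matrices: `U` gets `a` more rows and `W` gets `b` more columns. -/
noncomputable def embed : PairRing K n m q →ₐ[K] PairRing K n (m + a) (q + b) :=
  MvPolynomial.aeval (Sum.elim
    (fun p : Fin m × Fin n => X (Sum.inl (Fin.castAdd a p.1, p.2)))
    (fun p : Fin n × Fin q => X (Sum.inr (p.1, Fin.castAdd b p.2))))

/-- Setting the new variables to zero. -/
noncomputable def proj : PairRing K n (m + a) (q + b) →ₐ[K] PairRing K n m q :=
  MvPolynomial.aeval (Sum.elim
    (fun p : Fin (m + a) × Fin n => if h : p.1.val < m then X (Sum.inl (⟨p.1.val, h⟩, p.2)) else 0)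
    (fun p : Fin n × Fin (q + b) => if h : p.2.val < q then X (Sum.inr (p.1, ⟨p.2.val, h⟩)) else 0))

/-- Setting the new entries of the product matrix to zero. -/
noncomputable def projY : MvPolynomial (Fin (m + a) × Fin (q + b)) K →ₐ[K]
    MvPolynomial (Fin m × Fin q) K :=
  MvPolynomial.aeval fun p : Fin (m + a) × Fin (q + b) =>
    if h : p.1.val < m ∧ p.2.val < q then X (⟨p.1.val, h.1⟩, ⟨p.2.val, h.2⟩) else 0

theorem proj_embed (f : PairRing K n m q) : proj K n m q a b (embed K n m q a b f) = f := by
  have h : (proj K n m q a b).comp (embed K n m q a b) = AlgHom.id K _ := by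
    apply MvPolynomial.algHom_ext
    rintro (p | p)
    · rw [AlgHom.comp_apply, AlgHom.id_apply]
      unfold embed proj
      rw [aeval_X, Sum.elim_inl, aeval_X, Sum.elim_inl]
      rw [dif_pos (by exact p.1.isLt)]
      rfl
    · rw [AlgHom.comp_apply, AlgHom.id_apply]
      unfold embed proj
      rw [aeval_X, Sum.elim_inr, aeval_X, Sum.elim_inr]
      rw [dif_pos (by exact p.2.isLt)]
      rfl
  have h1 := DFunLike.congr_fun h f
  rw [AlgHom.comp_apply, AlgHom.id_apply] at h1
  exact h1

theorem glTranslate_embed (A : GL (Fin n) K) (f : PairRing K n m q) :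
    glTranslate K n (m + a) (q + b) A (embed K n m q a b f) =
      embed K n m q a b (glTranslate K n m q A f) := by
  have h : (glTranslate K n (m + a) (q + b) A).comp (embed K n m q a b) =
      (embed K n m q a b).comp (glTranslate K n m q A) := by
    apply MvPolynomial.algHom_ext
    rintro (p | p)
    · rw [AlgHom.comp_apply, AlgHom.comp_apply, glTranslate_X_inl, map_sum]
      unfold embed
      rw [aeval_X, Sum.elim_inl, glTranslate_X_inl]
      apply Finset.sum_congr rfl
      intro k _
      rw [map_mul, aeval_X, Sum.elim_inl, aeval_C]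
      rfl
    · rw [AlgHom.comp_apply, AlgHom.comp_apply, glTranslate_X_inr, map_sum]
      unfold embed
      rw [aeval_X, Sum.elim_inr, glTranslate_X_inr]
      apply Finset.sum_congr rfl
      intro k _
      rw [map_mul, aeval_X, Sum.elim_inr, aeval_C]
      rfl
  have h1 := DFunLike.congr_fun h f
  rw [AlgHom.comp_apply, AlgHom.comp_apply] at h1
  exact h1

theorem proj_pairingMap (Φ : MvPolynomial (Fin (m + a) × Fin (q + b)) K) :
    proj K n m q a b (pairingMap K n (m + a) (q + b) Φ) =
      pairingMap K n m q (projY K m q a b Φ) := by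
  have h : (proj K n m q a b).comp (pairingMap K n (m + a) (q + b)) =
      (pairingMap K n m q).comp (projY K m q a b) := by
    apply MvPolynomial.algHom_ext
    intro p
    rw [AlgHom.comp_apply, AlgHom.comp_apply]
    unfold projY
    rw [aeval_X]
    have h0 : pairingMap K n (m + a) (q + b) (X p) = Finset.univ.sum fun k : Fin n =>
        X (Sum.inl (p.1, k)) * X (Sum.inr (k, p.2)) := by
      unfold pairingMap
      rw [aeval_X]
    rw [h0, map_sum]
    unfold proj
    simp only [map_mul, aeval_X, Sum.elim_inl, Sum.elim_inr]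
    by_cases h1 : p.1.val < m
    · by_cases h2 : p.2.val < q
      · rw [dif_pos ⟨h1, h2⟩]
        unfold pairingMap
        rw [aeval_X]
        apply Finset.sum_congr rfl
        intro k _
        rw [dif_pos h1, dif_pos h2]
      · rw [dif_neg (fun h => h2 h.2), map_zero]
        apply Finset.sum_eq_zero
        intro k _
        rw [dif_neg h2, mul_zero]
    · rw [dif_neg (fun h => h1 h.1), map_zero]
      apply Finset.sum_eq_zero
      intro k _
      rw [dif_neg h1, zero_mul]
  have h1 := DFunLike.congr_fun h Φ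
  rw [AlgHom.comp_apply, AlgHom.comp_apply] at h1
  exact h1

end Enlarge

end Groth.Agent.Lib.helper10.GLF
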