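import Groth.Agent.Lib.Helper10.GLF1

/-!
# The first fundamental theorem for `GL_n` (helper10), part 2: the section over the locus where
the lower left `n × n` minor of the product is invertible
-/

set_option autoImplicit false
set_option linter.unusedSectionVars false
set_option linter.style.haveILetI false

universe u

open MvPolynomial W4bk4grassmannian

namespace Groth.Agent.Lib.helper10.GLF

open Groth.Agent.Lib.helper10.SMT Groth.Agent.Lib.helper10.FFT Groth.Agent.Lib.helper10.DetV

section MatrixIdentity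

variable {K : Type u} [Field K]

theorem adjugate_mul_mul {n q : ℕ} (Ub Wl : Matrix (Fin n) (Fin n) K)
    (W₀ : Matrix (Fin n) (Fin q) K) (h : (Ub * Wl).det ≠ 0) :
    (Ub * Wl).adjugate * (Ub * W₀) = (Ub * Wl).det • (Wl⁻¹ * W₀) := by
  have hdet : (Ub * Wl).det = Ub.det * Wl.det := Matrix.det_mul _ _
  have hW : IsUnit Wl.det :=
    isUnit_iff_ne_zero.2 (fun h0 => h (by rw [hdet, h0, mul_zero]))
  have h1 : Wl.det • Wl⁻¹ = Wl.adjugate := by
    rw [Matrix.nonsing_inv_apply _ hW, smul_smul, hW.mul_val_inv, one_smul]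
  rw [Matrix.adjugate_mul_distrib, Matrix.mul_assoc, ← Matrix.mul_assoc Ub.adjugate,
    Matrix.adjugate_mul, Matrix.smul_mul, Matrix.one_mul, Matrix.mul_smul, hdet, mul_smul,
    ← h1, Matrix.smul_mul]

end MatrixIdentity

section Section

/-- The last `n` rows. -/
def rowsB (n m : ℕ) (hnm : n ≤ m) (k : Fin n) : Fin m := ⟨m - n + k.val, by have := k.isLt; omega⟩

/-- The first `n` columns. -/
def colsL (n q : ℕ) (hnq : n ≤ q) (k : Fin n) : Fin q := ⟨k.val, by have := k.isLt; omega⟩

variable (K : Type u) [Field K] (n m q : ℕ) (hnm : n ≤ m) (hnq : n ≤ q)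

/-- The lower left `n × n` minor of the generic `m × q` matrix. -/
noncomputable def delta2 : MvPolynomial (Fin m × Fin q) K :=
  ((genMatrix K m q).submatrix (rowsB n m hnm) (colsL n q hnq)).det

/-- The adjugate of the lower left block times the last `n` rows. -/
noncomputable def madj : Matrix (Fin n) (Fin q) (MvPolynomial (Fin m × Fin q) K) :=
  ((genMatrix K m q).submatrix (rowsB n m hnm) (colsL n q hnq)).adjugate *
    (genMatrix K m q).submatrix (rowsB n m hnm) id

theorem genMatrix_map_eval (B₀ : Matrix (Fin m) (Fin q) K) :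
    (genMatrix K m q).map (MvPolynomial.eval fun p : Fin m × Fin q => B₀ p.1 p.2) = B₀ := by
  refine Matrix.ext fun i j => ?_
  rw [Matrix.map_apply]
  unfold genMatrix
  rw [Matrix.of_apply, eval_X]

theorem eval_delta2 (B₀ : Matrix (Fin m) (Fin q) K) :
    MvPolynomial.eval (fun p : Fin m × Fin q => B₀ p.1 p.2) (delta2 K n m q hnm hnq) =
      (B₀.submatrix (rowsB n m hnm) (colsL n q hnq)).det := by
  unfold delta2
  rw [RingHom.map_det, RingHom.mapMatrix_apply, ← Matrix.submatrix_map, genMatrix_map_eval]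

theorem eval_madj (B₀ : Matrix (Fin m) (Fin q) K) (k : Fin n) (j : Fin q) :
    MvPolynomial.eval (fun p : Fin m × Fin q => B₀ p.1 p.2) (madj K n m q hnm hnq k j) =
      ((B₀.submatrix (rowsB n m hnm) (colsL n q hnq)).adjugate *
        B₀.submatrix (rowsB n m hnm) id) k j := by
  have h : (madj K n m q hnm hnq).map (MvPolynomial.eval fun p : Fin m × Fin q => B₀ p.1 p.2) =
      (B₀.submatrix (rowsB n m hnm) (colsL n q hnq)).adjugate *
        B₀.submatrix (rowsB n m hnm) id := by
    unfold madj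
    rw [Matrix.map_mul, ← Matrix.submatrix_map, genMatrix_map_eval]
    congr 1
    have h1 := RingHom.map_adjugate (MvPolynomial.eval fun p : Fin m × Fin q => B₀ p.1 p.2)
      ((genMatrix K m q).submatrix (rowsB n m hnm) (colsL n q hnq))
    rw [RingHom.mapMatrix_apply, RingHom.mapMatrix_apply, ← Matrix.submatrix_map,
      genMatrix_map_eval] at h1
    exact h1
  rw [← h, Matrix.map_apply]

/-- Clearing denominators: every polynomial function of `(U, W)`, evaluated at
`(U W_l, W_l⁻¹ W)`, is a polynomial in the entries of `U W` divided by a power of the lower left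
minor. -/
theorem exists_clear (f : PairRing K n m q) :
    ∃ (N : ℕ) (Φ : MvPolynomial (Fin m × Fin q) K),
      ∀ (U₀ : Matrix (Fin m) (Fin n) K) (W₀ : Matrix (Fin n) (Fin q) K),
        ((U₀ * W₀).submatrix (rowsB n m hnm) (colsL n q hnq)).det ≠ 0 →
        MvPolynomial.eval (fun p : Fin m × Fin q => (U₀ * W₀) p.1 p.2) Φ =
          ((U₀ * W₀).submatrix (rowsB n m hnm) (colsL n q hnq)).det ^ N *
            MvPolynomial.eval (pt K n m q (U₀ * W₀.submatrix id (colsL n q hnq))
              ((W₀.submatrix id (colsL n q hnq))⁻¹ * W₀)) f := by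
  induction f using MvPolynomial.induction_on with
  | C c =>
    refine ⟨0, C c, ?_⟩
    intro U₀ W₀ _
    rw [eval_C, eval_C, pow_zero, one_mul]
  | add f g hf hg =>
    obtain ⟨N₁, Φ₁, h₁⟩ := hf
    obtain ⟨N₂, Φ₂, h₂⟩ := hg
    refine ⟨N₁ + N₂, delta2 K n m q hnm hnq ^ N₂ * Φ₁ + delta2 K n m q hnm hnq ^ N₁ * Φ₂, ?_⟩
    intro U₀ W₀ hd
    rw [map_add, map_mul, map_mul, map_pow, map_pow, eval_delta2, h₁ U₀ W₀ hd, h₂ U₀ W₀ hd,
      map_add]
    ring
  | mul_X f i hf =>
    obtain ⟨N, Φ, h⟩ := hf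
    rcases i with p | p
    · refine ⟨N, Φ * X (p.1, colsL n q hnq p.2), ?_⟩
      intro U₀ W₀ hd
      rw [map_mul, map_mul, h U₀ W₀ hd, eval_X, eval_X, mul_assoc]
      congr 2
    · refine ⟨N + 1, Φ * madj K n m q hnm hnq p.1 p.2, ?_⟩
      intro U₀ W₀ hd
      rw [map_mul, map_mul, h U₀ W₀ hd, eval_madj, eval_X]
      have h1 : (U₀ * W₀).submatrix (rowsB n m hnm) (colsL n q hnq) =
          U₀.submatrix (rowsB n m hnm) id * W₀.submatrix id (colsL n q hnq) :=
        Matrix.submatrix_mul U₀ W₀ _ id _ Function.bijective_id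
      have h2 : (U₀ * W₀).submatrix (rowsB n m hnm) id =
          U₀.submatrix (rowsB n m hnm) id * W₀ := by
        have := Matrix.submatrix_mul U₀ W₀ (rowsB n m hnm) id (id : Fin q → Fin q)
          Function.bijective_id
        rw [this, Matrix.submatrix_id_id]
      rw [h2]
      rw [h1] at hd ⊢
      rw [adjugate_mul_mul _ _ _ hd, Matrix.smul_apply, smul_eq_mul]
      unfold pt
      rw [Sum.elim_inr]
      ring

/-- Invariance at points: an invariant `f` takes the same value at `(U₀, W₀)` and at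
`(U₀ W_l, W_l⁻¹ W₀)`. -/
theorem eval_of_invariant (f : PairRing K n m q)
    (hf : ∀ A : GL (Fin n) K, glTranslate K n m q A f = f)
    (U₀ : Matrix (Fin m) (Fin n) K) (W₀ : Matrix (Fin n) (Fin q) K)
    (Wl : Matrix (Fin n) (Fin n) K) (hW : Wl.det ≠ 0) :
    MvPolynomial.eval (pt K n m q (U₀ * Wl) (Wl⁻¹ * W₀)) f =
      MvPolynomial.eval (pt K n m q U₀ W₀) f := by
  obtain ⟨A, hA⟩ : ∃ A : GL (Fin n) K, A = (Matrix.GeneralLinearGroup.mkOfDetNeZero Wl hW)⁻¹ :=
    ⟨_, rfl⟩
  have h1 := eval_glTranslate K n m q A U₀ W₀ f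
  rw [hf A] at h1
  have h2 : ((A⁻¹ : GL (Fin n) K) : Matrix (Fin n) (Fin n) K) = Wl := by
    rw [hA, inv_inv]
    rfl
  have h3 : (A : Matrix (Fin n) (Fin n) K) = Wl⁻¹ := by
    rw [hA, Matrix.coe_units_inv]
    rfl
  rw [h2, h3] at h1
  exact h1.symm

/-- **The section.** For an invariant `f`, a power of the lower left minor of `U W` times `f`
is a polynomial in the entries of `U W`. -/
theorem exists_section [Infinite K] (f : PairRing K n m q)
    (hf : ∀ A : GL (Fin n) K, glTranslate K n m q A f = f)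
    (hne : pairingMap K n m q (delta2 K n m q hnm hnq) ≠ 0) :
    ∃ (N : ℕ) (Φ : MvPolynomial (Fin m × Fin q) K),
      pairingMap K n m q Φ = pairingMap K n m q (delta2 K n m q hnm hnq) ^ N * f := by
  obtain ⟨N, Φ, h⟩ := exists_clear K n m q hnm hnq f
  refine ⟨N, Φ, ?_⟩
  have hprod : (pairingMap K n m q Φ - pairingMap K n m q (delta2 K n m q hnm hnq) ^ N * f) *
      pairingMap K n m q (delta2 K n m q hnm hnq) = 0 := by
    apply MvPolynomial.funext
    intro x
    obtain ⟨U₀, hU₀⟩ : ∃ U₀ : Matrix (Fin m) (Fin n) K,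
        U₀ = Matrix.of fun i k => x (Sum.inl (i, k)) := ⟨_, rfl⟩
    obtain ⟨W₀, hW₀⟩ : ∃ W₀ : Matrix (Fin n) (Fin q) K,
        W₀ = Matrix.of fun k j => x (Sum.inr (k, j)) := ⟨_, rfl⟩
    have hx : x = pt K n m q U₀ W₀ := by
      funext s
      rcases s with p | p
      · rw [hU₀]; rfl
      · rw [hW₀]; rfl
    rw [hx, map_mul, map_sub, map_mul, map_pow, map_zero, eval_pt_pairingMap, eval_pt_pairingMap,
      eval_delta2]
    by_cases hd : ((U₀ * W₀).submatrix (rowsB n m hnm) (colsL n q hnq)).det = 0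
    · rw [hd, mul_zero]
    · rw [h U₀ W₀ hd]
      have h1 : (U₀ * W₀).submatrix (rowsB n m hnm) (colsL n q hnq) =
          U₀.submatrix (rowsB n m hnm) id * W₀.submatrix id (colsL n q hnq) :=
        Matrix.submatrix_mul U₀ W₀ _ id _ Function.bijective_id
      have hW : (W₀.submatrix id (colsL n q hnq)).det ≠ 0 := by
        intro h0
        apply hd
        rw [h1, Matrix.det_mul, h0, mul_zero]
      rw [eval_of_invariant K n m q f hf U₀ W₀ _ hW, sub_self, zero_mul]
  rcases mul_eq_zero.1 hprod with h0 | h0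
  · exact sub_eq_zero.1 h0
  · exact absurd h0 hne

end Section

end Groth.Agent.Lib.helper10.GLF
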