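import Groth.Agent.Lib.Helper10.GLF2
import Groth.Agent.S11254

/-!
# The first fundamental theorem for `GL_n` (helper10), part 3: descent along the lower left minor
-/

set_option autoImplicit false
set_option linter.unusedSectionVars false
set_option linter.style.haveILetI false

universe u

open MvPolynomial W4bk4grassmannian

namespace Groth.Agent.Lib.helper10.GLF

open Groth.Agent.Lib.helper10.SMT Groth.Agent.Lib.helper10.FFT Groth.Agent.Lib.helper10.DetV

section Sign

theorem det_submatrix_eq_or_neg {R : Type*} [CommRing R] {N d : ℕ} (M : Matrix (Fin N) (Fin d) R)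
    (a b : Fin d → Fin N) (s : Fin d → Fin d) (ha : Function.Injective a)
    (h : ∀ c, a c = b (s c)) :
    (M.submatrix a id).det = (M.submatrix b id).det ∨
      (M.submatrix a id).det = -(M.submatrix b id).det := by
  have hs : Function.Injective s := by
    intro c₁ c₂ h12
    apply ha
    rw [h, h, h12]
  obtain ⟨σ, hσ⟩ : ∃ σ : Equiv.Perm (Fin d), ∀ c, σ c = s c :=
    ⟨Equiv.ofBijective s (Finite.injective_iff_bijective.1 hs), fun c => rfl⟩
  have h1 : M.submatrix a id = (M.submatrix b id).submatrix σ id := by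
    refine Matrix.ext fun c j => ?_
    rw [Matrix.submatrix_apply, Matrix.submatrix_apply, Matrix.submatrix_apply, hσ, h]
    rfl
  rw [h1, Matrix.det_permute]
  rcases Int.units_eq_one_or (Equiv.Perm.sign σ) with h2 | h2
  · left
    rw [h2]
    simp
  · right
    rw [h2]
    simp

variable (K : Type u) [Field K] (n m q : ℕ)

/-- The Plücker coordinate of `τ` restricts to the lower left minor, up to sign. -/
theorem detEval_X_tau (hnm : n < m) (hnq : n < q) :
    detEval K m q (X (tauDet m q (n + 1) (by omega) hnm)) = delta2 K n m q hnm.le hnq.le ∨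
    detEval K m q (X (tauDet m q (n + 1) (by omega) hnm)) = - delta2 K n m q hnm.le hnq.le := by
  have hinj : Function.Injective (colsL n q hnq.le) := by
    intro a b hab
    have := congrArg Fin.val hab
    apply Fin.ext
    exact this
  rw [detEval_X]
  unfold delta2
  rw [← det_bigMat_updRows (genMatrix K m q) (rowsB n m hnm.le) (colsL n q hnq.le) hinj]
  apply det_submatrix_eq_or_neg _ _ _ (fun c : Fin q =>
    if h : c.val + n < q then (⟨c.val + n, h⟩ : Fin q)
    else ⟨c.val + n - q, by have := c.isLt; omega⟩)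
    (tauDet m q (n + 1) (by omega) hnm).2.injective
  intro c
  apply Fin.ext
  rw [tauDet_apply]
  by_cases h : c.val + n < q
  · rw [dif_pos h, if_pos (by omega), updRows_apply_of_ne]
    · show c.val + (n + 1) - 1 = c.val + n
      omega
    · intro k hk
      have := congrArg Fin.val hk
      have hk' := k.isLt
      unfold colsL at this
      simp only at this
      omega
  · rw [dif_neg h, if_neg (by omega)]
    have h1 : (⟨c.val + n - q, by have := c.isLt; omega⟩ : Fin q) =
        colsL n q hnq.le ⟨c.val + n - q, by have := c.isLt; omega⟩ := rfl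
    rw [h1, updRows_apply_of_eq _ _ hinj]
    show m + c.val = q + (m - n + (c.val + n - q))
    omega

end Sign

section Descent

variable (K : Type u) [Field K] [IsAlgClosed K] (n m q : ℕ)

theorem pairingMap_detEval_X_tau_ne_zero (hnm : n < m) (hnq : n < q) :
    pairingMap K n m q (detEval K m q (X (tauDet m q (n + 1) (by omega) hnm))) ≠ 0 := by
  haveI : Infinite K := inferInstance
  have ht : 1 ≤ n + 1 := by omega
  have hq : 0 < q := by omega
  intro h0
  have h1 : detEval K m q (X (tauDet m q (n + 1) ht hnm)) ∈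
      RingHom.ker (pairingMap K n m q).toRingHom := h0
  rw [ker_pairingMap K n m q] at h1
  have h2 : (X (tauDet m q (n + 1) ht hnm) : PlRing K q (q + m)) ∈
      cellQ K (tauDet m q (n + 1) ht hnm) := by
    rw [← comap_detEval K m q (n + 1) ht hnm hnq hq, Ideal.mem_comap]
    exact h1
  exact X_notMem_cellQ K hq _ _ le_rfl h2

/-- **Descent.** If the image of `Φ` is divisible by the image of the Plücker coordinate of `τ`,
then the quotient is again in the image. -/
theorem descent (hn : 0 < n) (hnm : n < m) (hnq : n < q) (Φ : MvPolynomial (Fin m × Fin q) K)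
    (g : PairRing K n m q)
    (h : pairingMap K n m q Φ =
      pairingMap K n m q (detEval K m q (X (tauDet m q (n + 1) (by omega) hnm))) * g) :
    g ∈ (pairingMap K n m q).range := by
  haveI : Infinite K := inferInstance
  have ht : 1 ≤ n + 1 := by omega
  have hq : 0 < q := by omega
  have hne := pairingMap_detEval_X_tau_ne_zero K n m q hnm hnq
  obtain ⟨τ, hτ⟩ : ∃ τ, τ = tauDet m q (n + 1) ht hnm := ⟨_, rfl⟩
  rw [← hτ] at h hne
  obtain ⟨G, rfl⟩ := detEval_surjective K m q Φ
  obtain ⟨D, gh, hgh, hsub⟩ := exists_homogeneous_sub_mem (iotaDet m q) G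
  have hdet : detEval K m q gh = detEval K m q G := by
    have h1 : detEval K m q (G - gh) = 0 := by
      have hle : Ideal.span {(X (iotaDet m q) : PlRing K q (q + m)) - 1} ≤
          RingHom.ker (detEval K m q).toRingHom := by
        rw [Ideal.span_le]
        intro x hx
        rw [Set.mem_singleton_iff] at hx
        rw [hx, SetLike.mem_coe, RingHom.mem_ker]
        show detEval K m q (X (iotaDet m q) - 1) = 0
        rw [map_sub, detEval_X_iota, map_one, sub_self]
      exact hle hsub
    rw [map_sub, sub_eq_zero] at h1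
    exact h1.symm
  have hlt : iotaDet m q < τ := by
    rw [← iotaOf_eq_iotaDet m q τ]
    apply lt_of_le_of_ne (iotaOf_le τ τ)
    intro heq
    have h1 : ((iotaOf τ).1 ⟨0, hq⟩).val = (τ.1 ⟨0, hq⟩).val :=
      congrArg (fun θ : Idx q (q + m) => (θ.1 ⟨0, hq⟩).val) heq
    rw [hτ, tauDet_apply, if_pos (by show 0 + (n + 1) ≤ q; omega)] at h1
    have h2 : ((iotaOf (tauDet m q (n + 1) ht hnm)).1 ⟨0, hq⟩).val = 0 := rfl
    rw [h2] at h1
    have h3 : (⟨0, hq⟩ : Fin q).val = 0 := rfl
    omega
  have hkey : gh ∈ schubertVanishing K q (q + m) τ ⊔ Ideal.span {X τ} := by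
    rw [Groth.Agent.S11254.result K q (q + m) hq (by omega) τ ⟨iotaDet m q, hlt⟩, Ideal.mem_iInf]
    intro φ
    rw [Ideal.mem_iInf]
    intro hφ
    have hφlt : φ < τ := hφ.1
    rw [mem_schubertVanishing_iff K hq φ]
    have hΔ : shapeEval K φ (X (iotaDet m q)) ≠ 0 := by
      intro h0
      have h2 := wtMinor_ne_zero K φ (iotaDet m q) (by
        rw [← iotaOf_eq_iotaDet m q φ]; exact iotaOf_le φ φ)
      apply h2
      unfold wtMinor
      rw [← shapeEval_X, h0, map_zero]
    have hprod : shapeEval K φ gh * shapeEval K φ (X (iotaDet m q)) = 0 := by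
      apply MvPolynomial.funext
      intro x
      rw [map_mul, map_zero, eval_shapeEval, eval_shapeEval, evalMinors_X]
      obtain ⟨Y₀, hY₀⟩ : ∃ Y₀, Y₀ = (shapeMat K φ).map (eval x) := ⟨_, rfl⟩
      rw [← hY₀]
      have hshape : ∀ s c, φ.1 c < s → Y₀ s c = 0 := by
        intro s c hs
        rw [hY₀, Matrix.map_apply, shapeMat_apply, if_neg (not_le.2 hs), map_zero]
      by_cases hdet0 : (Y₀.submatrix (iotaDet m q).1 id).det = 0
      · rw [hdet0, mul_zero]
      · obtain ⟨T, hT⟩ : ∃ T, T = Y₀.submatrix (iotaDet m q).1 id := ⟨_, rfl⟩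
        rw [← hT] at hdet0
        have hunit : IsUnit T.det := isUnit_iff_ne_zero.2 hdet0
        have hY : Y₀ = (Y₀ * T⁻¹) * T := by
          rw [Matrix.mul_assoc, Matrix.nonsing_inv_mul _ hunit, Matrix.mul_one]
        have htop : (Y₀ * T⁻¹).submatrix (iotaDet m q).1 id = 1 := by
          rw [submatrix_mul_right, ← hT, Matrix.mul_nonsing_inv _ hunit]
        have hbig := eq_bigMat_of_top K m q (Y₀ * T⁻¹) htop
        obtain ⟨U₀, hU₀⟩ : ∃ U₀ : Matrix (Fin m) (Fin n) K,
            U₀ = Matrix.of fun i k => Y₀ (Fin.natAdd q i) (lastCols n q hnq k) := ⟨_, rfl⟩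
        obtain ⟨W₀, hW₀⟩ : ∃ W₀ : Matrix (Fin n) (Fin q) K,
            W₀ = Matrix.of fun k j => T⁻¹ (lastCols n q hnq k) j := ⟨_, rfl⟩
        have hfac : (Matrix.of fun i j => (Y₀ * T⁻¹) (Fin.natAdd q i) j) = U₀ * W₀ := by
          refine Matrix.ext fun i j => ?_
          rw [Matrix.of_apply, Matrix.mul_apply, Matrix.mul_apply,
            sum_lastCols n q hnq (fun c => Y₀ (Fin.natAdd q i) c * T⁻¹ c j)]
          · apply Finset.sum_congr rfl
            intro k _
            rw [hU₀, hW₀, Matrix.of_apply, Matrix.of_apply]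
          · intro c hc
            rw [shape_bottom_eq_zero K n m q hnm hnq Y₀ _ i c hc, zero_mul]
            intro s c' hs
            apply hshape
            refine lt_of_le_of_lt ?_ hs
            rw [← hτ]
            exact hφlt.le c'
        have hτ0 : (Y₀.submatrix τ.1 id).det = 0 :=
          det_eq_zero_of_shape φ τ Y₀ hshape (not_le_of_gt hφlt)
        have hδ0 : MvPolynomial.eval (Sum.elim (fun p : Fin m × Fin n => U₀ p.1 p.2)
            (fun p : Fin n × Fin q => W₀ p.1 p.2))
            (pairingMap K n m q (detEval K m q (X τ))) = 0 := by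
          rw [eval_pairingMap, ← hfac, eval_detEval, ← hbig, evalMinors_X, submatrix_mul_right,
            Matrix.det_mul, hτ0, zero_mul]
        have h0 : evalMinors K q (q + m) Y₀ gh = 0 := by
          rw [hY, evalMinors_mul K _ _ hgh, hbig, ← eval_detEval, hdet, hfac, ← eval_pairingMap,
            h, map_mul, hδ0, zero_mul, mul_zero]
        rw [h0, zero_mul]
    rcases mul_eq_zero.1 hprod with h0 | h0
    · exact h0
    · exact absurd h0 hΔ
  obtain ⟨j, hj, x, hx, hjx⟩ := Submodule.mem_sup.1 hkey
  obtain ⟨G', hG'⟩ := Ideal.mem_span_singleton'.1 hx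
  have hj0 : pairingMap K n m q (detEval K m q j) = 0 := by
    have h1 : j ∈ cellQ K τ := Ideal.mem_sup_left hj
    rw [hτ, ← comap_detEval K m q (n + 1) ht hnm hnq hq, Ideal.mem_comap] at h1
    exact minorIdeal_le_ker_pairingMap K n m q h1
  have h2 : pairingMap K n m q (detEval K m q G) =
      pairingMap K n m q (detEval K m q (X τ)) * pairingMap K n m q (detEval K m q G') := by
    rw [← hdet, ← hjx, ← hG', map_add, map_add, hj0, zero_add, map_mul, map_mul, mul_comm]
  rw [h2] at h
  have h3 := mul_left_cancel₀ hne h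
  exact ⟨detEval K m q G', h3⟩

/-- The first fundamental theorem when `n < m` and `n < q`. -/
theorem mem_range_of_invariant_of_lt (hn : 0 < n) (hnm : n < m) (hnq : n < q)
    (f : PairRing K n m q) (hf : ∀ A : GL (Fin n) K, glTranslate K n m q A f = f) :
    f ∈ (pairingMap K n m q).range := by
  haveI : Infinite K := inferInstance
  have hδ := detEval_X_tau K n m q hnm hnq
  have hne := pairingMap_detEval_X_tau_ne_zero K n m q hnm hnq
  have hne2 : pairingMap K n m q (delta2 K n m q hnm.le hnq.le) ≠ 0 := by
    intro h0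
    apply hne
    rcases hδ with hd | hd
    · rw [hd, h0]
    · rw [hd, map_neg, h0, neg_zero]
  obtain ⟨N, Φ, hsec⟩ := exists_section K n m q hnm.le hnq.le f hf hne2
  have key : ∀ (N : ℕ) (Φ : MvPolynomial (Fin m × Fin q) K),
      pairingMap K n m q Φ = pairingMap K n m q (delta2 K n m q hnm.le hnq.le) ^ N * f →
      f ∈ (pairingMap K n m q).range := by
    intro N
    induction N with
    | zero =>
      intro Φ h
      rw [pow_zero, one_mul] at h
      exact ⟨Φ, h⟩
    | succ N ih =>
      intro Φ h
      have h1 : pairingMap K n m q (delta2 K n m q hnm.le hnq.le) ^ N * f ∈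
          (pairingMap K n m q).range := by
        rcases hδ with hd | hd
        · apply descent K n m q hn hnm hnq Φ
          rw [hd, h]
          ring
        · apply descent K n m q hn hnm hnq (-Φ)
          rw [hd, map_neg, map_neg, h]
          ring
      obtain ⟨Φ', hΦ'⟩ := h1
      exact ih Φ' hΦ'
  exact key N Φ hsec

/-- **The first fundamental theorem for `GL_n`.** -/
theorem mem_range_of_invariant (f : PairRing K n m q)
    (hf : ∀ A : GL (Fin n) K, glTranslate K n m q A f = f) :
    f ∈ (pairingMap K n m q).range := by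
  rcases Nat.eq_zero_or_pos n with hn | hn
  · subst hn
    haveI : IsEmpty ((Fin m × Fin 0) ⊕ (Fin 0 × Fin q)) := inferInstance
    obtain ⟨c, rfl⟩ := MvPolynomial.C_surjective _ f
    refine ⟨C c, ?_⟩
    exact (pairingMap K 0 m q).commutes c
  · have h1 := mem_range_of_invariant_of_lt K n (m + (n + 1)) (q + (n + 1)) hn (by omega)
      (by omega) (embed K n m q (n + 1) (n + 1) f) (fun A => by rw [glTranslate_embed, hf A])
    obtain ⟨Φ, hΦ⟩ := h1
    have hΦ' : pairingMap K n (m + (n + 1)) (q + (n + 1)) Φ =
        embed K n m q (n + 1) (n + 1) f := hΦ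
    refine ⟨projY K m q (n + 1) (n + 1) Φ, ?_⟩
    show pairingMap K n m q (projY K m q (n + 1) (n + 1) Φ) = f
    rw [← proj_pairingMap, hΦ', proj_embed]

end Descent

end Groth.Agent.Lib.helper10.GLF
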