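import Mathlib
import Groth.Agent.S18687

/-!
G-lattices (helper10), part 1: permutation lattices are flasque; extensions of flasque lattices.
-/

set_option autoImplicit false
set_option linter.unusedSectionVars false
set_option linter.style.haveILetI false

open GLat

namespace Groth.Agent.Lib.helper10

namespace GLatD

open Groth.Agent.S18675

/-- Flasqueness for an arbitrary `ℤ`-module instance, with `Finset` sums. -/
def Flq {G : Type} [Group G] {M : Type} [AddCommGroup M] [Module ℤ M]
    (ρ : Representation ℤ G M) : Prop :=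
  ∀ (H : Subgroup G) [Fintype H] (m : M), (∑ h : H, ρ (h : G) m) = 0 →
    m ∈ Submodule.span ℤ {x : M | ∃ (h : H) (y : M), x = ρ (h : G) y - y}

theorem isFlasque_of_flq {G : Type} [Group G] [Finite G] {M : Type} [AddCommGroup M]
    (ρ : Representation ℤ G M) (h : Flq ρ) : GLat.IsFlasque ρ := by
  intro H m hm
  haveI : Fintype H := Fintype.ofFinite H
  rw [finsum_eq_sum_of_fintype] at hm
  exact h H m hm

/-- The norm kills the augmentation submodule. -/
theorem norm_sub {G : Type} [Group G] {M : Type} [AddCommGroup M] [Module ℤ M]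
    (ρ : Representation ℤ G M)
    (H : Subgroup G) [Fintype H] (k : H) (y : M) :
    (∑ h : H, ρ (h : G) (ρ (k : G) y - y)) = 0 := by
  simp only [map_sub, Finset.sum_sub_distrib]
  rw [sub_eq_zero]
  refine Fintype.sum_equiv (Equiv.mulRight k) _ _ (fun h => ?_)
  show ρ (h : G) (ρ (k : G) y) = ρ ((h * k : H) : G) y
  rw [Subgroup.coe_mul, map_mul]
  rfl

theorem norm_eq_zero_of_mem_span {G : Type} [Group G] {M : Type} [AddCommGroup M] [Module ℤ M]
    (ρ : Representation ℤ G M) (H : Subgroup G) [Fintype H] {t : M}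
    (ht : t ∈ Submodule.span ℤ {x : M | ∃ (h : H) (y : M), x = ρ (h : G) y - y}) :
    (∑ h : H, ρ (h : G) t) = 0 := by
  induction ht using Submodule.span_induction with
  | mem x hx =>
    obtain ⟨k, y, rfl⟩ := hx
    exact norm_sub ρ H k y
  | zero => simp
  | add x y _ _ hx hy =>
    simp only [map_add, Finset.sum_add_distrib, hx, hy, add_zero]
  | smul n x _ hx =>
    have h1 := fun h : H => (ρ (h : G)).map_smul n x
    rw [Finset.sum_congr rfl (fun h _ => h1 h), ← Finset.smul_sum, hx, smul_zero]

/-- Permutation lattices are flasque. -/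
theorem flasque_tau {G : Type} [Group G] [Finite G] {I : Type} [Finite I] [MulAction G I] :
    Flq (tau (G := G) (I := I)) := by
  classical
  intro H _ y hy
  haveI : Fintype I := Fintype.ofFinite I
  -- orbit representatives for the action of `H`
  let r : I → I := fun x => Quotient.out (Quotient.mk (MulAction.orbitRel H I) x)
  have hr : ∀ x, ∃ a : H, (a : G) • r x = x := by
    intro x
    have h1 : (MulAction.orbitRel H I).r (r x) x := Quotient.mk_out (s := MulAction.orbitRel H I) x
    have h2 : x ∈ MulAction.orbit H (r x) := by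
      have := (MulAction.orbitRel H I).symm h1
      exact (MulAction.orbitRel_apply).1 this
    obtain ⟨b, hb⟩ := h2
    exact ⟨b, hb⟩
  choose α hα using hr
  have hrsmul : ∀ (g : H) (x : I), r ((g : G) • x) = r x := by
    intro g x
    have : Quotient.mk (MulAction.orbitRel H I) (g • x) = Quotient.mk (MulAction.orbitRel H I) x :=
      Quotient.sound (MulAction.mem_orbit x g)
    show Quotient.out (Quotient.mk (MulAction.orbitRel H I) (g • x)) = _
    rw [this]
  have hrr : ∀ x, r (r x) = r x := by
    intro x
    have := hrsmul (α x) (r x)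
    rw [hα x] at this
    exact this.symm
  set T := Submodule.span ℤ {x : I →₀ ℤ | ∃ (h : H) (z : I →₀ ℤ), x = tau (h : G) z - z} with hT
  obtain ⟨S, hS⟩ : ∃ S : I →₀ ℤ, S = ∑ j, Finsupp.single (r j) (y j) := ⟨_, rfl⟩
  obtain ⟨t, ht⟩ : ∃ t : I →₀ ℤ, t = ∑ j, (tau ((α j : H) : G) (Finsupp.single (r j) (y j)) -
      Finsupp.single (r j) (y j)) := ⟨_, rfl⟩
  have htT : t ∈ T := by
    rw [ht]
    exact Submodule.sum_mem _ fun j _ => Submodule.subset_span ⟨α j, _, rfl⟩
  have hyts : y = t + S := by
    rw [ht, hS, ← Finset.sum_add_distrib]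
    conv_lhs => rw [← Finsupp.univ_sum_single y]
    refine Finset.sum_congr rfl fun j _ => ?_
    rw [sub_add_cancel, tau_single, hα j]
  have hNS : (∑ h : H, tau (h : G) S) = 0 := by
    have h1 : S = y - t := by rw [hyts]; abel
    rw [h1]
    simp only [map_sub, Finset.sum_sub_distrib]
    rw [hy, norm_eq_zero_of_mem_span tau H htT, sub_zero]
  have hSapply : ∀ x, S x = ∑ j, if r j = x then y j else 0 := by
    intro x
    rw [hS, Finsupp.finsetSum_apply]
    refine Finset.sum_congr rfl fun j _ => ?_
    rw [Finsupp.single_apply]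
  have hSsupp : ∀ x, r x ≠ x → S x = 0 := by
    intro x hx
    rw [hSapply]
    refine Finset.sum_eq_zero fun j _ => ?_
    rw [if_neg]
    intro hj
    apply hx
    rw [← hj, hrr]
  have hS0 : S = 0 := by
    ext x
    rw [Finsupp.zero_apply]
    by_cases hx : r x = x
    · have h1 := DFunLike.congr_fun hNS x
      rw [Finsupp.finsetSum_apply, Finsupp.zero_apply] at h1
      have h2 : ∀ h : H, tau (h : G) S x = if (h : G)⁻¹ • x = x then S x else 0 := by
        intro h
        rw [tau_apply]
        split_ifs with hh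
        · rw [hh]
        · apply hSsupp
          intro h3
          apply hh
          have h4 := hrsmul h⁻¹ x
          rw [Subgroup.coe_inv] at h4
          rw [← h3, h4, hx]
      simp only [h2] at h1
      rw [Finset.sum_ite, Finset.sum_const_zero, add_zero, Finset.sum_const, nsmul_eq_mul] at h1
      have hpos : 0 < (Finset.univ.filter fun h : H => (h : G)⁻¹ • x = x).card := by
        apply Finset.card_pos.mpr
        exact ⟨1, by simp⟩
      rcases mul_eq_zero.1 h1 with h5 | h5
      · exfalso
        have : ((Finset.univ.filter fun h : H => (h : G)⁻¹ • x = x).card : ℤ) ≠ 0 := by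
          exact_mod_cast hpos.ne'
        exact this h5
      · exact h5
    · exact hSsupp x hx
  rw [hyts, hS0, add_zero]
  exact htT

/-- An extension of a flasque module by a flasque module is flasque. -/
theorem flasque_of_exact {G : Type} [Group G] [Finite G] {L M N : Type} [AddCommGroup L]
    [AddCommGroup M] [AddCommGroup N] [Module ℤ L] [Module ℤ M] [Module ℤ N]
    (ρL : Representation ℤ G L) (ρM : Representation ℤ G M)
    (ρN : Representation ℤ G N) (i : L →ₗ[ℤ] M) (π : M →ₗ[ℤ] N)
    (hi : ∀ g l, i (ρL g l) = ρM g (i l)) (hπ : ∀ g m, π (ρM g m) = ρN g (π m))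
    (hinj : Function.Injective i) (hsurj : Function.Surjective π)
    (hex : LinearMap.range i = LinearMap.ker π)
    (hL : Flq ρL) (hN : Flq ρN) : Flq ρM := by
  classical
  intro H _ m hm
  have hLf : ∀ l : L, (∑ h : H, ρL (h : G) l) = 0 →
      l ∈ Submodule.span ℤ {x : L | ∃ (h : H) (y : L), x = ρL (h : G) y - y} :=
    fun l hl => hL H l hl
  have hNf : ∀ n : N, (∑ h : H, ρN (h : G) n) = 0 →
      n ∈ Submodule.span ℤ {x : N | ∃ (h : H) (y : N), x = ρN (h : G) y - y} :=
    fun n hn => hN H n hn
  have h1 : (∑ h : H, ρN (h : G) (π m)) = 0 := by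
    have := congrArg π hm
    rw [map_sum, map_zero] at this
    simpa only [hπ] using this
  have h2 := hNf (π m) h1
  -- lift the augmentation element
  have hlift : ∀ n ∈ Submodule.span ℤ {x : N | ∃ (h : H) (y : N), x = ρN (h : G) y - y},
      ∃ t ∈ Submodule.span ℤ {x : M | ∃ (h : H) (y : M), x = ρM (h : G) y - y}, π t = n := by
    intro n hn
    induction hn using Submodule.span_induction with
    | mem x hx =>
      obtain ⟨k, y, rfl⟩ := hx
      obtain ⟨y', rfl⟩ := hsurj y
      exact ⟨ρM (k : G) y' - y', Submodule.subset_span ⟨k, y', rfl⟩, by rw [map_sub, hπ]⟩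
    | zero => exact ⟨0, zero_mem _, map_zero _⟩
    | add x y _ _ hx hy =>
      obtain ⟨tx, htx, rfl⟩ := hx
      obtain ⟨ty, hty, rfl⟩ := hy
      exact ⟨tx + ty, add_mem htx hty, map_add _ _ _⟩
    | smul c x _ hx =>
      obtain ⟨tx, htx, rfl⟩ := hx
      exact ⟨_, Submodule.smul_mem _ c htx, π.map_smul c tx⟩
  obtain ⟨t, ht, hπt⟩ := hlift _ h2
  have h3 : m - t ∈ LinearMap.ker π := by
    rw [LinearMap.mem_ker, map_sub, hπt, sub_self]
  rw [← hex] at h3
  obtain ⟨l, hl⟩ := h3
  have h4 : (∑ h : H, ρL (h : G) l) = 0 := by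
    apply hinj
    rw [map_sum, map_zero]
    simp only [hi, hl, map_sub, Finset.sum_sub_distrib]
    rw [hm, norm_eq_zero_of_mem_span ρM H ht, sub_zero]
  have h5 := hLf l h4
  have himg : ∀ l' ∈ Submodule.span ℤ {x : L | ∃ (h : H) (y : L), x = ρL (h : G) y - y},
      i l' ∈ Submodule.span ℤ {x : M | ∃ (h : H) (y : M), x = ρM (h : G) y - y} := by
    intro l' hl'
    induction hl' using Submodule.span_induction with
    | mem x hx =>
      obtain ⟨k, y, rfl⟩ := hx
      rw [map_sub, hi]
      exact Submodule.subset_span ⟨k, i y, rfl⟩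
    | zero => rw [map_zero]; exact zero_mem _
    | add x y _ _ hx hy => rw [map_add]; exact add_mem hx hy
    | smul c x _ hx => rw [i.map_smul]; exact Submodule.smul_mem _ c hx
  have h6 := himg l h5
  have h7 : m = i l + t := by rw [hl]; abel
  rw [h7]
  exact add_mem h6 ht

end GLatD

end Groth.Agent.Lib.helper10
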