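import Groth.Agent.Lib.Helper10.GLat1

/-!
G-lattices (helper10), part 2: quotient representations, saturated sublattices, additive duals and
the norm lemma (nondegeneracy of the Tate `Ĥ⁰` pairing, in elementary form).  All `ℤ`-module
structures are the canonical ones of additive commutative groups.
-/

set_option autoImplicit false
set_option linter.unusedSectionVars false
set_option linter.style.haveILetI false

open GLat

namespace Groth.Agent.Lib.helper10

namespace GLatD

open Groth.Agent.S18675

section QuotRep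

variable {G : Type} [Group G] {M : Type} [AddCommGroup M]

/-- The representation induced on a quotient by a stable subgroup. -/
noncomputable def quotRep (ρ : Representation ℤ G M) (K : AddSubgroup M)
    (hK : ∀ g, ∀ m ∈ K, ρ g m ∈ K) : Representation ℤ G (M ⧸ K) where
  toFun g := (QuotientAddGroup.map K K (ρ g).toAddMonoidHom
    (fun m hm => hK g m hm)).toIntLinearMap
  map_one' := by
    refine LinearMap.ext fun q => ?_
    obtain ⟨m, rfl⟩ := QuotientAddGroup.mk'_surjective K q
    show ((ρ 1 m : M) : M ⧸ K) = (m : M ⧸ K)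
    rw [map_one]
    rfl
  map_mul' a b := by
    refine LinearMap.ext fun q => ?_
    obtain ⟨m, rfl⟩ := QuotientAddGroup.mk'_surjective K q
    show ((ρ (a * b) m : M) : M ⧸ K) = ((ρ a (ρ b m) : M) : M ⧸ K)
    rw [map_mul]
    rfl

theorem quotRep_mk (ρ : Representation ℤ G M) (K : AddSubgroup M)
    (hK : ∀ g, ∀ m ∈ K, ρ g m ∈ K) (g : G) (m : M) :
    quotRep ρ K hK g (QuotientAddGroup.mk' K m) = QuotientAddGroup.mk' K (ρ g m) := rfl

end QuotRep

section Saturated

variable {M : Type} [AddCommGroup M] [Module.Finite ℤ M]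

/-- The quotient of a lattice by a saturated sublattice is a lattice. -/
theorem free_quot_of_saturated (K : AddSubgroup M)
    (hK : ∀ (c : ℤ) (m : M), c ≠ 0 → c • m ∈ K → m ∈ K) :
    Module.Finite ℤ (M ⧸ K) ∧ Module.Free ℤ (M ⧸ K) := by
  have hfin : Module.Finite ℤ (M ⧸ K) :=
    Module.Finite.of_surjective (QuotientAddGroup.mk' K).toIntLinearMap
      (QuotientAddGroup.mk'_surjective K)
  haveI := hfin
  haveI : Module.IsTorsionFree ℤ (M ⧸ K) := by
    apply Module.IsTorsionFree.of_smul_eq_zero
    intro c q hq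
    by_cases hc : c = 0
    · exact Or.inl hc
    · right
      obtain ⟨m, rfl⟩ := QuotientAddGroup.mk'_surjective K q
      have h1 : QuotientAddGroup.mk' K (c • m) = 0 := by
        rw [map_zsmul]
        exact hq
      have h2 : c • m ∈ K := (QuotientAddGroup.eq_zero_iff _).1 h1
      exact (QuotientAddGroup.eq_zero_iff _).2 (hK c m hc h2)
  exact ⟨hfin, inferInstance⟩

/-- A saturated sublattice of a lattice is a direct summand. -/
theorem exists_retraction (K : AddSubgroup M)
    (hK : ∀ (c : ℤ) (m : M), c ≠ 0 → c • m ∈ K → m ∈ K) :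
    ∃ r : M →+ M, (∀ m, r m ∈ K) ∧ ∀ m ∈ K, r m = m := by
  obtain ⟨hfin, hfree⟩ := free_quot_of_saturated K hK
  haveI := hfin
  haveI := hfree
  obtain ⟨s, hs⟩ := (QuotientAddGroup.mk' K).toIntLinearMap.exists_rightInverse_of_surjective
    (LinearMap.range_eq_top.2 (QuotientAddGroup.mk'_surjective K))
  have hs' : ∀ q, QuotientAddGroup.mk' K (s q) = q := fun q => LinearMap.congr_fun hs q
  refine ⟨AddMonoidHom.id M - s.toAddMonoidHom.comp (QuotientAddGroup.mk' K), fun m => ?_,
    fun m hm => ?_⟩
  · rw [← QuotientAddGroup.eq_zero_iff]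
    show QuotientAddGroup.mk' K (m - s (QuotientAddGroup.mk' K m)) = 0
    rw [map_sub, hs', sub_self]
  · have h0 : QuotientAddGroup.mk' K m = 0 := (QuotientAddGroup.eq_zero_iff _).2 hm
    show m - s (QuotientAddGroup.mk' K m) = m
    rw [h0, map_zero, sub_zero]

omit [Module.Finite ℤ M] in
/-- Division of an integer-valued additive form all of whose values are divisible by `n`. -/
theorem exists_div_addMonoidHom (E : M →+ ℤ) (n : ℤ) (hn : n ≠ 0) (h : ∀ x, n ∣ E x) :
    ∃ γ : M →+ ℤ, ∀ x, E x = n * γ x := by
  choose f hf using h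
  have hadd : ∀ x y, f (x + y) = f x + f y := by
    intro x y
    apply mul_left_cancel₀ hn
    rw [← hf, map_add, mul_add, ← hf, ← hf]
  exact ⟨AddMonoidHom.mk' f hadd, hf⟩

end Saturated

section Dual

variable {A : Type} [AddCommGroup A] [Module.Finite ℤ A] [Module.Free ℤ A]

/-- The additive dual of a lattice is a lattice. -/
theorem dual_finite_free : Module.Finite ℤ (A →+ ℤ) ∧ Module.Free ℤ (A →+ ℤ) := by
  classical
  let b := Module.Free.chooseBasis ℤ A
  let Φ : (A →+ ℤ) →+ (Module.Free.ChooseBasisIndex ℤ A → ℤ) :=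
    { toFun := fun φ k => φ (b k)
      map_zero' := rfl
      map_add' := fun _ _ => rfl }
  have hΦ : Function.Injective Φ := by
    intro φ ψ h
    have h1 : φ.toIntLinearMap = ψ.toIntLinearMap := b.ext fun k => congrFun h k
    ext x
    exact LinearMap.congr_fun h1 x
  have hfin : Module.Finite ℤ (A →+ ℤ) := Module.Finite.of_injective Φ.toIntLinearMap hΦ
  haveI := hfin
  haveI : Module.IsTorsionFree ℤ (A →+ ℤ) := by
    apply Module.IsTorsionFree.of_smul_eq_zero
    intro c φ hφ
    by_cases hc : c = 0
    · exact Or.inl hc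
    · right
      ext x
      have h1 := DFunLike.congr_fun hφ x
      rw [AddMonoidHom.smul_apply, AddMonoidHom.zero_apply, smul_eq_mul] at h1
      rcases mul_eq_zero.1 h1 with h2 | h2
      · exact absurd h2 hc
      · exact h2
  exact ⟨hfin, inferInstance⟩

/-- Reflexivity: every additive form on the dual is evaluation at a vector. -/
theorem exists_eval_eq (γ : (A →+ ℤ) →+ ℤ) : ∃ a : A, ∀ φ : A →+ ℤ, φ a = γ φ := by
  classical
  let b := Module.Free.chooseBasis ℤ A
  refine ⟨∑ k, γ (b.coord k).toAddMonoidHom • b k, fun φ => ?_⟩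
  have hφ : φ = ∑ k, φ (b k) • (b.coord k).toAddMonoidHom := by
    have h1 : φ.toIntLinearMap = (∑ k, φ (b k) • (b.coord k).toAddMonoidHom).toIntLinearMap := by
      refine b.ext fun l => ?_
      show φ (b l) = (∑ k, φ (b k) • (b.coord k).toAddMonoidHom) (b l)
      rw [AddMonoidHom.finsetSum_apply]
      simp only [AddMonoidHom.smul_apply, LinearMap.toAddMonoidHom_coe, Module.Basis.coord_apply,
        Module.Basis.repr_self, smul_eq_mul]
      rw [Finset.sum_eq_single l]
      · rw [Finsupp.single_eq_same, mul_one]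
      · intro k _ hk
        rw [Finsupp.single_eq_of_ne hk, mul_zero]
      · intro h
        exact absurd (Finset.mem_univ l) h
    ext x
    exact LinearMap.congr_fun h1 x
  conv_rhs => rw [hφ]
  rw [map_sum, map_sum]
  refine Finset.sum_congr rfl fun k _ => ?_
  rw [map_zsmul, map_zsmul, smul_eq_mul, smul_eq_mul, mul_comm]

theorem eq_zero_of_forall_dual (a : A) (h : ∀ φ : A →+ ℤ, φ a = 0) : a = 0 := by
  rw [← Module.forall_dual_apply_eq_zero_iff ℤ a]
  intro ψ
  exact h ψ.toAddMonoidHom

end Dual

end GLatD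

end Groth.Agent.Lib.helper10
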