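import Groth.Agent.Lib.Helper10.GLat2

/-!
G-lattices (helper10), part 3: the norm lemma and covers by permutation lattices.
-/

set_option autoImplicit false
set_option linter.unusedSectionVars false
set_option linter.style.haveILetI false

open GLat

namespace Groth.Agent.Lib.helper10

namespace GLatD

open Groth.Agent.S18675

section Norm

variable {G : Type} [Group G] {A : Type} [AddCommGroup A] [Module.Finite ℤ A] [Module.Free ℤ A]

/-- Nondegeneracy of the `Ĥ⁰`-pairing: an invariant element on which every invariant additive form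
takes a value divisible by `|H|` is a norm. -/
theorem exists_norm_eq (ρ : Representation ℤ G A) (H : Subgroup G) [Fintype H] (a : A)
    (ha : ∀ h : H, ρ (h : G) a = a)
    (hdiv : ∀ φ : A →+ ℤ, (∀ (h : H) (x : A), φ (ρ (h : G) x) = φ x) →
      (Fintype.card H : ℤ) ∣ φ a) :
    ∃ a' : A, (∑ h : H, ρ (h : G) a') = a := by
  classical
  have hn : (Fintype.card H : ℤ) ≠ 0 := by
    have : 0 < Fintype.card H := Fintype.card_pos
    exact_mod_cast this.ne'
  obtain ⟨hDfin, hDfree⟩ := dual_finite_free (A := A)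
  haveI := hDfin
  haveI := hDfree
  -- invariant forms
  let S : AddSubgroup (A →+ ℤ) :=
    { carrier := {φ | ∀ (h : H) (x : A), φ (ρ (h : G) x) = φ x}
      add_mem' := fun {x y} hx hy h z => by
        rw [AddMonoidHom.add_apply, AddMonoidHom.add_apply, hx h z, hy h z]
      zero_mem' := fun h z => rfl
      neg_mem' := fun {x} hx h z => by
        rw [AddMonoidHom.neg_apply, AddMonoidHom.neg_apply, hx h z] }
  have hSsat : ∀ (c : ℤ) (φ : A →+ ℤ), c ≠ 0 → c • φ ∈ S → φ ∈ S := by
    intro c φ hc hφ h x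
    have h1 := hφ h x
    rw [AddMonoidHom.smul_apply, AddMonoidHom.smul_apply, smul_eq_mul, smul_eq_mul] at h1
    exact mul_left_cancel₀ hc h1
  obtain ⟨r, hr1, hr2⟩ := exists_retraction S hSsat
  let ev : (A →+ ℤ) →+ ℤ :=
    { toFun := fun φ => φ a
      map_zero' := rfl
      map_add' := fun _ _ => rfl }
  obtain ⟨γ, hγ⟩ := exists_div_addMonoidHom (ev.comp r) (Fintype.card H : ℤ) hn
    (fun φ => hdiv (r φ) (hr1 φ))
  obtain ⟨a', ha'⟩ := exists_eval_eq γ
  refine ⟨a', ?_⟩
  -- invariant forms agree on `N a'` and `a`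
  have hS : ∀ φ ∈ S, φ (∑ h : H, ρ (h : G) a') = φ a := by
    intro φ hφ
    rw [map_sum]
    rw [Finset.sum_congr rfl (fun h _ => hφ h a'), Finset.sum_const, Finset.card_univ,
      nsmul_eq_mul, ha', ← hγ φ]
    show (r φ) a = φ a
    rw [hr2 φ hφ]
  obtain ⟨δ, hδ⟩ : ∃ δ : A, δ = (∑ h : H, ρ (h : G) a') - a := ⟨_, rfl⟩
  have hδinv : ∀ k : H, ρ (k : G) δ = δ := by
    intro k
    rw [hδ, map_sub, ha k, map_sum]
    congr 1
    refine Fintype.sum_equiv (Equiv.mulLeft k) _ _ (fun h => ?_)
    show ρ (k : G) (ρ (h : G) a') = ρ ((k * h : H) : G) a'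
    rw [Subgroup.coe_mul, map_mul]
    rfl
  have hδS : ∀ φ ∈ S, φ δ = 0 := by
    intro φ hφ
    rw [hδ, map_sub, hS φ hφ, sub_self]
  have hδ0 : δ = 0 := by
    apply eq_zero_of_forall_dual
    intro ψ
    let Nψ : A →+ ℤ := ∑ h : H, ψ.comp (ρ (h : G)).toAddMonoidHom
    have hNψ : ∀ x, Nψ x = ∑ h : H, ψ (ρ (h : G) x) := by
      intro x
      show (∑ h : H, ψ.comp (ρ (h : G)).toAddMonoidHom) x = _
      rw [AddMonoidHom.finsetSum_apply]
      rfl
    have hNS : Nψ ∈ S := by
      intro k x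
      rw [hNψ, hNψ]
      refine Fintype.sum_equiv (Equiv.mulRight k) _ _ (fun h => ?_)
      show ψ (ρ (h : G) (ρ (k : G) x)) = ψ (ρ ((h * k : H) : G) x)
      rw [Subgroup.coe_mul, map_mul]
      rfl
    have h1 := hδS _ hNS
    rw [hNψ, Finset.sum_congr rfl (fun h _ => by rw [hδinv h]), Finset.sum_const,
      Finset.card_univ, nsmul_eq_mul] at h1
    rcases mul_eq_zero.1 h1 with h3 | h3
    · exact absurd h3 (by exact_mod_cast hn)
    · exact h3
  rw [hδ, sub_eq_zero] at hδ0
  exact hδ0

end Norm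

section DualRep

variable {G : Type} [Group G] {A : Type} [AddCommGroup A]

/-- The contragredient representation on the additive dual. -/
noncomputable def dualRep (ρ : Representation ℤ G A) : Representation ℤ G (A →+ ℤ) where
  toFun g := (AddMonoidHom.mk' (fun φ : A →+ ℤ => φ.comp (ρ g⁻¹).toAddMonoidHom)
    (fun φ ψ => AddMonoidHom.add_comp φ ψ _)).toIntLinearMap
  map_one' := by
    refine LinearMap.ext fun φ => ?_
    ext x
    show φ (ρ (1 : G)⁻¹ x) = φ x
    rw [inv_one, map_one]
    rfl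
  map_mul' a b := by
    refine LinearMap.ext fun φ => ?_
    ext x
    show φ (ρ (a * b)⁻¹ x) = φ (ρ b⁻¹ (ρ a⁻¹ x))
    rw [mul_inv_rev, map_mul]
    rfl

theorem dualRep_apply (ρ : Representation ℤ G A) (g : G) (φ : A →+ ℤ) (x : A) :
    dualRep ρ g φ x = φ (ρ g⁻¹ x) := rfl

end DualRep

section Cover

/-- A cover by a permutation lattice which is surjective on `H`-invariants for all `H`. -/
theorem exists_cover (G : Type) [Group G] [Finite G] (B : Type) [AddCommGroup B]
    [Module.Finite ℤ B] (ρ : Representation ℤ G B) :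
    ∃ (I : Type) (_ : Finite I) (_ : MulAction G I) (v : I → B),
      (∀ g i, v (g • i) = ρ g (v i)) ∧
      ∀ (H : Subgroup G) (a : B), (∀ h ∈ H, ρ h a = a) →
        ∃ p : I →₀ ℤ, (∀ h ∈ H, tau h p = p) ∧ piMap v p = a := by
  classical
  let inv : Subgroup G → Submodule ℤ B := fun H =>
    { carrier := {a | ∀ h ∈ H, ρ h a = a}
      add_mem' := fun {a b} ha hb h hh => by rw [map_add, ha h hh, hb h hh]
      zero_mem' := fun h _ => map_zero _
      smul_mem' := fun n a ha h hh => by rw [map_smul, ha h hh] }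
  have hfg : ∀ H, (inv H).FG := fun H => IsNoetherian.noetherian _
  choose S hS using hfg
  let S' : Set B := ⋃ (H : Subgroup G), ⋃ (g : G), (fun s => ρ g s) '' (S H : Set B)
  have hfin : S'.Finite :=
    Set.finite_iUnion fun H => Set.finite_iUnion fun g => (Finset.finite_toSet _).image _
  have hstable : ∀ (g : G) (x : B), x ∈ S' → ρ g x ∈ S' := by
    intro g x hx
    simp only [S', Set.mem_iUnion, Set.mem_image] at hx ⊢
    obtain ⟨H, g', s, hs, rfl⟩ := hx
    refine ⟨H, g * g', s, hs, ?_⟩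
    rw [map_mul]; rfl
  have hmemS' : ∀ (H : Subgroup G) (s : B), s ∈ (S H : Set B) → s ∈ S' := by
    intro H s hs
    simp only [S', Set.mem_iUnion, Set.mem_image]
    exact ⟨H, 1, s, hs, by rw [map_one]; rfl⟩
  letI : MulAction G S' :=
    { smul := fun g x => ⟨ρ g x.1, hstable g x.1 x.2⟩
      one_smul := fun x => Subtype.ext (by show ρ 1 x.1 = x.1; rw [map_one]; rfl)
      mul_smul := fun a b x => Subtype.ext (by
        show ρ (a * b) x.1 = ρ a (ρ b x.1); rw [map_mul]; rfl) }
  haveI : Finite S' := hfin.to_subtype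
  refine ⟨S', inferInstance, inferInstance, fun i : S' => (i : B), fun g i => rfl, ?_⟩
  intro H a ha
  have hmem : a ∈ inv H := ha
  rw [← hS H] at hmem
  clear ha
  induction hmem using Submodule.span_induction with
  | mem s hs =>
    have hsinv : s ∈ inv H := by rw [← hS H]; exact Submodule.subset_span hs
    refine ⟨Finsupp.single ⟨s, hmemS' H s hs⟩ 1, fun h hh => ?_, ?_⟩
    · rw [tau_single]
      congr 1
      exact Subtype.ext (hsinv h hh)
    · simp [piMap]
  | zero => exact ⟨0, fun h _ => map_zero _, map_zero _⟩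
  | add x y _ _ hx hy =>
    obtain ⟨p, hp1, hp2⟩ := hx
    obtain ⟨q, hq1, hq2⟩ := hy
    exact ⟨p + q, fun h hh => by rw [map_add, hp1 h hh, hq1 h hh], by rw [map_add, hp2, hq2]⟩
  | smul n x _ hx =>
    obtain ⟨p, hp1, hp2⟩ := hx
    exact ⟨n • p, fun h hh => by rw [map_smul, hp1 h hh], by rw [map_smul, hp2]⟩

end Cover

end GLatD

end Groth.Agent.Lib.helper10
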