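import Groth.Agent.Lib.Helper10.GLat3

/-!
G-lattices (helper10), part 4: flasque resolutions by dualizing a coflasque cover of the dual.
-/

set_option autoImplicit false
set_option linter.unusedSectionVars false
set_option linter.style.haveILetI false

open GLat

namespace Groth.Agent.Lib.helper10

namespace GLatD

open Groth.Agent.S18675

section Pairing

variable {G : Type} [Group G] {I : Type} [Fintype I] [MulAction G I]

/-- The standard pairing on `ℤ[I]`. -/
def pair (x y : I →₀ ℤ) : ℤ := ∑ j, x j * y j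

theorem pair_add_right (x y z : I →₀ ℤ) : pair x (y + z) = pair x y + pair x z := by
  unfold pair
  rw [← Finset.sum_add_distrib]
  exact Finset.sum_congr rfl fun j _ => by rw [Finsupp.add_apply, mul_add]

theorem pair_add_left (x y z : I →₀ ℤ) : pair (x + y) z = pair x z + pair y z := by
  unfold pair
  rw [← Finset.sum_add_distrib]
  exact Finset.sum_congr rfl fun j _ => by rw [Finsupp.add_apply, add_mul]

theorem pair_smul_right (c : ℤ) (x y : I →₀ ℤ) : pair x (c • y) = c * pair x y := by
  unfold pair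
  rw [Finset.mul_sum]
  exact Finset.sum_congr rfl fun j _ => by rw [Finsupp.smul_apply, smul_eq_mul]; ring

theorem pair_sum_right {ι : Type} (s : Finset ι) (x : I →₀ ℤ) (y : ι → (I →₀ ℤ)) :
    pair x (∑ k ∈ s, y k) = ∑ k ∈ s, pair x (y k) := by
  classical
  induction s using Finset.induction_on with
  | empty => simp [pair]
  | insert a s ha ih => rw [Finset.sum_insert ha, Finset.sum_insert ha, pair_add_right, ih]

theorem pair_single_left [DecidableEq I] (j : I) (y : I →₀ ℤ) :
    pair (Finsupp.single j 1) y = y j := by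
  unfold pair
  rw [Finset.sum_eq_single j]
  · rw [Finsupp.single_eq_same, one_mul]
  · intro k _ hk
    rw [Finsupp.single_eq_of_ne hk, zero_mul]
  · intro h
    exact absurd (Finset.mem_univ j) h

theorem pair_tau (g : G) (x y : I →₀ ℤ) : pair x (tau g y) = pair (tau g⁻¹ x) y := by
  unfold pair
  refine Fintype.sum_equiv (MulAction.toPerm g⁻¹) _ _ (fun j => ?_)
  rw [tau_apply, tau_apply, inv_inv]
  show x j * y (g⁻¹ • j) = x (g • (g⁻¹ • j)) * y (g⁻¹ • j)
  rw [smul_inv_smul]

end Pairing

section Main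

variable {G : Type} [Group G] [Finite G] {A : Type} [AddCommGroup A] [Module.Finite ℤ A]
  [Module.Free ℤ A]

/-- A flasque resolution of a lattice: an equivariant embedding into a permutation lattice with
flasque (lattice) cokernel. -/
theorem exists_flasque_quot (ρ : Representation ℤ G A) :
    ∃ (I : Type) (_ : Finite I) (_ : MulAction G I) (i : A →+ (I →₀ ℤ)),
      (∀ g a, i (ρ g a) = tau g (i a)) ∧ Function.Injective i ∧
      ∃ (hK : ∀ g : G, ∀ m ∈ i.range, tau g m ∈ i.range),
        Module.Finite ℤ ((I →₀ ℤ) ⧸ i.range) ∧ Module.Free ℤ ((I →₀ ℤ) ⧸ i.range) ∧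
          Flq (quotRep tau i.range hK) := by
  classical
  obtain ⟨hDfin, hDfree⟩ := dual_finite_free (A := A)
  haveI := hDfin
  obtain ⟨I, hIfin, hIact, v, hv, hsurj⟩ := exists_cover G (A →+ ℤ) (dualRep ρ)
  haveI := hIfin
  letI := hIact
  haveI : Fintype I := Fintype.ofFinite I
  let i : A →+ (I →₀ ℤ) := AddMonoidHom.mk'
    (fun a => Finsupp.equivFunOnFinite.symm (fun j => v j a))
    (fun a b => by
      ext j
      simp)
  have hi : ∀ a j, i a j = v j a := fun a j => rfl
  have hpi : ∀ (x : I →₀ ℤ) (a : A), piMap v x a = pair x (i a) := by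
    intro x a
    unfold piMap pair
    rw [Finsupp.linearCombination_apply, Finsupp.sum_fintype x (fun j n => n • v j)
      (fun j => zero_smul ℤ (v j)), AddMonoidHom.finsetSum_apply]
    refine Finset.sum_congr rfl fun j _ => ?_
    rw [AddMonoidHom.smul_apply, smul_eq_mul, hi]
  have hpisurj : Function.Surjective (piMap v) := by
    intro φ
    obtain ⟨p, -, hp⟩ := hsurj ⊥ φ (fun h hh => by
      rw [Subgroup.mem_bot.1 hh, map_one]; rfl)
    exact ⟨p, hp⟩
  have hequiv : ∀ g a, i (ρ g a) = tau g (i a) := by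
    intro g a
    ext j
    rw [tau_apply, hi, hi, hv, dualRep_apply, inv_inv]
  have hinj : Function.Injective i := by
    rw [injective_iff_map_eq_zero]
    intro a ha
    apply eq_zero_of_forall_dual
    intro φ
    obtain ⟨x, rfl⟩ := hpisurj φ
    rw [hpi, ha]
    simp [pair]
  have hK : ∀ g : G, ∀ m ∈ i.range, tau g m ∈ i.range := by
    rintro g _ ⟨a, rfl⟩
    exact ⟨ρ g a, hequiv g a⟩
  -- saturation of the image
  have hsat : ∀ (c : ℤ) (y : I →₀ ℤ), c ≠ 0 → c • y ∈ i.range → y ∈ i.range := by
    intro c y hc hy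
    obtain ⟨a, ha⟩ := hy
    have hker : ∀ x, piMap v x = 0 → pair x y = 0 := by
      intro x hx
      have h1 : pair x (i a) = 0 := by rw [← hpi, hx]; rfl
      rw [ha, pair_smul_right] at h1
      rcases mul_eq_zero.1 h1 with h2 | h2
      · exact absurd h2 hc
      · exact h2
    let sec : (A →+ ℤ) → (I →₀ ℤ) := Function.surjInv hpisurj
    have hsec : ∀ φ, piMap v (sec φ) = φ := Function.surjInv_eq hpisurj
    have hψ : ∀ x, pair (sec (piMap v x)) y = pair x y := by
      intro x
      have h1 : piMap v (sec (piMap v x) - x) = 0 := by rw [map_sub, hsec, sub_self]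
      have h2 := hker _ h1
      have h3 : sec (piMap v x) = (sec (piMap v x) - x) + x := by abel
      rw [h3, pair_add_left, h2, zero_add]
    let ψ : (A →+ ℤ) →+ ℤ := AddMonoidHom.mk' (fun φ => pair (sec φ) y) (fun φ φ' => by
      have h1 : piMap v (sec (φ + φ') - sec φ - sec φ') = 0 := by
        rw [map_sub, map_sub, hsec, hsec, hsec]; abel
      have h2 := hker _ h1
      have h3 : sec (φ + φ') = (sec (φ + φ') - sec φ - sec φ') + sec φ + sec φ' := by abel
      show pair (sec (φ + φ')) y = pair (sec φ) y + pair (sec φ') y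
      rw [h3, pair_add_left, pair_add_left, h2, zero_add])
    obtain ⟨a₀, ha₀⟩ := exists_eval_eq ψ
    refine ⟨a₀, ?_⟩
    ext j
    have h1 := ha₀ (piMap v (Finsupp.single j 1))
    rw [hpi, pair_single_left] at h1
    rw [h1]
    show pair (sec (piMap v (Finsupp.single j 1))) y = y j
    rw [hψ, pair_single_left]
  obtain ⟨hFfin, hFfree⟩ := free_quot_of_saturated i.range hsat
  refine ⟨I, hIfin, hIact, i, hequiv, hinj, hK, hFfin, hFfree, ?_⟩
  -- flasqueness of the quotient
  intro H _ f hf
  obtain ⟨y, rfl⟩ := QuotientAddGroup.mk'_surjective i.range f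
  have hNy : (∑ h : H, tau (h : G) y) ∈ i.range := by
    rw [← QuotientAddGroup.eq_zero_iff, ← hf]
    show QuotientAddGroup.mk' i.range (∑ h : H, tau (h : G) y) = _
    rw [map_sum]
    rfl
  obtain ⟨a, ha⟩ := hNy
  have hNinv : ∀ k : H, tau (k : G) (∑ h : H, tau (h : G) y) = ∑ h : H, tau (h : G) y := by
    intro k
    rw [map_sum]
    refine Fintype.sum_equiv (Equiv.mulLeft k) _ _ (fun h => ?_)
    show tau (k : G) (tau (h : G) y) = tau ((k * h : H) : G) y
    rw [Subgroup.coe_mul, map_mul]
    rfl
  have hainv : ∀ h : H, ρ (h : G) a = a := by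
    intro h
    apply hinj
    rw [hequiv, ha, hNinv]
  have hdiv : ∀ φ : A →+ ℤ, (∀ (h : H) (x : A), φ (ρ (h : G) x) = φ x) →
      (Fintype.card H : ℤ) ∣ φ a := by
    intro φ hφ
    have hφinv : ∀ h ∈ H, dualRep ρ h φ = φ := by
      intro h hh
      ext x
      rw [dualRep_apply]
      exact hφ ⟨h⁻¹, H.inv_mem hh⟩ x
    obtain ⟨x, hx1, rfl⟩ := hsurj H φ hφinv
    refine ⟨pair x y, ?_⟩
    rw [hpi, ha, pair_sum_right]
    have h1 : ∀ h : H, pair x (tau (h : G) y) = pair x y := by
      intro h
      rw [pair_tau, hx1 _ (H.inv_mem h.2)]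
    rw [Finset.sum_congr rfl (fun h _ => h1 h), Finset.sum_const, Finset.card_univ, nsmul_eq_mul]
  obtain ⟨a', ha'⟩ := exists_norm_eq ρ H a hainv hdiv
  have hNy' : (∑ h : H, tau (h : G) (y - i a')) = 0 := by
    simp only [map_sub, Finset.sum_sub_distrib]
    rw [sub_eq_zero, ← ha, ← ha', map_sum]
    exact Finset.sum_congr rfl fun h _ => hequiv _ _
  have hmem := flasque_tau (G := G) (I := I) H (y - i a') hNy'
  have hyy : QuotientAddGroup.mk' i.range y = QuotientAddGroup.mk' i.range (y - i a') := by
    have h0 : QuotientAddGroup.mk' i.range (i a') = 0 :=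
      (QuotientAddGroup.eq_zero_iff (i a')).2 ⟨a', rfl⟩
    rw [map_sub, h0, sub_zero]
  rw [hyy]
  generalize y - i a' = y' at hmem
  induction hmem using Submodule.span_induction with
  | mem x hx =>
    obtain ⟨k, z, rfl⟩ := hx
    refine Submodule.subset_span ⟨k, QuotientAddGroup.mk' i.range z, ?_⟩
    rw [map_sub]
    rfl
  | zero => rw [map_zero]; exact zero_mem _
  | add x z _ _ hx hz => rw [map_add]; exact add_mem hx hz
  | smul c x _ hx =>
    rw [map_zsmul]
    exact Submodule.smul_mem _ c hx

end Main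

end GLatD

end Groth.Agent.Lib.helper10
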