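import Groth.Agent.Lib.Helper10.GLat4

/-!
G-lattices (helper10), part 5: covers of finitely generated modules by flasque lattices with
permutation kernel (pushout construction).
-/

set_option autoImplicit false
set_option linter.unusedSectionVars false
set_option linter.style.haveILetI false

open GLat

namespace Groth.Agent.Lib.helper10

namespace GLatD

open Groth.Agent.S18675

section SubProd

variable {G : Type} [Group G] {M N : Type} [AddCommGroup M] [AddCommGroup N]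

/-- Restriction of a representation to a stable subgroup. -/
noncomputable def subRep (ρ : Representation ℤ G M) (K : AddSubgroup M)
    (hK : ∀ g, ∀ m ∈ K, ρ g m ∈ K) : Representation ℤ G K where
  toFun g := (AddMonoidHom.mk' (fun m : K => (⟨ρ g m.1, hK g m.1 m.2⟩ : K))
    (fun a b => Subtype.ext (map_add _ _ _))).toIntLinearMap
  map_one' := by
    refine LinearMap.ext fun m => Subtype.ext ?_
    show ρ 1 m.1 = m.1
    rw [map_one]
    rfl
  map_mul' a b := by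
    refine LinearMap.ext fun m => Subtype.ext ?_
    show ρ (a * b) m.1 = ρ a (ρ b m.1)
    rw [map_mul]
    rfl

theorem subRep_coe (ρ : Representation ℤ G M) (K : AddSubgroup M)
    (hK : ∀ g, ∀ m ∈ K, ρ g m ∈ K) (g : G) (m : K) : ((subRep ρ K hK g m : K) : M) = ρ g m.1 :=
  rfl

/-- A subgroup of a lattice is a lattice. -/
theorem sub_finite_free [Module.Finite ℤ M] [Module.Free ℤ M] (K : AddSubgroup M) :
    Module.Finite ℤ K ∧ Module.Free ℤ K := by
  have hfin : Module.Finite ℤ K :=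
    Module.Finite.of_injective K.subtype.toIntLinearMap Subtype.val_injective
  haveI := hfin
  haveI : Module.IsTorsionFree ℤ K :=
    Function.Injective.moduleIsTorsionFree K.subtype Subtype.val_injective
      (fun c m => map_zsmul K.subtype c m)
  exact ⟨hfin, inferInstance⟩

/-- The product of two representations. -/
noncomputable def prodRep (σ₀ : Representation ℤ G M) (σ₁ : Representation ℤ G N) :
    Representation ℤ G (M × N) where
  toFun g := ((σ₀ g).toAddMonoidHom.prodMap (σ₁ g).toAddMonoidHom).toIntLinearMap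
  map_one' := by
    refine LinearMap.ext fun m => ?_
    show (σ₀ 1 m.1, σ₁ 1 m.2) = m
    rw [map_one, map_one]
    rfl
  map_mul' a b := by
    refine LinearMap.ext fun m => ?_
    show (σ₀ (a * b) m.1, σ₁ (a * b) m.2) = (σ₀ a (σ₀ b m.1), σ₁ a (σ₁ b m.2))
    rw [map_mul, map_mul]
    rfl

theorem prodRep_apply (σ₀ : Representation ℤ G M) (σ₁ : Representation ℤ G N) (g : G)
    (m : M × N) : prodRep σ₀ σ₁ g m = (σ₀ g m.1, σ₁ g m.2) := rfl

end SubProd

section Pushout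

variable {G : Type} [Group G] [Finite G] {A : Type} [AddCommGroup A] [Module.Finite ℤ A]

/-- Every finitely generated `G`-module is a quotient of a flasque lattice by a permutation
lattice. -/
theorem exists_perm_flasque_cover (ρ : Representation ℤ G A) :
    ∃ (I₁ : Type) (_ : Finite I₁) (_ : MulAction G I₁) (F : Type) (_ : AddCommGroup F)
      (_ : Module.Finite ℤ F) (_ : Module.Free ℤ F)
      (τ : Representation ℤ G F) (ι : (I₁ →₀ ℤ) →+ F) (π : F →+ A),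
      (∀ g y, ι (tau g y) = τ g (ι y)) ∧ (∀ g f, π (τ g f) = ρ g (π f)) ∧
      Function.Injective ι ∧ Function.Surjective π ∧ (∀ f, f ∈ ι.range ↔ π f = 0) ∧ Flq τ := by
  classical
  obtain ⟨I₀, hI₀fin, hI₀act, v₀, hv₀, hsurj₀⟩ := exists_cover G A ρ
  haveI := hI₀fin
  letI := hI₀act
  have hπ₀surj : Function.Surjective (piMap v₀) := by
    intro a
    obtain ⟨p, -, hp⟩ := hsurj₀ ⊥ a (fun h hh => by
      rw [Subgroup.mem_bot.1 hh, map_one]; rfl)
    exact ⟨p, hp⟩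
  have hπ₀eq : ∀ g x, piMap v₀ (tau g x) = ρ g (piMap v₀ x) := piMap_tau ρ v₀ hv₀
  let Q : AddSubgroup (I₀ →₀ ℤ) := (piMap v₀).toAddMonoidHom.ker
  have hQmem : ∀ x, x ∈ Q ↔ piMap v₀ x = 0 := fun x => AddMonoidHom.mem_ker
  have hQst : ∀ g : G, ∀ m ∈ Q, tau g m ∈ Q := by
    intro g m hm
    rw [hQmem] at hm ⊢
    rw [hπ₀eq, hm, map_zero]
  obtain ⟨hQfin, hQfree⟩ := sub_finite_free Q
  haveI := hQfin
  haveI := hQfree
  obtain ⟨I₁, hI₁fin, hI₁act, i₁, heq₁, hinj₁, hK₁, hF₁fin, hF₁free, hflq₁⟩ :=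
    exists_flasque_quot (subRep tau Q hQst)
  haveI := hI₁fin
  letI := hI₁act
  haveI := hF₁fin
  haveI := hF₁free
  let κ : Q →+ (I₀ →₀ ℤ) × (I₁ →₀ ℤ) := AddMonoidHom.prod Q.subtype i₁
  have hκ : ∀ q, κ q = (q.1, i₁ q) := fun q => rfl
  let K : AddSubgroup ((I₀ →₀ ℤ) × (I₁ →₀ ℤ)) := κ.range
  have hKst : ∀ g : G, ∀ m ∈ K, prodRep tau tau g m ∈ K := by
    rintro g _ ⟨q, rfl⟩
    refine ⟨subRep tau Q hQst g q, ?_⟩
    rw [hκ, hκ, prodRep_apply, heq₁]
    rfl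
  let mk : (I₀ →₀ ℤ) × (I₁ →₀ ℤ) →+ ((I₀ →₀ ℤ) × (I₁ →₀ ℤ)) ⧸ K := QuotientAddGroup.mk' K
  have hmk0 : ∀ m, mk m = 0 ↔ m ∈ K := fun m => QuotientAddGroup.eq_zero_iff m
  have hmksurj : Function.Surjective mk := QuotientAddGroup.mk'_surjective K
  let ιY : (I₁ →₀ ℤ) →+ ((I₀ →₀ ℤ) × (I₁ →₀ ℤ)) ⧸ K := mk.comp (AddMonoidHom.inr _ _)
  let ιX : (I₀ →₀ ℤ) →+ ((I₀ →₀ ℤ) × (I₁ →₀ ℤ)) ⧸ K := mk.comp (AddMonoidHom.inl _ _)
  have hιY : ∀ y, ιY y = mk (0, y) := fun y => rfl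
  have hιX : ∀ x, ιX x = mk (x, 0) := fun x => rfl
  let πA : ((I₀ →₀ ℤ) × (I₁ →₀ ℤ)) ⧸ K →+ A :=
    QuotientAddGroup.lift K ((piMap v₀).toAddMonoidHom.comp (AddMonoidHom.fst _ _)) (by
      rintro _ ⟨q, rfl⟩
      rw [AddMonoidHom.mem_ker]
      show piMap v₀ (κ q).1 = 0
      rw [hκ]
      exact (hQmem _).1 q.2)
  have hπA : ∀ m, πA (mk m) = piMap v₀ m.1 := fun m => rfl
  let πF₁ : ((I₀ →₀ ℤ) × (I₁ →₀ ℤ)) ⧸ K →+ (I₁ →₀ ℤ) ⧸ i₁.range :=
    QuotientAddGroup.lift K ((QuotientAddGroup.mk' i₁.range).comp (AddMonoidHom.snd _ _)) (by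
      rintro _ ⟨q, rfl⟩
      rw [AddMonoidHom.mem_ker]
      show QuotientAddGroup.mk' i₁.range (κ q).2 = 0
      rw [hκ]
      exact (QuotientAddGroup.eq_zero_iff _).2 ⟨q, rfl⟩)
  have hπF₁ : ∀ m, πF₁ (mk m) = QuotientAddGroup.mk' i₁.range m.2 := fun m => rfl
  have hιYinj : Function.Injective ιY := by
    rw [injective_iff_map_eq_zero]
    intro y hy
    rw [hιY, hmk0] at hy
    obtain ⟨q, hq⟩ := hy
    rw [hκ, Prod.mk.injEq] at hq
    have hq0 : q = 0 := Subtype.ext hq.1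
    rw [← hq.2, hq0, map_zero]
  have hιXinj : Function.Injective ιX := by
    rw [injective_iff_map_eq_zero]
    intro x hx
    rw [hιX, hmk0] at hx
    obtain ⟨q, hq⟩ := hx
    rw [hκ, Prod.mk.injEq] at hq
    have hq0 : q = 0 := hinj₁ (by rw [hq.2, map_zero])
    rw [← hq.1, hq0]
    rfl
  have hexA : ∀ f, f ∈ ιY.range ↔ πA f = 0 := by
    intro f
    constructor
    · rintro ⟨y, rfl⟩
      rw [hιY, hπA, map_zero]
    · intro hf
      obtain ⟨⟨x, y⟩, rfl⟩ := hmksurj f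
      rw [hπA] at hf
      have hxQ : x ∈ Q := (hQmem x).2 hf
      refine ⟨y - i₁ ⟨x, hxQ⟩, ?_⟩
      rw [hιY, ← sub_eq_zero, ← map_sub, hmk0]
      refine ⟨-⟨x, hxQ⟩, ?_⟩
      rw [map_neg, hκ]
      ext : 1
      · simp
      · simp
  have hexF₁ : ∀ f, f ∈ ιX.range ↔ πF₁ f = 0 := by
    intro f
    constructor
    · rintro ⟨x, rfl⟩
      rw [hιX, hπF₁, map_zero]
    · intro hf
      obtain ⟨⟨x, y⟩, rfl⟩ := hmksurj f
      rw [hπF₁] at hf
      obtain ⟨q, hq⟩ := (QuotientAddGroup.eq_zero_iff _).1 hf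
      refine ⟨x - q.1, ?_⟩
      rw [hιX, ← sub_eq_zero, ← map_sub, hmk0]
      refine ⟨-q, ?_⟩
      rw [map_neg, hκ]
      ext : 1
      · simp
      · simp [hq]
  have hπF₁surj : Function.Surjective πF₁ := by
    intro f
    obtain ⟨y, rfl⟩ := QuotientAddGroup.mk'_surjective i₁.range f
    exact ⟨mk (0, y), rfl⟩
  have hπAsurj : Function.Surjective πA := by
    intro a
    obtain ⟨x, rfl⟩ := hπ₀surj a
    exact ⟨mk (x, 0), rfl⟩
  let τF : Representation ℤ G (((I₀ →₀ ℤ) × (I₁ →₀ ℤ)) ⧸ K) := quotRep (prodRep tau tau) K hKst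
  have hτF : ∀ g m, τF g (mk m) = mk (tau g m.1, tau g m.2) := fun g m => rfl
  -- finiteness and freeness
  have hFfin : Module.Finite ℤ (((I₀ →₀ ℤ) × (I₁ →₀ ℤ)) ⧸ K) := by
    have h1 : Module.Finite ℤ ((I₀ →₀ ℤ) × (I₁ →₀ ℤ)) := inferInstance
    exact Module.Finite.of_surjective mk.toIntLinearMap hmksurj
  haveI := hFfin
  haveI : Module.IsTorsionFree ℤ (((I₀ →₀ ℤ) × (I₁ →₀ ℤ)) ⧸ K) := by
    apply Module.IsTorsionFree.of_smul_eq_zero
    intro c f hf
    by_cases hc : c = 0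
    · exact Or.inl hc
    · right
      have h1 : c • πF₁ f = 0 := by rw [← map_zsmul, hf, map_zero]
      have h2 : πF₁ f = 0 := (smul_eq_zero.1 h1).resolve_left hc
      obtain ⟨x, rfl⟩ := (hexF₁ f).2 h2
      rw [← map_zsmul] at hf
      have h3 : c • x = 0 := hιXinj (by rw [hf, map_zero])
      rw [(smul_eq_zero.1 h3).resolve_left hc, map_zero]
  refine ⟨I₁, hI₁fin, hI₁act, ((I₀ →₀ ℤ) × (I₁ →₀ ℤ)) ⧸ K, inferInstance, hFfin, inferInstance,
    τF, ιY, πA, ?_, ?_, hιYinj, hπAsurj, hexA, ?_⟩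
  · intro g y
    rw [hιY, hιY, hτF]
    simp
  · intro g f
    obtain ⟨m, rfl⟩ := hmksurj f
    rw [hτF, hπA, hπA, hπ₀eq]
  · refine flasque_of_exact (tau (G := G) (I := I₀)) τF (quotRep tau i₁.range hK₁)
      ιX.toIntLinearMap πF₁.toIntLinearMap ?_ ?_ hιXinj hπF₁surj ?_ flasque_tau hflq₁
    · intro g x
      show ιX (tau g x) = τF g (ιX x)
      rw [hιX, hιX, hτF]
      simp
    · intro g f
      obtain ⟨m, rfl⟩ := hmksurj f
      show πF₁ (τF g (mk m)) = quotRep tau i₁.range hK₁ g (πF₁ (mk m))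
      rw [hτF, hπF₁, hπF₁]
      rfl
    · ext f
      rw [LinearMap.mem_ker]
      exact hexF₁ f

end Pushout

end GLatD

end Groth.Agent.Lib.helper10
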