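import Mathlib

/-!
# Idempotents in `A ⊗ L` for a finite Galois extension `L/k` and a connected `k`-algebra `A`
(helper10, S17746)
-/

set_option autoImplicit false
set_option linter.style.haveILetI false
set_option linter.unusedSectionVars false

universe u v w

namespace Groth.Agent.Lib.helper10.GalIdem

open TensorProduct

section Act
variable (k : Type u) [Field k] (A : Type v) [CommRing A] [Algebra k A]
  (L : Type w) [Field L] [Algebra k L]

/-- the action of `Gal(L/k)` on `A ⊗ L`. -/
noncomputable def act (g : L ≃ₐ[k] L) : A ⊗[k] L →ₐ[A] A ⊗[k] L :=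
  Algebra.TensorProduct.map (AlgHom.id A A) (g : L →ₐ[k] L)

@[simp] lemma act_tmul (g : L ≃ₐ[k] L) (a : A) (l : L) : act k A L g (a ⊗ₜ l) = a ⊗ₜ g l := rfl

lemma act_mul (g h : L ≃ₐ[k] L) (b : A ⊗[k] L) : act k A L (g * h) b = act k A L g (act k A L h b) := by
  induction b using TensorProduct.induction_on with
  | zero => simp
  | tmul a l => simp [AlgEquiv.mul_apply]
  | add x y hx hy => simp [hx, hy]

lemma act_one (b : A ⊗[k] L) : act k A L 1 b = b := by
  induction b using TensorProduct.induction_on with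
  | zero => simp
  | tmul a l => simp
  | add x y hx hy => simp [hx, hy]

lemma act_inv_act (g : L ≃ₐ[k] L) (b : A ⊗[k] L) : act k A L g⁻¹ (act k A L g b) = b := by
  rw [← act_mul, inv_mul_cancel, act_one]

variable [FiniteDimensional k L] [IsGalois k L]

/-- invariants of `A ⊗ L` come from `A`. -/
theorem exists_of_invariant (b : A ⊗[k] L) (hb : ∀ g : L ≃ₐ[k] L, act k A L g b = b) :
    ∃ a : A, b = a ⊗ₜ 1 := by
  classical
  let ℬ := Module.Basis.ofVectorSpace k A
  let E := TensorProduct.equivFinsuppOfBasisLeft (N := L) ℬ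
  have hE : ∀ (g : L ≃ₐ[k] L) (x : A ⊗[k] L) (i), E (act k A L g x) i = g (E x i) := by
    intro g x i
    induction x using TensorProduct.induction_on with
    | zero => simp
    | tmul a l =>
      rw [act_tmul, TensorProduct.equivFinsuppOfBasisLeft_apply_tmul_apply,
        TensorProduct.equivFinsuppOfBasisLeft_apply_tmul_apply, map_smul]
    | add x y hx hy => simp [hx, hy]
  have hfix : ∀ i, ∃ c : k, algebraMap k L c = E b i := by
    intro i
    have : E b i ∈ (⊥ : IntermediateField k L) := by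
      rw [IsGalois.mem_bot_iff_fixed]
      intro g
      rw [← hE, hb]
    exact IntermediateField.mem_bot.mp this
  choose c hc using hfix
  refine ⟨∑ i ∈ (E b).support, c i • ℬ i, ?_⟩
  apply E.injective
  ext i
  rw [TensorProduct.equivFinsuppOfBasisLeft_apply_tmul_apply, map_sum, Finsupp.finsetSum_apply]
  simp only [map_smul, Finsupp.smul_apply, Module.Basis.repr_self, Finsupp.single_apply,
    smul_eq_mul, mul_ite, mul_one, mul_zero]
  rw [Finset.sum_ite_eq' (E b).support i]
  by_cases hi : i ∈ (E b).support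
  · rw [if_pos hi, ← hc, Algebra.smul_def, mul_one]
  · rw [if_neg hi, zero_smul]
    exact Finsupp.notMem_support_iff.mp hi

end Act

section Atoms
variable (k : Type u) [Field k] (A : Type v) [CommRing A] [Algebra k A]
  (L : Type w) [Field L] [Algebra k L] [FiniteDimensional k L]

open Classical in
/-- the "atoms" attached to an idempotent `e` -/
noncomputable def EE (e : A ⊗[k] L) (S : Finset (L ≃ₐ[k] L)) : A ⊗[k] L :=
  (∏ i ∈ S, act k A L i e) * ∏ i ∈ Finset.univ \ S, (1 - act k A L i e)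

variable {k A L}

lemma sum_EE (e : A ⊗[k] L) :
    ∑ S ∈ (Finset.univ : Finset (L ≃ₐ[k] L)).powerset, EE k A L e S = 1 := by
  classical
  unfold EE
  rw [← Finset.prod_add]
  simp

lemma isIdempotentElem_act {e : A ⊗[k] L} (he : IsIdempotentElem e) (g : L ≃ₐ[k] L) :
    IsIdempotentElem (act k A L g e) := by
  unfold IsIdempotentElem
  rw [← map_mul, he.eq]

lemma EE_idem {e : A ⊗[k] L} (he : IsIdempotentElem e) (S : Finset (L ≃ₐ[k] L)) :
    IsIdempotentElem (EE k A L e S) := by
  classical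
  unfold EE IsIdempotentElem
  rw [mul_mul_mul_comm, ← Finset.prod_mul_distrib, ← Finset.prod_mul_distrib]
  congr 1
  · apply Finset.prod_congr rfl
    intro i _
    exact (isIdempotentElem_act he i).eq
  · apply Finset.prod_congr rfl
    intro i _
    exact (isIdempotentElem_act he i).one_sub.eq

lemma EE_mul_EE_of_mem {e : A ⊗[k] L} (he : IsIdempotentElem e) {S T : Finset (L ≃ₐ[k] L)}
    {g : L ≃ₐ[k] L} (hgS : g ∈ S) (hgT : g ∉ T) : EE k A L e S * EE k A L e T = 0 := by
  classical
  have h1 : act k A L g e ∣ EE k A L e S :=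
    Dvd.dvd.mul_right (Finset.dvd_prod_of_mem _ hgS) _
  have h2 : (1 - act k A L g e) ∣ EE k A L e T :=
    Dvd.dvd.mul_left (Finset.dvd_prod_of_mem (fun i => 1 - act k A L i e)
      (Finset.mem_sdiff.mpr ⟨Finset.mem_univ _, hgT⟩)) _
  have h3 := mul_dvd_mul h1 h2
  have h4 : act k A L g e * (1 - act k A L g e) = 0 := by
    rw [mul_sub, mul_one, (isIdempotentElem_act he g).eq, sub_self]
  rw [h4] at h3
  exact zero_dvd_iff.mp h3

lemma EE_mul_EE {e : A ⊗[k] L} (he : IsIdempotentElem e) {S T : Finset (L ≃ₐ[k] L)}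
    (hST : S ≠ T) : EE k A L e S * EE k A L e T = 0 := by
  classical
  by_cases h : ∃ g, g ∈ S ∧ g ∉ T
  · obtain ⟨g, hgS, hgT⟩ := h
    exact EE_mul_EE_of_mem he hgS hgT
  · have : ∃ g, g ∈ T ∧ g ∉ S := by
      by_contra h'
      apply hST
      ext g
      constructor
      · intro hg
        by_contra hg'
        exact h ⟨g, hg, hg'⟩
      · intro hg
        by_contra hg'
        exact h' ⟨g, hg, hg'⟩
    obtain ⟨g, hgT, hgS⟩ := this
    rw [mul_comm]
    exact EE_mul_EE_of_mem he hgT hgS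

open Classical in
lemma act_EE (e : A ⊗[k] L) (h : L ≃ₐ[k] L) (S : Finset (L ≃ₐ[k] L)) :
    act k A L h (EE k A L e S) = EE k A L e (S.map (Equiv.mulLeft h).toEmbedding) := by
  unfold EE
  rw [map_mul, map_prod, map_prod, Finset.prod_map]
  have hsd : (Finset.univ : Finset (L ≃ₐ[k] L)) \ S.map (Equiv.mulLeft h).toEmbedding =
      (Finset.univ \ S).map (Equiv.mulLeft h).toEmbedding := by
    ext x
    simp only [Finset.mem_sdiff, Finset.mem_univ, true_and, Finset.mem_map,
      Equiv.coe_toEmbedding, Equiv.coe_mulLeft]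
    constructor
    · intro hx
      refine ⟨h⁻¹ * x, ?_, by simp⟩
      intro hx'
      exact hx ⟨h⁻¹ * x, hx', by simp⟩
    · rintro ⟨y, hy, rfl⟩ ⟨z, hz, hzy⟩
      have : z = y := mul_left_cancel hzy
      exact hy (this ▸ hz)
  rw [hsd, Finset.prod_map]
  congr 1
  · apply Finset.prod_congr rfl
    intro i _
    rw [Equiv.coe_toEmbedding, Equiv.coe_mulLeft, act_mul]
  · apply Finset.prod_congr rfl
    intro i _
    rw [Equiv.coe_toEmbedding, Equiv.coe_mulLeft, act_mul, map_sub, map_one]

/-- existence of a nonzero "atom". -/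
theorem exists_atom [Nontrivial (A ⊗[k] L)] {e : A ⊗[k] L} (he : IsIdempotentElem e) :
    ∃ ε : A ⊗[k] L, IsIdempotentElem ε ∧ ε ≠ 0 ∧
      (∀ g : L ≃ₐ[k] L, act k A L g ε = ε ∨ act k A L g ε * ε = 0) ∧
      (ε * e = ε ∨ ε * e = 0) := by
  classical
  obtain ⟨S, -, hS⟩ : ∃ S ∈ (Finset.univ : Finset (L ≃ₐ[k] L)).powerset, EE k A L e S ≠ 0 := by
    by_contra hcon
    push Not at hcon
    have := sum_EE (k := k) (A := A) (L := L) e
    rw [Finset.sum_eq_zero hcon] at this
    exact zero_ne_one this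
  refine ⟨EE k A L e S, EE_idem he S, hS, ?_, ?_⟩
  · intro g
    rw [act_EE]
    by_cases hg : S.map (Equiv.mulLeft g).toEmbedding = S
    · left; rw [hg]
    · right; exact EE_mul_EE he hg
  · by_cases h1 : (1 : L ≃ₐ[k] L) ∈ S
    · left
      have hd : act k A L 1 e ∣ EE k A L e S :=
        Dvd.dvd.mul_right (Finset.dvd_prod_of_mem _ h1) _
      rw [act_one] at hd
      obtain ⟨c, hc⟩ := hd
      rw [hc, mul_comm e c, mul_assoc, he.eq]
    · right
      have hd : (1 - act k A L 1 e) ∣ EE k A L e S :=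
        Dvd.dvd.mul_left (Finset.dvd_prod_of_mem (fun i => 1 - act k A L i e)
          (Finset.mem_sdiff.mpr ⟨Finset.mem_univ _, h1⟩)) _
      rw [act_one] at hd
      obtain ⟨c, hc⟩ := hd
      rw [hc, mul_comm (1 - e) c, mul_assoc, sub_mul, one_mul, he.eq, sub_self, mul_zero]

end Atoms

section Main
variable {k : Type u} [Field k] {A : Type v} [CommRing A] [Algebra k A]
  {L : Type w} [Field L] [Algebra k L] [FiniteDimensional k L] [IsGalois k L]

/-- the stabilizer of `ε`. -/
def stab (ε : A ⊗[k] L) : Subgroup (L ≃ₐ[k] L) where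
  carrier := {g | act k A L g ε = ε}
  mul_mem' := by
    intro a b ha hb
    simp only [Set.mem_ofPred_eq] at *
    rw [act_mul, hb, ha]
  one_mem' := act_one k A L ε
  inv_mem' := by
    intro a ha
    simp only [Set.mem_ofPred_eq] at *
    conv_lhs => rw [← ha]
    exact act_inv_act k A L a ε

lemma mem_stab {ε : A ⊗[k] L} {g : L ≃ₐ[k] L} : g ∈ stab ε ↔ act k A L g ε = ε := Iff.rfl

noncomputable instance (ε : A ⊗[k] L) : Fintype ((L ≃ₐ[k] L) ⧸ stab ε) := Fintype.ofFinite _

variable (ε : A ⊗[k] L)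

/-- the summand attached to a coset -/
noncomputable def term (l : IntermediateField.fixedField (stab ε))
    (q : (L ≃ₐ[k] L) ⧸ stab ε) : A ⊗[k] L :=
  Quotient.liftOn' q (fun g => act k A L g (ε * (1 ⊗ₜ (l : L)))) (by
    intro a b hab
    rw [QuotientGroup.leftRel_apply] at hab
    have h1 : act k A L (a⁻¹ * b) ε = ε := hab
    have h2 : (a⁻¹ * b) (l : L) = l := l.2 ⟨a⁻¹ * b, hab⟩
    have h3 : b = a * (a⁻¹ * b) := by group
    show act k A L a _ = act k A L b _
    conv_rhs => rw [h3, act_mul, map_mul, h1, act_tmul, h2])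

lemma term_mk (l : IntermediateField.fixedField (stab ε)) (g : L ≃ₐ[k] L) :
    term ε l (QuotientGroup.mk g) = act k A L g (ε * (1 ⊗ₜ (l : L))) := rfl

/-- `φ_B`. -/
noncomputable def phiB (l : IntermediateField.fixedField (stab ε)) : A ⊗[k] L :=
  ∑ q : (L ≃ₐ[k] L) ⧸ stab ε, term ε l q

lemma act_term (h : L ≃ₐ[k] L) (l : IntermediateField.fixedField (stab ε))
    (q : (L ≃ₐ[k] L) ⧸ stab ε) : act k A L h (term ε l q) = term ε l (h • q) := by
  obtain ⟨g, rfl⟩ := QuotientGroup.mk_surjective q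
  rw [term_mk, ← act_mul]
  rfl

lemma act_phiB (h : L ≃ₐ[k] L) (l : IntermediateField.fixedField (stab ε)) :
    act k A L h (phiB ε l) = phiB ε l := by
  unfold phiB
  rw [map_sum]
  simp only [act_term]
  exact Equiv.sum_comp (MulAction.toPerm h) (term ε l)

variable {ε}

lemma term_mul_term_of_ne (_hε : IsIdempotentElem ε)
    (hP : ∀ g : L ≃ₐ[k] L, act k A L g ε = ε ∨ act k A L g ε * ε = 0)
    (l l' : IntermediateField.fixedField (stab ε)) {q q' : (L ≃ₐ[k] L) ⧸ stab ε} (hq : q ≠ q') :
    term ε l q * term ε l' q' = 0 := by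
  obtain ⟨g, rfl⟩ := QuotientGroup.mk_surjective q
  obtain ⟨g', rfl⟩ := QuotientGroup.mk_surjective q'
  rw [term_mk, term_mk]
  have hne : g⁻¹ * g' ∉ stab ε := by
    intro hmem
    apply hq
    exact QuotientGroup.eq.mpr hmem
  have h0 : act k A L (g⁻¹ * g') ε * ε = 0 := by
    rcases hP (g⁻¹ * g') with h | h
    · exact absurd h hne
    · exact h
  have h3 : g' = g * (g⁻¹ * g') := by group
  rw [h3, act_mul, ← map_mul]
  have : ε * (1 ⊗ₜ[k] (l : L)) * act k A L (g⁻¹ * g') (ε * 1 ⊗ₜ[k] (l' : L)) = 0 := by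
    rw [map_mul]
    calc ε * (1 ⊗ₜ[k] (l : L)) * (act k A L (g⁻¹ * g') ε * act k A L (g⁻¹ * g') (1 ⊗ₜ[k] (l' : L)))
        = (act k A L (g⁻¹ * g') ε * ε) * ((1 ⊗ₜ[k] (l : L)) *
            act k A L (g⁻¹ * g') (1 ⊗ₜ[k] (l' : L))) := by ring
      _ = 0 := by rw [h0, zero_mul]
  rw [this, map_zero]

lemma term_mul_term_self (hε : IsIdempotentElem ε)
    (l l' : IntermediateField.fixedField (stab ε)) (q : (L ≃ₐ[k] L) ⧸ stab ε) :
    term ε l q * term ε l' q = term ε (l * l') q := by
  obtain ⟨g, rfl⟩ := QuotientGroup.mk_surjective q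
  rw [term_mk, term_mk, term_mk, ← map_mul]
  congr 1
  calc ε * (1 ⊗ₜ[k] (l : L)) * (ε * 1 ⊗ₜ[k] (l' : L))
      = (ε * ε) * ((1 ⊗ₜ[k] (l : L)) * (1 ⊗ₜ[k] (l' : L))) := by ring
    _ = ε * 1 ⊗ₜ[k] ((l * l' : IntermediateField.fixedField (stab ε)) : L) := by
        rw [hε.eq, Algebra.TensorProduct.tmul_mul_tmul, one_mul]
        rfl

lemma phiB_mul (hε : IsIdempotentElem ε)
    (hP : ∀ g : L ≃ₐ[k] L, act k A L g ε = ε ∨ act k A L g ε * ε = 0)
    (l l' : IntermediateField.fixedField (stab ε)) :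
    phiB ε (l * l') = phiB ε l * phiB ε l' := by
  classical
  unfold phiB
  rw [Finset.sum_mul_sum]
  apply Finset.sum_congr rfl
  intro q _
  rw [Finset.sum_eq_single q]
  · exact (term_mul_term_self hε l l' q).symm
  · intro q' _ hq'
    exact term_mul_term_of_ne hε hP l l' (Ne.symm hq')
  · intro h; exact absurd (Finset.mem_univ q) h

lemma phiB_add (l l' : IntermediateField.fixedField (stab ε)) :
    phiB ε (l + l') = phiB ε l + phiB ε l' := by
  unfold phiB
  rw [← Finset.sum_add_distrib]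
  apply Finset.sum_congr rfl
  intro q _
  obtain ⟨g, rfl⟩ := QuotientGroup.mk_surjective q
  rw [term_mk, term_mk, term_mk, ← map_add, ← mul_add, ← TensorProduct.tmul_add]
  rfl

lemma phiB_algebraMap (c : k) :
    phiB ε (algebraMap k (IntermediateField.fixedField (stab ε)) c) =
      algebraMap k A c ⊗ₜ 1 * phiB ε 1 := by
  unfold phiB
  rw [Finset.mul_sum]
  apply Finset.sum_congr rfl
  intro q _
  obtain ⟨g, rfl⟩ := QuotientGroup.mk_surjective q
  rw [term_mk, term_mk]
  have h0 : ((algebraMap k (IntermediateField.fixedField (stab ε)) c : _) : L) =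
      algebraMap k L c := rfl
  have h1 : (1 : A) ⊗ₜ[k] ((algebraMap k (IntermediateField.fixedField (stab ε)) c : _) : L) =
      (algebraMap k A c) ⊗ₜ[k] (1 : L) := by
    rw [h0, Algebra.algebraMap_eq_smul_one,
      Algebra.algebraMap_eq_smul_one, TensorProduct.tmul_smul, TensorProduct.smul_tmul']
  rw [h1]
  have h2 : (algebraMap k A c) ⊗ₜ[k] (1 : L) = algebraMap A (A ⊗[k] L) (algebraMap k A c) := rfl
  have h3 : (1 : A) ⊗ₜ[k] (((1 : IntermediateField.fixedField (stab ε)) : _) : L) =
      (1 : A ⊗[k] L) := rfl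
  rw [h2, h3, mul_one, mul_comm ε, map_mul, AlgHom.commutes]

lemma eps_mul_phiB (hε : IsIdempotentElem ε)
    (hP : ∀ g : L ≃ₐ[k] L, act k A L g ε = ε ∨ act k A L g ε * ε = 0)
    (l : IntermediateField.fixedField (stab ε)) :
    ε * phiB ε l = ε * (1 ⊗ₜ (l : L)) := by
  classical
  unfold phiB
  rw [Finset.mul_sum, Finset.sum_eq_single (QuotientGroup.mk (1 : L ≃ₐ[k] L))]
  · rw [term_mk, act_one, ← mul_assoc, hε.eq]
  · intro q _ hq
    obtain ⟨g, rfl⟩ := QuotientGroup.mk_surjective q
    have hne : g ∉ stab ε := by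
      intro hmem
      apply hq
      rw [QuotientGroup.eq]
      simpa using hmem
    rw [term_mk, map_mul]
    rcases hP g with h | h
    · exact absurd h hne
    · rw [← mul_assoc, mul_comm ε, h, zero_mul]
  · intro h; exact absurd (Finset.mem_univ _) h

end Main


section Final
variable {k : Type u} [Field k] {A : Type v} [CommRing A] [Algebra k A]
  {L : Type w} [Field L] [Algebra k L] [FiniteDimensional k L] [IsGalois k L]

lemma tmul_one_injective : Function.Injective (fun a : A => (a ⊗ₜ[k] (1 : L) : A ⊗[k] L)) :=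
  Algebra.TensorProduct.includeLeft_injective (R := k) (S := k) (A := A) (B := L)
    (algebraMap k L).injective

/-- an invariant nonzero idempotent of `A ⊗ L` is `1` if `A` has only trivial idempotents. -/
lemma invariant_idem_eq_one (hA : ∀ a : A, IsIdempotentElem a → a = 0 ∨ a = 1)
    {b : A ⊗[k] L} (hb : IsIdempotentElem b) (hb0 : b ≠ 0)
    (hinv : ∀ g : L ≃ₐ[k] L, act k A L g b = b) : b = 1 := by
  obtain ⟨a, rfl⟩ := exists_of_invariant k A L b hinv
  have ha : IsIdempotentElem a := by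
    apply tmul_one_injective (k := k) (L := L)
    show (a * a) ⊗ₜ[k] (1 : L) = a ⊗ₜ[k] (1 : L)
    have := hb.eq
    rw [Algebra.TensorProduct.tmul_mul_tmul, mul_one] at this
    exact this
  rcases hA a ha with h | h
  · exfalso; apply hb0; rw [h, TensorProduct.zero_tmul]
  · rw [h]; rfl

/-- **Main algebraic lemma.** If `A` has only trivial idempotents, `L/k` is finite Galois and
`A ⊗[k] L` has a nontrivial idempotent, then some intermediate field `F ≠ ⊥` of `L/k`
embeds into `A` over `k`. -/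
theorem exists_intermediateField_algHom (hA : ∀ a : A, IsIdempotentElem a → a = 0 ∨ a = 1)
    {e : A ⊗[k] L} (he : IsIdempotentElem e) (he0 : e ≠ 0) (he1 : e ≠ 1) :
    ∃ F : IntermediateField k L, F ≠ ⊥ ∧ Nonempty (F →ₐ[k] A) := by
  classical
  haveI : Nontrivial (A ⊗[k] L) := ⟨⟨e, 0, he0⟩⟩
  obtain ⟨ε, hε, hε0, hP, hεe⟩ := exists_atom he
  -- `phiB ε 1 = 1`
  have ht1 : phiB ε 1 = 1 := by
    apply invariant_idem_eq_one hA
    · unfold IsIdempotentElem
      rw [← phiB_mul hε hP, one_mul]
    · intro h0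
      have := eps_mul_phiB hε hP 1
      rw [h0, mul_zero] at this
      apply hε0
      have h3 : (1 : A) ⊗ₜ[k] (((1 : IntermediateField.fixedField (stab ε)) : _) : L) =
        (1 : A ⊗[k] L) := rfl
      rw [h3, mul_one] at this
      exact this.symm
    · intro g; exact act_phiB ε g 1
  -- the stabilizer is proper
  have hstab : stab ε ≠ ⊤ := by
    intro htop
    have hinv : ∀ g : L ≃ₐ[k] L, act k A L g ε = ε := by
      intro g
      have : g ∈ stab ε := by rw [htop]; exact Subgroup.mem_top g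
      exact this
    have hε1 : ε = 1 := invariant_idem_eq_one hA hε hε0 hinv
    rw [hε1, one_mul] at hεe
    rcases hεe with h | h
    · exact he1 h
    · exact he0 h
  refine ⟨IntermediateField.fixedField (stab ε), ?_, ?_⟩
  · intro hbot
    apply hstab
    have h1 := IntermediateField.fixingSubgroup_fixedField (stab ε)
    rw [hbot, IntermediateField.fixingSubgroup_bot] at h1
    exact h1.symm
  · have hex : ∀ l : IntermediateField.fixedField (stab ε), ∃ a : A, phiB ε l = a ⊗ₜ 1 :=
      fun l => exists_of_invariant k A L _ (fun g => act_phiB ε g l)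
    choose f hf using hex
    have hinj := tmul_one_injective (k := k) (A := A) (L := L)
    have hone : f 1 = 1 := by
      apply hinj
      show f 1 ⊗ₜ[k] (1 : L) = (1 : A) ⊗ₜ[k] (1 : L)
      rw [← hf, ht1]; rfl
    have hmul : ∀ x y, f (x * y) = f x * f y := by
      intro x y
      apply hinj
      show f (x * y) ⊗ₜ[k] (1 : L) = (f x * f y) ⊗ₜ[k] (1 : L)
      rw [← hf, phiB_mul hε hP, hf, hf, Algebra.TensorProduct.tmul_mul_tmul, mul_one]
    have hadd : ∀ x y, f (x + y) = f x + f y := by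
      intro x y
      apply hinj
      show f (x + y) ⊗ₜ[k] (1 : L) = (f x + f y) ⊗ₜ[k] (1 : L)
      rw [← hf, phiB_add, hf, hf, TensorProduct.add_tmul]
    have hzero : f 0 = 0 := by
      have := hadd 0 0
      rw [add_zero] at this
      exact left_eq_add.mp this
    have halg : ∀ c : k, f (algebraMap k _ c) = algebraMap k A c := by
      intro c
      apply hinj
      show f (algebraMap k _ c) ⊗ₜ[k] (1 : L) = (algebraMap k A c) ⊗ₜ[k] (1 : L)
      rw [← hf, phiB_algebraMap, ht1, mul_one]
    exact ⟨{ toFun := f, map_one' := hone, map_mul' := hmul, map_zero' := hzero,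
             map_add' := hadd, commutes' := halg }⟩

end Final

end Groth.Agent.Lib.helper10.GalIdem
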