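import Mathlib
import Groth.Agent.Lib.Helper17.GorRing
import Groth.Agent.Lib.Helper17.GorFlat
import Groth.Agent.Lib.Helper17.GorIso

/-!
Gorenstein section rings (helper10), part 1: general localization lemmas for Gorenstein local rings.
-/

set_option autoImplicit false
set_option linter.unusedSectionVars false
set_option linter.style.haveILetI false

universe u

open IsLocalRing

namespace Groth.Agent.Lib.helper10

namespace GorSect

open Groth.Agent.Lib.helper17.GorIso

/-- If a localization `C` of `A` is a Gorenstein ring, then `A` is Gorenstein at every prime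
disjoint from the submonoid. -/
theorem gorLocal_of_isLocalization {A C : Type u} [CommRing A] [CommRing C] [Algebra A C]
    (M : Submonoid A) [IsLocalization M C] [hC : LocCoh.IsGorensteinRing C]
    (p : Ideal A) [hp : p.IsPrime] (hd : Disjoint (M : Set A) (p : Set A)) :
    LocCoh.IsGorensteinLocalRing (Localization.AtPrime p) := by
  let q : Ideal C := p.map (algebraMap A C)
  haveI hq : q.IsPrime := IsLocalization.isPrime_of_isPrime_disjoint M C p hp hd
  have hpq : q.comap (algebraMap A C) = p := IsLocalization.under_map_of_isPrime_disjoint M C hp hd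
  haveI h1 : IsLocalization.AtPrime (Localization.AtPrime q) (q.comap (algebraMap A C)) :=
    IsLocalization.isLocalization_isLocalization_atPrime_isLocalization M (Localization.AtPrime q) q
  have hM : (q.comap (algebraMap A C)).primeCompl = p.primeCompl := by
    ext x
    simp only [Ideal.mem_primeCompl_iff]
    rw [hpq]
  haveI h2 : IsLocalization p.primeCompl (Localization.AtPrime q) := by
    have h1' : IsLocalization (q.comap (algebraMap A C)).primeCompl (Localization.AtPrime q) := h1
    rwa [hM] at h1'
  have e : Localization.AtPrime p ≃ₐ[A] Localization.AtPrime q :=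
    IsLocalization.algEquiv p.primeCompl _ _
  haveI := hC.isGorensteinLocalRing_localization q
  exact isGorensteinLocalRing_of_ringEquiv e.toRingEquiv inferInstance

/-- Quotient by a nonzero element of a prime in a Noetherian domain: the Gorenstein property at the
prime can be tested on the quotient. -/
theorem gorLocal_quot_iff {A S : Type u} [CommRing A] [IsDomain A] [IsNoetherianRing A]
    [CommRing S] (φ : A →+* S) (hφ : Function.Surjective φ) (x : A) (hx0 : x ≠ 0)
    (hker : RingHom.ker φ = Ideal.span {x}) (q : Ideal S) [hq : q.IsPrime] :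
    haveI : (q.comap φ).IsPrime := Ideal.comap_isPrime φ q
    LocCoh.IsGorensteinLocalRing (Localization.AtPrime (q.comap φ)) ↔
      LocCoh.IsGorensteinLocalRing (Localization.AtPrime q) := by
  haveI hp : (q.comap φ).IsPrime := Ideal.comap_isPrime φ q
  set p : Ideal A := q.comap φ with hpdef
  let Ap := Localization.AtPrime p
  let x' : Ap := algebraMap A Ap x
  have hxp : x ∈ p := by
    rw [hpdef, Ideal.mem_comap]
    have : x ∈ RingHom.ker φ := by rw [hker]; exact Ideal.mem_span_singleton_self x
    rw [RingHom.mem_ker] at this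
    rw [this]; exact zero_mem _
  have hx'm : x' ∈ maximalIdeal Ap := by
    rw [← Localization.AtPrime.map_eq_maximalIdeal]
    exact Ideal.mem_map_of_mem _ hxp
  haveI : IsDomain Ap := IsLocalization.isDomain_localization (Ideal.primeCompl_le_nonZeroDivisors p)
  have hx'0 : x' ≠ 0 := by
    intro h
    apply hx0
    exact (IsLocalization.injective Ap (Ideal.primeCompl_le_nonZeroDivisors p)) (by rw [map_zero]; exact h)
  have hreg : IsSMulRegular Ap x' := by
    intro a b hab
    exact mul_left_cancel₀ hx'0 hab
  haveI : IsNoetherianRing Ap := IsLocalization.isNoetherianRing p.primeCompl _ inferInstance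
  rw [Groth.Agent.Lib.helper17.GorFlat.gor_quot_iff Ap x' hx'm hreg]
  -- the quotient is a localization of `S` at `q`
  let g0 : A →+* Ap ⧸ Ideal.span {x'} := (Ideal.Quotient.mk _).comp (algebraMap A Ap)
  have hg0 : RingHom.ker φ ≤ RingHom.ker g0 := by
    rw [hker, Ideal.span_le, Set.singleton_subset_iff, SetLike.mem_coe, RingHom.mem_ker]
    show Ideal.Quotient.mk _ x' = 0
    rw [Ideal.Quotient.eq_zero_iff_mem]
    exact Ideal.mem_span_singleton_self x'
  let ψ : S →+* Ap ⧸ Ideal.span {x'} := RingHom.liftOfSurjective φ hφ ⟨g0, hg0⟩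
  have hψ : ψ.comp φ = g0 := RingHom.liftOfRightInverse_comp φ _ _ ⟨g0, hg0⟩
  letI : Algebra S (Ap ⧸ Ideal.span {x'}) := ψ.toAlgebra
  have hloc : IsLocalization (p.primeCompl.map φ) (Ap ⧸ Ideal.span {x'}) := by
    refine IsLocalization.of_surjective p.primeCompl Ap φ hφ (Ideal.Quotient.mk (Ideal.span {x'}))
      Ideal.Quotient.mk_surjective ?_ ?_
    · exact hψ.symm
    · rw [Ideal.mk_ker, hker, Ideal.map_span, Set.image_singleton]
  have hM : p.primeCompl.map φ = q.primeCompl := by
    ext s
    constructor
    · rintro ⟨a, ha, rfl⟩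
      exact ha
    · intro hs
      obtain ⟨a, rfl⟩ := hφ s
      exact ⟨a, hs, rfl⟩
  haveI hloc' : IsLocalization q.primeCompl (Ap ⧸ Ideal.span {x'}) := by
    rwa [hM] at hloc
  have e : Localization.AtPrime q ≃ₐ[S] (Ap ⧸ Ideal.span {x'}) :=
    IsLocalization.algEquiv q.primeCompl _ _
  exact isGorensteinLocalRing_iff_of_ringEquiv e.symm.toRingEquiv

end GorSect

end Groth.Agent.Lib.helper10
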