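import Groth.Agent.Lib.Helper10.GorSect9

/-!
Gorenstein section rings (helper10), part 10: the socle of `k[H]/(X^c)` is simple iff `H` has a
unique pseudo-Frobenius number.
-/

set_option autoImplicit false
set_option linter.unusedSectionVars false
set_option linter.style.haveILetI false

universe u

open Polynomial IsLocalRing

namespace Groth.Agent.Lib.helper10

namespace GorSect

open Groth.Agent.Lib.helper17.SocleFlat Groth.Agent.Lib.helper17

variable (k : Type u) [Field k] {H : Set ℕ} {N : ℕ} (hH : IsNumSg H N)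

variable {c : ℕ} (hc : c ∈ H) (hc0 : c ≠ 0)

include hc in
theorem xmon_mul_mem_span_iff {h : ℕ} (hh : h ∈ H) (p : SG k hH) :
    xmon k hH h * p ∈ Ideal.span {xmon k hH c} ↔
      ∀ m, (valHom k hH p).coeff m ≠ 0 → c ≤ m + h ∧ m + h - c ∈ H := by
  rw [mem_span_xmon_iff k hH hc]
  constructor
  · intro hyp m hm
    have := hyp (m + h) (by
      rw [map_mul, xmon_val k hH hh, mul_comm, Polynomial.coeff_mul_X_pow]
      exact hm)
    exact this
  · intro hyp n hn
    rw [map_mul, xmon_val k hH hh, mul_comm, Polynomial.coeff_mul_X_pow'] at hn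
    split_ifs at hn with hle
    · have := hyp (n - h) hn
      rwa [Nat.sub_add_cancel hle] at this
    · exact absurd rfl hn

include hc hc0 in
/-- Socle membership in the Artinian quotient. -/
theorem mk_mem_soc_iff [IsLocalRing (BQ k hH c)] (p : SG k hH) :
    Ideal.Quotient.mk (Ideal.span {xmon k hH c}) p ∈
        socM (BQ k hH c) (BQ k hH c) (BQ k hH c) ↔
      ∀ h ∈ H, h ≠ 0 → xmon k hH h * p ∈ Ideal.span {xmon k hH c} := by
  rw [mem_socM]
  constructor
  · intro hyp h hh hh0
    have hmem : Ideal.Quotient.mk (Ideal.span {xmon k hH c}) (xmon k hH h) ∈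
        maximalIdeal (BQ k hH c) := by
      rw [maximalIdeal_BQ k hH hc hc0]
      exact Ideal.mem_map_of_mem _ (xmon_mem_mIdeal k hH hh0)
    have := hyp _ hmem
    rw [smul_eq_mul, ← map_mul, Ideal.Quotient.eq_zero_iff_mem] at this
    exact this
  · intro hyp a ha
    obtain ⟨s, rfl⟩ := Ideal.Quotient.mk_surjective a
    have hs : s ∈ mIdeal k hH := by
      rw [← comap_maximalIdeal_BQ k hH hc hc0, Ideal.mem_comap]
      exact ha
    rw [smul_eq_mul, ← map_mul, Ideal.Quotient.eq_zero_iff_mem]
    rw [mem_mIdeal_iff] at hs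
    rw [eq_sum_xmon k hH s, Finset.sum_mul]
    refine Ideal.sum_mem _ fun n hn => ?_
    have hnH : n ∈ H := valHom_mem k hH s n (Polynomial.mem_support_iff.mp hn)
    have hn0 : n ≠ 0 := by
      rintro rfl
      exact (Polynomial.mem_support_iff.mp hn) hs
    rw [smul_mul_assoc]
    exact Submodule.smul_of_tower_mem _ _ (hyp n hnH hn0)

section unique

variable {F : ℕ} (hF : F ∈ PF H) (hgt : ∀ n, F < n → n ∈ H)

include hc hc0 hF in
theorem xmon_F_notMem_span : xmon k hH (F + c) ∉ Ideal.span {xmon k hH c} := by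
  have hFc : F + c ∈ H := hF.2 c hc hc0
  rw [mem_span_xmon_iff k hH hc]
  intro hyp
  have := hyp (F + c) (by
    rw [xmon_val k hH hFc, Polynomial.coeff_X_pow, if_pos rfl]
    exact one_ne_zero)
  rw [Nat.add_sub_cancel] at this
  exact hF.1 this.2

include hc hc0 hF in
theorem mk_xmon_F_mem_soc [IsLocalRing (BQ k hH c)] :
    Ideal.Quotient.mk (Ideal.span {xmon k hH c}) (xmon k hH (F + c)) ∈
      socM (BQ k hH c) (BQ k hH c) (BQ k hH c) := by
  have hFc : F + c ∈ H := hF.2 c hc hc0
  rw [mk_mem_soc_iff k hH hc hc0]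
  intro h hh hh0
  rw [xmon_mul_mem_span_iff k hH hc hh]
  intro m hm
  rw [xmon_val k hH hFc, Polynomial.coeff_X_pow] at hm
  split_ifs at hm with hmF
  · subst hmF
    refine ⟨by omega, ?_⟩
    have : F + c + h - c = F + h := by omega
    rw [this]
    exact hF.2 h hh hh0
  · exact absurd rfl hm

include hc hc0 hF hgt in
/-- With a unique pseudo-Frobenius number, the socle is spanned by one monomial. -/
theorem soc_le_span [IsLocalRing (BQ k hH c)] (huniq : ∀ f ∈ PF H, f = F)
    (y : BQ k hH c) (hy : y ∈ socM (BQ k hH c) (BQ k hH c) (BQ k hH c)) :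
    ∃ l : k, y = l • Ideal.Quotient.mk (Ideal.span {xmon k hH c}) (xmon k hH (F + c)) := by
  obtain ⟨p, rfl⟩ := Ideal.Quotient.mk_surjective y
  have hFc : F + c ∈ H := hF.2 c hc hc0
  rw [mk_mem_soc_iff k hH hc hc0] at hy
  refine ⟨(valHom k hH p).coeff (F + c), ?_⟩
  have hsm : (valHom k hH p).coeff (F + c) •
      Ideal.Quotient.mk (Ideal.span {xmon k hH c}) (xmon k hH (F + c)) =
      Ideal.Quotient.mk (Ideal.span {xmon k hH c})
        ((valHom k hH p).coeff (F + c) • xmon k hH (F + c)) := rfl
  rw [hsm, ← sub_eq_zero, ← map_sub, Ideal.Quotient.eq_zero_iff_mem,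
    mem_span_xmon_iff k hH hc]
  intro n hn
  rw [map_sub, map_smul, xmon_val k hH hFc, Polynomial.coeff_sub, Polynomial.coeff_smul,
    Polynomial.coeff_X_pow, smul_eq_mul] at hn
  have hnF : n ≠ F + c := by
    rintro rfl
    rw [if_pos rfl, mul_one, sub_self] at hn
    exact hn rfl
  rw [if_neg hnF, mul_zero, sub_zero] at hn
  have key : ∀ h ∈ H, h ≠ 0 → c ≤ n + h ∧ n + h - c ∈ H := by
    intro h hh hh0
    exact (xmon_mul_mem_span_iff k hH hc hh p).1 (hy h hh hh0) n hn
  by_contra hcon
  rcases lt_or_ge n c with hlt | hge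
  · have h1 := key (c - n + F) (hgt _ (by omega)) (by omega)
    have : n + (c - n + F) - c = F := by omega
    rw [this] at h1
    exact hF.1 h1.2
  · have hnotH : n - c ∉ H := fun hmem => hcon ⟨hge, hmem⟩
    have hPF : n - c ∈ PF H := by
      refine ⟨hnotH, fun h hh hh0 => ?_⟩
      have h1 := key h hh hh0
      have : n + h - c = n - c + h := by omega
      rw [this] at h1
      exact h1.2
    have := huniq _ hPF
    omega

end unique

include hc hc0 in
/-- The type of the Artinian quotient is one iff the pseudo-Frobenius number is unique. -/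
theorem typ_BQ_eq_one_iff [IsLocalRing (BQ k hH c)] :
    ArtGor.typ (BQ k hH c) = 1 ↔ ∀ f ∈ PF H, ∀ f' ∈ PF H, f = f' := by
  obtain ⟨F, hF, hgt⟩ := exists_mem_PF hH.big hH.one_notMem
  have hFc : F + c ∈ H := hF.2 c hc hc0
  unfold ArtGor.typ
  rw [LinearEquiv.length_eq (homEquivSoc (BQ k hH c) (BQ k hH c) (BQ k hH c)),
    Module.length_eq_one_iff, isSimpleModule_iff_toSpanSingleton_surjective]
  set e : BQ k hH c := Ideal.Quotient.mk (Ideal.span {xmon k hH c}) (xmon k hH (F + c)) with he
  have he_soc : e ∈ socM (BQ k hH c) (BQ k hH c) (BQ k hH c) := mk_xmon_F_mem_soc k hH hc hc0 hF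
  have he0 : e ≠ 0 := by
    intro h0
    rw [he, Ideal.Quotient.eq_zero_iff_mem] at h0
    exact xmon_F_notMem_span k hH hc hc0 hF h0
  constructor
  · rintro ⟨_, hsurj⟩ f hf f' hf'
    -- all pseudo-Frobenius numbers equal `F`
    have key : ∀ f ∈ PF H, f = F := by
      intro f hf
      by_contra hne
      have hfc : f + c ∈ H := hf.2 c hc hc0
      have hf_soc := mk_xmon_F_mem_soc k hH hc hc0 hf
      have hf0 : (⟨_, hf_soc⟩ : socM (BQ k hH c) (BQ k hH c) (BQ k hH c)) ≠ 0 := by
        intro h0
        have := congrArg Subtype.val h0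
        simp only [ZeroMemClass.coe_zero] at this
        rw [Ideal.Quotient.eq_zero_iff_mem] at this
        exact xmon_F_notMem_span k hH hc hc0 hf this
      obtain ⟨b, hb⟩ := hsurj ⟨_, hf_soc⟩ hf0 ⟨e, he_soc⟩
      obtain ⟨s, rfl⟩ := Ideal.Quotient.mk_surjective b
      have hb' := congrArg Subtype.val hb
      rw [LinearMap.toSpanSingleton_apply] at hb'
      simp only [SetLike.val_smul, smul_eq_mul] at hb'
      rw [he, ← map_mul, ← sub_eq_zero, ← map_sub, Ideal.Quotient.eq_zero_iff_mem,
        mem_span_xmon_iff k hH hc] at hb'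
      by_cases hco : (valHom k hH (s * xmon k hH (f + c) - xmon k hH (F + c))).coeff (F + c) = 0
      · rw [map_sub, map_mul, xmon_val k hH hfc, xmon_val k hH hFc, Polynomial.coeff_sub,
          Polynomial.coeff_X_pow, if_pos rfl, Polynomial.coeff_mul_X_pow'] at hco
        split_ifs at hco with hle
        · have hs1 : (valHom k hH s).coeff (F + c - (f + c)) ≠ 0 := by
            intro h0
            rw [h0, zero_sub, neg_eq_zero] at hco
            exact one_ne_zero hco
          have hmem := valHom_mem k hH s _ hs1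
          have hpos : F + c - (f + c) ≠ 0 := by omega
          have := hf.2 _ hmem hpos
          have h2 : f + (F + c - (f + c)) = F := by omega
          rw [h2] at this
          exact hF.1 this
        · rw [zero_sub, neg_eq_zero] at hco
          exact one_ne_zero hco
      · have := hb' (F + c) hco
        rw [Nat.add_sub_cancel] at this
        exact hF.1 this.2
    rw [key f hf, key f' hf']
  · intro huniq
    have huniq' : ∀ f ∈ PF H, f = F := fun f hf => huniq f hf F hF
    refine ⟨⟨⟨⟨e, he_soc⟩, 0, ?_⟩⟩, ?_⟩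
    · intro h0
      exact he0 (congrArg Subtype.val h0)
    · intro y hy0 w
      obtain ⟨l, hl⟩ := soc_le_span k hH hc hc0 hF hgt huniq' y.1 y.2
      obtain ⟨m, hm⟩ := soc_le_span k hH hc hc0 hF hgt huniq' w.1 w.2
      have hl0 : l ≠ 0 := by
        rintro rfl
        rw [zero_smul] at hl
        exact hy0 (Subtype.ext hl)
      refine ⟨algebraMap k (BQ k hH c) (m * l⁻¹), ?_⟩
      apply Subtype.ext
      rw [LinearMap.toSpanSingleton_apply]
      simp only [SetLike.val_smul]
      rw [algebraMap_smul, hl, hm, smul_smul, mul_assoc, inv_mul_cancel₀ hl0, mul_one]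

end GorSect

end Groth.Agent.Lib.helper10
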