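import Groth.Agent.Lib.Helper10.GorSect6
import Groth.Agent.Lib.Helper10.GorSect10

/-!
Gorenstein section rings (helper10), part 11: Kunz-type theorem — the section ring of a point on a
curve of positive genus is Gorenstein iff the Weierstrass semigroup is symmetric.
-/

set_option autoImplicit false
set_option linter.unusedSectionVars false
set_option linter.style.haveILetI false

universe u

open IntermediateField FunFld Polynomial IsLocalRing

namespace Groth.Agent.Lib.helper10

namespace FF

open RD W4c6gradedringsgw GorSect

variable {k : Type u} {K : Type u} [Field k] [Field K] [Algebra k K]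

section main

variable (hK : IsFunctionField k K) [IsAlgClosed k]

include hK in
theorem isNumSg_poleOrders (P : Place k K) (hg : 0 < genus k K) :
    IsNumSg (poleOrders P) (2 * genus k K) where
  zero_mem := zero_mem_poleOrders hK P
  add_mem := fun a ha b hb => add_mem_poleOrders hK P ha hb
  big := fun n hn => by
    rw [mem_poleOrders_iff hK]
    exact not_isGap_of_ge hK P hn (by omega)
  one_notMem := one_not_mem_poleOrders hK P hg

variable (P : Place k K) {u : K} (hu : P.1 u = WithZero.exp (-1 : ℤ)) (hg : 0 < genus k K)

/-- The leading-coefficient map onto the semigroup ring of the Weierstrass semigroup. -/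
noncomputable def leadSG :
    ↥(sectRing (Finsupp.single P 1 : Divisor k K)) →+*
      SG k (isNumSg_poleOrders hK P hg) where
  toFun p := SG.mk k _ (leadHom hK P hu p)
    (fun n hn => mem_poleOrders_of_coeff_leadHom hK P hu p n hn)
  map_one' := by
    apply valHom_injective
    rw [valHom_mk, map_one, map_one]
  map_mul' p q := by
    apply valHom_injective
    rw [valHom_mk, map_mul, map_mul, valHom_mk, valHom_mk]
  map_zero' := by
    apply valHom_injective
    rw [valHom_mk, map_zero, map_zero]
  map_add' p q := by
    apply valHom_injective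
    rw [valHom_mk, map_add, map_add, valHom_mk, valHom_mk]

theorem valHom_leadSG (p : ↥(sectRing (Finsupp.single P 1 : Divisor k K))) :
    valHom k (isNumSg_poleOrders hK P hg) (leadSG hK P hu hg p) = leadHom hK P hu p := rfl

theorem leadSG_surjective : Function.Surjective (leadSG hK P hu hg) := by
  intro s
  have hmem : valHom k _ s ∈ (leadHom hK P hu).range := by
    rw [Polynomial.as_sum_support_C_mul_X_pow (valHom k _ s)]
    refine Subalgebra.sum_mem _ fun n hn => ?_
    have hnH : n ∈ poleOrders P := valHom_mem k _ s n (Polynomial.mem_support_iff.mp hn)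
    rw [← Polynomial.smul_eq_C_mul]
    apply Subalgebra.smul_mem
    have := monomial_mem_range_leadHom hK P hu n hnH
    rwa [Polynomial.monomial_one_right_eq_X_pow] at this
  obtain ⟨r, hr⟩ := hmem
  exact ⟨r, valHom_injective k _ (by rw [valHom_leadSG]; exact hr)⟩

theorem ker_leadSG : RingHom.ker (leadSG hK P hu hg) = Ideal.span {TT P} := by
  rw [← ker_leadHom hK P hu hg (TT P) 1 one_ne_zero (by
    show (Polynomial.X : K[X]) = Polynomial.C 1 * Polynomial.X
    rw [Polynomial.C_1, one_mul])]
  ext p
  rw [RingHom.mem_ker, RingHom.mem_ker]
  constructor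
  · intro h
    have := congrArg (valHom k (isNumSg_poleOrders hK P hg)) h
    rwa [valHom_leadSG, map_zero] at this
  · intro h
    apply valHom_injective k (isNumSg_poleOrders hK P hg)
    rw [valHom_leadSG, map_zero]
    exact h

theorem TT_ne_zero : TT P ≠ 0 := by
  intro h
  have := congrArg Subtype.val h
  exact Polynomial.X_ne_zero this

include hK hg in
theorem two_genus_mem : 2 * genus k K ∈ poleOrders P :=
  (isNumSg_poleOrders hK P hg).big _ le_rfl

include hK hu hg in
/-- Kunz-type theorem for the section ring of a point. -/
theorem isGorensteinRing_sectRing_iff :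
    LocCoh.IsGorensteinRing ↥(sectRing (Finsupp.single P 1 : Divisor k K)) ↔
      IsSymmetric (poleOrders P) := by
  set hH := isNumSg_poleOrders hK P hg with hHdef
  have hc : 2 * genus k K ∈ poleOrders P := two_genus_mem hK P hg
  have hc0 : 2 * genus k K ≠ 0 := by omega
  haveI hRn : IsNoetherianRing ↥(sectRing (Finsupp.single P 1 : Divisor k K)) :=
    isNoetherianRing_sectRing hK P
  have hsurj := leadSG_surjective hK P hu hg
  have hker := ker_leadSG hK P hu hg
  haveI hSn : IsNoetherianRing (SG k hH) :=
    isNoetherianRing_of_surjective _ _ (leadSG hK P hu hg) hsurj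
  haveI hBl : IsLocalRing (BQ k hH (2 * genus k K)) := isLocalRing_BQ k hH hc hc0
  haveI hBa : IsArtinianRing (BQ k hH (2 * genus k K)) := isArtinianRing_BQ k hH hc
  -- the Gorenstein property at the irrelevant ideal of the semigroup ring
  have hm : LocCoh.IsGorensteinLocalRing (Localization.AtPrime (mIdeal k hH)) ↔
      IsSymmetric (poleOrders P) := by
    rw [gorLocal_mIdeal_iff k hH hc hc0,
      Groth.Agent.Lib.helper17.ArtGor.isGorensteinLocalRing_iff_typ,
      typ_BQ_eq_one_iff k hH hc hc0]
    constructor
    · intro h
      exact isSymmetric_of_PF_subsingleton hH.zero_mem hH.add_mem hH.big hH.one_notMem h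
    · intro h
      exact PF_subsingleton_of_isSymmetric hH.zero_mem h
  -- transfer along the leading-coefficient map
  have htrans : ∀ (q : Ideal (SG k hH)) [q.IsPrime],
      haveI : (q.comap (leadSG hK P hu hg)).IsPrime := Ideal.comap_isPrime _ q
      (LocCoh.IsGorensteinLocalRing (Localization.AtPrime (q.comap (leadSG hK P hu hg))) ↔
        LocCoh.IsGorensteinLocalRing (Localization.AtPrime q)) := by
    intro q hq
    exact gorLocal_quot_iff (leadSG hK P hu hg) hsurj (TT P) (TT_ne_zero P) hker q
  constructor
  · intro hG
    rw [← hm]
    haveI : ((mIdeal k hH).comap (leadSG hK P hu hg)).IsPrime := Ideal.comap_isPrime _ _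
    rw [← htrans (mIdeal k hH)]
    exact hG.isGorensteinLocalRing_localization _
  · intro hsym
    refine { isGorensteinLocalRing_localization := ?_ }
    intro p hp
    by_cases hT : TT P ∈ p
    · have hkp : RingHom.ker (leadSG hK P hu hg) ≤ p := by
        rw [hker, Ideal.span_le, Set.singleton_subset_iff]
        exact hT
      let q : Ideal (SG k hH) := p.map (leadSG hK P hu hg)
      haveI hq : q.IsPrime := Ideal.map_isPrime_of_surjective hsurj hkp
      have hcomap : q.comap (leadSG hK P hu hg) = p := by
        rw [Ideal.comap_map_of_surjective _ hsurj, ← RingHom.ker_eq_comap_bot]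
        exact sup_of_le_left hkp
      haveI : (q.comap (leadSG hK P hu hg)).IsPrime := Ideal.comap_isPrime _ q
      rw [← gorLocal_congr hcomap, htrans q]
      by_cases hx : xmon k hH (2 * genus k K) ∈ q
      · have hqm := eq_mIdeal_of_xmon_mem k hH hc q hx
        rw [gorLocal_congr hqm, hm]
        exact hsym
      · exact gorLocal_of_xmon_notMem k hH hc hc0 q hx
    · exact gorLocal_of_TT_notMem hK P p hT

end main

end FF

end Groth.Agent.Lib.helper10
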