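import Mathlib
import Groth.Prelude.Def_W4c6gradedringsgwSect

/-!
Gorenstein section rings (helper10), part 2: numerical semigroup combinatorics — a numerical
semigroup is symmetric iff it has a unique pseudo-Frobenius number.
-/

set_option autoImplicit false
set_option linter.unusedSectionVars false
set_option linter.style.haveILetI false

namespace Groth.Agent.Lib.helper10

namespace GorSect

open W4c6gradedringsgw

/-- Pseudo-Frobenius numbers of `H`. -/
def PF (H : Set ℕ) : Set ℕ := {f | f ∉ H ∧ ∀ h ∈ H, h ≠ 0 → f + h ∈ H}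

variable {H : Set ℕ} (h0 : 0 ∈ H) (hadd : ∀ a ∈ H, ∀ b ∈ H, a + b ∈ H)
  {N : ℕ} (hbig : ∀ n, N ≤ n → n ∈ H) (h1 : 1 ∉ H)

theorem inH_iff (n : ℤ) : (∃ h ∈ H, (h : ℤ) = n) ↔ 0 ≤ n ∧ n.toNat ∈ H := by
  constructor
  · rintro ⟨h, hh, rfl⟩
    exact ⟨Int.natCast_nonneg _, by simpa using hh⟩
  · rintro ⟨hn, hH⟩
    exact ⟨n.toNat, hH, Int.toNat_of_nonneg hn⟩

include hbig in
/-- Maximal element of a nonempty set of gaps. -/
theorem exists_max_gap (S : Set ℕ) (hS : ∀ x ∈ S, x ∉ H) (x0 : ℕ) (hx0 : x0 ∈ S) :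
    ∃ x ∈ S, ∀ y ∈ S, y ≤ x := by
  classical
  have hlt : ∀ x ∈ S, x ≤ N := by
    intro x hx
    by_contra hcon
    exact hS x hx (hbig x (by omega))
  refine ⟨Nat.findGreatest (· ∈ S) N, Nat.findGreatest_spec (P := (· ∈ S)) (hlt x0 hx0) hx0, ?_⟩
  intro y hy
  exact Nat.le_findGreatest (hlt y hy) hy

include hbig h1 in
theorem exists_mem_PF : ∃ F ∈ PF H, ∀ n, F < n → n ∈ H := by
  obtain ⟨F, hF, hmax⟩ := exists_max_gap hbig {x | x ∉ H} (fun x hx => hx) 1 h1
  have hgt : ∀ n, F < n → n ∈ H := by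
    intro n hn
    by_contra hcon
    have := hmax n hcon
    omega
  refine ⟨F, ⟨hF, ?_⟩, hgt⟩
  intro h _ hh0
  exact hgt _ (by omega)

include h0 in
theorem PF_subsingleton_of_isSymmetric (hsym : IsSymmetric H) :
    ∀ f ∈ PF H, ∀ f' ∈ PF H, f = f' := by
  obtain ⟨d, hd⟩ := hsym
  have hd0 : ¬ ∃ h ∈ H, (h : ℤ) = d := by
    have := (hd 0).1 ⟨0, h0, rfl⟩
    simpa using this
  have key : ∀ f ∈ PF H, (f : ℤ) = d := by
    intro f hf
    have h1 : ¬ ∃ h ∈ H, (h : ℤ) = (f : ℤ) := by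
      rintro ⟨h, hh, he⟩
      have : h = f := by exact_mod_cast he
      exact hf.1 (this ▸ hh)
    have h2 : ∃ h ∈ H, (h : ℤ) = d - f := by
      by_contra hcon
      exact h1 ((hd f).2 hcon)
    obtain ⟨h, hh, he⟩ := h2
    by_cases hz : h = 0
    · subst hz
      simp at he
      omega
    · exfalso
      apply hd0
      refine ⟨f + h, hf.2 h hh hz, ?_⟩
      push_cast
      omega
  intro f hf f' hf'
  have := key f hf
  have := key f' hf'
  omega

include h0 hadd hbig h1 in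
theorem isSymmetric_of_PF_subsingleton (hsub : ∀ f ∈ PF H, ∀ f' ∈ PF H, f = f') :
    IsSymmetric H := by
  obtain ⟨F, hF, hgt⟩ := exists_mem_PF hbig h1
  refine ⟨(F : ℤ), ?_⟩
  intro n
  constructor
  · rintro ⟨a, ha, rfl⟩ ⟨b, hb, hbe⟩
    have : a + b = F := by
      have : (a : ℤ) + b = F := by omega
      exact_mod_cast this
    exact hF.1 (this ▸ hadd a ha b hb)
  · intro hcon
    by_contra hn
    apply hcon
    rcases lt_or_ge n 0 with hneg | hpos
    · refine ⟨(F - n).toNat, hgt _ ?_, ?_⟩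
      · omega
      · omega
    · -- `n` is a gap
      have hngap : n.toNat ∉ H := by
        intro hH
        exact hn ⟨n.toNat, hH, Int.toNat_of_nonneg hpos⟩
      obtain ⟨x, ⟨hxH, h, hh, hxe⟩, hmax⟩ := exists_max_gap hbig
        {x | x ∉ H ∧ ∃ h ∈ H, x = n.toNat + h} (fun x hx => hx.1) n.toNat
        ⟨hngap, 0, h0, by simp⟩
      have hxPF : x ∈ PF H := by
        refine ⟨hxH, ?_⟩
        intro h' hh' hh'0
        by_contra hcon2
        have := hmax (x + h') ⟨hcon2, h + h', hadd h hh h' hh', by omega⟩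
        omega
      have hxF : x = F := hsub x hxPF F hF
      refine ⟨h, hh, ?_⟩
      omega

end GorSect

end Groth.Agent.Lib.helper10
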