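import Groth.Agent.Lib.Helper10.FunFld28

/-!
Gorenstein section rings (helper10), part 3: the section ring of a point is a finitely generated
algebra, hence Noetherian.
-/

set_option autoImplicit false
set_option linter.unusedSectionVars false
set_option linter.style.haveILetI false

universe u v w

open IntermediateField FunFld Polynomial

namespace Groth.Agent.Lib.helper10

namespace FF

open RD W4c6gradedringsgw

variable {k : Type u} {K : Type v} [Field k] [Field K] [Algebra k K]

section noeth

variable (hK : IsFunctionField k K) [IsAlgClosed k]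

theorem exists_mono_mem_adjoin (P : Place k K) {u : K} (hu : P.1 u = WithZero.exp (-1 : ℤ))
    (m : ℕ) (hm : m ∈ poleOrders P) (hm0 : m ≠ 0) :
    ∃ (g : K) (hg : g ∈ L (Finsupp.single P (m : ℤ) : Divisor k K)),
      Place.cst hK P (g * u ^ m) = 1 ∧
        mono P m g hg ∈ Algebra.adjoin k (Set.range (gen hK P hu)) := by
  induction m using Nat.strong_induction_on with
  | _ m ih =>
    by_cases hmin : m ∈ minGens (poleOrders P)
    · exact ⟨stdFn hK P hu m, (stdFn_spec hK P hu hm).1, (stdFn_spec hK P hu hm).2,
        Algebra.subset_adjoin ⟨some ⟨m, hmin⟩, rfl⟩⟩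
    · have : ∃ a ∈ poleOrders P, ∃ b ∈ poleOrders P, a ≠ 0 ∧ b ≠ 0 ∧ a + b = m := by
        by_contra hno
        apply hmin
        refine ⟨hm, hm0, ?_⟩
        intro a ha b hb ha0 hb0 hab
        exact hno ⟨a, ha, b, hb, ha0, hb0, hab⟩
      obtain ⟨a, ha, b, hb, ha0, hb0, hab⟩ := this
      subst hab
      obtain ⟨ga, hga, hga1, hgaJ⟩ := ih a (by omega) ha ha0
      obtain ⟨gb, hgb, hgb1, hgbJ⟩ := ih b (by omega) hb hb0
      refine ⟨ga * gb, mul_mem_L_single P a b hga hgb, ?_, ?_⟩
      · have : ga * gb * u ^ (a + b) = (ga * u ^ a) * (gb * u ^ b) := by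
          rw [pow_add]; ring
        rw [this, Place.cst_mul hK P (val_coeff_mul_le P hu hga) (val_coeff_mul_le P hu hgb),
          hga1, hgb1, mul_one]
      · rw [mono_mul P a b ga gb hga hgb]
        exact Subalgebra.mul_mem _ hgaJ hgbJ

theorem mono_mem_adjoin (P : Place k K) {u : K} (hu : P.1 u = WithZero.exp (-1 : ℤ))
    (m : ℕ) (g : K) (hg : g ∈ L (Finsupp.single P (m : ℤ) : Divisor k K)) :
    mono P m g hg ∈ Algebra.adjoin k (Set.range (gen hK P hu)) := by
  induction m using Nat.strong_induction_on generalizing g with
  | _ m ih =>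
    by_cases hm0 : m = 0
    · subst hm0
      have hg' : g ∈ L (0 : Divisor k K) := by
        have := hg
        rwa [Nat.cast_zero, Finsupp.single_zero] at this
      rw [L_zero hK, Submodule.one_eq_range, LinearMap.mem_range] at hg'
      obtain ⟨c, hc⟩ := hg'
      have : mono P 0 g hg = algebraMap k _ c := by
        apply Subtype.ext
        show Polynomial.monomial 0 g = algebraMap k K[X] c
        rw [Polynomial.monomial_zero_left, Polynomial.algebraMap_apply, ← hc,
          Algebra.linearMap_apply]
      rw [this]
      exact Subalgebra.algebraMap_mem _ c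
    · have hlowcase : ∀ (g : K) (hg : g ∈ L (Finsupp.single P (m : ℤ) : Divisor k K)),
          g ∈ L (Finsupp.single P ((m : ℤ) - 1) : Divisor k K) →
          mono P m g hg ∈ Algebra.adjoin k (Set.range (gen hK P hu)) := by
        intro g hg hlow
        obtain ⟨m', rfl⟩ := Nat.exists_eq_succ_of_ne_zero hm0
        have hlow' : g ∈ L (Finsupp.single P (m' : ℤ) : Divisor k K) := by
          have e : ((m' + 1 : ℕ) : ℤ) - 1 = m' := by push_cast; ring
          rwa [e] at hlow
        have h1 : mono P (m' + 1) g hg =
            mono P 1 1 (one_mem_L_single hK P 1) * mono P m' g hlow' := by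
          apply Subtype.ext
          show Polynomial.monomial (m' + 1) g =
            Polynomial.monomial 1 1 * Polynomial.monomial m' g
          rw [Polynomial.monomial_mul_monomial, one_mul, add_comm]
        rw [h1]
        exact Subalgebra.mul_mem _ (Algebra.subset_adjoin ⟨none, rfl⟩)
          (ih m' (by omega) g hlow')
      by_cases hlow : g ∈ L (Finsupp.single P ((m : ℤ) - 1) : Divisor k K)
      · exact hlowcase g hg hlow
      · have hm : m ∈ poleOrders P := by
          rw [mem_poleOrders_iff hK]
          intro hgap
          rw [IsGap] at hgap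
          exact hlow (hgap ▸ hg)
        obtain ⟨g', hg', hg'1, hg'J⟩ := exists_mono_mem_adjoin hK P hu m hm hm0
        set c := Place.cst hK P (g * u ^ m) with hc
        have hg2 : g - algebraMap k K c * g' ∈ L (Finsupp.single P (m : ℤ) : Divisor k K) := by
          rw [← Algebra.smul_def]
          exact sub_mem hg (Submodule.smul_mem _ _ hg')
        have hlow2 : g - algebraMap k K c * g' ∈
            L (Finsupp.single P ((m : ℤ) - 1) : Divisor k K) := by
          rw [← val_coeff_mul_lt_iff P hu hg2,
            ← Place.cst_eq_zero_iff hK P (val_coeff_mul_le P hu hg2)]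
          have e : (g - algebraMap k K c * g') * u ^ m =
              g * u ^ m + algebraMap k K (-c) * (g' * u ^ m) := by
            rw [map_neg]; ring
          have hv' : P.1 (algebraMap k K (-c) * (g' * u ^ m)) ≤ 1 := by
            rw [Valuation.map_mul]
            exact mul_le_one' (P.2.1 _) (val_coeff_mul_le P hu hg')
          rw [e, Place.cst_add hK P (val_coeff_mul_le P hu hg) hv',
            Place.cst_mul hK P (P.2.1 _) (val_coeff_mul_le P hu hg'), Place.cst_algebraMap, hg'1,
            mul_one, ← hc, add_neg_cancel]
        have h1 : mono P m g hg = mono P m _ hg2 + c • mono P m g' hg' := by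
          apply Subtype.ext
          show Polynomial.monomial m g = Polynomial.monomial m (g - algebraMap k K c * g') +
            c • Polynomial.monomial m g'
          rw [Polynomial.smul_monomial, ← map_add, Algebra.smul_def, sub_add_cancel]
        rw [h1]
        exact Subalgebra.add_mem _ (hlowcase _ hg2 hlow2) (Subalgebra.smul_mem _ hg'J c)

theorem adjoin_gen_eq_top (P : Place k K) {u : K} (hu : P.1 u = WithZero.exp (-1 : ℤ)) :
    Algebra.adjoin k (Set.range (gen hK P hu)) = ⊤ := by
  classical
  rw [eq_top_iff]
  intro p _
  have hpm := (mem_sectRing_iff P p.1).1 p.2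
  have hsum : p = ∑ n ∈ p.1.support, mono P n (p.1.coeff n) (hpm n) := by
    apply Subtype.ext
    rw [AddSubmonoidClass.coe_finsetSum]
    exact Polynomial.as_sum_support p.1
  rw [hsum]
  exact Subalgebra.sum_mem _ fun n _ => mono_mem_adjoin hK P hu n _ _

include hK in
theorem finiteType_sectRing (P : Place k K) :
    Algebra.FiniteType k ↥(sectRing (Finsupp.single P 1 : Divisor k K)) := by
  classical
  obtain ⟨u, hu⟩ := P.2.2 (WithZero.exp (-1 : ℤ))
  haveI : Fintype ↥(minGens (poleOrders P)) := (finite_minGens hK P).fintype
  refine ⟨⟨Finset.univ.image (gen hK P hu), ?_⟩⟩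
  rw [Finset.coe_image, Finset.coe_univ, Set.image_univ]
  exact adjoin_gen_eq_top hK P hu

include hK in
theorem isNoetherianRing_sectRing (P : Place k K) :
    IsNoetherianRing ↥(sectRing (Finsupp.single P 1 : Divisor k K)) := by
  haveI := finiteType_sectRing hK P
  exact Algebra.FiniteType.isNoetherianRing k _

end noeth

end FF

end Groth.Agent.Lib.helper10
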