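import Groth.Agent.Lib.Helper10.FunFld29
import Groth.Agent.Lib.Helper10.GorSect3

/-!
Gorenstein section rings (helper10), part 4: the affine ring of functions regular away from a
point; approximation lemmas from Riemann–Roch.
-/

set_option autoImplicit false
set_option linter.unusedSectionVars false
set_option linter.style.haveILetI false

universe u v w

open IntermediateField FunFld Polynomial

namespace Groth.Agent.Lib.helper10

namespace FF

open RD W4c6gradedringsgw

variable {k : Type u} {K : Type v} [Field k] [Field K] [Algebra k K]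

/-- The ring of functions regular away from `P`. -/
def affRing (P : Place k K) : Subring K where
  carrier := {f | ∀ Q : Place k K, Q ≠ P → Q.1 f ≤ 1}
  mul_mem' := by
    intro a b ha hb Q hQ
    rw [map_mul]
    exact mul_le_one' (ha Q hQ) (hb Q hQ)
  one_mem' := by
    intro Q _
    rw [map_one]
  add_mem' := by
    intro a b ha hb Q hQ
    exact (Q.1.map_add a b).trans (max_le (ha Q hQ) (hb Q hQ))
  zero_mem' := by
    intro Q _
    simp
  neg_mem' := by
    intro a ha Q hQ
    rw [Valuation.map_neg]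
    exact ha Q hQ

theorem mem_affRing_iff (P : Place k K) (f : K) :
    f ∈ affRing P ↔ ∀ Q : Place k K, Q ≠ P → Q.1 f ≤ 1 := Iff.rfl

theorem algebraMap_mem_affRing (P : Place k K) (c : k) : algebraMap k K c ∈ affRing P :=
  fun Q _ => Q.2.1 c

theorem mem_affRing_of_mem_L (P : Place k K) (n : ℕ) {f : K}
    (hf : f ∈ L (Finsupp.single P (n : ℤ) : Divisor k K)) : f ∈ affRing P := by
  classical
  intro Q hQ
  have := hf Q
  rwa [Finsupp.single_eq_of_ne hQ, WithZero.exp_zero] at this

theorem exists_mem_L_of_mem_affRing (P : Place k K) {f : K} (hf : f ∈ affRing P) :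
    ∃ n : ℕ, f ∈ L (Finsupp.single P (n : ℤ) : Divisor k K) := by
  classical
  by_cases hf0 : f = 0
  · exact ⟨0, by rw [hf0]; exact zero_mem _⟩
  · refine ⟨(-P.ord f).toNat, ?_⟩
    intro Q
    by_cases hQ : Q = P
    · subst hQ
      rw [Finsupp.single_eq_same, Place.val_eq_exp_neg_ord Q hf0, WithZero.exp_le_exp]
      exact Int.self_le_toNat _
    · rw [Finsupp.single_eq_of_ne hQ, WithZero.exp_zero]
      exact hf Q hQ

section approx

variable (hK : IsFunctionField k K) [IsAlgClosed k]

include hK in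
theorem polesDiv_eq_zero_of_le (Q : Place k K) {z : K} (hz : Q.1 z ≤ 1) : polesDiv k z Q = 0 := by
  rw [polesDiv_apply hK]
  by_cases hz0 : z = 0
  · subst hz0
    have : Q.ord (0 : K) = 0 := by
      unfold Place.ord
      simp
    rw [this]; simp
  · have := (Place.ord_nonneg_iff Q hz0).2 hz
    rw [max_eq_right]
    omega

include hK in
/-- Clearing denominators away from `P` with a multiplier that is a unit at `Q`. -/
theorem exists_mul_mem_affRing (P Q : Place k K) (hQP : Q ≠ P) {z : K} (hz : Q.1 z ≤ 1) :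
    ∃ s ∈ affRing P, Q.1 s = 1 ∧ s * z ∈ affRing P := by
  classical
  set n : ℕ := (2 * (genus k K : ℤ) + (polesDiv k z).deg).toNat with hn
  set D : Divisor k K := Finsupp.single P (n : ℤ) - polesDiv k z with hD
  have hdeg : 2 * (genus k K : ℤ) ≤ D.deg := by
    rw [hD, deg_sub, deg_single, Place.deg_eq_one hK P]
    have := Int.self_le_toNat (2 * (genus k K : ℤ) + (polesDiv k z).deg)
    rw [← hn] at this
    push_cast
    omega
  have hne := L_sub_single_ne_of_deg hK hdeg Q
  have hlt : L (D - Finsupp.single Q 1) < L D := lt_of_le_of_ne (L_sub_single_le D Q) hne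
  obtain ⟨s, hsD, hsn⟩ := SetLike.exists_of_lt hlt
  have hDQ : D Q = 0 := by
    rw [hD, Finsupp.sub_apply, Finsupp.single_eq_of_ne hQP, polesDiv_eq_zero_of_le hK Q hz, sub_zero]
  have hDQ' : ∀ Q' : Place k K, Q' ≠ P → D Q' = - polesDiv k z Q' := by
    intro Q' hQ'
    rw [hD, Finsupp.sub_apply, Finsupp.single_eq_of_ne hQ', zero_sub]
  refine ⟨s, ?_, ?_, ?_⟩
  · intro Q' hQ'
    have h1 := hsD Q'
    rw [hDQ' Q' hQ'] at h1
    refine h1.trans ?_
    rw [← WithZero.exp_zero, WithZero.exp_le_exp]
    have := polesDiv_nonneg (k := k) z Q'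
    simp only [Finsupp.coe_zero, Pi.zero_apply] at this
    omega
  · rw [mem_L_sub_single_iff hsD, hDQ, WithZero.exp_zero, not_lt] at hsn
    have h1 := hsD Q
    rw [hDQ, WithZero.exp_zero] at h1
    exact le_antisymm h1 hsn
  · intro Q' hQ'
    have h1 := hsD Q'
    rw [hDQ' Q' hQ'] at h1
    have h2 := val_le_exp_polesDiv hK z Q'
    rw [map_mul]
    calc Q'.1 s * Q'.1 z ≤ WithZero.exp (-polesDiv k z Q') * WithZero.exp (polesDiv k z Q') :=
          mul_le_mul' h1 h2
      _ = 1 := by rw [← WithZero.exp_add, neg_add_cancel, WithZero.exp_zero]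

include hK in
/-- A uniformizer at `Q` regular away from `P`. -/
theorem exists_unif_affRing (P Q : Place k K) (hQP : Q ≠ P) :
    ∃ t ∈ affRing P, Q.1 t = WithZero.exp (-1 : ℤ) := by
  classical
  set n : ℕ := 2 * genus k K + 1 with hn
  set D : Divisor k K := Finsupp.single P (n : ℤ) - Finsupp.single Q 1 with hD
  have hdeg : 2 * (genus k K : ℤ) ≤ D.deg := by
    rw [hD, deg_sub, deg_single, deg_single, Place.deg_eq_one hK P, Place.deg_eq_one hK Q]
    push_cast
    omega
  have hne := L_sub_single_ne_of_deg hK hdeg Q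
  have hlt : L (D - Finsupp.single Q 1) < L D := lt_of_le_of_ne (L_sub_single_le D Q) hne
  obtain ⟨t, htD, htn⟩ := SetLike.exists_of_lt hlt
  have hDQ : D Q = -1 := by
    rw [hD, Finsupp.sub_apply, Finsupp.single_eq_of_ne hQP, Finsupp.single_eq_same, zero_sub]
  refine ⟨t, ?_, ?_⟩
  · intro Q' hQ'
    have h1 := htD Q'
    rw [hD, Finsupp.sub_apply, Finsupp.single_eq_of_ne hQ', zero_sub] at h1
    refine h1.trans ?_
    rw [← WithZero.exp_zero, WithZero.exp_le_exp]
    by_cases hQQ : Q' = Q
    · subst hQQ; rw [Finsupp.single_eq_same]; omega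
    · rw [Finsupp.single_eq_of_ne hQQ]; omega
  · rw [mem_L_sub_single_iff htD, hDQ, not_lt] at htn
    have h1 := htD Q
    rw [hDQ] at h1
    exact le_antisymm h1 htn

end approx

end FF

end Groth.Agent.Lib.helper10
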