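import Groth.Agent.Lib.Helper10.GorSect4
import Groth.Agent.Lib.Helper17.PrincGor

/-!
Gorenstein section rings (helper10), part 5: the affine ring of functions regular away from a
point is a Gorenstein ring (all its local rings have principal maximal ideal).
-/

set_option autoImplicit false
set_option linter.unusedSectionVars false
set_option linter.style.haveILetI false

universe u v w

open IntermediateField FunFld Polynomial IsLocalRing

namespace Groth.Agent.Lib.helper10

namespace FF

open RD W4c6gradedringsgw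

variable {k : Type u} {K : Type v} [Field k] [Field K] [Algebra k K]

section gor

variable (hK : IsFunctionField k K) [IsAlgClosed k]

include hK in
theorem exists_pole_affRing (P : Place k K) : ∃ f ∈ affRing P, 1 < P.1 f := by
  have h := not_isGap_of_ge hK P (n := 2 * genus k K + 1) (by omega) (by omega)
  rw [not_isGap_iff] at h
  obtain ⟨f, hf, hfv⟩ := h
  refine ⟨f, mem_affRing_of_mem_L P _ hf, ?_⟩
  rw [hfv, ← WithZero.exp_zero, WithZero.exp_lt_exp]
  push_cast
  omega

include hK in
/-- Nonzero primes of the affine ring are the centres of places other than `P`. -/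
theorem exists_place_of_prime (P : Place k K) (q : Ideal ↥(affRing P)) [hq : q.IsPrime]
    (hq0 : q ≠ ⊥) :
    ∃ Q : Place k K, Q ≠ P ∧ ∀ a : ↥(affRing P), a ∈ q ↔ Q.1 (a : K) < 1 := by
  obtain ⟨Q, hQA, hQq⟩ := exists_place_of_ideal hK (affRing P) (algebraMap_mem_affRing P) q
    hq.ne_top hq0
  have hQP : Q ≠ P := by
    rintro rfl
    obtain ⟨f, hf, hfv⟩ := exists_pole_affRing hK Q
    have := hQA f hf
    rw [Place.mem_O_iff] at this
    exact absurd this (not_le.mpr hfv)
  refine ⟨Q, hQP, fun a => ⟨fun ha => hQq a ha, fun ha => ?_⟩⟩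
  obtain ⟨b, hbq, hb0⟩ := Submodule.exists_mem_ne_zero_of_ne_bot hq0
  have hb0' : (b : K) ≠ 0 := fun h => hb0 (Subtype.ext h)
  have hbv : Q.1 (b : K) < 1 := hQq b hbq
  set N : ℕ := (Q.ord (b : K)).toNat with hN
  have hordb : 0 < Q.ord (b : K) := by
    by_contra hcon
    have h1 : Q.ord (b : K) ≤ 0 := not_lt.mp hcon
    rw [Place.val_eq_exp_neg_ord Q hb0', ← WithZero.exp_zero, WithZero.exp_lt_exp] at hbv
    omega
  have hz : Q.1 ((a : K) ^ N / (b : K)) ≤ 1 := by
    rw [map_div₀, map_pow, Place.val_eq_exp_neg_ord Q hb0']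
    have h1 : Q.1 (a : K) ≤ WithZero.exp (-1 : ℤ) := (lt_one_iff_le_exp_neg_one _).mp ha
    have h2 : Q.1 (a : K) ^ N ≤ WithZero.exp (-(N : ℤ)) := by
      calc Q.1 (a : K) ^ N ≤ (WithZero.exp (-1 : ℤ)) ^ N := pow_le_pow_left' h1 N
        _ = WithZero.exp (-(N : ℤ)) := by
          rw [← WithZero.exp_nsmul]; congr 1; simp
    rw [div_le_iff₀ WithZero.exp_pos, one_mul]
    refine h2.trans ?_
    rw [WithZero.exp_le_exp, hN, Int.toNat_of_nonneg hordb.le]
  obtain ⟨s, hsA, hsQ, hszA⟩ := exists_mul_mem_affRing hK P Q hQP hz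
  have hprod : (⟨s, hsA⟩ : ↥(affRing P)) * a ^ N = b * ⟨s * ((a : K) ^ N / (b : K)), hszA⟩ := by
    apply Subtype.ext
    show s * (a : K) ^ N = (b : K) * (s * ((a : K) ^ N / (b : K)))
    field_simp
  have hmem : (⟨s, hsA⟩ : ↥(affRing P)) * a ^ N ∈ q := by
    rw [hprod]
    exact Ideal.mul_mem_right _ _ hbq
  rcases hq.mem_or_mem hmem with h | h
  · have := hQq _ h
    rw [show ((⟨s, hsA⟩ : ↥(affRing P)) : K) = s from rfl, hsQ] at this
    exact absurd this (lt_irrefl _)
  · exact hq.mem_of_pow_mem N h

include hK in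
theorem exists_principal_maximalIdeal (P : Place k K) (q : Ideal ↥(affRing P)) [hq : q.IsPrime] :
    ∃ π : Localization.AtPrime q, maximalIdeal (Localization.AtPrime q) = Ideal.span {π} := by
  by_cases hq0 : q = ⊥
  · refine ⟨0, ?_⟩
    rw [← Localization.AtPrime.map_eq_maximalIdeal]
    have : Ideal.map (algebraMap _ (Localization.AtPrime q)) q = ⊥ := by
      rw [eq_bot_iff, Ideal.map_le_iff_le_comap]
      intro a ha
      rw [hq0, Ideal.mem_bot] at ha
      rw [ha]
      exact zero_mem _
    rw [this]
    exact (Ideal.span_singleton_eq_bot.mpr rfl).symm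
  · obtain ⟨Q, hQP, hQ⟩ := exists_place_of_prime hK P q hq0
    obtain ⟨t, htA, htQ⟩ := exists_unif_affRing hK P Q hQP
    let t' : ↥(affRing P) := ⟨t, htA⟩
    have htq : t' ∈ q := by
      rw [hQ]
      show Q.1 t < 1
      rw [htQ, ← WithZero.exp_zero, WithZero.exp_lt_exp]
      norm_num
    have ht0 : t ≠ 0 := by
      intro h
      rw [h, map_zero] at htQ
      exact WithZero.exp_ne_zero htQ.symm
    refine ⟨algebraMap _ _ t', ?_⟩
    rw [← Localization.AtPrime.map_eq_maximalIdeal]
    apply le_antisymm
    · rw [Ideal.map_le_iff_le_comap]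
      intro a ha
      rw [Ideal.mem_comap, Ideal.mem_span_singleton']
      have hav : Q.1 ((a : K) / t) ≤ 1 := by
        rw [map_div₀, htQ, div_le_iff₀ WithZero.exp_pos, one_mul]
        exact (lt_one_iff_le_exp_neg_one _).mp ((hQ a).1 ha)
      obtain ⟨s, hsA, hsQ, hszA⟩ := exists_mul_mem_affRing hK P Q hQP hav
      have hsq : (⟨s, hsA⟩ : ↥(affRing P)) ∈ q.primeCompl := by
        intro h
        have := (hQ _).1 h
        rw [show ((⟨s, hsA⟩ : ↥(affRing P)) : K) = s from rfl, hsQ] at this
        exact lt_irrefl _ this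
      refine ⟨IsLocalization.mk' _ (⟨s * ((a : K) / t), hszA⟩ : ↥(affRing P)) ⟨_, hsq⟩, ?_⟩
      rw [← IsLocalization.mk'_one (M := q.primeCompl) (Localization.AtPrime q) t',
        ← IsLocalization.mk'_mul, ← IsLocalization.mk'_one (M := q.primeCompl)
          (Localization.AtPrime q) a, IsLocalization.mk'_eq_iff_eq]
      congr 1
      apply Subtype.ext
      show (1 : K) * (s * ((a : K) / t) * t) = (s * 1) * (a : K)
      field_simp
    · rw [Ideal.span_le, Set.singleton_subset_iff]
      exact Ideal.mem_map_of_mem _ htq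

/-- Evaluation at `T = 1` from the section ring to the affine ring. -/
noncomputable def evalOne (P : Place k K) :
    ↥(sectRing (Finsupp.single P 1 : Divisor k K)) →+* ↥(affRing P) :=
  ((Polynomial.evalRingHom (1 : K)).comp
    (sectRing (Finsupp.single P 1 : Divisor k K)).val.toRingHom).codRestrict (affRing P) (by
      intro p
      show Polynomial.eval (1 : K) p.1 ∈ affRing P
      rw [Polynomial.eval_eq_sum_range]
      refine Subring.sum_mem _ fun i _ => ?_
      rw [one_pow, mul_one]
      exact mem_affRing_of_mem_L P i ((mem_sectRing_iff P p.1).1 p.2 i))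

theorem evalOne_surjective (P : Place k K) : Function.Surjective (evalOne P) := by
  intro f
  obtain ⟨n, hn⟩ := exists_mem_L_of_mem_affRing P f.2
  refine ⟨mono P n f.1 hn, ?_⟩
  apply Subtype.ext
  show Polynomial.eval (1 : K) (Polynomial.monomial n (f : K)) = f
  rw [Polynomial.eval_monomial, one_pow, mul_one]

include hK in
theorem isNoetherianRing_affRing (P : Place k K) : IsNoetherianRing ↥(affRing P) := by
  haveI := isNoetherianRing_sectRing hK P
  exact isNoetherianRing_of_surjective _ _ (evalOne P) (evalOne_surjective P)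

include hK in
theorem isGorensteinRing_affRing (P : Place k K) : LocCoh.IsGorensteinRing ↥(affRing P) := by
  haveI := isNoetherianRing_affRing hK P
  refine { isGorensteinLocalRing_localization := ?_ }
  intro q hq
  obtain ⟨π, hπ⟩ := exists_principal_maximalIdeal hK P q
  haveI : IsNoetherianRing (Localization.AtPrime q) :=
    IsLocalization.isNoetherianRing q.primeCompl _ inferInstance
  exact Groth.Agent.Lib.helper17.PrincGor.gor_of_principal_maximalIdeal _ π hπ

end gor

end FF

end Groth.Agent.Lib.helper10
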