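import Groth.Agent.Lib.Helper10.GorSect5
import Groth.Agent.Lib.Helper10.GorSect1
import Groth.Agent.Lib.Helper17.GorRing

/-!
Gorenstein section rings (helper10), part 6: the section ring of a point is Gorenstein at every
prime not containing the degree-one element `T`.
-/

set_option autoImplicit false
set_option linter.unusedSectionVars false
set_option linter.style.haveILetI false

universe u v w

open IntermediateField FunFld Polynomial IsLocalRing

namespace Groth.Agent.Lib.helper10

namespace FF

open RD W4c6gradedringsgw

variable {k : Type u} {K : Type v} [Field k] [Field K] [Algebra k K]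

section gor

variable (hK : IsFunctionField k K) [IsAlgClosed k]

theorem coeffs_subset_affRing (P : Place k K)
    (p : ↥(sectRing (Finsupp.single P 1 : Divisor k K))) :
    ((p.1.coeffs : Finset K) : Set K) ⊆ affRing P := by
  intro c hc
  rw [Finset.mem_coe, Polynomial.mem_coeffs_iff] at hc
  obtain ⟨n, _, rfl⟩ := hc
  exact mem_affRing_of_mem_L P n ((mem_sectRing_iff P p.1).1 p.2 n)

/-- The section ring inside the polynomial ring over the affine ring (function). -/
noncomputable def toAffPolyFun (P : Place k K)
    (p : ↥(sectRing (Finsupp.single P 1 : Divisor k K))) : (↥(affRing P))[X] :=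
  Polynomial.toSubring p.1 (affRing P) (coeffs_subset_affRing P p)

theorem map_toAffPolyFun (P : Place k K) (p : ↥(sectRing (Finsupp.single P 1 : Divisor k K))) :
    (toAffPolyFun P p).map (affRing P).subtype = p.1 :=
  Polynomial.map_toSubring _ _ _

/-- The section ring inside the polynomial ring over the affine ring. -/
noncomputable def toAffPoly (P : Place k K) :
    ↥(sectRing (Finsupp.single P 1 : Divisor k K)) →+* (↥(affRing P))[X] where
  toFun p := toAffPolyFun P p
  map_one' := by
    apply Polynomial.map_injective (affRing P).subtype Subtype.val_injective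
    rw [map_toAffPolyFun, Polynomial.map_one]
    rfl
  map_mul' p q := by
    apply Polynomial.map_injective (affRing P).subtype Subtype.val_injective
    rw [map_toAffPolyFun, Polynomial.map_mul, map_toAffPolyFun, map_toAffPolyFun]
    rfl
  map_zero' := by
    apply Polynomial.map_injective (affRing P).subtype Subtype.val_injective
    rw [map_toAffPolyFun, Polynomial.map_zero]
    rfl
  map_add' p q := by
    apply Polynomial.map_injective (affRing P).subtype Subtype.val_injective
    rw [map_toAffPolyFun, Polynomial.map_add, map_toAffPolyFun, map_toAffPolyFun]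
    rfl

theorem map_toAffPoly (P : Place k K) (p : ↥(sectRing (Finsupp.single P 1 : Divisor k K))) :
    (toAffPoly P p).map (affRing P).subtype = p.1 :=
  map_toAffPolyFun P p

theorem toAffPoly_injective (P : Place k K) : Function.Injective (toAffPoly P) := by
  intro p q h
  apply Subtype.ext
  rw [← map_toAffPoly P p, ← map_toAffPoly P q, h]

/-- The degree-one element `T`. -/
noncomputable def TT (P : Place k K) : ↥(sectRing (Finsupp.single P 1 : Divisor k K)) :=
  ⟨Polynomial.X, by
    classical
    rw [mem_sectRing_iff]
    intro n
    rw [Polynomial.coeff_X]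
    split_ifs with h
    · intro Q
      rw [map_one]
      by_cases hQ : Q = P
      · subst hQ
        rw [Finsupp.single_eq_same, ← WithZero.exp_zero, WithZero.exp_le_exp]
        exact Int.natCast_nonneg n
      · rw [Finsupp.single_eq_of_ne hQ, WithZero.exp_zero]
    · exact zero_mem _⟩

theorem toAffPoly_TT (P : Place k K) : toAffPoly P (TT P) = Polynomial.X := by
  apply Polynomial.map_injective (affRing P).subtype Subtype.val_injective
  rw [map_toAffPoly, Polynomial.map_X]
  rfl

/-- Shifting a polynomial over the affine ring into the section ring. -/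
theorem exists_mul_X_pow_eq (P : Place k K) (b : (↥(affRing P))[X]) :
    ∃ (N : ℕ) (r : ↥(sectRing (Finsupp.single P 1 : Divisor k K))),
      toAffPoly P r = b * Polynomial.X ^ N := by
  classical
  have h : ∀ i : ℕ, ∃ n : ℕ, ((b.coeff i : ↥(affRing P)) : K) ∈
      L (Finsupp.single P (n : ℤ) : Divisor k K) :=
    fun i => exists_mem_L_of_mem_affRing P (b.coeff i).2
  choose n hn using h
  set N : ℕ := b.support.sup n with hN
  have hmem : (b.map (affRing P).subtype) * Polynomial.X ^ N ∈
      sectRing (Finsupp.single P 1 : Divisor k K) := by
    rw [mem_sectRing_iff]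
    intro m
    rw [Polynomial.coeff_mul_X_pow']
    split_ifs with hm
    · rw [Polynomial.coeff_map]
      by_cases hs : m - N ∈ b.support
      · have h1 : n (m - N) ≤ m := (Finset.le_sup hs).trans hm
        refine L_mono ?_ (hn (m - N))
        intro Q
        by_cases hQ : Q = P
        · subst hQ
          rw [Finsupp.single_eq_same, Finsupp.single_eq_same]
          exact_mod_cast h1
        · rw [Finsupp.single_eq_of_ne hQ, Finsupp.single_eq_of_ne hQ]
      · rw [Polynomial.notMem_support_iff.mp hs]
        exact zero_mem _
    · exact zero_mem _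
  refine ⟨N, ⟨_, hmem⟩, ?_⟩
  apply Polynomial.map_injective (affRing P).subtype Subtype.val_injective
  rw [map_toAffPoly, Polynomial.map_mul, Polynomial.map_pow, Polynomial.map_X]

include hK in
/-- The section ring is Gorenstein at every prime not containing `T`. -/
theorem gorLocal_of_TT_notMem (P : Place k K)
    (p : Ideal ↥(sectRing (Finsupp.single P 1 : Divisor k K))) [hp : p.IsPrime]
    (hT : TT P ∉ p) : LocCoh.IsGorensteinLocalRing (Localization.AtPrime p) := by
  haveI := isGorensteinRing_affRing hK P
  haveI : LocCoh.IsGorensteinRing (↥(affRing P))[X] :=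
    Groth.Agent.Lib.helper17.GorRing.isGorensteinRing_polynomial _
  let C := Localization.Away (Polynomial.X : (↥(affRing P))[X])
  haveI : LocCoh.IsGorensteinRing C :=
    Groth.Agent.Lib.helper17.GorRing.isGorensteinRing_of_isLocalization
      (Submonoid.powers (Polynomial.X : (↥(affRing P))[X]))
  letI : Algebra ↥(sectRing (Finsupp.single P 1 : Divisor k K)) C :=
    ((algebraMap (↥(affRing P))[X] C).comp (toAffPoly P)).toAlgebra
  have halg : ∀ r, algebraMap ↥(sectRing (Finsupp.single P 1 : Divisor k K)) C r =
      algebraMap (↥(affRing P))[X] C (toAffPoly P r) := fun r => rfl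
  have hinj : Function.Injective (algebraMap (↥(affRing P))[X] C) := by
    apply IsLocalization.injective C (M := Submonoid.powers (Polynomial.X : (↥(affRing P))[X]))
    exact powers_le_nonZeroDivisors_of_noZeroDivisors Polynomial.X_ne_zero
  haveI : IsLocalization (Submonoid.powers (TT P)) C := by
    refine { map_units := ?_, surj := ?_, exists_of_eq := ?_ }
    · rintro ⟨_, n, rfl⟩
      rw [halg, map_pow, toAffPoly_TT, map_pow]
      exact (IsLocalization.Away.algebraMap_isUnit (Polynomial.X : (↥(affRing P))[X])).pow n
    · intro z
      obtain ⟨b, ⟨_, m, rfl⟩, rfl⟩ := IsLocalization.exists_mk'_eq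
        (Submonoid.powers (Polynomial.X : (↥(affRing P))[X])) z
      obtain ⟨N, r, hr⟩ := exists_mul_X_pow_eq P b
      refine ⟨⟨r, ⟨TT P ^ (m + N), m + N, rfl⟩⟩, ?_⟩
      show _ * algebraMap _ C (TT P ^ (m + N)) = algebraMap _ C r
      rw [halg, halg, map_pow, toAffPoly_TT, hr, pow_add, map_mul, map_mul, ← mul_assoc]
      congr 1
      rw [IsLocalization.mk'_spec]
    · intro r1 r2 h
      rw [halg, halg] at h
      exact ⟨1, by rw [toAffPoly_injective P (hinj h)]⟩
  exact GorSect.gorLocal_of_isLocalization (C := C) (Submonoid.powers (TT P)) p
    ((Ideal.disjoint_powers_iff_notMem_of_isPrime (TT P)).mpr hT)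

end gor

end FF

end Groth.Agent.Lib.helper10
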