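import Mathlib
import Groth.Agent.Lib.Helper10.GorSect1
import Groth.Agent.Lib.Helper10.GorSect2
import Groth.Agent.Lib.Helper17.PrincGor
import Groth.Agent.Lib.Helper17.GorRing

/-!
Gorenstein section rings (helper10), part 7: numerical semigroup rings `k[H] ⊆ k[X]`:
monomial ideals, the irrelevant maximal ideal, localization away from `X^c`.
-/

set_option autoImplicit false
set_option linter.unusedSectionVars false
set_option linter.style.haveILetI false

universe u

open Polynomial IsLocalRing

namespace Groth.Agent.Lib.helper10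

namespace GorSect

/-- Numerical semigroup data. -/
structure IsNumSg (H : Set ℕ) (N : ℕ) : Prop where
  zero_mem : 0 ∈ H
  add_mem : ∀ a ∈ H, ∀ b ∈ H, a + b ∈ H
  big : ∀ n, N ≤ n → n ∈ H
  one_notMem : 1 ∉ H

variable (k : Type u) [Field k] {H : Set ℕ} {N : ℕ} (hH : IsNumSg H N)

/-- The semigroup algebra `k[H] ⊆ k[X]`. -/
def sgAlg : Subalgebra k k[X] where
  carrier := {p | ∀ n, p.coeff n ≠ 0 → n ∈ H}
  mul_mem' := by
    intro p q hp hq n hn
    rw [Polynomial.coeff_mul] at hn
    obtain ⟨⟨i, j⟩, hij, hne⟩ := Finset.exists_ne_zero_of_sum_ne_zero hn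
    have hij' : i + j = n := Finset.HasAntidiagonal.mem_antidiagonal.mp hij
    have hi : p.coeff i ≠ 0 := left_ne_zero_of_mul hne
    have hj : q.coeff j ≠ 0 := right_ne_zero_of_mul hne
    rw [← hij']
    exact hH.add_mem i (hp i hi) j (hq j hj)
  add_mem' := by
    intro p q hp hq n hn
    rw [Polynomial.coeff_add] at hn
    by_cases h : p.coeff n = 0
    · rw [h, zero_add] at hn
      exact hq n hn
    · exact hp n h
  algebraMap_mem' := by
    intro c n hn
    rw [Polynomial.algebraMap_apply, Algebra.algebraMap_self_apply, Polynomial.coeff_C] at hn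
    split_ifs at hn with h
    · rw [h]; exact hH.zero_mem
    · exact absurd rfl hn

theorem mem_sgAlg_iff (p : k[X]) : p ∈ sgAlg k hH ↔ ∀ n, p.coeff n ≠ 0 → n ∈ H := Iff.rfl

/-- The semigroup ring as a type of its own (a wrapper fixing the instance path). -/
def SG : Type u := ↥(sgAlg k hH)

noncomputable instance : CommRing (SG k hH) := inferInstanceAs (CommRing ↥(sgAlg k hH))

noncomputable instance : Algebra k (SG k hH) := inferInstanceAs (Algebra k ↥(sgAlg k hH))

instance : IsDomain (SG k hH) := inferInstanceAs (IsDomain ↥(sgAlg k hH))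

/-- The inclusion into the polynomial ring. -/
noncomputable def valHom : SG k hH →ₐ[k] k[X] := (sgAlg k hH).val

theorem valHom_apply (p : SG k hH) : valHom k hH p = p.1 := rfl

theorem valHom_injective : Function.Injective (valHom k hH) := Subtype.val_injective

theorem valHom_mem (p : SG k hH) : valHom k hH p ∈ sgAlg k hH := p.2

/-- Constructor. -/
def SG.mk (p : k[X]) (hp : p ∈ sgAlg k hH) : SG k hH := ⟨p, hp⟩

theorem valHom_mk (p : k[X]) (hp : p ∈ sgAlg k hH) : valHom k hH (SG.mk k hH p hp) = p := rfl

/-- Monomials of the semigroup algebra (zero for exponents outside `H`). -/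
noncomputable def xmon (n : ℕ) : SG k hH := by
  classical
  exact if h : n ∈ H then SG.mk k hH (X ^ n) (by
    intro m hm
    rw [Polynomial.coeff_X_pow] at hm
    split_ifs at hm with h'
    · rw [h']; exact h
    · exact absurd rfl hm) else 0

theorem xmon_val {n : ℕ} (hn : n ∈ H) : valHom k hH (xmon k hH n) = X ^ n := by
  unfold xmon
  rw [dif_pos hn]
  rfl

theorem xmon_add {a b : ℕ} (ha : a ∈ H) (hb : b ∈ H) :
    xmon k hH (a + b) = xmon k hH a * xmon k hH b := by
  apply valHom_injective k hH
  rw [map_mul, xmon_val k hH (hH.add_mem a ha b hb), xmon_val k hH ha, xmon_val k hH hb, pow_add]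

theorem xmon_ne_zero {n : ℕ} (hn : n ∈ H) : xmon k hH n ≠ 0 := by
  intro h
  have := congrArg (valHom k hH) h
  rw [xmon_val k hH hn, map_zero] at this
  exact pow_ne_zero n Polynomial.X_ne_zero this

theorem eq_sum_xmon (p : SG k hH) :
    p = ∑ n ∈ (valHom k hH p).support, (valHom k hH p).coeff n • xmon k hH n := by
  apply valHom_injective k hH
  rw [map_sum]
  conv_lhs => rw [Polynomial.as_sum_support_C_mul_X_pow (valHom k hH p)]
  refine Finset.sum_congr rfl fun n hn => ?_
  have hnH : n ∈ H := valHom_mem k hH p n (Polynomial.mem_support_iff.mp hn)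
  rw [map_smul, xmon_val k hH hnH, Polynomial.smul_eq_C_mul]

/-- Membership in the monomial ideal generated by `X^c`. -/
theorem mem_span_xmon_iff {c : ℕ} (hc : c ∈ H) (p : SG k hH) :
    p ∈ Ideal.span {xmon k hH c} ↔
      ∀ n, (valHom k hH p).coeff n ≠ 0 → c ≤ n ∧ n - c ∈ H := by
  classical
  rw [Ideal.mem_span_singleton']
  constructor
  · rintro ⟨s, rfl⟩ n hn
    rw [map_mul, xmon_val k hH hc, Polynomial.coeff_mul_X_pow'] at hn
    split_ifs at hn with h
    · exact ⟨h, valHom_mem k hH s _ hn⟩
    · exact absurd rfl hn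
  · intro h
    let s0 : k[X] := ∑ n ∈ (valHom k hH p).support,
      Polynomial.monomial (n - c) ((valHom k hH p).coeff n)
    have hs0 : s0 ∈ sgAlg k hH := by
      refine Subalgebra.sum_mem _ fun n hn => ?_
      intro m hm
      rw [Polynomial.coeff_monomial] at hm
      split_ifs at hm with h'
      · rw [← h']
        exact (h n (Polynomial.mem_support_iff.mp hn)).2
      · exact absurd rfl hm
    refine ⟨SG.mk k hH s0 hs0, ?_⟩
    apply valHom_injective k hH
    rw [map_mul, valHom_mk, xmon_val k hH hc, Finset.sum_mul]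
    conv_rhs => rw [Polynomial.as_sum_support (valHom k hH p)]
    refine Finset.sum_congr rfl fun n hn => ?_
    have h1 := (h n (Polynomial.mem_support_iff.mp hn)).1
    rw [← Polynomial.monomial_one_right_eq_X_pow, Polynomial.monomial_mul_monomial, mul_one,
      Nat.sub_add_cancel h1]

/-- The irrelevant maximal ideal of the semigroup algebra. -/
noncomputable def mIdeal : Ideal (SG k hH) :=
  RingHom.ker (Polynomial.constantCoeff.comp (valHom k hH).toRingHom)

theorem mem_mIdeal_iff (p : SG k hH) : p ∈ mIdeal k hH ↔ (valHom k hH p).coeff 0 = 0 := by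
  unfold mIdeal
  rw [RingHom.mem_ker]
  rfl

instance mIdeal_isMaximal : (mIdeal k hH).IsMaximal := by
  unfold mIdeal
  apply RingHom.ker_isMaximal_of_surjective
  intro c
  refine ⟨algebraMap k _ c, ?_⟩
  show Polynomial.constantCoeff (valHom k hH (algebraMap k _ c)) = c
  rw [AlgHom.commutes, Polynomial.algebraMap_apply, Algebra.algebraMap_self_apply,
    Polynomial.constantCoeff_apply, Polynomial.coeff_C_zero]

theorem xmon_mem_mIdeal {n : ℕ} (hn : n ≠ 0) : xmon k hH n ∈ mIdeal k hH := by
  rw [mem_mIdeal_iff]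
  by_cases h : n ∈ H
  · rw [xmon_val k hH h, Polynomial.coeff_X_pow, if_neg (Ne.symm hn)]
  · unfold xmon
    rw [dif_neg h, map_zero, Polynomial.coeff_zero]

/-- A prime containing a positive monomial is the irrelevant ideal. -/
theorem eq_mIdeal_of_xmon_mem {c : ℕ} (hc : c ∈ H) (q : Ideal (SG k hH))
    [hq : q.IsPrime] (hx : xmon k hH c ∈ q) : q = mIdeal k hH := by
  symm
  apply (mIdeal_isMaximal k hH).eq_of_le hq.ne_top
  intro p hp
  rw [mem_mIdeal_iff] at hp
  rw [eq_sum_xmon k hH p]
  refine Ideal.sum_mem _ fun n hn => ?_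
  have hnH : n ∈ H := valHom_mem k hH p n (Polynomial.mem_support_iff.mp hn)
  have hn0 : n ≠ 0 := by
    rintro rfl
    exact (Polynomial.mem_support_iff.mp hn) hp
  apply Submodule.smul_of_tower_mem
  have hpow : xmon k hH n ^ c = xmon k hH c ^ n := by
    apply valHom_injective k hH
    rw [map_pow, map_pow, xmon_val k hH hnH, xmon_val k hH hc, ← pow_mul, ← pow_mul, mul_comm]
  have : xmon k hH n ^ c ∈ q := by
    rw [hpow]
    exact Ideal.pow_mem_of_mem q hx n (Nat.pos_of_ne_zero hn0)
  exact hq.mem_of_pow_mem c this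

end GorSect

end Groth.Agent.Lib.helper10
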