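import Groth.Agent.Lib.Helper10.GorSect7

/-!
Gorenstein section rings (helper10), part 8: a numerical semigroup ring is Gorenstein at all primes
other than the irrelevant ideal; the Artinian quotient by a monomial.
-/

set_option autoImplicit false
set_option linter.unusedSectionVars false
set_option linter.style.haveILetI false

universe u

open Polynomial IsLocalRing

namespace Groth.Agent.Lib.helper10

namespace GorSect

variable (k : Type u) [Field k] {H : Set ℕ} {N : ℕ} (hH : IsNumSg H N)

/-- The semigroup ring is Gorenstein at every prime not containing a positive monomial. -/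
theorem gorLocal_of_xmon_notMem {c : ℕ} (hc : c ∈ H) (hc0 : c ≠ 0)
    (q : Ideal (SG k hH)) [hq : q.IsPrime] (hx : xmon k hH c ∉ q) :
    LocCoh.IsGorensteinLocalRing (Localization.AtPrime q) := by
  haveI : LocCoh.IsGorensteinRing k[X] :=
    Groth.Agent.Lib.helper17.PrincGor.isGorensteinRing_of_isPrincipalIdealRing _
  let C := Localization.Away (Polynomial.X : k[X])
  haveI : LocCoh.IsGorensteinRing C :=
    Groth.Agent.Lib.helper17.GorRing.isGorensteinRing_of_isLocalization
      (Submonoid.powers (Polynomial.X : k[X]))
  letI : Algebra (SG k hH) C :=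
    ((algebraMap k[X] C).comp (valHom k hH).toRingHom).toAlgebra
  have halg : ∀ r : SG k hH, algebraMap (SG k hH) C r = algebraMap k[X] C (valHom k hH r) :=
    fun r => rfl
  have hinj : Function.Injective (algebraMap k[X] C) := by
    apply IsLocalization.injective C (M := Submonoid.powers (Polynomial.X : k[X]))
    exact powers_le_nonZeroDivisors_of_noZeroDivisors Polynomial.X_ne_zero
  haveI : IsLocalization (Submonoid.powers (xmon k hH c)) C := by
    refine { map_units := ?_, surj := ?_, exists_of_eq := ?_ }
    · rintro ⟨_, n, rfl⟩
      rw [halg, map_pow, xmon_val k hH hc, map_pow, map_pow]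
      exact ((IsLocalization.Away.algebraMap_isUnit (Polynomial.X : k[X])).pow c).pow n
    · intro z
      obtain ⟨b, ⟨_, m, rfl⟩, rfl⟩ := IsLocalization.exists_mk'_eq
        (Submonoid.powers (Polynomial.X : k[X])) z
      have hc1 : 1 ≤ c := Nat.pos_of_ne_zero hc0
      have hN' : m + N ≤ c * (m + N) := Nat.le_mul_of_pos_left _ hc1
      have hmem : b * X ^ (c * (m + N) - m) ∈ sgAlg k hH := by
        intro n hn
        rw [Polynomial.coeff_mul_X_pow'] at hn
        split_ifs at hn with h
        · exact hH.big n (by omega)
        · exact absurd rfl hn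
      let r : SG k hH := SG.mk k hH _ hmem
      refine ⟨⟨r, ⟨xmon k hH c ^ (m + N), m + N, rfl⟩⟩, ?_⟩
      show _ * algebraMap (SG k hH) C (xmon k hH c ^ (m + N)) = algebraMap (SG k hH) C r
      rw [halg, halg, map_pow, xmon_val k hH hc, valHom_mk, ← pow_mul]
      have : c * (m + N) = m + (c * (m + N) - m) := by omega
      conv_lhs => rw [this, pow_add, map_mul, ← mul_assoc]
      rw [map_mul]
      congr 1
      rw [IsLocalization.mk'_spec]
    · intro r1 r2 h
      rw [halg, halg] at h
      exact ⟨1, by rw [valHom_injective k hH (hinj h)]⟩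
  exact gorLocal_of_isLocalization (C := C) (Submonoid.powers (xmon k hH c)) q
    ((Ideal.disjoint_powers_iff_notMem_of_isPrime (xmon k hH c)).mpr hx)

end GorSect

end Groth.Agent.Lib.helper10
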