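import Groth.Agent.Lib.Helper10.GorSect8
import Groth.Agent.Lib.Helper17.ArtGor
import Groth.Agent.Lib.Helper17.SocleFlat

/-!
Gorenstein section rings (helper10), part 9: the Artinian quotient `k[H]/(X^c)` of a numerical
semigroup ring: it is local Artinian, and its socle is simple iff `H` has a unique
pseudo-Frobenius number.
-/

set_option autoImplicit false
set_option linter.unusedSectionVars false
set_option linter.style.haveILetI false

universe u

open Polynomial IsLocalRing

namespace Groth.Agent.Lib.helper10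

namespace GorSect

variable (k : Type u) [Field k] {H : Set ℕ} {N : ℕ} (hH : IsNumSg H N)

theorem gorLocal_congr {A : Type u} [CommRing A] {p p' : Ideal A} [hp : p.IsPrime]
    [hp' : p'.IsPrime] (h : p = p') :
    LocCoh.IsGorensteinLocalRing (Localization.AtPrime p) ↔
      LocCoh.IsGorensteinLocalRing (Localization.AtPrime p') := by
  subst h
  exact Iff.rfl

variable {c : ℕ} (hc : c ∈ H) (hc0 : c ≠ 0)

/-- The Artinian quotient. -/
abbrev BQ (c : ℕ) : Type u := (SG k hH) ⧸ Ideal.span {xmon k hH c}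

include hc0 in
theorem span_xmon_le_mIdeal : Ideal.span {xmon k hH c} ≤ mIdeal k hH := by
  rw [Ideal.span_le, Set.singleton_subset_iff]
  exact xmon_mem_mIdeal k hH hc0

include hc hc0 in
theorem unique_max_BQ : ∀ M : Ideal (BQ k hH c), M.IsMaximal →
    M = (mIdeal k hH).map (Ideal.Quotient.mk (Ideal.span {xmon k hH c})) := by
  intro M hM
  haveI : M.IsPrime := hM.isPrime
  have hq : (M.comap (Ideal.Quotient.mk (Ideal.span {xmon k hH c}))).IsPrime :=
    Ideal.comap_isPrime _ M
  have hx : xmon k hH c ∈ M.comap (Ideal.Quotient.mk (Ideal.span {xmon k hH c})) := by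
    rw [Ideal.mem_comap]
    have : Ideal.Quotient.mk (Ideal.span {xmon k hH c}) (xmon k hH c) = 0 :=
      Ideal.Quotient.eq_zero_iff_mem.mpr (Ideal.mem_span_singleton_self _)
    rw [this]
    exact zero_mem _
  have := eq_mIdeal_of_xmon_mem k hH hc _ hx
  rw [← this, Ideal.map_comap_of_surjective _ Ideal.Quotient.mk_surjective]

include hc0 in
theorem isMaximal_map_mIdeal :
    ((mIdeal k hH).map (Ideal.Quotient.mk (Ideal.span {xmon k hH c}))).IsMaximal := by
  apply Ideal.IsMaximal.map_of_surjective_of_ker_le Ideal.Quotient.mk_surjective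
  rw [Ideal.mk_ker]
  exact span_xmon_le_mIdeal k hH hc0

include hc hc0 in
theorem isLocalRing_BQ : IsLocalRing (BQ k hH c) := by
  exact IsLocalRing.of_unique_max_ideal
    ⟨_, isMaximal_map_mIdeal k hH hc0, fun M hM => unique_max_BQ k hH hc hc0 M hM⟩

include hc hc0 in
theorem maximalIdeal_BQ [IsLocalRing (BQ k hH c)] :
    maximalIdeal (BQ k hH c) =
      (mIdeal k hH).map (Ideal.Quotient.mk (Ideal.span {xmon k hH c})) :=
  unique_max_BQ k hH hc hc0 _ (IsLocalRing.maximalIdeal.isMaximal _)

include hc hc0 in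
theorem comap_maximalIdeal_BQ [IsLocalRing (BQ k hH c)] :
    (maximalIdeal (BQ k hH c)).comap (Ideal.Quotient.mk (Ideal.span {xmon k hH c})) =
      mIdeal k hH := by
  rw [maximalIdeal_BQ k hH hc hc0, Ideal.comap_map_of_surjective _ Ideal.Quotient.mk_surjective,
    ← RingHom.ker_eq_comap_bot, Ideal.mk_ker, sup_of_le_left (span_xmon_le_mIdeal k hH hc0)]

include hc in
theorem mk_xmon_eq_zero_of_ge {n : ℕ} (hn : c + N ≤ n) :
    Ideal.Quotient.mk (Ideal.span {xmon k hH c}) (xmon k hH n) = 0 := by
  rw [Ideal.Quotient.eq_zero_iff_mem, mem_span_xmon_iff k hH hc]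
  intro m hm
  have hnH : n ∈ H := hH.big n (by omega)
  rw [xmon_val k hH hnH, Polynomial.coeff_X_pow] at hm
  split_ifs at hm with h
  · subst h
    exact ⟨by omega, hH.big _ (by omega)⟩
  · exact absurd rfl hm

include hc in
theorem finite_BQ : Module.Finite k (BQ k hH c) := by
  classical
  refine ⟨⟨(Finset.range (c + N)).image
    (fun n => Ideal.Quotient.mk (Ideal.span {xmon k hH c}) (xmon k hH n)), ?_⟩⟩
  rw [eq_top_iff]
  rintro b -
  obtain ⟨p, rfl⟩ := Ideal.Quotient.mk_surjective b
  rw [eq_sum_xmon k hH p, map_sum]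
  refine Submodule.sum_mem _ fun n _ => ?_
  have : Ideal.Quotient.mk (Ideal.span {xmon k hH c})
        ((valHom k hH p).coeff n • xmon k hH n) =
      (valHom k hH p).coeff n •
        Ideal.Quotient.mk (Ideal.span {xmon k hH c}) (xmon k hH n) := rfl
  rw [this]
  apply Submodule.smul_mem
  by_cases hn : n < c + N
  · apply Submodule.subset_span
    rw [Finset.coe_image]
    exact ⟨n, by simpa using hn, rfl⟩
  · rw [mk_xmon_eq_zero_of_ge k hH hc (not_lt.mp hn)]
    exact zero_mem _

include hc in
theorem isArtinianRing_BQ : IsArtinianRing (BQ k hH c) := by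
  haveI := finite_BQ k hH hc
  exact IsArtinianRing.of_finite k _

include hc hc0 in
/-- The semigroup ring is Gorenstein at the irrelevant ideal iff the Artinian quotient is. -/
theorem gorLocal_mIdeal_iff [IsNoetherianRing (SG k hH)] [IsLocalRing (BQ k hH c)] :
    LocCoh.IsGorensteinLocalRing (Localization.AtPrime (mIdeal k hH)) ↔
      LocCoh.IsGorensteinLocalRing (BQ k hH c) := by
  have hx0 : xmon k hH c ≠ 0 := xmon_ne_zero k hH hc
  have h1 := gorLocal_quot_iff (Ideal.Quotient.mk (Ideal.span {xmon k hH c}))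
    Ideal.Quotient.mk_surjective (xmon k hH c) hx0 Ideal.mk_ker (maximalIdeal (BQ k hH c))
  haveI : ((maximalIdeal (BQ k hH c)).comap
      (Ideal.Quotient.mk (Ideal.span {xmon k hH c}))).IsPrime := Ideal.comap_isPrime _ _
  rw [← gorLocal_congr (comap_maximalIdeal_BQ k hH hc hc0), h1]
  have hunits : (maximalIdeal (BQ k hH c)).primeCompl ≤ IsUnit.submonoid (BQ k hH c) := by
    intro b hb
    exact IsLocalRing.notMem_maximalIdeal.mp hb
  have e : BQ k hH c ≃ₐ[BQ k hH c] Localization.AtPrime (maximalIdeal (BQ k hH c)) :=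
    IsLocalization.atUnits _ _ hunits
  exact (Groth.Agent.Lib.helper17.GorIso.isGorensteinLocalRing_iff_of_ringEquiv
    e.toRingEquiv).symm

end GorSect

end Groth.Agent.Lib.helper10
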