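import Mathlib

/-!
# Graded freeness criterion (helper10)

`R` a commutative `ℤ`-graded ring with no negative part whose nonzero degree-zero elements are
units, `𝔪 = irrel` the ideal of elements with zero degree-zero component, `M` a finitely generated
graded `R`-module.  If `M ⊗ 𝔪 → M ⊗ R` is injective (i.e. `Tor₁(M, R/𝔪) = 0`), then `M` has a basis
of homogeneous elements.
-/

set_option autoImplicit false
set_option linter.unusedSectionVars false
set_option linter.unusedVariables false
set_option linter.style.haveILetI false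

universe u v

namespace Groth.Agent.Lib.helper10.GrFree

open DirectSum TensorProduct

section Proj

variable {ι : Type*} [DecidableEq ι] {M : Type*} [AddCommMonoid M] {τ : Type*} [SetLike τ M]
  [AddSubmonoidClass τ M] (ℳ : ι → τ) [Decomposition ℳ]

/-- projection onto the degree `e` component, as an additive map -/
def projM (e : ι) : M →+ M :=
  (AddSubmonoidClass.subtype (ℳ e)).comp
    ((DFinsupp.evalAddMonoidHom e).comp (decomposeAddEquiv ℳ).toAddMonoidHom)

theorem projM_apply (e : ι) (x : M) : projM ℳ e x = (decompose ℳ x e : M) := rfl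

theorem projM_of_mem_same {e : ι} {x : M} (hx : x ∈ ℳ e) : projM ℳ e x = x := by
  rw [projM_apply, decompose_of_mem_same ℳ hx]

theorem projM_of_mem_ne {e e' : ι} {x : M} (hx : x ∈ ℳ e') (h : e' ≠ e) : projM ℳ e x = 0 := by
  rw [projM_apply, decompose_of_mem_ne ℳ hx h]

end Proj

section Smul

variable {R : Type*} [CommRing R] {σ : Type*} [SetLike σ R] [AddSubmonoidClass σ R]
  (𝒜 : ℤ → σ) [GradedRing 𝒜]
  {M : Type*} [AddCommGroup M] [Module R M] {τ : Type*} [SetLike τ M] [AddSubmonoidClass τ M]
  (ℳ : ℤ → τ) [Decomposition ℳ] [SetLike.GradedSMul 𝒜 ℳ]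

theorem projM_smul_of_mem (r : R) {m : M} {j : ℤ} (hm : m ∈ ℳ j) (e : ℤ) :
    projM ℳ e (r • m) = (decompose 𝒜 r (e - j) : R) • m := by
  classical
  conv_lhs => rw [← sum_support_decompose 𝒜 r, Finset.sum_smul, map_sum]
  have hterm : ∀ s ∈ (decompose 𝒜 r).support, projM ℳ e ((decompose 𝒜 r s : R) • m) =
      if s = e - j then (decompose 𝒜 r s : R) • m else 0 := by
    intro s _
    have hmem : (decompose 𝒜 r s : R) • m ∈ ℳ (s + j) :=
      SetLike.GradedSMul.smul_mem (decompose 𝒜 r s).2 hm
    split_ifs with h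
    · have h' : s + j = e := by omega
      rw [h'] at hmem
      exact projM_of_mem_same ℳ hmem
    · exact projM_of_mem_ne ℳ hmem (by intro h'; apply h; omega)
  rw [Finset.sum_congr rfl hterm, Finset.sum_ite_eq']
  split_ifs with h
  · rfl
  · rw [DFinsupp.notMem_support_iff.mp h]
    simp

theorem sum_proj_smul_eq_zero {ι : Type*} (T : Finset ι) (c : ι → R) (m : ι → M) (d : ι → ℤ)
    (hm : ∀ i ∈ T, m i ∈ ℳ (d i)) (h : ∑ i ∈ T, c i • m i = 0) (e : ℤ) :
    ∑ i ∈ T, (decompose 𝒜 (c i) (e - d i) : R) • m i = 0 := by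
  have h1 := congrArg (projM ℳ e) h
  rw [map_sum, map_zero] at h1
  rw [← h1]
  exact Finset.sum_congr rfl fun i hi => (projM_smul_of_mem 𝒜 ℳ (c i) (hm i hi) e).symm

end Smul

section Irrel

variable {R : Type*} [CommRing R] {σ : Type*} [SetLike σ R] [AddSubmonoidClass σ R]
  (𝒜 : ℤ → σ) [GradedRing 𝒜]

/-- the ideal of elements with vanishing degree-zero component (the irrelevant ideal when the
negative part of the grading vanishes). -/
def irrel (hneg : ∀ i : ℤ, i < 0 → ∀ x ∈ 𝒜 i, x = 0) : Ideal R where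
  carrier := {x | (decompose 𝒜 x 0 : R) = 0}
  add_mem' := by
    intro a b ha hb
    simp only [Set.mem_ofPred_eq] at ha hb ⊢
    rw [decompose_add, DirectSum.add_apply, AddMemClass.coe_add, ha, hb, add_zero]
  zero_mem' := by
    simp only [Set.mem_ofPred_eq]
    rw [decompose_zero, DirectSum.zero_apply, ZeroMemClass.coe_zero]
  smul_mem' := by
    classical
    intro c x hx
    simp only [Set.mem_ofPred_eq] at hx ⊢
    rw [← projM_apply, ← sum_support_decompose 𝒜 x, Finset.smul_sum, map_sum]
    apply Finset.sum_eq_zero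
    intro s _
    rw [projM_smul_of_mem 𝒜 𝒜 c (decompose 𝒜 x s).2 0]
    rcases lt_trichotomy s 0 with hs | hs | hs
    · rw [hneg s hs _ (decompose 𝒜 x s).2, smul_zero]
    · subst hs
      rw [hx, smul_zero]
    · rw [hneg (0 - s) (by omega) _ (decompose 𝒜 c (0 - s)).2, zero_smul]

theorem mem_irrel (hneg : ∀ i : ℤ, i < 0 → ∀ x ∈ 𝒜 i, x = 0) (x : R) :
    x ∈ irrel 𝒜 hneg ↔ (decompose 𝒜 x 0 : R) = 0 := Iff.rfl

end Irrel

section Main

variable {R : Type u} [CommRing R] {σ : Type*} [SetLike σ R] [AddSubmonoidClass σ R]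
  (𝒜 : ℤ → σ) [GradedRing 𝒜]
  {M : Type v} [AddCommGroup M] [Module R M] {τ : Type*} [SetLike τ M] [AddSubmonoidClass τ M]
  (ℳ : ℤ → τ) [Decomposition ℳ] [SetLike.GradedSMul 𝒜 ℳ]

/-- a finitely generated graded module has a finite generating set of homogeneous elements -/
theorem exists_homogeneous_generators [Module.Finite R M] :
    ∃ H : Finset M, (∀ x ∈ H, SetLike.IsHomogeneousElem ℳ x) ∧
      Submodule.span R (H : Set M) = ⊤ := by
  classical
  obtain ⟨G, hG⟩ := (Module.finite_def.mp (inferInstance : Module.Finite R M))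
  refine ⟨G.biUnion (fun g => (decompose ℳ g).support.image (fun i => (decompose ℳ g i : M))),
    ?_, ?_⟩
  · intro x hx
    obtain ⟨g, _, hx⟩ := Finset.mem_biUnion.mp hx
    obtain ⟨i, _, rfl⟩ := Finset.mem_image.mp hx
    exact ⟨i, (decompose ℳ g i).2⟩
  · rw [eq_top_iff, ← hG, Submodule.span_le]
    intro g hg
    rw [← sum_support_decompose ℳ g]
    refine Submodule.sum_mem _ fun i hi => Submodule.subset_span ?_
    rw [Finset.mem_coe, Finset.mem_biUnion]
    exact ⟨g, hg, Finset.mem_image.mpr ⟨i, hi, rfl⟩⟩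

/-- **Graded freeness criterion.** -/
theorem exists_homogeneous_basis [Module.Finite R M]
    (hneg : ∀ i : ℤ, i < 0 → ∀ x ∈ 𝒜 i, x = 0)
    (hunit : ∀ x ∈ 𝒜 0, x ≠ 0 → IsUnit x)
    (hinj : Function.Injective (LinearMap.lTensor M (irrel 𝒜 hneg).subtype)) :
    ∃ (T : Finset M) (b : Module.Basis ↥T R M), ∀ i, b i = (i : M) ∧
      SetLike.IsHomogeneousElem ℳ (b i) := by
  classical
  obtain ⟨H, hHhom, hHspan⟩ := exists_homogeneous_generators (R := R) ℳ
  -- a subset of minimal cardinality that still spans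
  have hne : (H.powerset.filter (fun T : Finset M => Submodule.span R (T : Set M) = ⊤)).Nonempty :=
    ⟨H, Finset.mem_filter.mpr ⟨Finset.mem_powerset.mpr (Finset.Subset.refl H), hHspan⟩⟩
  obtain ⟨T, hT, hTmin⟩ := Finset.exists_min_image _ Finset.card hne
  obtain ⟨hTH, hTspan⟩ := Finset.mem_filter.mp hT
  rw [Finset.mem_powerset] at hTH
  have hThom : ∀ i : ↥T, ∃ e : ℤ, (i : M) ∈ ℳ e := fun i => hHhom i (hTH i.2)
  choose d hd using hThom
  let m : ↥T → M := fun i => (i : M)
  have hspan : Submodule.span R (Set.range m) = ⊤ := by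
    have : Set.range m = (T : Set M) := by
      ext x
      constructor
      · rintro ⟨i, rfl⟩; exact i.2
      · intro hx; exact ⟨⟨x, hx⟩, rfl⟩
    rw [this, hTspan]
  -- minimality: coefficients of relations lie in the irrelevant ideal
  have hmin : ∀ c : ↥T → R, ∑ i, c i • m i = 0 → ∀ i, c i ∈ irrel 𝒜 hneg := by
    intro c hc i0
    by_contra hi0
    rw [mem_irrel] at hi0
    have hu : IsUnit (decompose 𝒜 (c i0) 0 : R) := hunit _ (decompose 𝒜 (c i0) 0).2 hi0
    obtain ⟨u, hu⟩ := hu
    have hrel := sum_proj_smul_eq_zero 𝒜 ℳ Finset.univ c m d (fun i _ => hd i) hc (d i0)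
    rw [← Finset.add_sum_erase _ _ (Finset.mem_univ i0), sub_self, ← hu] at hrel
    -- m i0 in the span of the others
    have h1 : m i0 ∈ Submodule.span R ((T.erase (i0 : M) : Finset M) : Set M) := by
      have h2 : (u : R) • m i0 ∈ Submodule.span R ((T.erase (i0 : M) : Finset M) : Set M) := by
        rw [eq_neg_of_add_eq_zero_left hrel]
        refine Submodule.neg_mem _ (Submodule.sum_mem _ fun i hi => Submodule.smul_mem _ _ ?_)
        apply Submodule.subset_span
        rw [Finset.mem_coe, Finset.mem_erase]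
        refine ⟨fun h => (Finset.mem_erase.mp hi).1 (Subtype.ext h), i.2⟩
      have h3 := Submodule.smul_mem _ ((u⁻¹ : Rˣ) : R) h2
      rwa [smul_smul, Units.inv_mul, one_smul] at h3
    have h4 : Submodule.span R ((T.erase (i0 : M) : Finset M) : Set M) = ⊤ := by
      rw [eq_top_iff, ← hTspan, Submodule.span_le]
      intro x hx
      by_cases hxi : x = (i0 : M)
      · rw [hxi]; exact h1
      · exact Submodule.subset_span (Finset.mem_coe.mpr (Finset.mem_erase.mpr ⟨hxi, hx⟩))
    have h5 := hTmin (T.erase (i0 : M)) (Finset.mem_filter.mpr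
      ⟨Finset.mem_powerset.mpr ((Finset.erase_subset _ _).trans hTH), h4⟩)
    have h6 := Finset.card_erase_lt_of_mem i0.2
    omega
  -- lower bound for the degrees
  obtain ⟨D0, hD0⟩ : ∃ D0 : ℤ, ∀ i, D0 ≤ d i := by
    obtain ⟨D0, hD0⟩ := Finset.exists_le (Finset.univ.image (fun i => - d i))
    refine ⟨-D0, fun i => ?_⟩
    have := hD0 _ (Finset.mem_image_of_mem (fun i => - d i) (Finset.mem_univ i))
    omega
  -- homogeneous relations are trivial, by induction on the degree
  have hP : ∀ n : ℕ, ∀ e : ℤ, e < D0 + n → ∀ a : ↥T → R, (∀ i, a i ∈ 𝒜 (e - d i)) →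
      ∑ i, a i • m i = 0 → ∀ i, a i = 0 := by
    intro n
    induction n with
    | zero =>
      intro e he a ha _ i
      exact hneg (e - d i) (by have := hD0 i; simp at he; omega) (a i) (ha i)
    | succ n ih =>
      intro e he a ha hrel
      have ham : ∀ i, a i ∈ irrel 𝒜 hneg := hmin a hrel
      have ht : ∑ i, m i ⊗ₜ[R] (⟨a i, ham i⟩ : irrel 𝒜 hneg) = 0 := by
        apply hinj
        rw [map_sum, map_zero]
        simp only [LinearMap.lTensor_tmul, Submodule.subtype_apply]
        apply (TensorProduct.rid R M).injective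
        rw [map_sum, map_zero]
        simp only [TensorProduct.rid_tmul]
        exact hrel
      obtain ⟨k, c, y, hy, hc⟩ := TensorProduct.vanishesTrivially_of_sum_tmul_eq_zero R hspan ht
      intro i
      have h1 : a i = ∑ j, c i j * (y j : R) := by
        have := congrArg Subtype.val (hy i)
        simpa using this
      have h2 : a i = projM 𝒜 (e - d i) (a i) := (projM_of_mem_same 𝒜 (ha i)).symm
      rw [h2, h1, map_sum]
      apply Finset.sum_eq_zero
      intro j _
      rw [← sum_support_decompose 𝒜 (y j : R), Finset.mul_sum, map_sum]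
      apply Finset.sum_eq_zero
      intro s _
      have h3 := projM_smul_of_mem 𝒜 𝒜 (c i j) (decompose 𝒜 (y j : R) s).2 (e - d i)
      rw [smul_eq_mul, smul_eq_mul] at h3
      rw [h3]
      rcases lt_trichotomy s 0 with hs | hs | hs
      · rw [hneg s hs _ (decompose 𝒜 (y j : R) s).2, mul_zero]
      · subst hs
        have h4 : (decompose 𝒜 (y j : R) 0 : R) = 0 := (y j).2
        rw [h4, mul_zero]
      · have h4 := ih (e - s) (by push_cast at he; omega)
          (fun i' => (decompose 𝒜 (c i' j) (e - s - d i') : R))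
          (fun i' => (decompose 𝒜 (c i' j) (e - s - d i')).2)
          (sum_proj_smul_eq_zero 𝒜 ℳ Finset.univ (fun i' => c i' j) m d (fun i' _ => hd i')
            (hc j) (e - s)) i
        have h5 : e - d i - s = e - s - d i := by ring
        rw [h5, h4, zero_mul]
  have hli : LinearIndependent R m := by
    rw [Fintype.linearIndependent_iff]
    intro g hg i
    have hcomp : ∀ s : ℤ, (decompose 𝒜 (g i) s : R) = 0 := by
      intro s
      have h1 := hP ((s + d i - D0 + 1).toNat) (s + d i)
        (by have := Int.self_le_toNat (s + d i - D0 + 1); omega)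
        (fun i' => (decompose 𝒜 (g i') (s + d i - d i') : R))
        (fun i' => (decompose 𝒜 (g i') (s + d i - d i')).2)
        (sum_proj_smul_eq_zero 𝒜 ℳ Finset.univ g m d (fun i' _ => hd i') hg (s + d i)) i
      have h2 : s + d i - d i = s := by ring
      rw [h2] at h1
      exact h1
    rw [← sum_support_decompose 𝒜 (g i)]
    exact Finset.sum_eq_zero fun s _ => hcomp s
  refine ⟨T, Module.Basis.mk hli hspan.ge, fun i => ?_⟩
  rw [Module.Basis.mk_apply]
  exact ⟨rfl, d i, hd i⟩

end Main

end Groth.Agent.Lib.helper10.GrFree
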