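import Mathlib

/-!
# Integration over finite powers of a compact group without second countability (helper10)

Continuous real functions on a finite power of a compact Hausdorff space are measurable for the
product σ-algebra (Stone–Weierstrass); Fubini for `Fin.snoc`/`Fin.cons`; continuity of partial
integrals; integrals of functions of partial sums against the product Haar measure.
-/

set_option autoImplicit false
set_option linter.unusedSectionVars false
universe u
open MeasureTheory Topology Filter

namespace Groth.Agent.Lib.Helper10.HaarPi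

section meas

variable {X : Type u} [TopologicalSpace X] [CompactSpace X] [T2Space X] [MeasurableSpace X]
  [BorelSpace X]

/-- continuous functions on a finite power of a compact Hausdorff space are measurable for the
product σ-algebra -/
theorem measurable_of_continuous_pi {n : ℕ} (f : (Fin n → X) → ℝ) (hf : Continuous f) :
    Measurable f := by
  classical
  let gen : Fin n → C(X, ℝ) → C(Fin n → X, ℝ) :=
    fun i g => g.comp ⟨fun x => x i, continuous_apply i⟩
  let A : Subalgebra ℝ C(Fin n → X, ℝ) := Algebra.adjoin ℝ {F | ∃ i g, F = gen i g}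
  have hsep : A.SeparatesPoints := by
    intro x y hxy
    obtain ⟨i, hi⟩ := Function.ne_iff.mp hxy
    obtain ⟨g, hg0, hg1, -⟩ := exists_continuous_zero_one_of_isClosed
      (isClosed_singleton (x := x i)) (isClosed_singleton (x := y i))
      (Set.disjoint_singleton.mpr hi)
    refine ⟨gen i g, ⟨gen i g, Algebra.subset_adjoin ⟨i, g, rfl⟩, rfl⟩, ?_⟩
    have h0 : gen i g x = 0 := hg0 (Set.mem_singleton _)
    have h1 : gen i g y = 1 := hg1 (Set.mem_singleton _)
    rw [h0, h1]
    exact zero_ne_one
  have htop := ContinuousMap.subalgebra_topologicalClosure_eq_top_of_separatesPoints A hsep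
  have hmem : (⟨f, hf⟩ : C(Fin n → X, ℝ)) ∈ A.topologicalClosure := by rw [htop]; trivial
  have hcl : (⟨f, hf⟩ : C(Fin n → X, ℝ)) ∈ closure (A : Set C(Fin n → X, ℝ)) := hmem
  obtain ⟨a, haA, halim⟩ := mem_closure_iff_seq_limit.mp hcl
  have hmeasA : ∀ F ∈ A, Measurable (F : (Fin n → X) → ℝ) := by
    intro F hF
    induction hF using Algebra.adjoin_induction with
    | mem F hF =>
      obtain ⟨i, g, rfl⟩ := hF
      exact g.continuous.measurable.comp (measurable_pi_apply i)
    | algebraMap r => exact measurable_const
    | add F F' _ _ h h' => exact h.add h'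
    | mul F F' _ _ h h' => exact h.mul h'
  apply measurable_of_tendsto_metrizable (fun k => hmeasA (a k) (haA k))
  rw [tendsto_pi_nhds]
  intro y
  exact ((continuous_eval_const (F := C(Fin n → X, ℝ)) y).tendsto _).comp halim

end meas

/-- continuity of a partial integral over a compact space, without first countability -/
theorem continuous_integral_of_compact {X Y : Type*} [TopologicalSpace X] [TopologicalSpace Y]
    [CompactSpace Y] [MeasurableSpace Y] (ν : Measure Y) [IsFiniteMeasure ν] (f : X × Y → ℝ)
    (hf : Continuous f)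
    (hmeas : ∀ h : Y → ℝ, Continuous h → AEStronglyMeasurable h ν) :
    Continuous fun x => ∫ y, f (x, y) ∂ν := by
  let F : C(X × Y, ℝ) := ⟨f, hf⟩
  let c : C(X, C(Y, ℝ)) := F.curry
  have hint : ∀ x, Integrable (fun y => f (x, y)) ν := by
    intro x
    refine Integrable.of_bound (hmeas _ (c x).continuous) ‖c x‖ (Eventually.of_forall fun y => ?_)
    exact (c x).norm_coe_le_norm y
  rw [continuous_iff_continuousAt]
  intro x₀
  rw [ContinuousAt, Metric.tendsto_nhds]
  intro ε hε
  let K : ℝ := ν.real Set.univ + 1
  have hK : 0 < K := by positivity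
  have hc : ∀ᶠ x in 𝓝 x₀, dist (c x) (c x₀) < ε / K :=
    Metric.tendsto_nhds.mp c.continuous.continuousAt (ε / K) (div_pos hε hK)
  filter_upwards [hc] with x hx
  rw [dist_eq_norm, ← integral_sub (hint x) (hint x₀)]
  have hb : ∀ᵐ y ∂ν, ‖f (x, y) - f (x₀, y)‖ ≤ dist (c x) (c x₀) := Eventually.of_forall fun y => by
    rw [← dist_eq_norm]
    exact ContinuousMap.dist_apply_le_dist (f := c x) (g := c x₀) y
  calc ‖∫ y, (f (x, y) - f (x₀, y)) ∂ν‖ ≤ dist (c x) (c x₀) * ν.real Set.univ :=
        norm_integral_le_of_norm_le_const hb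
    _ ≤ dist (c x) (c x₀) * K := by
        apply mul_le_mul_of_nonneg_left _ dist_nonneg
        simp [K]
    _ < ε / K * K := mul_lt_mul_of_pos_right hx hK
    _ = ε := div_mul_cancel₀ ε hK.ne'

section haar

variable {G : Type u} [AddCommGroup G] [TopologicalSpace G] [IsTopologicalAddGroup G]
  [CompactSpace G] [T2Space G] [MeasurableSpace G] [BorelSpace G] (μ : Measure G)
  [μ.IsAddHaarMeasure] [IsProbabilityMeasure μ]

lemma integrable_pi {n : ℕ} (f : (Fin n → G) → ℝ) (hf : Continuous f) :
    Integrable f (Measure.pi fun _ : Fin n => μ) := by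
  obtain ⟨C, hC⟩ := isCompact_univ.exists_bound_of_continuousOn hf.continuousOn
  exact Integrable.of_bound (measurable_of_continuous_pi f hf).aestronglyMeasurable C
    (Eventually.of_forall fun x => hC x (Set.mem_univ x))

lemma integrable_G (f : G → ℝ) (hf : Continuous f) : Integrable f μ := by
  obtain ⟨C, hC⟩ := isCompact_univ.exists_bound_of_continuousOn hf.continuousOn
  exact Integrable.of_bound hf.measurable.aestronglyMeasurable C
    (Eventually.of_forall fun x => hC x (Set.mem_univ x))

/-- Fubini, splitting off the last coordinate -/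
lemma integral_pi_snoc {n : ℕ} (F : (Fin (n + 1) → G) → ℝ) (hF : Continuous F) :
    ∫ w, F w ∂(Measure.pi fun _ : Fin (n + 1) => μ) =
      ∫ u, ∫ c, F (Fin.snoc u c) ∂μ ∂(Measure.pi fun _ : Fin n => μ) := by
  have mp := (measurePreserving_piFinSuccAbove (fun _ : Fin (n + 1) => μ) (Fin.last n)).symm
  rw [← mp.integral_comp']
  rw [integral_prod_symm]
  · refine integral_congr_ae (Eventually.of_forall fun u => ?_)
    refine integral_congr_ae (Eventually.of_forall fun c => ?_)
    simp only [MeasurableEquiv.piFinSuccAbove_symm_apply, Fin.insertNthEquiv, Equiv.coe_fn_mk]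
    rw [Fin.insertNth_last']
  · exact (mp.integrable_comp_emb (MeasurableEquiv.measurableEmbedding _)).mpr
      (integrable_pi μ F hF)

/-- Fubini, splitting off the first coordinate -/
lemma integral_pi_cons {n : ℕ} (F : (Fin (n + 1) → G) → ℝ) (hF : Continuous F) :
    ∫ w, F w ∂(Measure.pi fun _ : Fin (n + 1) => μ) =
      ∫ u, ∫ c, F (Fin.cons c u) ∂μ ∂(Measure.pi fun _ : Fin n => μ) := by
  have mp := (measurePreserving_piFinSuccAbove (fun _ : Fin (n + 1) => μ) 0).symm
  rw [← mp.integral_comp']
  rw [integral_prod_symm]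
  · refine integral_congr_ae (Eventually.of_forall fun u => ?_)
    refine integral_congr_ae (Eventually.of_forall fun c => ?_)
    simp only [MeasurableEquiv.piFinSuccAbove_symm_apply, Fin.insertNthEquiv, Equiv.coe_fn_mk]
    rw [Fin.insertNth_zero']
  · exact (mp.integrable_comp_emb (MeasurableEquiv.measurableEmbedding _)).mpr
      (integrable_pi μ F hF)

lemma continuous_integral_snoc {n : ℕ} (F : (Fin (n + 1) → G) → ℝ) (hF : Continuous F) :
    Continuous fun y : Fin n → G => ∫ c, F (Fin.snoc y c) ∂μ := by
  have h1 : Continuous fun p : (Fin n → G) × G => F (Fin.snoc p.1 p.2) :=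
    hF.comp (Continuous.finSnoc continuous_fst continuous_snd)
  exact continuous_integral_of_compact μ (fun p : (Fin n → G) × G => F (Fin.snoc p.1 p.2)) h1
    (fun h hh => hh.measurable.aestronglyMeasurable)

lemma continuous_integral_cons {n : ℕ} (F : (Fin (n + 1) → G) → ℝ) (hF : Continuous F) :
    Continuous fun g : G => ∫ u, F (Fin.cons g u) ∂(Measure.pi fun _ : Fin n => μ) := by
  have h1 : Continuous fun p : G × (Fin n → G) => F (Fin.cons p.1 p.2) :=
    hF.comp (Continuous.finCons continuous_fst continuous_snd)
  exact continuous_integral_of_compact (Measure.pi fun _ : Fin n => μ)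
    (fun p : G × (Fin n → G) => F (Fin.cons p.1 p.2)) h1
    (fun h hh => (measurable_of_continuous_pi h hh).aestronglyMeasurable)

lemma sum_cons_split {n : ℕ} (J : Finset (Fin (n + 1))) (w : Fin (n + 1) → G) :
    ∑ j ∈ J, w j = (if (0 : Fin (n + 1)) ∈ J then w 0 else 0) +
      ∑ j ∈ Finset.univ.filter (fun j : Fin n => j.succ ∈ J), w j.succ := by
  classical
  have h1 : ∑ j ∈ J, w j = ∑ j : Fin (n + 1), if j ∈ J then w j else 0 := by
    rw [Finset.sum_ite_mem, Finset.univ_inter]
  rw [h1, Fin.sum_univ_succ, Finset.sum_filter]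

/-- a nonempty partial sum of independent Haar variables, translated, is Haar distributed -/
lemma integral_pi_sum : ∀ (n : ℕ) (J : Finset (Fin n)), J.Nonempty → ∀ (h : G) (f : G → ℝ),
    Continuous f →
    ∫ u, f (h + ∑ j ∈ J, u j) ∂(Measure.pi fun _ : Fin n => μ) = ∫ g, f g ∂μ := by
  classical
  intro n
  induction n with
  | zero =>
    intro J hJ
    obtain ⟨j, -⟩ := hJ
    exact j.elim0
  | succ n ih =>
    intro J hJ h f hf
    have hcont : Continuous fun w : Fin (n + 1) → G => f (h + ∑ j ∈ J, w j) :=
      hf.comp (continuous_const.add (continuous_finsetSum _ fun j _ => continuous_apply j))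
    rw [integral_pi_cons μ _ hcont]
    let J' : Finset (Fin n) := Finset.univ.filter (fun j : Fin n => j.succ ∈ J)
    by_cases h0 : (0 : Fin (n + 1)) ∈ J
    · have key : ∀ u : Fin n → G,
          ∫ c, f (h + ∑ j ∈ J, (Fin.cons c u : Fin (n + 1) → G) j) ∂μ = ∫ g, f g ∂μ := by
        intro u
        have e : ∀ c : G, h + ∑ j ∈ J, (Fin.cons c u : Fin (n + 1) → G) j =
            c + (h + ∑ j ∈ J', u j) := by
          intro c
          rw [sum_cons_split, if_pos h0]
          simp only [Fin.cons_zero, Fin.cons_succ]
          abel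
        simp_rw [e]
        exact integral_add_right_eq_self f _
      simp_rw [key]
      simp
    · have hJ' : J'.Nonempty := by
        obtain ⟨j, hj⟩ := hJ
        have hj0 : j ≠ 0 := fun e => h0 (e ▸ hj)
        obtain ⟨j', rfl⟩ := Fin.exists_succ_eq.mpr hj0
        exact ⟨j', Finset.mem_filter.mpr ⟨Finset.mem_univ _, hj⟩⟩
      have key : ∀ u : Fin n → G,
          ∫ c, f (h + ∑ j ∈ J, (Fin.cons c u : Fin (n + 1) → G) j) ∂μ =
            f (h + ∑ j ∈ J', u j) := by
        intro u
        have e : ∀ c : G, h + ∑ j ∈ J, (Fin.cons c u : Fin (n + 1) → G) j =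
            h + ∑ j ∈ J', u j := by
          intro c
          rw [sum_cons_split, if_neg h0]
          simp only [Fin.cons_succ, zero_add]
          rfl
        simp_rw [e]
        simp
      simp_rw [key]
      exact ih J' hJ' h f hf

end haar

end Groth.Agent.Lib.Helper10.HaarPi
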