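import Mathlib
import Groth.Prelude.Def_LocRes
import Groth.Agent.Lib.Helper26.FunFldSep
import Groth.Agent.Lib.Helper10.HasseExp2

/-!
Existence of the total Hasse derivative (Hasse family) with respect to a separating element:
`f(s) ↦ f(s + T)` on `k(s)`, extended to `K` by formal smoothness of the finite separable
extension `K / k(s)` and completeness of `K⟦T⟧` (helper10).
-/

set_option autoImplicit false
set_option linter.style.haveILetI false

universe u v

namespace Groth.Agent.Lib.helper10

namespace HasseExist

open scoped IntermediateField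

variable {k : Type u} {K : Type v} [Field k] [Field K] [Algebra k K]

/-- the polynomial-level map `p ↦ p(s + T)` -/
noncomputable def polyMap (s : K) : Polynomial k →ₐ[k] PowerSeries K :=
  Polynomial.aeval (PowerSeries.C s + PowerSeries.X)

theorem constantCoeff_polyMap (s : K) (p : Polynomial k) :
    PowerSeries.constantCoeff (polyMap (k := k) s p) = Polynomial.aeval s p := by
  unfold polyMap
  induction p using Polynomial.induction_on' with
  | add p q hp hq => rw [map_add, map_add, hp, hq, map_add]
  | monomial n a =>
    rw [Polynomial.aeval_monomial, Polynomial.aeval_monomial, map_mul, map_pow, map_add]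
    simp [PowerSeries.algebraMap_apply]

theorem isUnit_polyMap {s : K} (hs : Transcendental k s) (p : Polynomial k) (hp : p ≠ 0) :
    IsUnit (polyMap (k := k) s p) := by
  rw [PowerSeries.isUnit_iff_constantCoeff, constantCoeff_polyMap, isUnit_iff_ne_zero]
  intro h
  exact hp ((transcendental_iff.mp hs) p h)

/-- the rational-function-level map `f ↦ f(s + T)` -/
noncomputable def ratMap {s : K} (hs : Transcendental k s) : RatFunc k →ₐ[k] PowerSeries K :=
  IsLocalization.liftAlgHom (M := nonZeroDivisors (Polynomial k)) (f := polyMap (k := k) s)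
    (fun y => isUnit_polyMap hs y.1 (nonZeroDivisors.ne_zero y.2))

theorem ratMap_algebraMap {s : K} (hs : Transcendental k s) (p : Polynomial k) :
    ratMap hs (algebraMap (Polynomial k) (RatFunc k) p) = polyMap s p := by
  unfold ratMap
  rw [IsLocalization.liftAlgHom_apply, IsLocalization.lift_eq]
  rfl

theorem ratMap_X {s : K} (hs : Transcendental k s) :
    ratMap hs (RatFunc.X : RatFunc k) = PowerSeries.C s + PowerSeries.X := by
  rw [← RatFunc.algebraMap_X, ratMap_algebraMap]
  unfold polyMap
  rw [Polynomial.aeval_X]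

/-- the map on `k(s)`. -/
noncomputable def fldMap {s : K} (hs : Transcendental k s) : k⟮s⟯ →ₐ[k] PowerSeries K :=
  (ratMap hs).comp (RatFunc.algEquivOfTranscendental s hs).symm.toAlgHom

theorem fldMap_gen {s : K} (hs : Transcendental k s) :
    fldMap hs (IntermediateField.AdjoinSimple.gen k s) = PowerSeries.C s + PowerSeries.X := by
  unfold fldMap
  rw [AlgHom.comp_apply]
  change ratMap hs ((RatFunc.algEquivOfTranscendental s hs).symm _) = _
  rw [RatFunc.algEquivOfTranscendental_symm_gen, ratMap_X]

theorem constantCoeff_fldMap {s : K} (hs : Transcendental k s) (a : k⟮s⟯) :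
    PowerSeries.constantCoeff (fldMap hs a) = (a : K) := by
  obtain ⟨r, rfl⟩ := (RatFunc.algEquivOfTranscendental s hs).surjective a
  unfold fldMap
  rw [AlgHom.comp_apply]
  change PowerSeries.constantCoeff (ratMap hs ((RatFunc.algEquivOfTranscendental s hs).symm _)) = _
  rw [AlgEquiv.symm_apply_apply]
  -- two ring homs RatFunc k → K
  let f1 : RatFunc k →+* K := (PowerSeries.constantCoeff (R := K)).comp (ratMap hs).toRingHom
  let f2 : RatFunc k →+* K := (algebraMap k⟮s⟯ K).comp
    (RatFunc.algEquivOfTranscendental s hs).toAlgHom.toRingHom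
  have h12 : f1 = f2 := by
    apply IsLocalization.ringHom_ext (nonZeroDivisors (Polynomial k))
    ext p
    · change PowerSeries.constantCoeff (ratMap hs (algebraMap (Polynomial k) (RatFunc k) (Polynomial.C p))) =
        ((RatFunc.algEquivOfTranscendental s hs (algebraMap (Polynomial k) (RatFunc k) (Polynomial.C p)) : k⟮s⟯) : K)
      rw [ratMap_algebraMap, constantCoeff_polyMap, RatFunc.algEquivOfTranscendental_algebraMap]
      simp
    · change PowerSeries.constantCoeff (ratMap hs (algebraMap (Polynomial k) (RatFunc k) Polynomial.X)) =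
        ((RatFunc.algEquivOfTranscendental s hs (algebraMap (Polynomial k) (RatFunc k) Polynomial.X) : k⟮s⟯) : K)
      rw [ratMap_algebraMap, constantCoeff_polyMap, RatFunc.algEquivOfTranscendental_algebraMap]
      simp
  exact congrArg (fun f : RatFunc k →+* K => f r) h12

/-- A type synonym of `K⟦T⟧`, to avoid the canonical `k(s)`-algebra structure. -/
def PS (k : Type u) (K : Type v) [Field k] [Field K] [Algebra k K] : Type v := PowerSeries K

noncomputable instance : CommRing (PS k K) := inferInstanceAs (CommRing (PowerSeries K))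

noncomputable instance : Algebra k (PS k K) := inferInstanceAs (Algebra k (PowerSeries K))

/-- identity to the synonym -/
noncomputable def toPS : PowerSeries K →ₐ[k] PS k K := AlgHom.id k (PowerSeries K)

/-- identity from the synonym -/
noncomputable def ofPS : PS k K →ₐ[k] PowerSeries K := AlgHom.id k (PowerSeries K)

theorem ofPS_toPS (p : PowerSeries K) : ofPS (k := k) (toPS (k := k) p) = p := rfl

theorem toPS_ofPS (p : PS k K) : toPS (k := k) (ofPS (k := k) p) = p := rfl

instance : IsAdicComplete (Ideal.span {toPS (k := k) (PowerSeries.X : PowerSeries K)}) (PS k K) :=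
  inferInstanceAs (IsAdicComplete (Ideal.span {(PowerSeries.X : PowerSeries K)}) (PowerSeries K))

theorem exists_isHasseFamily_of_isSeparable {s : K} (hs : Transcendental k s)
    [Algebra.IsSeparable k⟮s⟯ K] :
    ∃ H : K →ₐ[k] PowerSeries K, LocRes.IsHasseFamily s H := by
  letI algFS : Algebra k⟮s⟯ (PS k K) := ((toPS (k := k)).comp (fldMap hs)).toRingHom.toAlgebra
  have halg : ∀ a : k⟮s⟯, algebraMap k⟮s⟯ (PS k K) a = toPS (k := k) (fldMap hs a) := fun a => rfl
  haveI : IsScalarTower k (k⟮s⟯) (PS k K) :=
    IsScalarTower.of_algebraMap_eq (R := k) (S := k⟮s⟯) (A := PS k K) (fun (x : k) => by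
      rw [halg, (fldMap hs).commutes x, (toPS (k := k) (K := K)).commutes x])
  haveI : Algebra.FormallyEtale k⟮s⟯ K := Algebra.FormallyEtale.of_isSeparable k⟮s⟯ K
  let I : Ideal (PS k K) := Ideal.span {toPS (k := k) (PowerSeries.X : PowerSeries K)}
  haveI : IsAdicComplete I (PS k K) := inferInstance
  have hmem : ∀ p : PS k K, PowerSeries.constantCoeff (ofPS (k := k) p) = 0 → p ∈ I := by
    intro p hp
    have := PowerSeries.X_dvd_iff.mpr hp
    rw [Ideal.mem_span_singleton]
    exact this
  have hmem' : ∀ p : PS k K, p ∈ I → PowerSeries.constantCoeff (ofPS (k := k) p) = 0 := by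
    intro p hp
    rw [Ideal.mem_span_singleton] at hp
    exact PowerSeries.X_dvd_iff.mp hp
  let f : K →ₐ[k⟮s⟯] (PS k K ⧸ I) :=
    { toRingHom := (Ideal.Quotient.mk I).comp
        ((toPS (k := k) (K := K)).toRingHom.comp (PowerSeries.C : K →+* PowerSeries K))
      commutes' := fun a => by
        change Ideal.Quotient.mk I (toPS (k := k) (PowerSeries.C (a : K))) =
          Ideal.Quotient.mk I (algebraMap k⟮s⟯ (PS k K) a)
        rw [halg, Ideal.Quotient.eq]
        apply hmem
        rw [map_sub, ofPS_toPS, ofPS_toPS, map_sub, PowerSeries.constantCoeff_C,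
          constantCoeff_fldMap, sub_self] }
  obtain ⟨g, hg⟩ := Algebra.FormallySmooth.exists_mkₐ_comp_eq_of_isAdicComplete f
  refine ⟨(ofPS (k := k)).comp (g.restrictScalars k), ?_, ?_⟩
  · change ofPS (k := k) (g s) = _
    have h1 : g s = g (algebraMap k⟮s⟯ K (IntermediateField.AdjoinSimple.gen k s)) := rfl
    rw [h1, g.commutes, halg, ofPS_toPS, fldMap_gen]
  · intro y
    change PowerSeries.constantCoeff (ofPS (k := k) (g y)) = y
    have h1 : Ideal.Quotient.mk I (g y) = Ideal.Quotient.mk I (toPS (k := k) (PowerSeries.C y)) :=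
      congrArg (fun h : K →ₐ[k⟮s⟯] (PS k K ⧸ I) => h y) hg
    rw [Ideal.Quotient.eq] at h1
    have h2 := hmem' _ h1
    rw [map_sub, ofPS_toPS, map_sub, PowerSeries.constantCoeff_C, sub_eq_zero] at h2
    exact h2

/-- A function field over an algebraically closed field has a Hasse family. -/
theorem exists_isHasseFamily (hK : FunFld.IsFunctionField k K) [IsAlgClosed k] :
    ∃ (s : K) (H : K →ₐ[k] PowerSeries K), LocRes.IsHasseFamily s H := by
  obtain ⟨s, hs, hsep⟩ := Groth.Agent.Lib.helper26.FunFldSep.exists_separating_element hK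
    (HasseExp.isGeometric_of_isAlgClosed (k := k) (K := K))
  haveI := hsep
  obtain ⟨H, hH⟩ := exists_isHasseFamily_of_isSeparable hs
  exact ⟨s, H, hH⟩

end HasseExist

end Groth.Agent.Lib.helper10
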