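import Mathlib
import Groth.Agent.Lib.Helper10.HasseExp12

/-!
Binomial matrices: the jump sequence of the columns `m ↦ (C(J r, m))_r` (helper10).
-/

set_option autoImplicit false
set_option linter.unusedSectionVars false
set_option linter.unusedVariables false
set_option linter.style.haveILetI false

universe u v

open FunFld Polynomial

namespace Groth.Agent.Lib.helper10

namespace HasseExp

section binom

variable {k : Type u} [Field k]

/-- Triangularity: the rows `(C(a r, m))_m` of a strictly increasing sequence `a` are linearly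
independent. -/
theorem binom_rel_zero' {L : ℕ} (a : Fin L → ℕ) (ha : StrictMono a) (μ : Fin L → k)
    (h : ∀ m, ∑ r, μ r * ((a r).choose m : k) = 0) : μ = 0 := by
  classical
  by_contra hne
  have hex : ∃ r, μ r ≠ 0 := by
    by_contra h0
    push Not at h0
    exact hne (funext h0)
  -- the largest index with nonzero coefficient
  let S : Finset (Fin L) := Finset.univ.filter fun r => μ r ≠ 0
  have hS : S.Nonempty := by
    obtain ⟨r, hr⟩ := hex
    exact ⟨r, by simp [S, hr]⟩
  set r₀ := S.max' hS with hr₀
  have hr₀mem : μ r₀ ≠ 0 := by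
    have := Finset.max'_mem S hS
    simpa [S] using this
  have hlarge : ∀ r, r₀ < r → μ r = 0 := by
    intro r hr
    by_contra h0
    have : r ∈ S := by simp [S, h0]
    exact absurd (Finset.le_max' S r this) (not_le.mpr hr)
  have := h (a r₀)
  rw [Finset.sum_eq_single r₀] at this
  · rw [Nat.choose_self, Nat.cast_one, mul_one] at this
    exact hr₀mem this
  · intro r _ hr
    rcases lt_or_gt_of_ne hr with hlt | hgt
    · rw [Nat.choose_eq_zero_of_lt (ha hlt), Nat.cast_zero, mul_zero]
    · rw [hlarge r hgt, zero_mul]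
  · intro h0
    exact absurd (Finset.mem_univ _) h0

/-- The rows `(C(a r, m))_{m ≤ a_last - a_0}` are already linearly independent. -/
theorem binom_rel_zero {L : ℕ} (a : Fin (L + 1) → ℕ) (ha : StrictMono a) (μ : Fin (L + 1) → k)
    (h : ∀ m, m + a 0 ≤ a (Fin.last L) → ∑ r, μ r * ((a r).choose m : k) = 0) : μ = 0 := by
  classical
  set N := a (Fin.last L) - a 0 with hN
  have ha0 : ∀ r, a 0 ≤ a r := fun r => ha.monotone (Fin.zero_le r)
  have hal : ∀ r, a r ≤ a (Fin.last L) := fun r => ha.monotone (Fin.le_last r)
  set b : Fin (L + 1) → ℕ := fun r => a r - a 0 with hb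
  have hbmono : StrictMono b := by
    intro r r' hrr'
    have := ha hrr'
    have := ha0 r
    simp only [hb]
    omega
  set p : k[X] := ∑ r, C (μ r) * (X + 1) ^ (a r) with hp
  set q : k[X] := ∑ r, C (μ r) * (X + 1) ^ (b r) with hq
  have hpq : p = (X + 1) ^ (a 0) * q := by
    rw [hp, hq, Finset.mul_sum]
    refine Finset.sum_congr rfl fun r _ => ?_
    have : a r = a 0 + b r := by
      have := ha0 r
      simp only [hb]
      omega
    rw [this, pow_add]
    ring
  have hpcoeff : ∀ m, p.coeff m = ∑ r, μ r * ((a r).choose m : k) := by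
    intro m
    rw [hp, Polynomial.finset_sum_coeff]
    refine Finset.sum_congr rfl fun r _ => ?_
    rw [Polynomial.coeff_C_mul, Polynomial.coeff_X_add_one_pow]
  have hqcoeff : ∀ m, q.coeff m = ∑ r, μ r * ((b r).choose m : k) := by
    intro m
    rw [hq, Polynomial.finset_sum_coeff]
    refine Finset.sum_congr rfl fun r _ => ?_
    rw [Polynomial.coeff_C_mul, Polynomial.coeff_X_add_one_pow]
  have hdvdp : (X : k[X]) ^ (N + 1) ∣ p := by
    rw [Polynomial.X_pow_dvd_iff]
    intro d hd
    rw [hpcoeff]
    apply h
    have := hal 0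
    omega
  have hcop : IsCoprime ((X : k[X]) ^ (N + 1)) ((X + 1) ^ (a 0)) := by
    apply IsCoprime.pow
    refine ⟨-1, 1, ?_⟩
    ring
  have hdvdq : (X : k[X]) ^ (N + 1) ∣ q := by
    rw [hpq] at hdvdp
    exact hcop.dvd_of_dvd_mul_left hdvdp
  have hqdeg : q.natDegree < N + 1 := by
    rw [Nat.lt_succ_iff, hq]
    apply Polynomial.natDegree_sum_le_of_forall_le
    intro r _
    refine le_trans (Polynomial.natDegree_C_mul_le _ _) ?_
    refine le_trans Polynomial.natDegree_pow_le ?_
    have h1 : (X + 1 : k[X]).natDegree ≤ 1 := by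
      have : (X + 1 : k[X]) = X + C 1 := by simp
      rw [this]
      exact (Polynomial.natDegree_X_add_C 1).le
    have h2 : b r ≤ N := by
      have := hal r
      simp only [hb, hN]
      omega
    calc b r * (X + 1 : k[X]).natDegree ≤ b r * 1 := Nat.mul_le_mul_left _ h1
      _ = b r := mul_one _
      _ ≤ N := h2
  have hq0 : q = 0 := by
    by_contra hq0
    have := Polynomial.natDegree_le_of_dvd hdvdq hq0
    rw [Polynomial.natDegree_X_pow] at this
    omega
  apply binom_rel_zero' b hbmono μ
  intro m
  rw [← hqcoeff, hq0, Polynomial.coeff_zero]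

/-- The columns of the binomial coefficient matrix. -/
def bcol (k : Type u) [Field k] {n : ℕ} (J : Fin n → ℕ) : ℕ → Fin n → k :=
  fun m r => ((J r).choose m : k)

theorem span_bcol_eq_top {n : ℕ} (J : Fin n → ℕ) (hJ : StrictMono J) :
    Submodule.span k (Set.range (bcol k J)) = ⊤ := by
  classical
  by_contra hne
  obtain ⟨f, hf0, hf⟩ := Submodule.exists_le_ker_of_lt_top _ (lt_top_iff_ne_top.mpr hne)
  apply hf0
  set l : Fin n → k := fun i => f (Pi.single i 1) with hl
  have hfl : ∀ w : Fin n → k, f w = ∑ i, l i * w i := by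
    intro w
    conv_lhs => rw [← Finset.univ_sum_single w]
    rw [map_sum]
    refine Finset.sum_congr rfl fun i _ => ?_
    have : (Pi.single i (w i) : Fin n → k) = w i • Pi.single i 1 := by
      rw [← Pi.single_smul, smul_eq_mul, mul_one]
    rw [this, map_smul, smul_eq_mul, mul_comm]
  have hrel : ∀ m, ∑ r, l r * ((J r).choose m : k) = 0 := by
    intro m
    have h1 : bcol k J m ∈ Submodule.span k (Set.range (bcol k J)) :=
      Submodule.subset_span ⟨m, rfl⟩
    have h2 := hf h1
    rw [LinearMap.mem_ker, hfl] at h2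
    exact h2
  have hl0 := binom_rel_zero' J hJ l hrel
  apply LinearMap.ext
  intro w
  rw [hfl, hl0]
  simp

/-- Main combinatorial statement: there is a strictly increasing `I` with `I l ≤ J l - J 0` and
nonvanishing determinant of binomial coefficients. -/
theorem exists_binomMat_det_ne_zero {n : ℕ} (J : Fin (n + 1) → ℕ) (hJ : StrictMono J) :
    ∃ I : Fin (n + 1) → ℕ, StrictMono I ∧ (∀ l, I l + J 0 ≤ J l) ∧
      (binomMat k J I).det ≠ 0 := by
  classical
  set c := bcol k J with hc
  have hc0 : c 0 ≠ 0 := by
    intro h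
    have := congrFun h 0
    simp [hc, bcol] at this
  obtain ⟨I', hI'⟩ := exists_isOrders_of_span_eq_top (K := k) c (span_bcol_eq_top J hJ) hc0
    (n := n) (by simp)
  set g := gidx I' with hg
  have hgmono : StrictMono g := gidx_strictMono hI'.1
  have hjump : ∀ i, IsJump k c (g i) := by
    intro i
    refine Fin.cases ?_ (fun l => ?_) i
    · exact (isJump_zero_iff c).mpr hc0
    · exact (hI'.2 (I' l)).mp ⟨l, rfl⟩
  have hjump' : ∀ m, IsJump k c m → ∃ i, g i = m := by
    intro m hm
    rcases Nat.eq_zero_or_pos m with h | h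
    · exact ⟨0, by rw [h]; rfl⟩
    · obtain ⟨j, rfl⟩ : ∃ j, m = j + 1 := ⟨m - 1, by omega⟩
      obtain ⟨l, hl⟩ := (hI'.2 j).mpr hm
      exact ⟨l.succ, by simp [hg, gidx, hl]⟩
  refine ⟨g, hgmono, ?_, ?_⟩
  · -- the bound
    intro l
    by_contra hlt
    rw [not_le] at hlt
    have hJl : J 0 ≤ J l := hJ.monotone (Fin.zero_le l)
    set N := J l - J 0 with hN
    have hNg : N < g l := by omega
    -- the span of the first `N + 1` columns has dimension at most `l`
    set W := Submodule.span k (c '' Set.Iio (N + 1)) with hW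
    have hWle : W ≤ Submodule.span k ((fun i => c (g i)) '' (Set.Iio l)) := by
      rw [hW, Groth.Agent.Lib.helper19.Jumps.span_jumps (K := k) c (N + 1)]
      apply Submodule.span_mono
      rintro _ ⟨m, ⟨hm, hmj⟩, rfl⟩
      obtain ⟨i, rfl⟩ := hjump' m hmj
      refine ⟨i, ?_, rfl⟩
      rw [Set.mem_Iio]
      by_contra hil
      rw [not_lt] at hil
      have := hgmono.monotone hil
      omega
    have hWrank : Module.finrank k W ≤ l := by
      refine le_trans (Submodule.finrank_mono hWle) ?_
      have h1 : ((fun i => c (g i)) '' (Set.Iio l)) = ((Finset.Iio l).image (fun i => c (g i)) : Finset _) := by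
        ext x
        simp
      rw [h1]
      refine le_trans (finrank_span_finset_le_card _) ?_
      refine le_trans Finset.card_image_le ?_
      rw [Fin.card_Iio]
    -- project to the first `l + 1` coordinates
    have hl1 : (l : ℕ) + 1 ≤ n + 1 := l.2
    let π : (Fin (n + 1) → k) →ₗ[k] (Fin ((l : ℕ) + 1) → k) :=
      LinearMap.funLeft k k (Fin.castLE hl1)
    have hπrank : Module.finrank k (W.map π) < (l : ℕ) + 1 :=
      lt_of_le_of_lt (le_trans (Submodule.finrank_map_le π W) hWrank) (Nat.lt_succ_self _)
    have hπne : W.map π ≠ ⊤ := by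
      intro htop
      rw [htop, finrank_top, Module.finrank_fin_fun] at hπrank
      exact lt_irrefl _ hπrank
    obtain ⟨f, hf0, hf⟩ := Submodule.exists_le_ker_of_lt_top _ (lt_top_iff_ne_top.mpr hπne)
    apply hf0
    set μ : Fin ((l : ℕ) + 1) → k := fun i => f (Pi.single i 1) with hμ
    have hfμ : ∀ w : Fin ((l : ℕ) + 1) → k, f w = ∑ i, μ i * w i := by
      intro w
      conv_lhs => rw [← Finset.univ_sum_single w]
      rw [map_sum]
      refine Finset.sum_congr rfl fun i _ => ?_
      have : (Pi.single i (w i) : Fin ((l : ℕ) + 1) → k) = w i • Pi.single i 1 := by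
        rw [← Pi.single_smul, smul_eq_mul, mul_one]
      rw [this, map_smul, smul_eq_mul, mul_comm]
    set a : Fin ((l : ℕ) + 1) → ℕ := fun r => J (Fin.castLE hl1 r) with ha
    have hamono : StrictMono a := by
      intro r r' hrr'
      apply hJ
      exact (Fin.castLE_lt_castLE_iff hl1).mpr hrr'
    have ha0 : a 0 = J 0 := by
      simp only [ha]
      congr 1
    have halast : a (Fin.last l) = J l := by
      simp only [ha]
      congr 1
    have hrel : ∀ m, m + a 0 ≤ a (Fin.last l) → ∑ r, μ r * ((a r).choose m : k) = 0 := by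
      intro m hm
      rw [ha0, halast] at hm
      have h1 : c m ∈ W := Submodule.subset_span ⟨m, by rw [Set.mem_Iio]; omega, rfl⟩
      have h2 := hf (Submodule.mem_map_of_mem h1)
      rw [LinearMap.mem_ker, hfμ] at h2
      exact h2
    have hμ0 := binom_rel_zero a hamono μ hrel
    apply LinearMap.ext
    intro w
    rw [hfμ, hμ0]
    simp
  · -- the determinant
    have hli := jump_li (K := k) c g hgmono hjump
    have hli' : LinearIndependent k (binomMat k J g).col := by
      have : (binomMat k J g).col = fun i => c (g i) := by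
        funext s r
        rfl
      rw [this]
      exact hli
    have hu := Matrix.linearIndependent_cols_iff_isUnit.mp hli'
    exact ((Matrix.isUnit_iff_isUnit_det _).mp hu).ne_zero

end binom

end HasseExp

end Groth.Agent.Lib.helper10
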