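import Mathlib
import Groth.Agent.Lib.Helper10.HasseExp16
import Groth.Agent.S12599

/-!
Existence of the Hasse family of a local parameter, and of the order sequence at a place
(helper10).
-/

set_option autoImplicit false
set_option linter.unusedSectionVars false
set_option linter.unusedVariables false
set_option linter.style.haveILetI false

universe u v

open FunFld WithZero

namespace Groth.Agent.Lib.helper10

namespace HasseExp

variable {k : Type u} {K : Type v} [Field k] [Field K] [Algebra k K]

theorem constantCoeff_subst_of_zero {R : Type*} [CommRing R] (g : PowerSeries R)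
    (hg0 : PowerSeries.constantCoeff g = 0) (f : PowerSeries R) :
    PowerSeries.constantCoeff (f.subst g) = PowerSeries.constantCoeff f := by
  rw [← PowerSeries.coeff_zero_eq_constantCoeff_apply, coeff_subst_eq_sum g hg0,
    Finset.sum_range_one, pow_zero, PowerSeries.coeff_zero_eq_constantCoeff_apply,
    PowerSeries.coeff_zero_eq_constantCoeff_apply, map_one, mul_one]

/-- From the Hasse family of `s` one gets the Hasse family of any `π` with `dπ/ds ≠ 0`. -/
theorem exists_isHasseFamily {s : K} {Hs : K →ₐ[k] PowerSeries K}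
    (hHs : LocRes.IsHasseFamily s Hs) {π : K} (hπ : LocRes.hasseD Hs 1 π ≠ 0) :
    ∃ Hπ : K →ₐ[k] PowerSeries K, LocRes.IsHasseFamily π Hπ := by
  set h : PowerSeries K := Hs π - PowerSeries.C π with hh
  have hh0 : PowerSeries.constantCoeff h = 0 := by
    rw [hh, map_sub, hHs.2, PowerSeries.constantCoeff_C, sub_self]
  have hh1 : PowerSeries.coeff 1 h = LocRes.hasseD Hs 1 π := by
    rw [hh, map_sub, PowerSeries.coeff_C, if_neg one_ne_zero, sub_zero]
    rfl
  have hunit : IsUnit (PowerSeries.coeff 1 h) := by
    rw [hh1]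
    exact isUnit_iff_ne_zero.mpr hπ
  set g : PowerSeries K := PowerSeries.substInvOfIsUnit h hunit with hg
  have hg0 : PowerSeries.constantCoeff g = 0 := PowerSeries.constantCoeff_substInvOfIsUnit h hunit
  have hsub : PowerSeries.HasSubst g := PowerSeries.HasSubst.of_constantCoeff_zero' hg0
  let S : PowerSeries K →ₐ[K] PowerSeries K := PowerSeries.substAlgHom hsub
  have hS : ∀ f, S f = f.subst g := fun f => by
    change PowerSeries.substAlgHom hsub f = _
    rw [PowerSeries.coe_substAlgHom]
  have hSC : ∀ z : K, S (PowerSeries.C z) = PowerSeries.C z := fun z => S.commutes z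
  refine ⟨(S.restrictScalars k).comp Hs, ?_, ?_⟩
  · change S (Hs π) = _
    have e : Hs π = PowerSeries.C π + h := by rw [hh]; ring
    rw [e, map_add, hSC, hS, PowerSeries.subst_substInvOfIsUnit_right h hh0 hunit]
  · intro y
    change PowerSeries.constantCoeff (S (Hs y)) = y
    rw [hS, constantCoeff_subst_of_zero g hg0, hHs.2]

/-- A local parameter has nonzero derivative. -/
theorem hasseD_one_ne_zero_of_uniformizer (hK : IsFunctionField k K) [IsAlgClosed k] {s : K}
    {Hs : K →ₐ[k] PowerSeries K} (hHs : LocRes.IsHasseFamily s Hs) (P : Place k K) {π : K}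
    (hπ : P.1 π = exp (-1 : ℤ)) : LocRes.hasseD Hs 1 π ≠ 0 := by
  obtain ⟨χ, hχ⟩ := exists_expansion' hK P
  have hv : Valued.v (χ π) = exp (-(1 : ℤ)) := by rw [hχ.1, hπ]
  have hD := FF.val_D_eq hv (by simp)
  intro h0
  have := D_expansion_chain hHs hK χ π
  rw [h0, map_zero, zero_mul] at this
  rw [this, map_zero] at hD
  exact exp_ne_zero hD.symm

/-- The Hasse family of a local parameter exists as soon as some Hasse family does. -/
theorem exists_isHasseFamily_uniformizer (hK : IsFunctionField k K) [IsAlgClosed k] {s : K}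
    {Hs : K →ₐ[k] PowerSeries K} (hHs : LocRes.IsHasseFamily s Hs) (P : Place k K) {π : K}
    (hπ : P.1 π = exp (-1 : ℤ)) : ∃ Hπ : K →ₐ[k] PowerSeries K, LocRes.IsHasseFamily π Hπ :=
  exists_isHasseFamily hHs (hasseD_one_ne_zero_of_uniformizer hK hHs P hπ)

/-- Existence of the order sequence at a place. -/
theorem exists_isOrdersAt (hK : IsFunctionField k K) [IsAlgClosed k] (P : Place k K) {n : ℕ}
    (φ : Fin (n + 1) → K) (hφ : LinearIndependent k φ)
    (heff : (1 : K) ∈ Submodule.span k (Set.range φ)) (hnorm : ∀ i, P.1 (φ i) ≤ 1)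
    (t : K) (ht : P.1 t = exp (-1 : ℤ)) (Ht : K →ₐ[k] PowerSeries K)
    (hHt : LocRes.IsHasseFamily t Ht) :
    ∃ J' : Fin n → ℕ, IsOrders (IsLocalRing.ResidueField P.O) (hcolAt P Ht φ) J' := by
  classical
  set κ := IsLocalRing.ResidueField P.O with hκ
  have hrows := Groth.Agent.S12599.result k K hK φ hφ P hnorm t ht Ht hHt
  have hspan : Submodule.span κ (Set.range (hcolAt P Ht φ)) = ⊤ := by
    by_contra hne
    obtain ⟨f, hf0, hf⟩ := Submodule.exists_le_ker_of_lt_top _ (lt_top_iff_ne_top.mpr hne)
    apply hf0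
    set l : Fin (n + 1) → κ := fun i => f (Pi.single i 1) with hl
    have hfl : ∀ w : Fin (n + 1) → κ, f w = ∑ i, l i * w i := by
      intro w
      conv_lhs => rw [← Finset.univ_sum_single w]
      rw [map_sum]
      refine Finset.sum_congr rfl fun i _ => ?_
      have : (Pi.single i (w i) : Fin (n + 1) → κ) = w i • Pi.single i 1 := by
        rw [← Pi.single_smul, smul_eq_mul, mul_one]
      rw [this, map_smul, smul_eq_mul, mul_comm]
    have hrel : ∑ i, l i • (fun j : ℕ => evalP P (LocRes.hasseD Ht j (φ i))) = 0 := by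
      funext j
      have h1 : hcolAt P Ht φ (j + 1) ∈ Submodule.span κ (Set.range (hcolAt P Ht φ)) :=
        Submodule.subset_span ⟨j + 1, rfl⟩
      have h2 := hf h1
      rw [LinearMap.mem_ker, hfl] at h2
      simp only [Finset.sum_apply, Pi.smul_apply, smul_eq_mul, Pi.zero_apply]
      exact h2
    have hl0 : ∀ i, l i = 0 := Fintype.linearIndependent_iff.mp hrows l hrel
    apply LinearMap.ext
    intro w
    rw [hfl]
    simp [hl0]
  have h0 : hcolAt P Ht φ 0 ≠ 0 := by
    obtain ⟨i, hi⟩ := exists_unit_of_one_mem P φ heff hnorm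
    intro h
    have h1 := congrFun h i
    change evalP P (φ i) = 0 at h1
    exact (evalP_ne_zero_iff P (hnorm i)).mpr hi h1
  exact exists_isOrders_of_span_eq_top (K := κ) (hcolAt P Ht φ) hspan h0 (n := n)
    (Module.finrank_fin_fun κ)

end HasseExp

end Groth.Agent.Lib.helper10
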