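import Mathlib
import Groth.Agent.Lib.Helper10.HasseExp17
import Groth.Agent.Lib.Helper10.FunFld20

/-!
Classical orders: nonvanishing of binomial determinants in large characteristic, and the bound of
the orders at a place by the degree of the map (helper10).
-/

set_option autoImplicit false
set_option linter.unusedSectionVars false
set_option linter.unusedVariables false
set_option linter.style.haveILetI false

universe u v

open FunFld WithZero Polynomial

namespace Groth.Agent.Lib.helper10

namespace HasseExp

section binom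

variable (k : Type u) [Field k]

open Nat in
theorem det_binom_ne_zero {N : ℕ} (x : Fin N → ℕ)
    (hinj : Function.Injective (fun r => (x r : k))) :
    (Matrix.of fun r s : Fin N => (((x r).choose (s : ℕ) : ℕ) : k)).det ≠ 0 := by
  have h1 := Matrix.det_eval_matrixOfPolynomials_eq_det_vandermonde (fun r => (x r : k))
    (fun s : Fin N => descPochhammer k s) (fun i => descPochhammer_natDegree k i)
    (fun i => monic_descPochhammer k i)
  have h2 : (Matrix.of fun i j : Fin N => (descPochhammer k j).eval (x i : k)) =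
      (Matrix.of fun r s : Fin N => (((x r).choose (s : ℕ) : ℕ) : k)) *
        Matrix.diagonal (fun s : Fin N => (((s : ℕ)! : ℕ) : k)) := by
    ext r s
    rw [Matrix.mul_diagonal, Matrix.of_apply, Matrix.of_apply, descPochhammer_eval_eq_descFactorial,
      Nat.descFactorial_eq_factorial_mul_choose]
    push_cast
    ring
  have h3 : (Matrix.vandermonde fun r => (x r : k)).det ≠ 0 :=
    Matrix.det_vandermonde_ne_zero_iff.mpr hinj
  rw [h1, h2, Matrix.det_mul] at h3
  exact left_ne_zero_of_mul h3

theorem natCast_injective_of_lt {N : ℕ} (x : Fin N → ℕ) (hx : Function.Injective x)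
    (hchar : ringChar k = 0 ∨ ∀ r, x r < ringChar k) :
    Function.Injective (fun r => (x r : k)) := by
  intro r r' h
  apply hx
  have h1 := (CharP.natCast_eq_natCast k (ringChar k)).mp h
  rcases hchar with h0 | hlt
  · rw [h0] at h1
    exact Nat.modEq_zero_iff.mp h1
  · exact Nat.ModEq.eq_of_lt_of_lt h1 (hlt r) (hlt r')

/-- The determinant of binomial coefficients `C(J r, s)`, `s = 0, …, n-1`. -/
theorem det_binomMat_id_ne_zero {n : ℕ} (J : Fin n → ℕ) (hJ : StrictMono J)
    (hchar : ringChar k = 0 ∨ ∀ r, J r < ringChar k) :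
    (binomMat k J (fun l : Fin n => (l : ℕ))).det ≠ 0 :=
  det_binom_ne_zero k J (natCast_injective_of_lt k J hJ.injective hchar)

/-- The determinant of binomial coefficients `C(J r, s)`, `s = 1, …, n`. -/
theorem det_binomMat_succ_ne_zero {n : ℕ} (J : Fin n → ℕ) (hJ : StrictMono J)
    (hJ1 : ∀ l, 1 ≤ J l)
    (hchar : ringChar k = 0 ∨ ∀ r, J r < ringChar k) :
    (binomMat k J (fun l : Fin n => (l : ℕ) + 1)).det ≠ 0 := by
  set x : Fin (n + 1) → ℕ := Fin.cases 0 J with hx
  have hxmono : StrictMono x := by
    intro a b hab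
    revert hab
    refine Fin.cases ?_ (fun l => ?_) a <;> refine Fin.cases ?_ (fun l' => ?_) b
    · intro h; exact absurd h (lt_irrefl _)
    · intro _
      simp only [hx, Fin.cases_zero, Fin.cases_succ]
      exact hJ1 l'
    · intro h; exact absurd h (Fin.not_lt_zero _)
    · intro h
      simp only [hx, Fin.cases_succ]
      exact hJ (Fin.succ_lt_succ_iff.mp h)
  have hchar' : ringChar k = 0 ∨ ∀ r, x r < ringChar k := by
    rcases Nat.eq_zero_or_pos (ringChar k) with h0 | hpos
    · exact Or.inl h0
    · right
      have h : ∀ r, J r < ringChar k := by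
        rcases hchar with h | h
        · omega
        · exact h
      intro r
      refine Fin.cases ?_ (fun l => ?_) r
      · simp only [hx, Fin.cases_zero]
        exact hpos
      · simp only [hx, Fin.cases_succ]
        exact h l
  have hdet := det_binom_ne_zero k x (natCast_injective_of_lt k x hxmono.injective hchar')
  rw [Matrix.det_succ_row_zero] at hdet
  rw [Finset.sum_eq_single 0] at hdet
  · simp only [Fin.val_zero, pow_zero, one_mul, Matrix.of_apply, hx, Fin.cases_zero,
      Nat.choose_self, Nat.cast_one] at hdet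
    convert hdet using 2
    ext r s
    simp [binomMat, Matrix.submatrix_apply, Fin.succAbove_zero]
  · intro j _ hj
    obtain ⟨j', rfl⟩ := Fin.exists_succ_eq.mpr hj
    simp only [Matrix.of_apply, hx, Fin.cases_zero, Fin.val_succ]
    rw [Nat.choose_zero_succ]
    simp
  · intro h
    exact absurd (Finset.mem_univ _) h

end binom

section bound

variable {k : Type u} {K : Type v} [Field k] [Field K] [Algebra k K]

/-- The orders at a place are bounded by the degree of the map. -/
theorem ordersAt_le_deg (hK : IsFunctionField k K) [IsAlgClosed k] (P : Place k K) {n : ℕ}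
    (φ : Fin (n + 1) → K) (hφ : LinearIndependent k φ)
    (heff : (1 : K) ∈ Submodule.span k (Set.range φ)) (hnorm : ∀ i, P.1 (φ i) ≤ 1)
    (t : K) (ht : P.1 t = exp (-1 : ℤ)) (Ht : K →ₐ[k] PowerSeries K)
    (hHt : LocRes.IsHasseFamily t Ht) (J' : Fin n → ℕ)
    (hJ' : IsOrders (IsLocalRing.ResidueField P.O) (hcolAt P Ht φ) J') (l : Fin n) :
    (J' l : ℤ) ≤ (mapDiv k φ).deg := by
  classical
  obtain ⟨Φ, hΦ, hΦt⟩ := exists_expansion hK P t ht
  have hjump := (hJ'.2 (J' l)).mp ⟨l, rfl⟩
  obtain ⟨-, f, hf, hfv⟩ := (isJump_succ_iff hK hΦ hΦt hHt φ hnorm (J' l)).mp hjump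
  set D := mapDiv k φ with hD
  have hφ0 : ∀ i, φ i ≠ 0 := fun i => hφ.ne_zero i
  have hDP : D P = 0 := mapDiv_eq_zero hK P φ hφ0 hnorm (exists_unit_of_one_mem P φ heff hnorm)
  have hfL : f ∈ L D := FF.span_le_L_mapDiv hK φ hf
  have hf0 : f ≠ 0 := by
    intro h0
    rw [h0, map_zero] at hfv
    exact exp_ne_zero hfv.symm
  set D' : Divisor k K := D - Finsupp.single P ((J' l : ℕ) : ℤ) with hD'
  have hfL' : f ∈ L D' := by
    intro Q
    by_cases hQ : Q = P
    · subst hQ
      rw [hD', Finsupp.sub_apply, Finsupp.single_eq_same, hDP, zero_sub, hfv]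
    · rw [hD', Finsupp.sub_apply, Finsupp.single_eq_of_ne hQ, sub_zero]
      exact hfL Q
  by_contra hlt
  rw [not_le] at hlt
  have hdeg : D'.deg < 0 := by
    rw [hD', FF.deg_sub, FF.deg_single, FF.Place.deg_eq_one hK P]
    push_cast
    omega
  have := FF.L_eq_bot_of_deg_neg hK hdeg
  rw [this, Submodule.mem_bot] at hfL'
  exact hf0 hfL'

end bound

end HasseExp

end Groth.Agent.Lib.helper10
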