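import Mathlib
import Groth.Agent.Lib.Helper10.Tate19
import Groth.Agent.Lib.Helper10.LocRes7
import Groth.Agent.Lib.Helper10.FunFld65

/-!
# Hilbert's different formula (helper10), part 1: separability of coefficient fields for finite
separable extensions of geometric function fields
-/

set_option autoImplicit false
set_option linter.style.haveILetI false
set_option linter.unusedSectionVars false
set_option linter.unusedVariables false

universe u v w

open FunFld LaurentSeries

namespace Groth.Agent.Lib.helper10.Hilb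

open FF RD Tate

section Kaehler

variable {k : Type u} {K : Type v} [Field k] [Field K] [Algebra k K]
  {F : Type w} [Field F] [Algebra k F]

theorem exists_kaehler_eq_smul'' (hΩ : Module.finrank K (Ω[K⁄k]) = 1) {x : K}
    (hx : KaehlerDifferential.D k K x ≠ 0) (x' : K) :
    ∃ u : K, KaehlerDifferential.D k K x' = u • KaehlerDifferential.D k K x := by
  obtain ⟨u, hu⟩ := (finrank_eq_one_iff_of_nonzero' _ hx).mp hΩ (KaehlerDifferential.D k K x')
  exact ⟨u, hu.symm⟩

/-- The coefficient field of an expansion is separable over the constants as soon as the module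
of differentials is one-dimensional. -/
theorem isSeparable_of_isExpansionAt'' (hΩ : Module.finrank K (Ω[K⁄k]) = 1)
    {P : Place k K} {φ : K →ₐ[k] LaurentSeries F} (hφ : LocRes.IsExpansionAt P.1 φ)
    [FiniteDimensional k F] : Algebra.IsSeparable k F := by
  obtain ⟨t, ht⟩ := hφ.2.2
  have hvt : Valued.v (φ t) = WithZero.exp (-(1 : ℤ)) := by rw [hφ.1, ht]
  have hDt := val_D_eq hvt (by simp)
  rw [sub_self, neg_zero, WithZero.exp_zero] at hDt
  have hDt0 : LocRes.D F (φ t) ≠ 0 := by
    intro h
    rw [h, Valuation.map_zero] at hDt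
    exact zero_ne_one hDt
  have hdt0 := kaehler_D_ne_zero_of φ hDt0
  have hder : ∀ (δ : Derivation k F F) (a : F), δ a = 0 := by
    intro δ a
    obtain ⟨z, hz1, hz0⟩ := hφ.2.1 a
    obtain ⟨z', hz'⟩ := exists_kaehler_eq_smul'' hΩ hdt0 z
    have e1 := D_eq_mul_of_kaehler hz' φ
    have e2 := coeffDer_eq_mul_of_kaehler δ hz' φ
    have hcross : coeffDer δ (φ z) * LocRes.D F (φ t) = LocRes.D F (φ z) * coeffDer δ (φ t) := by
      rw [e1, e2]
      ring
    have h1 : Valued.v (coeffDer δ (φ t)) ≤ WithZero.exp (-(1 : ℤ)) := val_coeffDer_le δ hvt.le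
    have h2 : Valued.v (LocRes.D F (φ z)) ≤ 1 := val_D_le_one (by rw [hφ.1]; exact hz1)
    have h3 : Valued.v (coeffDer δ (φ z)) ≤ WithZero.exp (-(1 : ℤ)) := by
      have := congrArg Valued.v hcross
      rw [Valuation.map_mul, hDt, mul_one, Valuation.map_mul] at this
      rw [this]
      calc _ ≤ 1 * WithZero.exp (-(1 : ℤ)) := mul_le_mul' h2 h1
        _ = _ := one_mul _
    rw [valuation_le_iff_coeff_lt_eq_zero] at h3
    have h4 := h3 0 (by norm_num)
    rwa [coeffDer_coeff, hz0] at h4
  have hΩ : Subsingleton (Ω[F⁄k]) := by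
    have hD0 : ∀ a : F, KaehlerDifferential.D k F a = 0 := by
      intro a
      rw [← Module.forall_dual_apply_eq_zero_iff F]
      intro ℓ
      exact hder (ℓ.compDer (KaehlerDifferential.D k F)) a
    have htop := KaehlerDifferential.span_range_derivation k F
    have hbot : Submodule.span F (Set.range (KaehlerDifferential.D k F)) = ⊥ := by
      rw [Submodule.span_eq_bot]
      rintro _ ⟨a, rfl⟩
      exact hD0 a
    rw [hbot] at htop
    exact (Submodule.subsingleton_iff F).mp (subsingleton_of_bot_eq_top htop)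
  haveI : Algebra.FormallyUnramified k F := ⟨hΩ⟩
  exact Algebra.FormallyUnramified.isSeparable k F


/-- The module of differentials stays one-dimensional in a finite separable extension. -/
theorem finrank_kaehler_of_isSeparable {K' : Type v} [Field K'] [Algebra K K'] [Algebra k K']
    [IsScalarTower k K K'] [Algebra.IsSeparable K K']
    (hΩ : Module.finrank K (Ω[K⁄k]) = 1) : Module.finrank K' (Ω[K'⁄k]) = 1 := by
  haveI := Algebra.FormallyEtale.of_isSeparable K K'
  have e := KaehlerDifferential.tensorKaehlerEquivOfFormallyEtale k K K'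
  rw [← e.finrank_eq, Module.finrank_baseChange, hΩ]

end Kaehler

section Nakayama

variable {k : Type u} {K K' : Type v} [Field k] [Field K] [Field K'] [Algebra k K] [Algebra K K']
  [Algebra k K'] [IsScalarTower k K K'] [FiniteDimensional K K'] [Algebra.IsSeparable K K']

/-- **Nakayama**, general residue degree: if `O_P[y]` surjects onto the residue field at `Q` and
contains a local parameter at `Q` which is a unit at the other places over `P`, then some element
of `O_P[y]`, a unit at `Q`, multiplies the semilocal integral closure into `O_P[y]`. -/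
theorem exists_unit_conductor' (hK : IsFunctionField k K) {P : Place k K} [Algebra P.O K']
    [IsScalarTower P.O K K'] {Q : Place k K'} (hQP : IsOver Q P)
    {y : K'} (hyint : IsIntegral P.O y) {π : K'} (hπ : π ∈ Algebra.adjoin P.O ({y} : Set K'))
    (hπQ : Q.1 π = WithZero.exp (-1))
    (hπ' : ∀ Q' : Place k K', IsOver Q' P → Q' ≠ Q → Q'.1 π = 1)
    (hres : ∀ z : K', (∀ Q' : Place k K', IsOver Q' P → Q'.1 z ≤ 1) →
      ∃ a ∈ Algebra.adjoin P.O ({y} : Set K'), Q.1 (z - a) < 1) :
    ∃ b ∈ Algebra.adjoin P.O ({y} : Set K'), Q.1 b = 1 ∧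
      ∀ r : K', (∀ Q' : Place k K', IsOver Q' P → Q'.1 r ≤ 1) →
        b * r ∈ Algebra.adjoin P.O ({y} : Set K') := by
  classical
  set S' := Algebra.adjoin P.O ({y} : Set K') with hS'
  have hS'int : ∀ a : S', ∀ Q' : Place k K', IsOver Q' P → Q'.1 (a : K') ≤ 1 := fun a Q' hQ' =>
    val_le_one_of_isIntegral P (isIntegral_of_mem_adjoin P hyint a.2) hQ'
  have hπ0 : π ≠ 0 := by
    rintro rfl
    rw [Valuation.map_zero] at hπQ
    exact WithZero.exp_ne_zero hπQ.symm
  let Rsub : Submodule S' K' :=
    { carrier := {z | ∀ Q' : Place k K', IsOver Q' P → Q'.1 z ≤ 1}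
      add_mem' := fun {a b} ha hb Q' hQ' =>
        le_trans (Valuation.map_add _ _ _) (max_le (ha Q' hQ') (hb Q' hQ'))
      zero_mem' := fun Q' hQ' => by rw [Valuation.map_zero]; exact zero_le
      smul_mem' := fun c z hz Q' hQ' => by
        show Q'.1 ((c : K') * z) ≤ 1
        rw [map_mul]
        exact mul_le_one' (hS'int c Q' hQ') (hz Q' hQ') }
  obtain ⟨T, hT⟩ := exists_finset_span_eq (K' := K') hK P
  have hRfg : Rsub.FG := by
    refine ⟨T, ?_⟩
    apply le_antisymm
    · rw [Submodule.span_le]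
      intro t ht
      exact (hT t).2 (Submodule.subset_span ht)
    · intro z hz
      have := (hT z).1 hz
      exact Submodule.span_le_restrictScalars P.O S' (T : Set K') this
  let one' : Submodule S' K' := 1
  let N : Submodule S' (K' ⧸ one') := Rsub.map one'.mkQ
  have hNfg : N.FG := hRfg.map _
  let sS : S' := ⟨π, hπ⟩
  let I : Ideal S' := Ideal.span {sS}
  have hin : N ≤ I • N := by
    rintro _ ⟨z, hz, rfl⟩
    obtain ⟨a, ha, haz⟩ := hres z hz
    set z1 : K' := (z - a) / π with hz1def
    have hz1 : ∀ Q' : Place k K', IsOver Q' P → Q'.1 z1 ≤ 1 := by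
      intro Q' hQ'
      by_cases hneq : Q' = Q
      · rw [hneq, hz1def, map_div₀, hπQ]
        have h1 := (lt_exp_iff_le_exp_sub_one (Q.1 (z - a)) 0).1
          (by rw [WithZero.exp_zero]; exact haz)
        rw [zero_sub] at h1
        rw [div_le_one₀ WithZero.exp_pos]
        exact h1
      · rw [hz1def, map_div₀, hπ' Q' hQ' hneq, div_one]
        exact le_trans (Valuation.map_sub _ _ _) (max_le (hz Q' hQ') (hS'int ⟨a, ha⟩ Q' hQ'))
    have hdec : z = a + π * z1 := by
      rw [hz1def]
      field_simp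
      ring
    have h1 : one'.mkQ a = 0 := by
      rw [Submodule.mkQ_apply, Submodule.Quotient.mk_eq_zero]
      show _ ∈ (1 : Submodule S' K')
      rw [Submodule.mem_one]
      exact ⟨⟨a, ha⟩, rfl⟩
    have h2 : one'.mkQ (π * z1) = sS • one'.mkQ z1 := by
      rw [← map_smul]
      rfl
    rw [hdec, map_add, h1, zero_add, h2]
    exact Submodule.smul_mem_smul (Ideal.mem_span_singleton_self sS) ⟨z1, hz1, rfl⟩
  obtain ⟨r, hrI, hrN⟩ :=
    Submodule.exists_sub_one_mem_and_smul_eq_zero_of_fg_of_le_smul I N hNfg hin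
  refine ⟨r.1, r.2, ?_, ?_⟩
  · rw [Ideal.mem_span_singleton] at hrI
    obtain ⟨c, hc⟩ := hrI
    have e1 : (r : K') = 1 + π * (c : K') := by
      have := congrArg Subtype.val hc
      simp only [Subalgebra.coe_sub, Subalgebra.coe_one, Subalgebra.coe_mul] at this
      rw [← this]
      ring
    rw [e1]
    apply Valuation.map_one_add_of_lt
    rw [map_mul, hπQ]
    calc WithZero.exp (-1 : ℤ) * Q.1 (c : K') ≤ WithZero.exp (-1 : ℤ) * 1 :=
          mul_le_mul' le_rfl (hS'int c Q hQP)
      _ < 1 := by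
          rw [mul_one, ← WithZero.exp_zero, WithZero.exp_lt_exp]
          norm_num
  · intro z hz
    have h3 := hrN (one'.mkQ z) ⟨z, hz, rfl⟩
    rw [← map_smul, Submodule.mkQ_apply, Submodule.Quotient.mk_eq_zero] at h3
    obtain ⟨a, ha⟩ := Submodule.mem_one.1 h3
    have e2 : (r : K') * z = (a : K') := ha.symm
    rw [e2]
    exact a.2

/-- From a conductor element which is a unit at `Q` to fractions: the valuation ring at `Q` is a
localisation of `O_P[y]`. -/
theorem exists_fraction_of_conductor (hK : IsFunctionField k K) {P : Place k K} [Algebra P.O K']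
    [IsScalarTower P.O K K'] {Q : Place k K'} (hQP : IsOver Q P) {y b : K'}
    (hbQ : Q.1 b = 1)
    (hcond : ∀ r : K', (∀ Q' : Place k K', IsOver Q' P → Q'.1 r ≤ 1) →
      b * r ∈ Algebra.adjoin P.O ({y} : Set K')) {z : K'} (hz : Q.1 z ≤ 1) :
    ∃ a ∈ Algebra.adjoin P.O ({y} : Set K'), ∃ b' ∈ Algebra.adjoin P.O ({y} : Set K'),
      Q.1 b' = 1 ∧ z * b' = a := by
  classical
  set Qs : Finset (Place k K') := (finite_places_over' (E := K') hK P).toFinset with hQsdef
  have hQs : ∀ Q', Q' ∈ Qs ↔ IsOver Q' P := by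
    intro Q'
    rw [hQsdef, Set.Finite.mem_toFinset, Set.mem_setOf_eq]
  have hQmem : Q ∈ Qs := (hQs Q).2 hQP
  obtain ⟨N, hN⟩ := exists_nat_bound Qs fun Q' : Place k K' => Q'.1 z
  obtain ⟨c, hc⟩ := weak_approx_eq Qs (fun _ => (0 : K'))
    (fun Q' => if Q' = Q then 0 else (N : ℤ))
  have hcQ : Q.1 c = 1 := by
    have := hc Q hQmem
    rwa [if_pos rfl, sub_zero, neg_zero, WithZero.exp_zero] at this
  have hcQ' : ∀ Q' : Place k K', IsOver Q' P → Q' ≠ Q → Q'.1 c = WithZero.exp (-(N : ℤ)) := by
    intro Q' hQ' hneq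
    have := hc Q' ((hQs Q').2 hQ')
    rwa [if_neg hneq, sub_zero] at this
  have hc1 : ∀ Q' : Place k K', IsOver Q' P → Q'.1 c ≤ 1 := by
    intro Q' hQ'
    by_cases hneq : Q' = Q
    · rw [hneq, hcQ]
    · rw [hcQ' Q' hQ' hneq, ← WithZero.exp_zero, WithZero.exp_le_exp]
      omega
  have hcz : ∀ Q' : Place k K', IsOver Q' P → Q'.1 (c * z) ≤ 1 := by
    intro Q' hQ'
    rw [map_mul]
    by_cases hneq : Q' = Q
    · rw [hneq, hcQ, one_mul]
      exact hz
    · rw [hcQ' Q' hQ' hneq]
      calc WithZero.exp (-(N : ℤ)) * Q'.1 z ≤ WithZero.exp (-(N : ℤ)) * WithZero.exp (N : ℤ) :=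
            mul_le_mul' le_rfl (hN Q' ((hQs Q').2 hQ'))
        _ = 1 := by rw [← WithZero.exp_add, neg_add_cancel, WithZero.exp_zero]
  refine ⟨b * (c * z), hcond _ hcz, b * c, hcond _ hc1, ?_, by ring⟩
  rw [map_mul, hbQ, hcQ, one_mul]

end Nakayama

end Groth.Agent.Lib.helper10.Hilb
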