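import Mathlib
import Groth.Agent.Lib.Helper10.Hilb1

/-!
# Hilbert's different formula (helper10), part 2: local generators
-/

set_option autoImplicit false
set_option linter.style.haveILetI false
set_option linter.unusedSectionVars false
set_option linter.unusedVariables false

universe u v w

open FunFld LaurentSeries

namespace Groth.Agent.Lib.helper10.Hilb

open FF RD Tate IsLocalRing

section Generator

variable {k : Type u} {K K' : Type v} [Field k] [Field K] [Field K'] [Algebra k K] [Algebra K K']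
  [Algebra k K'] [IsScalarTower k K K']

theorem coe_eval_map {P : Place k K} [Algebra P.O K'] [IsScalarTower P.O K K'] {Q : Place k K'}
    (h : IsOver Q P) (p : Polynomial P.O) (a : Q.O) :
    (((p.map (Place.mapO h)).eval a : Q.O) : K') = Polynomial.aeval (a : K') p := by
  rw [Polynomial.eval_map, Polynomial.aeval_def]
  have e1 : (Q.O.subtype.comp (Place.mapO h) : P.O →+* K') = algebraMap P.O K' := by
    ext z
    show algebraMap K K' z.1 = _
    rw [IsScalarTower.algebraMap_apply P.O K K']
    rfl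
  have := Polynomial.hom_eval₂ p (Place.mapO h) Q.O.subtype a
  rw [e1] at this
  exact this

theorem residue_eval_map {P : Place k K} {Q : Place k K'}
    (h : IsOver Q P) (p : Polynomial P.O) (a : Q.O) :
    residue Q.O ((p.map (Place.mapO h)).eval a) =
      ((p.map (residue P.O)).map (Place.mapRes h).toRingHom).eval (residue Q.O a) := by
  rw [Polynomial.map_map, Polynomial.eval_map, Polynomial.eval_map,
    Polynomial.hom_eval₂]
  rfl

theorem val_eval_sub_le (Q : Place k K') (p : Polynomial Q.O) (a b : Q.O) :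
    Q.1 ((p.eval a - p.eval b : Q.O) : K') ≤ Q.1 ((a - b : Q.O) : K') := by
  obtain ⟨c, hc⟩ := Polynomial.sub_dvd_eval_sub a b p
  rw [hc]
  push_cast
  rw [map_mul]
  exact mul_le_of_le_one_right' c.2

theorem val_aeval_sub_le {P : Place k K} [Algebra P.O K'] [IsScalarTower P.O K K']
    {Q : Place k K'} (h : IsOver Q P) (p : Polynomial P.O) {a b : K'} (ha : Q.1 a ≤ 1)
    (hb : Q.1 b ≤ 1) :
    Q.1 (Polynomial.aeval a p - Polynomial.aeval b p) ≤ Q.1 (a - b) := by
  have := val_eval_sub_le Q (p.map (Place.mapO h)) ⟨a, ha⟩ ⟨b, hb⟩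
  have e1 : (((p.map (Place.mapO h)).eval ⟨a, ha⟩ - (p.map (Place.mapO h)).eval ⟨b, hb⟩ : Q.O) : K')
      = Polynomial.aeval a p - Polynomial.aeval b p := by
    rw [← coe_eval_map h p ⟨a, ha⟩, ← coe_eval_map h p ⟨b, hb⟩]
    rfl
  rw [e1] at this
  exact this

theorem exists_local_generator [FiniteDimensional K K'] (hK : IsFunctionField k K)
    {P : Place k K} [Algebra P.O K'] [IsScalarTower P.O K K'] {Q : Place k K'} (hQP : IsOver Q P)
    [hsep : Algebra.IsSeparable k (ResidueField Q.O)] :
    ∃ y : K', IsIntegral P.O y ∧ ∃ π ∈ Algebra.adjoin P.O ({y} : Set K'),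
      Q.1 π = WithZero.exp (-1) ∧
      (∀ Q' : Place k K', IsOver Q' P → Q' ≠ Q → Q'.1 π = 1) ∧
      ∀ z : K', Q.1 z ≤ 1 → ∃ a ∈ Algebra.adjoin P.O ({y} : Set K'), Q.1 (z - a) < 1 := by
  classical
  obtain ⟨ρ, hρ⟩ : ∃ ρ, ρ = Place.mapRes hQP := ⟨_, rfl⟩
  letI : Algebra (ResidueField P.O) (ResidueField Q.O) := ρ.toRingHom.toAlgebra
  haveI : IsScalarTower k (ResidueField P.O) (ResidueField Q.O) :=
    IsScalarTower.of_algebraMap_eq fun c => (ρ.commutes c).symm
  have hfd : FiniteDimensional k (ResidueField Q.O) := Place.finiteDimensional_residueField' hK Q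
  haveI : FiniteDimensional (ResidueField P.O) (ResidueField Q.O) :=
    @Module.Finite.right k (ResidueField P.O) (ResidueField Q.O) _ _ (Place.algRes P).toModule _ _
      (Place.algRes Q).toModule this hfd
  haveI : Algebra.IsSeparable (ResidueField P.O) (ResidueField Q.O) :=
    Algebra.isSeparable_tower_top_of_isSeparable k (ResidueField P.O) (ResidueField Q.O)
  -- primitive element
  obtain ⟨θ, hθ0, hθ⟩ : ∃ θ : ResidueField Q.O, θ ≠ 0 ∧
      IntermediateField.adjoin (ResidueField P.O) {θ} = ⊤ := by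
    obtain ⟨α, hα⟩ := Field.exists_primitive_element (ResidueField P.O) (ResidueField Q.O)
    by_cases h0 : α = 0
    · refine ⟨1, one_ne_zero, ?_⟩
      rw [← hα, h0, IntermediateField.adjoin_one, IntermediateField.adjoin_zero]
    · exact ⟨α, h0, hα⟩
  have hθint : IsIntegral (ResidueField P.O) θ := Algebra.IsIntegral.isIntegral θ
  obtain ⟨gbar, hgbar⟩ : ∃ g, g = minpoly (ResidueField P.O) θ := ⟨_, rfl⟩
  have hg0 : gbar.coeff 0 ≠ 0 := by
    rw [hgbar]
    exact minpoly.coeff_zero_ne_zero hθint hθ0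
  have hgsep : gbar.Separable := by
    rw [hgbar]
    exact Algebra.IsSeparable.isSeparable (ResidueField P.O) θ
  have hgroot : Polynomial.aeval θ gbar = 0 := by
    rw [hgbar]
    exact minpoly.aeval _ _
  have hgder : Polynomial.aeval θ (Polynomial.derivative gbar) ≠ 0 :=
    hgsep.aeval_derivative_ne_zero hgroot
  obtain ⟨g₁, hg₁⟩ := Polynomial.map_surjective (residue P.O) residue_surjective gbar
  have hamap : algebraMap (ResidueField P.O) (ResidueField Q.O) =
      (Place.mapRes hQP).toRingHom := by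
    rw [← hρ]
    rfl
  have hres_eval : ∀ (p : Polynomial P.O) (a : Q.O),
      residue Q.O ((p.map (Place.mapO hQP)).eval a) =
        Polynomial.aeval (residue Q.O a) (p.map (residue P.O)) := by
    intro p a
    rw [residue_eval_map, Polynomial.aeval_def, Polynomial.eval_map, hamap]
  obtain ⟨θQ, hθQ⟩ := residue_surjective θ
  obtain ⟨s, hs⟩ := Place.exists_uniformizer Q
  have hs1 : Q.1 s ≤ 1 := by
    rw [hs, ← WithZero.exp_zero, WithZero.exp_le_exp]
    norm_num
  obtain ⟨GQ, hGQ⟩ : ∃ G, G = g₁.map (Place.mapO hQP) := ⟨_, rfl⟩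
  have hroot : ∀ a : Q.O, residue Q.O a = θ → Q.1 ((GQ.eval a : Q.O) : K') < 1 := by
    intro a ha
    rw [← Place.residue_eq_zero_iff, hGQ, hres_eval, ha, hg₁, hgroot]
  have hder : ∀ a : Q.O, residue Q.O a = θ →
      Q.1 (((Polynomial.derivative GQ).eval a : Q.O) : K') = 1 := by
    intro a ha
    have h1 : residue Q.O ((Polynomial.derivative GQ).eval a) ≠ 0 := by
      rw [hGQ, Polynomial.derivative_map, hres_eval, ha, ← Polynomial.derivative_map, hg₁]
      exact hgder
    have h2 : Q.1 (((Polynomial.derivative GQ).eval a : Q.O) : K') ≤ 1 :=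
      ((Polynomial.derivative GQ).eval a).2
    rw [Ne, Place.residue_eq_zero_iff, not_lt] at h1
    exact le_antisymm h2 h1
  obtain ⟨θ', hθ'res, hθ'val⟩ : ∃ θ' : Q.O, residue Q.O θ' = θ ∧
      Q.1 ((GQ.eval θ' : Q.O) : K') = WithZero.exp (-1) := by
    by_cases hcase : Q.1 ((GQ.eval θQ : Q.O) : K') = WithZero.exp (-1)
    · exact ⟨θQ, hθQ, hcase⟩
    · have hlt := hroot θQ hθQ
      have hle2 : Q.1 ((GQ.eval θQ : Q.O) : K') ≤ WithZero.exp (-2) := by
        have h1 := (lt_exp_iff_le_exp_sub_one _ 0).1 (by rw [WithZero.exp_zero]; exact hlt)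
        rw [zero_sub] at h1
        have h2 := lt_of_le_of_ne h1 hcase
        have h3 := (lt_exp_iff_le_exp_sub_one _ (-1)).1 h2
        norm_num at h3
        exact h3
      let sQ : Q.O := ⟨s, hs1⟩
      refine ⟨θQ + sQ, ?_, ?_⟩
      · rw [map_add, hθQ]
        have : residue Q.O sQ = 0 := by
          rw [Place.residue_eq_zero_iff]
          show Q.1 s < 1
          rw [hs, ← WithZero.exp_zero, WithZero.exp_lt_exp]
          norm_num
        rw [this, add_zero]
      · obtain ⟨c, hc⟩ := Polynomial.binomExpansion GQ θQ sQ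
        rw [hc]
        have hb := hder θQ hθQ
        have e0 : ((GQ.eval θQ + (Polynomial.derivative GQ).eval θQ * sQ + c * sQ ^ 2 : Q.O) : K')
            = ((GQ.eval θQ : Q.O) : K') + (c : K') * s ^ 2 +
              (((Polynomial.derivative GQ).eval θQ : Q.O) : K') * s := by
          push_cast
          ring
        have e1 : Q.1 ((((Polynomial.derivative GQ).eval θQ : Q.O) : K') * s) =
            WithZero.exp (-1) := by
          rw [map_mul, hb, one_mul, hs]
        have e2 : Q.1 ((c : K') * s ^ 2) ≤ WithZero.exp (-2) := by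
          rw [map_mul, map_pow, hs, ← WithZero.exp_nsmul]
          calc Q.1 (c : K') * WithZero.exp ((2 : ℕ) • (-1 : ℤ)) ≤
              1 * WithZero.exp ((2 : ℕ) • (-1 : ℤ)) := mul_le_mul' c.2 le_rfl
            _ = WithZero.exp (-2) := by
              rw [one_mul]
              norm_num
        have e3 : Q.1 (((GQ.eval θQ : Q.O) : K') + (c : K') * s ^ 2) < WithZero.exp (-1) := by
          refine lt_of_le_of_lt (le_trans (Valuation.map_add _ _ _) (max_le hle2 e2)) ?_
          rw [WithZero.exp_lt_exp]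
          norm_num
        rw [e0, Valuation.map_add_eq_of_lt_right Q.1 (by rw [e1]; exact e3), e1]
  -- the generator
  set Qs : Finset (Place k K') := (finite_places_over' (E := K') hK P).toFinset with hQsdef
  have hQs : ∀ Q', Q' ∈ Qs ↔ IsOver Q' P := by
    intro Q'
    rw [hQsdef, Set.Finite.mem_toFinset, Set.mem_setOf_eq]
  obtain ⟨y, hy⟩ := weak_approx_eq Qs (fun Q' => if Q' = Q then (θ' : K') else 0)
    (fun Q' => if Q' = Q then 2 else 1)
  have hyQ : Q.1 (y - (θ' : K')) = WithZero.exp (-2) := by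
    have := hy Q ((hQs Q).2 hQP)
    simpa using this
  have hyQ' : ∀ Q' : Place k K', IsOver Q' P → Q' ≠ Q → Q'.1 y = WithZero.exp (-1) := by
    intro Q' hQ' hne
    have := hy Q' ((hQs Q').2 hQ')
    simpa [hne] using this
  have hy1 : Q.1 y ≤ 1 := by
    have e1 : y = (y - (θ' : K')) + (θ' : K') := by ring
    rw [e1]
    refine le_trans (Valuation.map_add _ _ _) (max_le ?_ θ'.2)
    rw [hyQ, ← WithZero.exp_zero, WithZero.exp_le_exp]
    norm_num
  have hyint : IsIntegral P.O y := by
    apply isIntegral_of_val_le_one hK P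
    intro Q' hQ'
    by_cases hne : Q' = Q
    · rw [hne]
      exact hy1
    · rw [hyQ' Q' hQ' hne, ← WithZero.exp_zero, WithZero.exp_le_exp]
      norm_num
  have hyres : residue Q.O ⟨y, hy1⟩ = θ := by
    rw [← hθ'res]
    apply residue_eq_of_val_sub_lt Q hy1 θ'.2
    rw [hyQ, ← WithZero.exp_zero, WithZero.exp_lt_exp]
    norm_num
  refine ⟨y, hyint, Polynomial.aeval y g₁, Polynomial.aeval_mem_adjoin_singleton _ _, ?_, ?_, ?_⟩
  · have h1 := val_aeval_sub_le hQP g₁ hy1 θ'.2
    rw [hyQ] at h1
    have h2 : Q.1 (Polynomial.aeval (θ' : K') g₁) = WithZero.exp (-1) := by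
      rw [← coe_eval_map hQP, ← hGQ, hθ'val]
    have e1 : Polynomial.aeval y g₁ =
        (Polynomial.aeval y g₁ - Polynomial.aeval (θ' : K') g₁) + Polynomial.aeval (θ' : K') g₁ := by
      ring
    rw [e1, Valuation.map_add_eq_of_lt_right Q.1, h2]
    rw [h2]
    refine lt_of_le_of_lt h1 ?_
    rw [WithZero.exp_lt_exp]
    norm_num
  · intro Q' hQ' hne
    have hy1' : Q'.1 y ≤ 1 := by
      rw [hyQ' Q' hQ' hne, ← WithZero.exp_zero, WithZero.exp_le_exp]
      norm_num
    have h1 := val_aeval_sub_le hQ' g₁ hy1' (b := 0) (by rw [Valuation.map_zero]; exact zero_le)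
    rw [sub_zero, hyQ' Q' hQ' hne] at h1
    have h2 : Q'.1 (Polynomial.aeval (0 : K') g₁) = 1 := by
      rw [← Polynomial.coeff_zero_eq_aeval_zero', IsScalarTower.algebraMap_apply P.O K K']
      obtain ⟨e', he'⟩ := hQ'
      rw [he']
      have h3 : P.1 ((g₁.coeff 0 : P.O) : K) = 1 := by
        have h4 : residue P.O (g₁.coeff 0) ≠ 0 := by
          rw [← Polynomial.coeff_map, hg₁]
          exact hg0
        rw [Ne, Place.residue_eq_zero_iff, not_lt] at h4
        exact le_antisymm (g₁.coeff 0).2 h4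
      show P.1 ((g₁.coeff 0 : P.O) : K) ^ e' = 1
      rw [h3, one_pow]
    have e1 : Polynomial.aeval y g₁ =
        (Polynomial.aeval y g₁ - Polynomial.aeval (0 : K') g₁) + Polynomial.aeval (0 : K') g₁ := by
      ring
    rw [e1, Valuation.map_add_eq_of_lt_right Q'.1, h2]
    rw [h2]
    refine lt_of_le_of_lt h1 ?_
    rw [← WithZero.exp_zero, WithZero.exp_lt_exp]
    norm_num
  · intro z hz
    have hw : residue Q.O ⟨z, hz⟩ ∈
        (IntermediateField.adjoin (ResidueField P.O) {θ}).toSubalgebra := by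
      rw [hθ]
      trivial
    rw [IntermediateField.adjoin_simple_toSubalgebra_of_isAlgebraic hθint.isAlgebraic,
      Algebra.adjoin_singleton_eq_range_aeval] at hw
    obtain ⟨qbar, hq⟩ := hw
    obtain ⟨q, hq'⟩ := Polynomial.map_surjective (residue P.O) residue_surjective qbar
    refine ⟨Polynomial.aeval y q, Polynomial.aeval_mem_adjoin_singleton _ _, ?_⟩
    have ha1 : Q.1 (Polynomial.aeval y q) ≤ 1 := by
      rw [← coe_eval_map hQP q ⟨y, hy1⟩]
      exact ((q.map (Place.mapO hQP)).eval ⟨y, hy1⟩).2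
    apply val_sub_lt_of_residue_eq Q hz ha1
    have e1 : (⟨Polynomial.aeval y q, ha1⟩ : Q.O) = (q.map (Place.mapO hQP)).eval ⟨y, hy1⟩ :=
      Subtype.ext (coe_eval_map hQP q ⟨y, hy1⟩).symm
    rw [e1, hres_eval, hyres, hq']
    exact hq.symm

/-- The valuation ring at a place with separable residue field is a localisation of a monogenic
order over the valuation ring below. -/
theorem exists_monogenic [FiniteDimensional K K'] [Algebra.IsSeparable K K']
    (hK : IsFunctionField k K) {P : Place k K} [Algebra P.O K'] [IsScalarTower P.O K K']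
    {Q : Place k K'} (hQP : IsOver Q P) [hsep : Algebra.IsSeparable k (ResidueField Q.O)] :
    ∃ y : K', IntermediateField.adjoin K ({y} : Set K') = ⊤ ∧ IsIntegral P.O y ∧
      ∀ z : K', Q.1 z ≤ 1 → ∃ a ∈ Algebra.adjoin P.O ({y} : Set K'),
        ∃ b ∈ Algebra.adjoin P.O ({y} : Set K'), Q.1 b = 1 ∧ z * b = a := by
  obtain ⟨y, hyint, π, hπ, hπQ, hπ', hres⟩ := exists_local_generator hK hQP
  obtain ⟨b, hb, hbQ, hcond⟩ := exists_unit_conductor' hK hQP hyint hπ hπQ hπ'
    (fun z hz => hres z (hz Q hQP))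
  have hb0 : b ≠ 0 := by
    rintro rfl
    rw [Valuation.map_zero] at hbQ
    exact zero_ne_one hbQ
  exact ⟨y, adjoin_eq_top_of_conductor hb0 hb hcond, hyint,
    fun z hz => exists_fraction_of_conductor hK hQP hbQ hcond hz⟩

end Generator

end Groth.Agent.Lib.helper10.Hilb
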