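import Mathlib
import Groth.Agent.Lib.Helper10.Hilb2

/-!
# Hilbert's different formula (helper10), part 3: the Galois computation
-/

set_option autoImplicit false
set_option linter.style.haveILetI false
set_option linter.unusedSectionVars false
set_option linter.unusedVariables false

universe u v w

open FunFld LaurentSeries

namespace Groth.Agent.Lib.helper10.Hilb

open FF RD Tate IsLocalRing Polynomial

section Galois

variable {K K' : Type v} [Field K] [Field K'] [Algebra K K'] [FiniteDimensional K K']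
  [IsGalois K K']

theorem apply_injective_of_adjoin_eq_top {y : K'}
    (hy : IntermediateField.adjoin K ({y} : Set K') = ⊤) :
    Function.Injective (fun σ : K' ≃ₐ[K] K' => σ y) := by
  intro σ τ h
  have hyalg : IsAlgebraic K y := Algebra.IsAlgebraic.isAlgebraic y
  have h1 : Algebra.adjoin K ({y} : Set K') = ⊤ := by
    rw [← IntermediateField.adjoin_simple_toSubalgebra_of_isAlgebraic hyalg, hy,
      IntermediateField.top_toSubalgebra]
  have h2 : (σ : K' →ₐ[K] K') = (τ : K' →ₐ[K] K') := by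
    apply AlgHom.ext_of_adjoin_eq_top h1
    intro x hx
    rw [Set.mem_singleton_iff] at hx
    rw [hx]
    exact h
  ext z
  exact DFunLike.congr_fun h2 z

theorem map_minpoly_eq_prod {y : K'} (hy : IntermediateField.adjoin K ({y} : Set K') = ⊤) :
    (minpoly K y).map (algebraMap K K') = ∏ σ : K' ≃ₐ[K] K', (X - C (σ y)) := by
  classical
  have hyint : IsIntegral K y := Algebra.IsIntegral.isIntegral y
  have hinj := apply_injective_of_adjoin_eq_top hy
  have hmonic : ((minpoly K y).map (algebraMap K K')).Monic := (minpoly.monic hyint).map _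
  refine eq_of_monic_of_dvd_of_natDegree_le (monic_prod_X_sub_C _ _) hmonic ?_ ?_
  · apply Finset.prod_dvd_of_coprime
    · intro σ _ τ _ hne
      exact pairwise_coprime_X_sub_C hinj hne
    · intro σ _
      rw [dvd_iff_isRoot, IsRoot.def, eval_map_algebraMap]
      have h1 := Polynomial.aeval_algHom_apply (σ : K' →ₐ[K] K') y (minpoly K y)
      rw [minpoly.aeval, map_zero] at h1
      exact h1
  · rw [natDegree_prod_of_monic _ _ fun σ _ => monic_X_sub_C _]
    simp only [natDegree_X_sub_C, Finset.sum_const, Finset.card_univ, smul_eq_mul, mul_one]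
    rw [(minpoly.monic hyint).natDegree_map, ← IntermediateField.adjoin.finrank hyint, hy,
      IntermediateField.finrank_top', ← IsGalois.card_aut_eq_finrank, Nat.card_eq_fintype_card]

theorem aeval_derivative_minpoly_eq_prod {y : K'}
    (hy : IntermediateField.adjoin K ({y} : Set K') = ⊤) [DecidableEq (K' ≃ₐ[K] K')] :
    aeval y (derivative (minpoly K y)) =
      ∏ σ ∈ (Finset.univ : Finset (K' ≃ₐ[K] K')).erase 1, (y - σ y) := by
  rw [← eval_map_algebraMap, ← derivative_map, map_minpoly_eq_prod hy, derivative_prod_finset,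
    eval_finsetSum]
  rw [Finset.sum_eq_single (1 : K' ≃ₐ[K] K')]
  · simp [eval_prod]
  · intro σ _ hσ
    rw [eval_mul, eval_prod]
    have : (1 : K' ≃ₐ[K] K') ∈ Finset.univ.erase σ := Finset.mem_erase.2 ⟨hσ.symm, Finset.mem_univ _⟩
    rw [Finset.prod_eq_zero this, zero_mul]
    simp
  · intro h
    exact absurd (Finset.mem_univ _) h

end Galois

section Ram

variable {k : Type u} {K K' : Type v} [Field k] [Field K] [Field K'] [Algebra k K] [Algebra K K']
  [Algebra k K'] [IsScalarTower k K K']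

/-- If `O_Q` is a localisation of `O_P[y]`, an automorphism moves every element of `O_Q` at most as
much as it moves `y`. -/
theorem val_apply_sub_le_of_generator {P : Place k K} [Algebra P.O K'] [IsScalarTower P.O K K']
    {Q : Place k K'} (hQP : IsOver Q P) {y : K'} (hy1 : Q.1 y ≤ 1)
    (hloc : ∀ z : K', Q.1 z ≤ 1 → ∃ a ∈ Algebra.adjoin P.O ({y} : Set K'),
      ∃ b ∈ Algebra.adjoin P.O ({y} : Set K'), Q.1 b = 1 ∧ z * b = a)
    (σ : K' ≃ₐ[K] K') {ε : WithZero (Multiplicative ℤ)} (hε : ε < 1) (hσ : Q.1 (σ y - y) ≤ ε)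
    {z : K'} (hz : Q.1 z ≤ 1) : Q.1 (σ z - z) ≤ ε := by
  have hσy1 : Q.1 (σ y) ≤ 1 := by
    have e1 : σ y = (σ y - y) + y := by ring
    rw [e1]
    exact le_trans (Valuation.map_add _ _ _) (max_le (le_trans hσ hε.le) hy1)
  have step1 : ∀ a ∈ Algebra.adjoin P.O ({y} : Set K'), Q.1 (σ a - a) ≤ ε ∧ Q.1 a ≤ 1 := by
    intro a ha
    rw [Algebra.adjoin_singleton_eq_range_aeval] at ha
    obtain ⟨p, hp⟩ := ha
    have hp' : aeval y p = a := hp
    rw [← hp']
    have e1 : σ (aeval y p) = aeval (σ y) p :=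
      (Polynomial.aeval_algHom_apply ((σ : K' →ₐ[K] K').restrictScalars P.O) y p).symm
    constructor
    · rw [e1]
      exact le_trans (val_aeval_sub_le hQP p hσy1 hy1) hσ
    · rw [← coe_eval_map hQP p ⟨y, hy1⟩]
      exact ((p.map (Place.mapO hQP)).eval ⟨y, hy1⟩).2
  obtain ⟨a, ha, b, hb, hbQ, hab⟩ := hloc z hz
  obtain ⟨ha1, ha2⟩ := step1 a ha
  obtain ⟨hb1, hb2⟩ := step1 b hb
  have hσb : Q.1 (σ b) = 1 := by
    have e1 : σ b = b + (σ b - b) := by ring
    rw [e1, Valuation.map_add_eq_of_lt_left Q.1, hbQ]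
    rw [hbQ]
    exact lt_of_le_of_lt hb1 hε
  have hb0 : b ≠ 0 := by
    rintro rfl
    rw [Valuation.map_zero] at hbQ
    exact zero_ne_one hbQ
  have hσb0 : σ b ≠ 0 := by
    intro h
    rw [h, Valuation.map_zero] at hσb
    exact zero_ne_one hσb
  have e2 : σ z - z = ((σ a - a) * b - a * (σ b - b)) / (σ b * b) := by
    have hz' : z = a / b := by
      rw [← hab]
      field_simp
    rw [hz', map_div₀]
    field_simp
    ring
  rw [e2, map_div₀, map_mul, hσb, hbQ, mul_one, div_one]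
  refine le_trans (Valuation.map_sub _ _ _) (max_le ?_ ?_)
  · rw [map_mul, hbQ, mul_one]
    exact ha1
  · rw [map_mul]
    calc Q.1 a * Q.1 (σ b - b) ≤ 1 * ε := mul_le_mul' ha2 hb1
      _ = ε := one_mul _

end Ram

section Count

variable {k : Type u} {K K' : Type v} [Field k] [Field K] [Field K'] [Algebra k K] [Algebra K K']
  [Algebra k K'] [IsScalarTower k K K'] [FiniteDimensional K K'] [IsGalois K K']

/-- The counting step in Hilbert's formula. -/
theorem ord_derivative_eq_finsum (Q : Place k K') {y : K'}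
    (hy : IntermediateField.adjoin K ({y} : Set K') = ⊤)
    (hσy : ∀ σ : K' ≃ₐ[K] K', Q.1 (σ y) ≤ 1)
    (hcrit : ∀ i : ℕ, 1 ≤ i → ∀ σ : K' ≃ₐ[K] K',
      (∀ z : K', Q.1 z ≤ 1 → Q.1 (σ z - z) ≤ WithZero.exp (-(i : ℤ))) ↔
        Q.1 (σ y - y) ≤ WithZero.exp (-(i : ℤ))) :
    (Function.support fun i : ℕ => (Nat.card {σ : K' ≃ₐ[K] K' //
        ∀ z : K', Q.1 z ≤ 1 → Q.1 (σ z - z) ≤ WithZero.exp (-(i : ℤ))} : ℤ) - 1).Finite ∧
    Q.ord (aeval y (derivative (minpoly K y))) = ∑ᶠ i : ℕ, if 1 ≤ i then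
      (Nat.card {σ : K' ≃ₐ[K] K' //
        ∀ z : K', Q.1 z ≤ 1 → Q.1 (σ z - z) ≤ WithZero.exp (-(i : ℤ))} : ℤ) - 1
      else 0 := by
  classical
  have hinj := apply_injective_of_adjoin_eq_top hy
  obtain ⟨n, hn⟩ : ∃ n : (K' ≃ₐ[K] K') → ℤ, n = fun σ => Q.ord (y - σ y) := ⟨_, rfl⟩
  have hne : ∀ σ : K' ≃ₐ[K] K', σ ≠ 1 → y - σ y ≠ 0 := by
    intro σ hσ h
    apply hσ
    apply hinj
    show σ y = (1 : K' ≃ₐ[K] K') y
    rw [AlgEquiv.one_apply]
    exact (sub_eq_zero.1 h).symm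
  have hy1 : Q.1 y ≤ 1 := by
    have := hσy 1
    rwa [AlgEquiv.one_apply] at this
  have hn0 : ∀ σ, σ ≠ 1 → 0 ≤ n σ := by
    intro σ hσ
    rw [hn]
    apply Place.ord_nonneg_of_val_le_one
    exact le_trans (Valuation.map_sub _ _ _) (max_le hy1 (hσy σ))
  have hiff : ∀ (i : ℕ) (σ : K' ≃ₐ[K] K'), σ ≠ 1 →
      (Q.1 (σ y - y) ≤ WithZero.exp (-(i : ℤ)) ↔ (i : ℤ) ≤ n σ) := by
    intro i σ hσ
    rw [Valuation.map_sub_swap, Place.val_eq_exp_neg_ord Q (hne σ hσ), WithZero.exp_le_exp,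
      neg_le_neg_iff, hn]
  have hcount : ∀ i : ℕ, 1 ≤ i → (Nat.card {σ : K' ≃ₐ[K] K' //
        ∀ z : K', Q.1 z ≤ 1 → Q.1 (σ z - z) ≤ WithZero.exp (-(i : ℤ))} : ℤ) - 1
      = ∑ σ ∈ (Finset.univ : Finset (K' ≃ₐ[K] K')).erase 1, if (i : ℤ) ≤ n σ then 1 else 0 := by
    intro i hi
    have e1 : Nat.card {σ : K' ≃ₐ[K] K' //
        ∀ z : K', Q.1 z ≤ 1 → Q.1 (σ z - z) ≤ WithZero.exp (-(i : ℤ))} =
        (Finset.univ.filter fun σ : K' ≃ₐ[K] K' =>
          Q.1 (σ y - y) ≤ WithZero.exp (-(i : ℤ))).card := by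
      rw [Nat.card_congr (Equiv.subtypeEquivRight (hcrit i hi)), Nat.card_eq_fintype_card,
        Fintype.card_subtype]
    rw [e1]
    have h1mem : (1 : K' ≃ₐ[K] K') ∈ Finset.univ.filter fun σ : K' ≃ₐ[K] K' =>
        Q.1 (σ y - y) ≤ WithZero.exp (-(i : ℤ)) := by
      simp
    rw [← Finset.card_erase_add_one h1mem]
    push_cast
    rw [add_sub_cancel_right, Finset.sum_boole]
    congr 2
    ext σ
    simp only [Finset.mem_erase, Finset.mem_filter, Finset.mem_univ, true_and, and_true]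
    constructor
    · rintro ⟨hσ1, hσ⟩
      exact ⟨hσ1, (hiff i σ hσ1).1 hσ⟩
    · rintro ⟨hσ1, hσ⟩
      exact ⟨hσ1, (hiff i σ hσ1).2 hσ⟩
  obtain ⟨N, hN⟩ : ∃ N : ℕ, N = (∑ σ ∈ (Finset.univ : Finset (K' ≃ₐ[K] K')).erase 1, n σ).toNat :=
    ⟨_, rfl⟩
  have hnN : ∀ σ ∈ (Finset.univ : Finset (K' ≃ₐ[K] K')).erase 1, n σ ≤ N := by
    intro σ hσ
    have h1 := Finset.single_le_sum (f := n)
      (fun τ hτ => hn0 τ (Finset.ne_of_mem_erase hτ)) hσ
    have h2 : 0 ≤ ∑ σ ∈ (Finset.univ : Finset (K' ≃ₐ[K] K')).erase 1, n σ :=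
      Finset.sum_nonneg (fun τ hτ => hn0 τ (Finset.ne_of_mem_erase hτ))
    rw [hN, Int.toNat_of_nonneg h2]
    exact h1
  have hzero : ∀ i : ℕ, N < i → (Nat.card {σ : K' ≃ₐ[K] K' //
        ∀ z : K', Q.1 z ≤ 1 → Q.1 (σ z - z) ≤ WithZero.exp (-(i : ℤ))} : ℤ) - 1 = 0 := by
    intro i hi
    have hi1 : 1 ≤ i := by omega
    rw [hcount i hi1]
    apply Finset.sum_eq_zero
    intro σ hσ
    rw [if_neg]
    have := hnN σ hσ
    omega
  constructor
  · apply (Finset.range (N + 1)).finite_toSet.subset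
    intro i hi
    rw [Function.mem_support] at hi
    rw [Finset.coe_range, Set.mem_Iio]
    by_contra h
    exact hi (hzero i (by omega))
  · rw [aeval_derivative_minpoly_eq_prod hy,
      Place.ord_prod Q _ _ (fun σ hσ => hne σ (Finset.ne_of_mem_erase hσ))]
    rw [finsum_eq_sum_of_support_subset (s := Finset.range (N + 1))]
    swap
    · intro i hi
      rw [Function.mem_support] at hi
      rw [Finset.coe_range, Set.mem_Iio]
      by_contra h
      apply hi
      rw [if_pos (by omega)]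
      exact hzero i (by omega)
    have e1 : ∀ i ∈ Finset.range (N + 1), (if 1 ≤ i then (Nat.card {σ : K' ≃ₐ[K] K' //
          ∀ z : K', Q.1 z ≤ 1 → Q.1 (σ z - z) ≤ WithZero.exp (-(i : ℤ))} : ℤ) - 1 else 0) =
        ∑ σ ∈ (Finset.univ : Finset (K' ≃ₐ[K] K')).erase 1,
          if (1 ≤ i ∧ (i : ℤ) ≤ n σ) then (1 : ℤ) else 0 := by
      intro i _
      by_cases hi : 1 ≤ i
      · rw [if_pos hi, hcount i hi]
        simp [hi]
      · rw [if_neg hi]
        simp [hi]
    rw [Finset.sum_congr rfl e1, Finset.sum_comm]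
    apply Finset.sum_congr rfl
    intro σ hσ
    have h0 := hn0 σ (Finset.ne_of_mem_erase hσ)
    have hN' := hnN σ hσ
    have hnσ : Q.ord (y - σ y) = n σ := by rw [hn]
    rw [hnσ, Finset.sum_boole]
    have : (Finset.range (N + 1)).filter (fun i : ℕ => 1 ≤ i ∧ (i : ℤ) ≤ n σ) =
        Finset.Icc 1 (n σ).toNat := by
      ext i
      simp only [Finset.mem_filter, Finset.mem_range, Finset.mem_Icc]
      omega
    rw [this, Nat.card_Icc]
    simp
    omega

end Count

end Groth.Agent.Lib.helper10.Hilb
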