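import Mathlib

/-!
# Modules killed by a maximal ideal: extension of maps and length of Hom (helper10, S16417)
-/

set_option autoImplicit false
set_option linter.style.haveILetI false
set_option linter.unusedSectionVars false

universe u v w

namespace Groth.Agent.Lib.helper10.HomLen

open Module

section Kill
variable {W : Type u} [CommRing W] (I : Ideal W) [hI : I.IsMaximal]

/-- the length over `W` of the `W`-linear maps between two modules killed by a maximal ideal. -/
theorem homLen {Y : Type v} {Q : Type w} [AddCommGroup Y] [Module W Y] [AddCommGroup Q] [Module W Q]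
    (hY : Module.IsTorsionBySet W Y I) (hQ : Module.IsTorsionBySet W Q I) (s r : ℕ)
    (hs : Module.length W Y = s) (hr : Module.length W Q = r) :
    Module.length W (Y →ₗ[W] Q) = (s * r : ℕ) := by
  letI : Field (W ⧸ I) := Ideal.Quotient.field I
  letI : Module (W ⧸ I) Y := hY.module
  letI : Module (W ⧸ I) Q := hQ.module
  haveI : IsScalarTower W (W ⧸ I) Y := hY.isScalarTower
  haveI : IsScalarTower W (W ⧸ I) Q := hQ.isScalarTower
  have hsurj : Function.Surjective (algebraMap W (W ⧸ I)) := Ideal.Quotient.mk_surjective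
  have hsK : Module.length (W ⧸ I) Y = s := by
    rw [← Module.length_eq_of_surjective hsurj, hs]
  have hrK : Module.length (W ⧸ I) Q = r := by
    rw [← Module.length_eq_of_surjective hsurj, hr]
  haveI : Module.Finite (W ⧸ I) Y := by
    have : Module.length (W ⧸ I) Y ≠ ⊤ := by rw [hsK]; exact ENat.natCast_ne_top s
    rw [Module.length_ne_top_iff, isFiniteLength_iff_isNoetherian_isArtinian] at this
    haveI := this.1
    infer_instance
  haveI : Module.Finite (W ⧸ I) Q := by
    have : Module.length (W ⧸ I) Q ≠ ⊤ := by rw [hrK]; exact ENat.natCast_ne_top r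
    rw [Module.length_ne_top_iff, isFiniteLength_iff_isNoetherian_isArtinian] at this
    haveI := this.1
    infer_instance
  rw [(LinearMap.extendScalarsOfSurjectiveEquiv (M := Y) (N := Q) hsurj).length_eq,
    Module.length_eq_of_surjective hsurj, Module.length_eq_finrank, Module.finrank_linearMap]
  rw [Module.length_eq_finrank] at hsK hrK
  have h1 : Module.finrank (W ⧸ I) Y = s := by exact_mod_cast hsK
  have h2 : Module.finrank (W ⧸ I) Q = r := by exact_mod_cast hrK
  rw [h1, h2]

end Kill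

section Ext
variable {W : Type u} [CommRing W] (I : Ideal W) [hI : I.IsMaximal]

/-- A linear map from a submodule `Y ≤ X` to a module killed by the maximal ideal `I`,
vanishing on `Y ∩ I X`, extends to `X`. -/
theorem ext_kill {X : Type v} {Q : Type w} [AddCommGroup X] [Module W X] [AddCommGroup Q]
    [Module W Q] (Y : Submodule W X) (g : Y →ₗ[W] Q)
    (hg : ∀ y : Y, (y : X) ∈ I • (⊤ : Submodule W X) → g y = 0) :
    ∃ g' : X →ₗ[W] Q, ∀ y : Y, g' y = g y := by
  letI : Field (W ⧸ I) := Ideal.Quotient.field I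
  have hsurj : Function.Surjective (algebraMap W (W ⧸ I)) := Ideal.Quotient.mk_surjective
  -- the quotients
  let Z : Submodule W Y := (I • (⊤ : Submodule W X)).comap Y.subtype
  let Yb := Y ⧸ Z
  let Xb := X ⧸ (I • (⊤ : Submodule W X))
  have hYb : Module.IsTorsionBySet W Yb I := by
    intro y a
    obtain ⟨y, rfl⟩ := Z.mkQ_surjective y
    rw [← map_smul, Submodule.mkQ_apply, Submodule.Quotient.mk_eq_zero]
    show Y.subtype ((a : W) • y) ∈ I • (⊤ : Submodule W X)
    rw [map_smul]
    exact Submodule.smul_mem_smul a.2 Submodule.mem_top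
  have hXb : Module.IsTorsionBySet W Xb I := by
    intro x a
    obtain ⟨x, rfl⟩ := (I • (⊤ : Submodule W X)).mkQ_surjective x
    rw [← map_smul, Submodule.mkQ_apply, Submodule.Quotient.mk_eq_zero]
    exact Submodule.smul_mem_smul a.2 Submodule.mem_top
  letI : Module (W ⧸ I) Yb := hYb.module
  letI : Module (W ⧸ I) Xb := hXb.module
  haveI : IsScalarTower W (W ⧸ I) Yb := hYb.isScalarTower
  haveI : IsScalarTower W (W ⧸ I) Xb := hXb.isScalarTower
  -- the injection Yb → Xb
  let j : Yb →ₗ[W] Xb := Z.mapQ (I • (⊤ : Submodule W X)) Y.subtype (le_refl _)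
  have hj : Function.Injective j := by
    rw [injective_iff_map_eq_zero]
    intro y hy
    obtain ⟨y, rfl⟩ := Z.mkQ_surjective y
    have h0 : (I • (⊤ : Submodule W X)).mkQ (Y.subtype y) = 0 := hy
    rw [Submodule.mkQ_apply, Submodule.Quotient.mk_eq_zero] at h0
    rw [Submodule.mkQ_apply, Submodule.Quotient.mk_eq_zero]
    exact h0
  let gb : Yb →ₗ[W] Q := Z.liftQ g (by
    intro y hy
    exact hg y hy)
  let jK : Yb →ₗ[W ⧸ I] Xb := LinearMap.extendScalarsOfSurjective hsurj j
  obtain ⟨ρ, hρ⟩ := LinearMap.exists_leftInverse_of_injective jK (by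
    rw [LinearMap.ker_eq_bot]; exact hj)
  refine ⟨gb ∘ₗ (ρ.restrictScalars W) ∘ₗ (I • (⊤ : Submodule W X)).mkQ, ?_⟩
  intro y
  have h1 : (I • (⊤ : Submodule W X)).mkQ (y : X) = jK (Z.mkQ y) := rfl
  simp only [LinearMap.comp_apply, LinearMap.restrictScalars_apply]
  rw [h1]
  have h2 : ρ (jK (Z.mkQ y)) = Z.mkQ y := by
    have := congrArg (fun f => f (Z.mkQ y)) hρ
    simpa using this
  rw [h2]
  rfl

/-- length of `M / I M` for a finite free module. -/
theorem length_quot_smul_top {M : Type v} [AddCommGroup M] [Module W M] [Module.Free W M]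
    [Module.Finite W M] :
    Module.length W (M ⧸ (I • (⊤ : Submodule W M))) = Module.finrank W M := by
  letI : Field (W ⧸ I) := Ideal.Quotient.field I
  haveI : Nontrivial W :=
    ⟨⟨0, 1, fun h => hI.ne_top (by rw [Ideal.eq_top_iff_one, ← h]; exact I.zero_mem)⟩⟩
  have hsurj : Function.Surjective (algebraMap W (W ⧸ I)) := Ideal.Quotient.mk_surjective
  rw [← (TensorProduct.quotTensorEquivQuotSMul M I).length_eq,
    Module.length_eq_of_surjective (R := W ⧸ I) hsurj, Module.length_eq_finrank,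
    Module.finrank_baseChange]

end Ext

section Dieu
variable {W : Type u} [CommRing W] (σ : W ≃+* W) (π : W)
  {M : Type v} [AddCommGroup M] [Module W M]
  {N : Type w} [AddCommGroup N] [Module W N]
  (FM VM : M →+ M) (FN VN : N →+ N)

theorem V_smul' (hVN : ∀ (a : W) (n : N), VN (σ a • n) = a • VN n) (a : W) (z : N) :
    VN (a • z) = σ.symm a • VN z := by
  have := hVN (σ.symm a) z
  rwa [RingEquiv.apply_symm_apply] at this

theorem mem_span_range_iff (hVN : ∀ (a : W) (n : N), VN (σ a • n) = a • VN n) (x : N) :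
    x ∈ Submodule.span W (Set.range VN) ↔ ∃ n, VN n = x := by
  constructor
  · intro hx
    induction hx using Submodule.span_induction with
    | mem x hx => exact hx
    | zero => exact ⟨0, map_zero _⟩
    | add x y _ _ hx hy =>
      obtain ⟨a, rfl⟩ := hx
      obtain ⟨b, rfl⟩ := hy
      exact ⟨a + b, map_add _ _ _⟩
    | smul a x _ hx =>
      obtain ⟨b, rfl⟩ := hx
      exact ⟨σ a • b, hVN a b⟩
  · rintro ⟨n, rfl⟩
    exact Submodule.subset_span ⟨n, rfl⟩

theorem V_injective (hN : ∀ n : N, π • n = 0 → n = 0) (hFVN : ∀ n : N, FN (VN n) = π • n) :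
    Function.Injective VN := by
  rw [injective_iff_map_eq_zero]
  intro x hx
  apply hN
  rw [← hFVN, hx, map_zero]

theorem partA (hN : ∀ n : N, π • n = 0 → n = 0)
    (hVM : ∀ (a : W) (m : M), VM (σ a • m) = a • VM m)
    (hVN : ∀ (a : W) (n : N), VN (σ a • n) = a • VN n)
    (hFVN : ∀ n : N, FN (VN n) = π • n) (h : M →ₗ[W] N) :
    (∀ m : M, h (VM m) ∈ Submodule.span W (Set.range VN)) ↔
      ∃ h' : M →ₗ[W] N, ∀ m : M, h (VM m) = VN (h' m) := by
  constructor
  · intro H
    have hinj := V_injective π FN VN hN hFVN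
    choose f hf using fun m => (mem_span_range_iff σ VN hVN _).1 (H m)
    refine ⟨{ toFun := f, map_add' := ?_, map_smul' := ?_ }, fun m => (hf m).symm⟩
    · intro a b
      apply hinj
      rw [map_add, hf, hf, hf, map_add, map_add]
    · intro a m
      apply hinj
      rw [hf, RingHom.id_apply, V_smul' σ VN hVN, hf, V_smul' σ VM hVM, map_smul]
  · rintro ⟨h', hh'⟩ m
    rw [hh']
    exact Submodule.subset_span ⟨_, rfl⟩

variable [hI : (Ideal.span {π}).IsMaximal]

theorem mem_smul_top_iff (x : M) :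
    x ∈ (Ideal.span {π}) • (⊤ : Submodule W M) ↔ ∃ m : M, π • m = x := by
  rw [Submodule.ideal_span_singleton_smul, Submodule.mem_smul_pointwise_iff_exists]
  simp

theorem partB [Module.Projective W M]
    (hVFM : ∀ m : M, VM (FM m) = π • m)
    (g : Submodule.span W (Set.range VM) →ₗ[W] N ⧸ Submodule.span W (Set.range VN))
    (hg : ∀ m : M, g ⟨VM (FM m), Submodule.subset_span ⟨FM m, rfl⟩⟩ = 0) :
    ∃ h : M →ₗ[W] N, ∀ x : Submodule.span W (Set.range VM),
      (Submodule.span W (Set.range VN)).mkQ (h x) = g x := by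
  obtain ⟨g', hg'⟩ := ext_kill (Ideal.span {π}) (Submodule.span W (Set.range VM)) g (by
    intro y hy
    obtain ⟨m, hm⟩ := (mem_smul_top_iff π _).1 hy
    have : y = ⟨VM (FM m), Submodule.subset_span ⟨FM m, rfl⟩⟩ := by
      apply Subtype.ext
      exact hm.symm.trans (hVFM m).symm
    rw [this]
    exact hg m)
  obtain ⟨h, hh⟩ := Module.projective_lifting_property
    (Submodule.span W (Set.range VN)).mkQ g' (Submodule.mkQ_surjective _)
  refine ⟨h, fun x => ?_⟩
  rw [← hg' x, ← hh]
  rfl

end Dieu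

section PartC
variable {W : Type u} [CommRing W] (σ : W ≃+* W) (π : W)
  {M : Type v} [AddCommGroup M] [Module W M] [Module.Free W M] [Module.Finite W M]
  {N : Type w} [AddCommGroup N] [Module W N]
  (FM VM : M →+ M) (FN VN : N →+ N)
  [hI : (Ideal.span {π}).IsMaximal]

theorem partC
    (hVM : ∀ (a : W) (m : M), VM (σ a • m) = a • VM m)
    (hVFM : ∀ m : M, VM (FM m) = π • m)
    (hVFN : ∀ n : N, VN (FN n) = π • n)
    (r₂ s₁ : ℕ)
    (hr₂ : Module.length W (N ⧸ Submodule.span W (Set.range VN)) = r₂)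
    (hs₁ : (Module.finrank W M : ℕ∞) =
      Module.length W (M ⧸ Submodule.span W (Set.range VM)) + s₁) :
    Module.length W ((M →ₗ[W] N) ⧸
      ⨅ m : M, (Submodule.span W (Set.range VN)).comap
        (LinearMap.applyₗ (VM m) : (M →ₗ[W] N) →ₗ[W] N)) = (r₂ * s₁ : ℕ) := by
  set A := Submodule.span W (Set.range VM) with hA
  set B := Submodule.span W (Set.range VN) with hB
  set I := Ideal.span {π} with hIdef
  have hIA : I • (⊤ : Submodule W M) ≤ A := by
    intro x hx
    obtain ⟨m, rfl⟩ := (mem_smul_top_iff π x).1 hx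
    rw [← hVFM]
    exact Submodule.subset_span ⟨_, rfl⟩
  have hQ : Module.IsTorsionBySet W (N ⧸ B) I := by
    intro x a
    obtain ⟨x, rfl⟩ := B.mkQ_surjective x
    obtain ⟨c, hc⟩ := Ideal.mem_span_singleton'.1 a.2
    rw [← map_smul, Submodule.mkQ_apply, Submodule.Quotient.mk_eq_zero]
    show (a : W) • x ∈ B
    rw [← hc, mul_smul]
    apply B.smul_mem
    rw [← hVFN]
    exact Submodule.subset_span ⟨_, rfl⟩
  -- the quotient `A / π M`
  let Z : Submodule W A := (I • (⊤ : Submodule W M)).comap A.subtype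
  have hYb : Module.IsTorsionBySet W (A ⧸ Z) I := by
    intro y a
    obtain ⟨y, rfl⟩ := Z.mkQ_surjective y
    rw [← map_smul, Submodule.mkQ_apply, Submodule.Quotient.mk_eq_zero]
    show A.subtype ((a : W) • y) ∈ I • (⊤ : Submodule W M)
    rw [map_smul]
    exact Submodule.smul_mem_smul a.2 Submodule.mem_top
  -- length of `A / π M`
  have hlenY : Module.length W (A ⧸ Z) = s₁ := by
    let j : (A ⧸ Z) →ₗ[W] (M ⧸ I • (⊤ : Submodule W M)) :=
      Z.mapQ (I • (⊤ : Submodule W M)) A.subtype (le_refl _)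
    let q : (M ⧸ I • (⊤ : Submodule W M)) →ₗ[W] (M ⧸ A) :=
      (I • (⊤ : Submodule W M)).mapQ A LinearMap.id (by simpa using hIA)
    have hj : Function.Injective j := by
      rw [injective_iff_map_eq_zero]
      intro y hy
      obtain ⟨y, rfl⟩ := Z.mkQ_surjective y
      have h0 : (I • (⊤ : Submodule W M)).mkQ (A.subtype y) = 0 := hy
      rw [Submodule.mkQ_apply, Submodule.Quotient.mk_eq_zero] at h0
      rw [Submodule.mkQ_apply, Submodule.Quotient.mk_eq_zero]
      exact h0
    have hq : Function.Surjective q := by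
      intro x
      obtain ⟨x, rfl⟩ := A.mkQ_surjective x
      exact ⟨(I • (⊤ : Submodule W M)).mkQ x, rfl⟩
    have hex : Function.Exact j q := by
      intro x
      constructor
      · intro hx
        obtain ⟨x, rfl⟩ := (I • (⊤ : Submodule W M)).mkQ_surjective x
        have h0 : A.mkQ x = 0 := hx
        rw [Submodule.mkQ_apply, Submodule.Quotient.mk_eq_zero] at h0
        exact ⟨Z.mkQ ⟨x, h0⟩, rfl⟩
      · rintro ⟨y, rfl⟩
        obtain ⟨y, rfl⟩ := Z.mkQ_surjective y
        show A.mkQ (y : M) = 0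
        rw [Submodule.mkQ_apply, Submodule.Quotient.mk_eq_zero]
        exact y.2
    have hadd := Module.length_eq_add_of_exact j q hj hq hex
    rw [length_quot_smul_top I, hs₁] at hadd
    have hne : Module.length W (M ⧸ A) ≠ ⊤ := by
      intro htop
      rw [htop] at hs₁
      simp at hs₁
    rw [add_comm] at hadd
    exact (WithTop.add_right_cancel hne hadd).symm
  -- the map `h ↦ mkQ ∘ h ∘ subtype`
  let Φ : (M →ₗ[W] N) →ₗ[W] (A →ₗ[W] N ⧸ B) :=
    (LinearMap.lcomp W (N ⧸ B) A.subtype) ∘ₗ (LinearMap.llcomp W M N (N ⧸ B) B.mkQ)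
  have hΦ : ∀ (h : M →ₗ[W] N) (x : A), Φ h x = B.mkQ (h x) := fun _ _ => rfl
  let Ψ : ((A ⧸ Z) →ₗ[W] N ⧸ B) →ₗ[W] (A →ₗ[W] N ⧸ B) := LinearMap.lcomp W (N ⧸ B) Z.mkQ
  have hΨ : ∀ (t : (A ⧸ Z) →ₗ[W] N ⧸ B) (x : A), Ψ t x = t (Z.mkQ x) := fun _ _ => rfl
  have hΨinj : Function.Injective Ψ := by
    intro t t' htt
    ext x
    have := congrArg (fun f => f x) htt
    simpa [hΨ] using this
  have hmemA : ∀ x : M, x ∈ A ↔ ∃ m, VM m = x := mem_span_range_iff σ VM hVM
  have hker : LinearMap.ker Φ = ⨅ m : M, B.comap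
      (LinearMap.applyₗ (VM m) : (M →ₗ[W] N) →ₗ[W] N) := by
    ext h
    simp only [LinearMap.mem_ker, Submodule.mem_iInf, Submodule.mem_comap, LinearMap.applyₗ_apply_apply]
    constructor
    · intro h0 m
      have := congrArg (fun f => f ⟨VM m, Submodule.subset_span ⟨m, rfl⟩⟩) h0
      simp only [hΦ, LinearMap.zero_apply] at this
      rwa [Submodule.mkQ_apply, Submodule.Quotient.mk_eq_zero] at this
    · intro hm
      ext x
      obtain ⟨m, hm'⟩ := (hmemA x).1 x.2
      rw [hΦ, LinearMap.zero_apply, Submodule.mkQ_apply, Submodule.Quotient.mk_eq_zero, ← hm']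
      exact hm m
  have hrange : LinearMap.range Φ = LinearMap.range Ψ := by
    apply le_antisymm
    · rintro _ ⟨h, rfl⟩
      refine ⟨Z.liftQ (Φ h) ?_, ?_⟩
      · intro y hy
        rw [LinearMap.mem_ker, hΦ]
        obtain ⟨m, hm⟩ := (mem_smul_top_iff π _).1 hy
        have : A.subtype y = π • m := hm.symm
        rw [Submodule.mkQ_apply, Submodule.Quotient.mk_eq_zero]
        show h (A.subtype y) ∈ B
        rw [this, map_smul, ← hVFN]
        exact Submodule.subset_span ⟨_, rfl⟩
      · ext x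
        rw [hΨ, Submodule.mkQ_apply, Submodule.liftQ_apply]
    · rintro _ ⟨t, rfl⟩
      obtain ⟨h, hh⟩ := partB π FM VM VN hVFM (Ψ t) (by
        intro m
        rw [hΨ]
        have : Z.mkQ ⟨VM (FM m), Submodule.subset_span ⟨FM m, rfl⟩⟩ = 0 := by
          rw [Submodule.mkQ_apply, Submodule.Quotient.mk_eq_zero]
          show VM (FM m) ∈ I • (⊤ : Submodule W M)
          rw [hVFM]
          exact (mem_smul_top_iff π _).2 ⟨m, rfl⟩
        rw [this, map_zero])
      refine ⟨h, ?_⟩
      ext x
      rw [hΦ, hh]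
  have e1 : Module.length W ((M →ₗ[W] N) ⧸ LinearMap.ker Φ) =
      Module.length W (LinearMap.range Φ) := LinearEquiv.length_eq (LinearMap.quotKerEquivRange Φ)
  have e2 : Module.length W ((A ⧸ Z) →ₗ[W] N ⧸ B) = Module.length W (LinearMap.range Ψ) :=
    LinearEquiv.length_eq (LinearEquiv.ofInjective Ψ hΨinj)
  rw [← hker, e1, hrange, ← e2, homLen I hYb hQ s₁ r₂ hlenY hr₂, mul_comm]

end PartC

end Groth.Agent.Lib.helper10.HomLen
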