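import Mathlib

/-!
Integral closure and smooth base change over an integrally closed domain (helper10):
elements of `S ⊗[R] K` integral over the smooth `R`-algebra `S` come from `S`.
-/

set_option autoImplicit false
set_option linter.unusedSectionVars false
set_option linter.style.haveILetI false

universe u

open TensorProduct

namespace Groth.Agent.Lib.helper10

namespace IntClEt

section IC

variable (R S K : Type u) [CommRing R] [IsDomain R] [IsIntegrallyClosed R] [Field K] [Algebra R K]
  [IsFractionRing R K] [CommRing S] [Algebra R S] [Algebra.Smooth R S]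

theorem exists_eq_tmul_one_of_isIntegral (t : S ⊗[R] K) (ht : IsIntegral S t) :
    ∃ s : S, t = s ⊗ₜ[R] (1 : K) := by
  obtain ⟨y, hy⟩ :=
    (TensorProduct.toIntegralClosure_bijective_of_smooth (R := R) (S := S) (B := K)).2 ⟨t, ht⟩
  have hy' : (Algebra.TensorProduct.map (AlgHom.id S S) (integralClosure R K).val) y = t := by
    have := congrArg Subtype.val hy
    simpa [TensorProduct.toIntegralClosure] using this
  have key : ∀ y : S ⊗[R] integralClosure R K, ∃ s : S, y = s ⊗ₜ[R] (1 : integralClosure R K) := by
    intro y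
    induction y using TensorProduct.induction_on with
    | zero => exact ⟨0, by rw [zero_tmul]⟩
    | tmul s b =>
      have hb : IsIntegral R (b : K) := b.2
      obtain ⟨r, hr⟩ := IsIntegrallyClosed.algebraMap_eq_of_integral hb
      refine ⟨r • s, ?_⟩
      have hb' : b = r • (1 : integralClosure R K) := by
        apply Subtype.ext
        rw [← hr, Algebra.algebraMap_eq_smul_one]
        rfl
      rw [hb', smul_tmul]
    | add y₁ y₂ h₁ h₂ =>
      obtain ⟨s₁, rfl⟩ := h₁
      obtain ⟨s₂, rfl⟩ := h₂
      exact ⟨s₁ + s₂, by rw [add_tmul]⟩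
  obtain ⟨s, rfl⟩ := key y
  refine ⟨s, ?_⟩
  rw [← hy', Algebra.TensorProduct.map_tmul]
  rfl

theorem exists_eq_one_tmul_of_isIntegralElem (t : K ⊗[R] S)
    (ht : (Algebra.TensorProduct.includeRight : S →ₐ[R] K ⊗[R] S).toRingHom.IsIntegralElem t) :
    ∃ s : S, t = (1 : K) ⊗ₜ[R] s := by
  obtain ⟨p, hp, hpt⟩ := ht
  have h1 : IsIntegral S (Algebra.TensorProduct.comm R K S t) := by
    refine ⟨p, hp, ?_⟩
    have h2 := congrArg (Algebra.TensorProduct.comm R K S).toAlgHom.toRingHom hpt
    rw [map_zero, Polynomial.hom_eval₂] at h2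
    have h3 : ((Algebra.TensorProduct.comm R K S).toAlgHom.toRingHom).comp
        (Algebra.TensorProduct.includeRight : S →ₐ[R] K ⊗[R] S).toRingHom =
        algebraMap S (S ⊗[R] K) := by
      ext s
      simp
    rw [h3] at h2
    exact h2
  obtain ⟨s, hs⟩ := exists_eq_tmul_one_of_isIntegral R S K _ h1
  refine ⟨s, ?_⟩
  apply (Algebra.TensorProduct.comm R K S).injective
  rw [hs, Algebra.TensorProduct.comm_tmul]

end IC

end IntClEt

end Groth.Agent.Lib.helper10
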