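import Mathlib
import Groth.Agent.Lib.Helper10.IntClEt1
import Groth.Agent.Lib.Helper10.CompDvr1

/-!
Integral closure in a compositum with an étale extension (helper10).
-/

set_option autoImplicit false
set_option linter.unusedSectionVars false
set_option linter.style.haveILetI false

universe u

open TensorProduct Polynomial

namespace Groth.Agent.Lib.helper10

namespace IntClEt

section Main

variable (A A' C L L₁ : Type u) [CommRing A] [IsDomain A]
    [IsIntegrallyClosed A] [CommRing A'] [IsDomain A'] [IsIntegrallyClosed A'] [Algebra A A']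
    [Field L] [Algebra A L] [Algebra.IsAlgebraic A L]
    [CommRing C] [Algebra A C] [Algebra C L] [IsScalarTower A C L] [IsIntegralClosure C A L]
    [Algebra.Etale A C]
    [Field L₁] [Algebra A' L₁] [Algebra L L₁] [Algebra A L₁] [IsScalarTower A A' L₁]
    [IsScalarTower A L L₁]

set_option quotPrecheck false in
local notation "SS" => A' ⊗[A] C
set_option quotPrecheck false in
local notation "KK" => FractionRing A'
set_option quotPrecheck false in
local notation "TT" => FractionRing A' ⊗[A'] (A' ⊗[A] C)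

/-- the map from the integral closure of `A` in `L` to `L₁` -/
noncomputable def gC : C →ₐ[A] L₁ :=
  (IsScalarTower.toAlgHom A L L₁).comp (IsScalarTower.toAlgHom A C L)

/-- the map `A' ⊗ C → L₁` -/
noncomputable def sigma : A' ⊗[A] C →ₐ[A'] L₁ :=
  Algebra.TensorProduct.productLeftAlgHom (Algebra.ofId A' L₁) (gC A C L L₁)

theorem sigma_tmul (a' : A') (c : C) :
    sigma A A' C L L₁ (a' ⊗ₜ c) = algebraMap A' L₁ a' * algebraMap L L₁ (algebraMap C L c) := by
  simp [sigma, gC, Algebra.ofId_apply]

theorem main (hinj : Function.Injective (algebraMap A L))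
    (hinj' : Function.Injective (algebraMap A' L₁))
    (hgen : Subfield.closure (Set.range (algebraMap A' L₁) ∪ Set.range (algebraMap L L₁)) = ⊤) :
    Algebra.Etale A' ↥(integralClosure A' L₁) ∧
      ∀ x : L₁, IsIntegral A' x ↔ x ∈ (sigma A A' C L L₁).range := by
  letI : Algebra (FractionRing A') L₁ := (IsFractionRing.lift hinj' : FractionRing A' →+* L₁).toAlgebra
  haveI : IsScalarTower A' (FractionRing A') L₁ :=
    IsScalarTower.of_algebraMap_eq (fun x => (IsFractionRing.lift_algebraMap hinj' x).symm)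
  -- instances on S
  haveI : Algebra.Etale A' (A' ⊗[A] C) := inferInstance
  haveI hsm : Algebra.Smooth A' (A' ⊗[A] C) :=
    (Algebra.Etale.iff_formallyUnramified_and_smooth.mp inferInstance).2
  haveI : Algebra.IsIntegral A C := IsIntegralClosure.isIntegral_algebra A L
  haveI hintS : Algebra.IsIntegral A' (A' ⊗[A] C) := inferInstance
  haveI : Module.Finite A' (A' ⊗[A] C) := Algebra.IsIntegral.finite
  haveI : Module.Flat A' (A' ⊗[A] C) := inferInstance
  -- the map psi
  obtain ⟨psi, hpsi⟩ : ∃ psi : FractionRing A' ⊗[A'] (A' ⊗[A] C) →ₐ[FractionRing A'] L₁,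
      psi = Algebra.TensorProduct.productLeftAlgHom (Algebra.ofId (FractionRing A') L₁)
        (sigma A A' C L L₁) := ⟨_, rfl⟩
  have hpsi_tmul : ∀ (k : FractionRing A') (s : A' ⊗[A] C),
      psi (k ⊗ₜ s) = algebraMap (FractionRing A') L₁ k * sigma A A' C L L₁ s := by
    intro k s
    rw [hpsi]
    simp [Algebra.ofId_apply]
  -- Step 1: psi is surjective
  have hinjAL₁ : Function.Injective (algebraMap A L₁) := by
    rw [IsScalarTower.algebraMap_eq A L L₁]
    exact (algebraMap L L₁).injective.comp hinj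
  haveI : Module.Finite KK TT := inferInstance
  haveI : Algebra.IsIntegral KK TT := Algebra.IsIntegral.of_finite _ _
  have hsurj : Function.Surjective psi := by
    have hinv : ∀ x ∈ psi.range, x⁻¹ ∈ psi.range := by
      intro x hx
      have hx' : IsAlgebraic KK ((⟨x, hx⟩ : psi.range) : L₁) := by
        obtain ⟨t, rfl⟩ := hx
        exact ((Algebra.IsIntegral.isIntegral (R := KK) t).map psi).isAlgebraic
      exact Subalgebra.inv_mem_of_algebraic (A := psi.range) (x := ⟨x, hx⟩) hx'
    let F₀ : Subfield L₁ := { psi.range.toSubring with inv_mem' := hinv }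
    have hF₀ : ∀ x, x ∈ F₀ ↔ x ∈ psi.range := fun x => Iff.rfl
    have hA' : ∀ a' : A', algebraMap A' L₁ a' ∈ psi.range := by
      intro a'
      rw [IsScalarTower.algebraMap_apply A' KK L₁]
      exact Subalgebra.algebraMap_mem _ _
    have hle : Subfield.closure (Set.range (algebraMap A' L₁) ∪ Set.range (algebraMap L L₁)) ≤ F₀ := by
      rw [Subfield.closure_le]
      rintro x (⟨a', rfl⟩ | ⟨l, rfl⟩)
      · exact hA' a'
      · obtain ⟨a, ha0, hint⟩ := IsAlgebraic.exists_integral_multiple
          (Algebra.IsAlgebraic.isAlgebraic (R := A) l)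
        have h1 : algebraMap L L₁ (a • l) ∈ F₀ := by
          rw [hF₀]
          refine ⟨(1 : KK) ⊗ₜ ((1 : A') ⊗ₜ (IsIntegralClosure.mk' C (a • l) hint)), ?_⟩
          show psi ((1 : KK) ⊗ₜ ((1 : A') ⊗ₜ (IsIntegralClosure.mk' C (a • l) hint))) = _
          rw [hpsi_tmul, sigma_tmul, map_one, map_one, one_mul, one_mul,
            IsIntegralClosure.algebraMap_mk']
        have h2 : algebraMap A L₁ a ∈ F₀ := by
          rw [IsScalarTower.algebraMap_apply A A' L₁]
          exact hA' _
        have h3 : algebraMap A L₁ a ≠ 0 := fun h0 => ha0 (hinjAL₁ (by rw [h0, map_zero]))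
        have h4 : algebraMap L L₁ l = (algebraMap A L₁ a)⁻¹ * algebraMap L L₁ (a • l) := by
          rw [Algebra.smul_def, map_mul, ← IsScalarTower.algebraMap_apply A L L₁, ← mul_assoc,
            inv_mul_cancel₀ h3, one_mul]
        rw [h4]
        exact F₀.mul_mem (F₀.inv_mem h2) h1
    intro x
    have hx : x ∈ F₀ := hle (by rw [hgen]; trivial)
    exact hx
  -- Step 2: the kernel of psi is generated by an idempotent
  haveI : Algebra.Etale KK TT := inferInstance
  haveI : IsReduced TT := Algebra.FormallyUnramified.isReduced_of_field KK TT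
  haveI : Algebra.IsAlgebraic KK TT := Algebra.IsIntegral.isAlgebraic
  haveI : IsNoetherianRing TT := Algebra.FiniteType.isNoetherianRing KK TT
  have hfg : (RingHom.ker psi.toRingHom).FG := IsNoetherian.noetherian _
  have hidem : IsIdempotentElem (RingHom.ker psi.toRingHom) := by
    apply le_antisymm
    · exact Ideal.mul_le_right
    · intro t ht
      obtain ⟨u, hu⟩ := CompDvr.vnr_of_isReduced_of_isAlgebraic (E := KK) t
      rw [hu, mul_assoc]
      exact Ideal.mul_mem_mul ht (Ideal.mul_mem_right _ _ ht)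
  have hex : ∃ e : TT, e * e = e ∧ RingHom.ker psi.toRingHom = Ideal.span {e} := by
    obtain ⟨e, he, hI⟩ := (Ideal.isIdempotentElem_iff_of_fg (R := TT)
      (RingHom.ker psi.toRingHom) hfg).mp hidem
    exact ⟨e, he, hI⟩
  obtain ⟨e, he', hI⟩ := hex
  have he : IsIdempotentElem e := he'
  have hker : ∀ t : TT, psi t = 0 ↔ ∃ r, t = r * e := by
    intro t
    have h1 : psi t = 0 ↔ t ∈ RingHom.ker psi.toRingHom := Iff.rfl
    rw [h1, hI]
    show t ∈ Ideal.span {e} ↔ _
    rw [Ideal.mem_span_singleton']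
    exact ⟨fun ⟨r, hr⟩ => ⟨r, hr.symm⟩, fun ⟨r, hr⟩ => ⟨r, hr.symm⟩⟩
  have hpsie : psi e = 0 := (hker e).mpr ⟨1, (one_mul e).symm⟩
  have hee : e * (1 - e) = 0 := by
    rw [mul_sub, mul_one, he.eq, sub_self]
  -- Step 3: e comes from S
  have hinjS : Function.Injective (fun s : SS => (1 : KK) ⊗ₜ[A'] s) :=
    Algebra.TensorProduct.includeRight_injective (R := A') (A := KK) (B := SS)
      (IsFractionRing.injective A' KK)
  have hcompAlg : (Algebra.TensorProduct.includeRight : SS →ₐ[A'] TT).toRingHom.comp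
      (algebraMap A' SS) = algebraMap A' TT :=
    (Algebra.TensorProduct.includeRight : SS →ₐ[A'] TT).comp_algebraMap
  haveI : Nontrivial SS := RingHom.domain_nontrivial (sigma A A' C L L₁).toRingHom
  have heint : (Algebra.TensorProduct.includeRight : SS →ₐ[A'] TT).toRingHom.IsIntegralElem e := by
    refine ⟨X ^ 2 - X, ?_, ?_⟩
    · exact monic_X_pow_sub (by rw [degree_X]; norm_num)
    · rw [eval₂_sub, eval₂_pow, eval₂_X, pow_two, he.eq, sub_self]
  obtain ⟨eS, heS⟩ := exists_eq_one_tmul_of_isIntegralElem A' SS KK e heint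
  have heSidem : IsIdempotentElem eS := by
    apply hinjS
    show (1 : KK) ⊗ₜ[A'] (eS * eS) = (1 : KK) ⊗ₜ[A'] eS
    have h1 : ((1 : KK) ⊗ₜ[A'] eS) * ((1 : KK) ⊗ₜ[A'] eS) = (1 : KK) ⊗ₜ[A'] (eS * eS) := by
      rw [Algebra.TensorProduct.tmul_mul_tmul, one_mul]
    rw [← h1, ← heS, he.eq]
  have hpsi1 : ∀ s : SS, psi ((1 : KK) ⊗ₜ[A'] s) = sigma A A' C L L₁ s := by
    intro s
    rw [hpsi_tmul, map_one, one_mul]
  -- Step 4: the integral elements are the image of sigma
  have hint_iff : ∀ x : L₁, IsIntegral A' x ↔ x ∈ (sigma A A' C L L₁).range := by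
    intro x
    constructor
    · intro hx
      obtain ⟨t, rfl⟩ := hsurj x
      obtain ⟨p, hpm, hp⟩ := hx
      have hpsit' : psi (t * (1 - e)) = psi t := by
        rw [map_mul, map_sub, map_one, hpsie, sub_zero, mul_one]
      have h1 : psi (aeval (t * (1 - e)) p) = 0 := by
        have h2 : psi (aeval (t * (1 - e)) p) = aeval (psi (t * (1 - e))) p := by
          have := Polynomial.aeval_algHom_apply (psi.restrictScalars A') (t * (1 - e)) p
          exact this.symm
        rw [h2, hpsit']
        exact hp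
      obtain ⟨r, hr⟩ := (hker _).mp h1
      have h3 : aeval (t * (1 - e)) (X * p) = 0 := by
        rw [map_mul, aeval_X, hr]
        calc t * (1 - e) * (r * e) = t * r * (e * (1 - e)) := by ring
          _ = 0 := by rw [hee, mul_zero]
      have hint' : (Algebra.TensorProduct.includeRight : SS →ₐ[A'] TT).toRingHom.IsIntegralElem
          (t * (1 - e)) := by
        refine ⟨(X * p).map (algebraMap A' SS), (monic_X.mul hpm).map _, ?_⟩
        rw [eval₂_map, hcompAlg]
        exact h3
      obtain ⟨s, hs⟩ := exists_eq_one_tmul_of_isIntegralElem A' SS KK _ hint'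
      refine ⟨s, ?_⟩
      show sigma A A' C L L₁ s = psi t
      rw [← hpsit', hs, hpsi1]
    · rintro ⟨s, rfl⟩
      exact (Algebra.IsIntegral.isIntegral (R := A') s).map (sigma A A' C L L₁)
  refine ⟨?_, hint_iff⟩
  -- Step 6: étale
  have hmemD : ∀ s : SS, sigma A A' C L L₁ s ∈ integralClosure A' L₁ := fun s =>
    (hint_iff _).mpr ⟨s, rfl⟩
  letI : Algebra SS ↥(integralClosure A' L₁) :=
    ((sigma A A' C L L₁).codRestrict (integralClosure A' L₁) hmemD).toRingHom.toAlgebra
  haveI : IsScalarTower A' SS ↥(integralClosure A' L₁) :=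
    IsScalarTower.of_algebraMap_eq (fun a' =>
      (((sigma A A' C L L₁).codRestrict (integralClosure A' L₁) hmemD).commutes a').symm)
  have halg : ∀ s : SS, ((algebraMap SS ↥(integralClosure A' L₁) s : ↥(integralClosure A' L₁)) : L₁) =
      sigma A A' C L L₁ s := fun s => rfl
  have hsurjD : Function.Surjective (algebraMap SS ↥(integralClosure A' L₁)) := by
    rintro ⟨x, hx⟩
    obtain ⟨s, hs⟩ := (hint_iff x).mp hx
    exact ⟨s, Subtype.ext hs⟩
  have hkerD : RingHom.ker (algebraMap SS ↥(integralClosure A' L₁)) = Ideal.span {1 - (1 - eS)} := by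
    rw [sub_sub_cancel]
    apply le_antisymm
    · intro s hs
      rw [RingHom.mem_ker] at hs
      have hs' : sigma A A' C L L₁ s = 0 := by rw [← halg, hs]; rfl
      rw [← hpsi1] at hs'
      obtain ⟨r, hr⟩ := (hker _).mp hs'
      have h1 : ((1 : KK) ⊗ₜ[A'] s) * (1 - e) = 0 := by
        rw [hr]
        calc r * e * (1 - e) = r * (e * (1 - e)) := by ring
          _ = 0 := by rw [hee, mul_zero]
      have h2 : (1 : KK) ⊗ₜ[A'] (s * (1 - eS)) = 0 := by
        rw [← h1, heS]
        have h3 : (1 : TT) = (1 : KK) ⊗ₜ[A'] (1 : SS) := rfl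
        rw [h3, ← TensorProduct.tmul_sub, Algebra.TensorProduct.tmul_mul_tmul, one_mul]
      have h4 : s * (1 - eS) = 0 := by
        apply hinjS
        show (1 : KK) ⊗ₜ[A'] (s * (1 - eS)) = (1 : KK) ⊗ₜ[A'] (0 : SS)
        rw [h2, TensorProduct.tmul_zero]
      rw [Ideal.mem_span_singleton']
      exact ⟨s, by linear_combination -h4⟩
    · rw [Ideal.span_le, Set.singleton_subset_iff, SetLike.mem_coe, RingHom.mem_ker]
      apply Subtype.ext
      rw [halg, ← hpsi1, ← heS, hpsie]
      rfl
  haveI : IsLocalization.Away (1 - eS) ↥(integralClosure A' L₁) :=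
    IsLocalization.away_of_isIdempotentElem heSidem.one_sub hkerD hsurjD
  haveI : Algebra.Etale SS ↥(integralClosure A' L₁) := Algebra.Etale.of_isLocalizationAway (1 - eS)
  exact Algebra.Etale.comp A' SS ↥(integralClosure A' L₁)

end Main

end IntClEt

end Groth.Agent.Lib.helper10
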