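import Groth.Agent.Lib.Helper10.Jac10

/-!
# Intersection multiplicities (helper10), part 1: semilocal rings of finitely many places
-/

set_option autoImplicit false
set_option linter.unusedSectionVars false
set_option linter.style.haveILetI false

universe u v

open FunFld

namespace Groth.Agent.Lib.helper10.Inter

open FF

variable {k : Type u} {K : Type v} [Field k] [Field K] [Algebra k K]

/-- The semilocal ring of a finite set of places. -/
def semiLocal (S : Finset (Place k K)) : Subalgebra k K where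
  carrier := {z | ∀ Q ∈ S, Q.1 z ≤ 1}
  mul_mem' := fun {a b} ha hb Q hQ => by
    rw [map_mul]; exact mul_le_one' (ha Q hQ) (hb Q hQ)
  add_mem' := fun {a b} ha hb Q hQ => Valuation.map_add_le _ (ha Q hQ) (hb Q hQ)
  algebraMap_mem' := fun r Q _ => Q.2.1 r

theorem mem_semiLocal {S : Finset (Place k K)} {z : K} :
    z ∈ semiLocal S ↔ ∀ Q ∈ S, Q.1 z ≤ 1 := Iff.rfl

/-- The ideal of elements of order at least `n Q` at each `Q ∈ S`. -/
def semiIdeal (S : Finset (Place k K)) (n : Place k K → ℕ) : Ideal (semiLocal S) where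
  carrier := {z | ∀ Q ∈ S, Q.1 (z : K) ≤ WithZero.exp (-(n Q : ℤ))}
  add_mem' := fun {a b} ha hb Q hQ => Valuation.map_add_le _ (ha Q hQ) (hb Q hQ)
  zero_mem' := fun Q _ => by
    show Q.1 (0 : K) ≤ _
    rw [map_zero]; exact zero_le
  smul_mem' := fun c z hz Q hQ => by
    show Q.1 ((c : K) * (z : K)) ≤ _
    rw [map_mul]
    calc Q.1 (c : K) * Q.1 (z : K) ≤ 1 * WithZero.exp (-(n Q : ℤ)) :=
          mul_le_mul' (c.2 Q hQ) (hz Q hQ)
      _ = _ := one_mul _

theorem mem_semiIdeal {S : Finset (Place k K)} {n : Place k K → ℕ} {z : semiLocal S} :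
    z ∈ semiIdeal S n ↔ ∀ Q ∈ S, Q.1 (z : K) ≤ WithZero.exp (-(n Q : ℤ)) := Iff.rfl

/-- Expansion in a local parameter, with coefficients. -/
theorem exists_coeffs (hK : IsFunctionField k K) [IsAlgClosed k] (Q : Place k K) {t : K}
    (ht : Q.1 t = WithZero.exp (-1 : ℤ)) (n : ℕ) {z : K} (hz : Q.1 z ≤ 1) :
    ∃ a : ℕ → k, Q.1 (z - ∑ i ∈ Finset.range n, algebraMap k K (a i) * t ^ i) ≤
      WithZero.exp (-(n : ℤ)) := by
  have ht0 : t ≠ 0 := by
    rintro rfl
    rw [Valuation.map_zero] at ht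
    exact WithZero.exp_ne_zero ht.symm
  induction n with
  | zero =>
    refine ⟨fun _ => 0, ?_⟩
    simpa using hz
  | succ n ih =>
    obtain ⟨a, ha⟩ := ih
    obtain ⟨r, hr⟩ : ∃ r, r = z - ∑ i ∈ Finset.range n, algebraMap k K (a i) * t ^ i := ⟨_, rfl⟩
    rw [← hr] at ha
    have htn : Q.1 (t ^ n) = WithZero.exp (-(n : ℤ)) := by
      have := Place.val_zpow_uniformizer Q ht (n : ℤ)
      rwa [zpow_natCast] at this
    have hz' : Q.1 (r / t ^ n) ≤ 1 := by
      rw [map_div₀, htn]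
      exact div_le_one_of_le₀ ha zero_le
    obtain ⟨c, hc⟩ := Place.exists_const_sub_lt hK Q hz'
    obtain ⟨a', ha'1, ha'2⟩ : ∃ a' : ℕ → k, (∀ i < n, a' i = a i) ∧ a' n = c :=
      ⟨fun i => if i = n then c else a i, fun i hi => if_neg hi.ne, if_pos rfl⟩
    refine ⟨a', ?_⟩
    rw [Finset.sum_range_succ, ha'2]
    have hsum : ∑ i ∈ Finset.range n, algebraMap k K (a' i) * t ^ i =
        ∑ i ∈ Finset.range n, algebraMap k K (a i) * t ^ i := by
      apply Finset.sum_congr rfl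
      intro i hi
      rw [ha'1 i (Finset.mem_range.1 hi)]
    rw [hsum]
    have e : z - (∑ i ∈ Finset.range n, algebraMap k K (a i) * t ^ i + algebraMap k K c * t ^ n) =
        t ^ n * (r / t ^ n - algebraMap k K c) := by
      rw [hr]
      field_simp
      ring
    rw [e, map_mul, htn]
    have h1 := (lt_one_iff_le_exp_neg_one _).1 hc
    calc WithZero.exp (-(n : ℤ)) * Q.1 (r / t ^ n - algebraMap k K c)
        ≤ WithZero.exp (-(n : ℤ)) * WithZero.exp (-1 : ℤ) := mul_le_mul' le_rfl h1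
      _ = WithZero.exp (-((n + 1 : ℕ) : ℤ)) := by
        rw [← WithZero.exp_add]; congr 1; push_cast; ring

/-- Uniqueness of the coefficients. -/
theorem coeffs_eq_zero (Q : Place k K) {t : K} (ht : Q.1 t = WithZero.exp (-1 : ℤ)) (n : ℕ)
    (a : ℕ → k)
    (h : Q.1 (∑ i ∈ Finset.range n, algebraMap k K (a i) * t ^ i) ≤ WithZero.exp (-(n : ℤ))) :
    ∀ i < n, a i = 0 := by
  have key := Place.coeff_eq_zero_of_val_le Q ht (J := Unit) (fun _ => (1 : K))
    (fun _ => by rw [map_one]) (by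
      intro c hc j
      by_contra hne
      have h1 : Q.1 (∑ j : Unit, algebraMap k K (c j) * (1 : K)) = 1 := by
        rw [Fintype.sum_unique, mul_one]
        have : c default = c j := by congr 1
        rw [this]
        exact Place.val_algebraMap_eq_one Q hne
      rw [h1] at hc
      exact lt_irrefl _ hc) (fun _ i => a i) n (by
      have e : ∑ i ∈ Finset.range n, t ^ i * ∑ _j : Unit, algebraMap k K (a i) * (1 : K) =
          ∑ i ∈ Finset.range n, algebraMap k K (a i) * t ^ i := by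
        apply Finset.sum_congr rfl
        intro i _
        rw [Fintype.sum_unique, mul_one, mul_comm]
      rw [e]
      exact h)
  intro i hi
  exact key i hi ()

/-- **The dimension of a semilocal quotient.** -/
theorem finrank_semiLocal_quot (hK : IsFunctionField k K) [IsAlgClosed k]
    (S : Finset (Place k K)) (n : Place k K → ℕ) :
    Module.Finite k (semiLocal S ⧸ semiIdeal S n) ∧
      Module.finrank k (semiLocal S ⧸ semiIdeal S n) = ∑ Q ∈ S, n Q := by
  classical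
  choose t ht using fun Q : Place k K => Q.2.2 (WithZero.exp (-1 : ℤ))
  obtain ⟨N, hN⟩ : ∃ N : ℕ, N = ∑ Q ∈ S, n Q := ⟨_, rfl⟩
  have hnN : ∀ Q ∈ S, n Q ≤ N := by
    intro Q hQ
    rw [hN]
    exact Finset.single_le_sum (f := n) (fun i _ => Nat.zero_le _) hQ
  have hexpN : ∀ Q ∈ S, WithZero.exp (-(N : ℤ)) ≤ WithZero.exp (-(n Q : ℤ)) := by
    intro Q hQ
    rw [WithZero.exp_le_exp]
    have := hnN Q hQ
    omega
  have htpow : ∀ (Q : Place k K) (i : ℕ), Q.1 (t Q ^ i) = WithZero.exp (-(i : ℤ)) := by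
    intro Q i
    have := Place.val_zpow_uniformizer Q (ht Q) (i : ℤ)
    rwa [zpow_natCast] at this
  -- the index type and the approximating elements
  obtain ⟨y, hy⟩ : ∃ y : ((Q : {Q // Q ∈ S}) × Fin (n Q.1)) → Place k K → K,
      ∀ idx Q', y idx Q' = if Q' = idx.1.1 then t idx.1.1 ^ (idx.2 : ℕ) else 0 :=
    ⟨fun idx Q' => if Q' = idx.1.1 then t idx.1.1 ^ (idx.2 : ℕ) else 0, fun _ _ => rfl⟩
  have hy1 : ∀ (idx : (Q : {Q // Q ∈ S}) × Fin (n Q.1)) (Q' : Place k K),
      Q'.1 (y idx Q') ≤ 1 := by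
    intro idx Q'
    rw [hy]
    split_ifs with h
    · rw [h, htpow, ← WithZero.exp_zero, WithZero.exp_le_exp]
      omega
    · rw [map_zero]; exact zero_le
  choose e he using fun idx => weak_approx S (y idx) N
  have heS : ∀ idx, e idx ∈ semiLocal S := by
    intro idx Q' hQ'
    have h1 : e idx = (e idx - y idx Q') + y idx Q' := by ring
    rw [h1]
    apply Valuation.map_add_le _ _ (hy1 idx Q')
    apply le_trans (he idx Q' hQ')
    rw [← WithZero.exp_zero, WithZero.exp_le_exp]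
    omega
  -- the key estimate
  have key : ∀ (g : ((Q : {Q // Q ∈ S}) × Fin (n Q.1)) → k) (Q₀ : Place k K) (hQ₀ : Q₀ ∈ S)
      (a : ℕ → k), (∀ i : Fin (n Q₀), a i = g ⟨⟨Q₀, hQ₀⟩, i⟩) →
      Q₀.1 (∑ idx, algebraMap k K (g idx) * e idx -
        ∑ i ∈ Finset.range (n Q₀), algebraMap k K (a i) * t Q₀ ^ i) ≤
          WithZero.exp (-(N : ℤ)) := by
    intro g Q₀ hQ₀ a hag
    have h1 : ∑ i ∈ Finset.range (n Q₀), algebraMap k K (a i) * t Q₀ ^ i =
        ∑ idx, algebraMap k K (g idx) * y idx Q₀ := by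
      rw [Fintype.sum_sigma, Finset.sum_eq_single (⟨Q₀, hQ₀⟩ : {Q // Q ∈ S})]
      · rw [← Fin.sum_univ_eq_sum_range (fun i => algebraMap k K (a i) * t Q₀ ^ i)]
        apply Finset.sum_congr rfl
        intro i _
        rw [hy, if_pos rfl, hag i]
      · intro Q _ hQ
        apply Finset.sum_eq_zero
        intro i _
        rw [hy, if_neg, mul_zero]
        intro h
        apply hQ
        exact Subtype.ext h.symm
      · intro h
        exact absurd (Finset.mem_univ _) h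
    rw [h1, ← Finset.sum_sub_distrib]
    apply Valuation.map_sum_le
    intro idx _
    rw [← mul_sub, map_mul]
    calc Q₀.1 (algebraMap k K (g idx)) * Q₀.1 (e idx - y idx Q₀)
        ≤ 1 * WithZero.exp (-(N : ℤ)) := mul_le_mul' (Q₀.2.1 _) (he idx Q₀ hQ₀)
      _ = _ := one_mul _
  -- the vectors
  obtain ⟨v, hv⟩ : ∃ v : ((Q : {Q // Q ∈ S}) × Fin (n Q.1)) → (semiLocal S ⧸ semiIdeal S n),
      ∀ idx, v idx = Ideal.Quotient.mk (semiIdeal S n) ⟨e idx, heS idx⟩ :=
    ⟨fun idx => Ideal.Quotient.mk (semiIdeal S n) ⟨e idx, heS idx⟩, fun _ => rfl⟩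
  have hcomb : ∀ g : ((Q : {Q // Q ∈ S}) × Fin (n Q.1)) → k,
      ∑ idx, g idx • v idx = Ideal.Quotient.mk (semiIdeal S n)
        ⟨∑ idx, algebraMap k K (g idx) * e idx,
          Subalgebra.sum_mem _ fun idx _ =>
            Subalgebra.mul_mem _ (Subalgebra.algebraMap_mem _ _) (heS idx)⟩ := by
    intro g
    have h1 : (⟨∑ idx, algebraMap k K (g idx) * e idx,
          Subalgebra.sum_mem _ fun idx _ =>
            Subalgebra.mul_mem _ (Subalgebra.algebraMap_mem _ _) (heS idx)⟩ : semiLocal S) =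
        ∑ idx, g idx • (⟨e idx, heS idx⟩ : semiLocal S) := by
      apply Subtype.ext
      rw [AddSubmonoidClass.coe_finset_sum]
      apply Finset.sum_congr rfl
      intro idx _
      rw [Algebra.smul_def]
      rfl
    rw [h1, map_sum]
    apply Finset.sum_congr rfl
    intro idx _
    rw [hv]
    rfl
  have hli : LinearIndependent k v := by
    rw [Fintype.linearIndependent_iff]
    intro g hg idx₀
    rw [hcomb g, Ideal.Quotient.eq_zero_iff_mem] at hg
    obtain ⟨⟨Q₀, hQ₀⟩, i₀⟩ := idx₀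
    obtain ⟨a, ha⟩ : ∃ a : ℕ → k, ∀ i : Fin (n Q₀), a i = g ⟨⟨Q₀, hQ₀⟩, i⟩ :=
      ⟨fun i => if h : i < n Q₀ then g ⟨⟨Q₀, hQ₀⟩, ⟨i, h⟩⟩ else 0, fun i => by
        show (if h : (i : ℕ) < n Q₀ then g ⟨⟨Q₀, hQ₀⟩, ⟨i, h⟩⟩ else 0) = _
        rw [dif_pos i.2]⟩
    have h1 := key g Q₀ hQ₀ a ha
    have h2 : Q₀.1 (∑ idx, algebraMap k K (g idx) * e idx) ≤ WithZero.exp (-(n Q₀ : ℤ)) :=
      hg Q₀ hQ₀
    have h3 : Q₀.1 (∑ i ∈ Finset.range (n Q₀), algebraMap k K (a i) * t Q₀ ^ i) ≤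
        WithZero.exp (-(n Q₀ : ℤ)) := by
      have e1 : ∑ i ∈ Finset.range (n Q₀), algebraMap k K (a i) * t Q₀ ^ i =
          ∑ idx, algebraMap k K (g idx) * e idx -
            (∑ idx, algebraMap k K (g idx) * e idx -
              ∑ i ∈ Finset.range (n Q₀), algebraMap k K (a i) * t Q₀ ^ i) := by ring
      rw [e1]
      exact Valuation.map_sub_le _ h2 (le_trans h1 (hexpN Q₀ hQ₀))
    have h4 := coeffs_eq_zero Q₀ (ht Q₀) (n Q₀) a h3 i₀ i₀.2
    rw [← ha i₀]
    exact h4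
  have hsp : ⊤ ≤ Submodule.span k (Set.range v) := by
    intro q _
    obtain ⟨z, rfl⟩ := Ideal.Quotient.mk_surjective q
    have hex : ∀ Q : {Q // Q ∈ S}, ∃ a : ℕ → k,
        Q.1.1 ((z : K) - ∑ i ∈ Finset.range (n Q.1), algebraMap k K (a i) * t Q.1 ^ i) ≤
          WithZero.exp (-(n Q.1 : ℤ)) :=
      fun Q => exists_coeffs hK Q.1 (ht Q.1) (n Q.1) (z.2 Q.1 Q.2)
    choose a ha using hex
    obtain ⟨g, hg⟩ : ∃ g : ((Q : {Q // Q ∈ S}) × Fin (n Q.1)) → k,
        ∀ idx, g idx = a idx.1 idx.2 := ⟨fun idx => a idx.1 idx.2, fun _ => rfl⟩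
    have hmem : Ideal.Quotient.mk (semiIdeal S n) z = ∑ idx, g idx • v idx := by
      rw [hcomb g, Ideal.Quotient.eq]
      intro Q₀ hQ₀
      have h1 := key g Q₀ hQ₀ (a ⟨Q₀, hQ₀⟩) (fun i => (hg ⟨⟨Q₀, hQ₀⟩, i⟩).symm)
      have h2 := ha ⟨Q₀, hQ₀⟩
      have e1 : (((z - ⟨∑ idx, algebraMap k K (g idx) * e idx,
          Subalgebra.sum_mem _ fun idx _ =>
            Subalgebra.mul_mem _ (Subalgebra.algebraMap_mem _ _) (heS idx)⟩ : semiLocal S)) : K) =
          ((z : K) - ∑ i ∈ Finset.range (n Q₀),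
            algebraMap k K (a ⟨Q₀, hQ₀⟩ i) * t Q₀ ^ i) -
          (∑ idx, algebraMap k K (g idx) * e idx -
            ∑ i ∈ Finset.range (n Q₀), algebraMap k K (a ⟨Q₀, hQ₀⟩ i) * t Q₀ ^ i) := by
        show (z : K) - ∑ idx, algebraMap k K (g idx) * e idx = _
        ring
      rw [e1]
      exact Valuation.map_sub_le _ h2 (le_trans h1 (hexpN Q₀ hQ₀))
    rw [hmem]
    exact Submodule.sum_mem _ fun idx _ =>
      Submodule.smul_mem _ _ (Submodule.subset_span ⟨idx, rfl⟩)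
  obtain ⟨b, -⟩ : ∃ b : Module.Basis ((Q : {Q // Q ∈ S}) × Fin (n Q.1)) k
      (semiLocal S ⧸ semiIdeal S n), True := ⟨Module.Basis.mk hli hsp, trivial⟩
  refine ⟨Module.Finite.of_basis b, ?_⟩
  rw [Module.finrank_eq_card_basis b, Fintype.card_sigma]
  simp only [Fintype.card_fin]
  exact Finset.sum_coe_sort S n

end Groth.Agent.Lib.helper10.Inter
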