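import Groth.Agent.Lib.Helper10.Inter1

/-!
# Intersection multiplicities (helper10), part 2: the fibre of a finite point of a plane model,
the local ring inside the semilocal ring, the conductor
-/

set_option autoImplicit false
set_option linter.unusedSectionVars false
set_option linter.style.haveILetI false

universe u v

open FunFld MvPolynomial

namespace Groth.Agent.Lib.helper10.Inter

open FF Jac

variable {k : Type u} {K : Type v} [Field k] [Field K] [Algebra k K]

/-- `sameImage_argmax` with only the chosen entry assumed nonzero. -/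
theorem sameImage_argmax' {ι : Type*} (φ : ι → K) {P Q : Place k K}
    (h : SameImage φ P Q) (j : ι) (hj0 : φ j ≠ 0) (hj : ∀ i, P.1 (φ i) ≤ P.1 (φ j)) :
    (∀ i, Q.1 (φ i) ≤ Q.1 (φ j)) ∧
      ∀ i, ∃ c : k, P.1 (φ i / φ j - algebraMap k K c) < 1 ∧
        Q.1 (φ i / φ j - algebraMap k K c) < 1 := by
  obtain ⟨j', hj'0, hj'P, hj'Q, hres⟩ := h
  have hPjj' : P.1 (φ j / φ j') = 1 := by
    rw [map_div₀]
    have : P.1 (φ j) = P.1 (φ j') := le_antisymm (hj'P j) (hj j')
    rw [this]
    exact div_self ((Valuation.ne_zero_iff _).mpr hj'0)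
  obtain ⟨cj, hcjP, hcjQ⟩ := hres j
  have hcj0 : cj ≠ 0 := by
    rintro rfl
    rw [map_zero, sub_zero, hPjj'] at hcjP
    exact lt_irrefl _ hcjP
  have hQjj' : Q.1 (φ j / φ j') = 1 := by
    have e : φ j / φ j' = algebraMap k K cj + (φ j / φ j' - algebraMap k K cj) := by ring
    rw [e, Valuation.map_add_eq_of_lt_left]
    · exact Place.val_algebraMap_eq_one Q hcj0
    · rw [Place.val_algebraMap_eq_one Q hcj0]; exact hcjQ
  have hQj : Q.1 (φ j) = Q.1 (φ j') := by
    rw [map_div₀] at hQjj'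
    exact (div_eq_one_iff_eq ((Valuation.ne_zero_iff _).mpr hj'0)).mp hQjj'
  refine ⟨fun i => hQj ▸ hj'Q i, fun i => ?_⟩
  obtain ⟨ci, hciP, hciQ⟩ := hres i
  have key : ∀ R : Place k K, R.1 (φ j / φ j') = 1 → R.1 (φ i / φ j' - algebraMap k K ci) < 1 →
      R.1 (φ j / φ j' - algebraMap k K cj) < 1 →
      R.1 (φ i / φ j - algebraMap k K (ci / cj)) < 1 := by
    intro R hR1 hRi hRj
    have e : φ i / φ j - algebraMap k K (ci / cj) =
        ((φ i / φ j' - algebraMap k K ci) * algebraMap k K cj -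
          algebraMap k K ci * (φ j / φ j' - algebraMap k K cj)) /
            ((φ j / φ j') * algebraMap k K cj) := by
      have h3 : algebraMap k K cj ≠ 0 := by
        rw [Ne, map_eq_zero_iff _ (algebraMap k K).injective]; exact hcj0
      rw [map_div₀]
      field_simp
      ring
    rw [e, map_div₀, Valuation.map_mul, hR1, Place.val_algebraMap_eq_one R hcj0, mul_one,
      div_one]
    refine lt_of_le_of_lt (Valuation.map_sub _ _ _) (max_lt ?_ ?_)
    · rw [Valuation.map_mul, Place.val_algebraMap_eq_one R hcj0, mul_one]; exact hRi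
    · rw [Valuation.map_mul]
      calc R.1 (algebraMap k K ci) * R.1 (φ j / φ j' - algebraMap k K cj)
          ≤ 1 * R.1 (φ j / φ j' - algebraMap k K cj) := mul_le_mul' (R.2.1 ci) le_rfl
        _ = R.1 (φ j / φ j' - algebraMap k K cj) := one_mul _
        _ < 1 := hRj
  exact ⟨ci / cj, key P hPjj' hciP hcjP, key Q hQjj' hciQ hcjQ⟩

theorem val_le_one_of_sub_lt (P : Place k K) {z : K} {c : k}
    (h : P.1 (z - algebraMap k K c) < 1) : P.1 z ≤ 1 := by
  have : z = (z - algebraMap k K c) + algebraMap k K c := by ring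
  rw [this]
  exact Valuation.map_add_le _ h.le (P.2.1 _)

theorem const_eq_of_sub_lt (P : Place k K) {z : K} {c c' : k}
    (h : P.1 (z - algebraMap k K c) < 1) (h' : P.1 (z - algebraMap k K c') < 1) : c = c' := by
  by_contra hne
  have h1 : P.1 (algebraMap k K (c' - c)) = 1 :=
    Place.val_algebraMap_eq_one P (sub_ne_zero.2 (Ne.symm hne))
  have h2 : algebraMap k K (c' - c) = (z - algebraMap k K c) - (z - algebraMap k K c') := by
    rw [map_sub]; ring
  rw [h2] at h1
  have h3 := Valuation.map_sub_lt _ h h'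
  rw [h1] at h3
  exact lt_irrefl _ h3

/-- **The fibre over a finite point of a plane model.** -/
theorem sameImage_plane_iff (x y : K) (P Q : Place k K) (c : Fin 2 → k)
    (hc : ∀ i, P.1 (![x, y] i - algebraMap k K (c i)) < 1) :
    SameImage ![(1 : K), x, y] P Q ↔ ∀ i, Q.1 (![x, y] i - algebraMap k K (c i)) < 1 := by
  have hPx : P.1 x ≤ 1 := val_le_one_of_sub_lt P (hc 0)
  have hPy : P.1 y ≤ 1 := val_le_one_of_sub_lt P (hc 1)
  have hjP : ∀ i, P.1 (![(1 : K), x, y] i) ≤ P.1 (![(1 : K), x, y] 0) := by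
    intro i
    fin_cases i
    · exact le_rfl
    · show P.1 x ≤ P.1 1
      rw [map_one]; exact hPx
    · show P.1 y ≤ P.1 1
      rw [map_one]; exact hPy
  constructor
  · intro h
    obtain ⟨-, hres⟩ := sameImage_argmax' _ h 0 (by simp) hjP
    intro i
    fin_cases i
    · obtain ⟨c', hP', hQ'⟩ := hres 1
      have e : ![(1 : K), x, y] 1 / ![(1 : K), x, y] 0 = x := by simp
      rw [e] at hP' hQ'
      have := const_eq_of_sub_lt P (hc 0) hP'
      show Q.1 (x - algebraMap k K (c 0)) < 1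
      rw [this]; exact hQ'
    · obtain ⟨c', hP', hQ'⟩ := hres 2
      have e : ![(1 : K), x, y] 2 / ![(1 : K), x, y] 0 = y := by simp
      rw [e] at hP' hQ'
      have := const_eq_of_sub_lt P (hc 1) hP'
      show Q.1 (y - algebraMap k K (c 1)) < 1
      rw [this]; exact hQ'
  · intro hQ
    have hQx : Q.1 x ≤ 1 := val_le_one_of_sub_lt Q (hQ 0)
    have hQy : Q.1 y ≤ 1 := val_le_one_of_sub_lt Q (hQ 1)
    refine ⟨0, by simp, hjP, ?_, ?_⟩
    · intro i
      fin_cases i
      · exact le_rfl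
      · show Q.1 x ≤ Q.1 1
        rw [map_one]; exact hQx
      · show Q.1 y ≤ Q.1 1
        rw [map_one]; exact hQy
    · intro i
      fin_cases i
      · refine ⟨1, ?_, ?_⟩ <;> simp
      · refine ⟨c 0, ?_, ?_⟩
        · have e : ![(1 : K), x, y] 1 / ![(1 : K), x, y] 0 = x := by simp
          show P.1 (![(1 : K), x, y] 1 / ![(1 : K), x, y] 0 - _) < 1
          rw [e]; exact hc 0
        · have e : ![(1 : K), x, y] 1 / ![(1 : K), x, y] 0 = x := by simp
          show Q.1 (![(1 : K), x, y] 1 / ![(1 : K), x, y] 0 - _) < 1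
          rw [e]; exact hQ 0
      · refine ⟨c 1, ?_, ?_⟩
        · have e : ![(1 : K), x, y] 2 / ![(1 : K), x, y] 0 = y := by simp
          show P.1 (![(1 : K), x, y] 2 / ![(1 : K), x, y] 0 - _) < 1
          rw [e]; exact hc 1
        · have e : ![(1 : K), x, y] 2 / ![(1 : K), x, y] 0 = y := by simp
          show Q.1 (![(1 : K), x, y] 2 / ![(1 : K), x, y] 0 - _) < 1
          rw [e]; exact hQ 1

/-- The fibre is finite. -/
theorem finite_fibre (hK : IsFunctionField k K) (x y : K)
    (hxy : IntermediateField.adjoin k ({x, y} : Set K) = ⊤) (c : Fin 2 → k) :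
    {Q : Place k K | ∀ i, Q.1 (![x, y] i - algebraMap k K (c i)) < 1}.Finite := by
  have hzeros : ∀ z : K, z ≠ 0 → {Q : Place k K | Q.1 z < 1}.Finite := by
    intro z hz
    refine (support_ord_finite hK z).subset ?_
    intro Q hQ
    rw [Function.mem_support]
    have h1 : Q.1 z < 1 := hQ
    rw [Place.val_eq_exp_neg_ord Q hz, ← WithZero.exp_zero, WithZero.exp_lt_exp] at h1
    omega
  have htr : ∀ (z : K) (c' : k), Transcendental k z → z - algebraMap k K c' ≠ 0 := by
    intro z c' hz h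
    apply hz
    rw [sub_eq_zero] at h
    rw [h]
    exact isAlgebraic_algebraMap c'
  rcases transcendental_or hK x y hxy with hx | hy
  · refine (hzeros _ (htr x (c 0) hx)).subset ?_
    intro Q hQ
    exact hQ 0
  · refine (hzeros _ (htr y (c 1) hy)).subset ?_
    intro Q hQ
    exact hQ 1

/-- The local ring of the plane chart lies in the valuation ring of every place of the fibre. -/
theorem val_le_one_of_mem_Oa_fibre {P Q : Place k K} (c₂ : Chart P (Fin 2))
    (hQ : ∀ i, Q.1 (c₂.u i - algebraMap k K (c₂.a i)) < 1) {z : K} (hz : z ∈ c₂.Oa) :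
    Q.1 z ≤ 1 := by
  obtain ⟨cQ, hcQu, hcQa⟩ : ∃ cQ : Chart Q (Fin 2), cQ.u = c₂.u ∧ cQ.a = c₂.a :=
    ⟨⟨c₂.u, c₂.a, hQ⟩, rfl, rfl⟩
  apply cQ.val_le_one_of_mem_Oa
  obtain ⟨G, H, hH, e⟩ := hz
  exact ⟨G, H, by rw [hcQa]; exact hH, by rw [hcQu]; exact e⟩

/-- The translation `X₀ ↦ 1, X₁ ↦ X₀ + α, X₂ ↦ X₁ + β`. -/
noncomputable def tau (α β : k) : MvPolynomial (Fin 3) k →ₐ[k] MvPolynomial (Fin 2) k :=
  aeval ![1, X 0 + C α, X 1 + C β]

theorem aeval_tau (α β : k) (x y : K) (G : MvPolynomial (Fin 3) k) :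
    aeval ![x, y] (tau α β G) =
      aeval ![(1 : K), x + algebraMap k K α, y + algebraMap k K β] G := by
  have h : (aeval ![x, y] : MvPolynomial (Fin 2) k →ₐ[k] K).comp (tau α β) =
      aeval ![(1 : K), x + algebraMap k K α, y + algebraMap k K β] := by
    apply algHom_ext
    intro i
    fin_cases i
    · simp [tau]
    · simp [tau]
    · simp [tau]
  exact congrArg (fun θ : MvPolynomial (Fin 3) k →ₐ[k] K => θ G) h

theorem eval_tau (α β : k) (c : Fin 2 → k) (G : MvPolynomial (Fin 3) k) :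
    eval c (tau α β G) = eval ![(1 : k), c 0 + α, c 1 + β] G := by
  have h : (aeval c : MvPolynomial (Fin 2) k →ₐ[k] k).comp (tau α β) =
      aeval ![(1 : k), c 0 + α, c 1 + β] := by
    apply algHom_ext
    intro i
    fin_cases i
    · simp [tau]
    · simp [tau]
    · simp [tau]
  exact congrArg (fun θ : MvPolynomial (Fin 3) k →ₐ[k] k => θ G) h

/-- **The conductor of the local ring of a plane chart.** -/
theorem exists_conductor_plane (hK : IsFunctionField k K) [IsAlgClosed k] (x y : K)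
    (hxy : IntermediateField.adjoin k ({x, y} : Set K) = ⊤) (P : Place k K)
    (c₂ : Chart P (Fin 2)) (hu : c₂.u = ![x, y]) :
    ∃ N : ℕ, ∀ z : K, (∀ Q : Place k K, (∀ i, Q.1 (c₂.u i - algebraMap k K (c₂.a i)) < 1) →
      Q.1 z ≤ WithZero.exp (-(N : ℤ))) → z ∈ c₂.Oa := by
  classical
  obtain ⟨α, hα⟩ : ∃ α : k, x + algebraMap k K α ≠ 0 := by
    by_cases hx : x = 0
    · exact ⟨1, by rw [hx, zero_add, map_one]; exact one_ne_zero⟩
    · exact ⟨0, by rw [map_zero, add_zero]; exact hx⟩
  obtain ⟨β, hβ⟩ : ∃ β : k, y + algebraMap k K β ≠ 0 := by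
    by_cases hy : y = 0
    · exact ⟨1, by rw [hy, zero_add, map_one]; exact one_ne_zero⟩
    · exact ⟨0, by rw [map_zero, add_zero]; exact hy⟩
  obtain ⟨x', hx'⟩ : ∃ x', x' = x + algebraMap k K α := ⟨_, rfl⟩
  obtain ⟨y', hy'⟩ : ∃ y', y' = y + algebraMap k K β := ⟨_, rfl⟩
  rw [← hx'] at hα
  rw [← hy'] at hβ
  have h0' : ∀ i, ![(1 : K), x', y'] i ≠ 0 := by
    intro i
    fin_cases i
    · exact one_ne_zero
    · exact hα
    · exact hβ
  have hbir' : IntermediateField.adjoin k
      (Set.range fun i => ![(1 : K), x', y'] i / ![(1 : K), x', y'] 0) = ⊤ := by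
    rw [eq_top_iff, ← hxy, IntermediateField.adjoin_le_iff]
    have hx'm : x' ∈ IntermediateField.adjoin k
        (Set.range fun i => ![(1 : K), x', y'] i / ![(1 : K), x', y'] 0) :=
      IntermediateField.subset_adjoin _ _ ⟨1, by simp⟩
    have hy'm : y' ∈ IntermediateField.adjoin k
        (Set.range fun i => ![(1 : K), x', y'] i / ![(1 : K), x', y'] 0) :=
      IntermediateField.subset_adjoin _ _ ⟨2, by simp⟩
    rintro z (rfl | hz)
    · have : z = x' - algebraMap k K α := by rw [hx']; ring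
      rw [this]
      exact sub_mem hx'm (IntermediateField.algebraMap_mem _ _)
    · rw [Set.mem_singleton_iff.1 hz]
      have : y = y' - algebraMap k K β := by rw [hy']; ring
      rw [this]
      exact sub_mem hy'm (IntermediateField.algebraMap_mem _ _)
  obtain ⟨N, hNc⟩ := exists_bound_inLocRing hK ![(1 : K), x', y'] h0' 0 hbir' P
  refine ⟨N, fun z hz => ?_⟩
  -- the translated chart data
  have hcx : P.1 (x - algebraMap k K (c₂.a 0)) < 1 := by
    have := c₂.hu 0
    rw [hu] at this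
    exact this
  have hcy : P.1 (y - algebraMap k K (c₂.a 1)) < 1 := by
    have := c₂.hu 1
    rw [hu] at this
    exact this
  have hc' : ∀ i, P.1 (![x', y'] i - algebraMap k K (![c₂.a 0 + α, c₂.a 1 + β] i)) < 1 := by
    intro i
    fin_cases i
    · show P.1 (x' - algebraMap k K (c₂.a 0 + α)) < 1
      have : x' - algebraMap k K (c₂.a 0 + α) = x - algebraMap k K (c₂.a 0) := by
        rw [hx', map_add]; ring
      rw [this]; exact hcx
    · show P.1 (y' - algebraMap k K (c₂.a 1 + β)) < 1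
      have : y' - algebraMap k K (c₂.a 1 + β) = y - algebraMap k K (c₂.a 1) := by
        rw [hy', map_add]; ring
      rw [this]; exact hcy
  have hloc : InLocRing ![(1 : K), x', y'] P z := by
    apply hNc
    intro Q hQ
    apply hz
    rw [sameImage_plane_iff x' y' P Q _ hc'] at hQ
    intro i
    fin_cases i
    · have h1 := hQ 0
      have : x' - algebraMap k K (c₂.a 0 + α) = x - algebraMap k K (c₂.a 0) := by
        rw [hx', map_add]; ring
      show Q.1 (c₂.u 0 - algebraMap k K (c₂.a 0)) < 1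
      rw [hu]
      show Q.1 (x - _) < 1
      rw [← this]; exact h1
    · have h1 := hQ 1
      have : y' - algebraMap k K (c₂.a 1 + β) = y - algebraMap k K (c₂.a 1) := by
        rw [hy', map_add]; ring
      show Q.1 (c₂.u 1 - algebraMap k K (c₂.a 1)) < 1
      rw [hu]
      show Q.1 (y - _) < 1
      rw [← this]; exact h1
  -- the chart in three variables
  have hjP : ∀ i, P.1 (![(1 : K), x', y'] i) ≤ P.1 (![(1 : K), x', y'] 0) := by
    intro i
    fin_cases i
    · exact le_rfl
    · show P.1 x' ≤ P.1 1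
      rw [map_one]; exact val_le_one_of_sub_lt P (hc' 0)
    · show P.1 y' ≤ P.1 1
      rw [map_one]; exact val_le_one_of_sub_lt P (hc' 1)
  obtain ⟨c₃, hc₃u, hc₃a⟩ : ∃ c₃ : Chart P (Fin 3),
      c₃.u = (fun i => ![(1 : K), x', y'] i / ![(1 : K), x', y'] 0) ∧
        c₃.a = ![(1 : k), c₂.a 0 + α, c₂.a 1 + β] := by
    refine ⟨⟨fun i => ![(1 : K), x', y'] i / ![(1 : K), x', y'] 0,
      ![(1 : k), c₂.a 0 + α, c₂.a 1 + β], ?_⟩, rfl, rfl⟩
    intro i
    fin_cases i
    · simp
    · have := hc' 0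
      simpa using this
    · have := hc' 1
      simpa using this
  have hmem := (inLocRing_iff_mem_Oa hK ![(1 : K), x', y'] h0' P 0 hjP c₃ hc₃u z).1 hloc
  obtain ⟨G, H, hH, e⟩ := hmem
  have hu3 : c₃.u = ![(1 : K), x + algebraMap k K α, y + algebraMap k K β] := by
    rw [hc₃u]
    funext i
    fin_cases i <;> simp [hx', hy']
  refine ⟨tau α β G, tau α β H, ?_, ?_⟩
  · rw [eval_tau, ← hc₃a]; exact hH
  · rw [hu, aeval_tau, aeval_tau, ← hu3]; exact e

end Groth.Agent.Lib.helper10.Inter
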