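import Groth.Agent.Lib.Helper10.Inter2

/-!
# Intersection multiplicities (helper10), part 3: the local quotient as a quotient of the
localization of the polynomial ring
-/

set_option autoImplicit false
set_option linter.unusedSectionVars false
set_option linter.style.haveILetI false

universe u v

open FunFld MvPolynomial

namespace Groth.Agent.Lib.helper10.Inter

open FF Jac

/-- If `θ : A → R` inverts the complement of the prime `M`, every element of `R` is a fraction of
images with denominator outside `M`, and `ker θ = (f)`, then `A_M/(f, g) ≃ R/(θ g)`. -/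
theorem finrank_localization_quot {k : Type*} {A : Type*} {R : Type*} [Field k] [CommRing A]
    [Algebra k A] [CommRing R] [Algebra k R] (M : Ideal A) [M.IsPrime] (θ : A →ₐ[k] R)
    (h1 : ∀ s, s ∉ M → IsUnit (θ s))
    (h2 : ∀ r : R, ∃ G H, H ∉ M ∧ r * θ H = θ G) (f g : A)
    (h3 : RingHom.ker θ = Ideal.span {f}) :
    Module.finrank k (Localization.AtPrime M ⧸
      Ideal.map (algebraMap A (Localization.AtPrime M)) (Ideal.span {f, g})) =
    Module.finrank k (R ⧸ Ideal.span {θ g}) := by
  have hu : ∀ y : M.primeCompl, IsUnit (θ y) := fun y => h1 y y.2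
  obtain ⟨Φ₀, hΦ₀⟩ : ∃ Φ₀ : Localization.AtPrime M →ₐ[k] R,
      ∀ a : A, Φ₀ (algebraMap A _ a) = θ a :=
    ⟨IsLocalization.liftAlgHom (M := M.primeCompl) hu, fun a => IsLocalization.lift_eq hu a⟩
  have hmk : ∀ (G : A) (s : M.primeCompl),
      Φ₀ (IsLocalization.mk' (Localization.AtPrime M) G s) * θ s = θ G := by
    intro G s
    rw [← hΦ₀ s, ← map_mul, IsLocalization.mk'_spec, hΦ₀]
  obtain ⟨Φ, hΦ⟩ : ∃ Φ : Localization.AtPrime M →ₐ[k] R ⧸ Ideal.span {θ g},
      ∀ X, Φ X = Ideal.Quotient.mk _ (Φ₀ X) :=
    ⟨(Ideal.Quotient.mkₐ k _).comp Φ₀, fun _ => rfl⟩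
  have hsurj : Function.Surjective Φ := by
    intro q
    obtain ⟨r, rfl⟩ := Ideal.Quotient.mk_surjective q
    obtain ⟨G, H, hH, e⟩ := h2 r
    refine ⟨IsLocalization.mk' _ G (⟨H, hH⟩ : M.primeCompl), ?_⟩
    rw [hΦ]
    congr 1
    have h4 := hmk G ⟨H, hH⟩
    exact (h1 H hH).mul_right_cancel (h4.trans e.symm)
  have hker : RingHom.ker (Φ : Localization.AtPrime M →+* R ⧸ Ideal.span {θ g}) =
      Ideal.map (algebraMap A (Localization.AtPrime M)) (Ideal.span {f, g}) := by
    apply le_antisymm
    · intro X hX
      rw [RingHom.mem_ker] at hX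
      obtain ⟨G, s, rfl⟩ := IsLocalization.exists_mk'_eq M.primeCompl X
      have h4 := hmk G s
      have h5 : Φ₀ (IsLocalization.mk' (Localization.AtPrime M) G s) ∈ Ideal.span {θ g} := by
        rw [← Ideal.Quotient.eq_zero_iff_mem, ← hΦ]
        exact hX
      obtain ⟨w, hw⟩ := Ideal.mem_span_singleton'.1 h5
      obtain ⟨G', H', hH', e'⟩ := h2 w
      have h6 : θ (G * H' - G' * g * s) = 0 := by
        rw [map_sub, map_mul, map_mul, map_mul, ← h4, ← hw, ← e']
        ring
      have h7 : G * H' - G' * g * s ∈ Ideal.span {f} := by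
        rw [← h3]; exact h6
      have h8 : G * H' ∈ Ideal.span ({f, g} : Set A) := by
        have : G * H' = (G * H' - G' * g * s) + G' * s * g := by ring
        rw [this]
        apply Ideal.add_mem
        · exact Ideal.span_mono (by simp) h7
        · exact Ideal.mul_mem_left _ _ (Ideal.subset_span (by simp))
      have h9 : algebraMap A (Localization.AtPrime M) (G * H') ∈
          Ideal.map (algebraMap A (Localization.AtPrime M)) (Ideal.span {f, g}) :=
        Ideal.mem_map_of_mem _ h8
      have hsH : (s : A) * H' ∈ M.primeCompl := M.primeCompl.mul_mem s.2 hH'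
      have h10 : IsLocalization.mk' (Localization.AtPrime M) G s *
          algebraMap A (Localization.AtPrime M) ((s : A) * H') =
            algebraMap A (Localization.AtPrime M) (G * H') := by
        rw [map_mul, map_mul, ← mul_assoc, IsLocalization.mk'_spec]
      rw [← h10] at h9
      have hunit : IsUnit (algebraMap A (Localization.AtPrime M) ((s : A) * H')) :=
        IsLocalization.map_units _ (⟨(s : A) * H', hsH⟩ : M.primeCompl)
      exact (Ideal.mul_unit_mem_iff_mem _ hunit).1 h9
    · rw [Ideal.map_le_iff_le_comap, Ideal.span_le]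
      rintro a (rfl | ha)
      · show algebraMap A (Localization.AtPrime M) a ∈ RingHom.ker _
        rw [RingHom.mem_ker]
        show Φ _ = 0
        rw [hΦ, hΦ₀]
        have : θ a = 0 := by
          have : a ∈ RingHom.ker θ := by rw [h3]; exact Ideal.mem_span_singleton_self _
          exact this
        rw [this, map_zero]
      · rw [Set.mem_singleton_iff] at ha
        subst ha
        show algebraMap A (Localization.AtPrime M) a ∈ RingHom.ker _
        rw [RingHom.mem_ker]
        show Φ _ = 0
        rw [hΦ, hΦ₀, Ideal.Quotient.eq_zero_iff_mem]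
        exact Ideal.mem_span_singleton_self _
  have e := Ideal.quotientKerAlgEquivOfSurjective hsurj
  rw [← hker]
  exact e.toLinearEquiv.finrank_eq

end Groth.Agent.Lib.helper10.Inter
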