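import Groth.Agent.Lib.Helper10.Inter3
import Groth.Agent.S11049

/-!
# Intersection multiplicities (helper10), part 4: the intersection multiplicity at a finite point
of a plane model is the dimension of the local quotient
-/

set_option autoImplicit false
set_option linter.unusedSectionVars false
set_option linter.style.haveILetI false

universe u v

open FunFld MvPolynomial

namespace Groth.Agent.Lib.helper10.Inter

open FF Jac

variable {k : Type u} {K : Type v} [Field k] [Field K] [Algebra k K]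

theorem span_singleton_eq_semiIdeal (S : Finset (Place k K)) (γ : semiLocal S)
    (hγ : (γ : K) ≠ 0) :
    Ideal.span {γ} = semiIdeal S (fun Q => (Q.ord (γ : K)).toNat) := by
  have hord : ∀ Q ∈ S, 0 ≤ Q.ord (γ : K) := by
    intro Q hQ
    have := γ.2 Q hQ
    rw [Place.val_eq_exp_neg_ord Q hγ, ← WithZero.exp_zero, WithZero.exp_le_exp] at this
    omega
  ext z
  rw [Ideal.mem_span_singleton', mem_semiIdeal]
  constructor
  · rintro ⟨w, rfl⟩ Q hQ
    show Q.1 ((w : K) * (γ : K)) ≤ _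
    rw [map_mul, Place.val_eq_exp_neg_ord Q hγ, Int.toNat_of_nonneg (hord Q hQ)]
    calc Q.1 (w : K) * WithZero.exp (-Q.ord (γ : K))
        ≤ 1 * WithZero.exp (-Q.ord (γ : K)) := mul_le_mul' (w.2 Q hQ) le_rfl
      _ = _ := one_mul _
  · intro hz
    have hw : (z : K) / (γ : K) ∈ semiLocal S := by
      intro Q hQ
      rw [map_div₀]
      apply div_le_one_of_le₀ _ zero_le
      have := hz Q hQ
      rwa [Int.toNat_of_nonneg (hord Q hQ), ← Place.val_eq_exp_neg_ord Q hγ] at this
    refine ⟨⟨_, hw⟩, ?_⟩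
    apply Subtype.ext
    show (z : K) / (γ : K) * (γ : K) = z
    field_simp

theorem finite_quot_of_conductor (hK : IsFunctionField k K) [IsAlgClosed k]
    (S : Finset (Place k K)) (B : Subalgebra k (semiLocal S)) (N : ℕ)
    (hN : ∀ z : semiLocal S, z ∈ semiIdeal S (fun _ => N) → z ∈ B) :
    Module.Finite k (semiLocal S ⧸ Subalgebra.toSubmodule B) := by
  haveI := (finrank_semiLocal_quot hK S (fun _ => N)).1
  have hle : (semiIdeal S (fun _ => N)).restrictScalars k ≤ Subalgebra.toSubmodule B :=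
    fun z hz => hN z hz
  haveI : Module.Finite k (semiLocal S ⧸ (semiIdeal S (fun _ => N)).restrictScalars k) :=
    Module.Finite.equiv
      (Submodule.Quotient.restrictScalarsEquiv k (semiIdeal S (fun _ => N))).symm
  exact Module.Finite.of_surjective (Submodule.factor hle) (Submodule.factor_surjective hle)

/-- **S11077**: the intersection multiplicity at a finite point of a plane model. -/
theorem intersection_mult (hK : IsFunctionField k K) [IsAlgClosed k] (x y : K)
    (hxy : IntermediateField.adjoin k ({x, y} : Set K) = ⊤) (f g : MvPolynomial (Fin 2) k)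
    (hf : Irreducible f) (hfxy : aeval ![x, y] f = 0)
    (hgxy : aeval ![x, y] g ≠ 0) (P : Place k K) (c : Fin 2 → k)
    (hc : ∀ i, P.1 (![x, y] i - algebraMap k K (c i)) < 1)
    (M : Ideal (MvPolynomial (Fin 2) k)) [M.IsMaximal]
    (hM : M = Ideal.span {X 0 - C (c 0), X 1 - C (c 1)}) :
    ∑ᶠ Q ∈ {Q : Place k K | SameImage ![(1 : K), x, y] P Q}, Q.ord (aeval ![x, y] g) =
      (Module.finrank k (Localization.AtPrime M ⧸
        Ideal.map (algebraMap (MvPolynomial (Fin 2) k) (Localization.AtPrime M))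
          (Ideal.span {f, g})) : ℤ) := by
  classical
  -- the chart
  obtain ⟨c₂, hu, ha⟩ : ∃ c₂ : Chart P (Fin 2), c₂.u = ![x, y] ∧ c₂.a = c :=
    ⟨⟨![x, y], c, hc⟩, rfl, rfl⟩
  -- the fibre
  have hfib : {Q : Place k K | SameImage ![(1 : K), x, y] P Q} =
      {Q : Place k K | ∀ i, Q.1 (![x, y] i - algebraMap k K (c i)) < 1} := by
    ext Q
    exact sameImage_plane_iff x y P Q c hc
  have hfin := finite_fibre hK x y hxy c
  rw [hfib, finsum_mem_eq_finite_toFinset_sum _ hfin]
  obtain ⟨S, hS⟩ : ∃ S : Finset (Place k K), S = hfin.toFinset := ⟨_, rfl⟩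
  rw [← hS]
  have hSmem : ∀ Q, Q ∈ S ↔ ∀ i, Q.1 (![x, y] i - algebraMap k K (c i)) < 1 := by
    intro Q
    rw [hS]
    exact hfin.mem_toFinset
  -- the local ring inside the semilocal ring
  have hle : ∀ z ∈ c₂.Oa, z ∈ semiLocal S := by
    intro z hz Q hQ
    exact val_le_one_of_mem_Oa_fibre c₂ (by rw [hu, ha]; exact (hSmem Q).1 hQ) hz
  obtain ⟨B, hB⟩ : ∃ B : Subalgebra k (semiLocal S), ∀ z : semiLocal S, z ∈ B ↔ (z : K) ∈ c₂.Oa :=
    ⟨Subalgebra.comap (semiLocal S).val c₂.Oa, fun _ => Iff.rfl⟩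
  -- the conductor
  obtain ⟨N, hN⟩ := exists_conductor_plane hK x y hxy P c₂ hu
  haveI : Module.Finite k (semiLocal S ⧸ Subalgebra.toSubmodule B) := by
    apply finite_quot_of_conductor hK S B N
    intro z hz
    rw [hB]
    apply hN
    intro Q hQ
    apply hz Q
    rw [hSmem]
    rw [hu, ha] at hQ
    exact hQ
  -- the element
  obtain ⟨γK, hγK⟩ : ∃ γK : K, γK = aeval ![x, y] g := ⟨_, rfl⟩
  rw [← hγK] at hgxy ⊢
  have hγOa : γK ∈ c₂.Oa := by
    rw [hγK, ← hu]; exact c₂.aeval_mem_Oa g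
  obtain ⟨γ, hγ⟩ : ∃ γ : B, ((γ : semiLocal S) : K) = γK :=
    ⟨⟨⟨γK, hle _ hγOa⟩, (hB _).2 hγOa⟩, rfl⟩
  have hγ0 : ((γ : semiLocal S) : K) ≠ 0 := by rw [hγ]; exact hgxy
  have hspan := span_singleton_eq_semiIdeal S (γ : semiLocal S) hγ0
  have hfr := finrank_semiLocal_quot hK S (fun Q => (Q.ord ((γ : semiLocal S) : K)).toNat)
  rw [← hspan] at hfr
  haveI : Module.Finite k (semiLocal S ⧸ Ideal.span {(γ : semiLocal S)}) := hfr.1
  have h49 := Groth.Agent.S11049.result k (semiLocal S) B γ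
    (fun h => hγ0 (congrArg Subtype.val h))
  -- the map from the polynomial ring
  have hmemS : ∀ G : MvPolynomial (Fin 2) k, aeval ![x, y] G ∈ semiLocal S := by
    intro G
    apply hle
    rw [← hu]; exact c₂.aeval_mem_Oa G
  obtain ⟨θ', hθ'⟩ : ∃ θ' : MvPolynomial (Fin 2) k →ₐ[k] B,
      ∀ G, (((θ' G : B) : semiLocal S) : K) = aeval ![x, y] G := by
    refine ⟨((aeval ![x, y]).codRestrict (semiLocal S) hmemS).codRestrict B (fun G => ?_),
      fun _ => rfl⟩
    rw [hB]
    show aeval ![x, y] G ∈ c₂.Oa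
    rw [← hu]; exact c₂.aeval_mem_Oa G
  have hext : ∀ r s : B, ((r : semiLocal S) : K) = ((s : semiLocal S) : K) → r = s :=
    fun r s h => Subtype.ext (Subtype.ext h)
  have hMmem : ∀ s : MvPolynomial (Fin 2) k, s ∈ M ↔ eval c s = 0 := by
    intro s
    have : M = ptIdeal c := by
      rw [hM, ptIdeal_eq_span]
      congr 1
      ext p
      constructor
      · rintro (rfl | hp)
        · exact ⟨0, rfl⟩
        · rw [Set.mem_singleton_iff.1 hp]; exact ⟨1, rfl⟩
      · rintro ⟨i, rfl⟩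
        fin_cases i
        · exact Or.inl rfl
        · exact Or.inr rfl
    rw [this, mem_ptIdeal]
  have h1 : ∀ s, s ∉ M → IsUnit (θ' s) := by
    intro s hs
    rw [hMmem, ← Ne, ← ha] at hs
    have hinv : (aeval ![x, y] s)⁻¹ ∈ c₂.Oa := by
      have h2 := c₂.aeval_mem_Oa s
      have h3 := (c₂.val_aeval_eq_one_iff s).2 hs
      rw [hu] at h2 h3
      exact c₂.inv_mem_Oa h2 h3
    have hne : aeval ![x, y] s ≠ 0 := by
      intro h0
      have h3 := (c₂.val_aeval_eq_one_iff s).2 hs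
      rw [hu, h0, map_zero] at h3
      exact zero_ne_one h3
    rw [isUnit_iff_exists_inv]
    refine ⟨⟨⟨_, hle _ hinv⟩, (hB _).2 hinv⟩, ?_⟩
    apply hext
    show (((θ' s : B) : semiLocal S) : K) * (aeval ![x, y] s)⁻¹ = 1
    rw [hθ', mul_inv_cancel₀ hne]
  have h2 : ∀ r : B, ∃ G H, H ∉ M ∧ r * θ' H = θ' G := by
    intro r
    have hr : ((r : semiLocal S) : K) ∈ c₂.Oa := (hB _).1 r.2
    obtain ⟨G, H, hH, e⟩ := hr
    refine ⟨G, H, ?_, ?_⟩
    · rw [hMmem, ← ha]; exact hH
    · apply hext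
      show ((r : semiLocal S) : K) * (((θ' H : B) : semiLocal S) : K) = _
      rw [hθ', hθ', ← hu]; exact e
  have h3 : RingHom.ker θ' = Ideal.span {f} := by
    obtain ⟨f₀, hf₀, hf₀'⟩ := exists_ker_generator' hK x y hxy
    have hgen := ker_generator_of_irreducible x y f₀ hf₀' f hf hfxy
    ext G
    rw [RingHom.mem_ker, Ideal.mem_span_singleton, ← hgen G]
    constructor
    · intro h
      rw [← hθ', h]
      rfl
    · intro h
      apply hext
      rw [hθ', h]
      rfl
  have hloc := finrank_localization_quot M θ' h1 h2 f g h3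
  have hθg : θ' g = γ := by
    apply hext
    rw [hθ', hγ, hγK]
  rw [hloc, hθg, ← h49, hfr.2]
  push_cast
  apply Finset.sum_congr rfl
  intro Q hQ
  rw [hγ]
  have := (γ : semiLocal S).2 Q hQ
  rw [hγ, Place.val_eq_exp_neg_ord Q hgxy, ← WithZero.exp_zero, WithZero.exp_le_exp] at this
  rw [Int.toNat_of_nonneg (by omega)]

end Groth.Agent.Lib.helper10.Inter
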