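import Mathlib

/-!
# Jacobian criterion for projective maps of function fields (helper10), part 1

Pure polynomial lemmas: the graded evaluation map `X i ↦ v i * T`, first-order Taylor expansion
at a point, the maximal ideal of a point.
-/

set_option autoImplicit false
set_option linter.unusedSectionVars false
set_option linter.style.haveILetI false

open MvPolynomial

namespace Groth.Agent.Lib.helper10.Jac

variable {k : Type*} [Field k] {σ : Type*}

section Psi

variable {A : Type*} [CommRing A] [Algebra k A]

/-- The graded evaluation `X i ↦ v i * T`. -/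
noncomputable def psi (v : σ → A) : MvPolynomial σ k →ₐ[k] Polynomial A :=
  aeval fun i => Polynomial.C (v i) * Polynomial.X

theorem psi_monomial (v : σ → A) (m : σ →₀ ℕ) (c : k) :
    psi v (monomial m c) = Polynomial.C (aeval v (monomial m c)) * Polynomial.X ^ m.degree := by
  have hdeg : m.degree = ∑ i ∈ m.support, m i := rfl
  unfold psi
  rw [aeval_monomial, aeval_monomial, map_mul, mul_assoc, hdeg]
  congr 1
  simp only [Finsupp.prod, mul_pow, Finset.prod_mul_distrib, map_prod, map_pow,
    Finset.prod_pow_eq_pow_sum]

theorem psi_of_isHomogeneous (v : σ → A) {G : MvPolynomial σ k} {d : ℕ} (hG : G.IsHomogeneous d) :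
    psi v G = Polynomial.C (aeval v G) * Polynomial.X ^ d := by
  conv_lhs => rw [← support_sum_monomial_coeff G]
  conv_rhs => rw [← support_sum_monomial_coeff G]
  rw [map_sum, map_sum, map_sum, Finset.sum_mul]
  apply Finset.sum_congr rfl
  intro m hm
  rw [psi_monomial]
  congr 2
  have := hG (mem_support_iff.1 hm)
  rw [Finsupp.weight_apply] at this
  rw [← this, Finsupp.degree]
  simp [Finsupp.sum]

theorem coeff_psi (v : σ → A) (H : MvPolynomial σ k) (d : ℕ) :
    (psi v H).coeff d = aeval v (homogeneousComponent d H) := by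
  conv_lhs => rw [← sum_homogeneousComponent H]
  rw [map_sum, Polynomial.finsetSum_coeff]
  rw [Finset.sum_eq_single d]
  · rw [psi_of_isHomogeneous v (homogeneousComponent_isHomogeneous d H), Polynomial.coeff_C_mul,
      Polynomial.coeff_X_pow, if_pos rfl, mul_one]
  · intro e _ hed
    rw [psi_of_isHomogeneous v (homogeneousComponent_isHomogeneous e H), Polynomial.coeff_C_mul,
      Polynomial.coeff_X_pow, if_neg hed.symm, mul_zero]
  · intro hd
    rw [Finset.mem_range, not_lt] at hd
    rw [homogeneousComponent_eq_zero _ _ (Nat.lt_of_succ_le hd), map_zero, Polynomial.coeff_zero]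

theorem psi_eq_zero_iff (v : σ → A) (H : MvPolynomial σ k) :
    psi v H = 0 ↔ ∀ d, aeval v (homogeneousComponent d H) = 0 := by
  constructor
  · intro h d
    rw [← coeff_psi, h, Polynomial.coeff_zero]
  · intro h
    ext d
    rw [coeff_psi, h, Polynomial.coeff_zero]

theorem aeval_mul_monomial (v : σ → A) (c : A) (m : σ →₀ ℕ) (a : k) :
    aeval (fun i => c * v i) (monomial m a) = c ^ m.degree * aeval v (monomial m a) := by
  have hdeg : m.degree = ∑ i ∈ m.support, m i := rfl
  rw [aeval_monomial, aeval_monomial, hdeg]
  simp only [Finsupp.prod, mul_pow, Finset.prod_mul_distrib, Finset.prod_pow_eq_pow_sum]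
  ring

theorem aeval_mul_of_isHomogeneous (v : σ → A) (c : A) {G : MvPolynomial σ k} {d : ℕ}
    (hG : G.IsHomogeneous d) : aeval (fun i => c * v i) G = c ^ d * aeval v G := by
  conv_lhs => rw [← support_sum_monomial_coeff G]
  conv_rhs => rw [← support_sum_monomial_coeff G]
  rw [map_sum, map_sum, Finset.mul_sum]
  apply Finset.sum_congr rfl
  intro m hm
  rw [aeval_mul_monomial]
  congr 2
  have := hG (mem_support_iff.1 hm)
  rw [Finsupp.weight_apply] at this
  rw [← this, Finsupp.degree]
  simp [Finsupp.sum]

end Psi

section Taylor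

variable [Fintype σ] (a : σ → k)

/-- The maximal ideal of the point `a`. -/
noncomputable def ptIdeal : Ideal (MvPolynomial σ k) := RingHom.ker (eval a)

theorem mem_ptIdeal {G : MvPolynomial σ k} : G ∈ ptIdeal a ↔ eval a G = 0 := RingHom.mem_ker

theorem X_sub_C_mem_ptIdeal (i : σ) : (X i - C (a i) : MvPolynomial σ k) ∈ ptIdeal a := by
  simp [mem_ptIdeal]

theorem sub_C_eval_mem_ptIdeal (G : MvPolynomial σ k) : G - C (eval a G) ∈ ptIdeal a := by
  simp [mem_ptIdeal]

theorem sub_C_eval_mem_span (G : MvPolynomial σ k) :
    G - C (eval a G) ∈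
      Ideal.span (Set.range fun i => (X i - C (a i) : MvPolynomial σ k)) := by
  induction G using MvPolynomial.induction_on with
  | C c => simp
  | add p q hp hq =>
    have : p + q - C (eval a (p + q)) = (p - C (eval a p)) + (q - C (eval a q)) := by
      rw [map_add, map_add]; ring
    rw [this]
    exact add_mem hp hq
  | mul_X p i hp =>
    have : p * X i - C (eval a (p * X i)) =
        (p - C (eval a p)) * X i + C (eval a p) * (X i - C (a i)) := by
      rw [map_mul, eval_X, map_mul]; ring
    rw [this]
    exact add_mem (Ideal.mul_mem_right _ _ hp)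
      (Ideal.mul_mem_left _ _ (Ideal.subset_span ⟨i, rfl⟩))

theorem ptIdeal_eq_span :
    ptIdeal a = Ideal.span (Set.range fun i => (X i - C (a i) : MvPolynomial σ k)) := by
  apply le_antisymm
  · intro G hG
    have := sub_C_eval_mem_span a G
    rwa [(mem_ptIdeal a).1 hG, map_zero, sub_zero] at this
  · rw [Ideal.span_le]
    rintro _ ⟨i, rfl⟩
    exact X_sub_C_mem_ptIdeal a i

/-- The gradient at the point `a`. -/
noncomputable def grad (G : MvPolynomial σ k) : σ → k := fun l => eval a (pderiv l G)

theorem grad_add (G H : MvPolynomial σ k) : grad a (G + H) = grad a G + grad a H := by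
  funext l; simp [grad]

theorem grad_sub (G H : MvPolynomial σ k) : grad a (G - H) = grad a G - grad a H := by
  funext l; simp [grad]

theorem grad_zero : grad a (0 : MvPolynomial σ k) = 0 := by
  funext l; simp [grad]

theorem grad_sum {ι : Type*} (s : Finset ι) (G : ι → MvPolynomial σ k) :
    grad a (∑ i ∈ s, G i) = ∑ i ∈ s, grad a (G i) := by
  funext l; simp [grad]

theorem grad_C (c : k) : grad a (C c : MvPolynomial σ k) = 0 := by
  funext l; simp [grad]

theorem grad_mul (G H : MvPolynomial σ k) :
    grad a (G * H) = eval a G • grad a H + eval a H • grad a G := by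
  funext l
  simp only [grad, Derivation.leibniz, map_add, smul_eq_mul, map_mul, Pi.add_apply,
    Pi.smul_apply]

theorem grad_X [DecidableEq σ] (i : σ) : grad a (X i : MvPolynomial σ k) = Pi.single i 1 := by
  funext l
  simp only [grad, pderiv_X]
  by_cases h : i = l
  · subst h; simp
  · rw [Pi.single_eq_of_ne h, Pi.single_eq_of_ne (Ne.symm h), map_zero]

theorem grad_eq_zero_of_mem_sq {Q : MvPolynomial σ k} (hQ : Q ∈ ptIdeal a ^ 2) :
    grad a Q = 0 := by
  rw [sq] at hQ
  refine Submodule.mul_induction_on hQ ?_ ?_
  · intro p hp q hq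
    rw [grad_mul, (mem_ptIdeal a).1 hp, (mem_ptIdeal a).1 hq, zero_smul, zero_smul, add_zero]
  · intro x y hx hy
    rw [grad_add, hx, hy, add_zero]

/-- First-order Taylor expansion at `a`. -/
theorem taylor_mem (G : MvPolynomial σ k) :
    G - C (eval a G) - ∑ l, C (grad a G l) * (X l - C (a l)) ∈ ptIdeal a ^ 2 := by
  classical
  induction G using MvPolynomial.induction_on with
  | C c => simp [grad_C]
  | add p q hp hq =>
    have : p + q - C (eval a (p + q)) - ∑ l, C (grad a (p + q) l) * (X l - C (a l)) =
        (p - C (eval a p) - ∑ l, C (grad a p l) * (X l - C (a l))) +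
        (q - C (eval a q) - ∑ l, C (grad a q l) * (X l - C (a l))) := by
      rw [grad_add]
      simp only [Pi.add_apply, map_add, add_mul, Finset.sum_add_distrib]
      ring
    rw [this]
    exact add_mem hp hq
  | mul_X p i hp =>
    have hg : ∀ l, grad a (p * X i) l = eval a p * (Pi.single i 1 : σ → k) l + a i * grad a p l := by
      intro l
      rw [grad_mul, grad_X, eval_X]
      simp
    have hsum : ∑ l, C (grad a (p * X i) l) * (X l - C (a l)) =
        C (eval a p) * (X i - C (a i)) + C (a i) * ∑ l, C (grad a p l) * (X l - C (a l)) := by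
      simp only [hg, map_add, map_mul, add_mul, Finset.sum_add_distrib, Finset.mul_sum]
      congr 1
      · rw [Finset.sum_eq_single i]
        · rw [Pi.single_eq_same, map_one, mul_one]
        · intro l _ hl
          rw [Pi.single_eq_of_ne hl, map_zero, mul_zero, zero_mul]
        · intro h; exact absurd (Finset.mem_univ i) h
      · apply Finset.sum_congr rfl
        intro l _
        ring
    have : p * X i - C (eval a (p * X i)) - ∑ l, C (grad a (p * X i) l) * (X l - C (a l)) =
        C (a i) * (p - C (eval a p) - ∑ l, C (grad a p l) * (X l - C (a l))) +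
          (p - C (eval a p)) * (X i - C (a i)) := by
      rw [hsum, map_mul, eval_X, map_mul]
      ring
    rw [this]
    refine add_mem (Ideal.mul_mem_left _ _ hp) ?_
    rw [sq]
    exact Ideal.mul_mem_mul (sub_C_eval_mem_ptIdeal a p) (X_sub_C_mem_ptIdeal a i)

end Taylor

end Groth.Agent.Lib.helper10.Jac
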