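import Groth.Agent.Lib.Helper10.Jac9

/-!
# Jacobian criterion (helper10), part 10: the ideal of a plane curve is principal
-/

set_option autoImplicit false
set_option linter.unusedSectionVars false
set_option linter.style.haveILetI false

universe u v

open MvPolynomial FunFld

namespace Groth.Agent.Lib.helper10.Jac

open FF

variable {k : Type u} {K : Type v} [Field k] [Field K] [Algebra k K]

/-- The ideal of affine relations between two generators of a function field is principal. -/
theorem exists_ker_generator' (hK : IsFunctionField k K) (x y : K)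
    (hxy : IntermediateField.adjoin k ({x, y} : Set K) = ⊤) :
    ∃ f₀ : MvPolynomial (Fin 2) k, f₀ ≠ 0 ∧
      ∀ G : MvPolynomial (Fin 2) k, aeval ![x, y] G = 0 ↔ f₀ ∣ G := by
  rcases transcendental_or hK x y hxy with hx | hy
  · exact exists_ker_generator hK x y hx
  · obtain ⟨f, hf0, hf⟩ := exists_ker_generator hK y x hy
    obtain ⟨ρ, hρ⟩ : ∃ ρ : MvPolynomial (Fin 2) k ≃ₐ[k] MvPolynomial (Fin 2) k,
        ρ = renameEquiv k (Equiv.swap (0 : Fin 2) 1) := ⟨_, rfl⟩
    refine ⟨ρ.symm f, fun h => hf0 (by simpa using h), fun G => ?_⟩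
    have h1 : aeval ![x, y] G = aeval ![y, x] (ρ G) := by
      rw [hρ, renameEquiv_apply, aeval_rename]
      congr 2
      funext i
      fin_cases i <;> simp
    rw [h1, hf]
    constructor
    · rintro ⟨q, hq⟩
      refine ⟨ρ.symm q, ?_⟩
      apply ρ.injective
      rw [map_mul, hq, AlgEquiv.apply_symm_apply, AlgEquiv.apply_symm_apply]
    · rintro ⟨q, hq⟩
      exact ⟨ρ q, by rw [hq, map_mul, AlgEquiv.apply_symm_apply]⟩

/-- Dehomogenization to two variables. -/
noncomputable def delta : MvPolynomial (Fin 3) k →ₐ[k] MvPolynomial (Fin 2) k :=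
  aeval ![1, X 0, X 1]

theorem rename_delta (G : MvPolynomial (Fin 3) k) :
    rename Fin.succ (delta G) = eps 0 G := by
  have h : (rename Fin.succ : MvPolynomial (Fin 2) k →ₐ[k] MvPolynomial (Fin 3) k).comp delta =
      eps 0 := by
    apply algHom_ext
    intro i
    fin_cases i
    · simp [delta, eps]
    · simp [delta, eps]
    · simp [delta, eps]
  exact congrArg (fun θ : MvPolynomial (Fin 3) k →ₐ[k] MvPolynomial (Fin 3) k => θ G) h

theorem delta_rename (g : MvPolynomial (Fin 2) k) : delta (rename Fin.succ g) = g := by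
  rw [delta, aeval_rename]
  have : (![1, X 0, X 1] : Fin 3 → MvPolynomial (Fin 2) k) ∘ Fin.succ = X := by
    funext i
    fin_cases i <;> rfl
  rw [this, aeval_X_left_apply]

theorem aeval_delta (x y : K) (G : MvPolynomial (Fin 3) k) :
    aeval ![x, y] (delta G) = aeval ![1, x, y] G := by
  have h : (aeval ![x, y] : MvPolynomial (Fin 2) k →ₐ[k] K).comp delta = aeval ![1, x, y] := by
    apply algHom_ext
    intro i
    fin_cases i
    · simp [delta]
    · simp [delta]
    · simp [delta]
  exact congrArg (fun θ : MvPolynomial (Fin 3) k →ₐ[k] K => θ G) h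

theorem aeval_rename_succ (x y : K) (g : MvPolynomial (Fin 2) k) :
    aeval ![1, x, y] (rename Fin.succ g) = aeval ![x, y] g := by
  rw [aeval_rename]
  congr 2

/-- **The ideal of a plane curve.** -/
theorem plane_ker_psi (hK : IsFunctionField k K) (x y : K)
    (hxy : IntermediateField.adjoin k ({x, y} : Set K) = ⊤) :
    ∃ F : MvPolynomial (Fin 3) k, Irreducible F ∧ F.IsHomogeneous F.totalDegree ∧
      RingHom.ker (psi (k := k) ![(1 : K), x, y]) = Ideal.span {F} := by
  obtain ⟨f₀, hf₀, hf⟩ := exists_ker_generator' hK x y hxy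
  obtain ⟨f₁, hf₁e⟩ : ∃ f₁ : MvPolynomial (Fin 3) k, f₁ = rename Fin.succ f₀ := ⟨_, rfl⟩
  have hf₁ : f₁ ≠ 0 := by
    rw [hf₁e]
    intro h
    apply hf₀
    apply rename_injective _ (Fin.succ_injective 2)
    rw [h, map_zero]
  obtain ⟨N, hN⟩ : ∃ N, N = f₁.totalDegree := ⟨_, rfl⟩
  obtain ⟨F, hFe⟩ : ∃ F, F = homog 0 N f₁ := ⟨_, rfl⟩
  have heps : eps 0 f₁ = f₁ := by rw [← rename_delta, hf₁e, delta_rename]
  have hF0 : F ≠ 0 := by
    rw [hFe]
    exact homog_ne_zero 0 (le_of_eq hN.symm) (by rw [heps]; exact hf₁)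
  have hFhom : F.IsHomogeneous N := by rw [hFe]; exact homog_isHomogeneous 0 N f₁
  have hFpsi : psi (k := k) ![(1 : K), x, y] F = 0 := by
    rw [psi_of_isHomogeneous _ hFhom]
    have : aeval ![(1 : K), x, y] F = 0 := by
      rw [hFe, map_homog (aeval ![(1 : K), x, y]) 0 (by simp) (le_of_eq hN.symm), hf₁e,
        aeval_rename_succ, (hf f₀).2 dvd_rfl]
    rw [this, map_zero, zero_mul]
  have hker : RingHom.ker (psi (k := k) ![(1 : K), x, y]) = Ideal.span {F} := by
    ext G
    rw [RingHom.mem_ker, Ideal.mem_span_singleton]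
    constructor
    · intro hG
      rw [← sum_homogeneousComponent G]
      apply Finset.dvd_sum
      intro d _
      have h1 : aeval ![(1 : K), x, y] (homogeneousComponent d G) = 0 :=
        (psi_eq_zero_iff _ G).1 hG d
      have hGd := homogeneousComponent_isHomogeneous d G
      obtain ⟨Gd, hGde⟩ : ∃ Gd, Gd = homogeneousComponent d G := ⟨_, rfl⟩
      rw [← hGde] at h1 hGd ⊢
      have h2 : f₀ ∣ delta Gd := (hf _).1 (by rw [aeval_delta]; exact h1)
      obtain ⟨h, hh⟩ := h2
      have h3 : eps 0 Gd = f₁ * rename Fin.succ h := by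
        rw [← rename_delta, hh, map_mul, hf₁e]
      by_cases hz : eps 0 Gd = 0
      · have := homog_eps_of_isHomogeneous 0 hGd
        rw [hz, homog_zero] at this
        rw [← this]
        exact dvd_zero _
      · have hh1 : rename Fin.succ h ≠ 0 := by
          intro h0
          apply hz
          rw [h3, h0, mul_zero]
        have hdeg : N + (rename Fin.succ h).totalDegree ≤ d := by
          have h6 := totalDegree_eps_le 0 Gd
          rw [h3, totalDegree_mul_of_isDomain hf₁ hh1, ← hN] at h6
          exact le_trans h6 hGd.totalDegree_le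
        have h4 := homog_eps_of_isHomogeneous 0 hGd
        rw [h3] at h4
        have h5 : d = N + (d - N) := by omega
        rw [h5, homog_mul 0 (le_of_eq hN.symm) (by omega), ← hFe] at h4
        exact ⟨_, h4.symm⟩
    · rintro ⟨Q, rfl⟩
      rw [map_mul, hFpsi, zero_mul]
  refine ⟨F, ?_, ?_, hker⟩
  · have hprime : (Ideal.span {F}).IsPrime := by
      rw [← hker]
      exact RingHom.ker_isPrime _
    exact ((Ideal.span_singleton_prime hF0).1 hprime).irreducible
  · rw [hFhom.totalDegree hF0]
    exact hFhom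

end Groth.Agent.Lib.helper10.Jac
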