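import Groth.Agent.Lib.Helper10.Jac1
import Groth.Agent.Lib.Helper10.FunFld35

/-!
# Jacobian criterion (helper10), part 2: the local ring of a chart at a place
-/

set_option autoImplicit false
set_option linter.unusedSectionVars false
set_option linter.style.haveILetI false

universe u v

open MvPolynomial FunFld

namespace Groth.Agent.Lib.helper10.Jac

variable {k : Type u} {K : Type v} [Field k] [Field K] [Algebra k K]

/-- Affine coordinates `u` at a place `P`, with their values `a` at the centre. -/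
structure Chart (P : Place k K) (σ : Type*) where
  /-- coordinate functions -/
  u : σ → K
  /-- coordinates of the centre -/
  a : σ → k
  hu : ∀ i, P.1 (u i - algebraMap k K (a i)) < 1

namespace Chart

variable {P : Place k K} {σ : Type*} [Fintype σ] (c : Chart P σ)

theorem val_u_le_one (i : σ) : P.1 (c.u i) ≤ 1 := by
  have : c.u i = (c.u i - algebraMap k K (c.a i)) + algebraMap k K (c.a i) := by ring
  rw [this]
  exact Valuation.map_add_le _ (c.hu i).le (P.2.1 _)

theorem val_aeval_sub_lt (G : MvPolynomial σ k) :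
    P.1 (aeval c.u G - algebraMap k K (eval c.a G)) < 1 := by
  induction G using MvPolynomial.induction_on with
  | C r => simp
  | add p q hp hq =>
    have : aeval c.u (p + q) - algebraMap k K (eval c.a (p + q)) =
        (aeval c.u p - algebraMap k K (eval c.a p)) +
          (aeval c.u q - algebraMap k K (eval c.a q)) := by
      rw [map_add, map_add, map_add]; ring
    rw [this]
    exact Valuation.map_add_lt _ hp hq
  | mul_X p i hp =>
    have : aeval c.u (p * X i) - algebraMap k K (eval c.a (p * X i)) =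
        (aeval c.u p - algebraMap k K (eval c.a p)) * c.u i +
          algebraMap k K (eval c.a p) * (c.u i - algebraMap k K (c.a i)) := by
      rw [map_mul, map_mul, aeval_X, eval_X, map_mul]; ring
    rw [this]
    apply Valuation.map_add_lt
    · rw [map_mul]
      calc P.1 (aeval c.u p - algebraMap k K (eval c.a p)) * P.1 (c.u i)
          ≤ P.1 (aeval c.u p - algebraMap k K (eval c.a p)) * 1 :=
            mul_le_mul_right (c.val_u_le_one i) _
        _ = _ := mul_one _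
        _ < 1 := hp
    · rw [map_mul]
      calc P.1 (algebraMap k K (eval c.a p)) * P.1 (c.u i - algebraMap k K (c.a i))
          ≤ 1 * P.1 (c.u i - algebraMap k K (c.a i)) := mul_le_mul_left (P.2.1 _) _
        _ = _ := one_mul _
        _ < 1 := c.hu i

theorem val_aeval_le_one (G : MvPolynomial σ k) : P.1 (aeval c.u G) ≤ 1 := by
  have : aeval c.u G = (aeval c.u G - algebraMap k K (eval c.a G)) +
      algebraMap k K (eval c.a G) := by ring
  rw [this]
  exact Valuation.map_add_le _ (c.val_aeval_sub_lt G).le (P.2.1 _)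

theorem val_aeval_lt_one_iff (G : MvPolynomial σ k) :
    P.1 (aeval c.u G) < 1 ↔ eval c.a G = 0 := by
  constructor
  · intro h
    by_contra hne
    have h1 : P.1 (algebraMap k K (eval c.a G)) = 1 := FF.Place.val_algebraMap_eq_one P hne
    have h2 : aeval c.u G = algebraMap k K (eval c.a G) +
        (aeval c.u G - algebraMap k K (eval c.a G)) := by ring
    rw [h2, Valuation.map_add_eq_of_lt_left _ (by rw [h1]; exact c.val_aeval_sub_lt G), h1] at h
    exact lt_irrefl _ h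
  · intro h
    have := c.val_aeval_sub_lt G
    rwa [h, map_zero, sub_zero] at this

theorem val_aeval_eq_one_iff (G : MvPolynomial σ k) :
    P.1 (aeval c.u G) = 1 ↔ eval c.a G ≠ 0 := by
  rw [Ne, ← c.val_aeval_lt_one_iff G]
  constructor
  · intro h; rw [h]; exact lt_irrefl _
  · intro h; exact le_antisymm (c.val_aeval_le_one G) (not_lt.1 h)

/-- The local ring of the chart at the place. -/
def Oa : Subalgebra k K where
  carrier := {z | ∃ G H : MvPolynomial σ k, eval c.a H ≠ 0 ∧ z * aeval c.u H = aeval c.u G}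
  mul_mem' := by
    rintro z₁ z₂ ⟨G₁, H₁, h₁, e₁⟩ ⟨G₂, H₂, h₂, e₂⟩
    refine ⟨G₁ * G₂, H₁ * H₂, by rw [map_mul]; exact mul_ne_zero h₁ h₂, ?_⟩
    rw [map_mul, map_mul, ← e₁, ← e₂]; ring
  add_mem' := by
    rintro z₁ z₂ ⟨G₁, H₁, h₁, e₁⟩ ⟨G₂, H₂, h₂, e₂⟩
    refine ⟨G₁ * H₂ + G₂ * H₁, H₁ * H₂, by rw [map_mul]; exact mul_ne_zero h₁ h₂, ?_⟩
    rw [map_add, map_mul, map_mul, map_mul, ← e₁, ← e₂]; ring
  algebraMap_mem' r := ⟨C r, 1, by simp, by simp⟩

theorem mem_Oa {z : K} : z ∈ c.Oa ↔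
    ∃ G H : MvPolynomial σ k, eval c.a H ≠ 0 ∧ z * aeval c.u H = aeval c.u G := Iff.rfl

theorem aeval_mem_Oa (G : MvPolynomial σ k) : aeval c.u G ∈ c.Oa :=
  ⟨G, 1, by simp, by simp⟩

theorem val_le_one_of_mem_Oa {z : K} (hz : z ∈ c.Oa) : P.1 z ≤ 1 := by
  obtain ⟨G, H, hH, e⟩ := hz
  have h1 : P.1 (aeval c.u H) = 1 := (c.val_aeval_eq_one_iff H).2 hH
  have h2 := congrArg P.1 e
  rw [map_mul, h1, mul_one] at h2
  rw [h2]
  exact c.val_aeval_le_one G

theorem inv_mem_Oa {z : K} (hz : z ∈ c.Oa) (hz1 : P.1 z = 1) : z⁻¹ ∈ c.Oa := by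
  obtain ⟨G, H, hH, e⟩ := hz
  have h1 : P.1 (aeval c.u H) = 1 := (c.val_aeval_eq_one_iff H).2 hH
  have h2 := congrArg P.1 e
  rw [map_mul, h1, mul_one, hz1] at h2
  have hG : eval c.a G ≠ 0 := (c.val_aeval_eq_one_iff G).1 h2.symm
  have hz0 : z ≠ 0 := by
    rintro rfl
    rw [map_zero] at hz1
    exact zero_ne_one hz1
  refine ⟨H, G, hG, ?_⟩
  rw [← e]
  field_simp

/-- The polynomial ring maps to the local ring. -/
noncomputable def theta : MvPolynomial σ k →ₐ[k] c.Oa :=
  (aeval c.u).codRestrict c.Oa c.aeval_mem_Oa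

theorem coe_theta (G : MvPolynomial σ k) : ((c.theta G : c.Oa) : K) = aeval c.u G := rfl

/-- The maximal ideal of the local ring. -/
def ma : Ideal c.Oa where
  carrier := {z | P.1 (z : K) < 1}
  add_mem' := by
    intro x y hx hy
    show P.1 ((x + y : c.Oa) : K) < 1
    rw [Subalgebra.coe_add]
    exact Valuation.map_add_lt _ (show P.1 (x : K) < 1 from hx) (show P.1 (y : K) < 1 from hy)
  zero_mem' := by
    show P.1 ((0 : c.Oa) : K) < 1
    simp
  smul_mem' := by
    intro x y hy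
    show P.1 ((x * y : c.Oa) : K) < 1
    rw [Subalgebra.coe_mul, map_mul]
    calc P.1 (x : K) * P.1 (y : K) ≤ 1 * P.1 (y : K) :=
          mul_le_mul_left (c.val_le_one_of_mem_Oa x.2) _
      _ = _ := one_mul _
      _ < 1 := hy

theorem mem_ma {z : c.Oa} : z ∈ c.ma ↔ P.1 (z : K) < 1 := Iff.rfl

theorem isUnit_iff (z : c.Oa) : IsUnit z ↔ P.1 (z : K) = 1 := by
  constructor
  · rintro ⟨⟨z, w, hzw, hwz⟩, rfl⟩
    have h1 := congrArg (fun t : c.Oa => P.1 (t : K)) hzw
    simp only [Subalgebra.coe_mul, map_mul, Subalgebra.coe_one, map_one] at h1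
    have hz := c.val_le_one_of_mem_Oa z.2
    have hw := c.val_le_one_of_mem_Oa w.2
    apply le_antisymm hz
    by_contra hlt
    rw [not_le] at hlt
    have : P.1 (z : K) * P.1 (w : K) < 1 := by
      calc P.1 (z : K) * P.1 (w : K) ≤ P.1 (z : K) * 1 := mul_le_mul_right hw _
        _ = _ := mul_one _
        _ < 1 := hlt
    rw [h1] at this
    exact lt_irrefl _ this
  · intro h
    have hz0 : (z : K) ≠ 0 := by
      intro h0
      rw [h0, map_zero] at h
      exact zero_ne_one h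
    refine ⟨⟨z, ⟨(z : K)⁻¹, c.inv_mem_Oa z.2 h⟩, ?_, ?_⟩, rfl⟩
    · apply Subtype.ext
      show (z : K) * (z : K)⁻¹ = 1
      exact mul_inv_cancel₀ hz0
    · apply Subtype.ext
      show (z : K)⁻¹ * (z : K) = 1
      exact inv_mul_cancel₀ hz0

theorem not_isUnit_iff (z : c.Oa) : ¬ IsUnit z ↔ z ∈ c.ma := by
  rw [c.isUnit_iff, c.mem_ma]
  constructor
  · intro h
    exact lt_of_le_of_ne (c.val_le_one_of_mem_Oa z.2) h
  · intro h; exact h.ne

instance : IsLocalRing c.Oa := by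
  apply IsLocalRing.of_nonunits_add
  intro x y hx hy
  rw [mem_nonunits_iff, c.not_isUnit_iff] at hx hy ⊢
  exact c.ma.add_mem hx hy

theorem maximalIdeal_eq : IsLocalRing.maximalIdeal c.Oa = c.ma := by
  ext z
  rw [IsLocalRing.mem_maximalIdeal, mem_nonunits_iff, c.not_isUnit_iff]

theorem isUnit_theta {H : MvPolynomial σ k} (hH : eval c.a H ≠ 0) : IsUnit (c.theta H) :=
  (c.isUnit_iff _).2 ((c.val_aeval_eq_one_iff H).2 hH)

theorem theta_mem_ma {G : MvPolynomial σ k} (hG : eval c.a G = 0) : c.theta G ∈ c.ma :=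
  (c.val_aeval_lt_one_iff G).2 hG

theorem map_ptIdeal_le : Ideal.map c.theta (ptIdeal c.a) ≤ c.ma := by
  rw [Ideal.map_le_iff_le_comap]
  intro G hG
  exact c.theta_mem_ma ((mem_ptIdeal c.a).1 hG)

/-- Every element of the local ring is a fraction. -/
theorem exists_rep (z : c.Oa) : ∃ G H : MvPolynomial σ k, eval c.a H ≠ 0 ∧
    z * c.theta H = c.theta G := by
  obtain ⟨G, H, hH, e⟩ := z.2
  exact ⟨G, H, hH, Subtype.ext e⟩

theorem ma_eq_map : c.ma = Ideal.map c.theta (ptIdeal c.a) := by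
  apply le_antisymm _ c.map_ptIdeal_le
  intro z hz
  obtain ⟨G, H, hH, e⟩ := c.exists_rep z
  have hG : eval c.a G = 0 := by
    rw [← c.val_aeval_lt_one_iff G, ← c.coe_theta, ← e, Subalgebra.coe_mul, map_mul, c.coe_theta,
      (c.val_aeval_eq_one_iff H).2 hH, mul_one]
    exact hz
  obtain ⟨w, hw⟩ := (c.isUnit_theta hH).exists_right_inv
  have hz' : z = c.theta G * w := by
    rw [← e, mul_assoc, hw, mul_one]
  rw [hz']
  exact Ideal.mul_mem_right _ _ (Ideal.mem_map_of_mem _ ((mem_ptIdeal c.a).2 hG))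

theorem mem_ma_sq_iff (z : c.Oa) : z ∈ c.ma ^ 2 ↔
    ∃ Q ∈ ptIdeal c.a ^ 2, ∃ H : MvPolynomial σ k, eval c.a H ≠ 0 ∧
      z * c.theta H = c.theta Q := by
  constructor
  · intro hz
    rw [sq] at hz
    refine Submodule.mul_induction_on hz ?_ ?_
    · intro z₁ h₁ z₂ h₂
      obtain ⟨G₁, H₁, hH₁, e₁⟩ := c.exists_rep z₁
      obtain ⟨G₂, H₂, hH₂, e₂⟩ := c.exists_rep z₂
      have hG : ∀ (z : c.Oa) (G H : MvPolynomial σ k), z ∈ c.ma → eval c.a H ≠ 0 →
          z * c.theta H = c.theta G → G ∈ ptIdeal c.a := by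
        intro z G H hz hH e
        rw [mem_ptIdeal, ← c.val_aeval_lt_one_iff G, ← c.coe_theta, ← e, Subalgebra.coe_mul,
          map_mul, c.coe_theta, (c.val_aeval_eq_one_iff H).2 hH, mul_one]
        exact hz
      refine ⟨G₁ * G₂, ?_, H₁ * H₂, by rw [map_mul]; exact mul_ne_zero hH₁ hH₂, ?_⟩
      · rw [sq]
        exact Ideal.mul_mem_mul (hG z₁ G₁ H₁ h₁ hH₁ e₁) (hG z₂ G₂ H₂ h₂ hH₂ e₂)
      · rw [map_mul, map_mul, ← e₁, ← e₂]; ring
    · rintro z₁ z₂ ⟨Q₁, hQ₁, H₁, hH₁, e₁⟩ ⟨Q₂, hQ₂, H₂, hH₂, e₂⟩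
      refine ⟨Q₁ * H₂ + Q₂ * H₁, ?_, H₁ * H₂, by rw [map_mul]; exact mul_ne_zero hH₁ hH₂, ?_⟩
      · exact add_mem (Ideal.mul_mem_right _ _ hQ₁) (Ideal.mul_mem_right _ _ hQ₂)
      · rw [map_add, map_mul, map_mul, map_mul, ← e₁, ← e₂]; ring
  · rintro ⟨Q, hQ, H, hH, e⟩
    obtain ⟨w, hw⟩ := (c.isUnit_theta hH).exists_right_inv
    have hz' : z = c.theta Q * w := by
      rw [← e, mul_assoc, hw, mul_one]
    rw [hz']
    apply Ideal.mul_mem_right
    have h1 : c.theta Q ∈ Ideal.map c.theta (ptIdeal c.a ^ 2) := Ideal.mem_map_of_mem _ hQ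
    rw [Ideal.map_pow] at h1
    exact Ideal.pow_right_mono c.map_ptIdeal_le 2 h1

end Chart

end Groth.Agent.Lib.helper10.Jac
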