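import Groth.Agent.Lib.Helper10.Jac2

/-!
# Jacobian criterion (helper10), part 3: the cotangent space of the local ring of a chart
-/

set_option autoImplicit false
set_option linter.unusedSectionVars false
set_option linter.style.haveILetI false

universe u v

open MvPolynomial FunFld

namespace Groth.Agent.Lib.helper10.Jac

variable {k : Type u} [Field k] {σ : Type*} [Fintype σ]

section LinPoly

variable (a : σ → k)

/-- The linear form `∑ λ_l (X_l - a_l)`. -/
noncomputable def linPoly : (σ → k) →ₗ[k] MvPolynomial σ k where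
  toFun lam := ∑ l, C (lam l) * (X l - C (a l))
  map_add' x y := by
    simp only [Pi.add_apply, map_add, add_mul, Finset.sum_add_distrib]
  map_smul' r x := by
    simp only [Pi.smul_apply, smul_eq_mul, map_mul, RingHom.id_apply, Finset.smul_sum,
      MvPolynomial.smul_eq_C_mul, mul_assoc]

theorem linPoly_apply (lam : σ → k) : linPoly a lam = ∑ l, C (lam l) * (X l - C (a l)) := rfl

theorem eval_linPoly (lam : σ → k) : eval a (linPoly a lam) = 0 := by
  simp [linPoly_apply]

/-- The gradient as a linear map. -/
noncomputable def gradL : MvPolynomial σ k →ₗ[k] (σ → k) where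
  toFun G := grad a G
  map_add' := grad_add a
  map_smul' r G := by
    rw [MvPolynomial.smul_eq_C_mul, grad_mul, grad_C, smul_zero, add_zero, eval_C]
    rfl

theorem gradL_apply (G : MvPolynomial σ k) : gradL a G = grad a G := rfl

theorem grad_linPoly (lam : σ → k) : grad a (linPoly a lam) = lam := by
  classical
  rw [linPoly_apply, grad_sum]
  funext l
  rw [Finset.sum_apply]
  have : ∀ i, grad a (C (lam i) * (X i - C (a i))) l = lam i * (Pi.single i 1 : σ → k) l := by
    intro i
    rw [grad_mul, grad_sub, grad_X, grad_C, eval_C]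
    simp
  rw [Finset.sum_congr rfl fun i _ => this i, Finset.sum_eq_single l]
  · rw [Pi.single_eq_same, mul_one]
  · intro i _ hi
    rw [Pi.single_eq_of_ne (Ne.symm hi), mul_zero]
  · intro h; exact absurd (Finset.mem_univ l) h

theorem taylor_mem' {G : MvPolynomial σ k} (hG : eval a G = 0) :
    G - linPoly a (grad a G) ∈ ptIdeal a ^ 2 := by
  have := taylor_mem a G
  rwa [hG, map_zero, sub_zero] at this

end LinPoly

variable {K : Type v} [Field K] [Algebra k K]

namespace Chart

variable {P : Place k K} (c : Chart P σ)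

/-- Linear forms at the centre lying in the square of the maximal ideal. -/
noncomputable def W : Submodule k (σ → k) :=
  Submodule.comap (c.theta.toLinearMap ∘ₗ linPoly c.a) ((c.ma ^ 2).restrictScalars k)

theorem mem_W (lam : σ → k) : lam ∈ c.W ↔ c.theta (linPoly c.a lam) ∈ c.ma ^ 2 := Iff.rfl

theorem theta_eq_zero_iff (F : MvPolynomial σ k) : c.theta F = 0 ↔ aeval c.u F = 0 := by
  rw [← c.coe_theta]
  exact ⟨fun h => by rw [h]; rfl, fun h => Subtype.ext h⟩

theorem eval_eq_zero_of_aeval_eq_zero {F : MvPolynomial σ k} (hF : aeval c.u F = 0) :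
    eval c.a F = 0 := by
  rw [← c.val_aeval_lt_one_iff, hF, map_zero]
  exact zero_lt_one

/-- The cotangent relations are the gradients of the relations. -/
theorem W_eq : c.W = Submodule.map (gradL c.a)
    ((RingHom.ker (aeval c.u : MvPolynomial σ k →ₐ[k] K)).restrictScalars k) := by
  apply le_antisymm
  · intro lam hlam
    rw [mem_W, c.mem_ma_sq_iff] at hlam
    obtain ⟨Q, hQ, H, hH, e⟩ := hlam
    have hker : aeval c.u (linPoly c.a lam * H - Q) = 0 := by
      rw [← c.theta_eq_zero_iff, map_sub, map_mul, e, sub_self]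
    refine ⟨(eval c.a H)⁻¹ • (linPoly c.a lam * H - Q), ?_, ?_⟩
    · show _ ∈ RingHom.ker _
      rw [RingHom.mem_ker, map_smul, hker, smul_zero]
    · rw [map_smul, gradL_apply, grad_sub, grad_mul, grad_eq_zero_of_mem_sq c.a hQ,
        eval_linPoly, zero_smul, zero_add, grad_linPoly, sub_zero, smul_smul,
        inv_mul_cancel₀ hH, one_smul]
  · rintro _ ⟨F, hF, rfl⟩
    have hF' : aeval c.u F = 0 := hF
    rw [mem_W, gradL_apply]
    have h1 := taylor_mem' c.a (c.eval_eq_zero_of_aeval_eq_zero hF')
    have h2 : c.theta (linPoly c.a (grad c.a F)) = - c.theta (F - linPoly c.a (grad c.a F)) := by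
      rw [map_sub, (c.theta_eq_zero_iff F).2 hF', zero_sub, neg_neg]
    rw [h2]
    apply Ideal.neg_mem_iff _ |>.2
    have h3 : c.theta (F - linPoly c.a (grad c.a F)) ∈ Ideal.map c.theta (ptIdeal c.a ^ 2) :=
      Ideal.mem_map_of_mem _ h1
    rw [Ideal.map_pow] at h3
    exact Ideal.pow_right_mono c.map_ptIdeal_le 2 h3

end Chart

end Groth.Agent.Lib.helper10.Jac
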