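import Groth.Agent.Lib.Helper10.Jac3

/-!
# Jacobian criterion (helper10), part 4: the local ring is the valuation ring iff the cotangent
relations have codimension one
-/

set_option autoImplicit false
set_option linter.unusedSectionVars false
set_option linter.style.haveILetI false

universe u v

open MvPolynomial FunFld

namespace Groth.Agent.Lib.helper10.Jac

open FF

variable {k : Type u} [Field k] {σ : Type*} [Fintype σ]
variable {K : Type v} [Field K] [Algebra k K]

theorem exp_le_of_mul_le {a b : WithZero (Multiplicative ℤ)} {m : ℕ}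
    (hb : b ≤ WithZero.exp (-1 : ℤ)) (h : WithZero.exp (-((m + 1 : ℕ) : ℤ)) ≤ a * b) :
    WithZero.exp (-(m : ℤ)) ≤ a := by
  by_cases ha : a = 0
  · rw [ha, zero_mul] at h
    exact absurd h (not_le.2 WithZero.exp_pos)
  by_cases hb0 : b = 0
  · rw [hb0, mul_zero] at h
    exact absurd h (not_le.2 WithZero.exp_pos)
  rw [← WithZero.exp_log ha, ← WithZero.exp_log hb0, ← WithZero.exp_add, WithZero.exp_le_exp] at h
  rw [← WithZero.exp_log hb0, WithZero.exp_le_exp] at hb
  rw [← WithZero.exp_log ha, WithZero.exp_le_exp]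
  push_cast at h
  omega

namespace Chart

variable {P : Place k K} (c : Chart P σ)

theorem val_aeval_le_of_mem_sq {Q : MvPolynomial σ k} (hQ : Q ∈ ptIdeal c.a ^ 2) :
    P.1 (aeval c.u Q) ≤ WithZero.exp (-2 : ℤ) := by
  rw [sq] at hQ
  refine Submodule.mul_induction_on hQ ?_ ?_
  · intro p hp q hq
    have h1 := (lt_one_iff_le_exp_neg_one _).1
      ((c.val_aeval_lt_one_iff p).2 ((mem_ptIdeal c.a).1 hp))
    have h2 := (lt_one_iff_le_exp_neg_one _).1
      ((c.val_aeval_lt_one_iff q).2 ((mem_ptIdeal c.a).1 hq))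
    rw [map_mul, map_mul]
    calc P.1 (aeval c.u p) * P.1 (aeval c.u q)
        ≤ WithZero.exp (-1 : ℤ) * WithZero.exp (-1 : ℤ) := mul_le_mul' h1 h2
      _ = WithZero.exp (-2 : ℤ) := by rw [← WithZero.exp_add]; norm_num
  · intro x y hx hy
    rw [map_add]
    exact Valuation.map_add_le _ hx hy

theorem val_le_of_mem_ma_sq {z : c.Oa} (hz : z ∈ c.ma ^ 2) :
    P.1 (z : K) ≤ WithZero.exp (-2 : ℤ) := by
  obtain ⟨Q, hQ, H, hH, e⟩ := (c.mem_ma_sq_iff z).1 hz
  have h1 := congrArg (fun t : c.Oa => P.1 (t : K)) e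
  simp only [Subalgebra.coe_mul, map_mul, c.coe_theta, (c.val_aeval_eq_one_iff H).2 hH,
    mul_one] at h1
  rw [h1]
  exact c.val_aeval_le_of_mem_sq hQ

theorem mem_ma_sq_of_val_le (hle : ∀ z : K, P.1 z ≤ 1 → z ∈ c.Oa) {z : c.Oa}
    (hz : P.1 (z : K) ≤ WithZero.exp (-2 : ℤ)) : z ∈ c.ma ^ 2 := by
  obtain ⟨t, ht⟩ := P.2.2 (WithZero.exp (-1 : ℤ))
  have ht1 : P.1 t < 1 := by rw [ht, ← WithZero.exp_zero, WithZero.exp_lt_exp]; norm_num
  have ht0 : t ≠ 0 := by
    rintro rfl
    rw [map_zero] at ht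
    exact WithZero.exp_ne_zero ht.symm
  have hq : P.1 ((z : K) / t ^ 2) ≤ 1 := by
    rw [map_div₀, map_pow, ht, ← WithZero.exp_nsmul]
    apply div_le_one_of_le₀ _ zero_le
    simpa using hz
  have hzt : z = (⟨t, hle t ht1.le⟩ : c.Oa) ^ 2 * ⟨(z : K) / t ^ 2, hle _ hq⟩ := by
    apply Subtype.ext
    show (z : K) = t ^ 2 * ((z : K) / t ^ 2)
    field_simp
  rw [hzt]
  exact Ideal.mul_mem_right _ _ (Ideal.pow_mem_pow (show (⟨t, hle t ht1.le⟩ : c.Oa) ∈ c.ma from ht1) 2)

/-- If the local ring is the whole valuation ring, the cotangent relations have codimension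
one. -/
theorem finrank_W_of_le [IsAlgClosed k] (hK : IsFunctionField k K)
    (hle : ∀ z : K, P.1 z ≤ 1 → z ∈ c.Oa) :
    Module.finrank k c.W + 1 = Fintype.card σ := by
  obtain ⟨t, ht⟩ := P.2.2 (WithZero.exp (-1 : ℤ))
  have hlt21 : WithZero.exp (-2 : ℤ) < WithZero.exp (-1 : ℤ) := by
    rw [WithZero.exp_lt_exp]; norm_num
  have ht1 : P.1 t < 1 := by rw [ht, ← WithZero.exp_zero, WithZero.exp_lt_exp]; norm_num
  obtain ⟨G, H, hH, e⟩ := c.exists_rep ⟨t, hle t ht1.le⟩
  have hGval : P.1 (aeval c.u G) = WithZero.exp (-1 : ℤ) := by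
    have h1 := congrArg (fun t : c.Oa => P.1 (t : K)) e
    simp only [Subalgebra.coe_mul, map_mul, c.coe_theta, (c.val_aeval_eq_one_iff H).2 hH,
      mul_one] at h1
    rw [← h1]; exact ht
  have hGa : eval c.a G = 0 := (c.val_aeval_lt_one_iff G).1 (by rw [hGval, ← ht]; exact ht1)
  obtain ⟨lam0, hlam0⟩ : ∃ lam0, lam0 = grad c.a G := ⟨_, rfl⟩
  have hQ := taylor_mem' c.a hGa
  rw [← hlam0] at hQ
  have ht0val : P.1 (aeval c.u (linPoly c.a lam0)) = WithZero.exp (-1 : ℤ) := by
    have h1 : aeval c.u (linPoly c.a lam0) =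
        aeval c.u G + -(aeval c.u (G - linPoly c.a lam0)) := by
      rw [map_sub]; ring
    rw [h1, Valuation.map_add_eq_of_lt_left, hGval]
    rw [Valuation.map_neg, hGval]
    exact lt_of_le_of_lt (c.val_aeval_le_of_mem_sq hQ) hlt21
  have hlam0W : lam0 ∉ c.W := by
    intro h
    have := c.val_le_of_mem_ma_sq ((c.mem_W lam0).1 h)
    rw [c.coe_theta, ht0val] at this
    exact absurd this (not_le.2 hlt21)
  have hsup : c.W ⊔ Submodule.span k {lam0} = ⊤ := by
    rw [eq_top_iff]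
    intro lam _
    have hy : P.1 (aeval c.u (linPoly c.a lam)) < 1 :=
      (c.val_aeval_lt_one_iff _).2 (eval_linPoly c.a lam)
    have hyt : P.1 (aeval c.u (linPoly c.a lam) / aeval c.u (linPoly c.a lam0)) ≤ 1 := by
      rw [map_div₀, ht0val]
      exact div_le_one_of_le₀ ((lt_one_iff_le_exp_neg_one _).1 hy) zero_le
    obtain ⟨r, hr⟩ := Place.exists_const_sub_lt hK P hyt
    have ht00 : aeval c.u (linPoly c.a lam0) ≠ 0 := by
      intro h0
      rw [h0, map_zero] at ht0val
      exact WithZero.exp_ne_zero ht0val.symm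
    have h1 : P.1 (aeval c.u (linPoly c.a (lam - r • lam0))) ≤ WithZero.exp (-2 : ℤ) := by
      have e1 : aeval c.u (linPoly c.a (lam - r • lam0)) =
          (aeval c.u (linPoly c.a lam) / aeval c.u (linPoly c.a lam0) - algebraMap k K r) *
            aeval c.u (linPoly c.a lam0) := by
        rw [map_sub, map_smul, map_sub, map_smul, Algebra.smul_def]
        field_simp
      rw [e1, map_mul, ht0val]
      have h2 := (lt_one_iff_le_exp_neg_one _).1 hr
      calc _ ≤ WithZero.exp (-1 : ℤ) * WithZero.exp (-1 : ℤ) := mul_le_mul' h2 le_rfl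
        _ = WithZero.exp (-2 : ℤ) := by rw [← WithZero.exp_add]; norm_num
    have h2 : lam - r • lam0 ∈ c.W := by
      rw [c.mem_W]
      exact c.mem_ma_sq_of_val_le hle (by rw [c.coe_theta]; exact h1)
    rw [Submodule.mem_sup]
    exact ⟨lam - r • lam0, h2, r • lam0,
      Submodule.smul_mem _ _ (Submodule.mem_span_singleton_self _), by abel⟩
  have hinf : c.W ⊓ Submodule.span k {lam0} = ⊥ := by
    rw [eq_bot_iff]
    rintro v ⟨hvW, hvs⟩
    obtain ⟨r, rfl⟩ := Submodule.mem_span_singleton.1 hvs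
    by_cases hr : r = 0
    · rw [hr, zero_smul]; exact Submodule.zero_mem _
    · exfalso
      apply hlam0W
      have := c.W.smul_mem r⁻¹ hvW
      rwa [smul_smul, inv_mul_cancel₀ hr, one_smul] at this
  have hlam0ne : lam0 ≠ 0 := fun h => hlam0W (h ▸ c.W.zero_mem)
  have h3 := Submodule.finrank_sup_add_finrank_inf_eq c.W (Submodule.span k {lam0})
  rw [hsup, hinf, finrank_top, finrank_bot, add_zero, Module.finrank_fintype_fun_eq_card,
    finrank_span_singleton hlam0ne] at h3
  exact h3.symm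

end Chart

end Groth.Agent.Lib.helper10.Jac
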