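import Groth.Agent.Lib.Helper10.Jac4

/-!
# Jacobian criterion (helper10), part 5: codimension one cotangent relations force the local ring
to be the valuation ring (Nakayama)
-/

set_option autoImplicit false
set_option linter.unusedSectionVars false
set_option linter.style.haveILetI false

universe u v

open MvPolynomial FunFld

namespace Groth.Agent.Lib.helper10.Jac

open FF

variable {k : Type u} [Field k] {σ : Type*} [Fintype σ]
variable {K : Type v} [Field K] [Algebra k K]

namespace Chart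

variable {P : Place k K} (c : Chart P σ)

theorem ma_fg : (c.ma).FG := by
  rw [c.ma_eq_map]
  apply Ideal.FG.map
  rw [ptIdeal_eq_span]
  exact ⟨(Set.finite_range _).toFinset, by rw [Set.Finite.coe_toFinset]⟩

theorem theta_mem_ma_sq {Q : MvPolynomial σ k} (hQ : Q ∈ ptIdeal c.a ^ 2) :
    c.theta Q ∈ c.ma ^ 2 := by
  rw [c.ma_eq_map, ← Ideal.map_pow]
  exact Ideal.mem_map_of_mem _ hQ

/-- The key quotient step: if `ma = (t0)`, quotients of elements of the local ring that are
integral at the place lie in the local ring. -/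
theorem div_mem_of_ma_eq_span {t0 : c.Oa} (hma : c.ma = Ideal.span {t0}) (m : ℕ) :
    ∀ A B : c.Oa, B ≠ 0 → P.1 (A : K) ≤ P.1 (B : K) → WithZero.exp (-(m : ℤ)) ≤ P.1 (B : K) →
      (A : K) / (B : K) ∈ c.Oa := by
  induction m with
  | zero =>
    intro A B hB hAB hm
    have hB1 : P.1 (B : K) = 1 := by
      apply le_antisymm (c.val_le_one_of_mem_Oa B.2)
      simpa using hm
    rw [div_eq_mul_inv]
    exact c.Oa.mul_mem A.2 (c.inv_mem_Oa B.2 hB1)
  | succ m ih =>
    intro A B hB hAB hm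
    by_cases hB1 : P.1 (B : K) = 1
    · rw [div_eq_mul_inv]
      exact c.Oa.mul_mem A.2 (c.inv_mem_Oa B.2 hB1)
    · have hBlt : P.1 (B : K) < 1 := lt_of_le_of_ne (c.val_le_one_of_mem_Oa B.2) hB1
      have hBm : B ∈ c.ma := hBlt
      have hAm : A ∈ c.ma := lt_of_le_of_lt hAB hBlt
      rw [hma] at hBm hAm
      obtain ⟨B', rfl⟩ := Ideal.mem_span_singleton'.1 hBm
      obtain ⟨A', rfl⟩ := Ideal.mem_span_singleton'.1 hAm
      have ht0 : t0 ≠ 0 := by
        rintro rfl
        exact hB (mul_zero _)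
      have hB' : B' ≠ 0 := by
        rintro rfl
        exact hB (zero_mul _)
      have ht0K : (t0 : K) ≠ 0 := fun h => ht0 (Subtype.ext h)
      have ht0m : t0 ∈ c.ma := by rw [hma]; exact Ideal.mem_span_singleton_self _
      have ht0v : P.1 (t0 : K) ≤ WithZero.exp (-1 : ℤ) := (lt_one_iff_le_exp_neg_one _).1 ht0m
      have ht0pos : 0 < P.1 (t0 : K) := by
        rw [zero_lt_iff, Ne, Valuation.zero_iff]; exact ht0K
      have e : ((A' * t0 : c.Oa) : K) / ((B' * t0 : c.Oa) : K) = (A' : K) / (B' : K) := by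
        show ((A' : K) * (t0 : K)) / ((B' : K) * (t0 : K)) = _
        rw [mul_div_mul_right _ _ ht0K]
      rw [e]
      apply ih A' B' hB'
      · have h1 : P.1 ((A' : K) * (t0 : K)) ≤ P.1 ((B' : K) * (t0 : K)) := hAB
        rw [map_mul, map_mul] at h1
        exact le_of_mul_le_mul_right h1 ht0pos
      · apply exp_le_of_mul_le ht0v
        have h1 : WithZero.exp (-((m + 1 : ℕ) : ℤ)) ≤ P.1 ((B' : K) * (t0 : K)) := hm
        rwa [map_mul] at h1

/-- If the cotangent relations have codimension one (and the chart coordinates generate the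
function field), the local ring is the whole valuation ring. -/
theorem le_of_finrank_W (hbir : IntermediateField.adjoin k (Set.range c.u) = ⊤)
    (hW : Module.finrank k c.W + 1 = Fintype.card σ) :
    ∀ z : K, P.1 z ≤ 1 → z ∈ c.Oa := by
  -- pick a vector outside W
  have hWtop : c.W ≠ ⊤ := by
    intro h
    rw [h, finrank_top, Module.finrank_fintype_fun_eq_card] at hW
    omega
  obtain ⟨lam0, hlam0W⟩ : ∃ lam0, lam0 ∉ c.W := by
    by_contra hcon
    push Not at hcon
    exact hWtop (eq_top_iff.2 fun x _ => hcon x)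
  have hinf : c.W ⊓ Submodule.span k {lam0} = ⊥ := by
    rw [eq_bot_iff]
    rintro v ⟨hvW, hvs⟩
    obtain ⟨r, rfl⟩ := Submodule.mem_span_singleton.1 hvs
    by_cases hr : r = 0
    · rw [hr, zero_smul]; exact Submodule.zero_mem _
    · exfalso
      apply hlam0W
      have := c.W.smul_mem r⁻¹ hvW
      rwa [smul_smul, inv_mul_cancel₀ hr, one_smul] at this
  have hlam0ne : lam0 ≠ 0 := fun h => hlam0W (h ▸ c.W.zero_mem)
  have hsup : c.W ⊔ Submodule.span k {lam0} = ⊤ := by
    apply Submodule.eq_top_of_finrank_eq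
    have h3 := Submodule.finrank_sup_add_finrank_inf_eq c.W (Submodule.span k {lam0})
    rw [hinf, finrank_bot, add_zero, finrank_span_singleton hlam0ne] at h3
    rw [h3, Module.finrank_fintype_fun_eq_card, hW]
  -- the uniformizer
  obtain ⟨t0, ht0⟩ : ∃ t0, t0 = c.theta (linPoly c.a lam0) := ⟨_, rfl⟩
  have hle : c.ma ≤ Ideal.span {t0} ⊔ c.ma • c.ma := by
    conv_lhs => rw [c.ma_eq_map]
    rw [Ideal.map, Ideal.span_le]
    rintro _ ⟨G, hG, rfl⟩
    have hG0 : eval c.a G = 0 := (mem_ptIdeal c.a).1 hG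
    have h1 := c.theta_mem_ma_sq (taylor_mem' c.a hG0)
    have h2 : grad c.a G ∈ c.W ⊔ Submodule.span k {lam0} := by rw [hsup]; trivial
    obtain ⟨w, hw, v, hv, hwv⟩ := Submodule.mem_sup.1 h2
    obtain ⟨r, rfl⟩ := Submodule.mem_span_singleton.1 hv
    have h3 : c.theta G = algebraMap k c.Oa r * t0 +
        (c.theta (linPoly c.a w) + c.theta (G - linPoly c.a (grad c.a G))) := by
      rw [ht0, ← hwv, map_sub, map_add, map_add, map_smul, map_smul, Algebra.smul_def]
      ring
    show c.theta G ∈ Ideal.span {t0} ⊔ c.ma • c.ma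
    rw [h3, smul_eq_mul, ← sq]
    apply Ideal.add_mem _ (Ideal.mem_sup_left (Ideal.mul_mem_left _ _
      (Ideal.mem_span_singleton_self _)))
    exact Ideal.mem_sup_right (Ideal.add_mem _ ((c.mem_W w).1 hw) h1)
  have hjac : c.ma ≤ Ideal.jacobson ⊥ := by
    rw [← c.maximalIdeal_eq]
    exact IsLocalRing.maximalIdeal_le_jacobson _
  have hma_le : c.ma ≤ Ideal.span {t0} :=
    Submodule.le_of_le_smul_of_le_jacobson_bot c.ma_fg hjac hle
  have ht0m : t0 ∈ c.ma := by
    rw [ht0]; exact c.theta_mem_ma (eval_linPoly c.a lam0)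
  have hma : c.ma = Ideal.span {t0} :=
    le_antisymm hma_le ((Ideal.span_singleton_le_iff_mem _).2 ht0m)
  intro z hz
  have hzmem : z ∈ IntermediateField.adjoin k (Set.range c.u) := by rw [hbir]; trivial
  obtain ⟨r, s, rfl⟩ := (IntermediateField.mem_adjoin_range_iff k c.u z).1 hzmem
  by_cases hs : aeval c.u s = 0
  · rw [hs, div_zero]; exact c.Oa.zero_mem
  have hs0 : c.theta s ≠ 0 := fun h => hs (congrArg Subtype.val h)
  have hsv : P.1 (aeval c.u s) ≠ 0 := by rwa [Ne, Valuation.zero_iff]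
  obtain ⟨m, hm⟩ : ∃ m : ℕ, WithZero.exp (-(m : ℤ)) ≤ P.1 (aeval c.u s) := by
    refine ⟨(-(WithZero.log (P.1 (aeval c.u s)))).toNat, ?_⟩
    conv_rhs => rw [← WithZero.exp_log hsv]
    rw [WithZero.exp_le_exp]
    omega
  have hrs : P.1 (aeval c.u r) ≤ P.1 (aeval c.u s) := by
    rw [map_div₀] at hz
    rwa [div_le_one₀ (zero_lt_iff.2 hsv)] at hz
  exact c.div_mem_of_ma_eq_span hma m (c.theta r) (c.theta s) hs0 hrs hm

end Chart

end Groth.Agent.Lib.helper10.Jac
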