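import Groth.Agent.Lib.Helper10.Jac5
import Mathlib.RingTheory.MvPolynomial.EulerIdentity

/-!
# Jacobian criterion (helper10), part 6: the affine kernel from the homogeneous kernel, and the
gradient image of an ideal
-/

set_option autoImplicit false
set_option linter.unusedSectionVars false
set_option linter.style.haveILetI false

universe u v

open MvPolynomial FunFld

namespace Groth.Agent.Lib.helper10.Jac

open FF

variable {k : Type u} [Field k] {σ : Type*}

section Homog

/-- Homogenization in degree `N` with respect to the coordinate `j`. -/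
noncomputable def homog (j : σ) (N : ℕ) (H : MvPolynomial σ k) : MvPolynomial σ k :=
  ∑ d ∈ Finset.range (N + 1), homogeneousComponent d H * X j ^ (N - d)

theorem homog_isHomogeneous (j : σ) (N : ℕ) (H : MvPolynomial σ k) :
    (homog j N H).IsHomogeneous N := by
  apply IsHomogeneous.sum
  intro d hd
  have h1 : d + (N - d) = N := by have := Finset.mem_range.1 hd; omega
  have h2 := (homogeneousComponent_isHomogeneous d H).mul (isHomogeneous_X_pow (R := k) j (N - d))
  rwa [h1] at h2

theorem homog_sub_mem (j : σ) (H : MvPolynomial σ k) :
    homog j H.totalDegree H - H ∈ Ideal.span {(X j - 1 : MvPolynomial σ k)} := by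
  have hH := sum_homogeneousComponent H
  have e : homog j H.totalDegree H - H = ∑ d ∈ Finset.range (H.totalDegree + 1),
      homogeneousComponent d H * (X j ^ (H.totalDegree - d) - 1) := by
    have e1 : homog j H.totalDegree H - H = homog j H.totalDegree H -
        ∑ i ∈ Finset.range (H.totalDegree + 1), homogeneousComponent i H := by rw [hH]
    rw [e1, homog, ← Finset.sum_sub_distrib]
    apply Finset.sum_congr rfl
    intro d _
    ring
  rw [e]
  apply Ideal.sum_mem
  intro d _
  apply Ideal.mul_mem_left
  rw [Ideal.mem_span_singleton]
  have := sub_dvd_pow_sub_pow (X j : MvPolynomial σ k) 1 (H.totalDegree - d)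
  rwa [one_pow] at this

end Homog

section Kernel

variable {K : Type v} [Field K] [Algebra k K]

/-- **The affine kernel in a chart.** The relations among the ratios `φ i / φ j` are generated
by the homogeneous relations among the `φ i` and `X j - 1`. -/
theorem ker_aeval_div_eq (φ : σ → K) (j : σ) (hj : φ j ≠ 0) :
    RingHom.ker (aeval (R := k) fun i => φ i / φ j) =
      RingHom.ker (psi (k := k) φ) ⊔ Ideal.span {(X j - 1 : MvPolynomial σ k)} := by
  have hXj : (X j - 1 : MvPolynomial σ k) ∈ RingHom.ker (aeval (R := k) fun i => φ i / φ j) := by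
    rw [RingHom.mem_ker, map_sub, aeval_X, map_one, div_self hj, sub_self]
  apply le_antisymm
  · intro H hH
    rw [RingHom.mem_ker] at hH
    have h1 := homog_sub_mem j H
    have h2 : homog j H.totalDegree H ∈ RingHom.ker (psi (k := k) φ) := by
      rw [RingHom.mem_ker, psi_of_isHomogeneous φ (homog_isHomogeneous j _ H)]
      have h3 : aeval (R := k) (fun i => φ i / φ j) (homog j H.totalDegree H) = 0 := by
        have h4 : homog j H.totalDegree H - H ∈
            RingHom.ker (aeval (R := k) fun i => φ i / φ j) :=
          (Ideal.span_singleton_le_iff_mem _).2 hXj h1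
        rw [RingHom.mem_ker, map_sub, hH, sub_zero] at h4
        exact h4
      have h5 : φ = fun i => φ j * (φ i / φ j) := by
        funext i; field_simp
      have h6 := aeval_mul_of_isHomogeneous (k := k) (fun i => φ i / φ j) (φ j)
        (homog_isHomogeneous j H.totalDegree H)
      rw [← h5, h3, mul_zero] at h6
      rw [h6, map_zero, zero_mul]
    have h7 : H = homog j H.totalDegree H - (homog j H.totalDegree H - H) := by ring
    rw [h7]
    exact Ideal.sub_mem _ (Ideal.mem_sup_left h2) (Ideal.mem_sup_right h1)
  · apply sup_le
    · intro G hG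
      rw [RingHom.mem_ker] at hG ⊢
      have h1 := (psi_eq_zero_iff φ G).1 hG
      conv_lhs => rw [← sum_homogeneousComponent G]
      rw [map_sum]
      apply Finset.sum_eq_zero
      intro d _
      have h5 : (fun i => φ i / φ j) = fun i => (φ j)⁻¹ * φ i := by
        funext i; rw [div_eq_inv_mul]
      rw [h5, aeval_mul_of_isHomogeneous (k := k) φ (φ j)⁻¹
        (homogeneousComponent_isHomogeneous d G), h1 d, mul_zero]
    · exact (Ideal.span_singleton_le_iff_mem _).2 hXj

end Kernel

section GradSpan

variable [Fintype σ] (a : σ → k)

/-- The gradient image of an ideal generated by polynomials vanishing at `a` is spanned by the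
gradients of the generators. -/
theorem map_gradL_span (S : Set (MvPolynomial σ k)) (hS : ∀ s ∈ S, eval a s = 0) :
    Submodule.map (gradL a) ((Ideal.span S).restrictScalars k) =
      Submodule.span k (grad a '' S) := by
  have hle : Ideal.span S ≤ ptIdeal a := by
    rw [Ideal.span_le]
    intro s hs
    exact (mem_ptIdeal a).2 (hS s hs)
  apply le_antisymm
  · rintro _ ⟨G, hG, rfl⟩
    have hG' : G ∈ Ideal.span S := hG
    rw [gradL_apply]
    induction hG' using Submodule.span_induction with
    | mem s hs => exact Submodule.subset_span ⟨s, hs, rfl⟩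
    | zero => rw [grad_zero]; exact Submodule.zero_mem _
    | add x y _ _ hx hy => rw [grad_add]; exact Submodule.add_mem _ (hx ‹_›) (hy ‹_›)
    | smul g x hx ih =>
      rw [smul_eq_mul, grad_mul, (mem_ptIdeal a).1 (hle hx), zero_smul, add_zero]
      exact Submodule.smul_mem _ _ (ih hx)
  · rw [Submodule.span_le]
    rintro _ ⟨s, hs, rfl⟩
    exact ⟨s, Ideal.subset_span hs, rfl⟩

/-- Euler's identity at a zero: the gradient of a homogeneous polynomial vanishing at `a` is
orthogonal to `a`. -/
theorem euler_grad {s : MvPolynomial σ k} {d : ℕ} (hs : s.IsHomogeneous d)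
    (h0 : eval a s = 0) : ∑ l, a l * grad a s l = 0 := by
  have h1 := congrArg (eval a) hs.sum_X_mul_pderiv
  rw [map_sum, map_nsmul, h0, smul_zero] at h1
  rw [← h1]
  apply Finset.sum_congr rfl
  intro l _
  rw [map_mul, eval_X]
  rfl

end GradSpan

end Groth.Agent.Lib.helper10.Jac
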