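import Groth.Agent.Lib.Helper10.Jac6

/-!
# Jacobian criterion (helper10), part 7: the local ring of a projective map is the local ring of
the chart; the criterion in terms of the gradients of homogeneous generators
-/

set_option autoImplicit false
set_option linter.unusedSectionVars false
set_option linter.style.haveILetI false

universe u v

open MvPolynomial FunFld

namespace Groth.Agent.Lib.helper10.Jac

open FF

variable {k : Type u} {K : Type v} [Field k] [Field K] [Algebra k K]
variable {ι : Type*} [Fintype ι]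

theorem val_div_le_one (φ : ι → K) (P : Place k K) (j : ι) (hj0 : φ j ≠ 0)
    (hj : ∀ i, P.1 (φ i) ≤ P.1 (φ j)) (i : ι) : P.1 (φ i / φ j) ≤ 1 := by
  rw [map_div₀]
  have hpos : 0 < P.1 (φ j) := by rw [zero_lt_iff, Ne, Valuation.zero_iff]; exact hj0
  rw [div_le_one₀ hpos]
  exact hj i

/-- The chart at a place defined by an index of least order. -/
noncomputable def chartOf (hK : IsFunctionField k K) [IsAlgClosed k] (φ : ι → K)
    (P : Place k K) (j : ι) (hj0 : φ j ≠ 0) (hj : ∀ i, P.1 (φ i) ≤ P.1 (φ j)) : Chart P ι where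
  u i := φ i / φ j
  a i := Classical.choose (Place.exists_const_sub_lt hK P (val_div_le_one φ P j hj0 hj i))
  hu i := Classical.choose_spec (Place.exists_const_sub_lt hK P (val_div_le_one φ P j hj0 hj i))

theorem chartOf_u (hK : IsFunctionField k K) [IsAlgClosed k] (φ : ι → K)
    (P : Place k K) (j : ι) (hj0 : φ j ≠ 0) (hj : ∀ i, P.1 (φ i) ≤ P.1 (φ j)) :
    (chartOf hK φ P j hj0 hj).u = fun i => φ i / φ j := rfl

variable [Nonempty ι]

/-- **Bridge**: the local ring of the projective map at `P` is the local ring of the chart. -/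
theorem inLocRing_iff_mem_Oa (hK : IsFunctionField k K) (φ : ι → K) (h0 : ∀ i, φ i ≠ 0)
    (P : Place k K) (j : ι) (hj : ∀ i, P.1 (φ i) ≤ P.1 (φ j)) (c : Chart P ι)
    (hc : c.u = fun i => φ i / φ j) (z : K) : InLocRing φ P z ↔ z ∈ c.Oa := by
  constructor
  · intro h
    rw [inLocRing_iff_forms hK φ h0] at h
    obtain ⟨m, U, W, hU, hW, hWP, hzW⟩ := h
    have hjP := val_argmax_eq_gen hK φ h0 P j hj
    have hpow0 : (φ j) ^ m ≠ 0 := pow_ne_zero _ (h0 j)
    have h1 := div_pow_mem_adjoin_gen φ j (h0 j) hU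
    have h2 := div_pow_mem_adjoin_gen φ j (h0 j) hW
    rw [Algebra.adjoin_range_eq_range_aeval, ← hc] at h1 h2
    obtain ⟨G, hG⟩ := h1
    obtain ⟨H, hH⟩ := h2
    refine ⟨G, H, ?_, ?_⟩
    · rw [← c.val_aeval_eq_one_iff]
      have : (aeval c.u) H = W / φ j ^ m := hH
      rw [this, map_div₀, hWP, Valuation.map_pow, hjP, ← WithZero.exp_nsmul, nsmul_eq_mul]
      exact div_self WithZero.exp_ne_zero
    · have e1 : (aeval c.u) H = W / φ j ^ m := hH
      have e2 : (aeval c.u) G = U / φ j ^ m := hG
      rw [e1, e2, ← hzW]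
      field_simp
  · rintro ⟨G, H, hH, e⟩
    refine ⟨j, h0 j, hj, aeval c.u G, ?_, aeval c.u H, ?_, (c.val_aeval_eq_one_iff H).2 hH, e⟩
    · rw [Algebra.adjoin_range_eq_range_aeval, ← hc]; exact ⟨G, rfl⟩
    · rw [Algebra.adjoin_range_eq_range_aeval, ← hc]; exact ⟨H, rfl⟩

/-- The functional `v ↦ ∑ a l * v l`. -/
noncomputable def dotL (a : ι → k) : (ι → k) →ₗ[k] k where
  toFun v := ∑ l, a l * v l
  map_add' v w := by
    simp only [Pi.add_apply, mul_add, Finset.sum_add_distrib]
  map_smul' r v := by
    simp only [Pi.smul_apply, smul_eq_mul, RingHom.id_apply, Finset.mul_sum]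
    apply Finset.sum_congr rfl
    intro l _
    ring

theorem dotL_apply (a v : ι → k) : dotL a v = ∑ l, a l * v l := rfl

variable [DecidableEq ι]

/-- **The Jacobian criterion, abstract form.** For a birational projective map with homogeneous
generators `S` of the ideal of relations, nonsingularity at `P` means that the gradients of the
generators at the image point span a space of codimension two. -/
theorem isNonsingularAt_iff_finrank (hK : IsFunctionField k K) [IsAlgClosed k] (φ : ι → K)
    (h0 : ∀ i, φ i ≠ 0) (P : Place k K) (j : ι) (hj : ∀ i, P.1 (φ i) ≤ P.1 (φ j))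
    (hbir : IntermediateField.adjoin k (Set.range fun i => φ i / φ j) = ⊤)
    (c : Chart P ι) (hc : c.u = fun i => φ i / φ j)
    (S : Set (MvPolynomial ι k)) (hShom : ∀ s ∈ S, ∃ d, s.IsHomogeneous d)
    (hgen : Ideal.span S = RingHom.ker (psi (k := k) φ)) :
    IsNonsingularAt φ P ↔
      Module.finrank k (Submodule.span k (grad c.a '' S)) + 2 = Fintype.card ι := by
  have hbir' : IntermediateField.adjoin k (Set.range c.u) = ⊤ := by rw [hc]; exact hbir
  have hker : RingHom.ker (aeval (R := k) c.u) =
      Ideal.span (S ∪ {(X j - 1 : MvPolynomial ι k)}) := by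
    rw [hc, ker_aeval_div_eq φ j (h0 j), Ideal.span_union, hgen]
  have hSker : ∀ s ∈ S ∪ {(X j - 1 : MvPolynomial ι k)}, aeval (R := k) c.u s = 0 := by
    intro s hs
    have : s ∈ RingHom.ker (aeval (R := k) c.u) := by rw [hker]; exact Ideal.subset_span hs
    exact this
  have hS0 : ∀ s ∈ S ∪ {(X j - 1 : MvPolynomial ι k)}, eval c.a s = 0 := fun s hs =>
    c.eval_eq_zero_of_aeval_eq_zero (hSker s hs)
  have haj : c.a j = 1 := by
    have := hS0 (X j - 1) (Set.mem_union_right _ rfl)
    rw [map_sub, eval_X, map_one, sub_eq_zero] at this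
    exact this
  have hW : c.W = Submodule.span k (grad c.a '' S) ⊔ Submodule.span k {Pi.single j (1 : k)} := by
    rw [c.W_eq, hker, map_gradL_span c.a _ hS0, Set.image_union, Submodule.span_union,
      Set.image_singleton]
    congr 2
    rw [grad_sub, grad_X, show (1 : MvPolynomial ι k) = C 1 from rfl, grad_C, sub_zero]
  have hdot : Submodule.span k (grad c.a '' S) ≤ LinearMap.ker (dotL c.a) := by
    rw [Submodule.span_le]
    rintro _ ⟨s, hs, rfl⟩
    obtain ⟨d, hd⟩ := hShom s hs
    rw [SetLike.mem_coe, LinearMap.mem_ker, dotL_apply]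
    exact euler_grad c.a hd (hS0 s (Set.mem_union_left _ hs))
  have hej : dotL c.a (Pi.single j (1 : k)) = 1 := by
    rw [dotL_apply, Finset.sum_eq_single j]
    · rw [Pi.single_eq_same, mul_one, haj]
    · intro l _ hl
      rw [Pi.single_eq_of_ne hl, mul_zero]
    · intro h; exact absurd (Finset.mem_univ j) h
  have hej0 : (Pi.single j (1 : k) : ι → k) ≠ 0 := by
    intro h
    rw [h, map_zero] at hej
    exact zero_ne_one hej
  have hinf : Submodule.span k (grad c.a '' S) ⊓ Submodule.span k {Pi.single j (1 : k)} = ⊥ := by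
    rw [eq_bot_iff]
    rintro v ⟨hv1, hv2⟩
    obtain ⟨r, rfl⟩ := Submodule.mem_span_singleton.1 hv2
    have h1 := hdot hv1
    rw [LinearMap.mem_ker, map_smul, hej, smul_eq_mul, mul_one] at h1
    rw [h1, zero_smul]
    exact Submodule.zero_mem _
  have hfin : Module.finrank k c.W = Module.finrank k (Submodule.span k (grad c.a '' S)) + 1 := by
    have h3 := Submodule.finrank_sup_add_finrank_inf_eq (Submodule.span k (grad c.a '' S))
      (Submodule.span k {Pi.single j (1 : k)})
    rw [hinf, finrank_bot, add_zero, finrank_span_singleton hej0, ← hW] at h3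
    exact h3
  have hiff : IsNonsingularAt φ P ↔ ∀ z : K, P.1 z ≤ 1 → z ∈ c.Oa := by
    unfold IsNonsingularAt
    constructor
    · intro h z hz
      exact (inLocRing_iff_mem_Oa hK φ h0 P j hj c hc z).1 (h z hz)
    · intro h z hz
      exact (inLocRing_iff_mem_Oa hK φ h0 P j hj c hc z).2 (h z hz)
  rw [hiff]
  constructor
  · intro h
    have := c.finrank_W_of_le hK h
    omega
  · intro h
    apply c.le_of_finrank_W hbir'
    omega

/-- Birationality does not depend on the chart. -/
theorem adjoin_div_eq_top (φ : ι → K) (i₀ j : ι) (hj0 : φ j ≠ 0)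
    (hbir : IntermediateField.adjoin k (Set.range fun i => φ i / φ i₀) = ⊤) :
    IntermediateField.adjoin k (Set.range fun i => φ i / φ j) = ⊤ := by
  rw [eq_top_iff, ← hbir, IntermediateField.adjoin_le_iff]
  rintro _ ⟨i, rfl⟩
  have h1 : φ i / φ j ∈ IntermediateField.adjoin k (Set.range fun i => φ i / φ j) :=
    IntermediateField.subset_adjoin _ _ ⟨i, rfl⟩
  have h2 : φ i₀ / φ j ∈ IntermediateField.adjoin k (Set.range fun i => φ i / φ j) :=
    IntermediateField.subset_adjoin _ _ ⟨i₀, rfl⟩
  have e : φ i / φ i₀ = (φ i / φ j) / (φ i₀ / φ j) := by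
    rw [div_div_div_cancel_right₀ hj0]
  show φ i / φ i₀ ∈ _
  rw [e]
  exact div_mem h1 h2

end Groth.Agent.Lib.helper10.Jac
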