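import Groth.Agent.Lib.Helper10.Jac7

/-!
# Jacobian criterion (helper10), part 8: matrix ranks under a field isomorphism, residues
-/

set_option autoImplicit false
set_option linter.unusedSectionVars false
set_option linter.style.haveILetI false

universe u v

open MvPolynomial FunFld

namespace Groth.Agent.Lib.helper10.Jac

open FF

section RankMap

variable {R : Type u} {S : Type v} [Field R] [Field S]
variable {m n : Type*} [Fintype m] [Fintype n]

/-- The rank of a matrix does not change under a bijective ring homomorphism of fields. -/
theorem rank_map_of_bijective (e : R →+* S) (he : Function.Bijective e) (A : Matrix m n R) :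
    (A.map e).rank = A.rank := by
  obtain ⟨e', he'⟩ : ∃ e' : R ≃+* S, (e' : R →+* S) = e := ⟨RingEquiv.ofBijective e he, rfl⟩
  subst he'
  haveI : RingHomInvPair (e' : R →+* S) (e'.symm : S →+* R) := RingHomInvPair.of_ringEquiv e'
  haveI : RingHomInvPair (e'.symm : S →+* R) (e' : R →+* S) := RingHomInvPair.symm _ _
  let E : (m → R) →ₛₗ[(e' : R →+* S)] (m → S) :=
    { toFun := fun v i => e' (v i)
      map_add' := fun v w => by funext i; simp
      map_smul' := fun r v => by funext i; simp }
  have hE : Function.Injective E := by
    intro v w h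
    funext i
    exact e'.injective (congrFun h i)
  have hcol : Set.range (A.map (e' : R →+* S)).col = E '' Set.range A.col := by
    ext v
    constructor
    · rintro ⟨j, rfl⟩
      exact ⟨A.col j, ⟨j, rfl⟩, rfl⟩
    · rintro ⟨_, ⟨j, rfl⟩, rfl⟩
      exact ⟨j, rfl⟩
  rw [Matrix.rank_eq_finrank_span_cols, Matrix.rank_eq_finrank_span_cols, hcol,
    ← Submodule.map_span]
  let j := Submodule.equivMapOfInjective E hE (Submodule.span R (Set.range A.col))
  have h1 := lift_rank_eq_of_equiv_equiv (e' : R → S) j.toAddEquiv e'.bijective
    (fun r v => map_smulₛₗ j r v)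
  have h2 := congrArg Cardinal.toNat h1
  rw [Cardinal.toNat_lift, Cardinal.toNat_lift] at h2
  exact h2.symm

end RankMap

section Residue

variable {k : Type u} {K : Type v} [Field k] [Field K] [Algebra k K]

theorem residue_eq_algebraMap (P : Place k K) (w : P.O) (c : k)
    (h : P.1 ((w : K) - algebraMap k K c) < 1) :
    IsLocalRing.residue P.O w = algebraMap k (IsLocalRing.ResidueField P.O) c := by
  have h2 : IsLocalRing.residue P.O (w - algebraMap k P.O c) = 0 := by
    rw [Place.residue_eq_zero_iff]
    exact h
  rw [map_sub, sub_eq_zero] at h2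
  rw [h2]
  rfl

theorem algebraMap_residueField_bijective (hK : IsFunctionField k K) [IsAlgClosed k]
    (P : Place k K) :
    Function.Bijective (algebraMap k (IsLocalRing.ResidueField P.O)) := by
  refine ⟨(algebraMap k (IsLocalRing.ResidueField P.O)).injective, ?_⟩
  have hdeg := Place.deg_eq_one hK P
  unfold Place.deg at hdeg
  have h1 := (finrank_eq_one_iff_of_nonzero' (1 : IsLocalRing.ResidueField P.O) one_ne_zero).1 hdeg
  intro w
  obtain ⟨c, hc⟩ := h1 w
  refine ⟨c, ?_⟩
  rw [← hc]
  exact ((Algebra.smul_def c (1 : IsLocalRing.ResidueField P.O)).trans (mul_one _)).symm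

variable {σ : Type*} [Fintype σ]

/-- Residues of polynomials in the chart coordinates are the values at the centre. -/
theorem Chart.residue_aeval {P : Place k K} (c : Chart P σ) (G : MvPolynomial σ k) (w : P.O)
    (hw : (w : K) = aeval c.u G) :
    IsLocalRing.residue P.O w = algebraMap k (IsLocalRing.ResidueField P.O) (eval c.a G) := by
  apply residue_eq_algebraMap
  rw [hw]
  exact c.val_aeval_sub_lt G

end Residue

end Groth.Agent.Lib.helper10.Jac
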