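import Groth.Agent.Lib.Helper10.Jac8

/-!
# Jacobian criterion (helper10), part 9: homogenization and dehomogenization
-/

set_option autoImplicit false
set_option linter.unusedSectionVars false
set_option linter.style.haveILetI false

universe u v

open MvPolynomial FunFld

namespace Groth.Agent.Lib.helper10.Jac

variable {k : Type u} [Field k] {σ : Type*}

theorem sum_homogeneousComponent_of_le (H : MvPolynomial σ k) {N : ℕ} (hN : H.totalDegree ≤ N) :
    ∑ d ∈ Finset.range (N + 1), homogeneousComponent d H = H := by
  conv_rhs => rw [← sum_homogeneousComponent H]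
  symm
  apply Finset.sum_subset
  · intro d hd
    rw [Finset.mem_range] at hd ⊢
    omega
  · intro d _ hd
    rw [Finset.mem_range, not_lt] at hd
    exact homogeneousComponent_eq_zero _ _ (by omega)

/-- An algebra map sending `X j` to `1` does not see the homogenization. -/
theorem map_homog {A : Type*} [CommRing A] [Algebra k A] (θ : MvPolynomial σ k →ₐ[k] A) (j : σ)
    (hθ : θ (X j) = 1) {H : MvPolynomial σ k} {N : ℕ} (hN : H.totalDegree ≤ N) :
    θ (homog j N H) = θ H := by
  conv_rhs => rw [← sum_homogeneousComponent_of_le H hN]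
  rw [homog, map_sum, map_sum]
  apply Finset.sum_congr rfl
  intro d _
  rw [map_mul, map_pow, hθ, one_pow, mul_one]

/-- Homogenization as a linear map. -/
noncomputable def homogL (j : σ) (N : ℕ) : MvPolynomial σ k →ₗ[k] MvPolynomial σ k where
  toFun := homog j N
  map_add' G H := by
    simp only [homog, map_add, add_mul, Finset.sum_add_distrib]
  map_smul' r G := by
    simp only [homog, map_smul, smul_mul_assoc, RingHom.id_apply, Finset.smul_sum]

theorem homogL_apply (j : σ) (N : ℕ) (H : MvPolynomial σ k) : homogL j N H = homog j N H := rfl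

theorem homog_zero (j : σ) (N : ℕ) : homog j N (0 : MvPolynomial σ k) = 0 := by
  rw [← homogL_apply, map_zero]

theorem homog_monomial (j : σ) (N : ℕ) (m : σ →₀ ℕ) (c : k) (hm : m.degree ≤ N) :
    homog j N (monomial m c) = monomial (m + Finsupp.single j (N - m.degree)) c := by
  have hmem : monomial m c ∈ homogeneousSubmodule σ k m.degree :=
    isHomogeneous_monomial c rfl
  rw [homog, Finset.sum_eq_single m.degree]
  · rw [homogeneousComponent_of_mem hmem, if_pos rfl, X_pow_eq_monomial, monomial_mul, mul_one]
  · intro d _ hd
    rw [homogeneousComponent_of_mem hmem, if_neg hd, zero_mul]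
  · intro h
    exact absurd (Finset.mem_range.2 (by omega)) h

variable [DecidableEq σ]

/-- Dehomogenization: set `X j` to `1`. -/
noncomputable def eps (j : σ) : MvPolynomial σ k →ₐ[k] MvPolynomial σ k :=
  aeval fun i => if i = j then 1 else X i

theorem eps_X_self (j : σ) : eps (k := k) j (X j) = 1 := by
  rw [eps, aeval_X, if_pos rfl]

theorem eps_X_of_ne {i j : σ} (h : i ≠ j) : eps (k := k) j (X i) = X i := by
  rw [eps, aeval_X, if_neg h]

theorem eps_monomial (j : σ) (m : σ →₀ ℕ) (c : k) :
    eps j (monomial m c) = monomial (m.erase j) c := by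
  rw [eps, aeval_monomial, monomial_eq (s := m.erase j)]
  congr 1
  rw [Finsupp.prod, Finsupp.prod, Finsupp.support_erase]
  have h1 : ((if j = j then (1 : MvPolynomial σ k) else X j)) ^ m j = 1 := by
    rw [if_pos rfl, one_pow]
  rw [← Finset.prod_erase m.support h1]
  apply Finset.prod_congr rfl
  intro i hi
  have hij : i ≠ j := Finset.ne_of_mem_erase hi
  rw [if_neg hij, Finsupp.erase_ne hij]

theorem degree_erase_add (j : σ) (m : σ →₀ ℕ) : (m.erase j).degree + m j = m.degree := by
  conv_rhs => rw [← Finsupp.erase_add_single j m]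
  rw [map_add, Finsupp.degree_single]

theorem homog_eps_monomial (j : σ) (m : σ →₀ ℕ) (c : k) :
    homog j m.degree (eps j (monomial m c)) = monomial m c := by
  have h1 := degree_erase_add j m
  rw [eps_monomial, homog_monomial j _ _ _ (by omega)]
  congr 1
  have h2 : m.degree - (m.erase j).degree = m j := by omega
  rw [h2, Finsupp.erase_add_single]

/-- A homogeneous polynomial is the homogenization of its dehomogenization. -/
theorem homog_eps_of_isHomogeneous (j : σ) {G : MvPolynomial σ k} {d : ℕ}
    (hG : G.IsHomogeneous d) : homog j d (eps j G) = G := by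
  have e : ∀ G' : MvPolynomial σ k, G' = G → homog j d (eps j G') = G := by
    intro G' hG'
    rw [← support_sum_monomial_coeff G] at hG'
    rw [hG', map_sum, ← homogL_apply, map_sum]
    conv_rhs => rw [← support_sum_monomial_coeff G]
    apply Finset.sum_congr rfl
    intro m hm
    have hd : m.degree = d := by
      have := hG (mem_support_iff.1 hm)
      rw [← this, Finsupp.degree_eq_weight_one]
      rfl
    rw [homogL_apply, ← hd, homog_eps_monomial]
  exact e G rfl

theorem totalDegree_eps_le (j : σ) (G : MvPolynomial σ k) :
    (eps j G).totalDegree ≤ G.totalDegree := by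
  conv_lhs => rw [← support_sum_monomial_coeff G]
  rw [map_sum]
  refine le_trans (totalDegree_finsetSum _ _) ?_
  apply Finset.sup_le
  intro m hm
  rw [eps_monomial]
  refine le_trans (totalDegree_monomial_le _ _) ?_
  have h1 := le_totalDegree hm
  have h2 := degree_erase_add j m
  have h3 : ((m.erase j).sum fun _ => id) = (m.erase j).degree := rfl
  have h4 : (m.sum fun _ e => e) = m.degree := rfl
  omega

theorem eps_homog (j : σ) {H : MvPolynomial σ k} {N : ℕ} (hN : H.totalDegree ≤ N) :
    eps j (homog j N H) = eps j H :=
  map_homog (eps j) j (eps_X_self j) hN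

/-- Homogenization is multiplicative. -/
theorem homog_mul (j : σ) {G H : MvPolynomial σ k} {M N : ℕ} (hG : G.totalDegree ≤ M)
    (hH : H.totalDegree ≤ N) : homog j (M + N) (G * H) = homog j M G * homog j N H := by
  have hGH : (G * H).totalDegree ≤ M + N := le_trans (totalDegree_mul G H) (by omega)
  have h1 := homog_eps_of_isHomogeneous j (homog_isHomogeneous j (M + N) (G * H))
  have h2 := homog_eps_of_isHomogeneous j
    ((homog_isHomogeneous j M G).mul (homog_isHomogeneous j N H))
  rw [eps_homog j hGH] at h1
  rw [map_mul, eps_homog j hG, eps_homog j hH, ← map_mul] at h2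
  rw [← h1, ← h2]

theorem homog_ne_zero (j : σ) {H : MvPolynomial σ k} {N : ℕ} (hN : H.totalDegree ≤ N)
    (hH : eps j H ≠ 0) : homog j N H ≠ 0 := by
  intro h
  apply hH
  rw [← eps_homog j hN, h, map_zero]

end Groth.Agent.Lib.helper10.Jac
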