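import Mathlib

set_option autoImplicit false

namespace Groth.Agent.Lib.helper10.KatoSplit

/-- `n` is positive with all prime factors in `P`. -/
def IsPnum (P : Set ℕ) (n : ℕ) : Prop := 0 < n ∧ ∀ p : ℕ, p.Prime → p ∣ n → p ∈ P

/-- `n` is positive with no prime factor in `P`. -/
def IsQnum (P : Set ℕ) (n : ℕ) : Prop := 0 < n ∧ ∀ p : ℕ, p.Prime → p ∣ n → p ∉ P

variable {P : Set ℕ}

theorem IsPnum.mul {a b : ℕ} (ha : IsPnum P a) (hb : IsPnum P b) : IsPnum P (a * b) :=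
  ⟨Nat.mul_pos ha.1 hb.1, fun p hp hd =>
    (hp.dvd_mul.mp hd).elim (ha.2 p hp) (hb.2 p hp)⟩

theorem IsQnum.mul {a b : ℕ} (ha : IsQnum P a) (hb : IsQnum P b) : IsQnum P (a * b) :=
  ⟨Nat.mul_pos ha.1 hb.1, fun p hp hd =>
    (hp.dvd_mul.mp hd).elim (ha.2 p hp) (hb.2 p hp)⟩

theorem isPnum_one : IsPnum P 1 :=
  ⟨Nat.one_pos, fun p hp hd => absurd (Nat.dvd_one.mp hd) hp.ne_one⟩

theorem isQnum_one : IsQnum P 1 :=
  ⟨Nat.one_pos, fun p hp hd => absurd (Nat.dvd_one.mp hd) hp.ne_one⟩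

theorem coprime_of {a b : ℕ} (ha : IsPnum P a) (hb : IsQnum P b) : Nat.Coprime a b :=
  Nat.coprime_of_dvd fun k hk h1 h2 => hb.2 k hk h2 (ha.2 k hk h1)

theorem exists_split (n : ℕ) (hn : 0 < n) :
    ∃ a b : ℕ, n = a * b ∧ IsPnum P a ∧ IsQnum P b := by
  classical
  induction n using induction_on_primes with
  | zero => exact absurd hn (lt_irrefl _)
  | one => exact ⟨1, 1, rfl, isPnum_one, isQnum_one⟩
  | prime_mul p a hp ih =>
    have ha : 0 < a := Nat.pos_of_ne_zero (by rintro rfl; simp at hn)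
    obtain ⟨a1, b1, rfl, h1, h2⟩ := ih ha
    by_cases hpP : p ∈ P
    · refine ⟨p * a1, b1, by ring, IsPnum.mul ⟨hp.pos, fun q hq hd => ?_⟩ h1, h2⟩
      rwa [(Nat.prime_dvd_prime_iff_eq hq hp).mp hd]
    · refine ⟨a1, p * b1, by ring, h1, IsQnum.mul ⟨hp.pos, fun q hq hd => ?_⟩ h2⟩
      rwa [(Nat.prime_dvd_prime_iff_eq hq hp).mp hd]

/-- Bezout. -/
theorem bezout {a b : ℕ} (h : Nat.Coprime a b) : ∃ x y : ℤ, (a : ℤ) * x + (b : ℤ) * y = 1 := by
  refine ⟨Nat.gcdA a b, Nat.gcdB a b, ?_⟩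
  have := Nat.gcd_eq_gcd_ab a b
  rw [h] at this
  rw [← this]; simp

/-- An element killed by coprime numbers is zero. -/
theorem eq_zero_of_coprime {G : Type*} [AddCommGroup G] {a b : ℕ} (h : Nat.Coprime a b) {g : G}
    (ha : a • g = 0) (hb : b • g = 0) : g = 0 := by
  obtain ⟨x, y, hxy⟩ := bezout h
  have : g = ((a : ℤ) * x + (b : ℤ) * y) • g := by rw [hxy, one_smul]
  rw [this, add_smul, mul_comm (a : ℤ), mul_comm (b : ℤ), mul_smul, mul_smul, natCast_zsmul,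
    natCast_zsmul, ha, hb, smul_zero, smul_zero, add_zero]

/-- Splitting an element killed by `a * b`. -/
theorem split_elt {G : Type*} [AddCommGroup G] {a b : ℕ} (h : Nat.Coprime a b) {g : G}
    (hab : (a * b) • g = 0) :
    ∃ g1 g2 : G, g = g1 + g2 ∧ a • g1 = 0 ∧ b • g2 = 0 ∧
      (∃ z : ℤ, g1 = z • g) ∧ (∃ z : ℤ, g2 = z • g) := by
  obtain ⟨x, y, hxy⟩ := bezout h
  refine ⟨((b : ℤ) * y) • g, ((a : ℤ) * x) • g, ?_, ?_, ?_, ⟨_, rfl⟩, ⟨_, rfl⟩⟩
  · rw [← add_smul, add_comm, hxy, one_smul]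
  · rw [← natCast_zsmul, ← mul_smul, ← mul_assoc, ← Nat.cast_mul, mul_comm _ y, mul_smul,
      natCast_zsmul, hab, smul_zero]
  · rw [← natCast_zsmul, ← mul_smul, ← mul_assoc, ← Nat.cast_mul, mul_comm b a, mul_comm _ x,
      mul_smul, natCast_zsmul, hab, smul_zero]

/-- Baer's criterion from elementwise divisibility. -/
theorem baer_of_div {Q : Type*} [AddCommGroup Q]
    (h : ∀ (m : ℤ), m ≠ 0 → ∀ x : Q, ∃ y : Q, m • y = x) : Module.Baer ℤ Q := fun I g ↦ by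
  rcases IsPrincipalIdealRing.principal I with ⟨m, rfl⟩
  obtain rfl | h0 := eq_or_ne m 0
  · refine ⟨0, fun n hn ↦ ?_⟩
    rw [Submodule.span_zero_singleton] at hn
    subst hn
    exact (map_zero g).symm
  obtain ⟨d, hd⟩ := h m h0 (g ⟨m, Submodule.subset_span (Set.mem_singleton _)⟩)
  refine ⟨LinearMap.toSpanSingleton ℤ Q d, fun n hn ↦ ?_⟩
  rcases Submodule.mem_span_singleton.mp hn with ⟨n, rfl⟩
  rw [map_zsmul, LinearMap.toSpanSingleton_apply, hd, ← map_zsmul g, SetLike.mk_smul_mk]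

/-- divisibility by primes gives divisibility by nonzero integers -/
theorem div_of_prime {Q : Type*} [AddCommGroup Q]
    (h : ∀ (ℓ : ℕ), ℓ.Prime → ∀ x : Q, ∃ y : Q, ℓ • y = x) :
    ∀ (m : ℤ), m ≠ 0 → ∀ x : Q, ∃ y : Q, m • y = x := by
  have hnat : ∀ n : ℕ, 0 < n → ∀ x : Q, ∃ y : Q, n • y = x := by
    intro n
    induction n using induction_on_primes with
    | zero => intro h0; exact absurd h0 (lt_irrefl _)
    | one => intro _ x; exact ⟨x, one_smul _ _⟩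
    | prime_mul p a hp ih =>
      intro hpa x
      have ha : 0 < a := Nat.pos_of_ne_zero (by rintro rfl; simp at hpa)
      obtain ⟨y1, hy1⟩ := h p hp x
      obtain ⟨y2, hy2⟩ := ih ha y1
      exact ⟨y2, by rw [mul_smul, hy2, hy1]⟩
  intro m hm x
  obtain ⟨n, rfl | rfl⟩ := m.eq_nat_or_neg
  · have hn : 0 < n := Nat.pos_of_ne_zero (by rintro rfl; simp at hm)
    obtain ⟨y, hy⟩ := hnat n hn x
    exact ⟨y, by rw [natCast_zsmul, hy]⟩
  · have hn : 0 < n := Nat.pos_of_ne_zero (by rintro rfl; simp at hm)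
    obtain ⟨y, hy⟩ := hnat n hn x
    exact ⟨-y, by rw [neg_smul, smul_neg, neg_neg, natCast_zsmul, hy]⟩

section
variable {A T : Type*} [AddCommGroup A] [AddCommGroup T] (P : Set ℕ)
    (π : A →+ T)

/-- ker π is divisible by P-numbers -/
theorem ker_div (hD : ∀ ℓ ∈ P, ∀ x ∈ π.ker, ∃ y ∈ π.ker, ℓ • y = x) :
    ∀ n : ℕ, IsPnum P n → ∀ x ∈ π.ker, ∃ y ∈ π.ker, n • y = x := by
  intro n
  induction n using induction_on_primes with
  | zero => intro h0; exact absurd h0.1 (lt_irrefl _)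
  | one => intro _ x hx; exact ⟨x, hx, one_smul _ _⟩
  | prime_mul p a hp ih =>
    intro hpa x hx
    have ha : IsPnum P a := ⟨Nat.pos_of_ne_zero (by rintro rfl; simpa using hpa.1),
      fun q hq hd => hpa.2 q hq (Dvd.dvd.mul_left hd p)⟩
    obtain ⟨y1, hy1k, hy1⟩ := hD p (hpa.2 p hp (Dvd.intro a rfl)) x hx
    obtain ⟨y2, hy2k, hy2⟩ := ih ha y1 hy1k
    exact ⟨y2, hy2k, by rw [mul_smul, hy2, hy1]⟩

/-- the P-primary torsion subgroup -/
def AP : AddSubgroup A where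
  carrier := {x | ∃ n, IsPnum P n ∧ n • x = 0}
  zero_mem' := ⟨1, isPnum_one, by simp⟩
  add_mem' := by
    rintro x y ⟨n, hn, hx⟩ ⟨m, hm, hy⟩
    refine ⟨n * m, hn.mul hm, ?_⟩
    rw [smul_add, mul_comm, mul_smul, hx, mul_comm, mul_smul, hy, smul_zero, smul_zero, add_zero]
  neg_mem' := by
    rintro x ⟨n, hn, hx⟩
    exact ⟨n, hn, by rw [smul_neg, hx, neg_zero]⟩

theorem mem_AP {x : A} : x ∈ AP (A := A) P ↔ ∃ n, IsPnum P n ∧ n • x = 0 := Iff.rfl

/-- the P-primary torsion of the kernel, as a subgroup of AP -/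
def KP : AddSubgroup (AP (A := A) P) := (π.ker).comap (AP P).subtype

theorem mem_KP {x : AP (A := A) P} : x ∈ KP P π ↔ π (x : A) = 0 := by
  unfold KP
  rw [AddSubgroup.mem_comap, AddMonoidHom.mem_ker]
  rfl

theorem KP_div (hP : ∀ p ∈ P, p.Prime)
    (hD : ∀ ℓ ∈ P, ∀ x ∈ π.ker, ∃ y ∈ π.ker, ℓ • y = x) :
    ∀ (m : ℤ), m ≠ 0 → ∀ x : KP P π, ∃ y : KP P π, m • y = x := by
  refine div_of_prime fun ℓ hℓ x => ?_
  obtain ⟨⟨x, n, hn, hnx⟩, hxk⟩ := x
  rw [mem_KP] at hxk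
  by_cases hℓP : ℓ ∈ P
  · obtain ⟨y, hyk, hy⟩ := hD ℓ hℓP x hxk
    have hyA : y ∈ AP (A := A) P := by
      refine ⟨n * ℓ, hn.mul ⟨hℓ.pos, fun q hq hd => ?_⟩, ?_⟩
      · rwa [(Nat.prime_dvd_prime_iff_eq hq hℓ).mp hd]
      · rw [mul_smul, hy, hnx]
    refine ⟨⟨⟨y, hyA⟩, (mem_KP P π).mpr hyk⟩, ?_⟩
    apply Subtype.ext; apply Subtype.ext
    simpa using hy
  · have hcop : Nat.Coprime ℓ n :=
      (Nat.Prime.coprime_iff_not_dvd hℓ).mpr fun hd => hℓP (hn.2 ℓ hℓ hd)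
    obtain ⟨a, b, hab⟩ := bezout hcop
    have hx : x = ℓ • (a • x) := by
      have : x = ((ℓ : ℤ) * a + (n : ℤ) * b) • x := by rw [hab, one_smul]
      rw [add_smul, mul_smul, mul_comm (n : ℤ), mul_smul, natCast_zsmul, natCast_zsmul, hnx,
        smul_zero, add_zero] at this
      exact this
    have hyA : a • x ∈ AP (A := A) P := (AP P).zsmul_mem ⟨n, hn, hnx⟩ a
    refine ⟨⟨⟨a • x, hyA⟩, (mem_KP P π).mpr (by rw [map_zsmul, hxk, smul_zero])⟩, ?_⟩
    apply Subtype.ext; apply Subtype.ext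
    simpa using hx.symm

end

theorem main
    {A T : Type*} [AddCommGroup A] [AddCommGroup T] (P : Set ℕ) (hP : ∀ p ∈ P, p.Prime)
    (π : A →+ T) (hπ : Function.Surjective π) (hT : ∀ t : T, ∃ n : ℕ, 0 < n ∧ n • t = 0)
    (hD : ∀ ℓ ∈ P, ∀ x ∈ π.ker, ∃ y ∈ π.ker, ℓ • y = x)
    (TP T' : AddSubgroup T)
    (hTP : ∀ t, t ∈ TP ↔ ∃ n : ℕ, 0 < n ∧ (∀ p : ℕ, p.Prime → p ∣ n → p ∈ P) ∧ n • t = 0)
    (hT' : ∀ t, t ∈ T' ↔ ∃ n : ℕ, 0 < n ∧ (∀ p : ℕ, p.Prime → p ∣ n → p ∉ P) ∧ n • t = 0) :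
    (∀ ℓ ∈ P, ∀ x ∈ T'.comap π, ∃ y ∈ T'.comap π, ℓ • y = x) ∧
    ∃ s : TP →+ A, (∀ t : TP, π (s t) = (t : T)) ∧
      Function.Bijective (fun q : (T'.comap π) × TP => (q.1 : A) + s q.2) := by
  classical
  have hTP' : ∀ t, t ∈ TP ↔ ∃ n, IsPnum P n ∧ n • t = 0 := by
    intro t; rw [hTP]
    constructor
    · rintro ⟨n, h1, h2, h3⟩; exact ⟨n, ⟨h1, h2⟩, h3⟩
    · rintro ⟨n, ⟨h1, h2⟩, h3⟩; exact ⟨n, h1, h2, h3⟩
  have hT'' : ∀ t, t ∈ T' ↔ ∃ n, IsQnum P n ∧ n • t = 0 := by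
    intro t; rw [hT']
    constructor
    · rintro ⟨n, h1, h2, h3⟩; exact ⟨n, ⟨h1, h2⟩, h3⟩
    · rintro ⟨n, ⟨h1, h2⟩, h3⟩; exact ⟨n, h1, h2, h3⟩
  have hker_le : ∀ x ∈ π.ker, x ∈ T'.comap π := by
    intro x hx
    rw [AddSubgroup.mem_comap, AddMonoidHom.mem_ker.mp hx]
    exact T'.zero_mem
  refine ⟨?_, ?_⟩
  · -- part 1
    intro ℓ hℓ x hx
    rw [AddSubgroup.mem_comap, hT''] at hx
    obtain ⟨n, hn, hnx⟩ := hx
    have hℓp : ℓ.Prime := hP ℓ hℓ
    have hcop : Nat.Coprime ℓ n :=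
      (Nat.Prime.coprime_iff_not_dvd hℓp).mpr fun hd => hn.2 ℓ hℓp hd hℓ
    obtain ⟨a, b, hab⟩ := bezout hcop
    have hnxk : n • x ∈ π.ker := by
      rw [AddMonoidHom.mem_ker, map_nsmul, hnx]
    obtain ⟨y', hy'k, hy'⟩ := hD ℓ hℓ (n • x) hnxk
    refine ⟨a • x + b • y', ?_, ?_⟩
    · refine (T'.comap π).add_mem ((T'.comap π).zsmul_mem ?_ a)
        ((T'.comap π).zsmul_mem (hker_le y' hy'k) b)
      rw [AddSubgroup.mem_comap, hT'']
      exact ⟨n, hn, hnx⟩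
    · have : x = ((ℓ : ℤ) * a + (n : ℤ) * b) • x := by rw [hab, one_smul]
      rw [add_smul, mul_smul, mul_comm (n : ℤ), mul_smul, natCast_zsmul, natCast_zsmul, ← hy'] at this
      rw [smul_add, this]
      congr 1
      · rw [← this]
      · rw [← natCast_zsmul (b • y') ℓ, smul_comm, natCast_zsmul]
  · -- part 2
    have hbaer : Module.Baer ℤ (KP P π) := baer_of_div (KP_div P π hP hD)
    obtain ⟨h, hh⟩ := hbaer.extension_property_addMonoidHom (KP P π).subtype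
      (KP P π).subtype_injective (AddMonoidHom.id _)
    have hh' : ∀ x : KP P π, h (x : AP (A := A) P) = x := fun x => DFunLike.congr_fun hh x
    -- σ : AP → A
    let σ : AP (A := A) P →+ A :=
      (AP P).subtype - ((AP P).subtype.comp ((KP P π).subtype.comp h))
    have hσ : ∀ a : AP (A := A) P, σ a = (a : A) - ((h a : AP (A := A) P) : A) := fun a => rfl
    have hσπ : ∀ a : AP (A := A) P, π (σ a) = π (a : A) := by
      intro a
      rw [hσ, map_sub, (mem_KP P π).mp (h a).2, sub_zero]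
    have hσK : ∀ a : AP (A := A) P, π (a : A) = 0 → σ a = 0 := by
      intro a ha
      have : a ∈ KP P π := (mem_KP P π).mpr ha
      have h2 := hh' ⟨a, this⟩
      rw [hσ]
      have h3 : ((h a : AP (A := A) P) : A) = (a : A) := by
        have := congrArg (fun z : KP P π => ((z : AP (A := A) P) : A)) h2
        simpa using this
      rw [h3, sub_self]
    -- lifts
    have hlift : ∀ t : TP, ∃ a : AP (A := A) P, π (a : A) = (t : T) := by
      intro t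
      obtain ⟨n, hn, hnt⟩ := (hTP' t).mp t.2
      obtain ⟨a0, ha0⟩ := hπ t
      have hk : n • a0 ∈ π.ker := by
        rw [AddMonoidHom.mem_ker, map_nsmul, ha0, hnt]
      obtain ⟨k, hkk, hk2⟩ := ker_div P π hD n hn _ hk
      refine ⟨⟨a0 - k, n, hn, ?_⟩, ?_⟩
      · rw [smul_sub, hk2, sub_self]
      · change π (a0 - k) = _
        rw [map_sub, AddMonoidHom.mem_ker.mp hkk, sub_zero, ha0]
    choose lift hlift' using hlift
    let s : TP →+ A := AddMonoidHom.mk' (fun t => σ (lift t)) (by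
      intro t1 t2
      have : π ((lift (t1 + t2) - lift t1 - lift t2 : AP (A := A) P) : A) = 0 := by
        push_cast
        rw [map_sub, map_sub, hlift', hlift', hlift']
        push_cast
        abel
      have h2 := hσK _ this
      rw [map_sub, map_sub] at h2
      rw [← sub_eq_zero]
      rw [← h2]; abel)
    have hs : ∀ t : TP, π (s t) = (t : T) := by
      intro t
      change π (σ (lift t)) = _
      rw [hσπ, hlift']
    refine ⟨s, hs, ?_, ?_⟩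
    · -- injective
      rintro ⟨d1, t1⟩ ⟨d2, t2⟩ heq
      simp only at heq
      have h1 := congrArg π heq
      rw [map_add, map_add, hs, hs] at h1
      have h2 : (t1 : T) - t2 = π (d2 : A) - π (d1 : A) := by
        rw [sub_eq_sub_iff_add_eq_add, add_comm, h1, add_comm]
      have h3 : (t1 : T) - t2 ∈ TP := TP.sub_mem t1.2 t2.2
      have h4 : (t1 : T) - t2 ∈ T' := by
        rw [h2]; exact T'.sub_mem d2.2 d1.2
      obtain ⟨n, hn, hn0⟩ := (hTP' _).mp h3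
      obtain ⟨m, hm, hm0⟩ := (hT'' _).mp h4
      have h5 := eq_zero_of_coprime (coprime_of hn hm) hn0 hm0
      have h6 : t1 = t2 := Subtype.ext (sub_eq_zero.mp h5)
      subst h6
      have h7 : (d1 : A) = d2 := add_right_cancel heq
      rw [Subtype.ext h7]
    · -- surjective
      intro a
      obtain ⟨n, hn, hna⟩ := hT (π a)
      obtain ⟨n1, n2, rfl, h1, h2⟩ := exists_split (P := P) n hn
      obtain ⟨g1, g2, hg, hg1, hg2, -, -⟩ := split_elt (coprime_of h1 h2) hna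
      have hg1P : g1 ∈ TP := (hTP' _).mpr ⟨n1, h1, hg1⟩
      have hg2Q : g2 ∈ T' := (hT'' _).mpr ⟨n2, h2, hg2⟩
      have hd : a - s ⟨g1, hg1P⟩ ∈ T'.comap π := by
        rw [AddSubgroup.mem_comap, map_sub, hs, hg]
        simpa using hg2Q
      refine ⟨(⟨a - s ⟨g1, hg1P⟩, hd⟩, ⟨g1, hg1P⟩), ?_⟩
      simp

end Groth.Agent.Lib.helper10.KatoSplit
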