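import Mathlib
import Groth.Agent.Lib.Helper8.AzumayaLocal
import Groth.Agent.Lib.Helper8.Azumaya

/-!
# Kronecker powers of matrices and the rank-one antisymmetrizer

`kron m` is the Kronecker product of `n` matrices of size `n`; `Pm` is the rank one matrix
`ε ε^T`, `ε` the signature; `kron u * Pm = det u • Pm = Pm * kron u`.
-/

set_option autoImplicit false
set_option linter.style.haveILetI false
set_option linter.unusedSectionVars false

namespace Groth.Agent.Lib.Helper10.KronPow

open Matrix

/-- the index type of the `n`-fold Kronecker power -/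
abbrev Idx (n : ℕ) := Fin n → Fin n

section Kron

variable {S : Type*} [CommRing S] {n : ℕ}

/-- Kronecker product of `n` matrices -/
def kron (m : Fin n → Matrix (Fin n) (Fin n) S) : Matrix (Idx n) (Idx n) S :=
  Matrix.of fun J I => ∏ i, m i (J i) (I i)

theorem kron_apply (m : Fin n → Matrix (Fin n) (Fin n) S) (J I : Idx n) :
    kron m J I = ∏ i, m i (J i) (I i) := rfl

theorem kron_mul (m m' : Fin n → Matrix (Fin n) (Fin n) S) :
    kron m * kron m' = kron (fun i => m i * m' i) := by
  ext J I
  rw [Matrix.mul_apply]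
  simp only [kron_apply, Matrix.mul_apply]
  rw [Finset.prod_univ_sum, Fintype.piFinset_univ]
  refine Finset.sum_congr rfl fun K _ => ?_
  rw [Finset.prod_mul_distrib]

theorem kron_one : kron (fun _ : Fin n => (1 : Matrix (Fin n) (Fin n) S)) = 1 := by
  ext J I
  rw [kron_apply]
  simp only [Matrix.one_apply]
  rw [Finset.prod_ite_zero]
  by_cases h : J = I
  · subst h
    simp
  · rw [if_neg h, if_neg]
    intro h'
    exact h (funext fun i => h' i (Finset.mem_univ i))

/-- `kron` as a multilinear map -/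
noncomputable def kronML : MultilinearMap S (fun _ : Fin n => Matrix (Fin n) (Fin n) S)
    (Matrix (Idx n) (Idx n) S) :=
  (Matrix.ofLinearEquiv S).toLinearMap.compMultilinearMap
    (MultilinearMap.pi fun J : Idx n => MultilinearMap.pi fun I : Idx n =>
      (MultilinearMap.mkPiAlgebra S (Fin n) S).compLinearMap
        fun i => Matrix.entryLinearMap S S (J i) (I i))

theorem kronML_apply (m : Fin n → Matrix (Fin n) (Fin n) S) : kronML m = kron m := by
  ext J I
  simp [kronML, kron_apply]

theorem kron_map {S' : Type*} [CommRing S'] (f : S →+* S') (m : Fin n → Matrix (Fin n) (Fin n) S) :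
    (kron m).map f = kron (fun i => (m i).map f) := by
  ext J I
  simp [kron_apply, map_prod]

open Classical in
/-- signature of an index tuple (zero if not a permutation) -/
noncomputable def eps (I : Idx n) : ℤ :=
  if h : Function.Bijective I then ((Equiv.Perm.sign (Equiv.ofBijective I h) : ℤˣ) : ℤ) else 0

theorem eps_perm (σ : Equiv.Perm (Fin n)) : eps (⇑σ : Idx n) = ((Equiv.Perm.sign σ : ℤˣ) : ℤ) := by
  rw [eps, dif_pos σ.bijective]
  congr 2
  ext i
  rfl

theorem eps_of_not_bijective {I : Idx n} (h : ¬ Function.Bijective I) : eps I = 0 := by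
  rw [eps, dif_neg h]

theorem sum_perm_eq (g : Idx n → S) (hg : ∀ K, ¬ Function.Bijective K → g K = 0) :
    ∑ K, g K = ∑ σ : Equiv.Perm (Fin n), g ⇑σ := by
  symm
  refine Finset.sum_of_injOn (fun σ : Equiv.Perm (Fin n) => (⇑σ : Idx n)) ?_ ?_ ?_ ?_
  · intro σ _ τ _ h
    exact Equiv.ext (congrFun h)
  · intro σ _
    exact Finset.mem_coe.mpr (Finset.mem_univ _)
  · intro K _ hK
    apply hg
    intro hb
    exact hK ⟨Equiv.ofBijective K hb, Finset.mem_coe.mpr (Finset.mem_univ _), rfl⟩
  · intro σ _
    rfl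

theorem det_submatrix_left (u : Matrix (Fin n) (Fin n) S) (J : Idx n) :
    (u.submatrix J id).det = ((eps J : ℤ) : S) * u.det := by
  by_cases hJ : Function.Bijective J
  · have h1 : J = ⇑(Equiv.ofBijective J hJ) := rfl
    rw [h1, eps_perm, Matrix.det_permute]
  · rw [eps_of_not_bijective hJ, Int.cast_zero, zero_mul]
    have hinj : ¬ Function.Injective J := fun h => hJ (Finite.injective_iff_bijective.mp h)
    rw [Function.Injective] at hinj
    push Not at hinj
    obtain ⟨i, j, hij, hne⟩ := hinj
    exact Matrix.det_zero_of_row_eq hne (by ext k; simp [hij])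

theorem det_submatrix_right (u : Matrix (Fin n) (Fin n) S) (I : Idx n) :
    (u.submatrix id I).det = ((eps I : ℤ) : S) * u.det := by
  by_cases hI : Function.Bijective I
  · have h1 : I = ⇑(Equiv.ofBijective I hI) := rfl
    rw [h1, eps_perm, Matrix.det_permute']
  · rw [eps_of_not_bijective hI, Int.cast_zero, zero_mul]
    have hinj : ¬ Function.Injective I := fun h => hI (Finite.injective_iff_bijective.mp h)
    rw [Function.Injective] at hinj
    push Not at hinj
    obtain ⟨i, j, hij, hne⟩ := hinj
    exact Matrix.det_zero_of_column_eq hne (by intro k; simp [hij])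

theorem sum_eps_left (u : Matrix (Fin n) (Fin n) S) (J : Idx n) :
    ∑ K : Idx n, (∏ i, u (J i) (K i)) * ((eps K : ℤ) : S) = ((eps J : ℤ) : S) * u.det := by
  rw [sum_perm_eq _ (fun K hK => by rw [eps_of_not_bijective hK, Int.cast_zero, mul_zero]),
    ← det_submatrix_left, ← Matrix.det_transpose, Matrix.det_apply']
  refine Finset.sum_congr rfl fun σ _ => ?_
  rw [eps_perm, mul_comm]
  simp [Matrix.transpose_apply, Matrix.submatrix_apply]

theorem sum_eps_right (u : Matrix (Fin n) (Fin n) S) (I : Idx n) :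
    ∑ K : Idx n, ((eps K : ℤ) : S) * (∏ i, u (K i) (I i)) = ((eps I : ℤ) : S) * u.det := by
  rw [sum_perm_eq _ (fun K hK => by rw [eps_of_not_bijective hK, Int.cast_zero, zero_mul]),
    ← det_submatrix_right, Matrix.det_apply']
  refine Finset.sum_congr rfl fun σ _ => ?_
  rw [eps_perm]
  simp [Matrix.submatrix_apply]

variable (S n) in
/-- the rank one matrix `ε ε^T` -/
noncomputable def Pm : Matrix (Idx n) (Idx n) S :=
  Matrix.of fun J I => (((eps J * eps I : ℤ)) : S)

theorem Pm_apply (J I : Idx n) : Pm S n J I = ((eps J : ℤ) : S) * ((eps I : ℤ) : S) := by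
  rw [Pm, Matrix.of_apply, Int.cast_mul]

theorem Pm_map {S' : Type*} [CommRing S'] (f : S →+* S') : (Pm S n).map f = Pm S' n := by
  ext J I
  simp [Pm]

theorem kron_mul_Pm (u : Matrix (Fin n) (Fin n) S) :
    kron (fun _ => u) * Pm S n = u.det • Pm S n := by
  ext J I
  rw [Matrix.mul_apply, Matrix.smul_apply, Pm_apply, smul_eq_mul]
  simp only [kron_apply, Pm_apply]
  rw [← mul_assoc, mul_comm u.det, ← sum_eps_left u J, Finset.sum_mul]
  refine Finset.sum_congr rfl fun K _ => ?_
  ring

theorem Pm_mul_kron (u : Matrix (Fin n) (Fin n) S) :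
    Pm S n * kron (fun _ => u) = u.det • Pm S n := by
  ext J I
  rw [Matrix.mul_apply, Matrix.smul_apply, Pm_apply, smul_eq_mul]
  simp only [kron_apply, Pm_apply]
  rw [mul_comm u.det, mul_assoc, ← sum_eps_right u I, Finset.mul_sum]
  refine Finset.sum_congr rfl fun K _ => ?_
  ring

theorem kron_conj_Pm (u v : Matrix (Fin n) (Fin n) S) (huv : u * v = 1) :
    kron (fun _ => u) * Pm S n * kron (fun _ => v) = Pm S n := by
  rw [kron_mul_Pm, Matrix.smul_mul, Pm_mul_kron, smul_smul, ← Matrix.det_mul, huv, Matrix.det_one,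
    one_smul]


theorem kron_single (J I : Idx n) :
    kron (fun i => Matrix.single (J i) (I i) (1 : S)) = Matrix.single J I 1 := by
  ext J' I'
  rw [kron_apply]
  simp only [Matrix.single_apply]
  rw [Fintype.prod_ite_zero]
  by_cases h : J = J' ∧ I = I'
  · obtain ⟨rfl, rfl⟩ := h
    simp
  · rw [if_neg h, if_neg]
    intro h'
    exact h ⟨funext fun i => (h' i).1, funext fun i => (h' i).2⟩

/-- `PP θ` : the image of `Pm` under "the Kronecker power of `θ`" -/
noncomputable def PP (θ : Matrix (Fin n) (Fin n) S → Matrix (Fin n) (Fin n) S) :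
    Matrix (Idx n) (Idx n) S :=
  ∑ J : Idx n, ∑ I : Idx n,
    (eps J * eps I) • kron (fun i => θ (Matrix.single (J i) (I i) 1))

theorem Pm_eq_sum : Pm S n = ∑ J : Idx n, ∑ I : Idx n,
    (eps J * eps I) • kron (fun i => Matrix.single (J i) (I i) (1 : S)) := by
  conv_lhs => rw [Matrix.matrix_eq_sum_single (Pm S n)]
  refine Finset.sum_congr rfl fun J _ => Finset.sum_congr rfl fun I _ => ?_
  rw [kron_single]
  ext J' I'
  rw [Matrix.smul_apply, Matrix.single_apply, Matrix.single_apply, Pm, Matrix.of_apply]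
  split_ifs <;> simp

theorem PP_id : PP (fun m : Matrix (Fin n) (Fin n) S => m) = Pm S n := Pm_eq_sum.symm

theorem PP_conj (θ : Matrix (Fin n) (Fin n) S → Matrix (Fin n) (Fin n) S)
    (u v : Matrix (Fin n) (Fin n) S) (huv : u * v = 1) (hθ : ∀ m, θ m = u * m * v) :
    PP θ = Pm S n := by
  rw [← kron_conj_Pm u v huv, Pm_eq_sum, PP, Finset.mul_sum, Finset.sum_mul]
  refine Finset.sum_congr rfl fun J _ => ?_
  rw [Finset.mul_sum, Finset.sum_mul]
  refine Finset.sum_congr rfl fun I _ => ?_
  rw [mul_smul_comm, smul_mul_assoc, kron_mul, kron_mul]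
  congr 2
  funext i
  exact hθ _

theorem kron_split (m : Fin n → Matrix (Fin n) (Fin n) S) (i : Fin n) :
    kron m = kron (Function.update (fun _ => 1) i (m i)) * kron (Function.update m i 1) := by
  rw [kron_mul]
  congr 1
  funext k
  by_cases h : k = i
  · subst h
    simp
  · simp [h]

/-- an algebra map of the big matrix algebra which is compatible with `θ` on each tensor factor
is the Kronecker power of `θ` -/
theorem algHom_kron
    (Θ : Matrix (Idx n) (Idx n) S →ₐ[S] Matrix (Idx n) (Idx n) S)
    (θ : Matrix (Fin n) (Fin n) S →ₐ[S] Matrix (Fin n) (Fin n) S)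
    (h : ∀ (i : Fin n) (m : Matrix (Fin n) (Fin n) S),
      Θ (kron (Function.update (fun _ => 1) i m)) = kron (Function.update (fun _ => 1) i (θ m)))
    (m : Fin n → Matrix (Fin n) (Fin n) S) : Θ (kron m) = kron (fun i => θ (m i)) := by
  classical
  have key : ∀ (s : Finset (Fin n)) (m : Fin n → Matrix (Fin n) (Fin n) S),
      (∀ k, k ∉ s → m k = 1) → Θ (kron m) = kron (fun i => θ (m i)) := by
    intro s
    induction s using Finset.induction_on with
    | empty =>
      intro m hm
      have h1 : m = fun _ => 1 := funext fun k => hm k (Finset.notMem_empty k)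
      rw [h1, kron_one, map_one]
      simp only [map_one]
      rw [kron_one]
    | insert i s hi ih =>
      intro m hm
      rw [kron_split m i, map_mul, h, ih (Function.update m i 1), kron_split (fun k => θ (m k)) i]
      · congr 2
        funext k
        by_cases hk : k = i
        · subst hk
          simp
        · simp [hk]
      · intro k hk
        by_cases hki : k = i
        · subst hki
          simp
        · rw [Function.update_of_ne hki]
          exact hm k (fun hmem => (Finset.mem_insert.mp hmem).elim hki hk)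
  exact key Finset.univ m (fun k hk => absurd (Finset.mem_univ k) hk)

theorem algHom_Pm
    (Θ : Matrix (Idx n) (Idx n) S →ₐ[S] Matrix (Idx n) (Idx n) S)
    (θ : Matrix (Fin n) (Fin n) S →ₐ[S] Matrix (Fin n) (Fin n) S)
    (h : ∀ (i : Fin n) (m : Matrix (Fin n) (Fin n) S),
      Θ (kron (Function.update (fun _ => 1) i m)) = kron (Function.update (fun _ => 1) i (θ m))) :
    Θ (Pm S n) = PP θ := by
  rw [Pm_eq_sum, PP, map_sum]
  refine Finset.sum_congr rfl fun J _ => ?_
  rw [map_sum]
  refine Finset.sum_congr rfl fun I _ => ?_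
  rw [map_zsmul, algHom_kron Θ θ h]


theorem PP_map {S' : Type*} [CommRing S'] (f : S →+* S')
    (θ : Matrix (Fin n) (Fin n) S → Matrix (Fin n) (Fin n) S) :
    (PP θ).map f = ∑ J : Idx n, ∑ I : Idx n,
      (eps J * eps I) • kron (fun i => (θ (Matrix.single (J i) (I i) 1)).map f) := by
  rw [← RingHom.mapMatrix_apply, PP, map_sum]
  refine Finset.sum_congr rfl fun J _ => ?_
  rw [map_sum]
  refine Finset.sum_congr rfl fun I _ => ?_
  rw [map_zsmul, RingHom.mapMatrix_apply, kron_map]

open TensorProduct Groth.Agent.Lib.helper8.Az in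
/-- algebra automorphisms of the matrix algebra are inner after localizing at a prime -/
theorem exists_conj_local (hn : 0 < n)
    (θ : Matrix (Fin n) (Fin n) S ≃ₐ[S] Matrix (Fin n) (Fin n) S) (q : PrimeSpectrum S) :
    ∃ u w : Matrix (Fin n) (Fin n) (Localization.AtPrime q.asIdeal), u * w = 1 ∧
      ∀ M : Matrix (Fin n) (Fin n) S,
        (θ M).map (algebraMap S (Localization.AtPrime q.asIdeal)) =
          u * M.map (algebraMap S (Localization.AtPrime q.asIdeal)) * w := by
  classical
  haveI : Nonempty (Fin n) := ⟨⟨0, hn⟩⟩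
  let Sq := Localization.AtPrime q.asIdeal
  let ι := algebraMap S Sq
  let Mn := Matrix (Fin n) (Fin n) S
  let B := Sq ⊗[S] Mn
  haveI : IsAzumaya S Mn := IsAzumaya.matrix S (Fin n)
  haveI : IsAzumaya Sq B := isAzumaya_baseChange S Sq Mn
  let θ' : B ≃ₐ[Sq] B := Algebra.TensorProduct.congr AlgEquiv.refl θ
  have hθ' : ∀ x : Mn, θ' ((1 : Sq) ⊗ₜ[S] x) = (1 : Sq) ⊗ₜ[S] θ x := fun x => by
    rw [Algebra.TensorProduct.congr_apply, Algebra.TensorProduct.map_tmul]
    rfl
  obtain ⟨v, hv⟩ := exists_inner_of_isLocalRing Sq B θ'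
  let e' : B →ₐ[Sq] Matrix (Fin n) (Fin n) Sq :=
    Algebra.TensorProduct.lift (Algebra.ofId Sq (Matrix (Fin n) (Fin n) Sq))
      ((Algebra.ofId S Sq).mapMatrix : Mn →ₐ[S] Matrix (Fin n) (Fin n) Sq)
      (fun c x => Algebra.commutes c _)
  have he' : ∀ x : Mn, e' ((1 : Sq) ⊗ₜ[S] x) = x.map ι := fun x => by
    rw [Algebra.TensorProduct.lift_tmul, map_one, one_mul]
    rfl
  refine ⟨e' (v : B), e' ((v⁻¹ : Bˣ) : B), ?_, fun M => ?_⟩
  · rw [← map_mul, Units.mul_inv, map_one]
  · rw [← he', ← he', ← hθ', hv, map_mul, map_mul]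

theorem PP_algEquiv_local
    (θ : Matrix (Fin n) (Fin n) S ≃ₐ[S] Matrix (Fin n) (Fin n) S) (q : PrimeSpectrum S) :
    (PP θ).map (algebraMap S (Localization.AtPrime q.asIdeal)) =
      Pm (Localization.AtPrime q.asIdeal) n := by
  classical
  rcases Nat.eq_zero_or_pos n with hn | hn
  · subst hn
    have h1 : PP (θ : Matrix (Fin 0) (Fin 0) S → Matrix (Fin 0) (Fin 0) S) =
        PP (fun m : Matrix (Fin 0) (Fin 0) S => m) := by
      rw [PP, PP]
      refine Finset.sum_congr rfl fun J _ => Finset.sum_congr rfl fun I _ => ?_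
      congr 2
      funext i
      exact i.elim0
    rw [h1, PP_id, Pm_map]
  obtain ⟨u, w, huw, hθ⟩ := exists_conj_local hn θ q
  rw [PP_map, ← PP_conj (fun m => u * m * w) u w huw (fun _ => rfl), PP]
  refine Finset.sum_congr rfl fun J _ => Finset.sum_congr rfl fun I _ => ?_
  congr 2
  funext i
  rw [hθ, Matrix.map_single, map_one]

/-- the rank one antisymmetrizer is invariant under Kronecker powers of algebra automorphisms -/
theorem PP_algEquiv (θ : Matrix (Fin n) (Fin n) S ≃ₐ[S] Matrix (Fin n) (Fin n) S) :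
    PP θ = Pm S n := by
  ext J I
  apply PrimeSpectrum.toPiLocalization_injective S
  funext q
  have := congrFun (congrFun (PP_algEquiv_local θ q) J) I
  rw [Matrix.map_apply] at this
  show algebraMap S (Localization.AtPrime q.asIdeal) (PP (⇑θ) J I) =
    algebraMap S (Localization.AtPrime q.asIdeal) (Pm S n J I)
  rw [this]
  simp [Pm]

theorem algHom_Pm_of_algEquiv
    (Θ : Matrix (Idx n) (Idx n) S →ₐ[S] Matrix (Idx n) (Idx n) S)
    (θ : Matrix (Fin n) (Fin n) S ≃ₐ[S] Matrix (Fin n) (Fin n) S)
    (h : ∀ (i : Fin n) (m : Matrix (Fin n) (Fin n) S),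
      Θ (kron (Function.update (fun _ => 1) i m)) = kron (Function.update (fun _ => 1) i (θ m))) :
    Θ (Pm S n) = Pm S n := by
  rw [algHom_Pm Θ θ.toAlgHom h]
  exact PP_algEquiv θ

end Kron

end Groth.Agent.Lib.Helper10.KronPow
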