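import Mathlib
import Groth.Agent.Lib.Helper8.Azumaya

/-!
# Tensor powers of Azumaya algebras are Azumaya (helper10)

`splitEquiv R A d : (⨂[R] _ : Fin (d + 1), A) ≃ₐ[R] A ⊗[R] (⨂[R] _ : Fin d, A)`,
`zeroEquiv R A : R ≃ₐ[R] (⨂[R] _ : Fin 0, A)`, `isAzumaya_tpow`, `rankAtStalk_tpow`.
-/

set_option autoImplicit false
set_option linter.style.haveILetI false
set_option linter.unusedSectionVars false
open scoped TensorProduct

namespace Groth.Agent.Lib.Helper10.TPowAz

open Groth.Agent.Lib.helper8.Az

section

variable (R : Type*) [CommRing R] (A : Type*) [Ring A] [Algebra R A]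

/-- split off the first factor of a tensor power -/
noncomputable def splitHom (d : ℕ) :
    (⨂[R] _ : Fin (d + 1), A) →ₐ[R] A ⊗[R] (⨂[R] _ : Fin d, A) :=
  PiTensorProduct.liftAlgHom
    (LinearMap.uncurryLeft (M := fun _ : Fin (d + 1) => A)
      { toFun := fun r => (TensorProduct.mk R A (⨂[R] _ : Fin d, A) r).compMultilinearMap
          (PiTensorProduct.tprod R)
        map_add' := fun r r' => by
          ext s
          simp only [LinearMap.compMultilinearMap_apply, TensorProduct.mk_apply,
            MultilinearMap.add_apply, TensorProduct.add_tmul]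
        map_smul' := fun c r => by
          ext s
          simp only [LinearMap.compMultilinearMap_apply, TensorProduct.mk_apply,
            MultilinearMap.smul_apply, RingHom.id_apply, TensorProduct.smul_tmul'] })
    (by
      rw [LinearMap.uncurryLeft_apply]
      rfl)
    (by
      intro x y
      rw [LinearMap.uncurryLeft_apply, LinearMap.uncurryLeft_apply, LinearMap.uncurryLeft_apply]
      show (x 0 * y 0) ⊗ₜ[R] PiTensorProduct.tprod R (Fin.tail (x * y)) =
        (x 0 ⊗ₜ[R] PiTensorProduct.tprod R (Fin.tail x)) *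
          (y 0 ⊗ₜ[R] PiTensorProduct.tprod R (Fin.tail y))
      rw [Algebra.TensorProduct.tmul_mul_tmul, PiTensorProduct.tprod_mul_tprod]
      rfl)

theorem splitHom_tprod (d : ℕ) (r : Fin (d + 1) → A) :
    splitHom R A d (PiTensorProduct.tprod R r) =
      r 0 ⊗ₜ[R] PiTensorProduct.tprod R (Fin.tail r) := by
  unfold splitHom
  rw [PiTensorProduct.liftAlgHom_apply, PiTensorProduct.lift.tprod, LinearMap.uncurryLeft_apply]
  rfl

/-- the inverse map -/
noncomputable def joinLin (d : ℕ) :
    A ⊗[R] (⨂[R] _ : Fin d, A) →ₗ[R] (⨂[R] _ : Fin (d + 1), A) :=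
  TensorProduct.lift
    ((PiTensorProduct.lift (R := R) (s := fun _ : Fin d => A)
        (E := ⨂[R] _ : Fin (d + 1), A)).toLinearMap ∘ₗ
      (MultilinearMap.curryLeft
        (PiTensorProduct.tprod R : MultilinearMap R (fun _ : Fin (d + 1) => A) _)))

theorem joinLin_tmul (d : ℕ) (r : A) (s : Fin d → A) :
    joinLin R A d (r ⊗ₜ[R] PiTensorProduct.tprod R s) =
      PiTensorProduct.tprod R (Fin.cons r s : Fin (d + 1) → A) := by
  unfold joinLin
  rw [TensorProduct.lift.tmul, LinearMap.comp_apply]
  show PiTensorProduct.lift _ (PiTensorProduct.tprod R s) = _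
  rw [PiTensorProduct.lift.tprod, MultilinearMap.curryLeft_apply]

theorem join_split (d : ℕ) (z : ⨂[R] _ : Fin (d + 1), A) :
    joinLin R A d (splitHom R A d z) = z := by
  induction z using PiTensorProduct.induction_on with
  | smul_tprod c r =>
    rw [map_smul, map_smul, splitHom_tprod, joinLin_tmul, Fin.cons_self_tail]
  | add x y hx hy => rw [map_add, map_add, hx, hy]

theorem split_join (d : ℕ) (z : A ⊗[R] (⨂[R] _ : Fin d, A)) :
    splitHom R A d (joinLin R A d z) = z := by
  induction z using TensorProduct.induction_on with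
  | zero => rw [map_zero, map_zero]
  | add x y hx hy => rw [map_add, map_add, hx, hy]
  | tmul a t =>
    induction t using PiTensorProduct.induction_on with
    | smul_tprod c s =>
      rw [TensorProduct.tmul_smul, map_smul, map_smul, joinLin_tmul, splitHom_tprod]
      rfl
    | add x y hx hy => rw [TensorProduct.tmul_add, map_add, map_add, hx, hy]

/-- `A^{⊗(d+1)} ≃ A ⊗ A^{⊗d}` as algebras -/
noncomputable def splitEquiv (d : ℕ) :
    (⨂[R] _ : Fin (d + 1), A) ≃ₐ[R] A ⊗[R] (⨂[R] _ : Fin d, A) :=
  AlgEquiv.ofBijective (splitHom R A d)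
    ⟨Function.LeftInverse.injective (join_split R A d),
      Function.RightInverse.surjective (split_join R A d)⟩

theorem bijective_ofId_zero : Function.Bijective (Algebra.ofId R (⨂[R] _ : Fin 0, A)) := by
  have h : ∀ r : R, Algebra.ofId R (⨂[R] _ : Fin 0, A) r =
      (PiTensorProduct.isEmptyEquiv (R := R) (s := fun _ : Fin 0 => A) (Fin 0)).symm r := by
    intro r
    rw [Algebra.ofId_apply, Algebra.algebraMap_eq_smul_one, PiTensorProduct.one_def,
      LinearEquiv.eq_symm_apply, map_smul, PiTensorProduct.isEmptyEquiv_apply_tprod, smul_eq_mul,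
      mul_one]
  have h2 : (Algebra.ofId R (⨂[R] _ : Fin 0, A) : R → _) =
      (PiTensorProduct.isEmptyEquiv (R := R) (s := fun _ : Fin 0 => A) (Fin 0)).symm :=
    funext h
  rw [h2]
  exact LinearEquiv.bijective _

/-- `R ≃ A^{⊗0}` as algebras -/
noncomputable def zeroEquiv : R ≃ₐ[R] (⨂[R] _ : Fin 0, A) :=
  AlgEquiv.ofBijective (Algebra.ofId R _) (bijective_ofId_zero R A)

variable [IsAzumaya R A]

theorem isAzumaya_tpow (d : ℕ) : IsAzumaya R (⨂[R] _ : Fin d, A) := by
  induction d with
  | zero => exact IsAzumaya.of_AlgEquiv R _ _ (zeroEquiv R A)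
  | succ d ih =>
    haveI := ih
    haveI : IsAzumaya R (A ⊗[R] (⨂[R] _ : Fin d, A)) := isAzumaya_tensorProduct R A _
    exact IsAzumaya.of_AlgEquiv R _ _ (splitEquiv R A d).symm

theorem rankAtStalk_tpow (d : ℕ) (p : PrimeSpectrum R) :
    Module.rankAtStalk (⨂[R] _ : Fin d, A) p = (Module.rankAtStalk A p) ^ d := by
  induction d with
  | zero =>
    rw [← Module.rankAtStalk_eq_of_equiv (zeroEquiv R A).toLinearEquiv, pow_zero]
    rcases subsingleton_or_nontrivial R with h | h
    · exfalso
      exact (inferInstance : p.asIdeal.IsPrime).ne_top (Subsingleton.elim _ _)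
    · rw [Module.rankAtStalk_self]
      rfl
  | succ d ih =>
    haveI := isAzumaya_tpow R A d
    rw [Module.rankAtStalk_eq_of_equiv (splitEquiv R A d).toLinearEquiv,
      Module.rankAtStalk_tensorProduct, Pi.mul_apply, ih, pow_succ, mul_comm]

end

end Groth.Agent.Lib.Helper10.TPowAz
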