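import Mathlib
import Groth.Agent.Lib.Helper10.KronPow
import Groth.Agent.Lib.Helper10.AzHomRank
import Groth.Agent.Lib.Helper10.TPowAz

/-!
# The splitting of the tensor power induced by a splitting of an Azumaya algebra (helper10)
-/

set_option autoImplicit false
set_option linter.style.haveILetI false
set_option linter.unusedSectionVars false
open scoped TensorProduct

namespace Groth.Agent.Lib.Helper10.KronPsi

open Groth.Agent.Lib.helper8.Az Groth.Agent.Lib.Helper10.KronPow
  Groth.Agent.Lib.Helper10.AzHomRank Groth.Agent.Lib.Helper10.TPowAz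

section Descent

/-- faithfully flat descent of elements of a flat module -/
theorem exists_of_equalizer (R S M : Type*) [CommRing R] [CommRing S] [Algebra R S]
    [Module.FaithfullyFlat R S] [AddCommGroup M] [Module R M] [Module.Flat R M] (x : S ⊗[R] M)
    (hx : (Algebra.TensorProduct.includeLeftSubRight R S).rTensor M x = 0) :
    ∃ m : M, x = (1 : S) ⊗ₜ[R] m := by
  have hex : Function.Exact ((Algebra.linearMap R S).rTensor M)
      ((Algebra.TensorProduct.includeLeftSubRight R S).rTensor M) :=
    Module.Flat.rTensor_exact M (Algebra.IsEffective.of_faithfullyFlat (R := R) (S := S))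
  obtain ⟨y, hy⟩ := (hex x).mp hx
  refine ⟨TensorProduct.lid R M y, ?_⟩
  rw [← hy]
  clear hy hx hex
  induction y using TensorProduct.induction_on with
  | zero => simp
  | add a b ha hb => rw [map_add, map_add, TensorProduct.tmul_add, ha, hb]
  | tmul r m =>
    rw [LinearMap.rTensor_tmul, TensorProduct.lid_tmul, Algebra.linearMap_apply,
      Algebra.algebraMap_eq_smul_one, TensorProduct.smul_tmul]

end Descent

section Psi

variable (R : Type*) [CommRing R] (A : Type*) [Ring A] [Algebra R A] (n : ℕ)
  (S : Type*) [CommRing S] [Algebra R S]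

/-- the `S`-algebra map `S ⊗ A → M_n(S)` induced by `h : A → M_n(S)` -/
noncomputable def liftS (h : A →ₐ[R] Matrix (Fin n) (Fin n) S) :
    S ⊗[R] A →ₐ[S] Matrix (Fin n) (Fin n) S :=
  Algebra.TensorProduct.lift (Algebra.ofId S _) h (fun s _ => Algebra.commutes s _)

theorem liftS_tmul (h : A →ₐ[R] Matrix (Fin n) (Fin n) S) (s : S) (a : A) :
    liftS R A n S h (s ⊗ₜ[R] a) = s • h a := by
  rw [liftS, Algebra.TensorProduct.lift_tmul, Algebra.ofId_apply, ← Algebra.smul_def]

/-- the Kronecker power of `h : A → M_n(S)` on the tensor power -/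
noncomputable def Kh (h : A →ₐ[R] Matrix (Fin n) (Fin n) S) :
    (⨂[R] _ : Fin n, A) →ₐ[R] Matrix (Idx n) (Idx n) S :=
  PiTensorProduct.liftAlgHom
    (((kronML (S := S) (n := n)).restrictScalars R).compLinearMap (fun _ => h.toLinearMap))
    (by
      rw [MultilinearMap.compLinearMap_apply, MultilinearMap.coe_restrictScalars, kronML_apply]
      simp only [Pi.one_apply, AlgHom.toLinearMap_apply, map_one]
      exact kron_one)
    (by
      intro x y
      rw [MultilinearMap.compLinearMap_apply, MultilinearMap.compLinearMap_apply,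
        MultilinearMap.compLinearMap_apply, MultilinearMap.coe_restrictScalars, kronML_apply,
        kronML_apply, kronML_apply, kron_mul]
      simp only [Pi.mul_apply, AlgHom.toLinearMap_apply, map_mul])

theorem Kh_tprod (h : A →ₐ[R] Matrix (Fin n) (Fin n) S) (a : Fin n → A) :
    Kh R A n S h (PiTensorProduct.tprod R a) = kron (fun i => h (a i)) := by
  rw [Kh, PiTensorProduct.liftAlgHom_apply, PiTensorProduct.lift.tprod,
    MultilinearMap.compLinearMap_apply, MultilinearMap.coe_restrictScalars, kronML_apply]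
  rfl

/-- the `S`-algebra map `S ⊗ A^{⊗n} → M_{n^n}(S)` induced by `h : A → M_n(S)` -/
noncomputable def Psi (h : A →ₐ[R] Matrix (Fin n) (Fin n) S) :
    S ⊗[R] (⨂[R] _ : Fin n, A) →ₐ[S] Matrix (Idx n) (Idx n) S :=
  Algebra.TensorProduct.lift (Algebra.ofId S _) (Kh R A n S h) (fun s _ => Algebra.commutes s _)

theorem Psi_tmul (h : A →ₐ[R] Matrix (Fin n) (Fin n) S) (s : S) (t : ⨂[R] _ : Fin n, A) :
    Psi R A n S h (s ⊗ₜ[R] t) = s • Kh R A n S h t := by
  rw [Psi, Algebra.TensorProduct.lift_tmul, Algebra.ofId_apply, ← Algebra.smul_def]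

theorem Psi_single (h : A →ₐ[R] Matrix (Fin n) (Fin n) S) (i : Fin n) (a : A) :
    Psi R A n S h ((1 : S) ⊗ₜ[R] PiTensorProduct.singleAlgHom i a) =
      kron (Function.update (fun _ => 1) i (h a)) := by
  rw [Psi_tmul, one_smul, PiTensorProduct.singleAlgHom_apply, Kh_tprod]
  congr 1
  funext k
  by_cases hk : k = i
  · subst hk
    simp
  · simp [hk]

/-- naturality of `Psi` in the splitting ring -/
theorem Psi_map {S' : Type*} [CommRing S'] [Algebra R S'] (f : S →ₐ[R] S')
    (h : A →ₐ[R] Matrix (Fin n) (Fin n) S) (x : S ⊗[R] (⨂[R] _ : Fin n, A)) :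
    Psi R A n S' (f.mapMatrix.comp h)
        (Algebra.TensorProduct.map f (AlgHom.id R (⨂[R] _ : Fin n, A)) x) =
      (Psi R A n S h x).map f := by
  induction x using TensorProduct.induction_on with
  | zero =>
    rw [map_zero, map_zero, map_zero]
    ext J I
    simp
  | add a b ha hb =>
    rw [map_add, map_add, map_add, ha, hb, Matrix.map_add _ (fun x y => map_add f x y)]
  | tmul s t =>
    rw [Algebra.TensorProduct.map_tmul, Psi_tmul, Psi_tmul, AlgHom.id_apply]
    induction t using PiTensorProduct.induction_on with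
    | smul_tprod c a =>
      rw [map_smul, map_smul, Kh_tprod, Kh_tprod]
      ext J I
      simp only [Matrix.smul_apply, Matrix.map_apply, AlgHom.comp_apply, kron_apply,
        AlgHom.mapMatrix_apply]
      rw [smul_eq_mul, smul_eq_mul, map_mul, map_smul, map_prod]
    | add x y hx hy =>
      rw [map_add, map_add, smul_add, smul_add, hx, hy,
        Matrix.map_add _ (fun x y => map_add f x y)]

end Psi

section Bij

variable (R : Type*) [CommRing R] (A : Type*) [Ring A] [Algebra R A] [IsAzumaya R A] (n : ℕ)
  (hn : 0 < n) (hrk : ∀ p : PrimeSpectrum R, Module.rankAtStalk A p = n ^ 2)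
  (S : Type*) [CommRing S] [Algebra R S]

include hn hrk in
theorem liftS_bijective (h : A →ₐ[R] Matrix (Fin n) (Fin n) S) :
    Function.Bijective (liftS R A n S h) := by
  classical
  haveI : Nonempty (Fin n) := ⟨⟨0, hn⟩⟩
  haveI : IsAzumaya S (Matrix (Fin n) (Fin n) S) := IsAzumaya.matrix S (Fin n)
  haveI : IsAzumaya S (S ⊗[R] A) := isAzumaya_baseChange R S A
  refine bijective_algHom_of_rankAtStalk_eq S _ _ (fun q => ?_) _
  haveI : Nontrivial S := q.nontrivial
  rw [Module.rankAtStalk_baseChange, hrk, Module.rankAtStalk_eq_finrank_of_free]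
  simp [Module.finrank_matrix, pow_two]

include hn hrk in
theorem Psi_bijective (h : A →ₐ[R] Matrix (Fin n) (Fin n) S) :
    Function.Bijective (Psi R A n S h) := by
  classical
  haveI : Nonempty (Fin n) := ⟨⟨0, hn⟩⟩
  haveI : IsAzumaya S (Matrix (Idx n) (Idx n) S) := IsAzumaya.matrix S (Idx n)
  haveI : IsAzumaya R (⨂[R] _ : Fin n, A) := isAzumaya_tpow R A n
  haveI : IsAzumaya S (S ⊗[R] (⨂[R] _ : Fin n, A)) := isAzumaya_baseChange R S _
  refine bijective_algHom_of_rankAtStalk_eq S _ _ (fun q => ?_) _
  haveI : Nontrivial S := q.nontrivial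
  rw [Module.rankAtStalk_baseChange, rankAtStalk_tpow, hrk, Module.rankAtStalk_eq_finrank_of_free]
  simp [Module.finrank_matrix, pow_two, ← pow_mul, mul_pow]

include hn hrk in
/-- the preimage of the rank one antisymmetrizer does not depend on the splitting -/
theorem Psi_eq_Pm_of_Psi_eq_Pm (h₀ h₁ : A →ₐ[R] Matrix (Fin n) (Fin n) S)
    (x : S ⊗[R] (⨂[R] _ : Fin n, A)) (hx : Psi R A n S h₀ x = Pm S n) :
    Psi R A n S h₁ x = Pm S n := by
  classical
  let θ : Matrix (Fin n) (Fin n) S ≃ₐ[S] Matrix (Fin n) (Fin n) S :=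
    (AlgEquiv.ofBijective _ (liftS_bijective R A n hn hrk S h₀)).symm.trans
      (AlgEquiv.ofBijective _ (liftS_bijective R A n hn hrk S h₁))
  let Θ : Matrix (Idx n) (Idx n) S ≃ₐ[S] Matrix (Idx n) (Idx n) S :=
    (AlgEquiv.ofBijective _ (Psi_bijective R A n hn hrk S h₀)).symm.trans
      (AlgEquiv.ofBijective _ (Psi_bijective R A n hn hrk S h₁))
  have hθ : ∀ y, θ (liftS R A n S h₀ y) = liftS R A n S h₁ y := by
    intro y
    simp only [θ, AlgEquiv.trans_apply]
    rw [AlgEquiv.ofBijective_apply]
    congr 1
    exact (AlgEquiv.ofBijective _ (liftS_bijective R A n hn hrk S h₀)).symm_apply_apply y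
  have hΘ : ∀ y, Θ (Psi R A n S h₀ y) = Psi R A n S h₁ y := by
    intro y
    simp only [Θ, AlgEquiv.trans_apply]
    rw [AlgEquiv.ofBijective_apply]
    congr 1
    exact (AlgEquiv.ofBijective _ (Psi_bijective R A n hn hrk S h₀)).symm_apply_apply y
  have claim : ∀ (i : Fin n) (m : Matrix (Fin n) (Fin n) S),
      Θ.toAlgHom (kron (Function.update (fun _ => 1) i m)) =
        kron (Function.update (fun _ => 1) i (θ m)) := by
    intro i m
    obtain ⟨y, rfl⟩ := (liftS_bijective R A n hn hrk S h₀).2 m
    rw [hθ]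
    show Θ _ = _
    induction y using TensorProduct.induction_on with
    | zero =>
      rw [map_zero, map_zero]
      have h0 : kron (Function.update (fun _ => (1 : Matrix (Fin n) (Fin n) S)) i 0) = 0 := by
        rw [← kronML_apply]
        exact MultilinearMap.map_update_zero _ _ _
      rw [h0, map_zero]
    | add a b ha hb =>
      rw [map_add, map_add]
      have hadd : ∀ u v : Matrix (Fin n) (Fin n) S,
          kron (Function.update (fun _ => (1 : Matrix (Fin n) (Fin n) S)) i (u + v)) =
            kron (Function.update (fun _ => 1) i u) + kron (Function.update (fun _ => 1) i v) := by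
        intro u v
        rw [← kronML_apply, ← kronML_apply, ← kronML_apply]
        exact MultilinearMap.map_update_add _ _ _ _ _
      rw [hadd, hadd, map_add, ha, hb]
    | tmul s a =>
      rw [liftS_tmul, liftS_tmul]
      have hsmul : ∀ (c : S) (u : Matrix (Fin n) (Fin n) S),
          kron (Function.update (fun _ => (1 : Matrix (Fin n) (Fin n) S)) i (c • u)) =
            c • kron (Function.update (fun _ => 1) i u) := by
        intro c u
        rw [← kronML_apply, ← kronML_apply]
        exact MultilinearMap.map_update_smul _ _ _ _ _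
      rw [hsmul, hsmul, map_smul, ← Psi_single R A n S h₀ i a, hΘ, Psi_single]
  have key := algHom_Pm_of_algEquiv Θ.toAlgHom θ claim
  rw [← hΘ, hx]
  exact key

end Bij

end Groth.Agent.Lib.Helper10.KronPsi
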