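import Mathlib

/-!
Kummer-type extensions of degree `p` (helper10): `L = K(z)` with `(1 + t z) ^ p = c ∈ K`,
`K` of characteristic zero containing a primitive `p`-th root of unity.
-/

set_option autoImplicit false
set_option linter.unusedSectionVars false
set_option linter.style.haveILetI false

universe u

open Polynomial IntermediateField

namespace Groth.Agent.Lib.helper10

namespace KumExt

section Kummer

variable {K L : Type u} [Field K] [Field L] [Algebra K L] [CharZero K] {p : ℕ}
  [hp : Fact p.Prime] {ζ : K} {t : K} {c : K} {z : L}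

theorem adjoin_y (ht : t ≠ 0) (hgen : K⟮z⟯ = ⊤) : K⟮1 + algebraMap K L t * z⟯ = ⊤ := by
  rw [eq_top_iff, ← hgen, adjoin_simple_le_iff]
  have hy : 1 + algebraMap K L t * z ∈ K⟮1 + algebraMap K L t * z⟯ := mem_adjoin_simple_self K _
  have ht' : algebraMap K L t ≠ 0 := by
    rw [ne_eq, map_eq_zero]; exact ht
  have : z = (algebraMap K L t)⁻¹ * ((1 + algebraMap K L t * z) - 1) := by
    field_simp
    ring
  have h2 : (algebraMap K L t)⁻¹ * ((1 + algebraMap K L t * z) - 1) ∈
      K⟮1 + algebraMap K L t * z⟯ :=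
    mul_mem (inv_mem (IntermediateField.algebraMap_mem _ t)) (sub_mem hy (one_mem _))
  rw [← this] at h2
  exact h2

theorem of_mem_range (hgen : K⟮z⟯ = ⊤) (h : ∃ z₀ : K, algebraMap K L z₀ = z) :
    IsGalois K L ∧ Module.finrank K L = 1 := by
  obtain ⟨z₀, rfl⟩ := h
  have hbot : (⊥ : IntermediateField K L) = ⊤ := by
    rw [← hgen]; symm
    rw [adjoin_simple_eq_bot_iff]
    exact IntermediateField.algebraMap_mem _ z₀
  constructor
  · rw [← isGalois_iff_isGalois_top, ← hbot]
    infer_instance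
  · rw [← IntermediateField.finrank_top', ← hbot, IntermediateField.finrank_bot]

theorem y_mem_range_imp (ht : t ≠ 0) (h : ∃ y₀ : K, algebraMap K L y₀ = 1 + algebraMap K L t * z) :
    ∃ z₀ : K, algebraMap K L z₀ = z := by
  obtain ⟨y₀, hy₀⟩ := h
  have ht' : algebraMap K L t ≠ 0 := by
    rw [ne_eq, map_eq_zero]; exact ht
  refine ⟨t⁻¹ * (y₀ - 1), ?_⟩
  rw [map_mul, map_inv₀, map_sub, map_one, hy₀]
  field_simp
  ring

theorem isSplittingField (hζ : IsPrimitiveRoot ζ p) (ht : t ≠ 0)
    (hz : (1 + algebraMap K L t * z) ^ p = algebraMap K L c) (hgen : K⟮z⟯ = ⊤) :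
    IsSplittingField K L (X ^ p - C c) := by
  have hint : IsIntegral K (1 + algebraMap K L t * z) :=
    ⟨X ^ p - C c, monic_X_pow_sub_C c hp.out.ne_zero, by
      rw [eval₂_sub, eval₂_X_pow, eval₂_C, hz, sub_self]⟩
  constructor
  · rw [Polynomial.map_sub, Polynomial.map_pow, Polynomial.map_C, Polynomial.map_X]
    exact X_pow_sub_C_splits_of_isPrimitiveRoot
      (hζ.map_of_injective (algebraMap K L).injective) hz
  · rw [eq_top_iff, ← IntermediateField.top_toSubalgebra, ← adjoin_y ht hgen,
      IntermediateField.adjoin_simple_toSubalgebra_of_isAlgebraic hint.isAlgebraic]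
    apply Algebra.adjoin_mono
    rw [Set.singleton_subset_iff, mem_rootSet_of_ne (X_pow_sub_C_ne_zero hp.out.pos c),
      aeval_def, eval₂_sub, eval₂_X_pow, eval₂_C, hz, sub_self]

theorem isGalois (hζ : IsPrimitiveRoot ζ p) (ht : t ≠ 0)
    (hz : (1 + algebraMap K L t * z) ^ p = algebraMap K L c) (hgen : K⟮z⟯ = ⊤) :
    IsGalois K L := by
  by_cases hc : c = 0
  · subst hc
    rw [map_zero] at hz
    have hy0 : 1 + algebraMap K L t * z = 0 := pow_eq_zero_iff hp.out.ne_zero |>.mp hz
    exact (of_mem_range hgen (y_mem_range_imp ht ⟨0, by rw [map_zero, hy0]⟩)).1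
  · haveI := isSplittingField hζ ht hz hgen
    exact IsGalois.of_separable_splitting_field
      (separable_X_pow_sub_C c (by exact_mod_cast hp.out.ne_zero) hc)

theorem finiteDimensional (hζ : IsPrimitiveRoot ζ p) (ht : t ≠ 0)
    (hz : (1 + algebraMap K L t * z) ^ p = algebraMap K L c) (hgen : K⟮z⟯ = ⊤) :
    FiniteDimensional K L := by
  haveI := isSplittingField hζ ht hz hgen
  exact IsSplittingField.finiteDimensional L (X ^ p - C c)

theorem finrank (hζ : IsPrimitiveRoot ζ p) (ht : t ≠ 0)
    (hz : (1 + algebraMap K L t * z) ^ p = algebraMap K L c) (hgen : K⟮z⟯ = ⊤) :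
    Module.finrank K L = 1 ∨ Module.finrank K L = p := by
  by_cases hc : ∀ b : K, b ^ p ≠ c
  · right
    have hirr : Irreducible (X ^ p - C c : K[X]) := X_pow_sub_C_irreducible_of_prime hp.out hc
    have hint : IsIntegral K (1 + algebraMap K L t * z) :=
      ⟨X ^ p - C c, monic_X_pow_sub_C c hp.out.ne_zero, by
        rw [eval₂_sub, eval₂_X_pow, eval₂_C, hz, sub_self]⟩
    have hmin : (X ^ p - C c : K[X]) = minpoly K (1 + algebraMap K L t * z) :=
      minpoly.eq_of_irreducible_of_monic hirr
        (by rw [map_sub, map_pow, aeval_X, aeval_C, hz, sub_self])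
        (monic_X_pow_sub_C c hp.out.ne_zero)
    rw [← IntermediateField.finrank_top', ← adjoin_y ht hgen,
      IntermediateField.adjoin.finrank hint, ← hmin, natDegree_X_pow_sub_C]
  · left
    push Not at hc
    obtain ⟨b, hb⟩ := hc
    apply (of_mem_range hgen (y_mem_range_imp ht ?_)).2
    by_cases hb0 : b = 0
    · subst hb0
      rw [zero_pow hp.out.ne_zero] at hb
      rw [← hb, map_zero] at hz
      have hy0 : 1 + algebraMap K L t * z = 0 := pow_eq_zero_iff hp.out.ne_zero |>.mp hz
      exact ⟨0, by rw [map_zero, hy0]⟩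
    · have hb' : algebraMap K L b ≠ 0 := by rw [ne_eq, map_eq_zero]; exact hb0
      have h1 : ((1 + algebraMap K L t * z) / algebraMap K L b) ^ p = 1 := by
        rw [div_pow, hz, ← hb, map_pow, div_self (pow_ne_zero _ hb')]
      obtain ⟨i, -, hi⟩ := (hζ.map_of_injective (algebraMap K L).injective).eq_pow_of_pow_eq_one h1
      refine ⟨ζ ^ i * b, ?_⟩
      rw [map_mul, map_pow, hi, div_mul_cancel₀ _ hb']

theorem y_ne_zero (ht : t ≠ 0) (hgen : K⟮z⟯ = ⊤) (hfr : Module.finrank K L = p) :
    1 + algebraMap K L t * z ≠ 0 := by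
  intro h0
  have := (of_mem_range hgen (y_mem_range_imp ht ⟨0, by rw [map_zero, h0]⟩)).2
  rw [hfr] at this
  exact hp.out.one_lt.ne' this

theorem exists_sigma (hζ : IsPrimitiveRoot ζ p) (ht : t ≠ 0)
    (hz : (1 + algebraMap K L t * z) ^ p = algebraMap K L c) (hgen : K⟮z⟯ = ⊤)
    (hfr : Module.finrank K L = p) :
    ∃ (σ : L ≃ₐ[K] L) (i : ℕ), 0 < i ∧ i < p ∧
      algebraMap K L t * (σ z - z) = (1 + algebraMap K L t * z) * (algebraMap K L ζ ^ i - 1) := by
  haveI := isGalois hζ ht hz hgen
  haveI := finiteDimensional hζ ht hz hgen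
  have hy0 := y_ne_zero ht hgen hfr
  have ht' : algebraMap K L t ≠ 0 := by rw [ne_eq, map_eq_zero]; exact ht
  have hcard : Nat.card (L ≃ₐ[K] L) = p := by rw [IsGalois.card_aut_eq_finrank, hfr]
  haveI : Nontrivial (L ≃ₐ[K] L) := by
    rw [← Finite.one_lt_card_iff_nontrivial, hcard]; exact hp.out.one_lt
  obtain ⟨σ, hσ⟩ := exists_ne (1 : L ≃ₐ[K] L)
  have hσz : σ z ≠ z := by
    intro h
    apply hσ
    have hint : IsIntegral K z := Algebra.IsIntegral.isIntegral z
    have hadj : Algebra.adjoin K {z} = ⊤ := by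
      rw [← IntermediateField.adjoin_simple_toSubalgebra_of_isAlgebraic hint.isAlgebraic, hgen]
      rfl
    have h1 : (σ : L →ₐ[K] L) = (1 : L ≃ₐ[K] L) := by
      apply AlgHom.ext_of_adjoin_eq_top hadj
      intro x hx
      rw [Set.mem_singleton_iff] at hx
      subst hx
      simpa using h
    exact AlgEquiv.ext (fun x => DFunLike.congr_fun h1 x)
  have h1 : ((1 + algebraMap K L t * σ z) / (1 + algebraMap K L t * z)) ^ p = 1 := by
    have : (1 + algebraMap K L t * σ z) ^ p = algebraMap K L c := by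
      have := congrArg σ hz
      rwa [map_pow, map_add, map_one, map_mul, σ.commutes, σ.commutes] at this
    rw [div_pow, this, hz, div_self]
    rw [← hz]; exact pow_ne_zero _ hy0
  obtain ⟨i, hip, hi⟩ :=
    (hζ.map_of_injective (algebraMap K L).injective).eq_pow_of_pow_eq_one h1
  have hi' : 1 + algebraMap K L t * σ z = (1 + algebraMap K L t * z) * algebraMap K L ζ ^ i := by
    rw [hi, mul_div_cancel₀ _ hy0]
  refine ⟨σ, i, ?_, hip, ?_⟩
  · rcases Nat.eq_zero_or_pos i with rfl | h
    · exfalso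
      rw [pow_zero, mul_one] at hi'
      have : algebraMap K L t * σ z = algebraMap K L t * z := add_left_cancel hi'
      exact hσz (mul_left_cancel₀ ht' this)
    · exact h
  · linear_combination hi'

end Kummer

end KumExt

end Groth.Agent.Lib.helper10
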