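import Mathlib
import Groth.Agent.S16598
import Groth.Agent.Lib.Helper10.LGConj

/-!
Cancellation for Azumaya algebras over LG-rings (helper10).
-/

set_option autoImplicit false

noncomputable section

namespace Groth.Agent.Lib.Helper10.LGCancel

set_option linter.style.haveILetI false
set_option linter.unusedSectionVars false

open Module TensorProduct Groth.Agent.Lib.Helper10.LGConj

universe u v w

section Rank

variable {R : Type u} [CommRing R]

/-- fibre dimension at a maximal ideal equals the rank at the stalk -/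
theorem finrank_quotient_tensor (m : Ideal R) [hm : m.IsMaximal] (M : Type*) [AddCommGroup M]
    [Module R M] [Module.Finite R M] [Module.Flat R M] :
    finrank (R ⧸ m) ((R ⧸ m) ⊗[R] M) = rankAtStalk M ⟨m, hm.isPrime⟩ := by
  letI : Field (R ⧸ m) := Ideal.Quotient.field m
  let p : PrimeSpectrum (R ⧸ m) := ⟨⊥, Ideal.isPrime_bot⟩
  have h1 : rankAtStalk ((R ⧸ m) ⊗[R] M) p = finrank (R ⧸ m) ((R ⧸ m) ⊗[R] M) := by
    rw [rankAtStalk_eq_finrank_of_free]
    rfl
  rw [← h1, rankAtStalk_baseChange]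
  congr 1
  apply PrimeSpectrum.ext
  show Ideal.comap (algebraMap R (R ⧸ m)) ⊥ = m
  rw [← RingHom.ker_eq_comap_bot]
  exact Ideal.mk_ker

end Rank

section Corners

variable {R : Type u} [CommRing R]

/-- `A` is the `(0,0)` corner of `Mₙ(A)` -/
def cornerMatrix (A : Type*) [Ring A] [Algebra R A] (n : ℕ) (hn : 0 < n) :
    CornerHom R A (Matrix (Fin n) (Fin n) A) where
  i := Matrix.singleLinearMap R ⟨0, hn⟩ ⟨0, hn⟩
  r := Matrix.entryLinearMap R A ⟨0, hn⟩ ⟨0, hn⟩
  i_mul a b := by
    show Matrix.single _ _ (a * b) = Matrix.single _ _ a * Matrix.single _ _ b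
    rw [Matrix.single_mul_single_same]
  ri a := by
    show (Matrix.single (⟨0, hn⟩ : Fin n) (⟨0, hn⟩ : Fin n) a : Matrix (Fin n) (Fin n) A)
      ⟨0, hn⟩ ⟨0, hn⟩ = a
    rw [Matrix.single_apply_same]
  ir x := by
    show Matrix.single _ _ (1 : A) * x * Matrix.single _ _ 1 = Matrix.single _ _ (x _ _)
    rw [Matrix.single_mul_mul_single, one_mul, mul_one]

/-- `A` is a corner of `A ⊗ End P` when `P` has a unimodular element -/
def cornerEnd (A : Type*) [Ring A] [Algebra R A] (P : Type*) [AddCommGroup P] [Module R P]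
    (m₀ : P) (φ₀ : Module.Dual R P) (h : φ₀ m₀ = 1) :
    CornerHom R A (A ⊗[R] Module.End R P) :=
  let π : Module.End R P := LinearMap.toSpanSingleton R P m₀ ∘ₗ φ₀
  let ε : Module.End R P →ₗ[R] R := φ₀ ∘ₗ LinearMap.applyₗ m₀
  have hπ : ∀ x, π x = φ₀ x • m₀ := fun x => rfl
  have hε : ∀ ψ, ε ψ = φ₀ (ψ m₀) := fun ψ => rfl
  have hππ : π * π = π := by
    refine LinearMap.ext fun x => ?_
    rw [Module.End.mul_apply, hπ, hπ, map_smul, h, smul_eq_mul, mul_one]
  have hπψπ : ∀ ψ : Module.End R P, π * ψ * π = ε ψ • π := by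
    intro ψ
    refine LinearMap.ext fun x => ?_
    rw [Module.End.mul_apply, Module.End.mul_apply, LinearMap.smul_apply, hπ x, map_smul, hπ,
      map_smul, hε, smul_smul, smul_eq_mul, mul_comm]
  { i := (TensorProduct.mk R A (Module.End R P)).flip π
    r := (TensorProduct.rid R A).toLinearMap ∘ₗ LinearMap.lTensor A ε
    i_mul := fun a b => by
      show (a * b) ⊗ₜ[R] π = (a ⊗ₜ[R] π) * (b ⊗ₜ[R] π)
      rw [Algebra.TensorProduct.tmul_mul_tmul, hππ]
    ri := fun a => by
      show (TensorProduct.rid R A) (LinearMap.lTensor A ε (a ⊗ₜ[R] π)) = a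
      rw [LinearMap.lTensor_tmul, TensorProduct.rid_tmul, hε, hπ, map_smul, h, smul_eq_mul,
        mul_one, one_smul]
    ir := fun x => by
      show ((1 : A) ⊗ₜ[R] π) * x * ((1 : A) ⊗ₜ[R] π) =
        ((TensorProduct.rid R A) (LinearMap.lTensor A ε x)) ⊗ₜ[R] π
      induction x using TensorProduct.induction_on with
      | zero => simp
      | tmul a ψ =>
        rw [Algebra.TensorProduct.tmul_mul_tmul, Algebra.TensorProduct.tmul_mul_tmul, one_mul,
          mul_one, hπψπ, LinearMap.lTensor_tmul, TensorProduct.rid_tmul,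
          TensorProduct.smul_tmul]
      | add x y hx hy =>
        rw [mul_add, add_mul, hx, hy, map_add, map_add, TensorProduct.add_tmul] }

end Corners

section Main

variable {R : Type u} [CommRing R]

/-- **Cancellation, general form** (universe polymorphic version of S16609). -/
theorem cancel_end (hR : LGRing.IsLGRing R) (A : Type*) [Ring A] [Algebra R A] [IsAzumaya R A]
    (B : Type*) [Ring B] [Algebra R B] [IsAzumaya R B]
    (hdeg : ∀ p : PrimeSpectrum R, Module.rankAtStalk A p = Module.rankAtStalk B p)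
    (P : Type*) [AddCommGroup P] [Module R P] [Module.Finite R P] [Module.Projective R P]
    [FaithfulSMul R P]
    (Q : Type*) [AddCommGroup Q] [Module R Q] [Module.Finite R Q] [Module.Projective R Q]
    [FaithfulSMul R Q]
    (e : A ⊗[R] Module.End R P ≃ₐ[R] B ⊗[R] Module.End R Q) : Nonempty (A ≃ₐ[R] B) := by
  obtain ⟨m₀, φ₀, h₀⟩ := Groth.Agent.S16598.result hR P
  obtain ⟨m₁, φ₁, h₁⟩ := Groth.Agent.S16598.result hR Q
  haveI : IsAzumaya R (Module.End R Q) := Groth.Agent.Lib.helper8.Az.isAzumaya_end R Q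
  haveI : IsAzumaya R (B ⊗[R] Module.End R Q) :=
    Groth.Agent.Lib.helper8.Az.isAzumaya_tensorProduct R B (Module.End R Q)
  refine nonempty_algEquiv_of_corners hR ((cornerEnd A P m₀ φ₀ h₀).trans e)
    (cornerEnd B Q m₁ φ₁ h₁) (fun m hm => ?_)
  rw [finrank_quotient_tensor, finrank_quotient_tensor, hdeg]

/-- matrix algebras over Azumaya algebras are Azumaya -/
theorem isAzumaya_matrix (B : Type*) [Ring B] [Algebra R B] [IsAzumaya R B] (n : ℕ) (hn : 0 < n) :
    IsAzumaya R (Matrix (Fin n) (Fin n) B) := by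
  haveI : Nonempty (Fin n) := ⟨⟨0, hn⟩⟩
  haveI : IsAzumaya R (Matrix (Fin n) (Fin n) R) := IsAzumaya.matrix R (Fin n)
  haveI : IsAzumaya R (B ⊗[R] Matrix (Fin n) (Fin n) R) :=
    Groth.Agent.Lib.helper8.Az.isAzumaya_tensorProduct R B _
  exact IsAzumaya.of_AlgEquiv R _ _ (matrixEquivTensor (Fin n) R B).symm

theorem rankAtStalk_matrix (B : Type*) [Ring B] [Algebra R B] [Module.Finite R B]
    [Module.Flat R B] (n : ℕ) (p : PrimeSpectrum R) :
    rankAtStalk (Matrix (Fin n) (Fin n) B) p = rankAtStalk B p * (n * n) := by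
  haveI : Nontrivial R := by
    by_contra h
    rw [not_nontrivial_iff_subsingleton] at h
    exact p.2.ne_top (Subsingleton.elim _ _)
  rw [rankAtStalk_eq_of_equiv (matrixEquivTensor (Fin n) R B).toLinearEquiv,
    rankAtStalk_tensorProduct, Pi.mul_apply,
    rankAtStalk_eq_finrank_of_free (R := R) (M := Matrix (Fin n) (Fin n) R),
    Module.finrank_matrix]
  simp

/-- **Cancellation of matrix rings** (universe polymorphic version of S16607). -/
theorem cancel_matrix (hR : LGRing.IsLGRing R) (A : Type*) [Ring A] [Algebra R A]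
    [IsAzumaya R A] (B : Type*) [Ring B] [Algebra R B] [IsAzumaya R B] (n : ℕ) (hn : 0 < n)
    (e : Matrix (Fin n) (Fin n) A ≃ₐ[R] Matrix (Fin n) (Fin n) B) : Nonempty (A ≃ₐ[R] B) := by
  haveI : IsAzumaya R (Matrix (Fin n) (Fin n) B) := isAzumaya_matrix B n hn
  refine nonempty_algEquiv_of_corners hR ((cornerMatrix A n hn).trans e) (cornerMatrix B n hn)
    (fun m hm => ?_)
  rw [finrank_quotient_tensor, finrank_quotient_tensor]
  have h1 := rankAtStalk_eq_of_equiv (R := R) e.toLinearEquiv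
  have h2 := congrFun h1 ⟨m, hm.isPrime⟩
  rw [rankAtStalk_matrix, rankAtStalk_matrix] at h2
  exact Nat.eq_of_mul_eq_mul_right (Nat.mul_pos hn hn) h2

theorem rankAtStalk_pos_of_faithful (C : Type*) [AddCommGroup C] [Module R C] [Module.Finite R C]
    [Module.Flat R C] [FaithfulSMul R C] (p : PrimeSpectrum R) : 0 < rankAtStalk C p := by
  rw [rankAtStalk_pos_iff_mem_support, Module.mem_support_iff_of_finite,
    Module.annihilator_eq_bot.mpr inferInstance]
  exact bot_le

/-- **Cancellation of a tensor factor** (universe polymorphic version of S16608). -/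
theorem cancel_tensor (hR : LGRing.IsLGRing R) (A : Type*) [Ring A] [Algebra R A]
    [IsAzumaya R A] (B : Type*) [Ring B] [Algebra R B] [IsAzumaya R B]
    (C : Type*) [Ring C] [Algebra R C] [IsAzumaya R C]
    (e : A ⊗[R] C ≃ₐ[R] B ⊗[R] C) : Nonempty (A ≃ₐ[R] B) := by
  have hdeg : ∀ p : PrimeSpectrum R, rankAtStalk A p = rankAtStalk B p := by
    intro p
    have h1 := rankAtStalk_eq_of_equiv (R := R) e.toLinearEquiv
    have h2 := congrFun h1 p
    rw [rankAtStalk_tensorProduct, rankAtStalk_tensorProduct, Pi.mul_apply, Pi.mul_apply] at h2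
    exact Nat.eq_of_mul_eq_mul_right (rankAtStalk_pos_of_faithful C p) h2
  let μ : C ⊗[R] Cᵐᵒᵖ ≃ₐ[R] Module.End R C :=
    AlgEquiv.ofBijective (AlgHom.mulLeftRight R C) IsAzumaya.bij
  let E : A ⊗[R] Module.End R C ≃ₐ[R] B ⊗[R] Module.End R C :=
    (Algebra.TensorProduct.congr AlgEquiv.refl μ.symm).trans <|
    (Algebra.TensorProduct.assoc R R R A C Cᵐᵒᵖ).symm.trans <|
    (Algebra.TensorProduct.congr e AlgEquiv.refl).trans <|
    (Algebra.TensorProduct.assoc R R R B C Cᵐᵒᵖ).trans <|
    (Algebra.TensorProduct.congr AlgEquiv.refl μ)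
  exact cancel_end hR A B hdeg C C E

end Main

end Groth.Agent.Lib.Helper10.LGCancel
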