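import Mathlib
import Groth.Agent.S16605
import Groth.Agent.Lib.Helper8.Azumaya
import Groth.Agent.Lib.Helper10.LGConj
import Groth.Agent.Lib.Helper10.LGCancel

/-!
Projective modules over Azumaya algebras over LG-rings (helper10).
-/

set_option autoImplicit false

noncomputable section

namespace Groth.Agent.Lib.Helper10.LGModules

set_option linter.style.haveILetI false
set_option linter.unusedSectionVars false

open Module TensorProduct Groth.Agent.Lib.Helper10.LGConj Groth.Agent.Lib.Helper10.IdemLift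

universe u v w

section FibreModule

variable (R : Type u) [CommRing R] (κ : Type*) [CommRing κ] [Algebra R κ]
  (A : Type v) [Ring A] [Algebra R A]
  (X : Type*) [AddCommGroup X] [Module A X] [Module R X] [IsScalarTower R A X]

/-- the action of `κ ⊗ A` on `κ ⊗ X` as an algebra homomorphism -/
def fibreRho : κ ⊗[R] A →ₐ[κ] Module.End κ (κ ⊗[R] X) :=
  Algebra.TensorProduct.lift (Algebra.ofId κ (Module.End κ (κ ⊗[R] X)))
    ((Module.End.baseChangeHom R κ X).comp (Algebra.lsmul R R X))
    (fun c a => Algebra.commutes c _)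

/-- `κ ⊗ X` as a module over `κ ⊗ A` -/
@[reducible] def fibreModule : Module (κ ⊗[R] A) (κ ⊗[R] X) :=
  Module.compHom (κ ⊗[R] X) (fibreRho R κ A X : κ ⊗[R] A →+* Module.End κ (κ ⊗[R] X))

attribute [local instance] fibreModule

theorem fibre_smul_def (s : κ ⊗[R] A) (z : κ ⊗[R] X) : s • z = fibreRho R κ A X s z := rfl

theorem fibre_tmul_smul_tmul (c c' : κ) (a : A) (x : X) :
    (c ⊗ₜ[R] a : κ ⊗[R] A) • (c' ⊗ₜ[R] x : κ ⊗[R] X) = (c * c') ⊗ₜ[R] (a • x) := by
  rw [fibre_smul_def]
  unfold fibreRho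
  rw [Algebra.TensorProduct.lift_tmul, Module.End.mul_apply]
  show (algebraMap κ (Module.End κ (κ ⊗[R] X)) c)
    ((LinearMap.baseChange κ (Algebra.lsmul R R X a)) (c' ⊗ₜ[R] x)) = _
  rw [LinearMap.baseChange_tmul, Module.algebraMap_end_apply, TensorProduct.smul_tmul',
    smul_eq_mul]
  rfl

instance fibre_isScalarTower : IsScalarTower κ (κ ⊗[R] A) (κ ⊗[R] X) := by
  refine ⟨fun c s z => ?_⟩
  rw [fibre_smul_def, fibre_smul_def, map_smul, LinearMap.smul_apply]

end FibreModule

section SmulTop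

variable {R : Type u} [CommRing R]

theorem map_mem_smul_top (m : Ideal R) {X Y : Type*} [AddCommGroup X] [Module R X]
    [AddCommGroup Y] [Module R Y] (f : X →ₗ[R] Y) {x : X}
    (hx : x ∈ m • (⊤ : Submodule R X)) : f x ∈ m • (⊤ : Submodule R Y) := by
  refine Submodule.smul_induction_on hx (fun r hr y _ => ?_) (fun y z hy hz => ?_)
  · rw [map_smul]
    exact Submodule.smul_mem_smul hr Submodule.mem_top
  · rw [map_add]
    exact add_mem hy hz

theorem pi_mem_smul_top (m : Ideal R) {ι : Type*} [Fintype ι] [DecidableEq ι] {X : Type*}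
    [AddCommGroup X] [Module R X] (v : ι → X) (hv : ∀ j, v j ∈ m • (⊤ : Submodule R X)) :
    v ∈ m • (⊤ : Submodule R (ι → X)) := by
  have : v = ∑ j, LinearMap.single R (fun _ => X) j (v j) := by
    ext l
    simp [Finset.sum_apply, Pi.single_apply]
  rw [this]
  exact Submodule.sum_mem _ fun j _ => map_mem_smul_top m _ (hv j)

end SmulTop

section EndAlg

theorem projective_pi {R : Type u} [CommRing R] {ι : Type*} [Fintype ι] [DecidableEq ι]
    (X : Type*) [AddCommGroup X] [Module R X] [Module.Projective R X] :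
    Module.Projective R (ι → X) :=
  Module.Projective.of_equiv' (DFinsupp.linearEquivFunOnFintype (R := R) (M := fun _ : ι => X))

variable (R : Type u) [CommRing R] {A : Type v} [Ring A] [Algebra R A]
  {P : Type*} [AddCommGroup P] [Module A P] [Module R P] [IsScalarTower R A P]
  {n : ℕ} (s : P →ₗ[A] (Fin n → A)) (π : (Fin n → A) →ₗ[A] P)

/-- `End_A(P) → (Aⁿ)ⁿ` -/
def toF : Module.End A P →ₗ[R] (Fin n → Fin n → A) where
  toFun g := fun j => s (g (π (Pi.single j 1)))
  map_add' g g' := by
    funext j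
    simp
  map_smul' r g := by
    funext j
    simp

/-- `(Aⁿ)ⁿ → End_A(P)` -/
def ofF : (Fin n → Fin n → A) →ₗ[R] Module.End A P where
  toFun v := π ∘ₗ (∑ j, (LinearMap.proj j : (Fin n → A) →ₗ[A] A).smulRight (v j)) ∘ₗ s
  map_add' v v' := by
    refine LinearMap.ext fun x => ?_
    simp [LinearMap.sum_apply, Finset.sum_add_distrib]
  map_smul' r v := by
    refine LinearMap.ext fun x => ?_
    simp only [LinearMap.comp_apply, LinearMap.sum_apply, LinearMap.smulRight_apply,
      LinearMap.proj_apply, Pi.smul_apply, map_sum, map_smul, RingHom.id_apply,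
      LinearMap.smul_apply, Finset.smul_sum]
    refine Finset.sum_congr rfl fun j _ => ?_
    rw [LinearMap.map_smul_of_tower, smul_comm]

variable {s π}

theorem ofF_toF (hπs : ∀ x, π (s x) = x) (g : Module.End A P) : ofF R s π (toF R s π g) = g := by
  refine LinearMap.ext fun x => ?_
  show π ((∑ j, (LinearMap.proj j : (Fin n → A) →ₗ[A] A).smulRight (toF R s π g j)) (s x)) = g x
  rw [LinearMap.sum_apply]
  have h1 : ∀ j, ((LinearMap.proj j : (Fin n → A) →ₗ[A] A).smulRight (toF R s π g j)) (s x) =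
      s (g (π ((s x) j • Pi.single j 1))) := by
    intro j
    rw [LinearMap.smulRight_apply, LinearMap.proj_apply, map_smul, map_smul, map_smul]
    rfl
  have h2 : ∑ j, (s x) j • (Pi.single j 1 : Fin n → A) = s x := by
    conv_rhs => rw [pi_eq_sum_univ' (s x)]
  rw [Finset.sum_congr rfl fun j _ => h1 j, ← map_sum, ← map_sum, ← map_sum, h2, hπs, hπs]

theorem end_finite (hπs : ∀ x, π (s x) = x) [Module.Finite R A] :
    Module.Finite R (Module.End A P) :=
  Module.Finite.of_surjective (ofF R s π) fun g => ⟨_, ofF_toF R hπs g⟩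

theorem end_projective (hπs : ∀ x, π (s x) = x) [Module.Projective R A] :
    Module.Projective R (Module.End A P) := by
  classical
  haveI : Module.Projective R (Fin n → A) := projective_pi A
  haveI : Module.Projective R (Fin n → Fin n → A) := projective_pi (Fin n → A)
  exact Module.Projective.of_split (toF R s π) (ofF R s π)
    (LinearMap.ext fun g => ofF_toF R hπs g)

variable {R}

theorem end_mem_smul_top (hπs : ∀ x, π (s x) = x) (m : Ideal R) (g : Module.End A P)
    (hg : ∀ x, g x ∈ m • (⊤ : Submodule R P)) : g ∈ m • (⊤ : Submodule R (Module.End A P)) := by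
  classical
  rw [← ofF_toF R hπs g]
  apply map_mem_smul_top
  apply pi_mem_smul_top
  intro j
  apply pi_mem_smul_top
  intro l
  have h1 := hg (π (Pi.single j 1))
  have h2 := map_mem_smul_top m ((LinearMap.proj l : (Fin n → A) →ₗ[A] A).restrictScalars R ∘ₗ
    s.restrictScalars R) h1
  exact h2

end EndAlg

section Lift

variable {R : Type u} [CommRing R] {A : Type v} [Ring A] [Algebra R A]

attribute [local instance] fibreModule

/-- lifting linear maps from the fibre -/
theorem exists_lift_linearMap (m : Ideal R) {X : Type*} [AddCommGroup X] [Module A X] [Module R X]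
    [IsScalarTower R A X] {Y : Type*} [AddCommGroup Y] [Module A Y] [Module R Y]
    [IsScalarTower R A Y] {n : ℕ} (s : X →ₗ[A] (Fin n → A)) (π : (Fin n → A) →ₗ[A] X)
    (hπs : ∀ x, π (s x) = x)
    (φb : (R ⧸ m) ⊗[R] X →ₗ[(R ⧸ m) ⊗[R] A] (R ⧸ m) ⊗[R] Y) :
    ∃ φ : X →ₗ[A] Y, ∀ x, (1 : R ⧸ m) ⊗ₜ[R] φ x = φb ((1 : R ⧸ m) ⊗ₜ[R] x) := by
  classical
  have hy : ∀ j : Fin n, ∃ y : Y, (1 : R ⧸ m) ⊗ₜ[R] y =
      φb ((1 : R ⧸ m) ⊗ₜ[R] π (Pi.single j 1)) := by
    intro j
    obtain ⟨y, hy⟩ := Groth.Agent.S16605.tmul_one_surjective m Y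
      (φb ((1 : R ⧸ m) ⊗ₜ[R] π (Pi.single j 1)))
    exact ⟨y, hy⟩
  choose y hy using hy
  let φ : X →ₗ[A] Y := ∑ j, ((LinearMap.proj j : (Fin n → A) →ₗ[A] A) ∘ₗ s).smulRight (y j)
  refine ⟨φ, fun x => ?_⟩
  have hφ : φ x = ∑ j, (s x) j • y j := by
    show (∑ j, ((LinearMap.proj j : (Fin n → A) →ₗ[A] A) ∘ₗ s).smulRight (y j)) x = _
    rw [LinearMap.sum_apply]
    rfl
  have hx : x = ∑ j, (s x) j • π (Pi.single j 1) := by
    conv_lhs => rw [← hπs x, pi_eq_sum_univ' (s x), map_sum]
    refine Finset.sum_congr rfl fun j _ => ?_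
    rw [← map_smul]
  have key : ∀ (a : A) (z : X), (1 : R ⧸ m) ⊗ₜ[R] (a • z) =
      ((1 : R ⧸ m) ⊗ₜ[R] a : (R ⧸ m) ⊗[R] A) • ((1 : R ⧸ m) ⊗ₜ[R] z : (R ⧸ m) ⊗[R] X) := by
    intro a z
    rw [fibre_tmul_smul_tmul, one_mul]
  have key' : ∀ (a : A) (z : Y), (1 : R ⧸ m) ⊗ₜ[R] (a • z) =
      ((1 : R ⧸ m) ⊗ₜ[R] a : (R ⧸ m) ⊗[R] A) • ((1 : R ⧸ m) ⊗ₜ[R] z : (R ⧸ m) ⊗[R] Y) := by
    intro a z
    rw [fibre_tmul_smul_tmul, one_mul]
  conv_rhs => rw [hx]
  rw [hφ, TensorProduct.tmul_sum, TensorProduct.tmul_sum, map_sum]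
  refine Finset.sum_congr rfl fun j _ => ?_
  rw [key', key, map_smul, hy]

/-- at a maximal ideal, the fibre of the module of smaller rank is a direct summand of the other -/
theorem exists_fibre_summand (m : Ideal R) [m.IsMaximal] [IsAzumaya R A]
    {M : Type*} [AddCommGroup M] [Module A M] [Module R M] [IsScalarTower R A M]
    [Module.Finite R M]
    {N : Type*} [AddCommGroup N] [Module A N] [Module R N] [IsScalarTower R A N]
    [Module.Finite R N]
    (h : finrank (R ⧸ m) ((R ⧸ m) ⊗[R] N) ≤ finrank (R ⧸ m) ((R ⧸ m) ⊗[R] M)) :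
    ∃ (ib : (R ⧸ m) ⊗[R] N →ₗ[(R ⧸ m) ⊗[R] A] (R ⧸ m) ⊗[R] M)
      (rb : (R ⧸ m) ⊗[R] M →ₗ[(R ⧸ m) ⊗[R] A] (R ⧸ m) ⊗[R] N), ∀ z, rb (ib z) = z := by
  classical
  letI : Field (R ⧸ m) := Ideal.Quotient.field m
  haveI : IsAzumaya (R ⧸ m) ((R ⧸ m) ⊗[R] A) :=
    Groth.Agent.Lib.helper8.Az.isAzumaya_baseChange R (R ⧸ m) A
  haveI : IsSimpleRing ((R ⧸ m) ⊗[R] A) :=
    Groth.Agent.Lib.helper8.Az.isSimpleRing_of_isAzumaya_field (R ⧸ m) _
  haveI : IsArtinianRing ((R ⧸ m) ⊗[R] A) := IsArtinianRing.of_finite (R ⧸ m) _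
  obtain ⟨V₀, hV₀⟩ := IsAtomic.exists_atom (Submodule ((R ⧸ m) ⊗[R] A) ((R ⧸ m) ⊗[R] A))
  haveI : IsSimpleModule ((R ⧸ m) ⊗[R] A) V₀ := isSimpleModule_iff_isAtom.mpr hV₀
  haveI : Module.Finite ((R ⧸ m) ⊗[R] A) ((R ⧸ m) ⊗[R] M) :=
    Module.Finite.of_restrictScalars_finite (R ⧸ m) _ _
  haveI : Module.Finite ((R ⧸ m) ⊗[R] A) ((R ⧸ m) ⊗[R] N) :=
    Module.Finite.of_restrictScalars_finite (R ⧸ m) _ _
  obtain ⟨a, ⟨eM⟩⟩ := SimpleConj.exists_linearEquiv_fun (S := (R ⧸ m) ⊗[R] A)
    ((R ⧸ m) ⊗[R] M) V₀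
  obtain ⟨b, ⟨eN⟩⟩ := SimpleConj.exists_linearEquiv_fun (S := (R ⧸ m) ⊗[R] A)
    ((R ⧸ m) ⊗[R] N) V₀
  haveI : Nontrivial V₀ := IsSimpleModule.nontrivial (R := (R ⧸ m) ⊗[R] A) (M := V₀)
  have hd : 0 < finrank (R ⧸ m) V₀ := by
    have := Module.finrank_pos (R := R ⧸ m) (M := V₀)
    exact this
  have h1 := SimpleConj.finrank_eq_mul (κ := R ⧸ m) ((R ⧸ m) ⊗[R] M) V₀ a eM
  have h2 := SimpleConj.finrank_eq_mul (κ := R ⧸ m) ((R ⧸ m) ⊗[R] N) V₀ b eN
  rw [h1, h2] at h
  have hba : b ≤ a := Nat.le_of_mul_le_mul_right h hd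
  obtain ⟨c, rfl⟩ := Nat.exists_eq_add_of_le hba
  let E : (Fin (b + c) → V₀) ≃ₗ[(R ⧸ m) ⊗[R] A] (Fin b → V₀) × (Fin c → V₀) :=
    (LinearEquiv.funCongrLeft ((R ⧸ m) ⊗[R] A) V₀ finSumFinEquiv).trans
      (LinearEquiv.sumArrowLequivProdArrow (Fin b) (Fin c) ((R ⧸ m) ⊗[R] A) V₀)
  refine ⟨eM.symm.toLinearMap ∘ₗ E.symm.toLinearMap ∘ₗ LinearMap.inl _ _ _ ∘ₗ eN.toLinearMap,
    eN.symm.toLinearMap ∘ₗ LinearMap.fst _ _ _ ∘ₗ E.toLinearMap ∘ₗ eM.toLinearMap, fun z => ?_⟩
  simp

end Lift

section Main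

variable {R : Type u} [CommRing R] {A : Type v} [Ring A] [Algebra R A]

theorem projective_of_module_projective [Module.Projective R A] (M : Type*) [AddCommGroup M]
    [Module A M] [Module R M] [IsScalarTower R A M] [Module.Finite A M]
    [Module.Projective A M] : Module.Projective R M := by
  classical
  obtain ⟨n, π, s, -, -, hπs⟩ := Module.Finite.exists_comp_eq_id_of_projective A M
  haveI : Module.Projective R (Fin n → A) := projective_pi A
  exact Module.Projective.of_split (s.restrictScalars R) (π.restrictScalars R)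
    (LinearMap.ext fun x => LinearMap.congr_fun hπs x)

/-- **Surjections between projective modules over an Azumaya algebra over an LG-ring**
(fibre dimension form). -/
theorem exists_surjective (hR : LGRing.IsLGRing R) [IsAzumaya R A]
    (M : Type*) [AddCommGroup M] [Module A M] [Module R M] [IsScalarTower R A M]
    [Module.Finite A M] [Module.Projective A M]
    (N : Type*) [AddCommGroup N] [Module A N] [Module R N] [IsScalarTower R A N]
    [Module.Finite A N] [Module.Projective A N]
    (h : ∀ (m : Ideal R) [m.IsMaximal],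
      finrank (R ⧸ m) ((R ⧸ m) ⊗[R] N) ≤ finrank (R ⧸ m) ((R ⧸ m) ⊗[R] M)) :
    ∃ f : M →ₗ[A] N, Function.Surjective f := by
  classical
  haveI : Module.Finite R M := Module.Finite.trans A M
  haveI : Module.Finite R N := Module.Finite.trans A N
  obtain ⟨n, π, s, -, -, hπs'⟩ := Module.Finite.exists_comp_eq_id_of_projective A (M × N)
  have hπs : ∀ x, π (s x) = x := fun x => LinearMap.congr_fun hπs' x
  obtain ⟨nM, πM, sM, -, -, hM'⟩ := Module.Finite.exists_comp_eq_id_of_projective A M
  have hM : ∀ x, πM (sM x) = x := fun x => LinearMap.congr_fun hM' x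
  obtain ⟨nN, πN, sN, -, -, hN'⟩ := Module.Finite.exists_comp_eq_id_of_projective A N
  have hN : ∀ x, πN (sN x) = x := fun x => LinearMap.congr_fun hN' x
  haveI : Module.Finite R (Module.End A (M × N)) := end_finite R hπs
  haveI : Module.Projective R (Module.End A (M × N)) := end_projective R hπs
  let ιN : N →ₗ[A] M × N := LinearMap.inr A M N
  let ιM : M →ₗ[A] M × N := LinearMap.inl A M N
  let pN : M × N →ₗ[A] N := LinearMap.snd A M N
  let e : Module.End A (M × N) := ιN ∘ₗ pN
  have he : ∀ z : M × N, e z = (0, z.2) := fun z => rfl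
  -- projection killing the NN block
  let proj : Module.End A (M × N) →ₗ[R] Module.End A (M × N) :=
    LinearMap.id - (LinearMap.mulLeft R e) ∘ₗ (LinearMap.mulRight R e)
  have hproj : ∀ t, proj t = t - e * (t * e) := fun t => rfl
  have hprojNN : ∀ (t : Module.End A (M × N)) (n : N), (proj t (0, n)).2 = 0 := by
    intro t n
    rw [hproj, LinearMap.sub_apply, Module.End.mul_apply, Module.End.mul_apply, he, he,
      Prod.snd_sub]
    exact sub_self _
  obtain ⟨k, p', hp'⟩ := Module.Finite.exists_fin' R (Module.End A (M × N))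
  obtain ⟨sv, hsv⟩ := exists_isUnit_of_fibres hR (Module.End A (M × N)) k (proj ∘ₗ p')
    (fun m hm => by
      obtain ⟨ib, rb, hri⟩ := exists_fibre_summand (A := A) m (h m)
      obtain ⟨ψ, hψ⟩ := exists_lift_linearMap m sN πN hN ib
      obtain ⟨φ, hφ⟩ := exists_lift_linearMap m sM πM hM rb
      have hε : ∀ n : N, φ (ψ n) - n ∈ m • (⊤ : Submodule R N) := by
        intro n
        apply Groth.Agent.S16605.mem_smul_top_of_one_tmul_eq_zero
        rw [TensorProduct.tmul_sub, hφ, hψ, hri, sub_self]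
      let t : Module.End A (M × N) :=
        LinearMap.prod (LinearMap.coprod (LinearMap.id - ψ ∘ₗ φ) ψ) (LinearMap.coprod φ 0)
      have ht : ∀ x n, t (x, n) = (x - ψ (φ x) + ψ n, φ x) := by
        intro x n
        simp [t]
      have hprojt : proj t = t := by
        rw [hproj]
        have : e * (t * e) = 0 := by
          refine LinearMap.ext fun z => ?_
          rw [Module.End.mul_apply, Module.End.mul_apply, he, he, ht]
          simp
        rw [this, sub_zero]
      obtain ⟨s0, hs0⟩ := hp' t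
      refine ⟨s0, t, ?_⟩
      rw [LinearMap.comp_apply, hs0, hprojt]
      apply end_mem_smul_top hπs
      rintro ⟨x, n⟩
      have hcalc : (t * t - 1) (x, n) =
          ιM (ψ (φ (ψ (φ x - n)) - (φ x - n))) - ιN (φ (ψ (φ x - n)) - (φ x - n)) := by
        rw [LinearMap.sub_apply, Module.End.mul_apply, Module.End.one_apply, ht, ht]
        apply Prod.ext
        · simp only [map_sub, map_add, Prod.fst_sub, ιM, ιN, LinearMap.inl_apply,
            LinearMap.inr_apply, sub_zero]
          abel
        · simp only [map_sub, map_add, Prod.snd_sub, ιM, ιN, LinearMap.inl_apply,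
            LinearMap.inr_apply, zero_sub]
          abel
      rw [hcalc]
      exact sub_mem (map_mem_smul_top m ((ιM ∘ₗ ψ).restrictScalars R) (hε _))
        (map_mem_smul_top m (ιN.restrictScalars R) (hε _)))
  set u := (proj ∘ₗ p') sv with hu
  have hbij : Function.Bijective u := (Module.End.isUnit_iff _).mp hsv
  refine ⟨pN ∘ₗ u ∘ₗ ιM, fun n => ?_⟩
  obtain ⟨⟨x, n'⟩, hxn⟩ := hbij.2 (0, n)
  refine ⟨x, ?_⟩
  have h1 : ((x, n') : M × N) = ιM x + ιN n' := by
    simp [ιM, ιN]
  have h2 : (u (ιN n')).2 = 0 := hprojNN (p' sv) n'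
  show (u (ιM x)).2 = n
  have h3 := congrArg Prod.snd hxn
  rw [h1, map_add, Prod.snd_add, h2, add_zero] at h3
  exact h3

/-- rank form of `exists_surjective` (universe polymorphic version of S16603) -/
theorem exists_surjective_of_rankAtStalk_le (hR : LGRing.IsLGRing R) [IsAzumaya R A]
    (M : Type*) [AddCommGroup M] [Module A M] [Module R M] [IsScalarTower R A M]
    [Module.Finite A M] [Module.Projective A M]
    (N : Type*) [AddCommGroup N] [Module A N] [Module R N] [IsScalarTower R A N]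
    [Module.Finite A N] [Module.Projective A N]
    (h : ∀ p : PrimeSpectrum R, Module.rankAtStalk N p ≤ Module.rankAtStalk M p) :
    ∃ f : M →ₗ[A] N, Function.Surjective f := by
  haveI : Module.Finite R M := Module.Finite.trans A M
  haveI : Module.Finite R N := Module.Finite.trans A N
  haveI : Module.Projective R M := projective_of_module_projective (A := A) M
  haveI : Module.Projective R N := projective_of_module_projective (A := A) N
  refine exists_surjective hR M N (fun m hm => ?_)
  rw [LGCancel.finrank_quotient_tensor, LGCancel.finrank_quotient_tensor]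
  exact h _

/-- a surjection from an indecomposable module onto a nonzero projective module is an
isomorphism -/
theorem linearEquiv_of_surjective_of_indecomposable
    (P : Type*) [AddCommGroup P] [Module A P]
    (Q : Type*) [AddCommGroup Q] [Module A Q] [Module.Projective A Q] [Nontrivial Q]
    (hP : ∀ e : Module.End A P, IsIdempotentElem e → e = 0 ∨ e = 1)
    (f : P →ₗ[A] Q) (hf : Function.Surjective f) : Nonempty (P ≃ₗ[A] Q) := by
  obtain ⟨σ, hσ⟩ := Module.projective_lifting_property f LinearMap.id hf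
  have hσ' : ∀ q, f (σ q) = q := fun q => LinearMap.congr_fun hσ q
  let e : Module.End A P := σ ∘ₗ f
  have he : IsIdempotentElem e := by
    refine LinearMap.ext fun x => ?_
    show σ (f (σ (f x))) = σ (f x)
    rw [hσ']
  rcases hP e he with h0 | h1
  · exfalso
    obtain ⟨q, hq⟩ := exists_ne (0 : Q)
    apply hq
    have h2 : e (σ q) = 0 := by rw [h0, LinearMap.zero_apply]
    have h3 : f (e (σ q)) = q := by
      show f (σ (f (σ q))) = q
      rw [hσ', hσ']
    rw [← h3, h2, map_zero]
  · have hinj : Function.Injective f := by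
      intro x y hxy
      have hx : e x = x := by rw [h1, Module.End.one_apply]
      have hy : e y = y := by rw [h1, Module.End.one_apply]
      rw [← hx, ← hy]
      show σ (f x) = σ (f y)
      rw [hxy]
    exact ⟨LinearEquiv.ofBijective f ⟨hinj, hf⟩⟩

/-- universe polymorphic version of S16602 -/
theorem nonempty_linearEquiv_of_indecomposable (hR : LGRing.IsLGRing R)
    [ConnectedSpace (PrimeSpectrum R)] [IsAzumaya R A]
    (P : Type*) [AddCommGroup P] [Module A P] [Module.Finite A P] [Module.Projective A P]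
    [Nontrivial P]
    (Q : Type*) [AddCommGroup Q] [Module A Q] [Module.Finite A Q] [Module.Projective A Q]
    [Nontrivial Q]
    (hP : ∀ e : Module.End A P, IsIdempotentElem e → e = 0 ∨ e = 1)
    (hQ : ∀ e : Module.End A Q, IsIdempotentElem e → e = 0 ∨ e = 1) : Nonempty (P ≃ₗ[A] Q) := by
  letI : Module R P := Module.compHom P (algebraMap R A)
  haveI : IsScalarTower R A P := ⟨fun r a x => by
    show (r • a) • x = algebraMap R A r • (a • x)
    rw [Algebra.smul_def, mul_smul]⟩
  letI : Module R Q := Module.compHom Q (algebraMap R A)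
  haveI : IsScalarTower R A Q := ⟨fun r a x => by
    show (r • a) • x = algebraMap R A r • (a • x)
    rw [Algebra.smul_def, mul_smul]⟩
  haveI : Module.Finite R P := Module.Finite.trans A P
  haveI : Module.Finite R Q := Module.Finite.trans A Q
  haveI : Module.Projective R P := projective_of_module_projective (A := A) P
  haveI : Module.Projective R Q := projective_of_module_projective (A := A) Q
  haveI : Module.FinitePresentation R P := Module.finitePresentation_of_projective R P
  haveI : Module.FinitePresentation R Q := Module.finitePresentation_of_projective R Q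
  have hcP : ∀ p q : PrimeSpectrum R, rankAtStalk P p = rankAtStalk P q := fun p q =>
    (Module.isLocallyConstant_rankAtStalk (R := R) (M := P)).apply_eq_of_preconnectedSpace p q
  have hcQ : ∀ p q : PrimeSpectrum R, rankAtStalk Q p = rankAtStalk Q q := fun p q =>
    (Module.isLocallyConstant_rankAtStalk (R := R) (M := Q)).apply_eq_of_preconnectedSpace p q
  obtain ⟨p₀⟩ : Nonempty (PrimeSpectrum R) := inferInstance
  rcases le_total (rankAtStalk Q p₀) (rankAtStalk P p₀) with hle | hle
  · obtain ⟨f, hf⟩ := exists_surjective_of_rankAtStalk_le (A := A) hR P Q (fun p => by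
      rw [hcQ p p₀, hcP p p₀]; exact hle)
    exact linearEquiv_of_surjective_of_indecomposable (A := A) P Q hP f hf
  · obtain ⟨f, hf⟩ := exists_surjective_of_rankAtStalk_le (A := A) hR Q P (fun p => by
      rw [hcQ p p₀, hcP p p₀]; exact hle)
    obtain ⟨e⟩ := linearEquiv_of_surjective_of_indecomposable (A := A) Q P hQ f hf
    exact ⟨e.symm⟩

end Main

end Groth.Agent.Lib.Helper10.LGModules
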