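import Groth.Agent.S14501
import Groth.Prelude.Def_Tame
import Mathlib

/-!
# Distance between lattices over a one-dimensional Noetherian local domain

`dist M N = length(M/(M ∩ N)) - length(N/(M ∩ N))`; additivity is `Groth.Agent.S14501.result`.
Main result: `dist M (φ M) = ord (det φ)`.
-/

set_option autoImplicit false
universe u

namespace Groth.Agent.Lib.helper10.LatDist

open Groth.Agent.S14501

section OrdFrac

variable (A : Type u) [CommRing A] [IsDomain A] [IsNoetherianRing A] [Ring.KrullDimLE 1 A]
  (K : Type u) [Field K] [Algebra A K] [IsFractionRing A K]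

lemma ordFrac_def (f : K) :
    CycAlg.ordFrac A K f =
      WithZero.recZeroCoe (motive := fun _ => ℤ) 0 (fun z => Multiplicative.toAdd z)
        (Ring.ordFrac A f) := by
  have h : IsNoetherianRing A ∧ Ring.KrullDimLE 1 A ∧ Nontrivial A ∧ IsFractionRing A K :=
    ⟨inferInstance, inferInstance, inferInstance, inferInstance⟩
  unfold CycAlg.ordFrac
  rw [dif_pos h]

lemma ordFrac_mul {x y : K} (hx : x ≠ 0) (hy : y ≠ 0) :
    CycAlg.ordFrac A K (x * y) = CycAlg.ordFrac A K x + CycAlg.ordFrac A K y := by
  rw [ordFrac_def, ordFrac_def, ordFrac_def, map_mul]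
  have h1 : Ring.ordFrac A x ≠ 0 := by
    rw [Ne, map_eq_zero]; exact hx
  have h2 : Ring.ordFrac A y ≠ 0 := by
    rw [Ne, map_eq_zero]; exact hy
  obtain ⟨a, ha⟩ := WithZero.ne_zero_iff_exists.mp h1
  obtain ⟨b, hb⟩ := WithZero.ne_zero_iff_exists.mp h2
  rw [← ha, ← hb, ← WithZero.coe_mul]
  simp only [WithZero.recZeroCoe_coe, toAdd_mul]

lemma ordFrac_one : CycAlg.ordFrac A K 1 = 0 := by
  rw [ordFrac_def, map_one]
  rfl

lemma ordFrac_algebraMap {a : A} (ha : a ≠ 0) :
    CycAlg.ordFrac A K (algebraMap A K a) = ((Ring.ord A a).toNat : ℤ) := by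
  rw [ordFrac_def, Ring.ordFrac_eq_ord A ha,
    Ring.ordMonoidWithZeroHom_eq_ord (mem_nonZeroDivisors_iff_ne_zero.mpr ha)]
  have hfin : Ring.ord A a ≠ ⊤ := Ring.ord_ne_top (mem_nonZeroDivisors_iff_ne_zero.mpr ha)
  obtain ⟨n, hn⟩ := ENat.ne_top_iff_exists.mp hfin
  rw [← hn]
  simp

lemma ordFrac_inv {x : K} (hx : x ≠ 0) :
    CycAlg.ordFrac A K x⁻¹ = - CycAlg.ordFrac A K x := by
  have h := ordFrac_mul A K hx (inv_ne_zero hx)
  rw [mul_inv_cancel₀ hx, ordFrac_one] at h
  linarith

end OrdFrac

section Dist

variable {A : Type u} [CommRing A] {V : Type u} [AddCommGroup V] [Module A V]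

/-- the distance of two submodules (meaningful for lattices). -/
noncomputable def dist (M N : Submodule A V) : ℤ :=
  ((Module.length A (↥M ⧸ (M ⊓ N).submoduleOf M)).toNat : ℤ) -
    ((Module.length A (↥N ⧸ (M ⊓ N).submoduleOf N)).toNat : ℤ)

lemma dist_self (M : Submodule A V) : dist M M = 0 := sub_self _

/-- relative length is invariant under injective linear maps. -/
lemma length_map {V' : Type u} [AddCommGroup V'] [Module A V'] (e : V →ₗ[A] V')
    (he : Function.Injective e) (L M : Submodule A V) :
    Module.length A (↥(M.map e) ⧸ (L.map e).submoduleOf (M.map e)) =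
      Module.length A (↥M ⧸ L.submoduleOf M) := by
  let eM : ↥M ≃ₗ[A] ↥(M.map e) := Submodule.equivMapOfInjective e he M
  have h : (L.submoduleOf M).map (eM : ↥M →ₗ[A] ↥(M.map e)) =
      (L.map e).submoduleOf (M.map e) := by
    ext ⟨y, hy⟩
    constructor
    · rintro ⟨⟨x, hxM⟩, hxL, hxy⟩
      have : e x = y := congrArg Subtype.val hxy
      exact ⟨x, hxL, this⟩
    · rintro ⟨x, hxL, hxy⟩
      obtain ⟨x', hx'M, hx'y⟩ := hy
      have hxx : x = x' := he (by rw [hx'y]; exact hxy)
      subst hxx
      exact ⟨⟨x, hx'M⟩, hxL, Subtype.ext hxy⟩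
  exact (Submodule.Quotient.equiv _ _ eM h).length_eq.symm

lemma dist_map {V' : Type u} [AddCommGroup V'] [Module A V'] (e : V →ₗ[A] V')
    (he : Function.Injective e) (M N : Submodule A V) :
    dist (M.map e) (N.map e) = dist M N := by
  unfold dist
  rw [← Submodule.map_inf e he, length_map e he, length_map e he]

lemma dist_of_le {M N : Submodule A V} (h : N ≤ M) :
    dist M N = ((Module.length A (↥M ⧸ N.submoduleOf M)).toNat : ℤ) := by
  unfold dist
  rw [inf_eq_right.mpr h]
  have : Subsingleton (↥N ⧸ N.submoduleOf N) := by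
    rw [Submodule.Quotient.subsingleton_iff]
    exact Submodule.submoduleOf_self N
  have h0 : Module.length A (↥N ⧸ N.submoduleOf N) = 0 := Module.length_eq_zero
  rw [h0]
  simp

end Dist

section Lattice

variable {A : Type u} [CommRing A] [IsDomain A] [IsNoetherianRing A] [IsLocalRing A]
  (hA : ringKrullDim A = 1) (K : Type u) [Field K] [Algebra A K] [IsFractionRing A K]
  {V : Type u} [AddCommGroup V] [Module K V] [Module A V] [IsScalarTower A K V]
  [FiniteDimensional K V]

include hA in
lemma dist_add (M₁ M₂ M₃ : Submodule A V) [Submodule.IsLattice K M₁] [Submodule.IsLattice K M₂]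
    [Submodule.IsLattice K M₃] : dist M₁ M₃ = dist M₁ M₂ + dist M₂ M₃ :=
  Groth.Agent.S14501.result A hA K V M₁ M₂ M₃

include hA in
lemma dist_symm (M N : Submodule A V) [Submodule.IsLattice K M] [Submodule.IsLattice K N] :
    dist M N = - dist N M := by
  have h := dist_add hA K M N M
  rw [dist_self] at h
  linarith

omit [IsDomain A] [IsNoetherianRing A] [IsLocalRing A] [IsFractionRing A K]
  [FiniteDimensional K V] in
lemma isLattice_map (M : Submodule A V) [Submodule.IsLattice K M] (f : V →ₗ[K] V)
    (hf : Function.Surjective f) : Submodule.IsLattice K (M.map (f.restrictScalars A)) where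
  fg := Submodule.FG.map _ Submodule.IsLattice.fg
  span_eq_top := by
    have h1 : ((M.map (f.restrictScalars A) : Submodule A V) : Set V) = f '' (M : Set V) := rfl
    rw [h1, ← Submodule.map_span, Submodule.IsLattice.span_eq_top, Submodule.map_top,
      LinearMap.range_eq_top.mpr hf]

/-- `chi M f = dist M (f M)`. -/
noncomputable def chi (M : Submodule A V) (f : V →ₗ[K] V) : ℤ :=
  dist M (M.map (f.restrictScalars A))

include hA in
lemma chi_comp (M : Submodule A V) [Submodule.IsLattice K M] (f g : V →ₗ[K] V)
    (hf : Function.Bijective f) (hg : Function.Bijective g) :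
    chi K M (f ∘ₗ g) = chi K M f + chi K M g := by
  have := isLattice_map K M f hf.2
  have := isLattice_map K M g hg.2
  have := isLattice_map K (M.map (g.restrictScalars A)) f hf.2
  unfold chi
  have h1 : M.map ((f ∘ₗ g).restrictScalars A) =
      (M.map (g.restrictScalars A)).map (f.restrictScalars A) := by
    rw [← Submodule.map_comp]; rfl
  rw [h1, dist_add hA K M (M.map (f.restrictScalars A))
    ((M.map (g.restrictScalars A)).map (f.restrictScalars A)),
    dist_map (f.restrictScalars A) hf.1]

include hA in
lemma chi_indep (M N : Submodule A V) [Submodule.IsLattice K M] [Submodule.IsLattice K N]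
    (f : V →ₗ[K] V) (hf : Function.Bijective f) : chi K M f = chi K N f := by
  have := isLattice_map K M f hf.2
  have := isLattice_map K N f hf.2
  unfold chi
  rw [dist_add hA K M N (M.map (f.restrictScalars A)),
    dist_add hA K N (N.map (f.restrictScalars A)) (M.map (f.restrictScalars A)),
    dist_map (f.restrictScalars A) hf.1, dist_symm hA K M N]
  ring

omit [IsDomain A] [IsNoetherianRing A] [IsLocalRing A] [IsFractionRing A K]
  [FiniteDimensional K V] in
lemma chi_of_map_eq (M : Submodule A V) (f : V →ₗ[K] V)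
    (h : M.map (f.restrictScalars A) = M) : chi K M f = 0 := by
  unfold chi
  rw [h, dist_self]

omit [IsLocalRing A] [FiniteDimensional K V] in
include hA in
/-- finiteness of the relative lengths between lattices. -/
lemma length_lt_top (M N : Submodule A V) [Submodule.IsLattice K M] [Submodule.IsLattice K N] :
    Module.length A (↥M ⧸ (M ⊓ N).submoduleOf M) < ⊤ := by
  have hdim1 : Ring.KrullDimLE 1 A := by
    rw [Ring.krullDimLE_iff]
    exact hA.le
  rw [lt_top_iff_ne_top, Module.length_ne_top_iff]
  refine finiteLength_quot M (M ⊓ N) Submodule.IsLattice.fg (fun m hm => ?_)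
  obtain ⟨a, ha, hav⟩ := exists_smul_mem A K N Submodule.IsLattice.span_eq_top m
  exact ⟨a, ha, M.smul_mem _ hm, hav⟩

end Lattice

section Mat

set_option linter.unusedSectionVars false

open Matrix

variable {A : Type u} [CommRing A] [IsDomain A] [IsNoetherianRing A] [IsLocalRing A]
  (hA : ringKrullDim A = 1) (K : Type u) [Field K] [Algebra A K] [IsFractionRing A K]
  {V : Type u} [AddCommGroup V] [Module K V] [Module A V] [IsScalarTower A K V]
  [FiniteDimensional K V]
  {ι : Type} [Fintype ι] [DecidableEq ι] (b : Module.Basis ι K V)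

/-- the standard lattice of a basis. -/
def M0 (A : Type u) [CommRing A] {K : Type u} [Field K] [Algebra A K]
    {V : Type u} [AddCommGroup V] [Module K V] [Module A V] [IsScalarTower A K V]
    {ι : Type} (b : Module.Basis ι K V) : Submodule A V :=
  Submodule.span A (Set.range b)

lemma isLattice_M0 : Submodule.IsLattice K (M0 A b) where
  fg := Submodule.fg_span (Set.finite_range b)
  span_eq_top := by
    unfold M0
    rw [Submodule.span_span_of_tower, b.span_eq]

lemma mem_M0_iff (v : V) : v ∈ M0 A b ↔ ∀ i, b.repr v i ∈ Set.range (algebraMap A K) :=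
  b.mem_span_iff_repr_mem A v

lemma map_le_of_integral (T : Matrix ι ι K)
    (hT : ∀ i j, T i j ∈ Set.range (algebraMap A K)) :
    (M0 A b).map ((Matrix.toLin b b T).restrictScalars A) ≤ M0 A b := by
  rintro _ ⟨v, hv, rfl⟩
  rw [mem_M0_iff]
  intro i
  rw [LinearMap.restrictScalars_apply, Matrix.repr_toLin]
  rw [SetLike.mem_coe, mem_M0_iff] at hv
  change (∑ j, T i j * b.repr v j) ∈ ((algebraMap A K).range : Set K)
  exact Subring.sum_mem _ (fun j _ => Subring.mul_mem _ (hT i j) (hv j))

lemma bijective_toLin (T : Matrix ι ι K) (hT : T.det ≠ 0) :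
    Function.Bijective (Matrix.toLin b b T) := by
  have hu : IsUnit T.det := IsUnit.mk0 _ hT
  rw [Function.bijective_iff_has_inverse]
  refine ⟨Matrix.toLin b b T⁻¹, fun x => ?_, fun x => ?_⟩
  · rw [← Matrix.toLin_mul_apply, Matrix.nonsing_inv_mul T hu, Matrix.toLin_one, LinearMap.id_apply]
  · rw [← Matrix.toLin_mul_apply, Matrix.mul_nonsing_inv T hu, Matrix.toLin_one, LinearMap.id_apply]

lemma map_eq_of_integral (T T' : Matrix ι ι K) (hTT' : T * T' = 1)
    (hT : ∀ i j, T i j ∈ Set.range (algebraMap A K))
    (hT' : ∀ i j, T' i j ∈ Set.range (algebraMap A K)) :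
    (M0 A b).map ((Matrix.toLin b b T).restrictScalars A) = M0 A b := by
  refine le_antisymm (map_le_of_integral K b T hT) ?_
  have h1 : (M0 A b).map ((Matrix.toLin b b (T * T')).restrictScalars A) = M0 A b := by
    rw [hTT', Matrix.toLin_one]
    exact Submodule.map_id _
  have h2 : (M0 A b).map ((Matrix.toLin b b (T * T')).restrictScalars A) =
      ((M0 A b).map ((Matrix.toLin b b T').restrictScalars A)).map
        ((Matrix.toLin b b T).restrictScalars A) := by
    rw [← Submodule.map_comp, Matrix.toLin_mul b b b]; rfl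
  calc M0 A b = _ := h1.symm
    _ = _ := h2
    _ ≤ _ := Submodule.map_mono (map_le_of_integral K b T' hT')

/-- the invariant `X T = dist M0 (T M0)`. -/
noncomputable def X (A : Type u) [CommRing A] {K : Type u} [Field K] [Algebra A K]
    {V : Type u} [AddCommGroup V] [Module K V] [Module A V] [IsScalarTower A K V]
    {ι : Type} [Fintype ι] [DecidableEq ι] (b : Module.Basis ι K V) (T : Matrix ι ι K) : ℤ :=
  chi K (M0 A b) (Matrix.toLin b b T)

include hA in
lemma X_mul (T₁ T₂ : Matrix ι ι K) (h₁ : T₁.det ≠ 0) (h₂ : T₂.det ≠ 0) :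
    X A b (T₁ * T₂) = X A b T₁ + X A b T₂ := by
  have := isLattice_M0 (A := A) K b
  unfold X
  rw [Matrix.toLin_mul b b b]
  exact chi_comp hA K _ _ _ (bijective_toLin K b T₁ h₁) (bijective_toLin K b T₂ h₂)

/-- the property to be shown for all invertible matrices. -/
def P (A : Type u) [CommRing A] {K : Type u} [Field K] [Algebra A K]
    {V : Type u} [AddCommGroup V] [Module K V] [Module A V] [IsScalarTower A K V]
    {ι : Type} [Fintype ι] [DecidableEq ι] (b : Module.Basis ι K V) (T : Matrix ι ι K) : Prop :=
  X A b T = CycAlg.ordFrac A K T.det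

include hA in
lemma P_mul (T₁ T₂ : Matrix ι ι K) (h₁ : T₁.det ≠ 0) (h₂ : T₂.det ≠ 0)
    (p₁ : P A b T₁) (p₂ : P A b T₂) : P A b (T₁ * T₂) := by
  have hdim1 : Ring.KrullDimLE 1 A := by
    rw [Ring.krullDimLE_iff]
    exact hA.le
  unfold P at *
  rw [X_mul hA K b T₁ T₂ h₁ h₂, Matrix.det_mul, ordFrac_mul A K h₁ h₂, p₁, p₂]

include hA in
lemma P_of_integral (T T' : Matrix ι ι K) (hTT' : T * T' = 1) (hdet : T.det = 1)
    (hT : ∀ i j, T i j ∈ Set.range (algebraMap A K))
    (hT' : ∀ i j, T' i j ∈ Set.range (algebraMap A K)) : P A b T := by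
  have hdim1 : Ring.KrullDimLE 1 A := by
    rw [Ring.krullDimLE_iff]
    exact hA.le
  unfold P X
  rw [chi_of_map_eq K _ _ (map_eq_of_integral K b T T' hTT' hT hT'), hdet, ordFrac_one]

lemma transvection_integral (i j : ι) (a : A) (k l : ι) :
    Matrix.transvection i j (algebraMap A K a) k l ∈ Set.range (algebraMap A K) := by
  change _ ∈ ((algebraMap A K).range : Set K)
  rw [Matrix.transvection, Matrix.add_apply, Matrix.one_apply, Matrix.single_apply]
  refine Subring.add_mem _ ?_ ?_
  · split_ifs
    · exact Subring.one_mem _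
    · exact Subring.zero_mem _
  · split_ifs
    · exact ⟨a, rfl⟩
    · exact Subring.zero_mem _

include hA in
lemma P_transvection_int (i j : ι) (hij : i ≠ j) (a : A) :
    P A b (Matrix.transvection i j (algebraMap A K a)) := by
  refine P_of_integral hA K b _ (Matrix.transvection i j (algebraMap A K (-a))) ?_
    (Matrix.det_transvection_of_ne i j hij _) (transvection_integral K i j a)
    (transvection_integral K i j (-a))
  have h := Matrix.transvection_mul_transvection_same i j hij (algebraMap A K a) (algebraMap A K (-a))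
  rw [map_neg, add_neg_cancel, Matrix.transvection_zero] at h
  rw [map_neg]
  exact h

/-- single-entry diagonal matrix. -/
def E (k : ι) (c : K) : Matrix ι ι K := Matrix.diagonal (Function.update (fun _ => (1 : K)) k c)

lemma E_mul (k : ι) (c c' : K) : E K k c * E K k c' = E K k (c * c') := by
  unfold E
  rw [Matrix.diagonal_mul_diagonal]
  congr 1
  funext i
  by_cases h : i = k
  · subst h; simp
  · simp [Function.update_of_ne h]

lemma E_one (k : ι) : E K k 1 = 1 := by
  unfold E
  rw [Function.update_eq_self_iff.mpr rfl]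
  exact Matrix.diagonal_one

lemma det_E (k : ι) (c : K) : (E K k c).det = c := by
  unfold E
  rw [Matrix.det_diagonal, Finset.prod_update_of_mem (Finset.mem_univ k)]
  simp

lemma transvection_eq (i j : ι) (hij : i ≠ j) (a s : K) (hs : s ≠ 0) :
    Matrix.transvection i j (a / s) = E K i s⁻¹ * Matrix.transvection i j a * E K i s := by
  ext k l
  simp only [E, Matrix.diagonal_mul, Matrix.mul_diagonal, Matrix.transvection, Matrix.add_apply,
    Matrix.one_apply, Matrix.single_apply]
  by_cases hk : k = i
  · subst hk
    by_cases hl : l = k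
    · subst hl
      simp [Ne.symm hij, hs]
    · by_cases hlj : j = l
      · subst hlj
        simp [hl, Function.update_of_ne hl, Ne.symm hl, div_eq_inv_mul]
      · simp [hl, Function.update_of_ne hl, Ne.symm hl, hlj]
  · by_cases hl : l = i
    · subst hl
      simp [hk, Function.update_of_ne hk, Ne.symm hk]
    · by_cases hkl : k = l
      · subst hkl
        simp [Function.update_of_ne hk, Ne.symm hk]
      · simp [Function.update_of_ne hk, Function.update_of_ne hl, Ne.symm hk, hkl]

lemma E_integral (k : ι) (a : A) (i j : ι) :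
    E K k (algebraMap A K a) i j ∈ Set.range (algebraMap A K) := by
  change _ ∈ ((algebraMap A K).range : Set K)
  unfold E
  rw [Matrix.diagonal_apply]
  split_ifs with h
  · by_cases hik : i = k
    · subst hik
      rw [Function.update_self]
      exact ⟨a, rfl⟩
    · rw [Function.update_of_ne hik]
      exact Subring.one_mem _
  · exact Subring.zero_mem _

lemma repr_E (k : ι) (c : K) (v : V) (i : ι) :
    b.repr (Matrix.toLin b b (E K k c) v) i =
      Function.update (fun _ => (1 : K)) k c i * b.repr v i := by
  rw [Matrix.repr_toLin]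
  unfold E
  rw [Matrix.mulVec_diagonal]

include hA in
lemma P_E_int (k : ι) (a : A) (ha : a ≠ 0) : P A b (E K k (algebraMap A K a)) := by
  have hdim1 : Ring.KrullDimLE 1 A := by
    rw [Ring.krullDimLE_iff]
    exact hA.le
  have hinj : Function.Injective (algebraMap A K) := IsFractionRing.injective A K
  have ha' : algebraMap A K a ≠ 0 := fun h => ha (hinj (by rw [h, map_zero]))
  unfold P X chi
  rw [det_E, ordFrac_algebraMap A K ha]
  have hle : (M0 A b).map ((Matrix.toLin b b (E K k (algebraMap A K a))).restrictScalars A) ≤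
      M0 A b := map_le_of_integral K b _ (E_integral K k a)
  rw [dist_of_le hle]
  congr 2
  -- the coordinate map
  let bA : Module.Basis ι A ↥(M0 A b) := b.restrictScalars A
  have hbA : ∀ (m : ↥(M0 A b)) (i : ι), algebraMap A K (bA.repr m i) = b.repr (m : V) i :=
    fun m i => b.restrictScalars_repr_apply A m i
  let g : ↥(M0 A b) →ₗ[A] A ⧸ Ideal.span {a} :=
    (Submodule.mkQ (Ideal.span {a})) ∘ₗ (bA.coord k)
  have hg : Function.Surjective g := by
    intro q
    obtain ⟨r, rfl⟩ := Submodule.mkQ_surjective _ q
    refine ⟨r • bA k, ?_⟩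
    change Submodule.mkQ (Ideal.span {a}) (bA.coord k (r • bA k)) = _
    rw [map_smul, Module.Basis.coord_apply, Module.Basis.repr_self, Finsupp.single_eq_same,
      smul_eq_mul, mul_one]
  have hker : LinearMap.ker g =
      ((M0 A b).map ((Matrix.toLin b b (E K k (algebraMap A K a))).restrictScalars A)).submoduleOf
        (M0 A b) := by
    ext m
    rw [LinearMap.mem_ker, Submodule.submoduleOf, Submodule.mem_comap, Submodule.subtype_apply]
    change Submodule.mkQ (Ideal.span {a}) (bA.coord k m) = 0 ↔ _
    rw [Submodule.mkQ_apply, Submodule.Quotient.mk_eq_zero, Ideal.mem_span_singleton,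
      Module.Basis.coord_apply]
    constructor
    · rintro ⟨r, hr⟩
      -- preimage under the inverse diagonal matrix
      refine ⟨Matrix.toLin b b (E K k (algebraMap A K a)⁻¹) (m : V), ?_, ?_⟩
      · rw [SetLike.mem_coe, mem_M0_iff]
        intro i
        rw [repr_E]
        by_cases hik : i = k
        · subst hik
          rw [Function.update_self, ← hbA, hr, map_mul, ← mul_assoc, inv_mul_cancel₀ ha', one_mul]
          exact ⟨r, rfl⟩
        · rw [Function.update_of_ne hik, one_mul, ← hbA]
          exact ⟨_, rfl⟩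
      · rw [LinearMap.restrictScalars_apply, ← Matrix.toLin_mul_apply, E_mul,
          mul_inv_cancel₀ ha', E_one, Matrix.toLin_one, LinearMap.id_apply]
    · rintro ⟨y, hy, hym⟩
      rw [SetLike.mem_coe, mem_M0_iff] at hy
      obtain ⟨r, hr⟩ := hy k
      refine ⟨r, hinj ?_⟩
      rw [hbA, ← hym, LinearMap.restrictScalars_apply, repr_E, Function.update_self, map_mul, hr]
  exact ((Submodule.quotEquivOfEq _ _ hker.symm).trans
    (g.quotKerEquivOfSurjective hg)).length_eq

include hA in
lemma P_E (k : ι) (c : K) (hc : c ≠ 0) : P A b (E K k c) := by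
  have hdim1 : Ring.KrullDimLE 1 A := by
    rw [Ring.krullDimLE_iff]
    exact hA.le
  have hinj : Function.Injective (algebraMap A K) := IsFractionRing.injective A K
  obtain ⟨a, s, hs, rfl⟩ := IsFractionRing.div_surjective (A := A) c
  have hs0 : s ≠ 0 := nonZeroDivisors.ne_zero hs
  have hs' : algebraMap A K s ≠ 0 := fun h => hs0 (hinj (by rw [h, map_zero]))
  have ha0 : a ≠ 0 := by
    rintro rfl
    rw [map_zero, zero_div] at hc
    exact hc rfl
  have ha' : algebraMap A K a ≠ 0 := fun h => ha0 (hinj (by rw [h, map_zero]))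
  have p1 := P_E_int hA K b k a ha0
  have p2 := P_E_int hA K b k s hs0
  have hmul : E K k (algebraMap A K a / algebraMap A K s) * E K k (algebraMap A K s) =
      E K k (algebraMap A K a) := by
    rw [E_mul, div_mul_cancel₀ _ hs']
  have hX := X_mul hA K b (E K k (algebraMap A K a / algebraMap A K s)) (E K k (algebraMap A K s))
    (by rw [det_E]; exact hc) (by rw [det_E]; exact hs')
  rw [hmul] at hX
  unfold P at p1 p2 ⊢
  rw [det_E] at p1 p2 ⊢
  rw [p1, p2] at hX
  have e1 : CycAlg.ordFrac A K (algebraMap A K a / algebraMap A K s) =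
      CycAlg.ordFrac A K (algebraMap A K a) - CycAlg.ordFrac A K (algebraMap A K s) := by
    rw [div_eq_mul_inv, ordFrac_mul A K ha' (inv_ne_zero hs'), ordFrac_inv A K hs']
    ring
  rw [e1]
  linarith

include hA in
lemma P_one : P A b (1 : Matrix ι ι K) := by
  have hdim1 : Ring.KrullDimLE 1 A := by
    rw [Ring.krullDimLE_iff]
    exact hA.le
  unfold P X
  rw [chi_of_map_eq K _ _ (by rw [Matrix.toLin_one]; exact Submodule.map_id _), Matrix.det_one,
    ordFrac_one]

include hA in
lemma P_diag (D : ι → K) (hD : ∀ i, D i ≠ 0) : P A b (Matrix.diagonal D) := by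
  have key : ∀ s : Finset ι,
      P A b (Matrix.diagonal (fun i => if i ∈ s then D i else 1)) ∧
        (Matrix.diagonal (fun i => if i ∈ s then D i else 1)).det ≠ 0 := by
    intro s
    induction s using Finset.induction_on with
    | empty =>
      simp only [Finset.notMem_empty, if_false]
      rw [Matrix.diagonal_one]
      exact ⟨P_one hA K b, by rw [Matrix.det_one]; exact one_ne_zero⟩
    | insert i s his ih =>
      have hmul : Matrix.diagonal (fun j => if j ∈ insert i s then D j else 1) =
          E K i (D i) * Matrix.diagonal (fun j => if j ∈ s then D j else 1) := by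
        unfold E
        rw [Matrix.diagonal_mul_diagonal]
        congr 1
        funext j
        by_cases hji : j = i
        · subst hji
          simp [his]
        · simp [Function.update_of_ne hji, Finset.mem_insert, hji]
      rw [hmul]
      refine ⟨P_mul hA K b _ _ (by rw [det_E]; exact hD i) ih.2 (P_E hA K b i (D i) (hD i)) ih.1, ?_⟩
      rw [Matrix.det_mul, det_E]
      exact mul_ne_zero (hD i) ih.2
  have h := (key Finset.univ).1
  simpa using h

include hA in
lemma P_transvection (i j : ι) (hij : i ≠ j) (c : K) : P A b (Matrix.transvection i j c) := by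
  have hinj : Function.Injective (algebraMap A K) := IsFractionRing.injective A K
  obtain ⟨a, s, hs, rfl⟩ := IsFractionRing.div_surjective (A := A) c
  have hs0 : s ≠ 0 := nonZeroDivisors.ne_zero hs
  have hs' : algebraMap A K s ≠ 0 := fun h => hs0 (hinj (by rw [h, map_zero]))
  rw [transvection_eq K i j hij _ _ hs']
  refine P_mul hA K b _ _ ?_ (by rw [det_E]; exact hs') (P_mul hA K b _ _ ?_ ?_ ?_ ?_) ?_
  · rw [Matrix.det_mul, det_E, Matrix.det_transvection_of_ne i j hij, mul_one]
    exact inv_ne_zero hs'
  · rw [det_E]; exact inv_ne_zero hs'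
  · rw [Matrix.det_transvection_of_ne i j hij]; exact one_ne_zero
  · exact P_E hA K b i _ (inv_ne_zero hs')
  · exact P_transvection_int hA K b i j hij a
  · exact P_E hA K b i _ hs'

include hA in
theorem P_all (T : Matrix ι ι K) (hT : T.det ≠ 0) : P A b T := by
  refine Matrix.diagonal_transvection_induction_of_det_ne_zero (P A b) T hT ?_ ?_ ?_
  · intro D hD
    refine P_diag hA K b D (fun i hi => hD ?_)
    rw [Matrix.det_diagonal]
    exact Finset.prod_eq_zero (Finset.mem_univ i) hi
  · intro t
    exact P_transvection hA K b t.i t.j t.hij t.c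
  · intro T₁ T₂ h₁ h₂ p₁ p₂
    exact P_mul hA K b T₁ T₂ h₁ h₂ p₁ p₂

end Mat

section Main

variable {A : Type u} [CommRing A] [IsDomain A] [IsNoetherianRing A] [IsLocalRing A]
  (hA : ringKrullDim A = 1) (K : Type u) [Field K] [Algebra A K] [IsFractionRing A K]
  {V : Type u} [AddCommGroup V] [Module K V] [Module A V] [IsScalarTower A K V]
  [FiniteDimensional K V]

include hA in
/-- the distance from a lattice to its image under an automorphism is the order of the
determinant. -/
theorem dist_map_eq (M : Submodule A V) [Submodule.IsLattice K M] (φ : V ≃ₗ[K] V) :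
    dist M (M.map (φ.toLinearMap.restrictScalars A)) =
      CycAlg.ordFrac A K (LinearMap.det φ.toLinearMap) := by
  classical
  let b := Module.finBasis K V
  have := isLattice_M0 (A := A) K b
  have hdet : (LinearMap.toMatrix b b φ.toLinearMap).det = LinearMap.det φ.toLinearMap :=
    LinearMap.det_toMatrix b _
  have hne : (LinearMap.toMatrix b b φ.toLinearMap).det ≠ 0 := by
    rw [hdet]
    exact (LinearEquiv.isUnit_det' φ).ne_zero
  have h := P_all hA K b _ hne
  unfold P X at h
  rw [Matrix.toLin_toMatrix, hdet] at h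
  rw [← h]
  exact chi_indep hA K M (M0 A b) φ.toLinearMap φ.bijective

end Main

end Groth.Agent.Lib.helper10.LatDist
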