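import Mathlib

/-!
# Lifting finitely generated projective modules along a surjection `f : A → B`

* `exists_lift_of_idempotent_lift`: if idempotent matrices lift along `f`, then every f.g.
  projective `B`-module `P` has a f.g. projective lift `P'` over `A` with a semilinear
  surjection `P' → P` with kernel `ker f • ⊤`.
* `exists_equiv_of_le_jacobson`: if `ker f ≤ jacobson ⊥`, any two lifts are isomorphic
  compatibly with the projections.
* filtered-complete framework: `A` complete and separated for a chain of ideals `I n`,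
  `J = ker f` closed and topologically nil: `le_jacobson_of_filtered`,
  `exists_idempotent_lift_of_filtered`.
-/

set_option autoImplicit false

namespace Groth.Agent.Lib.helper10.LiftProj

open Matrix

universe u v w

section General

variable {A : Type u} {B : Type v} [CommRing A] [CommRing B] (f : A →+* B)

/-- componentwise application of `f`, as a semilinear map -/
def piMap (k : ℕ) : (Fin k → A) →ₛₗ[f] (Fin k → B) where
  toFun x := fun i => f (x i)
  map_add' x y := by ext i; simp
  map_smul' a x := by ext i; simp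

@[simp] lemma piMap_apply (k : ℕ) (x : Fin k → A) (i : Fin k) : piMap f k x i = f (x i) := rfl

lemma piMap_mulVec (k : ℕ) (E : Matrix (Fin k) (Fin k) A) (x : Fin k → A) :
    piMap f k (E *ᵥ x) = (E.map f) *ᵥ (piMap f k x) := by
  ext i
  exact RingHom.map_mulVec f E x i

theorem exists_lift_of_idempotent_lift (hf : Function.Surjective f)
    (H1 : ∀ (k : ℕ) (e : Matrix (Fin k) (Fin k) B), e * e = e →
      ∃ E : Matrix (Fin k) (Fin k) A, E * E = E ∧ E.map f = e)
    (P : Type w) [AddCommGroup P] [Module B P] [Module.Finite B P] [Module.Projective B P] :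
    ∃ (P' : Type u) (_ : AddCommGroup P') (_ : Module A P'),
      Module.Finite A P' ∧ Module.Projective A P' ∧
        ∃ π : P' →ₛₗ[f] P, Function.Surjective π ∧
          LinearMap.ker π = RingHom.ker f • (⊤ : Submodule A P') := by
  classical
  obtain ⟨k, fP, g, hsurj, hinj, hfg⟩ := Module.Finite.exists_comp_eq_id_of_projective B P
  have hfg' : ∀ y, fP (g y) = y := fun y => by
    have := congrArg (fun l => l y) hfg
    simpa using this
  set e : Matrix (Fin k) (Fin k) B := LinearMap.toMatrix' (g ∘ₗ fP) with he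
  have he_apply : ∀ v, e *ᵥ v = g (fP v) := by
    intro v
    rw [he, ← Matrix.toLin'_apply, Matrix.toLin'_toMatrix']
    rfl
  have hee : e * e = e := by
    rw [he, ← LinearMap.toMatrix'_comp]
    congr 1
    refine LinearMap.ext fun v => ?_
    simp only [LinearMap.comp_apply, hfg']
  obtain ⟨E, hEE, hEe⟩ := H1 k e hee
  have hEE' : ∀ v, E *ᵥ (E *ᵥ v) = E *ᵥ v := by
    intro v
    rw [Matrix.mulVec_mulVec, hEE]
  let P' : Submodule A (Fin k → A) := LinearMap.range (Matrix.toLin' E)
  have hmemP' : ∀ x : P', E *ᵥ x.1 = x.1 := by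
    rintro ⟨x, v, rfl⟩
    simp only [Matrix.toLin'_apply]
    exact hEE' v
  -- the retraction
  let s : (Fin k → A) →ₗ[A] P' := (Matrix.toLin' E).rangeRestrict
  have hs_val : ∀ v, (s v).1 = E *ᵥ v := fun v => by
    simp [s, LinearMap.rangeRestrict, Matrix.toLin'_apply]
  have hsi : s.comp P'.subtype = LinearMap.id := by
    ext x : 1
    apply Subtype.ext
    simp only [LinearMap.comp_apply, Submodule.subtype_apply, LinearMap.id_apply]
    rw [hs_val]
    exact hmemP' x
  refine ⟨P', inferInstance, inferInstance, ?_, ?_, ?_⟩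
  · exact Module.Finite.range _
  · exact Module.Projective.of_split P'.subtype s hsi
  · -- the projection
    let π : P' →ₛₗ[f] P :=
      { toFun := fun x => fP (piMap f k x.1)
        map_add' := fun x y => by simp
        map_smul' := fun a x => by simp }
    have hπ : ∀ x : P', π x = fP (piMap f k x.1) := fun x => rfl
    refine ⟨π, ?_, ?_⟩
    · intro y
      obtain ⟨x₀, hx₀⟩ : ∃ x₀ : Fin k → A, piMap f k x₀ = g y := by
        choose x₀ hx₀ using fun i => hf (g y i)
        exact ⟨x₀, funext hx₀⟩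
      refine ⟨s x₀, ?_⟩
      rw [hπ, hs_val, piMap_mulVec, hEe, hx₀, he_apply, hfg', hfg']
    · apply le_antisymm
      · intro x hx
        rw [LinearMap.mem_ker, hπ] at hx
        have h1 : piMap f k x.1 = 0 := by
          have h2 : e *ᵥ (piMap f k x.1) = 0 := by rw [he_apply, hx, map_zero]
          rw [← hEe, ← piMap_mulVec, hmemP'] at h2
          exact h2
        have hcoord : ∀ i, x.1 i ∈ RingHom.ker f := fun i => by
          have := congrFun h1 i
          simpa [RingHom.mem_ker] using this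
        have hx_eq : x = s x.1 := by
          apply Subtype.ext
          rw [hs_val, hmemP']
        have hsum : x.1 = ∑ i, x.1 i • (Pi.single i (1 : A) : Fin k → A) := by
          ext j
          simp [Finset.sum_apply, Pi.single_apply]
        rw [hx_eq, hsum, map_sum]
        refine Submodule.sum_mem _ fun i _ => ?_
        rw [map_smul]
        exact Submodule.smul_mem_smul (hcoord i) Submodule.mem_top
      · rw [Submodule.smul_le]
        intro a ha x _
        rw [LinearMap.mem_ker, map_smulₛₗ, (RingHom.mem_ker).1 ha, zero_smul]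

section Uniq

variable {P : Type w} [AddCommGroup P] [Module B P]

theorem bijective_of_comp_eq (hJ : RingHom.ker f ≤ Ideal.jacobson ⊥)
    {P₁ : Type*} [AddCommGroup P₁] [Module A P₁] [Module.Finite A P₁]
    (π₁ : P₁ →ₛₗ[f] P)
    (k₁ : LinearMap.ker π₁ = RingHom.ker f • (⊤ : Submodule A P₁))
    (T : P₁ →ₗ[A] P₁) (hT : ∀ x, π₁ (T x) = π₁ x) : Function.Bijective T := by
  have hsurj : Function.Surjective T := by
    rw [← LinearMap.range_eq_top, eq_top_iff]
    refine Submodule.le_of_le_smul_of_le_jacobson_bot (Module.Finite.fg_top) hJ ?_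
    intro x _
    have hx : x - T x ∈ LinearMap.ker π₁ := by
      rw [LinearMap.mem_ker, map_sub, hT, sub_self]
    rw [k₁] at hx
    have : x = T x + (x - T x) := by abel
    rw [this]
    exact Submodule.add_mem_sup (LinearMap.mem_range_self T x) hx
  exact OrzechProperty.bijective_of_surjective_endomorphism T hsurj

theorem exists_equiv_of_le_jacobson (hJ : RingHom.ker f ≤ Ideal.jacobson ⊥)
    (P₁ : Type*) [AddCommGroup P₁] [Module A P₁] [Module.Finite A P₁] [Module.Projective A P₁]
    (P₂ : Type*) [AddCommGroup P₂] [Module A P₂] [Module.Finite A P₂] [Module.Projective A P₂]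
    (π₁ : P₁ →ₛₗ[f] P) (π₂ : P₂ →ₛₗ[f] P)
    (h₁ : Function.Surjective π₁)
    (k₁ : LinearMap.ker π₁ = RingHom.ker f • (⊤ : Submodule A P₁))
    (h₂ : Function.Surjective π₂)
    (k₂ : LinearMap.ker π₂ = RingHom.ker f • (⊤ : Submodule A P₂)) :
    ∃ e : P₁ ≃ₗ[A] P₂, ∀ x, π₂ (e x) = π₁ x := by
  let _ : Module A P := Module.compHom P f
  let π₁' : P₁ →ₗ[A] P :=
    { toFun := π₁
      map_add' := π₁.map_add
      map_smul' := fun a x => π₁.map_smulₛₗ a x }
  let π₂' : P₂ →ₗ[A] P :=
    { toFun := π₂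
      map_add' := π₂.map_add
      map_smul' := fun a x => π₂.map_smulₛₗ a x }
  obtain ⟨Φ, hΦ⟩ := Module.projective_lifting_property π₂' π₁' h₂
  obtain ⟨Ψ, hΨ⟩ := Module.projective_lifting_property π₁' π₂' h₁
  have hΦ' : ∀ x, π₂ (Φ x) = π₁ x := fun x => congrArg (fun l => l x) hΦ
  have hΨ' : ∀ x, π₁ (Ψ x) = π₂ x := fun x => congrArg (fun l => l x) hΨ
  have b1 : Function.Bijective (Ψ ∘ₗ Φ) :=
    bijective_of_comp_eq f hJ π₁ k₁ (Ψ ∘ₗ Φ) (fun x => by
      rw [LinearMap.comp_apply, hΨ', hΦ'])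
  have b2 : Function.Bijective (Φ ∘ₗ Ψ) :=
    bijective_of_comp_eq f hJ π₂ k₂ (Φ ∘ₗ Ψ) (fun x => by
      rw [LinearMap.comp_apply, hΦ', hΨ'])
  have hinj : Function.Injective Φ := by
    have := b1.1
    rw [LinearMap.coe_comp] at this
    exact Function.Injective.of_comp this
  have hsur : Function.Surjective Φ := by
    have := b2.2
    rw [LinearMap.coe_comp] at this
    exact Function.Surjective.of_comp this
  exact ⟨LinearEquiv.ofBijective Φ ⟨hinj, hsur⟩, fun x => hΦ' x⟩

end Uniq

end General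


section Filtered

variable {A : Type u} [CommRing A] (I : ℕ → Ideal A) (J : Ideal A)

/-- entries of a product lie in the product ideal -/
lemma mul_entries_mem {k : ℕ} {𝔞 𝔟 : Ideal A} {M N : Matrix (Fin k) (Fin k) A}
    (hM : ∀ i j, M i j ∈ 𝔞) (hN : ∀ i j, N i j ∈ 𝔟) : ∀ i j, (M * N) i j ∈ 𝔞 * 𝔟 := by
  intro i j
  rw [Matrix.mul_apply]
  exact Ideal.sum_mem _ fun l _ => Ideal.mul_mem_mul (hM i l) (hN l j)

lemma mul_entries_mem_left {k : ℕ} {𝔞 : Ideal A} {M : Matrix (Fin k) (Fin k) A}
    (hM : ∀ i j, M i j ∈ 𝔞) (N : Matrix (Fin k) (Fin k) A) : ∀ i j, (M * N) i j ∈ 𝔞 := by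
  intro i j
  rw [Matrix.mul_apply]
  exact Ideal.sum_mem _ fun l _ => Ideal.mul_mem_right _ _ (hM i l)

lemma mul_entries_mem_right {k : ℕ} {𝔞 : Ideal A} {M : Matrix (Fin k) (Fin k) A}
    (hM : ∀ i j, M i j ∈ 𝔞) (N : Matrix (Fin k) (Fin k) A) : ∀ i j, (N * M) i j ∈ 𝔞 := by
  intro i j
  rw [Matrix.mul_apply]
  exact Ideal.sum_mem _ fun l _ => Ideal.mul_mem_left _ _ (hM l j)

/-- The Newton iteration `N ↦ 3N² - 2N³`. -/
def newton {k : ℕ} (E : Matrix (Fin k) (Fin k) A) : ℕ → Matrix (Fin k) (Fin k) A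
  | 0 => E
  | r + 1 => 3 • (newton E r * newton E r) - 2 • (newton E r * newton E r * newton E r)

lemma newton_step_sub {k : ℕ} (N : Matrix (Fin k) (Fin k) A) :
    3 • (N * N) - 2 • (N * N * N) - N = (N * N - N) * (1 - 2 • N) := by
  noncomm_ring

lemma newton_step_defect {k : ℕ} (N : Matrix (Fin k) (Fin k) A) :
    (3 • (N * N) - 2 • (N * N * N)) * (3 • (N * N) - 2 • (N * N * N))
      - (3 • (N * N) - 2 • (N * N * N)) =
    (N * N - N) * (N * N - N) * (4 • (N * N - N) - 3) := by
  noncomm_ring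

lemma newton_spec {k : ℕ} (E : Matrix (Fin k) (Fin k) A) (𝔠 : Ideal A)
    (h𝔠 : ∀ i j, (E * E - E) i j ∈ 𝔠) (r : ℕ) :
    (∀ i j, (newton E r * newton E r - newton E r) i j ∈ 𝔠 ^ (2 ^ r)) ∧
      (∀ i j, (newton E r - E) i j ∈ 𝔠) := by
  induction r with
  | zero =>
    refine ⟨?_, ?_⟩
    · simpa [newton] using h𝔠
    · intro i j; simp [newton]
  | succ r ih =>
    obtain ⟨ih1, ih2⟩ := ih
    refine ⟨?_, ?_⟩
    · show ∀ i j, ((3 • (newton E r * newton E r) - 2 • (newton E r * newton E r * newton E r)) *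
          (3 • (newton E r * newton E r) - 2 • (newton E r * newton E r * newton E r))
          - (3 • (newton E r * newton E r) - 2 • (newton E r * newton E r * newton E r))) i j ∈ _
      rw [newton_step_defect]
      have h2 : 𝔠 ^ (2 ^ (r + 1)) = 𝔠 ^ (2 ^ r) * 𝔠 ^ (2 ^ r) := by
        rw [← pow_add, pow_succ, mul_two]
      rw [h2]
      exact mul_entries_mem_left (mul_entries_mem ih1 ih1) _
    · intro i j
      have : newton E (r + 1) - E =
          (newton E r * newton E r - newton E r) * (1 - 2 • newton E r) + (newton E r - E) := by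
        rw [← newton_step_sub]
        show 3 • (newton E r * newton E r) - 2 • (newton E r * newton E r * newton E r) - E = _
        abel
      rw [this, Matrix.add_apply]
      refine Ideal.add_mem _ ?_ (ih2 i j)
      have hle : 𝔠 ^ (2 ^ r) ≤ 𝔠 := Ideal.pow_le_self (by positivity)
      exact mul_entries_mem_left (fun i j => hle (ih1 i j)) _ i j

/-- A finitely generated ideal whose generators are nilpotent modulo `I'` has a power in `I'`. -/
lemma exists_pow_le_of_span_finite {ι : Type*} [Finite ι] (g : ι → A) (I' : Ideal A)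
    (hg : ∀ i, ∃ m, g i ^ m ∈ I') : ∃ t, Ideal.span (Set.range g) ^ t ≤ I' := by
  set 𝔠 := Ideal.span (Set.range g)
  have hfg : (𝔠.map (Ideal.Quotient.mk I')).FG :=
    Ideal.FG.map ⟨(Set.finite_range g).toFinset, by simp [𝔠]⟩ _
  have hle : 𝔠.map (Ideal.Quotient.mk I') ≤ nilradical (A ⧸ I') := by
    rw [Ideal.map_le_iff_le_comap, Ideal.span_le]
    rintro _ ⟨i, rfl⟩
    obtain ⟨m, hm⟩ := hg i
    show Ideal.Quotient.mk I' (g i) ∈ nilradical _
    rw [mem_nilradical]
    exact ⟨m, by rw [← map_pow]; exact Ideal.Quotient.eq_zero_iff_mem.2 hm⟩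
  obtain ⟨t, ht⟩ := hfg.isNilpotent_iff_le_nilradical.2 hle
  refine ⟨t, ?_⟩
  have : (𝔠 ^ t).map (Ideal.Quotient.mk I') = ⊥ := by
    rw [Ideal.map_pow]; exact ht
  rw [Ideal.map_eq_bot_iff_le_ker, Ideal.mk_ker] at this
  exact this

variable {I J}

/-- `1 + z` is a unit for `z ∈ J`, when `A` is complete and separated for the chain `I` and
every element of `J` is nilpotent modulo each `I n`. -/
theorem isUnit_one_add_of_filtered
    (hsep : ∀ y, (∀ n, y ∈ I n) → y = 0)
    (hcomp : ∀ x : ℕ → A, (∀ n, x (n + 1) - x n ∈ I n) → ∃ y, ∀ n, y - x n ∈ I n)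
    (hnilp : ∀ z ∈ J, ∀ n, ∃ m, z ^ m ∈ I n) {z : A} (hz : z ∈ J) : IsUnit (1 + z) := by
  classical
  choose m hm using hnilp z hz
  let M : ℕ → ℕ := fun n => (Finset.range (n + 1)).sup m
  have hMm : ∀ n, m n ≤ M n := fun n =>
    Finset.le_sup (f := m) (Finset.mem_range.2 (Nat.lt_succ_self n))
  have hMmono : ∀ n, M n ≤ M (n + 1) := fun n =>
    Finset.sup_mono (Finset.range_mono (Nat.le_succ _))
  have hpow : ∀ n i, m n ≤ i → (-z) ^ i ∈ I n := by
    intro n i hi
    obtain ⟨j, rfl⟩ := Nat.exists_eq_add_of_le hi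
    have : (-z) ^ (m n + j) = ((-1) ^ (m n + j) * z ^ j) * z ^ (m n) := by
      rw [neg_pow, pow_add z]; ring
    rw [this]
    exact Ideal.mul_mem_left _ _ (hm n)
  let s : ℕ → A := fun k => ∑ i ∈ Finset.range k, (-z) ^ i
  have hs : ∀ k, (1 + z) * s k = 1 - (-z) ^ k := by
    intro k
    have := mul_neg_geom_sum (-z) k
    rwa [sub_neg_eq_add] at this
  obtain ⟨u, hu⟩ := hcomp (fun n => s (M n)) (by
    intro n
    show s (M (n + 1)) - s (M n) ∈ I n
    simp only [s]
    rw [← Finset.sum_Ico_eq_sub _ (hMmono n)]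
    refine Ideal.sum_mem _ fun i hi => ?_
    exact hpow n i ((hMm n).trans (Finset.mem_Ico.1 hi).1))
  have h1 : (1 + z) * u - 1 = 0 := by
    apply hsep
    intro n
    have : (1 + z) * u - 1 = (1 + z) * (u - s (M n)) - (-z) ^ (M n) := by
      rw [mul_sub, hs]; ring
    rw [this]
    exact Ideal.sub_mem _ (Ideal.mul_mem_left _ _ (hu n)) (hpow n _ (hMm n))
  have h2 : (1 + z) * u = 1 := sub_eq_zero.1 h1
  exact ⟨⟨1 + z, u, h2, by rw [mul_comm]; exact h2⟩, rfl⟩

theorem le_jacobson_of_filtered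
    (hsep : ∀ y, (∀ n, y ∈ I n) → y = 0)
    (hcomp : ∀ x : ℕ → A, (∀ n, x (n + 1) - x n ∈ I n) → ∃ y, ∀ n, y - x n ∈ I n)
    (hnilp : ∀ z ∈ J, ∀ n, ∃ m, z ^ m ∈ I n) : J ≤ Ideal.jacobson ⊥ := by
  intro z hz
  rw [Ideal.mem_jacobson_bot]
  intro y
  rw [add_comm]
  exact isUnit_one_add_of_filtered hsep hcomp hnilp (J.mul_mem_right y hz)

/-- Idempotent matrices lift along `f : A → B` with kernel `J`, when `A` is complete and
separated for the chain `I`, `J` is closed, and every element of `J` is nilpotent modulo each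
`I n`. -/
theorem exists_idempotent_lift_of_filtered {B : Type v} [CommRing B] (f : A →+* B)
    (hf : Function.Surjective f) (hJ : RingHom.ker f = J)
    (hI0 : I 0 = ⊤)
    (hsep : ∀ y, (∀ n, y ∈ I n) → y = 0)
    (hcomp : ∀ x : ℕ → A, (∀ n, x (n + 1) - x n ∈ I n) → ∃ y, ∀ n, y - x n ∈ I n)
    (hclosed : ∀ y, (∀ n, ∃ z ∈ J, y - z ∈ I n) → y ∈ J)
    (hnilp : ∀ z ∈ J, ∀ n, ∃ m, z ^ m ∈ I n)
    (k : ℕ) (e : Matrix (Fin k) (Fin k) B) (he : e * e = e) :
    ∃ E : Matrix (Fin k) (Fin k) A, E * E = E ∧ E.map f = e := by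
  classical
  -- the invariant
  let Q : ℕ → Matrix (Fin k) (Fin k) A → Prop := fun n E =>
    E.map f = e ∧ ∀ i j, (E * E - E) i j ∈ I n
  have hmapmul : ∀ M N : Matrix (Fin k) (Fin k) A, (M * N).map f = M.map f * N.map f :=
    fun M N => Matrix.map_mul
  -- the step
  have step : ∀ n (E : {E // Q n E}), ∃ E' : {E' // Q (n + 1) E'},
      ∀ i j, (E'.1 - E.1) i j ∈ I n := by
    rintro n ⟨E, hE1, hE2⟩
    have hdJ : ∀ i j, (E * E - E) i j ∈ J := by
      intro i j
      rw [← hJ, RingHom.mem_ker]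
      have : (E * E - E).map f = 0 := by
        rw [Matrix.map_sub (f := f) (fun a b => map_sub f a b), hmapmul, hE1, he, sub_self]
      have := congrFun (congrFun this i) j
      simpa using this
    let g : Fin k × Fin k → A := fun ij => (E * E - E) ij.1 ij.2
    set 𝔠 := Ideal.span (Set.range g) with h𝔠
    have h𝔠le : 𝔠 ≤ I n ⊓ J := by
      rw [h𝔠, Ideal.span_le]
      rintro _ ⟨ij, rfl⟩
      exact ⟨hE2 _ _, hdJ _ _⟩
    obtain ⟨t, ht⟩ := exists_pow_le_of_span_finite g (I (n + 1))
      (fun ij => hnilp _ (hdJ _ _) (n + 1))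
    have hd𝔠 : ∀ i j, (E * E - E) i j ∈ 𝔠 := fun i j =>
      Ideal.subset_span ⟨(i, j), rfl⟩
    obtain ⟨r, hr⟩ : ∃ r, t ≤ 2 ^ r := ⟨t, (Nat.lt_two_pow_self).le⟩
    obtain ⟨hN1, hN2⟩ := newton_spec E 𝔠 hd𝔠 r
    have hsubJ : ∀ i j, (newton E r - E) i j ∈ J := fun i j => (h𝔠le (hN2 i j)).2
    refine ⟨⟨newton E r, ?_, ?_⟩, ?_⟩
    · rw [← hE1]
      ext i j
      have := hsubJ i j
      rw [← hJ, RingHom.mem_ker, Matrix.sub_apply, map_sub, sub_eq_zero] at this
      simpa using this
    · intro i j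
      exact ht (Ideal.pow_le_pow_right hr (hN1 i j))
    · intro i j
      exact (h𝔠le (hN2 i j)).1
  choose next hnext using step
  -- starting point
  obtain ⟨E0, hE0⟩ : ∃ E0 : Matrix (Fin k) (Fin k) A, E0.map f = e := by
    choose E0 hE0 using fun i j => hf (e i j)
    exact ⟨Matrix.of E0, by ext i j; simp [hE0]⟩
  have hQ0 : Q 0 E0 := ⟨hE0, fun i j => by rw [hI0]; trivial⟩
  let s : (n : ℕ) → {E // Q n E} := fun n => Nat.rec ⟨E0, hQ0⟩ (fun n E => next n E) n
  have hs_succ : ∀ n, s (n + 1) = next n (s n) := fun n => rfl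
  have hdiff : ∀ n i j, ((s (n + 1)).1 - (s n).1) i j ∈ I n := by
    intro n i j
    rw [hs_succ]
    exact hnext n (s n) i j
  -- the limit
  have hlim : ∀ i j, ∃ y, ∀ n, y - (s n).1 i j ∈ I n := by
    intro i j
    apply hcomp (fun n => (s n).1 i j)
    intro n
    have := hdiff n i j
    simpa using this
  choose L hL using hlim
  let LM : Matrix (Fin k) (Fin k) A := Matrix.of L
  have hLM : ∀ n i j, (LM - (s n).1) i j ∈ I n := fun n i j => by
    simpa [LM] using hL i j n
  refine ⟨LM, ?_, ?_⟩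
  · -- idempotent
    have : LM * LM - LM = 0 := by
      ext i j
      apply hsep
      intro n
      have hid : LM * LM - LM = (LM - (s n).1) * LM + (s n).1 * (LM - (s n).1)
          + ((s n).1 * (s n).1 - (s n).1) - (LM - (s n).1) := by
        noncomm_ring
      rw [hid]
      simp only [Matrix.sub_apply, Matrix.add_apply] 
      refine Ideal.sub_mem _ (Ideal.add_mem _ (Ideal.add_mem _ ?_ ?_) ?_) ?_
      · exact mul_entries_mem_left (hLM n) _ i j
      · exact mul_entries_mem_right (hLM n) _ i j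
      · have := (s n).2.2 i j
        simpa using this
      · have := hLM n i j
        simpa using this
    exact sub_eq_zero.1 this
  · -- maps to e
    ext i j
    have hmem : (LM - E0) i j ∈ J := by
      apply hclosed
      intro n
      refine ⟨((s n).1 - E0) i j, ?_, ?_⟩
      · rw [← hJ, RingHom.mem_ker, Matrix.sub_apply, map_sub, sub_eq_zero]
        have h1 := congrFun (congrFun (s n).2.1 i) j
        have h2 := congrFun (congrFun hE0 i) j
        simp only [Matrix.map_apply] at h1 h2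
        rw [h1, h2]
      · have := hLM n i j
        simp only [Matrix.sub_apply] at this ⊢
        convert this using 1
        ring
    rw [← hJ, RingHom.mem_ker, Matrix.sub_apply, map_sub, sub_eq_zero] at hmem
    have h2 := congrFun (congrFun hE0 i) j
    simp only [Matrix.map_apply] at h2 ⊢
    rw [hmem, h2]

end Filtered


section Witt

open WittVector

variable (p : ℕ) [hp : Fact p.Prime] {S : Type u} [CommRing S]

local notation "𝕎" => WittVector p

/-- the `V`-adic chain of ideals of `W(S)`: vectors whose first `n` coefficients vanish -/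
noncomputable def Ifil (n : ℕ) : Ideal (𝕎 S) := RingHom.ker (WittVector.truncate (p := p) (R := S) n)

variable {p}

lemma mem_Ifil {n : ℕ} {x : 𝕎 S} : x ∈ Ifil p n ↔ ∀ i < n, x.coeff i = 0 :=
  WittVector.mem_ker_truncate n x

lemma sub_mem_Ifil {n : ℕ} {x y : 𝕎 S} :
    x - y ∈ Ifil p n ↔ ∀ i < n, x.coeff i = y.coeff i := by
  rw [Ifil, RingHom.mem_ker, map_sub, sub_eq_zero, TruncatedWittVector.ext_iff]
  simp only [WittVector.coeff_truncate]
  exact Fin.forall_iff

lemma Ifil_zero : Ifil p 0 = (⊤ : Ideal (𝕎 S)) := by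
  rw [eq_top_iff]
  intro x _
  rw [mem_Ifil]
  intro i hi
  omega

lemma Ifil_sep (y : 𝕎 S) (h : ∀ n, y ∈ Ifil p n) : y = 0 := by
  ext i
  rw [WittVector.zero_coeff]
  exact mem_Ifil.1 (h (i + 1)) i (Nat.lt_succ_self i)

lemma Ifil_complete (x : ℕ → 𝕎 S) (hx : ∀ n, x (n + 1) - x n ∈ Ifil p n) :
    ∃ y, ∀ n, y - x n ∈ Ifil p n := by
  have key : ∀ n m, n ≤ m → ∀ i < n, (x m).coeff i = (x n).coeff i := by
    intro n m hnm
    induction m, hnm using Nat.le_induction with
    | base => intro i _; rfl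
    | succ m hnm ih =>
      intro i hi
      rw [← ih i hi]
      exact sub_mem_Ifil.1 (hx m) i (lt_of_lt_of_le hi hnm)
  refine ⟨WittVector.mk p (fun i => (x (i + 1)).coeff i), fun n => ?_⟩
  rw [sub_mem_Ifil]
  intro i hi
  rw [WittVector.coeff_mk]
  exact (key (i + 1) n hi i (Nat.lt_succ_self i)).symm

lemma iterate_frobenius_iterate_verschiebung (z : 𝕎 S) (n : ℕ) :
    frobenius^[n] (verschiebung^[n] z) = (p : 𝕎 S) ^ n * z := by
  induction n generalizing z with
  | zero => simp
  | succ n ih =>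
    have h1 : frobenius^[n + 1] (verschiebung^[n + 1] z)
        = frobenius (frobenius^[n] (verschiebung^[n] (verschiebung z))) := by
      rw [Function.iterate_succ_apply' frobenius, Function.iterate_succ_apply verschiebung]
    rw [h1, ih, map_mul, map_pow, map_natCast, frobenius_verschiebung]
    ring

lemma iterate_verschiebung_pow (z : 𝕎 S) (n t : ℕ) :
    (verschiebung^[n] z) ^ (t + 1)
      = verschiebung^[n] ((p : 𝕎 S) ^ (n * t) * z ^ (t + 1)) := by
  induction t with
  | zero => simp
  | succ t ih =>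
    rw [pow_succ, ih, iterate_verschiebung_mul_left, iterate_frobenius_iterate_verschiebung]
    congr 1
    ring

/-- A Witt vector whose first `n` coefficients are nilpotent is nilpotent modulo `V^n`. -/
lemma exists_pow_mem_Ifil (n : ℕ) (x : 𝕎 S) (hx : ∀ i < n, IsNilpotent (x.coeff i)) :
    ∃ m, x ^ m ∈ Ifil p n := by
  induction n with
  | zero => exact ⟨0, by rw [Ifil_zero]; trivial⟩
  | succ n ih =>
    obtain ⟨m, hm⟩ := ih (fun i hi => hx i (by omega))
    have hm' : x ^ (m + 1) ∈ Ifil p n := by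
      rw [pow_succ]; exact Ideal.mul_mem_right _ _ hm
    obtain ⟨y, hy⟩ : ∃ y, y = x ^ (m + 1) := ⟨_, rfl⟩
    rw [← hy] at hm'
    have hyn : IsNilpotent (y.coeff n) := by
      let ψ : 𝕎 S →+* TruncatedWittVector p (n + 1) (S ⧸ nilradical S) :=
        (WittVector.truncate (n + 1)).comp (WittVector.map (Ideal.Quotient.mk (nilradical S)))
      have hψx : ψ x = 0 := by
        rw [TruncatedWittVector.ext_iff]
        intro i
        simp only [ψ, RingHom.comp_apply, WittVector.coeff_truncate, WittVector.map_coeff,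
          TruncatedWittVector.coeff_zero]
        exact Ideal.Quotient.eq_zero_iff_mem.2 (mem_nilradical.2 (hx i i.2))
      have hψy : ψ y = 0 := by
        rw [hy, map_pow, hψx, zero_pow (Nat.succ_ne_zero m)]
      have h1 := (TruncatedWittVector.ext_iff.1 hψy) (Fin.last n)
      simp only [ψ, RingHom.comp_apply, WittVector.coeff_truncate, WittVector.map_coeff,
        TruncatedWittVector.coeff_zero, Fin.val_last] at h1
      exact mem_nilradical.1 (Ideal.Quotient.eq_zero_iff_mem.1 h1)
    obtain ⟨t, ht⟩ := hyn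
    have hyV : y = verschiebung^[n] (y.shift n) :=
      WittVector.eq_iterate_verschiebung (mem_Ifil.1 hm')
    refine ⟨(m + 1) * (t + 1), ?_⟩
    rw [pow_mul, ← hy, mem_Ifil]
    intro i hi
    rcases Nat.lt_succ_iff_lt_or_eq.1 hi with h | h
    · exact mem_Ifil.1 (Ideal.pow_mem_of_mem _ hm' _ (Nat.succ_pos t)) i h
    · rw [h]
      have h2 : (y ^ (t + 1)).coeff n
          = ((p : 𝕎 S) ^ (n * t) * (y.shift n) ^ (t + 1)).coeff 0 := by
        conv_lhs => rw [hyV, iterate_verschiebung_pow]
        have := WittVector.iterate_verschiebung_coeff (p := p)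
          ((p : 𝕎 S) ^ (n * t) * (y.shift n) ^ (t + 1)) n 0
        rw [zero_add] at this
        exact this
      rw [h2]
      show WittVector.constantCoeff ((p : 𝕎 S) ^ (n * t) * (y.shift n) ^ (t + 1)) = 0
      rw [map_mul, map_pow, map_pow]
      have h3 : WittVector.constantCoeff (y.shift n) = y.coeff n := by
        show (y.shift n).coeff 0 = _
        rw [WittVector.shift_coeff, add_zero]
      rw [h3, pow_succ, ht, zero_mul, mul_zero]

variable {R : Type u} [CommRing R] (φ : S →+* R)

lemma mem_ker_map {x : 𝕎 S} :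
    x ∈ RingHom.ker (WittVector.map (p := p) φ) ↔ ∀ i, φ (x.coeff i) = 0 := by
  rw [RingHom.mem_ker, WittVector.ext_iff]
  simp only [WittVector.map_coeff, WittVector.zero_coeff]

lemma ker_map_closed (y : 𝕎 S)
    (h : ∀ n, ∃ z ∈ RingHom.ker (WittVector.map (p := p) φ), y - z ∈ Ifil p n) :
    y ∈ RingHom.ker (WittVector.map (p := p) φ) := by
  rw [mem_ker_map]
  intro i
  obtain ⟨z, hz, hyz⟩ := h (i + 1)
  rw [sub_mem_Ifil.1 hyz i (Nat.lt_succ_self i)]
  exact (mem_ker_map φ).1 hz i

lemma ker_map_nilp (hnil : ∀ a : S, φ a = 0 → IsNilpotent a)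
    (z : 𝕎 S) (hz : z ∈ RingHom.ker (WittVector.map (p := p) φ)) (n : ℕ) :
    ∃ m, z ^ m ∈ Ifil p n :=
  exists_pow_mem_Ifil n z (fun i _ => hnil _ ((mem_ker_map φ).1 hz i))

/-- The kernel of `W(S) → W(R)` lies in the Jacobson radical when `ker (S → R)` is nil. -/
theorem ker_map_le_jacobson (hnil : ∀ a : S, φ a = 0 → IsNilpotent a) :
    RingHom.ker (WittVector.map (p := p) φ) ≤ Ideal.jacobson ⊥ :=
  le_jacobson_of_filtered (I := Ifil p) Ifil_sep Ifil_complete (ker_map_nilp φ hnil)

/-- Idempotent matrices lift along `W(S) → W(R)` when `S → R` is surjective with nil kernel. -/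
theorem witt_idempotent_lift (hφ : Function.Surjective φ)
    (hnil : ∀ a : S, φ a = 0 → IsNilpotent a)
    (k : ℕ) (e : Matrix (Fin k) (Fin k) (𝕎 R)) (he : e * e = e) :
    ∃ E : Matrix (Fin k) (Fin k) (𝕎 S), E * E = E ∧ E.map (WittVector.map (p := p) φ) = e :=
  exists_idempotent_lift_of_filtered (I := Ifil p) (WittVector.map (p := p) φ)
    (WittVector.map_surjective φ hφ) rfl Ifil_zero Ifil_sep Ifil_complete
    (ker_map_closed φ) (ker_map_nilp φ hnil) k e he

/-- Finitely generated projective modules lift along `W(S) → W(R)`, uniquely up to isomorphism,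
when `S → R` is surjective with nil kernel. -/
theorem witt_lift_finite_projective (hφ : Function.Surjective φ)
    (hnil : ∀ a : S, φ a = 0 → IsNilpotent a)
    (P : Type u) [AddCommGroup P] [Module (WittVector p R) P]
    [Module.Finite (WittVector p R) P] [Module.Projective (WittVector p R) P] :
    (∃ (P' : Type u) (_ : AddCommGroup P') (_ : Module (WittVector p S) P'),
        Module.Finite (WittVector p S) P' ∧ Module.Projective (WittVector p S) P' ∧
          ∃ π : P' →ₛₗ[WittVector.map (p := p) φ] P, Function.Surjective π ∧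
            LinearMap.ker π = RingHom.ker (WittVector.map (p := p) φ) •
              (⊤ : Submodule (WittVector p S) P')) ∧
      ∀ (P₁ : Type u) [AddCommGroup P₁] [Module (WittVector p S) P₁]
        [Module.Finite (WittVector p S) P₁] [Module.Projective (WittVector p S) P₁]
        (P₂ : Type u) [AddCommGroup P₂] [Module (WittVector p S) P₂]
        [Module.Finite (WittVector p S) P₂] [Module.Projective (WittVector p S) P₂]
        (π₁ : P₁ →ₛₗ[WittVector.map (p := p) φ] P) (π₂ : P₂ →ₛₗ[WittVector.map (p := p) φ] P),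
        Function.Surjective π₁ →
          LinearMap.ker π₁ = RingHom.ker (WittVector.map (p := p) φ) •
            (⊤ : Submodule (WittVector p S) P₁) →
        Function.Surjective π₂ →
          LinearMap.ker π₂ = RingHom.ker (WittVector.map (p := p) φ) •
            (⊤ : Submodule (WittVector p S) P₂) →
        ∃ e : P₁ ≃ₗ[WittVector p S] P₂, ∀ x : P₁, π₂ (e x) = π₁ x := by
  refine ⟨?_, ?_⟩
  · exact exists_lift_of_idempotent_lift (WittVector.map (p := p) φ)
      (WittVector.map_surjective φ hφ) (witt_idempotent_lift φ hφ hnil) P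
  · intro P₁ _ _ _ _ P₂ _ _ _ _ π₁ π₂ h₁ k₁ h₂ k₂
    exact exists_equiv_of_le_jacobson (WittVector.map (p := p) φ)
      (ker_map_le_jacobson φ hnil) P₁ P₂ π₁ π₂ h₁ k₁ h₂ k₂

end Witt

end Groth.Agent.Lib.helper10.LiftProj
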