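import Groth.Agent.Lib.Helper10.LocRes2

/-!
Local residues through Laurent expansions (helper10), part 3: the divisor of `dx` in an
Artin–Schreier function field in characteristic two, and its regular differentials.
-/

set_option autoImplicit false
set_option linter.unusedSectionVars false
set_option linter.style.haveILetI false

universe u v w

open FunFld Polynomial

namespace Groth.Agent.Lib.helper10

namespace FF

open LaurentSeries

section PolyChain

variable {k : Type u} [Field k] {F : Type w} [Field F] [Algebra k F]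

/-- The chain rule for polynomials. -/
theorem D_ratFunc_polynomial (χ : RatFunc k →ₐ[k] LaurentSeries F) (a : k[X]) :
    LocRes.D F (χ (algebraMap k[X] (RatFunc k) a)) =
      χ (algebraMap k[X] (RatFunc k) (derivative a)) * LocRes.D F (χ RatFunc.X) := by
  letI := χ.toRingHom.toAlgebra
  set d := LocRes.dExp χ with hd
  have hdapp : ∀ v : RatFunc k, d v = LocRes.D F (χ v) := fun v => rfl
  have hsmul : ∀ (r : RatFunc k) (m : LaurentSeries F), r • m = χ r * m := fun r m => rfl
  rw [← hdapp, ← hdapp, ← hsmul, ← RatFunc.aeval_X_left_eq_algebraMap, Derivation.map_aeval,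
    RatFunc.aeval_X_left_eq_algebraMap]

/-- Over a perfect field the derivative of an irreducible polynomial is a unit at its place. -/
theorem Place.val_derivative_irreducible [PerfectField k] (p : Place k (RatFunc k)) {π : k[X]}
    (hπ : Irreducible π) (hv : p.1 (algebraMap k[X] (RatFunc k) π) < 1) :
    p.1 (algebraMap k[X] (RatFunc k) (derivative π)) = 1 := by
  apply Place.val_eq_one_of_not_dvd p hπ hv
  intro hdvd
  have hsep : π.Separable := PerfectField.separable_of_irreducible hπ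
  have hcop : IsCoprime π (derivative π) := hsep
  exact hπ.not_isUnit (hcop.isUnit_of_dvd' dvd_rfl hdvd)

end PolyChain

section LocalDX

variable {k : Type u} [Field k] {F : Type w} [Field F] [Algebra k F]

/-- `dx` has order zero at an unramified expansion over a finite place. -/
theorem val_DX_fin_unram [PerfectField k] (p : Place k (RatFunc k))
    (hX : p.1 (RatFunc.X : RatFunc k) ≤ 1) (χ : RatFunc k →ₐ[k] LaurentSeries F)
    (hv : ∀ u, Valued.v (χ u) = p.1 u) : Valued.v (LocRes.D F (χ RatFunc.X)) = 1 := by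
  obtain ⟨π, hπ, hπv⟩ := Place.exists_irreducible_uniformizer p hX
  have hlt : p.1 (algebraMap k[X] (RatFunc k) π) < 1 := by
    rw [hπv, ← WithZero.exp_zero, WithZero.exp_lt_exp]
    norm_num
  have h1 : Valued.v (LocRes.D F (χ (algebraMap k[X] (RatFunc k) π))) =
      WithZero.exp (-((1 : ℤ) - 1)) :=
    val_D_eq (by rw [hv, hπv]) (by simp)
  rw [D_ratFunc_polynomial, map_mul, hv, Place.val_derivative_irreducible p hπ hlt, one_mul,
    sub_self, neg_zero, WithZero.exp_zero] at h1
  exact h1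

/-- `dx` has order `-2` at an unramified expansion over the infinite place. -/
theorem val_DX_inf_unram (p : Place k (RatFunc k))
    (hX : 1 < p.1 (RatFunc.X : RatFunc k)) (χ : RatFunc k →ₐ[k] LaurentSeries F)
    (hv : ∀ u, Valued.v (χ u) = p.1 u) :
    Valued.v (LocRes.D F (χ RatFunc.X)) = WithZero.exp (2 : ℤ) := by
  have hordX := (Place.infinity_deg_and_ord p
    ((Place.ord_neg_iff p RatFunc.X_ne_zero).mpr hX)).2
  have hvX : p.1 (RatFunc.X : RatFunc k) = WithZero.exp (1 : ℤ) := by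
    rw [Place.val_eq_exp_neg_ord p RatFunc.X_ne_zero, hordX, neg_neg]
  have hχX : Valued.v (χ RatFunc.X) = WithZero.exp (1 : ℤ) := by rw [hv, hvX]
  have hχX0 : χ RatFunc.X ≠ 0 := ne_zero_of_val_eq_exp hχX
  have hinv : Valued.v (χ RatFunc.X)⁻¹ = WithZero.exp (-(1 : ℤ)) := by
    rw [map_inv₀, hχX, WithZero.exp_neg]
  have h1 : Valued.v (LocRes.D F (χ RatFunc.X)⁻¹) = WithZero.exp (-((1 : ℤ) - 1)) :=
    val_D_eq hinv (by simp)
  rw [Derivation.leibniz_inv, smul_eq_mul, map_mul, Valuation.map_neg, map_pow, hinv, sub_self,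
    neg_zero, WithZero.exp_zero] at h1
  have h2 : Valued.v (LocRes.D F (χ RatFunc.X)) =
      WithZero.exp (2 : ℤ) * (WithZero.exp (-(1 : ℤ)) ^ 2 *
        Valued.v (LocRes.D F (χ RatFunc.X))) := by
    rw [← mul_assoc, ← WithZero.exp_nsmul, ← WithZero.exp_add]
    simp
  rw [h2, h1, mul_one]

end LocalDX

section LocalDXRam

variable {k : Type u} [Field k] {F : Type w} [Field F] [Algebra k F]

theorem odd_natCast_laurent (h2 : ringChar k = 2) {m : ℕ} (hm : Odd m) :
    ((m : ℕ) : LaurentSeries F) = 1 := by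
  obtain ⟨j, rfl⟩ := hm
  push_cast
  rw [two_eq_zero_laurent (k := k) h2, zero_mul, zero_add]

theorem D_artin_schreier (h2 : ringChar k = 2) (Y : LaurentSeries F) :
    LocRes.D F (Y ^ 2 + Y) = LocRes.D F Y := by
  rw [map_add, Derivation.leibniz_pow, two_nsmul, ← two_mul, two_eq_zero_laurent (k := k) h2,
    zero_mul, zero_add]

/-- `dx` at a ramified expansion over a finite odd pole of `f`. -/
theorem val_DX_fin_ram [PerfectField k] (h2 : ringChar k = 2) (p : Place k (RatFunc k))
    (hX : p.1 (RatFunc.X : RatFunc k) ≤ 1) (χ : RatFunc k →ₐ[k] LaurentSeries F)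
    (hv : ∀ u, Valued.v (χ u) = p.1 u ^ 2) {f : RatFunc k} {n : ℤ} (hn : p.ord f = n)
    (hneg : n < 0) (hodd : Odd n) {Y : LaurentSeries F} (hY : Y ^ 2 + Y = χ f)
    (hvY : Valued.v Y = WithZero.exp (-n)) :
    Valued.v (LocRes.D F (χ RatFunc.X)) = WithZero.exp (-(1 - n)) := by
  obtain ⟨m, hm⟩ : ∃ m : ℕ, n = -(m : ℤ) := ⟨n.natAbs, by omega⟩
  have hmodd : Odd m := by
    have : Odd (-(m : ℤ)) := hm ▸ hodd
    rw [odd_neg] at this
    exact_mod_cast this
  have hm1 : 1 ≤ m := by omega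
  have hf0 : f ≠ 0 := by
    rintro rfl
    rw [Place.ord_zero] at hn
    omega
  obtain ⟨π, hπ, hπv⟩ := Place.exists_irreducible_uniformizer p hX
  have hlt : p.1 (algebraMap k[X] (RatFunc k) π) < 1 := by
    rw [hπv, ← WithZero.exp_zero, WithZero.exp_lt_exp]
    norm_num
  have hπ' := Place.val_derivative_irreducible p hπ hlt
  obtain ⟨u, hu⟩ : ∃ u, u = f * (algebraMap k[X] (RatFunc k) π) ^ m := ⟨_, rfl⟩
  have hvf : p.1 f = WithZero.exp (m : ℤ) := by
    rw [Place.val_eq_exp_neg_ord p hf0, hn, hm, neg_neg]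
  have hvu : p.1 u = 1 := by
    rw [hu, Valuation.map_mul, Valuation.map_pow, hπv, hvf, ← WithZero.exp_nsmul,
      ← WithZero.exp_add]
    simp
  have hu' := Place.val_ratDeriv_le_one p hX hvu.le
  obtain ⟨Φ, hΦ⟩ : ∃ Φ, Φ = χ f := ⟨_, rfl⟩
  obtain ⟨Pq, hPq⟩ : ∃ Pq, Pq = χ (algebraMap k[X] (RatFunc k) π) := ⟨_, rfl⟩
  obtain ⟨δ, hδ⟩ : ∃ δ, δ = LocRes.D F (χ RatFunc.X) := ⟨_, rfl⟩
  obtain ⟨c, hc⟩ : ∃ c, c = χ (algebraMap k[X] (RatFunc k) (derivative π)) := ⟨_, rfl⟩
  obtain ⟨w, hw⟩ : ∃ w, w = χ (ratDeriv u) := ⟨_, rfl⟩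
  have hDΦ : LocRes.D F Φ = LocRes.D F Y := by
    rw [hΦ, ← hY, D_artin_schreier (k := k) h2]
  have hvDY : Valued.v (LocRes.D F Y) = WithZero.exp (-(n - 1)) :=
    val_D_eq hvY (odd_cast_ne_zero h2 hodd)
  have hDPq : LocRes.D F Pq = c * δ := by
    rw [hPq, hc, hδ]
    exact D_ratFunc_polynomial χ π
  have hDU : LocRes.D F (Φ * Pq ^ m) = w * δ := by
    rw [hΦ, hPq, hw, hδ, ← map_pow, ← map_mul, ← hu]
    exact D_ratFunc χ u
  obtain ⟨T1, hT1⟩ : ∃ T1, T1 = Pq ^ m * LocRes.D F Y := ⟨_, rfl⟩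
  obtain ⟨T2, hT2⟩ : ∃ T2, T2 = Φ * (Pq ^ (m - 1) * (c * δ)) := ⟨_, rfl⟩
  obtain ⟨T3, hT3⟩ : ∃ T3, T3 = w * δ := ⟨_, rfl⟩
  have hrel : T3 = T2 + T1 := by
    rw [hT3, hT2, hT1, ← hDU, Derivation.leibniz, Derivation.leibniz_pow, hDΦ, hDPq, smul_eq_mul,
      smul_eq_mul, smul_eq_mul, nsmul_eq_mul, odd_natCast_laurent (k := k) h2 hmodd, one_mul]
  have hvPq : Valued.v Pq = WithZero.exp (-(2 : ℤ)) := by
    rw [hPq, hv, hπv, ← WithZero.exp_nsmul]
    simp
  have hvΦ : Valued.v Φ = WithZero.exp (2 * (m : ℤ)) := by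
    rw [hΦ, hv, hvf, ← WithZero.exp_nsmul]
    simp
  have hvc : Valued.v c = 1 := by rw [hc, hv, hπ', one_pow]
  have hvw : Valued.v w ≤ 1 := by
    rw [hw, hv]
    exact pow_le_one' hu' 2
  have hvT1 : Valued.v T1 = WithZero.exp (-((m : ℤ) - 1)) := by
    rw [hT1, map_mul, map_pow, hvPq, hvDY, ← WithZero.exp_nsmul, ← WithZero.exp_add, hm]
    congr 1
    simp only [nsmul_eq_mul]
    ring
  have hvT2 : Valued.v T2 = WithZero.exp (2 : ℤ) * Valued.v δ := by
    rw [hT2, map_mul, map_mul, map_mul, map_pow, hvPq, hvΦ, hvc, one_mul,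
      ← WithZero.exp_nsmul, ← mul_assoc, ← WithZero.exp_add]
    congr 2
    simp only [nsmul_eq_mul]
    have : ((m - 1 : ℕ) : ℤ) = (m : ℤ) - 1 := by omega
    rw [this]
    ring
  have hvT3 : Valued.v T3 ≤ Valued.v δ := by
    rw [hT3, map_mul]
    calc Valued.v w * Valued.v δ ≤ 1 * Valued.v δ := mul_le_mul' hvw le_rfl
      _ = Valued.v δ := one_mul _
  have hδ0 : δ ≠ 0 := by
    intro h0
    have h1 : T1 = 0 := by
      have : T1 = T3 - T2 := by rw [hrel]; ring
      rw [this, hT3, hT2, h0]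
      ring
    rw [h1, Valuation.map_zero] at hvT1
    exact WithZero.exp_ne_zero hvT1.symm
  have hvδ0 : Valued.v δ ≠ 0 := (Valuation.ne_zero_iff _).mpr hδ0
  have hlt32 : Valued.v T3 < Valued.v T2 := by
    rw [hvT2]
    apply lt_of_le_of_lt hvT3
    apply lt_mul_of_one_lt_left (zero_lt_iff.mpr hvδ0)
    rw [← WithZero.exp_zero, WithZero.exp_lt_exp]
    norm_num
  have hT1eq : T1 = T3 - T2 := by rw [hrel]; ring
  have h5 : Valued.v T1 = Valued.v T2 := by
    rw [hT1eq]
    exact Valuation.map_sub_eq_of_lt_right _ hlt32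
  rw [hvT1, hvT2] at h5
  have h6 : Valued.v δ = WithZero.exp (-(2 : ℤ)) * (WithZero.exp (2 : ℤ) * Valued.v δ) := by
    rw [← mul_assoc, ← WithZero.exp_add]
    simp
  rw [← hδ, h6, ← h5, ← WithZero.exp_add, hm]
  congr 1
  ring

/-- `dx` at a ramified expansion over an odd pole of `f` at infinity. -/
theorem val_DX_inf_ram (h2 : ringChar k = 2) (p : Place k (RatFunc k))
    (hX : 1 < p.1 (RatFunc.X : RatFunc k)) (χ : RatFunc k →ₐ[k] LaurentSeries F)
    (hv : ∀ u, Valued.v (χ u) = p.1 u ^ 2) {f : RatFunc k} {n : ℤ} (hn : p.ord f = n)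
    (hneg : n < 0) (hodd : Odd n) {Y : LaurentSeries F} (hY : Y ^ 2 + Y = χ f)
    (hvY : Valued.v Y = WithZero.exp (-n)) :
    Valued.v (LocRes.D F (χ RatFunc.X)) = WithZero.exp (n + 3) := by
  have hf0 : f ≠ 0 := by
    rintro rfl
    rw [Place.ord_zero] at hn
    omega
  have hnk : ((p.ord f : ℤ) : k) ≠ 0 := by
    rw [hn]
    exact odd_cast_ne_zero (F := k) h2 hodd
  obtain ⟨hf'0, hordf'⟩ := Place.infinity_ord_ratDeriv p hX hf0 hnk
  have hvDY : Valued.v (LocRes.D F Y) = WithZero.exp (-(n - 1)) :=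
    val_D_eq hvY (odd_cast_ne_zero h2 hodd)
  have hDΦ : LocRes.D F (χ f) = LocRes.D F Y := by
    rw [← hY, D_artin_schreier (k := k) h2]
  rw [← hDΦ, D_ratFunc, map_mul, hv, Place.val_eq_exp_neg_ord p hf'0, hordf', hn,
    ← WithZero.exp_nsmul] at hvDY
  set δ := LocRes.D F (χ RatFunc.X) with hδ
  have h6 : Valued.v δ = WithZero.exp (2 * (n + 1)) *
      (WithZero.exp (2 • -(n + 1)) * Valued.v δ) := by
    have e : (2 * (n + 1) + 2 • -(n + 1) : ℤ) = 0 := by
      simp only [nsmul_eq_mul]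
      push_cast
      ring
    rw [← mul_assoc, ← WithZero.exp_add, e, WithZero.exp_zero, one_mul]
  rw [h6, hvDY, ← WithZero.exp_add]
  congr 1
  ring

end LocalDXRam

section ASCanon

variable {k : Type u} {K : Type v} [Field k] [Field K] [Algebra k K] [Algebra (RatFunc k) K]
  [IsScalarTower k (RatFunc k) K]

/-- The divisor of `dx` downstairs, corrected by the different: `E - 2 ∞`. -/
noncomputable def asCanon (f : RatFunc k) : Divisor k (RatFunc k) :=
  asDiv f - (2 : ℤ) • polesDiv k (RatFunc.X : RatFunc k)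

theorem polesDiv_X_apply_of_le (p : Place k (RatFunc k))
    (hX : p.1 (RatFunc.X : RatFunc k) ≤ 1) : polesDiv k (RatFunc.X : RatFunc k) p = 0 := by
  rw [polesDiv_apply isFunctionField_ratFunc]
  have := (Place.ord_nonneg_iff p RatFunc.X_ne_zero).mpr hX
  exact max_eq_right (by omega)

theorem polesDiv_X_apply_of_lt (p : Place k (RatFunc k))
    (hX : 1 < p.1 (RatFunc.X : RatFunc k)) : polesDiv k (RatFunc.X : RatFunc k) p = 1 := by
  rw [polesDiv_apply isFunctionField_ratFunc, (Place.infinity_deg_and_ord p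
    ((Place.ord_neg_iff p RatFunc.X_ne_zero).mpr hX)).2]
  norm_num

variable {y : K} {f : RatFunc k} (heq : y ^ 2 + y = algebraMap (RatFunc k) K f)

include heq in
/-- The order of `dx` at every place of an Artin–Schreier function field, read through an
expansion. -/
theorem as_val_DX [PerfectField k] [Algebra.IsSeparable (RatFunc k) K] (h2 : ringChar k = 2)
    (hdeg : Module.finrank (RatFunc k) K = 2) (hy : y ∉ Set.range (algebraMap (RatFunc k) K))
    (hodd : ∀ p : Place k (RatFunc k), p.ord f < 0 → Odd (p.ord f))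
    (P : Place k K) {F : Type w} [Field F] [Algebra k F] (φ : K →ₐ[k] LaurentSeries F)
    (hφ : LocRes.IsExpansionAt P.1 φ) :
    Valued.v (LocRes.D F (φ (algebraMap (RatFunc k) K RatFunc.X))) =
      WithZero.exp (-(conorm K (asCanon f) P)) := by
  haveI := finiteDimensional_of_finrank_two hdeg
  have hR := isFunctionField_ratFunc (k := k)
  obtain ⟨p, e, he⟩ := exists_place_under hR P
  rw [conorm_apply' hR _ he]
  obtain ⟨χ, hχ⟩ : ∃ χ : RatFunc k →ₐ[k] LaurentSeries F,
      ∀ u, χ u = φ (algebraMap (RatFunc k) K u) :=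
    ⟨φ.comp (IsScalarTower.toAlgHom k (RatFunc k) K), fun u => rfl⟩
  have hv : ∀ u, Valued.v (χ u) = p.1 u ^ e := fun u => by rw [hχ, hφ.1, he u]
  rw [← hχ]
  unfold asCanon
  rw [Finsupp.coe_sub, Pi.sub_apply, Finsupp.smul_apply, asDiv_apply, smul_eq_mul]
  by_cases hf : p.ord f < 0
  · obtain ⟨he2, hy1, hy0⟩ := as_ramified heq hdeg he hf (hodd p hf)
    subst he2
    have hY : (φ y) ^ 2 + φ y = χ f := by rw [hχ, ← heq, map_add, map_pow]
    have hvY : Valued.v (φ y) = WithZero.exp (-(p.ord f)) := by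
      rw [hφ.1, Place.val_eq_exp_neg_ord P hy0, hy1]
    obtain ⟨j, hj⟩ := hodd p hf
    rw [if_pos hf]
    by_cases hX : p.1 (RatFunc.X : RatFunc k) ≤ 1
    · rw [val_DX_fin_ram h2 p hX χ hv rfl hf (hodd p hf) hY hvY, polesDiv_X_apply_of_le p hX]
      congr 1
      push_cast
      omega
    · rw [not_le] at hX
      rw [val_DX_inf_ram h2 p hX χ hv rfl hf (hodd p hf) hY hvY, polesDiv_X_apply_of_lt p hX]
      congr 1
      push_cast
      omega
  · rw [if_neg hf]
    rw [not_lt] at hf
    have he1 := isOverWith_unique_idx he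
      ((artin_schreier_places h2 hdeg hy heq p).2 hf P ⟨e, he⟩)
    subst he1
    have hv' : ∀ u, Valued.v (χ u) = p.1 u := fun u => by rw [hv, pow_one]
    by_cases hX : p.1 (RatFunc.X : RatFunc k) ≤ 1
    · rw [val_DX_fin_unram p hX χ hv', polesDiv_X_apply_of_le p hX]
      simp
    · rw [not_le] at hX
      rw [val_DX_inf_unram p hX χ hv', polesDiv_X_apply_of_lt p hX]
      congr 1

include heq in
/-- Regularity of `z dx` at a place is membership in `L` of the canonical divisor, locally. -/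
theorem as_vDiff_le_one_iff [PerfectField k] [Algebra.IsSeparable (RatFunc k) K]
    (h2 : ringChar k = 2)
    (hdeg : Module.finrank (RatFunc k) K = 2) (hy : y ∉ Set.range (algebraMap (RatFunc k) K))
    (hodd : ∀ p : Place k (RatFunc k), p.ord f < 0 → Odd (p.ord f))
    (P : Place k K) {F : Type w} [Field F] [Algebra k F] (φ : K →ₐ[k] LaurentSeries F)
    (hφ : LocRes.IsExpansionAt P.1 φ) (z : K) :
    LocRes.vDiff φ z (algebraMap (RatFunc k) K RatFunc.X) ≤ 1 ↔
      P.1 z ≤ WithZero.exp (conorm K (asCanon f) P) := by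
  unfold LocRes.vDiff
  rw [map_mul, as_val_DX heq h2 hdeg hy hodd P φ hφ, hφ.1, WithZero.exp_neg,
    mul_inv_le_iff₀ (zero_lt_iff.mpr WithZero.exp_ne_zero), one_mul]

end ASCanon

section LTools

variable {k : Type u} {F : Type v} [Field k] [Field F] [Algebra k F]

theorem mul_mem_L_sub_div (hF : IsFunctionField k F) {D : Divisor k F} {u w : F}
    (hu : u ∈ L D) (hw : w ≠ 0) : u * w ∈ L (D - FunFld.div k w) := by
  intro P
  rw [Valuation.map_mul, Finsupp.coe_sub, Pi.sub_apply, div_apply hF, sub_eq_add_neg,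
    WithZero.exp_add, ← Place.val_eq_exp_neg_ord P hw]
  exact mul_le_mul' (hu P) le_rfl

theorem div_mem_L_add_div (hF : IsFunctionField k F) {D : Divisor k F} {u w : F}
    (hu : u ∈ L D) (hw : w ≠ 0) : u / w ∈ L (D + FunFld.div k w) := by
  intro P
  rw [map_div₀, Finsupp.coe_add, Pi.add_apply, div_apply hF, WithZero.exp_add, div_eq_mul_inv,
    Place.val_eq_exp_neg_ord P hw, ← WithZero.exp_neg, neg_neg]
  exact mul_le_mul' (hu P) le_rfl

theorem RatFunc.polynomial_mem_L {m : ℕ} {r : k[X]} (hr : r.natDegree ≤ m) :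
    algebraMap k[X] (RatFunc k) r ∈ L ((m : ℤ) • polesDiv k (RatFunc.X : RatFunc k)) := by
  have hR := isFunctionField_ratFunc (k := k)
  intro p
  rw [exp_smul_polesDiv hR RatFunc.X RatFunc.X_ne_zero m p]
  split_ifs with h
  · exact Place.val_polynomial_le_one p h r
  · rw [not_le] at h
    by_cases hr0 : r = 0
    · rw [hr0, map_zero, Valuation.map_zero]; exact zero_le
    · rw [← RatFunc.aeval_X_left_eq_algebraMap, Place.val_aeval_of_one_lt p h r hr0]
      exact pow_le_pow_right₀ h.le hr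

end LTools

section ASRegular

variable {k : Type u} {K : Type v} [Field k] [Field K] [Algebra k K] [Algebra (RatFunc k) K]
  [IsScalarTower k (RatFunc k) K]

variable {y : K} {f : RatFunc k} (heq : y ^ 2 + y = algebraMap (RatFunc k) K f)

include heq in
/-- The canonical divisor `E - 2∞` equals `(g - 1) ∞ + (q)`. -/
theorem as_canon_eq (hK : IsFunctionField k K) (h2 : ringChar k = 2)
    (hdeg : Module.finrank (RatFunc k) K = 2) (hy : y ∉ Set.range (algebraMap (RatFunc k) K))
    (hodd : ∀ p : Place k (RatFunc k), p.ord f < 0 → Odd (p.ord f))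
    (q : k[X]) (hq0 : q ≠ 0)
    (hq : ∀ p : Place k (RatFunc k), p.1 (RatFunc.X : RatFunc k) ≤ 1 →
      p.ord (algebraMap k[X] (RatFunc k) q) = if 1 < p.1 f then (1 - p.ord f) / 2 else 0) :
    asCanon f = ((genus k K : ℤ) - 1) • polesDiv k (RatFunc.X : RatFunc k) +
      FunFld.div k (algebraMap k[X] (RatFunc k) q) := by
  have hR := isFunctionField_ratFunc (k := k)
  have hXc : (RatFunc.X : RatFunc k) ∉ Set.range (algebraMap k (RatFunc k)) :=
    not_mem_range_of_transcendental RatFunc.transcendental_X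
  obtain ⟨Pinf, hPinf⟩ := exists_pole hR hXc
  have hPinf' : 1 < Pinf.1 (RatFunc.X : RatFunc k) :=
    (Place.ord_neg_iff Pinf RatFunc.X_ne_zero).mp hPinf
  obtain ⟨c', hc'⟩ : ∃ c' : ℤ, c' = asDiv f Pinf + q.natDegree := ⟨_, rfl⟩
  have hΔ : asDiv f - FunFld.div k (algebraMap k[X] (RatFunc k) q) =
      c' • polesDiv k (RatFunc.X : RatFunc k) := by
    apply Finsupp.ext
    intro p
    rw [Finsupp.coe_sub, Pi.sub_apply, Finsupp.smul_apply, smul_eq_mul, div_apply hR]
    by_cases hX : p.1 (RatFunc.X : RatFunc k) ≤ 1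
    · rw [polesDiv_X_apply_of_le p hX, mul_zero, hq p hX, asDiv_apply]
      have hiff : p.ord f < 0 ↔ 1 < p.1 f := by
        by_cases hf0 : f = 0
        · rw [hf0, Place.ord_zero, Valuation.map_zero]
          simp
        · exact Place.ord_neg_iff p hf0
      simp only [hiff, sub_self]
    · rw [not_le] at hX
      have hp : p = Pinf := Place.infinity_unique p Pinf hX hPinf'
      rw [hp, polesDiv_X_apply_of_lt Pinf hPinf', mul_one,
        Place.infinity_ord_polynomial Pinf hPinf hq0, hc']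
      ring
  have hdeg' : (asDiv f).deg = c' := by
    have := congrArg Divisor.deg hΔ
    rw [deg_sub, deg_div hR, deg_zsmul, deg_polesDiv hR RatFunc.transcendental_X,
      RatFunc.adjoin_X, IntermediateField.finrank_top] at this
    push_cast at this
    linarith
  have hg := as_genus heq hK h2 hdeg hy hodd
  unfold asCanon
  have e1 : asDiv f - (2 : ℤ) • polesDiv k (RatFunc.X : RatFunc k) =
      (asDiv f - FunFld.div k (algebraMap k[X] (RatFunc k) q)) -
        (2 : ℤ) • polesDiv k (RatFunc.X : RatFunc k) +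
        FunFld.div k (algebraMap k[X] (RatFunc k) q) := by abel
  rw [e1, hΔ, ← sub_smul]
  congr 2
  linarith

include heq in
/-- **S12587**: the regular differentials of an Artin–Schreier function field. -/
theorem as_regular_differentials [PerfectField k] [Algebra.IsSeparable (RatFunc k) K]
    (hK : IsFunctionField k K) (hdeg : Module.finrank (RatFunc k) K = 2) (h2 : ringChar k = 2)
    (hy : y ∉ Set.range (algebraMap (RatFunc k) K))
    (hodd : ∀ p : Place k (RatFunc k), 1 < p.1 f → Odd (p.ord f))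
    (q : k[X]) (hq0 : q ≠ 0)
    (hq : ∀ p : Place k (RatFunc k), p.1 (RatFunc.X : RatFunc k) ≤ 1 →
      p.ord (algebraMap k[X] (RatFunc k) q) = if 1 < p.1 f then (1 - p.ord f) / 2 else 0)
    (F : Place k K → Type w) [∀ P, Field (F P)] [∀ P, Algebra k (F P)]
    (φ : ∀ P, K →ₐ[k] LaurentSeries (F P)) (hφ : ∀ P, LocRes.IsExpansionAt P.1 (φ P)) :
    (∀ i : ℕ, i < genus k K → ∀ P,
      LocRes.vDiff (φ P)
        (algebraMap (RatFunc k) K (RatFunc.X ^ i / algebraMap k[X] (RatFunc k) q))
        (algebraMap (RatFunc k) K RatFunc.X) ≤ 1) ∧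
    ∀ z : K, (∀ P, LocRes.vDiff (φ P) z (algebraMap (RatFunc k) K RatFunc.X) ≤ 1) →
      ∃ a : k[X], a.degree < (genus k K : WithBot ℕ) ∧
        z = algebraMap (RatFunc k) K
          (algebraMap k[X] (RatFunc k) a / algebraMap k[X] (RatFunc k) q) := by
  haveI := finiteDimensional_of_finrank_two hdeg
  have hR := isFunctionField_ratFunc (k := k)
  have hodd' : ∀ p : Place k (RatFunc k), p.ord f < 0 → Odd (p.ord f) := by
    intro p hp
    have hf0 : f ≠ 0 := by
      rintro rfl
      rw [Place.ord_zero] at hp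
      exact lt_irrefl _ hp
    exact hodd p ((Place.ord_neg_iff p hf0).mp hp)
  have hcanon := as_canon_eq heq hK h2 hdeg hy hodd' q hq0 hq
  have hιq0 : algebraMap k[X] (RatFunc k) q ≠ 0 :=
    (_root_.map_ne_zero_iff _ (RatFunc.algebraMap_injective k)).mpr hq0
  constructor
  · intro i hi P
    apply (as_vDiff_le_one_iff heq h2 hdeg hy hodd' P (φ P) (hφ P) _).mpr
    have h1 : (RatFunc.X ^ i : RatFunc k) ∈
        L (((genus k K : ℤ) - 1) • polesDiv k (RatFunc.X : RatFunc k)) := by
      have hcast : ((genus k K : ℤ) - 1) = ((genus k K - 1 : ℕ) : ℤ) := by omega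
      rw [hcast]
      have := RatFunc.polynomial_mem_L (k := k) (m := genus k K - 1) (r := Polynomial.X ^ i)
        (by rw [natDegree_X_pow]; omega)
      rwa [map_pow, RatFunc.algebraMap_X] at this
    have h3 : (RatFunc.X ^ i / algebraMap k[X] (RatFunc k) q : RatFunc k) ∈ L (asCanon f) := by
      rw [hcanon]
      exact div_mem_L_add_div hR h1 hιq0
    have h4 := as_mem_L_of heq hdeg hodd' (asCanon f) h3 (zero_mem _)
    rw [map_zero, zero_mul, add_zero] at h4
    exact h4 P
  · intro z hz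
    have hzL : z ∈ L (conorm K (asCanon f)) := fun P =>
      (as_vDiff_le_one_iff heq h2 hdeg hy hodd' P (φ P) (hφ P) z).mp (hz P)
    obtain ⟨a', b, rfl⟩ := span_of_not_mem_range hdeg hy z
    obtain ⟨ha, hb⟩ := as_mem_L_imp heq h2 hdeg hy hodd' (asCanon f) hzL
    have hb0 : b = 0 := by
      have hdegneg : (asCanon f - asDiv f).deg < 0 := by
        unfold asCanon
        rw [sub_sub_cancel_left, deg_neg, deg_zsmul, deg_polesDiv hR RatFunc.transcendental_X,
          RatFunc.adjoin_X, IntermediateField.finrank_top]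
        norm_num
      rw [L_eq_bot_of_deg_neg hR hdegneg, Submodule.mem_bot] at hb
      exact hb
    rw [hb0, map_zero, zero_mul, add_zero]
    have h5 := mul_mem_L_sub_div hR ha hιq0
    rw [hcanon, add_sub_cancel_right] at h5
    by_cases hg : genus k K = 0
    · have hdegneg : ((((genus k K : ℤ) - 1)) • polesDiv k (RatFunc.X : RatFunc k)).deg < 0 := by
        rw [deg_zsmul, deg_polesDiv hR RatFunc.transcendental_X,
          RatFunc.adjoin_X, IntermediateField.finrank_top, hg]
        norm_num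
      rw [L_eq_bot_of_deg_neg hR hdegneg, Submodule.mem_bot] at h5
      have ha0 : a' = 0 := by
        rcases mul_eq_zero.mp h5 with h | h
        · exact h
        · exact absurd h hιq0
      refine ⟨0, ?_, ?_⟩
      · rw [degree_zero]
        exact WithBot.bot_lt_coe _
      · rw [ha0, map_zero, map_zero, zero_div, map_zero]
    · have hcast : ((genus k K : ℤ) - 1) = ((genus k K - 1 : ℕ) : ℤ) := by omega
      rw [hcast] at h5
      obtain ⟨r, hr, hrq⟩ := RatFunc.mem_L_polesDiv_X h5
      refine ⟨r, ?_, ?_⟩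
      · apply lt_of_le_of_lt degree_le_natDegree
        exact_mod_cast (by omega : r.natDegree < genus k K)
      · congr 1
        rw [eq_div_iff hιq0]
        exact hrq

end ASRegular

end FF

end Groth.Agent.Lib.helper10
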