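import Mathlib
import Groth.Prelude.Def_GSzMilK

/-!
Basic facts on Milnor K-groups (`MilK` of the prelude) (helper10).
-/

set_option autoImplicit false
set_option linter.unusedSectionVars false

universe u v w

namespace Groth.Agent.Lib.helper10

namespace MilKL

variable {F : Type u} [Field F]

/-- Two additive maps out of `K F n` agreeing on symbols are equal. -/
theorem hom_ext {M : Type w} [AddCommGroup M] {n : ℕ} (f g : MilK.K F n →+ M)
    (h : ∀ x : Fin n → Fˣ, f (MilK.symbol x) = g (MilK.symbol x)) : f = g := by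
  ext x
  obtain ⟨t, rfl⟩ := MilK.mk_surjective F n x
  induction t using PiTensorProduct.induction_on with
  | smul_tprod r a =>
    rw [map_zsmul, map_zsmul, map_zsmul, MilK.mk_tprod, h]
  | add x y hx hy =>
    rw [map_add, map_add, map_add, hx, hy]

/-- Induction principle: a property of elements of `K F n` that holds for symbols and is stable under
`0`, `+`, `-` holds everywhere. -/
theorem induction_on {n : ℕ} {motive : MilK.K F n → Prop} (x : MilK.K F n)
    (symbol : ∀ a : Fin n → Fˣ, motive (MilK.symbol a))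
    (zero : motive 0)
    (add : ∀ x y, motive x → motive y → motive (x + y))
    (neg : ∀ x, motive x → motive (-x)) : motive x := by
  obtain ⟨t, rfl⟩ := MilK.mk_surjective F n x
  induction t using PiTensorProduct.induction_on with
  | smul_tprod r a =>
    rw [map_zsmul, MilK.mk_tprod]
    have hs := symbol (fun i => (a i).toMul)
    induction r using Int.induction_on with
    | zero => simpa using zero
    | succ k ih => rw [add_zsmul, one_zsmul]; exact add _ _ ih hs
    | pred k ih => rw [sub_zsmul, one_zsmul]; exact add _ _ ih (neg _ hs)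
  | add x y hx hy =>
    rw [map_add]; exact add _ _ hx hy

/-- The symbols generate `K F n`. -/
theorem closure_symbols (n : ℕ) :
    AddSubgroup.closure (Set.range (MilK.symbol : (Fin n → Fˣ) → MilK.K F n)) = ⊤ := by
  rw [eq_top_iff]
  intro x hx
  clear hx
  induction x using induction_on with
  | symbol a => exact AddSubgroup.subset_closure ⟨a, rfl⟩
  | zero => exact AddSubgroup.zero_mem _
  | add x y hx hy => exact AddSubgroup.add_mem _ hx hy
  | neg x hx => exact AddSubgroup.neg_mem _ hx

/-- Multilinearity of symbols in one slot. -/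
theorem symbol_update_mul {n : ℕ} (x : Fin n → Fˣ) (i : Fin n) (a b : Fˣ) :
    MilK.symbol (Function.update x i (a * b)) =
      MilK.symbol (Function.update x i a) + MilK.symbol (Function.update x i b) := by
  unfold MilK.symbol
  rw [← map_add]
  congr 1
  have h := (PiTensorProduct.tprod ℤ (s := fun _ : Fin n => Additive Fˣ)).map_update_add
    (fun j => Additive.ofMul (x j)) i (Additive.ofMul a) (Additive.ofMul b)
  have e : ∀ c : Fˣ, (fun j => Additive.ofMul (Function.update x i c j)) =
      Function.update (fun j => Additive.ofMul (x j)) i (Additive.ofMul c) := by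
    intro c
    funext j
    by_cases hj : j = i
    · subst hj; simp
    · simp [Function.update_of_ne hj]
  rw [e, e, e, ofMul_mul]
  exact h

theorem symbol_update_one {n : ℕ} (x : Fin n → Fˣ) (i : Fin n) :
    MilK.symbol (Function.update x i 1) = 0 := by
  have h := symbol_update_mul x i 1 1
  rw [mul_one] at h
  exact left_eq_add.mp h

theorem symbol_update_inv {n : ℕ} (x : Fin n → Fˣ) (i : Fin n) (a : Fˣ) :
    MilK.symbol (Function.update x i a⁻¹) = - MilK.symbol (Function.update x i a) := by
  have h := symbol_update_mul x i a a⁻¹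
  rw [mul_inv_cancel, symbol_update_one] at h
  exact eq_neg_of_add_eq_zero_right h.symm

theorem symbol_update_div {n : ℕ} (x : Fin n → Fˣ) (i : Fin n) (a b : Fˣ) :
    MilK.symbol (Function.update x i (a / b)) =
      MilK.symbol (Function.update x i a) - MilK.symbol (Function.update x i b) := by
  rw [div_eq_mul_inv, symbol_update_mul, symbol_update_inv, sub_eq_add_neg]

theorem symbol_update_pow {n : ℕ} (x : Fin n → Fˣ) (i : Fin n) (a : Fˣ) (k : ℕ) :
    MilK.symbol (Function.update x i (a ^ k)) = k • MilK.symbol (Function.update x i a) := by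
  induction k with
  | zero => rw [pow_zero, symbol_update_one, zero_smul]
  | succ k ih => rw [pow_succ, symbol_update_mul, ih, succ_nsmul]

theorem symbol_update_zpow {n : ℕ} (x : Fin n → Fˣ) (i : Fin n) (a : Fˣ) (k : ℤ) :
    MilK.symbol (Function.update x i (a ^ k)) = k • MilK.symbol (Function.update x i a) := by
  induction k using Int.induction_on with
  | zero => rw [zpow_zero, symbol_update_one, zero_smul]
  | succ k ih => rw [zpow_add_one, symbol_update_mul, ih, add_zsmul, one_zsmul]
  | pred k ih => rw [zpow_sub_one, symbol_update_mul, symbol_update_inv, ih, sub_zsmul, one_zsmul]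

theorem symbol_cons_mul {n : ℕ} (x : Fin n → Fˣ) (a b : Fˣ) :
    MilK.symbol (Fin.cons (a * b) x : Fin (n + 1) → Fˣ) =
      MilK.symbol (Fin.cons a x : Fin (n + 1) → Fˣ) + MilK.symbol (Fin.cons b x : Fin (n + 1) → Fˣ) := by
  have h := symbol_update_mul (Fin.cons 1 x : Fin (n + 1) → Fˣ) 0 a b
  rwa [Fin.update_cons_zero, Fin.update_cons_zero, Fin.update_cons_zero] at h

/-! ### Two-slot calculus -/

/-- The symbol with slots `i`, `j` replaced by `a`, `b`. -/
noncomputable def sym2 {n : ℕ} (x : Fin n → Fˣ) (i j : Fin n) (a b : Fˣ) : MilK.K F n :=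
  MilK.symbol (Function.update (Function.update x i a) j b)

theorem sym2_mul_right {n : ℕ} (x : Fin n → Fˣ) (i j : Fin n) (a b b' : Fˣ) :
    sym2 x i j a (b * b') = sym2 x i j a b + sym2 x i j a b' :=
  symbol_update_mul _ j b b'

theorem sym2_mul_left {n : ℕ} (x : Fin n → Fˣ) {i j : Fin n} (hij : i ≠ j) (a a' b : Fˣ) :
    sym2 x i j (a * a') b = sym2 x i j a b + sym2 x i j a' b := by
  unfold sym2
  have e : ∀ c : Fˣ, Function.update (Function.update x i c) j b =
      Function.update (Function.update x j b) i c := fun c => Function.update_comm hij c b x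
  rw [e, e, e]
  exact symbol_update_mul _ i a a'

theorem sym2_one_right {n : ℕ} (x : Fin n → Fˣ) (i j : Fin n) (a : Fˣ) :
    sym2 x i j a 1 = 0 :=
  symbol_update_one _ j

theorem sym2_one_left {n : ℕ} (x : Fin n → Fˣ) {i j : Fin n} (hij : i ≠ j) (b : Fˣ) :
    sym2 x i j 1 b = 0 := by
  unfold sym2
  rw [Function.update_comm hij]
  exact symbol_update_one _ i

theorem sym2_inv_right {n : ℕ} (x : Fin n → Fˣ) (i j : Fin n) (a b : Fˣ) :
    sym2 x i j a b⁻¹ = - sym2 x i j a b :=
  symbol_update_inv _ j b

theorem sym2_inv_left {n : ℕ} (x : Fin n → Fˣ) {i j : Fin n} (hij : i ≠ j) (a b : Fˣ) :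
    sym2 x i j a⁻¹ b = - sym2 x i j a b := by
  unfold sym2
  have e : ∀ c : Fˣ, Function.update (Function.update x i c) j b =
      Function.update (Function.update x j b) i c := fun c => Function.update_comm hij c b x
  rw [e, e]
  exact symbol_update_inv _ i a

theorem sym2_zpow_right {n : ℕ} (x : Fin n → Fˣ) (i j : Fin n) (a b : Fˣ) (k : ℤ) :
    sym2 x i j a (b ^ k) = k • sym2 x i j a b :=
  symbol_update_zpow _ j b k

theorem sym2_zpow_left {n : ℕ} (x : Fin n → Fˣ) {i j : Fin n} (hij : i ≠ j) (a b : Fˣ) (k : ℤ) :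
    sym2 x i j (a ^ k) b = k • sym2 x i j a b := by
  unfold sym2
  have e : ∀ c : Fˣ, Function.update (Function.update x i c) j b =
      Function.update (Function.update x j b) i c := fun c => Function.update_comm hij c b x
  rw [e, e]
  exact symbol_update_zpow _ i a k

theorem sym2_self {n : ℕ} (x : Fin n → Fˣ) (i j : Fin n) :
    sym2 x i j (x i) (x j) = MilK.symbol x := by
  unfold sym2
  by_cases hij : i = j
  · subst hij
    rw [Function.update_idem, Function.update_eq_self]
  · rw [Function.update_eq_self]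
    have : Function.update x j (x j) = x := Function.update_eq_self j x
    conv_rhs => rw [← this]

theorem symbol_eq_sym2 {n : ℕ} (x : Fin n → Fˣ) (i j : Fin n) :
    MilK.symbol x = sym2 x i j (x i) (x j) := (sym2_self x i j).symm

theorem sym2_comp_swap {n : ℕ} (x : Fin n → Fˣ) {i j : Fin n} (hij : i ≠ j) :
    MilK.symbol (x ∘ Equiv.swap i j) = sym2 x i j (x j) (x i) := by
  unfold sym2
  congr 1
  funext k
  by_cases hki : k = i
  · subst hki
    simp [Function.update_of_ne hij]
  · by_cases hkj : k = j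
    · subst hkj
      simp
    · simp [Equiv.swap_apply_of_ne_of_ne hki hkj, Function.update_of_ne hki, Function.update_of_ne hkj]

theorem sym2_steinberg {n : ℕ} (x : Fin n → Fˣ) {i j : Fin n} (hij : i ≠ j) (a b : Fˣ)
    (h : (a : F) + (b : F) = 1) : sym2 x i j a b = 0 := by
  unfold sym2
  apply MilK.symbol_eq_zero_of_isSteinberg
  rcases lt_or_gt_of_ne hij with hlt | hgt
  · refine ⟨i, j, hlt, ?_⟩
    simp [Function.update_of_ne hij, h]
  · refine ⟨j, i, hgt, ?_⟩
    simp [Function.update_of_ne hij, add_comm, h]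

/-- `{a, -a} = 0` in slots `i ≠ j`. -/
theorem sym2_neg {n : ℕ} (x : Fin n → Fˣ) {i j : Fin n} (hij : i ≠ j) (a : Fˣ) :
    sym2 x i j a (-a) = 0 := by
  by_cases ha : a = 1
  · subst ha
    exact sym2_one_left x hij _
  · have h1 : (1 : F) - (a : F) ≠ 0 := by
      intro h
      apply ha
      ext
      exact (sub_eq_zero.mp h).symm
    have h2 : (1 : F) - ((a⁻¹ : Fˣ) : F) ≠ 0 := by
      intro h
      apply ha
      have : (a⁻¹ : Fˣ) = 1 := by
        ext
        exact (sub_eq_zero.mp h).symm
      exact inv_eq_one.mp this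
    have e : -a = Units.mk0 _ h1 * (Units.mk0 _ h2)⁻¹ := by
      rw [eq_mul_inv_iff_mul_eq]
      ext
      simp only [Units.val_mul, Units.val_neg, Units.val_mk0, Units.val_inv_eq_inv_val]
      have : (a : F) ≠ 0 := a.ne_zero
      field_simp
      ring
    rw [e, sym2_mul_right, sym2_inv_right,
      sym2_steinberg x hij a (Units.mk0 _ h1) (by simp)]
    have h3 : sym2 x i j a⁻¹ (Units.mk0 _ h2) = 0 := sym2_steinberg x hij _ _ (by simp)
    have h4 := sym2_inv_left x hij a⁻¹ (Units.mk0 _ h2)
    rw [inv_inv, h3, neg_zero] at h4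
    rw [h4, neg_zero, add_zero]

/-- Antisymmetry in two slots. -/
theorem sym2_swap {n : ℕ} (x : Fin n → Fˣ) {i j : Fin n} (hij : i ≠ j) (a b : Fˣ) :
    sym2 x i j a b + sym2 x i j b a = 0 := by
  have h := sym2_neg x hij (a * b)
  rw [sym2_mul_left x hij] at h
  have e1 : -(a * b) = (-a) * b := by rw [neg_mul]
  have e2 : -(a * b) = (-b) * a := by rw [neg_mul, mul_comm]
  have h1 : sym2 x i j a (-(a * b)) = sym2 x i j a b := by
    rw [e1, sym2_mul_right, sym2_neg x hij, zero_add]
  have h2 : sym2 x i j b (-(a * b)) = sym2 x i j b a := by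
    rw [e2, sym2_mul_right, sym2_neg x hij, zero_add]
  rw [h1, h2] at h
  exact h

/-- `{a, a} = {a, -1}` in slots `i ≠ j`. -/
theorem sym2_same {n : ℕ} (x : Fin n → Fˣ) {i j : Fin n} (hij : i ≠ j) (a : Fˣ) :
    sym2 x i j a a = sym2 x i j a (-1) := by
  have e : a = (-1) * (-a) := by simp
  conv_lhs => rw [e, sym2_mul_right, ← e, sym2_neg x hij, add_zero]

theorem symbol_eq_zero_of_eq_neg {n : ℕ} (x : Fin n → Fˣ) {i j : Fin n} (hij : i ≠ j)
    (h : x j = - x i) : MilK.symbol x = 0 := by
  rw [symbol_eq_sym2 x i j, h]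
  exact sym2_neg x hij _

theorem symbol_comp_swap {n : ℕ} (x : Fin n → Fˣ) {i j : Fin n} (hij : i ≠ j) :
    MilK.symbol (x ∘ Equiv.swap i j) = - MilK.symbol x := by
  rw [sym2_comp_swap x hij, symbol_eq_sym2 x i j]
  exact eq_neg_of_add_eq_zero_left (sym2_swap x hij _ _)

/-- Symbols are alternating under permutation of the entries. -/
theorem symbol_comp_perm {n : ℕ} (σ : Equiv.Perm (Fin n)) (x : Fin n → Fˣ) :
    MilK.symbol (x ∘ σ) = ((Equiv.Perm.sign σ : ℤˣ) : ℤ) • MilK.symbol x := by
  induction σ using Equiv.Perm.swap_induction_on generalizing x with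
  | one => simp
  | swap_mul f i j hij ih =>
    have e : x ∘ ⇑(Equiv.swap i j * f) = (x ∘ Equiv.swap i j) ∘ f := by
      funext k
      simp
    rw [e, ih, symbol_comp_swap x hij, Equiv.Perm.sign_mul, Equiv.Perm.sign_swap hij]
    simp

/-- If `W` generates the unit group, then a subgroup containing all symbols with entries in `W`
is everything. -/
theorem eq_top_of_generators {n : ℕ} (W : Set Fˣ) (hW : Subgroup.closure W = ⊤)
    (G : AddSubgroup (MilK.K F n))
    (hG : ∀ x : Fin n → Fˣ, (∀ i, x i ∈ W) → MilK.symbol x ∈ G) : G = ⊤ := by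
  have key : ∀ k : ℕ, ∀ x : Fin n → Fˣ, (∀ i : Fin n, k ≤ i.val → x i ∈ W) → MilK.symbol x ∈ G := by
    intro k
    induction k with
    | zero => exact fun x hx => hG x fun i => hx i (Nat.zero_le _)
    | succ k ih =>
      intro x hx
      by_cases hk : k < n
      · set i₀ : Fin n := ⟨k, hk⟩ with hi₀
        have hall : ∀ a : Fˣ, a ∈ Subgroup.closure W → MilK.symbol (Function.update x i₀ a) ∈ G := by
          intro a ha
          induction ha using Subgroup.closure_induction with
          | mem a ha =>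
            apply ih
            intro i hi
            by_cases hii : i = i₀
            · subst hii; simpa using ha
            · rw [Function.update_of_ne hii]
              apply hx
              have : i.val ≠ k := fun h => hii (Fin.ext h)
              omega
          | one => rw [symbol_update_one]; exact G.zero_mem
          | mul a b _ _ ha hb => rw [symbol_update_mul]; exact G.add_mem ha hb
          | inv a _ ha => rw [symbol_update_inv]; exact G.neg_mem ha
        have := hall (x i₀) (hW ▸ Subgroup.mem_top _)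
        rwa [Function.update_eq_self] at this
      · apply ih
        intro i _
        exact absurd i.isLt (by omega)
  rw [eq_top_iff, ← closure_symbols, AddSubgroup.closure_le]
  rintro _ ⟨x, rfl⟩
  exact key n x fun i hi => absurd i.isLt (by omega)

theorem symbol_cons_cons_swap {n : ℕ} (a b : Fˣ) (v : Fin n → Fˣ) :
    MilK.symbol (Fin.cons a (Fin.cons b v) : Fin (n + 1 + 1) → Fˣ) =
      - MilK.symbol (Fin.cons b (Fin.cons a v) : Fin (n + 1 + 1) → Fˣ) := by
  have h01 : (0 : Fin (n + 1 + 1)) ≠ 1 := by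
    intro h
    have := congrArg Fin.val h
    simp at this
  have h := symbol_comp_swap (Fin.cons b (Fin.cons a v) : Fin (n + 1 + 1) → Fˣ) h01
  rw [← h]
  congr 1
  funext k
  cases k using Fin.cases with
  | zero => simp
  | succ k =>
    cases k using Fin.cases with
    | zero =>
      have : (Fin.succ (0 : Fin (n + 1)) : Fin (n + 1 + 1)) = 1 := rfl
      simp [this]
    | succ k =>
      have h0 : (k.succ.succ : Fin (n + 1 + 1)) ≠ 0 := Fin.succ_ne_zero _
      have h1 : (k.succ.succ : Fin (n + 1 + 1)) ≠ 1 := by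
        intro h
        have := congrArg Fin.val h
        simp at this
      simp [Equiv.swap_apply_of_ne_of_ne h0 h1]

/-- The product `{a} · {v₁, …, vₙ}`, transported to degree `n + 1`, is `{a, v₁, …, vₙ}`. -/
theorem cast_mul_symbol_one {n : ℕ} (a : Fˣ) (v : Fin n → Fˣ) :
    MilK.cast F (Nat.add_comm 1 n) (MilK.mul F 1 n (MilK.symbol ![a]) (MilK.symbol v)) =
      MilK.symbol (Fin.cons a v : Fin (n + 1) → Fˣ) := by
  rw [MilK.mul_symbol_symbol, MilK.cast_symbol, Fin.append_left_eq_cons]
  congr 1

theorem symbol_cons_pow {n : ℕ} (x : Fin n → Fˣ) (a : Fˣ) (k : ℕ) :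
    MilK.symbol (Fin.cons (a ^ k) x : Fin (n + 1) → Fˣ) =
      k • MilK.symbol (Fin.cons a x : Fin (n + 1) → Fˣ) := by
  have h := symbol_update_pow (Fin.cons 1 x : Fin (n + 1) → Fˣ) 0 a k
  rwa [Fin.update_cons_zero, Fin.update_cons_zero] at h

theorem symbol_cons_zpow {n : ℕ} (x : Fin n → Fˣ) (a : Fˣ) (k : ℤ) :
    MilK.symbol (Fin.cons (a ^ k) x : Fin (n + 1) → Fˣ) =
      k • MilK.symbol (Fin.cons a x : Fin (n + 1) → Fˣ) := by
  have h := symbol_update_zpow (Fin.cons 1 x : Fin (n + 1) → Fˣ) 0 a k
  rwa [Fin.update_cons_zero, Fin.update_cons_zero] at h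

theorem symbol_eq_zero_of_eq_one {n : ℕ} (x : Fin n → Fˣ) (i : Fin n) (h : x i = 1) :
    MilK.symbol x = 0 := by
  have := symbol_update_one x i
  rwa [← h, Function.update_eq_self] at this

/-- Two additive maps agreeing on symbols with entries in a generating set are equal. -/
theorem hom_ext_of_generators {M : Type w} [AddCommGroup M] {n : ℕ} (W : Set Fˣ)
    (hW : Subgroup.closure W = ⊤) (f g : MilK.K F n →+ M)
    (h : ∀ x : Fin n → Fˣ, (∀ i, x i ∈ W) → f (MilK.symbol x) = g (MilK.symbol x)) : f = g := by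
  have : AddMonoidHom.eqLocus f g = ⊤ := eq_top_of_generators W hW _ h
  ext z
  have hz : z ∈ AddMonoidHom.eqLocus f g := this ▸ AddSubgroup.mem_top z
  exact hz

theorem irreducible_neg' {B : Type*} [CommRing B] {ϖ : B} (hϖ : Irreducible ϖ) : Irreducible (-ϖ) := by
  have := (irreducible_units_mul (-1 : Bˣ)).mpr hϖ
  simpa using this

section DVR

variable (A : Type u) [CommRing A] [IsDomain A] [IsDiscreteValuationRing A]
  (L : Type v) [Field L] [Algebra A L] [IsFractionRing A L]

theorem unitFrac_mul_unit (ϖ : A) (hϖ : ϖ ≠ 0) (u : Aˣ) :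
    MilK.unitFrac A L (ϖ * u) (mul_ne_zero hϖ u.ne_zero) =
      MilK.unitFrac A L ϖ hϖ * MilK.unitToFrac A L u := by
  ext
  simp [MilK.unitToFrac]

omit [IsDomain A] [IsDiscreteValuationRing A] in
theorem unitFrac_neg (ϖ : A) (hϖ : ϖ ≠ 0) :
    MilK.unitFrac A L (-ϖ) (neg_ne_zero.mpr hϖ) = - MilK.unitFrac A L ϖ hϖ := by
  ext
  simp

variable {A L}

/-- The tame symbol kills symbols of units. -/
theorem tame_unit_symbol {n : ℕ} {d : MilK.K L (n + 1) →+ MilK.K (IsLocalRing.ResidueField A) n}
    (hd : MilK.IsTameSymbol A L n d) (u : Fin (n + 1) → Aˣ) :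
    d (MilK.symbol (fun i => MilK.unitToFrac A L (u i))) = 0 := by
  obtain ⟨ϖ, hϖ⟩ := IsDiscreteValuationRing.exists_irreducible A
  have hϖ' : Irreducible (ϖ * u 0) := (irreducible_mul_units (u 0)).mpr hϖ
  have h1 := hd ϖ hϖ (fun i => u i.succ)
  have h2 := hd (ϖ * u 0) hϖ' (fun i => u i.succ)
  rw [unitFrac_mul_unit A L ϖ hϖ.ne_zero (u 0), symbol_cons_mul, map_add, h1] at h2
  have h3 : (fun i => MilK.unitToFrac A L (u i)) =
      (Fin.cons (MilK.unitToFrac A L (u 0)) (fun i => MilK.unitToFrac A L (u i.succ)) :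
        Fin (n + 1) → Lˣ) := by
    funext i
    cases i using Fin.cases <;> simp
  rw [h3]
  exact left_eq_add.mp h2.symm

/-- The generating set of `Lˣ`: a uniformizer and the units of `A`. -/
def unitGens (ϖ : A) (hϖ : Irreducible ϖ) : Set Lˣ :=
  {MilK.unitFrac A L ϖ hϖ.ne_zero} ∪ Set.range (MilK.unitToFrac A L)

theorem closure_unitGens (ϖ : A) (hϖ : Irreducible ϖ) :
    Subgroup.closure (unitGens (L := L) ϖ hϖ) = ⊤ := by
  rw [eq_top_iff]
  intro x _
  obtain ⟨e, u, hu⟩ := IsDiscreteValuationRing.exists_units_eq_smul_zpow_of_irreducible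
    (K := L) hϖ (x := (x : L)) x.ne_zero
  have hx : x = MilK.unitToFrac A L u * MilK.unitFrac A L ϖ hϖ.ne_zero ^ e := by
    ext
    rw [hu]
    simp [MilK.unitToFrac, Units.smul_def, Algebra.smul_def]
  rw [hx]
  have h1 : MilK.unitFrac A L ϖ hϖ.ne_zero ∈ Subgroup.closure (unitGens (L := L) ϖ hϖ) :=
    Subgroup.subset_closure (Or.inl rfl)
  have h2 : MilK.unitToFrac A L u ∈ Subgroup.closure (unitGens (L := L) ϖ hϖ) :=
    Subgroup.subset_closure (Or.inr ⟨u, rfl⟩)
  exact mul_mem h2 (zpow_mem h1 e)

/-- The standard generators of `K_{n+1}(L)`: `{π, u₁, …, uₙ}` and `{u₀, …, uₙ}`. -/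
def stdGens (ϖ : A) (hϖ : Irreducible ϖ) (n : ℕ) : Set (MilK.K L (n + 1)) :=
  {z | ∃ u : Fin n → Aˣ, z = MilK.symbol (Fin.cons (MilK.unitFrac A L ϖ hϖ.ne_zero)
      fun i => MilK.unitToFrac A L (u i))} ∪
  {z | ∃ u : Fin (n + 1) → Aˣ, z = MilK.symbol (fun i => MilK.unitToFrac A L (u i))}

omit [IsDiscreteValuationRing A] in
theorem neg_one_ne_unitFrac (ϖ : A) (hϖ : Irreducible ϖ) :
    (-1 : Lˣ) ≠ MilK.unitFrac A L ϖ hϖ.ne_zero := by
  intro h
  have h1 : algebraMap A L (-1) = algebraMap A L ϖ := by
    have := congrArg (fun z : Lˣ => (z : L)) h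
    simpa using this
  have h2 : (-1 : A) = ϖ := IsFractionRing.injective A L h1
  exact hϖ.not_isUnit (h2 ▸ isUnit_one.neg)

theorem symbol_mem_closure_stdGens_of_unitGens (ϖ : A) (hϖ : Irreducible ϖ) (n : ℕ)
    (x : Fin (n + 1) → Lˣ) (hx : ∀ i, x i ∈ unitGens (L := L) ϖ hϖ) :
    MilK.symbol x ∈ AddSubgroup.closure (stdGens (L := L) ϖ hϖ n) := by
  classical
  set πL := MilK.unitFrac A L ϖ hϖ.ne_zero with hπL
  induction' hc : (Finset.univ.filter (fun i => x i = πL)).card using Nat.strong_induction_on
    with c ih generalizing x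
  by_cases hex : ∃ i, x i = πL
  · obtain ⟨i, hi⟩ := hex
    by_cases hex2 : ∃ j, j ≠ i ∧ x j = πL
    · obtain ⟨j, hji, hj⟩ := hex2
      have e1 : MilK.symbol x = MilK.symbol (Function.update x j (-1)) := by
        rw [symbol_eq_sym2 x i j, hi, hj, sym2_same x hji.symm]
        unfold sym2
        rw [← hi, Function.update_eq_self]
      rw [e1]
      refine ih _ ?_ (Function.update x j (-1)) ?_ rfl
      · rw [← hc]
        apply Finset.card_lt_card
        rw [Finset.ssubset_iff_of_subset]
        · refine ⟨j, by simp [hj], ?_⟩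
          simp only [Finset.mem_filter, Finset.mem_univ, Function.update_self, true_and]
          exact neg_one_ne_unitFrac ϖ hϖ
        · intro k hk
          simp only [Finset.mem_filter, Finset.mem_univ, true_and] at hk ⊢
          by_cases hkj : k = j
          · subst hkj
            rw [Function.update_self] at hk
            exact absurd hk (neg_one_ne_unitFrac ϖ hϖ)
          · rwa [Function.update_of_ne hkj] at hk
      · intro k
        by_cases hkj : k = j
        · subst hkj
          rw [Function.update_self]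
          exact Or.inr ⟨-1, by ext; simp [MilK.unitToFrac]⟩
        · rw [Function.update_of_ne hkj]
          exact hx k
    · push Not at hex2
      -- exactly one uniformizer, at position `i`
      set σ : Equiv.Perm (Fin (n + 1)) := Equiv.swap 0 i with hσ
      have h1 := symbol_comp_perm σ x
      have h2 : MilK.symbol x = ((Equiv.Perm.sign σ : ℤˣ) : ℤ) • MilK.symbol (x ∘ σ) := by
        rw [h1, smul_smul, ← Units.val_mul, Int.units_mul_self, Units.val_one, one_smul]
      rw [h2]
      apply AddSubgroup.zsmul_mem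
      apply AddSubgroup.subset_closure
      left
      have hu : ∀ k : Fin n, ∃ u : Aˣ, (x ∘ σ) k.succ = MilK.unitToFrac A L u := by
        intro k
        have hne : σ k.succ ≠ i := by
          intro h
          have : k.succ = σ.symm i := by rw [← h, Equiv.symm_apply_apply]
          rw [hσ, Equiv.symm_swap, Equiv.swap_apply_right] at this
          exact Fin.succ_ne_zero k this
        rcases hx (σ k.succ) with h | h
        · exact absurd h (hex2 _ hne)
        · obtain ⟨u, hu⟩ := h
          exact ⟨u, hu.symm⟩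
      choose u hu using hu
      refine ⟨u, ?_⟩
      congr 1
      funext k
      cases k using Fin.cases with
      | zero => simp [hσ, hi, hπL]
      | succ k => rw [Fin.cons_succ]; exact hu k
  · push Not at hex
    have hu : ∀ k, ∃ u : Aˣ, x k = MilK.unitToFrac A L u := by
      intro k
      rcases hx k with h | h
      · exact absurd h (hex k)
      · obtain ⟨u, hu⟩ := h
        exact ⟨u, hu.symm⟩
    choose u hu using hu
    apply AddSubgroup.subset_closure
    right
    exact ⟨u, by congr 1; funext k; exact hu k⟩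

/-- `K_{n+1}(L)` is generated by the symbols `{π, u₁, …, uₙ}` and `{u₀, …, uₙ}`. -/
theorem closure_stdGens (ϖ : A) (hϖ : Irreducible ϖ) (n : ℕ) :
    AddSubgroup.closure (stdGens (L := L) ϖ hϖ n) = ⊤ :=
  eq_top_of_generators _ (closure_unitGens ϖ hϖ) _
    (symbol_mem_closure_stdGens_of_unitGens ϖ hϖ n)

/-- Two additive maps out of `K_{n+1}(L)` that agree on the standard generators are equal. -/
theorem hom_ext_stdGens {M : Type w} [AddCommGroup M] (ϖ : A) (hϖ : Irreducible ϖ) (n : ℕ)
    (f g : MilK.K L (n + 1) →+ M)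
    (h1 : ∀ u : Fin n → Aˣ, f (MilK.symbol (Fin.cons (MilK.unitFrac A L ϖ hϖ.ne_zero)
      fun i => MilK.unitToFrac A L (u i))) = g (MilK.symbol (Fin.cons (MilK.unitFrac A L ϖ hϖ.ne_zero)
      fun i => MilK.unitToFrac A L (u i))))
    (h2 : ∀ u : Fin (n + 1) → Aˣ, f (MilK.symbol (fun i => MilK.unitToFrac A L (u i))) =
      g (MilK.symbol (fun i => MilK.unitToFrac A L (u i)))) : f = g := by
  have : AddMonoidHom.eqLocus f g = ⊤ := by
    rw [eq_top_iff, ← closure_stdGens ϖ hϖ n, AddSubgroup.closure_le]
    rintro z (⟨u, rfl⟩ | ⟨u, rfl⟩)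
    · exact h1 u
    · exact h2 u
  ext z
  have hz : z ∈ AddMonoidHom.eqLocus f g := this ▸ AddSubgroup.mem_top z
  exact hz

end DVR

end MilKL

end Groth.Agent.Lib.helper10
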