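import Mathlib

/-!
# Minimal free resolutions (ungraded): Tor against the residue field, projective dimension (helper10)

Adapted from helper7's graded `GrSyzTor`/`GrSyzPD` to plain free resolutions given by linear maps.
-/

set_option autoImplicit false
universe u

namespace Groth.Agent.Lib.helper10.MinRes

open CategoryTheory

/-- a resolution of `M` by finite free modules `R^(rk i)` -/
structure Res (R : Type u) [CommRing R] (M : Type u) [AddCommGroup M] [Module R M] : Type u where
  rk : ℕ → ℕ
  dLin : (i : ℕ) → (Fin (rk (i + 1)) → R) →ₗ[R] (Fin (rk i) → R)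
  augLin : (Fin (rk 0) → R) →ₗ[R] M
  aug_surjective : Function.Surjective augLin
  exact_zero : LinearMap.ker augLin = LinearMap.range (dLin 0)
  exact_succ : ∀ i : ℕ, LinearMap.ker (dLin i) = LinearMap.range (dLin (i + 1))

namespace Res

variable {R : Type u} [CommRing R] {M : Type u} [AddCommGroup M] [Module R M] (F : Res R M)

/-- minimality w.r.t. an ideal -/
def IsMinimal (𝔪 : Ideal R) : Prop :=
  ∀ (i : ℕ) (v : Fin (F.rk (i + 1)) → R) (a : Fin (F.rk i)), F.dLin i v a ∈ 𝔪

theorem dLin_comp (n : ℕ) (v : Fin (F.rk (n + 1 + 1)) → R) : F.dLin n (F.dLin (n + 1) v) = 0 := by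
  have : F.dLin (n + 1) v ∈ LinearMap.ker (F.dLin n) := by
    rw [F.exact_succ n]
    exact ⟨v, rfl⟩
  exact this

/-- The chain complex of free modules underlying a free resolution. -/
noncomputable def cx : ChainComplex (ModuleCat.{u} R) ℕ :=
  ChainComplex.of (fun n => ModuleCat.of R (Fin (F.rk n) → R))
    (fun n => ModuleCat.ofHom (F.dLin n))
    (fun n => by
      apply ModuleCat.hom_ext
      apply LinearMap.ext
      intro v
      exact dLin_comp F n v)

theorem cx_d (n : ℕ) : (cx F).d (n + 1) n = ModuleCat.ofHom (F.dLin n) := by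
  exact ChainComplex.of_d (fun n => ModuleCat.of R (Fin (F.rk n) → R))
    (fun n => ModuleCat.ofHom (F.dLin n)) n

theorem augLin_comp (v : Fin (F.rk 1) → R) : F.augLin (F.dLin 0 v) = 0 := by
  have : F.dLin 0 v ∈ LinearMap.ker F.augLin := by
    rw [F.exact_zero]
    exact ⟨v, rfl⟩
  exact this

/-- The augmentation as a chain map to the single complex. -/
noncomputable def π : cx F ⟶ (ChainComplex.single₀ (ModuleCat.{u} R)).obj (ModuleCat.of R M) :=
  ((cx F).toSingle₀Equiv _).symm ⟨ModuleCat.ofHom F.augLin, by
    rw [cx_d]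
    apply ModuleCat.hom_ext
    apply LinearMap.ext
    intro v
    exact augLin_comp F v⟩

theorem π_f_zero : (π F).f 0 = ModuleCat.ofHom F.augLin := by
  unfold π
  exact ChainComplex.toSingle₀Equiv_symm_apply_f_zero _ _

set_option backward.defeqAttrib.useBackward true in
set_option backward.isDefEq.respectTransparency false in
instance quasiIso_π : QuasiIso (π F) where
  quasiIsoAt m := by
    induction m with
    | zero =>
      rw [ChainComplex.quasiIsoAt₀_iff, ShortComplex.quasiIso_iff_of_zeros' _ rfl rfl rfl]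
      constructor
      · rw [ShortComplex.moduleCat_exact_iff_range_eq_ker]
        dsimp
        rw [π_f_zero, cx_d]
        exact F.exact_zero.symm
      · dsimp
        rw [π_f_zero, ModuleCat.epi_iff_surjective]
        exact F.aug_surjective
    | succ m _ =>
      rw [quasiIsoAt_iff_exactAt' (hL := ChainComplex.exactAt_succ_single_obj ..),
          HomologicalComplex.exactAt_iff' _ (m + 2) (m + 1) m (by simp) (by simp)]
      rw [ShortComplex.moduleCat_exact_iff_range_eq_ker]
      dsimp
      rw [cx_d, cx_d]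
      exact (F.exact_succ m).symm

/-- The projective resolution attached to a free resolution. -/
noncomputable def projRes : ProjectiveResolution (ModuleCat.of R M) where
  complex := cx F
  projective := fun n => by
    have : Module.Projective R (Fin (F.rk n) → R) := inferInstance
    exact (IsProjective.iff_projective (R := R) (Fin (F.rk n) → R)).mp this
  π := π F

open MonoidalCategory in
/-- After tensoring with `R ⧸ 𝔪` all differentials of a minimal resolution vanish. -/
theorem map_d_eq_zero {𝔪 : Ideal R} (hF : F.IsMinimal 𝔪) (a b : ℕ) :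
    ((((tensoringLeft (ModuleCat.{u} R)).obj (ModuleCat.of R (R ⧸ 𝔪))).mapHomologicalComplex
      (ComplexShape.down ℕ)).obj (cx F)).d a b = 0 := by
  classical
  rw [Functor.mapHomologicalComplex_obj_d]
  by_cases h : b + 1 = a
  · subst h
    rw [cx_d]
    apply ModuleCat.MonoidalCategory.tensor_ext
    intro x v
    change x ⊗ₜ[R] (F.dLin b v) = 0
    have hv : F.dLin b v = ∑ c, (F.dLin b v c) • (Pi.single c (1 : R) : Fin (F.rk b) → R) := by
      funext c'
      simp [Finset.sum_apply, Pi.single_apply]
    rw [hv, TensorProduct.tmul_sum]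
    refine Finset.sum_eq_zero (fun c _ => ?_)
    rw [TensorProduct.tmul_smul, TensorProduct.smul_tmul']
    obtain ⟨y, rfl⟩ := Ideal.Quotient.mk_surjective x
    have : (F.dLin b v c) • (Ideal.Quotient.mk 𝔪 y) = 0 := by
      rw [Algebra.smul_def, Ideal.Quotient.algebraMap_eq, ← map_mul, Ideal.Quotient.eq_zero_iff_mem]
      exact Ideal.mul_mem_right _ _ (hF b v c)
    rw [this, TensorProduct.zero_tmul]
  · rw [(cx F).shape a b (by simpa using h)]
    exact Functor.map_zero _ _ _

open MonoidalCategory in
/-- `Tor_i(R/𝔪, M)` has length `rk i` for a resolution minimal w.r.t. a maximal ideal `𝔪`. -/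
theorem length_tor {𝔪 : Ideal R} [h𝔪 : 𝔪.IsMaximal] (hF : F.IsMinimal 𝔪) (i : ℕ) :
    Module.length R (((Tor (ModuleCat.{u} R) i).obj (ModuleCat.of R (R ⧸ 𝔪))).obj
      (ModuleCat.of R M)) = (F.rk i : ℕ∞) := by
  have e1 := (projRes F).isoLeftDerivedObj ((tensoringLeft (ModuleCat.{u} R)).obj (ModuleCat.of R (R ⧸ 𝔪))) i
  have e2 := (ShortComplex.LeftHomologyData.ofZeros
    (((((tensoringLeft (ModuleCat.{u} R)).obj (ModuleCat.of R (R ⧸ 𝔪))).mapHomologicalComplex
      (ComplexShape.down ℕ)).obj (cx F)).sc i) (map_d_eq_zero F hF _ _) (map_d_eq_zero F hF _ _)).homologyIso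
  have e3 : (((Tor (ModuleCat.{u} R) i).obj (ModuleCat.of R (R ⧸ 𝔪))).obj (ModuleCat.of R M)) ≃ₗ[R]
      TensorProduct R (R ⧸ 𝔪) (Fin (F.rk i) → R) := (e1 ≪≫ e2).toLinearEquiv
  rw [e3.length_eq, (TensorProduct.piScalarRight R R (R ⧸ 𝔪) (Fin (F.rk i))).length_eq, Module.length_pi]
  have : IsSimpleModule R (R ⧸ 𝔪) := isSimpleModule_iff_isCoatom.mpr (Ideal.isMaximal_def.mp h𝔪)
  rw [Module.length_eq_one, mul_one]
  simp

/-! ### projective dimension -/

section pd

variable {P N : Type u} [AddCommGroup P] [Module R P] [AddCommGroup N] [Module R N]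

/-- Dimension shifting along a surjection from a projective module. -/
theorem pd_step (p : P →ₗ[R] N) (hp : Function.Surjective p) [Module.Projective R P] (m : ℕ) :
    HasProjectiveDimensionLT (ModuleCat.of R N) (m + 2) ↔
      HasProjectiveDimensionLT (ModuleCat.of R (LinearMap.ker p)) (m + 1) := by
  have hproj : Projective (ModuleCat.of R P) :=
    (IsProjective.iff_projective (R := R) P).mp inferInstance
  exact (LinearMap.shortExact_shortComplexKer hp).hasProjectiveDimensionLT_X₃_iff m hproj

theorem pd_one_iff (N : Type u) [AddCommGroup N] [Module R N] :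
    HasProjectiveDimensionLT (ModuleCat.of R N) 1 ↔ Module.Projective R N := by
  rw [← projective_iff_hasProjectiveDimensionLT_one, ← IsProjective.iff_projective]

end pd

theorem pd_zero_step (m : ℕ) :
    HasProjectiveDimensionLT (ModuleCat.of R M) (m + 2) ↔
      HasProjectiveDimensionLT (ModuleCat.of R (LinearMap.range (F.dLin 0))) (m + 1) := by
  have := pd_step F.augLin F.aug_surjective m
  rw [F.exact_zero] at this
  exact this

theorem pd_succ_step (i m : ℕ) :
    HasProjectiveDimensionLT (ModuleCat.of R (LinearMap.range (F.dLin i))) (m + 2) ↔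
      HasProjectiveDimensionLT (ModuleCat.of R (LinearMap.range (F.dLin (i + 1)))) (m + 1) := by
  have := pd_step (F.dLin i).rangeRestrict (F.dLin i).surjective_rangeRestrict m
  rw [LinearMap.ker_rangeRestrict, F.exact_succ i] at this
  exact this

theorem pd_chain (n : ℕ) : ∀ i j : ℕ, j = i + n →
    (HasProjectiveDimensionLT (ModuleCat.of R (LinearMap.range (F.dLin i))) (n + 1) ↔
      Module.Projective R (LinearMap.range (F.dLin j))) := by
  induction n with
  | zero =>
    intro i j hj
    obtain rfl : j = i := by omega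
    exact pd_one_iff _
  | succ n ih =>
    intro i j hj
    rw [pd_succ_step F i n]
    exact ih (i + 1) j (by omega)

/-- `pd M < n + 2` iff the `n`-th syzygy image is projective. -/
theorem pdLT_succ_succ_iff (n : ℕ) :
    HasProjectiveDimensionLT (ModuleCat.of R M) (n + 2) ↔
      Module.Projective R (LinearMap.range (F.dLin n)) := by
  rw [pd_zero_step F n]
  exact pd_chain F n 0 n (by omega)

/-- If the image of `d n` is projective, then (for a minimal resolution) there is `r ≡ 1 mod 𝔪`
killing the image of `d (n+1)`. -/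
theorem exists_kill_of_projective {𝔪 : Ideal R} (hF : F.IsMinimal 𝔪) (n : ℕ)
    (hproj : Module.Projective R (LinearMap.range (F.dLin n))) :
    ∃ r : R, r - 1 ∈ 𝔪 ∧ ∀ z ∈ LinearMap.range (F.dLin (n + 1)), r • z = 0 := by
  classical
  let p := (F.dLin n).rangeRestrict
  have hp : Function.Surjective p := (F.dLin n).surjective_rangeRestrict
  have hker : LinearMap.ker p = LinearMap.range (F.dLin (n + 1)) := by
    rw [LinearMap.ker_rangeRestrict, F.exact_succ n]
  obtain ⟨s, hs⟩ := Module.projective_lifting_property p LinearMap.id hp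
  have hs' : ∀ x, p (s x) = x := fun x => LinearMap.congr_fun hs x
  let Z := LinearMap.range (F.dLin (n + 1))
  let ρ : (Fin (F.rk (n + 1)) → R) →ₗ[R] (Fin (F.rk (n + 1)) → R) := LinearMap.id - s.comp p
  have hρ : ∀ z ∈ Z, ρ z = z := by
    intro z hz
    have hz' : p z = 0 := by
      have : z ∈ LinearMap.ker p := by rw [hker]; exact hz
      exact this
    simp [ρ, hz']
  have hρ' : ∀ v, ρ v ∈ Z := by
    intro v
    change ρ v ∈ LinearMap.range (F.dLin (n + 1))
    rw [← hker, LinearMap.mem_ker]
    simp [ρ, hs']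
  have hfg : Z.FG := by
    change (LinearMap.range (F.dLin (n + 1))).FG
    rw [LinearMap.range_eq_map]
    exact Submodule.FG.map _ Module.Finite.fg_top
  have hZ : ∀ z ∈ Z, ∀ i, z i ∈ 𝔪 := by
    rintro z ⟨v, rfl⟩ i
    exact hF (n + 1) v i
  have hle : Z ≤ 𝔪 • Z := by
    intro z hz
    have hz' : z = ∑ i, z i • ρ (Pi.single i 1) := by
      conv_lhs => rw [← hρ z hz, ← (Pi.basisFun R (Fin (F.rk (n + 1)))).sum_repr z, map_sum]
      refine Finset.sum_congr rfl (fun i _ => ?_)
      rw [map_smul, Pi.basisFun_repr, Pi.basisFun_apply]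
    rw [hz']
    exact Submodule.sum_mem _ (fun i _ => Submodule.smul_mem_smul (hZ z hz i) (hρ' _))
  obtain ⟨r, hr, hrz⟩ := Submodule.exists_sub_one_mem_and_smul_eq_zero_of_fg_of_le_smul 𝔪 Z hfg hle
  exact ⟨r, hr, hrz⟩

end Res

end Groth.Agent.Lib.helper10.MinRes
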