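import Mathlib
import Groth.Prelude.Def_Disp2
import Groth.Agent.S16538

/-!
# Constructing a 3n-display from a normal decomposition and a Frobenius-linear epimorphism

Given a finite projective `W(R)`-module `M = L ⊕ T` and a Frobenius-semilinear `Φ : M → M` whose image
spans `M`, there is a 3n-display structure on `M` with `Q = L + I_R T`, `V⁻¹ = Φ` on `L`,
`V⁻¹ (V w • x) = w • F x`, `F = Φ` on `T`, `F = pΦ` on `L`.
-/

set_option autoImplicit false
set_option linter.style.haveILetI false
set_option linter.unusedSectionVars false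

namespace Groth.Agent.Lib.helper10.MkDisp

open WittVector W4c1extbt610 Groth.Agent.S16538

universe u v

variable {p : ℕ} [hp : Fact p.Prime] {R : Type u} [CommRing R]
  {M : Type v} [AddCommGroup M] [Module (WittVector p R) M]

variable (L T : Submodule (WittVector p R) M) (hLT : IsCompl L T)
  (Φ : M →ₛₗ[(WittVector.frobenius : WittVector p R →+* WittVector p R)] M)
  (s : M →ₗ[WittVector p R] (M →₀ WittVector p R))
  (hs : (Finsupp.linearCombination (WittVector p R) (id : M → M)).comp s = LinearMap.id)

/-- `Q = L + I_R T` -/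
noncomputable def Qm : Submodule (WittVector p R) M := L ⊔ IV p R • T

/-- `F = Φ ∘ (p π_L + π_T)` -/
noncomputable def Fm : M →ₛₗ[(WittVector.frobenius : WittVector p R →+* WittVector p R)] M :=
  Φ.comp ((p : WittVector p R) • L.projection T hLT + T.projection L hLT.symm)

lemma Fm_apply (x : M) : Fm L T hLT Φ x =
    (p : WittVector p R) • Φ (L.projection T hLT x) + Φ (T.projection L hLT.symm x) := by
  show Φ ((p : WittVector p R) • L.projection T hLT x + T.projection L hLT.symm x) = _
  rw [map_add, map_smulₛₗ, map_natCast]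

/-- `V⁻¹` as a function on all of `M` -/
noncomputable def vM (x : M) : M :=
  Φ (L.projection T hLT x) + Psi Φ s (T.projection L hLT.symm x)

lemma pT_mem {x : M} (hx : x ∈ Qm L T) : T.projection L hLT.symm x ∈ IV p R • T := by
  obtain ⟨l, hl, t', ht', rfl⟩ := Submodule.mem_sup.mp hx
  have htT : t' ∈ T := Submodule.smul_le_right ht'
  rw [map_add, Submodule.projection_apply_of_mem_right hLT.symm hl, zero_add,
    Submodule.projection_apply_of_mem_left hLT.symm htT]
  exact ht'

lemma VV_pT {x : M} (hx : x ∈ Qm L T) : VV s (T.projection L hLT.symm x) :=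
  VV_of_mem s (Submodule.smul_mono le_rfl le_top (pT_mem L T hLT hx))

lemma vM_add {x y : M} (hx : x ∈ Qm L T) (hy : y ∈ Qm L T) :
    vM L T hLT Φ s (x + y) = vM L T hLT Φ s x + vM L T hLT Φ s y := by
  rw [vM, vM, vM, map_add, map_add, map_add, Psi_add _ s (VV_pT L T hLT s hx) (VV_pT L T hLT s hy)]
  abel

lemma vM_smul (a : WittVector p R) {x : M} (hx : x ∈ Qm L T) :
    vM L T hLT Φ s (a • x) = frobenius a • vM L T hLT Φ s x := by
  rw [vM, vM, (L.projection T hLT).map_smul, (T.projection L hLT.symm).map_smul, map_smulₛₗ,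
    Psi_smul _ s (VV_pT L T hLT s hx), smul_add]

/-- `V⁻¹` as a semilinear map on `Q` -/
noncomputable def VinvM :
    Qm L T →ₛₗ[(WittVector.frobenius : WittVector p R →+* WittVector p R)] M where
  toFun q := vM L T hLT Φ s (q : M)
  map_add' q q' := vM_add L T hLT Φ s q.2 q'.2
  map_smul' a q := vM_smul L T hLT Φ s a q.2

lemma Psi_zero : Psi Φ s 0 = 0 := by
  have := Psi_smul Φ s (VV_zero s) (0 : WittVector p R)
  rw [zero_smul, map_zero, zero_smul] at this
  exact this

lemma vM_of_mem_L {l : M} (hl : l ∈ L) : vM L T hLT Φ s l = Φ l := by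
  rw [vM, Submodule.projection_apply_of_mem_left hLT hl,
    Submodule.projection_apply_of_mem_right hLT.symm hl, Psi_zero, add_zero]

include hs in
lemma vM_versch (w : WittVector p R) (x : M) :
    vM L T hLT Φ s (verschiebung w • x) = w • Fm L T hLT Φ x := by
  rw [vM, (L.projection T hLT).map_smul, (T.projection L hLT.symm).map_smul, map_smulₛₗ,
    Psi_versch Φ s hs, Fm_apply, smul_add, smul_smul, frobenius_verschiebung]

include hLT in
lemma IV_smul_le_Qm : IV p R • (⊤ : Submodule (WittVector p R) M) ≤ Qm L T := by
  rw [Submodule.smul_le]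
  intro a ha x _
  rw [← Submodule.projection_add_projection_eq_self hLT x, smul_add]
  refine Submodule.add_mem _ (Submodule.mem_sup_left (L.smul_mem a ?_))
    (Submodule.mem_sup_right (Submodule.smul_mem_smul ha ?_))
  · exact Submodule.projection_apply_mem hLT x
  · exact Submodule.projection_apply_mem hLT.symm x

include hs in
lemma span_range_VinvM (hΦ : Submodule.span (WittVector p R) (Set.range Φ) = ⊤) :
    Submodule.span (WittVector p R) (Set.range (VinvM L T hLT Φ s)) = ⊤ := by
  rw [eq_top_iff, ← hΦ, Submodule.span_le]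
  rintro _ ⟨x, rfl⟩
  rw [SetLike.mem_coe, ← Submodule.projection_add_projection_eq_self hLT x, map_add]
  refine Submodule.add_mem _ (Submodule.subset_span ?_) (Submodule.subset_span ?_)
  · refine ⟨⟨L.projection T hLT x, Submodule.mem_sup_left (Submodule.projection_apply_mem hLT x)⟩, ?_⟩
    exact vM_of_mem_L L T hLT Φ s (Submodule.projection_apply_mem hLT x)
  · have ht : T.projection L hLT.symm x ∈ T := Submodule.projection_apply_mem hLT.symm x
    refine ⟨⟨verschiebung (1 : WittVector p R) • T.projection L hLT.symm x,
      IV_smul_le_Qm L T hLT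
        (Submodule.smul_mem_smul (verschiebung_mem_IV p R 1) Submodule.mem_top)⟩, ?_⟩
    show vM L T hLT Φ s (verschiebung (1 : WittVector p R) • T.projection L hLT.symm x) = _
    rw [vM_versch L T hLT Φ s hs, one_smul, Fm_apply,
      Submodule.projection_apply_of_mem_right hLT ht, map_zero, smul_zero, zero_add,
      Submodule.projection_apply_of_mem_left hLT.symm ht]

/-- the 3n-display attached to `(L, T, Φ)` -/
noncomputable def mkDisp [Module.Finite (WittVector p R) M] [Module.Projective (WittVector p R) M]
    (hΦ : Submodule.span (WittVector p R) (Set.range Φ) = ⊤) : Display3n p R M where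
  Q := Qm L T
  F := Fm L T hLT Φ
  Vinv := VinvM L T hLT Φ s
  finite := inferInstance
  projective := inferInstance
  IV_smul_le := IV_smul_le_Qm L T hLT
  exists_normal := ⟨L, T, hLT, rfl⟩
  span_range_Vinv := span_range_VinvM L T hLT Φ s hs hΦ
  Vinv_verschiebung_smul w x := vM_versch L T hLT Φ s hs w x

end Groth.Agent.Lib.helper10.MkDisp
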