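import Mathlib
import Groth.Agent.Lib.Helper10.GrFree

/-!
# Extending an `ℕ`-grading by zero to a `ℤ`-grading (helper10)
-/

set_option autoImplicit false
set_option linter.unusedSectionVars false
set_option linter.unusedVariables false
set_option linter.style.haveILetI false

universe u v

namespace Groth.Agent.Lib.helper10.NatIntGr

open DirectSum Groth.Agent.Lib.helper10.GrFree

section Ext

variable {N : Type*} [AddCommGroup N] {τ : Type*} [SetLike τ N] [AddSubgroupClass τ N]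
  (𝒩 : ℕ → τ)

/-- extension by zero of an `ℕ`-grading to `ℤ`, as additive subgroups -/
def extZ (i : ℤ) : AddSubgroup N := if 0 ≤ i then AddSubgroup.ofClass (𝒩 i.toNat) else ⊥

theorem mem_extZ_natCast (n : ℕ) (x : N) : x ∈ extZ 𝒩 (n : ℤ) ↔ x ∈ 𝒩 n := by
  unfold extZ
  rw [if_pos (Int.natCast_nonneg n), Int.toNat_natCast]
  exact Iff.rfl

theorem eq_zero_of_mem_extZ_neg {i : ℤ} (hi : i < 0) {x : N} (hx : x ∈ extZ 𝒩 i) : x = 0 := by
  unfold extZ at hx
  rw [if_neg (by omega)] at hx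
  exact (AddSubgroup.mem_bot).mp hx

theorem mem_extZ_of_nonneg {i : ℤ} (hi : 0 ≤ i) (x : N) : x ∈ extZ 𝒩 i ↔ x ∈ 𝒩 i.toNat := by
  unfold extZ
  rw [if_pos hi]
  exact Iff.rfl

variable [Decomposition 𝒩]

/-- the inclusion of the `n`-th piece -/
def incl (n : ℕ) : ↥(𝒩 n) →+ ↥(extZ 𝒩 (n : ℤ)) where
  toFun x := ⟨(x : N), (mem_extZ_natCast 𝒩 n (x : N)).mpr x.2⟩
  map_zero' := rfl
  map_add' _ _ := rfl

/-- the decomposition map -/
def dec : N →+ ⨁ i, ↥(extZ 𝒩 i) :=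
  (DirectSum.toAddMonoid (fun n : ℕ => (DirectSum.of (fun i => ↥(extZ 𝒩 i)) (n : ℤ)).comp
    (incl 𝒩 n))).comp (decomposeAddEquiv 𝒩).toAddMonoidHom

theorem coe_toAddMonoid (y : ⨁ n, ↥(𝒩 n)) :
    DirectSum.coeAddMonoidHom (extZ 𝒩) (DirectSum.toAddMonoid (fun n : ℕ =>
      (DirectSum.of (fun i => ↥(extZ 𝒩 i)) (n : ℤ)).comp (incl 𝒩 n)) y) =
      DirectSum.coeAddMonoidHom 𝒩 y := by
  induction y using DirectSum.induction_on with
  | zero => simp
  | of n z =>
    rw [DirectSum.toAddMonoid_of, AddMonoidHom.comp_apply, DirectSum.coeAddMonoidHom_of,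
      DirectSum.coeAddMonoidHom_of]
    rfl
  | add a b ha hb => rw [map_add, map_add, map_add, ha, hb]

instance decompositionExtZ : Decomposition (extZ 𝒩) :=
  Decomposition.ofAddHom (extZ 𝒩) (dec 𝒩)
    (by
      ext x
      change DirectSum.coeAddMonoidHom (extZ 𝒩) (DirectSum.toAddMonoid _ (decompose 𝒩 x)) = x
      rw [coe_toAddMonoid]
      exact Decomposition.left_inv x)
    (by
      apply DirectSum.addHom_ext
      intro i z
      rw [AddMonoidHom.comp_apply, DirectSum.coeAddMonoidHom_of, AddMonoidHom.id_apply]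
      rcases lt_or_ge i 0 with hi | hi
      · have hz : z = 0 := Subtype.ext (eq_zero_of_mem_extZ_neg 𝒩 hi z.2)
        rw [hz]
        simp
      · obtain ⟨n, rfl⟩ := Int.eq_ofNat_of_zero_le hi
        have hzn : (z : N) ∈ 𝒩 n := (mem_extZ_natCast 𝒩 n _).mp z.2
        change DirectSum.toAddMonoid _ (decompose 𝒩 (z : N)) = _
        rw [decompose_of_mem 𝒩 hzn, DirectSum.toAddMonoid_of]
        rfl)

theorem projM_extZ_natCast (n : ℕ) (x : N) : projM (extZ 𝒩) (n : ℤ) x = projM 𝒩 n x := by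
  classical
  conv_lhs => rw [← sum_support_decompose 𝒩 x]
  conv_rhs => rw [← sum_support_decompose 𝒩 x]
  rw [map_sum, map_sum]
  refine Finset.sum_congr rfl fun m _ => ?_
  have hm : (decompose 𝒩 x m : N) ∈ extZ 𝒩 (m : ℤ) :=
    (mem_extZ_natCast 𝒩 m _).mpr (decompose 𝒩 x m).2
  by_cases hmn : m = n
  · subst hmn
    rw [projM_of_mem_same _ hm, projM_of_mem_same _ (decompose 𝒩 x m).2]
  · rw [projM_of_mem_ne _ hm (by exact_mod_cast hmn), projM_of_mem_ne _ (decompose 𝒩 x m).2 hmn]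

theorem decompose_extZ_natCast (n : ℕ) (x : N) :
    (decompose (extZ 𝒩) x (n : ℤ) : N) = (decompose 𝒩 x n : N) :=
  projM_extZ_natCast 𝒩 n x

end Ext

section Graded

variable {R : Type*} [CommRing R] {σ : Type*} [SetLike σ R] [AddSubgroupClass σ R]
  (𝒜 : ℕ → σ) [GradedRing 𝒜]

instance gradedMonoidExtZ : SetLike.GradedMonoid (extZ 𝒜) where
  one_mem := by
    have h : (1 : R) ∈ extZ 𝒜 ((0 : ℕ) : ℤ) :=
      (mem_extZ_natCast 𝒜 0 1).mpr SetLike.GradedOne.one_mem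
    simpa using h
  mul_mem := by
    intro i j a b ha hb
    rcases lt_or_ge i 0 with hi | hi
    · rw [eq_zero_of_mem_extZ_neg 𝒜 hi ha, zero_mul]; exact zero_mem _
    rcases lt_or_ge j 0 with hj | hj
    · rw [eq_zero_of_mem_extZ_neg 𝒜 hj hb, mul_zero]; exact zero_mem _
    obtain ⟨n, rfl⟩ := Int.eq_ofNat_of_zero_le hi
    obtain ⟨m, rfl⟩ := Int.eq_ofNat_of_zero_le hj
    rw [← Nat.cast_add, mem_extZ_natCast]
    exact SetLike.GradedMul.mul_mem ((mem_extZ_natCast 𝒜 n a).mp ha)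
      ((mem_extZ_natCast 𝒜 m b).mp hb)

instance gradedRingExtZ : GradedRing (extZ 𝒜) :=
  { gradedMonoidExtZ 𝒜, decompositionExtZ 𝒜 with }

variable {M : Type*} [AddCommGroup M] [Module R M] {τ : Type*} [SetLike τ M]
  [AddSubgroupClass τ M] (ℳ : ℕ → τ) [SetLike.GradedSMul 𝒜 ℳ]

instance gradedSMulExtZ : SetLike.GradedSMul (extZ 𝒜) (extZ ℳ) where
  smul_mem := by
    intro i j a m ha hm
    change a • m ∈ extZ ℳ (i + j)
    rcases lt_or_ge i 0 with hi | hi
    · rw [eq_zero_of_mem_extZ_neg 𝒜 hi ha, zero_smul]; exact zero_mem _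
    rcases lt_or_ge j 0 with hj | hj
    · rw [eq_zero_of_mem_extZ_neg ℳ hj hm, smul_zero]; exact zero_mem _
    obtain ⟨n, rfl⟩ := Int.eq_ofNat_of_zero_le hi
    obtain ⟨k, rfl⟩ := Int.eq_ofNat_of_zero_le hj
    rw [← Nat.cast_add, mem_extZ_natCast]
    exact SetLike.GradedSMul.smul_mem ((mem_extZ_natCast 𝒜 n a).mp ha)
      ((mem_extZ_natCast ℳ k m).mp hm)

theorem isHomogeneousElem_of_extZ {x : M} (hx : SetLike.IsHomogeneousElem (extZ ℳ) x) :
    SetLike.IsHomogeneousElem ℳ x := by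
  obtain ⟨i, hi⟩ := hx
  rcases lt_or_ge i 0 with h | h
  · rw [eq_zero_of_mem_extZ_neg ℳ h hi]
    exact ⟨0, zero_mem _⟩
  · exact ⟨i.toNat, (mem_extZ_of_nonneg ℳ h x).mp hi⟩

end Graded

end Groth.Agent.Lib.helper10.NatIntGr
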