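import Mathlib
import Groth.Agent.Lib.Helper7.NatTransLES

/-!
# Naturality (in the object) of the connecting homomorphisms of helper7's `NatTransLES` (helper10)

For `F₁ ⟶ F₂ ⟶ F₃` short exact on projectives and a morphism `f : X ⟶ Y`, there are connecting
homomorphisms `δX`, `δY` for the long exact sequences at `X` and `Y`, compatible with `f`.
-/

set_option autoImplicit false
set_option linter.style.haveILetI false
universe v u v' u'

open CategoryTheory Category Limits

namespace Groth.Agent.Lib.helper10.NatTransLESNat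

open Groth.Agent.Lib.helper7.NatTransLES

variable {C : Type u} [Category.{v} C] [Abelian C]
variable {D : Type u'} [Category.{v'} D] [Abelian D]
variable {F₁ F₂ F₃ : C ⥤ D} [F₁.Additive] [F₂.Additive] [F₃.Additive]
variable (α : F₁ ⟶ F₂) (β : F₂ ⟶ F₃) (w : α ≫ β = 0)
variable (hex : ∀ (P : C) [Projective P],
  (ShortComplex.mk (α.app P) (β.app P) (app_zero α β w P)).ShortExact)
variable [HasProjectiveResolutions C]

/-- the connecting homomorphism computed with the resolution `Q` -/
noncomputable def δQ {X : C} (Q : ProjectiveResolution X) (n : ℕ) :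
    (F₃.leftDerived (n + 1)).obj X ⟶ (F₁.leftDerived n).obj X :=
  (e₃ α β w Q (n + 1)).hom ≫ (cx_shortExact α β w hex Q).δ (n + 1) n rfl ≫ (e₁ α β w Q n).inv

lemma δQ_comp_e₁ {X : C} (Q : ProjectiveResolution X) (n : ℕ) :
    δQ α β w hex Q n ≫ (e₁ α β w Q n).hom =
      (e₃ α β w Q (n + 1)).hom ≫ (cx_shortExact α β w hex Q).δ (n + 1) n rfl := by
  rw [δQ, assoc, assoc, Iso.inv_hom_id, comp_id]

lemma map_comp_δQ {X : C} (Q : ProjectiveResolution X) (n : ℕ) :
    (NatTrans.leftDerived β (n + 1)).app X ≫ δQ α β w hex Q n = 0 := by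
  rw [← cancel_mono (e₁ α β w Q n).hom, assoc, δQ_comp_e₁,
    reassoc_of% (comm₂₃ α β w Q (n + 1)), (cx_shortExact α β w hex Q).comp_δ, comp_zero, zero_comp]

lemma δQ_comp_map {X : C} (Q : ProjectiveResolution X) (n : ℕ) :
    δQ α β w hex Q n ≫ (NatTrans.leftDerived α n).app X = 0 := by
  rw [← cancel_mono (e₂ α β w Q n).hom, assoc, comm₁₂ α β w Q n,
    reassoc_of% (δQ_comp_e₁ α β w hex Q n), (cx_shortExact α β w hex Q).δ_comp, comp_zero,
    zero_comp]

lemma exact_map_δQ {X : C} (Q : ProjectiveResolution X) (n : ℕ) :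
    (ShortComplex.mk ((NatTrans.leftDerived β (n + 1)).app X) (δQ α β w hex Q n)
      (map_comp_δQ α β w hex Q n)).Exact := by
  refine ShortComplex.exact_of_iso ?_
    ((cx_shortExact α β w hex Q).homology_exact₃ (n + 1) n rfl)
  exact (ShortComplex.isoMk (e₂ α β w Q (n + 1)) (e₃ α β w Q (n + 1))
    (e₁ α β w Q n) (comm₂₃ α β w Q (n + 1)).symm (δQ_comp_e₁ α β w hex Q n).symm).symm

lemma exact_δQ_map {X : C} (Q : ProjectiveResolution X) (n : ℕ) :
    (ShortComplex.mk (δQ α β w hex Q n) ((NatTrans.leftDerived α n).app X)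
      (δQ_comp_map α β w hex Q n)).Exact := by
  refine ShortComplex.exact_of_iso ?_
    ((cx_shortExact α β w hex Q).homology_exact₁ (n + 1) n rfl)
  exact (ShortComplex.isoMk (e₃ α β w Q (n + 1)) (e₁ α β w Q n)
    (e₂ α β w Q n) (δQ_comp_e₁ α β w hex Q n).symm (comm₁₂ α β w Q n).symm).symm

/-- the morphism of short complexes of chain complexes induced by a lift `φ` -/
noncomputable def cxMap {X Y : C} (QX : ProjectiveResolution X) (QY : ProjectiveResolution Y)
    (φ : QX.complex ⟶ QY.complex) : cx α β w QX ⟶ cx α β w QY where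
  τ₁ := (F₁.mapHomologicalComplex _).map φ
  τ₂ := (F₂.mapHomologicalComplex _).map φ
  τ₃ := (F₃.mapHomologicalComplex _).map φ
  comm₁₂ := by
    dsimp [cx]
    exact NatTrans.mapHomologicalComplex_naturality α φ
  comm₂₃ := by
    dsimp [cx]
    exact NatTrans.mapHomologicalComplex_naturality β φ

/-- naturality of the connecting homomorphisms -/
theorem δQ_naturality {X Y : C} (f : X ⟶ Y) (QX : ProjectiveResolution X)
    (QY : ProjectiveResolution Y) (φ : QX.complex ⟶ QY.complex)
    (comm : φ.f 0 ≫ QY.π.f 0 = QX.π.f 0 ≫ f) (n : ℕ) :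
    δQ α β w hex QX n ≫ (F₁.leftDerived n).map f =
      (F₃.leftDerived (n + 1)).map f ≫ δQ α β w hex QY n := by
  rw [← cancel_mono (e₁ α β w QY n).hom, assoc, assoc, δQ_comp_e₁]
  have h1 : (F₁.leftDerived n).map f ≫ (e₁ α β w QY n).hom =
      (e₁ α β w QX n).hom ≫ HomologicalComplex.homologyMap (cxMap α β w QX QY φ).τ₁ n :=
    ProjectiveResolution.isoLeftDerivedObj_hom_naturality f QX QY φ comm F₁ n
  have h3 : (F₃.leftDerived (n + 1)).map f ≫ (e₃ α β w QY (n + 1)).hom =
      (e₃ α β w QX (n + 1)).hom ≫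
        HomologicalComplex.homologyMap (cxMap α β w QX QY φ).τ₃ (n + 1) :=
    ProjectiveResolution.isoLeftDerivedObj_hom_naturality f QX QY φ comm F₃ (n + 1)
  rw [h1, reassoc_of% (δQ_comp_e₁ α β w hex QX n), reassoc_of% h3]
  congr 1
  exact HomologicalComplex.HomologySequence.δ_naturality (cxMap α β w QX QY φ)
    (cx_shortExact α β w hex QX) (cx_shortExact α β w hex QY) (n + 1) n rfl

include w hex in
/-- Existence of compatible connecting homomorphisms at `X` and `Y` for `f : X ⟶ Y`. -/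
theorem exists_δ_natural {X Y : C} (f : X ⟶ Y) (n : ℕ) :
    ∃ (δX : (F₃.leftDerived (n + 1)).obj X ⟶ (F₁.leftDerived n).obj X)
      (δY : (F₃.leftDerived (n + 1)).obj Y ⟶ (F₁.leftDerived n).obj Y)
      (wX₁ : (NatTrans.leftDerived β (n + 1)).app X ≫ δX = 0)
      (wX₂ : δX ≫ (NatTrans.leftDerived α n).app X = 0)
      (wY₁ : (NatTrans.leftDerived β (n + 1)).app Y ≫ δY = 0)
      (wY₂ : δY ≫ (NatTrans.leftDerived α n).app Y = 0),
      (ShortComplex.mk ((NatTrans.leftDerived β (n + 1)).app X) δX wX₁).Exact ∧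
      (ShortComplex.mk δX ((NatTrans.leftDerived α n).app X) wX₂).Exact ∧
      (ShortComplex.mk ((NatTrans.leftDerived β (n + 1)).app Y) δY wY₁).Exact ∧
      (ShortComplex.mk δY ((NatTrans.leftDerived α n).app Y) wY₂).Exact ∧
      δX ≫ (F₁.leftDerived n).map f = (F₃.leftDerived (n + 1)).map f ≫ δY := by
  obtain ⟨QX⟩ : Nonempty (ProjectiveResolution X) := HasProjectiveResolution.out
  obtain ⟨QY⟩ : Nonempty (ProjectiveResolution Y) := HasProjectiveResolution.out
  exact ⟨δQ α β w hex QX n, δQ α β w hex QY n, map_comp_δQ α β w hex QX n,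
    δQ_comp_map α β w hex QX n, map_comp_δQ α β w hex QY n, δQ_comp_map α β w hex QY n,
    exact_map_δQ α β w hex QX n, exact_δQ_map α β w hex QX n,
    exact_map_δQ α β w hex QY n, exact_δQ_map α β w hex QY n,
    δQ_naturality α β w hex f QX QY (ProjectiveResolution.lift f QX QY)
      (ProjectiveResolution.lift_commutes_zero f QX QY) n⟩

end Groth.Agent.Lib.helper10.NatTransLESNat
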