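import Mathlib
import Groth.Agent.Lib.Helper10.NatTransLESNat

/-!
# The connecting homomorphisms of helper7's `NatTransLES` as a natural transformation (helper10)
-/

set_option autoImplicit false
set_option linter.style.haveILetI false
universe v u v' u'

open CategoryTheory Category Limits

namespace Groth.Agent.Lib.helper10.NatTransLESNat

open Groth.Agent.Lib.helper7.NatTransLES

variable {C : Type u} [Category.{v} C] [Abelian C]
variable {D : Type u'} [Category.{v'} D] [Abelian D]
variable {F₁ F₂ F₃ : C ⥤ D} [F₁.Additive] [F₂.Additive] [F₃.Additive]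
variable (α : F₁ ⟶ F₂) (β : F₂ ⟶ F₃) (w : α ≫ β = 0)
variable (hex : ∀ (P : C) [Projective P],
  (ShortComplex.mk (α.app P) (β.app P) (app_zero α β w P)).ShortExact)
variable [HasProjectiveResolutions C]

/-- a chosen projective resolution -/
noncomputable def chosenRes (X : C) : ProjectiveResolution X :=
  (HasProjectiveResolution.out : Nonempty (ProjectiveResolution X)).some

/-- the connecting homomorphisms `L_{n+1} F₃ ⟶ L_n F₁`, as a natural transformation -/
noncomputable def Δ (n : ℕ) : F₃.leftDerived (n + 1) ⟶ F₁.leftDerived n where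
  app X := δQ α β w hex (chosenRes X) n
  naturality X Y f :=
    (δQ_naturality α β w hex f (chosenRes X) (chosenRes Y)
      (ProjectiveResolution.lift f (chosenRes X) (chosenRes Y))
      (ProjectiveResolution.lift_commutes_zero f (chosenRes X) (chosenRes Y)) n).symm

lemma map_comp_Δ (X : C) (n : ℕ) :
    (NatTrans.leftDerived β (n + 1)).app X ≫ (Δ α β w hex n).app X = 0 :=
  map_comp_δQ α β w hex (chosenRes X) n

lemma Δ_comp_map (X : C) (n : ℕ) :
    (Δ α β w hex n).app X ≫ (NatTrans.leftDerived α n).app X = 0 :=
  δQ_comp_map α β w hex (chosenRes X) n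

lemma exact_map_Δ (X : C) (n : ℕ) :
    (ShortComplex.mk ((NatTrans.leftDerived β (n + 1)).app X) ((Δ α β w hex n).app X)
      (map_comp_Δ α β w hex X n)).Exact :=
  exact_map_δQ α β w hex (chosenRes X) n

lemma exact_Δ_map (X : C) (n : ℕ) :
    (ShortComplex.mk ((Δ α β w hex n).app X) ((NatTrans.leftDerived α n).app X)
      (Δ_comp_map α β w hex X n)).Exact :=
  exact_δQ_map α β w hex (chosenRes X) n

end Groth.Agent.Lib.helper10.NatTransLESNat
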