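import Mathlib
import Groth.Agent.Lib.Helper10.ArNF

set_option linter.style.haveILetI false
set_option linter.unusedSectionVars false

universe u

namespace Groth.Agent.Lib.helper10.NodeNF

open MvPowerSeries
open Groth.Agent.Lib.helper10.ArNF (idx idx_zero idx_one idx_eta idx_add idx_le_iff idx_sub)

section sums

variable {R : Type u} [CommRing R] (I : Ideal R) [IsAdicComplete I R] (π : R)

theorem smodeq_iff (n : ℕ) (a b : R) :
    a ≡ b [SMOD (I ^ n • ⊤ : Submodule R R)] ↔ a - b ∈ I ^ n := by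
  rw [SModEq.sub_mem]
  simp

/-- partial sums of `Σ c_j π^j`. -/
noncomputable def psum (c : ℕ → R) (N : ℕ) : R := ∑ j ∈ Finset.range N, c j * π ^ j

theorem psum_succ' (c : ℕ → R) (N : ℕ) :
    psum π c (N + 1) = c 0 + π * psum π (fun j => c (j + 1)) N := by
  unfold psum
  rw [Finset.sum_range_succ', pow_zero, mul_one, Finset.mul_sum, add_comm]
  congr 1
  apply Finset.sum_congr rfl
  intro j _
  rw [pow_succ]
  ring

theorem psum_cauchy (hπ : π ∈ I) (c : ℕ → R) {m n : ℕ} (h : m ≤ n) :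
    psum π c m - psum π c n ∈ I ^ m := by
  have e : psum π c n - psum π c m = ∑ j ∈ Finset.Ico m n, c j * π ^ j := by
    unfold psum
    rw [Finset.sum_Ico_eq_sub _ h]
  have h2 : psum π c n - psum π c m ∈ I ^ m := by
    rw [e]
    apply Ideal.sum_mem
    intro j hj
    rw [Finset.mem_Ico] at hj
    apply Ideal.mul_mem_left
    exact Ideal.pow_le_pow_right hj.1 (Ideal.pow_mem_pow hπ j)
  have := (I ^ m).neg_mem h2
  rwa [neg_sub] at this

theorem exists_lim (hπ : π ∈ I) (c : ℕ → R) : ∃ L : R, ∀ n, psum π c n - L ∈ I ^ n := by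
  obtain ⟨L, hL⟩ := IsPrecomplete.prec' (I := I) (psum π c)
    (fun {m n} h => (smodeq_iff I m _ _).mpr (psum_cauchy I π hπ c h))
  exact ⟨L, fun n => (smodeq_iff I n _ _).mp (hL n)⟩

/-- the sum `Σ c_j π^j`. -/
noncomputable def S (hπ : π ∈ I) (c : ℕ → R) : R := Classical.choose (exists_lim I π hπ c)

theorem S_spec (hπ : π ∈ I) (c : ℕ → R) (n : ℕ) : psum π c n - S I π hπ c ∈ I ^ n :=
  Classical.choose_spec (exists_lim I π hπ c) n

theorem eq_zero_of_forall_mem (x : R) (h : ∀ n, x ∈ I ^ n) : x = 0 := by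
  apply IsHausdorff.haus' (I := I) x
  intro n
  rw [smodeq_iff, sub_zero]
  exact h n

theorem S_eq (hπ : π ∈ I) (c : ℕ → R) :
    S I π hπ c = c 0 + π * S I π hπ (fun j => c (j + 1)) := by
  rw [← sub_eq_zero]
  apply eq_zero_of_forall_mem I
  intro n
  have h1 := S_spec I π hπ c (n + 1)
  have h2 := S_spec I π hπ (fun j => c (j + 1)) n
  rw [psum_succ'] at h1
  have h1' : c 0 + π * psum π (fun j => c (j + 1)) n - S I π hπ c ∈ I ^ n :=
    Ideal.pow_le_pow_right (Nat.le_succ n) h1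
  have h3 : π * (psum π (fun j => c (j + 1)) n - S I π hπ (fun j => c (j + 1))) ∈ I ^ n :=
    Ideal.mul_mem_left _ _ h2
  have e : S I π hπ c - (c 0 + π * S I π hπ (fun j => c (j + 1))) =
      π * (psum π (fun j => c (j + 1)) n - S I π hπ (fun j => c (j + 1))) -
      (c 0 + π * psum π (fun j => c (j + 1)) n - S I π hπ c) := by ring
  rw [e]
  exact Ideal.sub_mem _ h3 h1'

end sums

section coeffs

variable {R : Type u} [CommRing R]

/-- the coefficient at `x^a y^b`. -/
noncomputable def cf (F : MvPowerSeries (Fin 2) R) (a b : ℕ) : R := coeff (idx a b) F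

theorem ext_cf {F G : MvPowerSeries (Fin 2) R} (h : ∀ a b, cf F a b = cf G a b) : F = G := by
  ext m
  rw [← idx_eta m]
  exact h _ _

/-- the power series with given coefficients. -/
noncomputable def mk2 (c : ℕ → ℕ → R) : MvPowerSeries (Fin 2) R := fun m => c (m 0) (m 1)

theorem cf_mk2 (c : ℕ → ℕ → R) (a b : ℕ) : cf (mk2 c) a b = c a b := by
  change c (idx a b 0) (idx a b 1) = c a b
  rw [idx_zero, idx_one]

theorem cf_add (F G : MvPowerSeries (Fin 2) R) (a b : ℕ) : cf (F + G) a b = cf F a b + cf G a b :=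
  map_add _ _ _

theorem cf_sub (F G : MvPowerSeries (Fin 2) R) (a b : ℕ) : cf (F - G) a b = cf F a b - cf G a b :=
  map_sub _ _ _

theorem cf_zero (a b : ℕ) : cf (0 : MvPowerSeries (Fin 2) R) a b = 0 := rfl

theorem cf_C_mul (c : R) (F : MvPowerSeries (Fin 2) R) (a b : ℕ) :
    cf (C c * F) a b = c * cf F a b := by
  unfold cf
  rw [coeff_C_mul]

theorem cf_X0_mul (F : MvPowerSeries (Fin 2) R) (a b : ℕ) :
    cf (X 0 * F) a b = if 1 ≤ a then cf F (a - 1) b else 0 := by
  unfold cf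
  have h1 : (X 0 : MvPowerSeries (Fin 2) R) = monomial (idx 1 0) 1 := by
    rw [X_def]
    congr 1
    simp [idx]
  rw [h1, coeff_monomial_mul, idx_sub, one_mul]
  by_cases h : 1 ≤ a
  · rw [if_pos h, if_pos ((idx_le_iff _ _ _ _).mpr ⟨h, Nat.zero_le _⟩), Nat.sub_zero]
  · rw [if_neg h, if_neg fun h' => h ((idx_le_iff _ _ _ _).mp h').1]

theorem cf_X1_mul (F : MvPowerSeries (Fin 2) R) (a b : ℕ) :
    cf (X 1 * F) a b = if 1 ≤ b then cf F a (b - 1) else 0 := by
  unfold cf
  have h1 : (X 1 : MvPowerSeries (Fin 2) R) = monomial (idx 0 1) 1 := by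
    rw [X_def]
    congr 1
    simp [idx]
  rw [h1, coeff_monomial_mul, idx_sub, one_mul]
  by_cases h : 1 ≤ b
  · rw [if_pos h, if_pos ((idx_le_iff _ _ _ _).mpr ⟨Nat.zero_le _, h⟩), Nat.sub_zero]
  · rw [if_neg h, if_neg fun h' => h ((idx_le_iff _ _ _ _).mp h').2]

theorem cf_toMv0 (f : PowerSeries R) (a b : ℕ) :
    cf (PowerSeries.toMvPowerSeries (σ := Fin 2) 0 f) a b =
      if b = 0 then PowerSeries.coeff a f else 0 := by
  unfold cf
  rw [PowerSeries.toMvPowerSeries_eq_subst, PowerSeries.coeff_subst_single, idx_zero]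
  by_cases hb : b = 0
  · subst hb
    rw [if_pos rfl, if_pos]
    simp [idx]
  · rw [if_neg hb, if_neg]
    intro h
    have := DFunLike.congr_fun h 1
    rw [idx_one, Finsupp.single_apply, if_neg (by decide)] at this
    exact hb this

theorem cf_toMv1 (g : PowerSeries R) (a b : ℕ) :
    cf (PowerSeries.toMvPowerSeries (σ := Fin 2) 1 g) a b =
      if a = 0 then PowerSeries.coeff b g else 0 := by
  unfold cf
  rw [PowerSeries.toMvPowerSeries_eq_subst, PowerSeries.coeff_subst_single, idx_one]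
  by_cases ha : a = 0
  · subst ha
    rw [if_pos rfl, if_pos]
    simp [idx]
  · rw [if_neg ha, if_neg]
    intro h
    have := DFunLike.congr_fun h 0
    rw [idx_zero, Finsupp.single_apply, if_neg (by decide)] at this
    exact ha this

/-- the defining relation `xy - π`. -/
noncomputable def rel (π : R) : MvPowerSeries (Fin 2) R := X 0 * X 1 - C π

theorem cf_rel_mul (π : R) (Q : MvPowerSeries (Fin 2) R) (a b : ℕ) :
    cf (rel π * Q) a b =
      (if 1 ≤ a ∧ 1 ≤ b then cf Q (a - 1) (b - 1) else 0) - π * cf Q a b := by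
  unfold rel
  rw [sub_mul, cf_sub, cf_C_mul, mul_assoc, cf_X0_mul]
  congr 1
  by_cases ha : 1 ≤ a
  · rw [if_pos ha, cf_X1_mul]
    by_cases hb : 1 ≤ b
    · rw [if_pos hb, if_pos ⟨ha, hb⟩]
    · rw [if_neg hb, if_neg fun h => hb h.2]
  · rw [if_neg ha, if_neg fun h => ha h.1]

end coeffs

end Groth.Agent.Lib.helper10.NodeNF
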