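import Mathlib
import Groth.Prelude.Def_W4c5spincurvestfNode
import Groth.Agent.Lib.Helper10.NodeNF1

set_option linter.style.haveILetI false
set_option linter.unusedSectionVars false

universe u

namespace Groth.Agent.Lib.helper10.NodeNF

open MvPowerSeries

section nf

variable {R : Type u} [CommRing R] (I : Ideal R) [IsAdicComplete I R] (π : R)

theorem S_shift (hπ : π ∈ I) (c c' : ℕ → R) (h : ∀ j, c' j = c (j + 1)) :
    S I π hπ c = c 0 + π * S I π hπ c' := by
  have : c' = fun j => c (j + 1) := funext h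
  rw [this]
  exact S_eq I π hπ c

/-- existence of the normal form modulo `xy - π`. -/
theorem exists_nf (hπ : π ∈ I) (F : MvPowerSeries (Fin 2) R) :
    ∃ (f g : PowerSeries R) (Q : MvPowerSeries (Fin 2) R),
      F = PowerSeries.toMvPowerSeries (σ := Fin 2) 0 f +
        X 1 * PowerSeries.toMvPowerSeries (σ := Fin 2) 1 g + rel π * Q := by
  refine ⟨PowerSeries.mk fun n => S I π hπ fun l => cf F (n + l) l,
    PowerSeries.mk fun m => S I π hπ fun l => cf F l (m + 1 + l),
    mk2 fun a b => S I π hπ fun l => cf F (a + 1 + l) (b + 1 + l), ?_⟩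
  apply ext_cf
  intro a b
  rw [cf_add, cf_add, cf_toMv0, cf_X1_mul, cf_rel_mul]
  simp only [cf_mk2]
  rcases b with _ | b
  · -- b = 0
    rw [if_pos rfl, if_neg (by omega), if_neg (by omega), PowerSeries.coeff_mk,
      S_shift I π hπ (fun l => cf F (a + l) l) (fun l => cf F (a + 1 + l) (0 + 1 + l))
        (by
          intro j
          rw [show a + 1 + j = a + (j + 1) by omega, show 0 + 1 + j = j + 1 by omega])]
    simp only [add_zero]
    ring
  · rcases a with _ | a
    · -- a = 0, b ≥ 1
      rw [if_neg (by omega), if_pos (by omega), if_neg (by omega), cf_toMv1, if_pos rfl,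
        PowerSeries.coeff_mk, Nat.add_sub_cancel,
        S_shift I π hπ (fun l => cf F l (b + 1 + l)) (fun l => cf F (0 + 1 + l) (b + 1 + 1 + l))
          (by
            intro j
            rw [show 0 + 1 + j = j + 1 by omega, show b + 1 + 1 + j = b + 1 + (j + 1) by omega])]
      simp only [add_zero]
      ring
    · -- a ≥ 1, b ≥ 1
      rw [if_neg (by omega), if_pos (by omega), if_pos (by omega), cf_toMv1, if_neg (by omega),
        Nat.add_sub_cancel, Nat.add_sub_cancel,
        S_shift I π hπ (fun l => cf F (a + 1 + l) (b + 1 + l))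
          (fun l => cf F (a + 1 + 1 + l) (b + 1 + 1 + l))
          (by
            intro j
            rw [show a + 1 + 1 + j = a + 1 + (j + 1) by omega,
              show b + 1 + 1 + j = b + 1 + (j + 1) by omega])]
      simp only [add_zero]
      ring

/-- uniqueness of the normal form modulo `xy - π`. -/
theorem unique_nf (f g : PowerSeries R) (Q : MvPowerSeries (Fin 2) R)
    (h : PowerSeries.toMvPowerSeries (σ := Fin 2) 0 f +
      PowerSeries.toMvPowerSeries (σ := Fin 2) 1 g = rel π * Q) (hπ : π ∈ I) :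
    (∀ n, 1 ≤ n → PowerSeries.coeff n f = 0) ∧ (∀ n, 1 ≤ n → PowerSeries.coeff n g = 0) ∧
      PowerSeries.coeff 0 f + PowerSeries.coeff 0 g = 0 := by
  have hc : ∀ a b, cf (PowerSeries.toMvPowerSeries (σ := Fin 2) 0 f) a b +
      cf (PowerSeries.toMvPowerSeries (σ := Fin 2) 1 g) a b =
      (if 1 ≤ a ∧ 1 ≤ b then cf Q (a - 1) (b - 1) else 0) - π * cf Q a b := by
    intro a b
    rw [← cf_add, h, cf_rel_mul]
  have step : ∀ a b, cf Q a b = π * cf Q (a + 1) (b + 1) := by
    intro a b
    have := hc (a + 1) (b + 1)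
    rw [cf_toMv0, cf_toMv1, if_neg (by omega), if_neg (by omega), if_pos (by omega),
      Nat.add_sub_cancel, Nat.add_sub_cancel, add_zero] at this
    exact (sub_eq_zero.mp this.symm)
  have step2 : ∀ l a b, cf Q a b = π ^ l * cf Q (a + l) (b + l) := by
    intro l
    induction l with
    | zero =>
      intro a b
      rw [pow_zero, one_mul, add_zero, add_zero]
    | succ l ih =>
      intro a b
      rw [ih a b, step (a + l) (b + l), pow_succ, mul_assoc, add_assoc, add_assoc]
  have hQ : ∀ a b, cf Q a b = 0 := by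
    intro a b
    apply eq_zero_of_forall_mem I
    intro l
    rw [step2 l a b]
    exact Ideal.mul_mem_right _ _ (Ideal.pow_mem_pow hπ l)
  refine ⟨?_, ?_, ?_⟩
  · intro n hn
    have := hc n 0
    rw [cf_toMv0, cf_toMv1, if_pos rfl, if_neg (by omega), if_neg (by omega), hQ, mul_zero,
      sub_zero, add_zero] at this
    exact this
  · intro n hn
    have := hc 0 n
    rw [cf_toMv0, cf_toMv1, if_neg (by omega), if_pos rfl, if_neg (by omega), hQ, mul_zero,
      sub_zero, zero_add] at this
    exact this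
  · have := hc 0 0
    rw [cf_toMv0, cf_toMv1, if_pos rfl, if_pos rfl, if_neg (by omega), hQ, mul_zero,
      sub_zero] at this
    exact this

end nf

section ring

open SpinCurv

variable {R : Type u} [CommRing R] (I : Ideal R) [IsAdicComplete I R] (π : R)

theorem ofX_mul (f h : PowerSeries R) :
    NodeRing.ofX R π (f * h) = NodeRing.ofX R π f * NodeRing.ofX R π h := by
  unfold NodeRing.ofX
  rw [map_mul, map_mul]

theorem ofY_mul (f h : PowerSeries R) :
    NodeRing.ofY R π (f * h) = NodeRing.ofY R π f * NodeRing.ofY R π h := by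
  unfold NodeRing.ofY
  rw [map_mul, map_mul]

theorem ofX_add (f h : PowerSeries R) :
    NodeRing.ofX R π (f + h) = NodeRing.ofX R π f + NodeRing.ofX R π h := by
  unfold NodeRing.ofX
  rw [map_add, map_add]

theorem ofY_add (f h : PowerSeries R) :
    NodeRing.ofY R π (f + h) = NodeRing.ofY R π f + NodeRing.ofY R π h := by
  unfold NodeRing.ofY
  rw [map_add, map_add]

theorem ofX_sub (f h : PowerSeries R) :
    NodeRing.ofX R π (f - h) = NodeRing.ofX R π f - NodeRing.ofX R π h := by
  unfold NodeRing.ofX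
  rw [map_sub, map_sub]

theorem ofY_sub (f h : PowerSeries R) :
    NodeRing.ofY R π (f - h) = NodeRing.ofY R π f - NodeRing.ofY R π h := by
  unfold NodeRing.ofY
  rw [map_sub, map_sub]

theorem ofX_X : NodeRing.ofX R π PowerSeries.X = NodeRing.x R π := by
  unfold NodeRing.ofX NodeRing.x
  rw [PowerSeries.toMvPowerSeries_X]

theorem ofY_X : NodeRing.ofY R π PowerSeries.X = NodeRing.y R π := by
  unfold NodeRing.ofY NodeRing.y
  rw [PowerSeries.toMvPowerSeries_X]

theorem ofX_C (c : R) : NodeRing.ofX R π (PowerSeries.C c) = algebraMap R (NodeRing R π) c := by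
  unfold NodeRing.ofX
  rw [PowerSeries.toMvPowerSeries_C]
  rfl

theorem ofY_C (c : R) : NodeRing.ofY R π (PowerSeries.C c) = algebraMap R (NodeRing R π) c := by
  unfold NodeRing.ofY
  rw [PowerSeries.toMvPowerSeries_C]
  rfl

theorem x_mul_y : NodeRing.x R π * NodeRing.y R π = algebraMap R (NodeRing R π) π := by
  unfold NodeRing.x NodeRing.y
  rw [← map_mul, ← sub_eq_zero]
  have : (algebraMap R (NodeRing R π) π) = Ideal.Quotient.mk _ (C π) := rfl
  rw [this, ← map_sub, Ideal.Quotient.eq_zero_iff_mem]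
  exact Ideal.subset_span rfl

/-- existence of the normal form in the node ring. -/
theorem exists_ofX_add (hπ : π ∈ I) (a : NodeRing R π) :
    ∃ f g : PowerSeries R, a = NodeRing.ofX R π f + NodeRing.y R π * NodeRing.ofY R π g := by
  obtain ⟨F, rfl⟩ := Ideal.Quotient.mk_surjective a
  obtain ⟨f, g, Q, hF⟩ := exists_nf I π hπ F
  refine ⟨f, g, ?_⟩
  unfold NodeRing.ofX NodeRing.ofY NodeRing.y
  rw [← map_mul, ← map_add, ← sub_eq_zero, ← map_sub, Ideal.Quotient.eq_zero_iff_mem,
    Ideal.mem_span_singleton']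
  refine ⟨Q, ?_⟩
  rw [hF]
  unfold rel
  ring

/-- uniqueness of the normal form in the node ring. -/
theorem ofX_add_ofY_eq_zero (hπ : π ∈ I) (f g : PowerSeries R)
    (h : NodeRing.ofX R π f + NodeRing.ofY R π g = 0) :
    (∀ n, 1 ≤ n → PowerSeries.coeff n f = 0) ∧ (∀ n, 1 ≤ n → PowerSeries.coeff n g = 0) ∧
      PowerSeries.coeff 0 f + PowerSeries.coeff 0 g = 0 := by
  unfold NodeRing.ofX NodeRing.ofY at h
  rw [← map_add, Ideal.Quotient.eq_zero_iff_mem, Ideal.mem_span_singleton'] at h
  obtain ⟨Q, hQ⟩ := h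
  apply unique_nf I π f g Q _ hπ
  rw [← hQ]
  unfold rel
  ring

end ring

end Groth.Agent.Lib.helper10.NodeNF
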