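import Mathlib
import Groth.Prelude.Def_W4c5spincurvestfNode
import Groth.Agent.Lib.Helper10.NodeNF2

set_option linter.style.haveILetI false
set_option linter.unusedSectionVars false

universe u

namespace Groth.Agent.Lib.helper10.NodeNF

open SpinCurv

variable {R : Type u} [CommRing R] (I : Ideal R) [IsAdicComplete I R] (p q : R)

theorem mulVec_alpha (v : Fin 2 → NodeRing R (p * q)) :
    Matrix.mulVec (nodeAlpha R p q) v =
      ![NodeRing.x R (p * q) * v 0 + algebraMap R (NodeRing R (p * q)) p * v 1,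
        algebraMap R (NodeRing R (p * q)) q * v 0 + NodeRing.y R (p * q) * v 1] := by
  ext i
  fin_cases i
  · simp [nodeAlpha, Matrix.mulVec, dotProduct, Fin.sum_univ_two]
  · simp [nodeAlpha, Matrix.mulVec, dotProduct, Fin.sum_univ_two]

theorem hxy : NodeRing.x R (p * q) * NodeRing.y R (p * q) =
    algebraMap R (NodeRing R (p * q)) p * algebraMap R (NodeRing R (p * q)) q := by
  rw [x_mul_y, map_mul]

theorem eq_zero_of_X_mul {f : PowerSeries R}
    (h : ∀ n, 1 ≤ n → PowerSeries.coeff n (PowerSeries.X * f) = 0) : f = 0 := by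
  ext n
  have := h (n + 1) (by omega)
  rw [PowerSeries.coeff_succ_X_mul] at this
  rw [this, map_zero]

/-- injectivity of the restricted map. -/
theorem alpha_inj (hpq : p * q ∈ I) (f g f' g' : PowerSeries R)
    (h : Matrix.mulVec (nodeAlpha R p q) ![NodeRing.ofX R (p * q) f, NodeRing.ofY R (p * q) g] =
      Matrix.mulVec (nodeAlpha R p q) ![NodeRing.ofX R (p * q) f', NodeRing.ofY R (p * q) g']) :
    f = f' ∧ g = g' := by
  rw [mulVec_alpha, mulVec_alpha] at h
  have h0 := congrFun h 0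
  have h1 := congrFun h 1
  simp only [Matrix.cons_val_zero, Matrix.cons_val_one] at h0 h1
  constructor
  · have e : NodeRing.ofX R (p * q) (PowerSeries.X * (f - f')) +
        NodeRing.ofY R (p * q) (PowerSeries.C p * (g - g')) = 0 := by
      rw [ofX_mul, ofY_mul, ofX_X, ofY_C, ofX_sub, ofY_sub]
      linear_combination h0
    have := (ofX_add_ofY_eq_zero I (p * q) hpq _ _ e).1
    exact sub_eq_zero.mp (eq_zero_of_X_mul this)
  · have e : NodeRing.ofX R (p * q) (PowerSeries.C q * (f - f')) +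
        NodeRing.ofY R (p * q) (PowerSeries.X * (g - g')) = 0 := by
      rw [ofX_mul, ofY_mul, ofY_X, ofX_C, ofX_sub, ofY_sub]
      linear_combination h1
    have := (ofX_add_ofY_eq_zero I (p * q) hpq _ _ e).2.1
    exact sub_eq_zero.mp (eq_zero_of_X_mul this)

/-- every value of `α(p, q)` is a value on a pair of one-variable series. -/
theorem alpha_decomp (hpq : p * q ∈ I) (v : Fin 2 → NodeRing R (p * q)) :
    ∃ f₁ g₁ F G : PowerSeries R,
      Matrix.mulVec (nodeAlpha R p q) v =
        Matrix.mulVec (nodeAlpha R p q)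
          ![NodeRing.ofX R (p * q) F, NodeRing.ofY R (p * q) G] ∧
      v 0 = NodeRing.ofX R (p * q) F -
        algebraMap R (NodeRing R (p * q)) p * NodeRing.ofX R (p * q) f₁ +
        NodeRing.y R (p * q) * NodeRing.ofY R (p * q) g₁ ∧
      v 1 = NodeRing.ofY R (p * q) G -
        algebraMap R (NodeRing R (p * q)) q * NodeRing.ofY R (p * q) g₁ +
        NodeRing.x R (p * q) * NodeRing.ofX R (p * q) f₁ := by
  obtain ⟨f, g₁, ha⟩ := exists_ofX_add I (p * q) hpq (v 0)
  obtain ⟨f₂, g₂, hb⟩ := exists_ofX_add I (p * q) hpq (v 1)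
  obtain ⟨f₁, hf₁⟩ : ∃ f₁ : PowerSeries R,
      f₁ = PowerSeries.mk fun n => PowerSeries.coeff (n + 1) f₂ := ⟨_, rfl⟩
  have hf₂ : f₂ = PowerSeries.X * f₁ + PowerSeries.C (PowerSeries.constantCoeff f₂) := by
    rw [hf₁]
    exact PowerSeries.eq_X_mul_shift_add_const f₂
  obtain ⟨c, hc⟩ : ∃ c, c = PowerSeries.constantCoeff f₂ := ⟨_, rfl⟩
  rw [← hc] at hf₂
  have hb' : v 1 = NodeRing.ofY R (p * q) (PowerSeries.C c + PowerSeries.X * g₂) +
      NodeRing.x R (p * q) * NodeRing.ofX R (p * q) f₁ := by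
    rw [hb, hf₂, ofX_add, ofX_mul, ofX_X, ofX_C, ofY_add, ofY_mul, ofY_X, ofY_C]
    ring
  have hxy' := hxy p q
  refine ⟨f₁, g₁, f + PowerSeries.C p * f₁, PowerSeries.C c + PowerSeries.X * g₂ +
    PowerSeries.C q * g₁, ?_, ?_, ?_⟩
  · rw [mulVec_alpha, mulVec_alpha]
    simp only [Matrix.cons_val_zero, Matrix.cons_val_one]
    rw [ha, hb', ofX_add, ofX_mul, ofX_C, ofY_add (R := R) (π := p * q) _ (PowerSeries.C q * g₁),
      ofY_mul (R := R) (π := p * q) (PowerSeries.C q), ofY_C]
    congr 1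
    · linear_combination (NodeRing.ofY R (p * q) g₁) * hxy'
    · congr 1
      linear_combination (NodeRing.ofX R (p * q) f₁) * hxy'
  · rw [ha, ofX_add, ofX_mul, ofX_C]
    ring
  · rw [hb', ofY_add (R := R) (π := p * q) _ (PowerSeries.C q * g₁),
      ofY_mul (R := R) (π := p * q) (PowerSeries.C q), ofY_C]
    ring

end Groth.Agent.Lib.helper10.NodeNF
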