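import Mathlib

/-!
# First-order truncation of the node ring

`theta T : MvPowerSeries (Fin 2) T →+* TrivSqZeroExt T (T × T)` (constant coefficient and the two
linear coefficients), the decomposition `F = C F₀ + X₀ G + X₁ H`, and unit lemma.
-/

namespace Groth.Agent.Lib.helper10.NodeThick

open MvPowerSeries

variable (T : Type*) [CommRing T]

lemma coeff_single_mul (i : Fin 2) (F G : MvPowerSeries (Fin 2) T) :
    coeff (Finsupp.single i 1) (F * G) =
      coeff 0 F * coeff (Finsupp.single i 1) G + coeff (Finsupp.single i 1) F * coeff 0 G := by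
  classical
  rw [coeff_mul, Finsupp.antidiagonal_single, Finset.sum_map]
  simp [Finset.Nat.antidiagonal_succ]

/-- constant and linear coefficients as a ring hom into the trivial square zero extension. -/
noncomputable def theta : MvPowerSeries (Fin 2) T →+* TrivSqZeroExt T (T × T) where
  toFun F := TrivSqZeroExt.inl (coeff 0 F) +
    TrivSqZeroExt.inr (coeff (Finsupp.single 0 1) F, coeff (Finsupp.single 1 1) F)
  map_one' := by
    classical
    ext <;> simp [coeff_one]
  map_mul' F G := by
    ext
    · simp only [TrivSqZeroExt.fst_add, TrivSqZeroExt.fst_inl, TrivSqZeroExt.fst_inr, add_zero,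
        TrivSqZeroExt.fst_mul]
      exact map_mul constantCoeff F G
    · simp [coeff_single_mul]
    · simp [coeff_single_mul]
  map_zero' := by ext <;> simp
  map_add' F G := by ext <;> simp

@[simp] lemma fst_theta (F : MvPowerSeries (Fin 2) T) : (theta T F).fst = coeff 0 F := by
  simp [theta]

@[simp] lemma snd_theta (F : MvPowerSeries (Fin 2) T) :
    (theta T F).snd = (coeff (Finsupp.single 0 1) F, coeff (Finsupp.single 1 1) F) := by
  simp [theta]

lemma theta_C (t : T) : theta T (C t) = TrivSqZeroExt.inl t := by
  classical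
  ext <;> simp [coeff_C]

lemma theta_X0 : theta T (X 0) = TrivSqZeroExt.inr (1, 0) := by
  classical
  apply TrivSqZeroExt.ext
  · rw [fst_theta, coeff_zero_X]; simp
  · rw [snd_theta, coeff_index_single_X, coeff_index_single_X]; simp

lemma theta_X1 : theta T (X 1) = TrivSqZeroExt.inr (0, 1) := by
  classical
  apply TrivSqZeroExt.ext
  · rw [fst_theta, coeff_zero_X]; simp
  · rw [snd_theta, coeff_index_single_X, coeff_index_single_X]; simp

/-- Decomposition of a power series in two variables. -/
lemma exists_decomp (F : MvPowerSeries (Fin 2) T) :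
    ∃ G H : MvPowerSeries (Fin 2) T, F = C (coeff 0 F) + X 0 * G + X 1 * H := by
  classical
  set F' : MvPowerSeries (Fin 2) T := fun m => if m 0 = 0 then 0 else coeff m F with hF'
  have h1 : (X 0 : MvPowerSeries (Fin 2) T) ∣ F' := by
    rw [X_dvd_iff]
    intro m hm
    show (if m 0 = 0 then 0 else coeff m F) = 0
    rw [if_pos hm]
  have h2 : (X 1 : MvPowerSeries (Fin 2) T) ∣ F - F' - C (coeff 0 F) := by
    rw [X_dvd_iff]
    intro m hm
    rw [map_sub, map_sub, coeff_C]
    have : coeff m F' = if m 0 = 0 then 0 else coeff m F := rfl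
    rw [this]
    by_cases h0 : m 0 = 0
    · have hm0 : m = 0 := by
        ext i
        fin_cases i
        · exact h0
        · exact hm
      rw [if_pos h0, if_pos hm0, hm0]; simp
    · have hm0 : m ≠ 0 := by
        rintro rfl
        exact h0 rfl
      rw [if_neg h0, if_neg hm0]; simp
  obtain ⟨G, hG⟩ := h1
  obtain ⟨H, hH⟩ := h2
  refine ⟨G, H, ?_⟩
  rw [← hG, ← hH]; ring

end Groth.Agent.Lib.helper10.NodeThick
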