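import Mathlib
import Groth.Agent.Lib.Helper10.NodeThick1

/-!
# Core lemma: thickness of a formal node is determined up to a unit
-/

namespace Groth.Agent.Lib.helper10.NodeThick

open MvPowerSeries IsLocalRing

variable {S : Type*} [CommRing S]

/-- the relation `xy - c` -/
noncomputable abbrev rel (c : S) : MvPowerSeries (Fin 2) S := X 0 * X 1 - C c

/-- the node ring -/
abbrev B (c : S) : Type _ := MvPowerSeries (Fin 2) S ⧸ Ideal.span {rel c}

/-- the first-order truncation modulo `J` of the node ring of `c ∈ J` -/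
noncomputable def ThetaJ (c : S) (J : Ideal S) (hc : c ∈ J) :
    B c →+* TrivSqZeroExt (S ⧸ J) ((S ⧸ J) × (S ⧸ J)) :=
  Ideal.Quotient.lift _ ((theta (S ⧸ J)).comp (map (Ideal.Quotient.mk J))) (by
    intro z hz
    obtain ⟨w, rfl⟩ := Ideal.mem_span_singleton'.mp hz
    rw [map_mul]
    have : ((theta (S ⧸ J)).comp (map (Ideal.Quotient.mk J))) (rel c) = 0 := by
      rw [RingHom.comp_apply, rel, map_sub, map_mul, map_X, map_X, map_C, map_sub, map_mul,
        theta_X0, theta_X1, theta_C, TrivSqZeroExt.inr_mul_inr,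
        (Ideal.Quotient.eq_zero_iff_mem).mpr hc]
      simp
    rw [this, mul_zero])

lemma ThetaJ_mk (c : S) (J : Ideal S) (hc : c ∈ J) (F : MvPowerSeries (Fin 2) S) :
    ThetaJ c J hc (Ideal.Quotient.mk _ F) =
      TrivSqZeroExt.inl (Ideal.Quotient.mk J (coeff 0 F)) +
        TrivSqZeroExt.inr (Ideal.Quotient.mk J (coeff (Finsupp.single 0 1) F),
          Ideal.Quotient.mk J (coeff (Finsupp.single 1 1) F)) := by
  rw [ThetaJ, Ideal.Quotient.lift_mk, RingHom.comp_apply]
  apply TrivSqZeroExt.ext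
  · simp
  · simp

lemma x_mul_y (c : S) : (Ideal.Quotient.mk (Ideal.span {rel c}) (X 0)) * Ideal.Quotient.mk _ (X 1)
    = Ideal.Quotient.mk _ (C c) := by
  rw [← map_mul, ← sub_eq_zero, ← map_sub, Ideal.Quotient.eq_zero_iff_mem]
  exact Ideal.subset_span rfl


section core

variable [IsLocalRing S]

/-- elements of the node ring whose representative has unit constant coefficient are units;
so non-units have constant coefficient in the maximal ideal. -/
lemma coeff_zero_mem_of_not_isUnit (c : S) (F : MvPowerSeries (Fin 2) S)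
    (h : ¬ IsUnit (Ideal.Quotient.mk (Ideal.span {rel c}) F)) :
    coeff 0 F ∈ maximalIdeal S := by
  by_contra hc
  apply h
  have : IsUnit (coeff 0 F) := by
    by_contra hu
    exact hc ((mem_maximalIdeal _).mpr hu)
  have hF : IsUnit F := isUnit_iff_constantCoeff.mpr this
  exact hF.map _

lemma x_not_isUnit (c : S) (hc : c ∈ maximalIdeal S) (i : Fin 2) :
    ¬ IsUnit (Ideal.Quotient.mk (Ideal.span {rel c}) (X i)) := by
  intro h
  have h1 := h.map (ThetaJ c (maximalIdeal S) hc)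
  have h2 := h1.map (TrivSqZeroExt.fstHom (S ⧸ maximalIdeal S) (S ⧸ maximalIdeal S)
    ((S ⧸ maximalIdeal S) × (S ⧸ maximalIdeal S)))
  rw [ThetaJ_mk] at h2
  simp only [coeff_zero_X, map_zero, map_add, TrivSqZeroExt.fstHom_apply, TrivSqZeroExt.fst_inl,
    TrivSqZeroExt.fst_inr, add_zero] at h2
  exact not_isUnit_zero h2

/-- key spanning congruence -/
lemma exists_span (a b : S) (hb : b ∈ maximalIdeal S)
    (R₀ : Set S)
    (hgen : maximalIdeal S ≤ Ideal.span (R₀ ∩ maximalIdeal S))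
    (hres : ∀ s : S, ∃ r ∈ R₀, s - r ∈ maximalIdeal S)
    (ψ : B a ≃+* B b)
    (hψ : ∀ r ∈ R₀, ψ (Ideal.Quotient.mk _ (C r)) = Ideal.Quotient.mk _ (C r))
    (FX FY : MvPowerSeries (Fin 2) S)
    (hFX : Ideal.Quotient.mk _ FX = ψ (Ideal.Quotient.mk _ (X 0)))
    (hFY : Ideal.Quotient.mk _ FY = ψ (Ideal.Quotient.mk _ (X 1)))
    (hc : coeff 0 FX ∈ maximalIdeal S) (hd : coeff 0 FY ∈ maximalIdeal S)
    (z' : B b) :
    ∃ p q : S ⧸ maximalIdeal S,
      (ThetaJ b (maximalIdeal S) hb z').snd =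
        p • (Ideal.Quotient.mk (maximalIdeal S) (coeff (Finsupp.single 0 1) FX),
          Ideal.Quotient.mk (maximalIdeal S) (coeff (Finsupp.single 1 1) FX)) +
        q • (Ideal.Quotient.mk (maximalIdeal S) (coeff (Finsupp.single 0 1) FY),
          Ideal.Quotient.mk (maximalIdeal S) (coeff (Finsupp.single 1 1) FY)) := by
  set Θ := ThetaJ b (maximalIdeal S) hb with hΘ
  -- images of constants in the maximal ideal vanish
  have hzero' : ∀ t ∈ Ideal.span (R₀ ∩ maximalIdeal S),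
      Θ (ψ (Ideal.Quotient.mk _ (C t))) = 0 := by
    intro t ht'
    induction ht' using Submodule.span_induction with
    | mem μ hμ =>
      rw [hψ μ hμ.1, hΘ, ThetaJ_mk]
      simp only [coeff_C, if_pos, Finsupp.single_eq_zero, one_ne_zero, if_false, map_zero]
      rw [(Ideal.Quotient.eq_zero_iff_mem).mpr hμ.2]
      ext <;> simp
    | zero => simp
    | add x y _ _ hx hy => simp only [map_add, hx, hy, add_zero]
    | smul r x _ hx =>
      rw [smul_eq_mul, map_mul, map_mul, map_mul, map_mul, hx, mul_zero]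
  have hzero : ∀ t ∈ maximalIdeal S, Θ (ψ (Ideal.Quotient.mk _ (C t))) = 0 :=
    fun t ht => hzero' t (hgen ht)
  have hconst : ∀ s : S, (Θ (ψ (Ideal.Quotient.mk _ (C s)))).snd = 0 := by
    intro s
    obtain ⟨r, hr, hsr⟩ := hres s
    have : s = r + (s - r) := by ring
    rw [this, map_add, map_add, map_add, map_add, hzero _ hsr, add_zero, hψ r hr, hΘ, ThetaJ_mk]
    simp [coeff_C]
  obtain ⟨Fz, hFz⟩ := Ideal.Quotient.mk_surjective (ψ.symm z')
  obtain ⟨G, H, hdec⟩ := exists_decomp S Fz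
  have hz' : z' = ψ (Ideal.Quotient.mk _ (C (coeff 0 Fz))) +
      Ideal.Quotient.mk _ FX * ψ (Ideal.Quotient.mk _ G) +
      Ideal.Quotient.mk _ FY * ψ (Ideal.Quotient.mk _ H) := by
    rw [hFX, hFY, ← map_mul, ← map_mul, ← map_add, ← map_add, ← map_mul, ← map_mul, ← map_add,
      ← map_add, ← hdec, hFz, RingEquiv.apply_symm_apply]
  refine ⟨(Θ (ψ (Ideal.Quotient.mk _ G))).fst, (Θ (ψ (Ideal.Quotient.mk _ H))).fst, ?_⟩
  have hX : Θ (Ideal.Quotient.mk _ FX) = TrivSqZeroExt.inr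
      (Ideal.Quotient.mk (maximalIdeal S) (coeff (Finsupp.single 0 1) FX),
          Ideal.Quotient.mk (maximalIdeal S) (coeff (Finsupp.single 1 1) FX)) := by
    rw [hΘ, ThetaJ_mk, (Ideal.Quotient.eq_zero_iff_mem).mpr hc]; simp
  have hY : Θ (Ideal.Quotient.mk _ FY) = TrivSqZeroExt.inr
      (Ideal.Quotient.mk (maximalIdeal S) (coeff (Finsupp.single 0 1) FY),
          Ideal.Quotient.mk (maximalIdeal S) (coeff (Finsupp.single 1 1) FY)) := by
    rw [hΘ, ThetaJ_mk, (Ideal.Quotient.eq_zero_iff_mem).mpr hd]; simp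
  rw [hz', map_add, map_add, map_mul, map_mul, hX, hY]
  simp only [TrivSqZeroExt.snd_add, hconst, zero_add, TrivSqZeroExt.snd_mul,
    TrivSqZeroExt.fst_inr, zero_smul, TrivSqZeroExt.snd_inr, op_smul_eq_smul]

theorem core (a b : S) (ha : a ∈ maximalIdeal S) (hb : b ∈ maximalIdeal S)
    (R₀ : Set S) (haR : a ∈ R₀)
    (hgen : maximalIdeal S ≤ Ideal.span (R₀ ∩ maximalIdeal S))
    (hres : ∀ s : S, ∃ r ∈ R₀, s - r ∈ maximalIdeal S)
    (ψ : B a ≃+* B b)
    (hψ : ∀ r ∈ R₀, ψ (Ideal.Quotient.mk _ (C r)) = Ideal.Quotient.mk _ (C r)) :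
    a ∈ Ideal.span {b} := by
  obtain ⟨FX, hFX⟩ := Ideal.Quotient.mk_surjective (ψ (Ideal.Quotient.mk _ (X 0)))
  obtain ⟨FY, hFY⟩ := Ideal.Quotient.mk_surjective (ψ (Ideal.Quotient.mk _ (X 1)))
  have hc : coeff 0 FX ∈ maximalIdeal S := by
    apply coeff_zero_mem_of_not_isUnit b
    rw [hFX]
    intro h
    have := h.map ψ.symm
    rw [RingEquiv.symm_apply_apply] at this
    exact x_not_isUnit a ha 0 this
  have hd : coeff 0 FY ∈ maximalIdeal S := by
    apply coeff_zero_mem_of_not_isUnit b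
    rw [hFY]
    intro h
    have := h.map ψ.symm
    rw [RingEquiv.symm_apply_apply] at this
    exact x_not_isUnit a ha 1 this
  set c := coeff 0 FX with hc_def
  set d := coeff 0 FY with hd_def
  set u₁ := coeff (Finsupp.single 0 1) FX with hu₁
  set u₂ := coeff (Finsupp.single 1 1) FX with hu₂
  set v₁ := coeff (Finsupp.single 0 1) FY with hv₁
  set v₂ := coeff (Finsupp.single 1 1) FY with hv₂
  -- relation modulo b
  have hb' : b ∈ Ideal.span {b} := Ideal.mem_span_singleton_self b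
  have hprod : Ideal.Quotient.mk (Ideal.span {rel b}) FX * Ideal.Quotient.mk _ FY =
      Ideal.Quotient.mk _ (C a) := by
    rw [hFX, hFY, ← map_mul, x_mul_y, hψ a haR]
  have hrel := congrArg (ThetaJ b (Ideal.span {b}) hb') hprod
  rw [map_mul, ThetaJ_mk, ThetaJ_mk, ThetaJ_mk] at hrel
  have hfst := congrArg TrivSqZeroExt.fst hrel
  have hsnd := congrArg TrivSqZeroExt.snd hrel
  simp only [TrivSqZeroExt.fst_mul, TrivSqZeroExt.fst_add, TrivSqZeroExt.fst_inl,
    TrivSqZeroExt.fst_inr, add_zero, coeff_C, if_pos] at hfst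
  simp only [TrivSqZeroExt.snd_mul, TrivSqZeroExt.fst_add, TrivSqZeroExt.fst_inl,
    TrivSqZeroExt.fst_inr, add_zero, TrivSqZeroExt.snd_add, TrivSqZeroExt.snd_inl,
    TrivSqZeroExt.snd_inr, zero_add, op_smul_eq_smul, coeff_C,
    Finsupp.single_eq_zero, one_ne_zero, if_false, map_zero, Prod.smul_mk, smul_eq_mul,
    Prod.mk_add_mk, Prod.mk.injEq] at hsnd
  obtain ⟨hs1, hs2⟩ := hsnd
  -- spanning modulo the maximal ideal
  obtain ⟨p, q, hpq⟩ := exists_span a b hb R₀ hgen hres ψ hψ FX FY hFX hFY hc hd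
    (Ideal.Quotient.mk _ (X 0))
  obtain ⟨p', q', hpq'⟩ := exists_span a b hb R₀ hgen hres ψ hψ FX FY hFX hFY hc hd
    (Ideal.Quotient.mk _ (X 1))
  rw [ThetaJ_mk] at hpq hpq'
  simp only [TrivSqZeroExt.snd_add, TrivSqZeroExt.snd_inl, TrivSqZeroExt.snd_inr, zero_add,
    coeff_index_single_X, Prod.smul_mk, smul_eq_mul, Prod.mk_add_mk, Prod.mk.injEq] at hpq hpq'
  obtain ⟨e1, e2⟩ := hpq
  obtain ⟨e3, e4⟩ := hpq'
  simp only [if_true, map_one, Fin.isValue, zero_ne_one, one_ne_zero, if_false, map_zero]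
    at e1 e2 e3 e4
  set Δ := u₁ * v₂ - u₂ * v₁ with hΔ
  have hΔ1 : Ideal.Quotient.mk (maximalIdeal S) Δ * (p * q' - q * p') = 1 := by
    rw [hΔ, map_sub, map_mul, map_mul]
    linear_combination (-(p' * Ideal.Quotient.mk (maximalIdeal S) u₂ +
      q' * Ideal.Quotient.mk (maximalIdeal S) v₂)) * e1 - e4 +
      (p' * Ideal.Quotient.mk (maximalIdeal S) u₁ +
        q' * Ideal.Quotient.mk (maximalIdeal S) v₁) * e2
  have hΔu : IsUnit Δ := by
    by_contra hu
    have : Δ ∈ maximalIdeal S := (mem_maximalIdeal _).mpr hu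
    rw [(Ideal.Quotient.eq_zero_iff_mem).mpr this, zero_mul] at hΔ1
    have : Nontrivial (S ⧸ maximalIdeal S) := Ideal.Quotient.nontrivial_iff.mpr
      (Ideal.IsMaximal.ne_top inferInstance)
    exact zero_ne_one hΔ1
  have hdz : Ideal.Quotient.mk (Ideal.span {b}) d * Ideal.Quotient.mk _ Δ = 0 := by
    rw [hΔ, map_sub, map_mul, map_mul]
    linear_combination (Ideal.Quotient.mk (Ideal.span {b}) v₂) * hs1 -
      (Ideal.Quotient.mk (Ideal.span {b}) v₁) * hs2
  have hd0 : Ideal.Quotient.mk (Ideal.span {b}) d = 0 := by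
    have hu := hΔu.map (Ideal.Quotient.mk (Ideal.span {b}))
    exact (hu.mul_left_eq_zero).mp hdz
  rw [hd0, mul_zero] at hfst
  exact (Ideal.Quotient.eq_zero_iff_mem).mp hfst.symm

end core

end Groth.Agent.Lib.helper10.NodeThick
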