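import Mathlib

/-!
Normal decompositions via idempotent lifting (helper10).

`W` commutative ring, `I` ideal with `IsAdicComplete I W`, `P` f.g. projective, `Q C ≤ P` with
`Q ⊔ C = ⊤`, `Q ⊓ C = I • ⊤`.  Then `P = L ⊕ T` with `Q = L ⊔ I • T`.
-/

set_option autoImplicit false

noncomputable section

namespace Groth.Agent.Lib.helper10.NormDec

set_option linter.style.haveILetI false
set_option linter.unusedSectionVars false

universe u v

variable {W : Type u} [CommRing W] (I : Ideal W) {P : Type v} [AddCommGroup P] [Module W P]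

lemma pi_mem_smul_top_iff {n : ℕ} (J : Ideal W) (y : Fin n → W) :
    y ∈ J • (⊤ : Submodule W (Fin n → W)) ↔ ∀ i, y i ∈ J := by
  constructor
  · intro hy i
    have h1 : (LinearMap.proj i : (Fin n → W) →ₗ[W] W) y ∈
        (J • (⊤ : Submodule W (Fin n → W))).map (LinearMap.proj i) := Submodule.mem_map_of_mem hy
    rw [Submodule.map_smul''] at h1
    have h2 : J • (Submodule.map (LinearMap.proj i : (Fin n → W) →ₗ[W] W) ⊤) ≤ J • (⊤ : Submodule W W) :=
      Submodule.smul_mono le_rfl le_top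
    have h3 := h2 h1
    simpa using h3
  · intro hy
    rw [pi_eq_sum_univ y]
    refine Submodule.sum_mem _ (fun i _ => ?_)
    exact Submodule.smul_mem_smul (hy i) Submodule.mem_top

theorem isAdicComplete_of_finite_projective [IsAdicComplete I W] [Module.Finite W P]
    [Module.Projective W P] : IsAdicComplete I P := by
  obtain ⟨n, f, g, -, -, hfg⟩ := Module.Finite.exists_comp_eq_id_of_projective W P
  have hfg' : ∀ x, f (g x) = x := fun x => by
    have := LinearMap.congr_fun hfg x
    simpa using this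
  have hmapf : ∀ (k : ℕ) (y : Fin n → W), y ∈ I ^ k • (⊤ : Submodule W (Fin n → W)) →
      f y ∈ I ^ k • (⊤ : Submodule W P) := by
    intro k y hy
    have h1 : f y ∈ (I ^ k • (⊤ : Submodule W (Fin n → W))).map f := Submodule.mem_map_of_mem hy
    rw [Submodule.map_smul''] at h1
    exact Submodule.smul_mono le_rfl le_top h1
  have hmapg : ∀ (k : ℕ) (x : P), x ∈ I ^ k • (⊤ : Submodule W P) →
      g x ∈ I ^ k • (⊤ : Submodule W (Fin n → W)) := by
    intro k y hy
    have h1 : g y ∈ (I ^ k • (⊤ : Submodule W P)).map g := Submodule.mem_map_of_mem hy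
    rw [Submodule.map_smul''] at h1
    exact Submodule.smul_mono le_rfl le_top h1
  refine { haus' := ?_, prec' := ?_ }
  · intro x hx
    have hgx : g x = 0 := by
      funext i
      apply IsHausdorff.haus (inferInstance : IsHausdorff I W)
      intro k
      rw [SModEq.zero]
      have h1 := hmapg k x (by simpa [SModEq.zero] using hx k)
      have h2 := (pi_mem_smul_top_iff (I ^ k) (g x)).1 h1 i
      simpa using h2
    rw [← hfg' x, hgx, map_zero]
  · intro x hx
    have hc : ∀ i : Fin n, ∃ L : W, ∀ k, (g (x k)) i ≡ L [SMOD (I ^ k • ⊤ : Submodule W W)] := by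
      intro i
      apply IsPrecomplete.prec (inferInstance : IsPrecomplete I W)
      intro a b hab
      rw [SModEq.sub_mem]
      have h1 : x a - x b ∈ I ^ a • (⊤ : Submodule W P) := (SModEq.sub_mem).1 (hx hab)
      have h2 := hmapg a _ h1
      have h3 := (pi_mem_smul_top_iff (I ^ a) _).1 h2 i
      simpa using h3
    choose L hL using hc
    refine ⟨f L, fun k => ?_⟩
    rw [SModEq.sub_mem]
    have h1 : x k - f L = f (g (x k) - L) := by rw [map_sub, hfg']
    rw [h1]
    apply hmapf
    rw [pi_mem_smul_top_iff]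
    intro i
    have := (SModEq.sub_mem).1 (hL i k)
    simpa using this


section Main

/-- endomorphisms with image in `I^k P` -/
def lev (k : ℕ) : Set (Module.End W P) := {φ | ∀ x, φ x ∈ I ^ k • (⊤ : Submodule W P)}

variable {I}

lemma lev_add {k : ℕ} {φ ψ : Module.End W P} (hφ : φ ∈ lev I k) (hψ : ψ ∈ lev I k) :
    φ + ψ ∈ lev I k := fun x => by
  rw [LinearMap.add_apply]; exact Submodule.add_mem _ (hφ x) (hψ x)

lemma lev_sub {k : ℕ} {φ ψ : Module.End W P} (hφ : φ ∈ lev I k) (hψ : ψ ∈ lev I k) :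
    φ - ψ ∈ lev I k := fun x => by
  rw [LinearMap.sub_apply]; exact Submodule.sub_mem _ (hφ x) (hψ x)

lemma lev_neg {k : ℕ} {φ : Module.End W P} (hφ : φ ∈ lev I k) :
    -φ ∈ lev I k := fun x => by
  rw [LinearMap.neg_apply]; exact Submodule.neg_mem _ (hφ x)

lemma lev_zero (k : ℕ) : (0 : Module.End W P) ∈ lev I k := fun x => by simp

lemma lev_mono {j k : ℕ} (h : k ≤ j) {φ : Module.End W P} (hφ : φ ∈ lev I j) : φ ∈ lev I k :=
  fun x => Submodule.smul_mono (Ideal.pow_le_pow_right h) le_rfl (hφ x)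

lemma lev_mul_right {k : ℕ} {φ : Module.End W P} (hφ : φ ∈ lev I k) (ψ : Module.End W P) :
    φ * ψ ∈ lev I k := fun x => by
  rw [Module.End.mul_apply]; exact hφ _

lemma map_mem_of_mem {k : ℕ} (ψ : Module.End W P) {y : P} (hy : y ∈ I ^ k • (⊤ : Submodule W P)) :
    ψ y ∈ I ^ k • (⊤ : Submodule W P) := by
  have h1 : ψ y ∈ (I ^ k • (⊤ : Submodule W P)).map ψ := Submodule.mem_map_of_mem hy
  rw [Submodule.map_smul''] at h1
  exact Submodule.smul_mono le_rfl le_top h1

lemma lev_mul_left {k : ℕ} {φ : Module.End W P} (hφ : φ ∈ lev I k) (ψ : Module.End W P) :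
    ψ * φ ∈ lev I k := fun x => by
  rw [Module.End.mul_apply]; exact map_mem_of_mem ψ (hφ x)

lemma lev_mul {j k : ℕ} {φ ψ : Module.End W P} (hφ : φ ∈ lev I j) (hψ : ψ ∈ lev I k) :
    φ * ψ ∈ lev I (j + k) := fun x => by
  rw [Module.End.mul_apply]
  have h1 : φ (ψ x) ∈ (I ^ k • (⊤ : Submodule W P)).map φ := Submodule.mem_map_of_mem (hψ x)
  rw [Submodule.map_smul''] at h1
  have h2 : Submodule.map φ ⊤ ≤ I ^ j • (⊤ : Submodule W P) := by
    rintro _ ⟨z, -, rfl⟩
    exact hφ z
  have h3 := Submodule.smul_mono (le_refl (I ^ k)) h2 h1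
  rw [← Submodule.mul_smul, ← pow_add, add_comm] at h3
  exact h3

open Polynomial in
/-- Newton polynomial `3X² - 2X³`. -/
def newtPoly : ℤ[X] := 3 * X ^ 2 - 2 * X ^ 3

open Polynomial in
lemma newt_sq_sub (e : Module.End W P) :
    (aeval e newtPoly) ^ 2 - aeval e newtPoly = (e ^ 2 - e) * (e ^ 2 - e) * (4 * (e ^ 2 - e) - 3) := by
  have h : (newtPoly ^ 2 - newtPoly : ℤ[X]) = (X ^ 2 - X) * (X ^ 2 - X) * (4 * (X ^ 2 - X) - 3) := by
    unfold newtPoly; ring
  have := congrArg (aeval e) h
  simpa only [map_sub, map_mul, map_pow, aeval_X, map_ofNat, map_one] using this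

open Polynomial in
lemma newt_sub (e : Module.End W P) :
    aeval e newtPoly - e = (1 - 2 * e) * (e ^ 2 - e) := by
  have h : (newtPoly - X : ℤ[X]) = (1 - 2 * X) * (X ^ 2 - X) := by
    unfold newtPoly; ring
  have := congrArg (aeval e) h
  simpa only [map_sub, map_mul, map_pow, aeval_X, map_ofNat, map_one] using this

open Polynomial in
/-- Newton sequence -/
def es (e₀ : Module.End W P) : ℕ → Module.End W P
  | 0 => e₀
  | n + 1 => aeval (es e₀ n) newtPoly

lemma es_sq_sub (e₀ : Module.End W P) (h0 : e₀ ^ 2 - e₀ ∈ lev I 1) (n : ℕ) :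
    (es e₀ n) ^ 2 - es e₀ n ∈ lev I (n + 1) := by
  induction n with
  | zero => simpa [es] using h0
  | succ n ih =>
    show (Polynomial.aeval (es e₀ n) newtPoly) ^ 2 - Polynomial.aeval (es e₀ n) newtPoly ∈ _
    rw [newt_sq_sub]
    apply lev_mul_right
    exact lev_mono (by omega) (lev_mul ih ih)

lemma es_succ_sub (e₀ : Module.End W P) (h0 : e₀ ^ 2 - e₀ ∈ lev I 1) (n : ℕ) :
    es e₀ (n + 1) - es e₀ n ∈ lev I (n + 1) := by
  show Polynomial.aeval (es e₀ n) newtPoly - es e₀ n ∈ _
  rw [newt_sub]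
  exact lev_mul_left (es_sq_sub e₀ h0 n) _

lemma es_sub (e₀ : Module.End W P) (h0 : e₀ ^ 2 - e₀ ∈ lev I 1) {m n : ℕ} (hmn : m ≤ n) :
    es e₀ n - es e₀ m ∈ lev I (m + 1) := by
  induction n, hmn using Nat.le_induction with
  | base => simpa using lev_zero (m + 1)
  | succ n hmn ih =>
    have : es e₀ (n + 1) - es e₀ m = (es e₀ (n + 1) - es e₀ n) + (es e₀ n - es e₀ m) := by abel
    rw [this]
    exact lev_add (lev_mono (by omega) (es_succ_sub e₀ h0 n)) ih

variable (I)

theorem exists_idempotent_lift [IsAdicComplete I W] [Module.Finite W P] [Module.Projective W P]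
    (e₀ : Module.End W P) (h0 : e₀ ^ 2 - e₀ ∈ lev I 1) :
    ∃ E : Module.End W P, IsIdempotentElem E ∧ E - e₀ ∈ lev I 1 := by
  haveI : IsAdicComplete I P := isAdicComplete_of_finite_projective I
  have hH : ∀ x y : P, (∀ n : ℕ, x - y ∈ I ^ n • (⊤ : Submodule W P)) → x = y := by
    intro x y h
    have := IsHausdorff.haus (inferInstance : IsHausdorff I P) (x - y)
      (fun n => by rw [SModEq.zero]; exact h n)
    exact sub_eq_zero.1 this
  have hC : ∀ x : P, ∃ L : P, ∀ n, es e₀ n x ≡ L [SMOD (I ^ n • ⊤ : Submodule W P)] := by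
    intro x
    apply IsPrecomplete.prec (inferInstance : IsPrecomplete I P)
    intro m n hmn
    rw [SModEq.sub_mem]
    have h1 := es_sub e₀ h0 hmn x
    rw [LinearMap.sub_apply] at h1
    have h2 : es e₀ m x - es e₀ n x = -(es e₀ n x - es e₀ m x) := by abel
    rw [h2]
    exact Submodule.neg_mem _ (Submodule.smul_mono (Ideal.pow_le_pow_right (Nat.le_succ m)) le_rfl h1)
  choose Efun hE using hC
  have hE' : ∀ x n, es e₀ n x - Efun x ∈ I ^ n • (⊤ : Submodule W P) :=
    fun x n => (SModEq.sub_mem).1 (hE x n)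
  let E : Module.End W P :=
    { toFun := Efun
      map_add' := by
        intro x y
        apply hH
        intro n
        have : Efun (x + y) - (Efun x + Efun y) =
            -(es e₀ n (x + y) - Efun (x + y)) + (es e₀ n x - Efun x) + (es e₀ n y - Efun y) := by
          rw [map_add]; abel
        rw [this]
        exact Submodule.add_mem _ (Submodule.add_mem _ (Submodule.neg_mem _ (hE' _ n)) (hE' _ n))
          (hE' _ n)
      map_smul' := by
        intro a x
        apply hH
        intro n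
        have : Efun (a • x) - (RingHom.id W a) • Efun x =
            -(es e₀ n (a • x) - Efun (a • x)) + a • (es e₀ n x - Efun x) := by
          rw [map_smul, smul_sub, RingHom.id_apply]; abel
        rw [this]
        exact Submodule.add_mem _ (Submodule.neg_mem _ (hE' _ n)) (Submodule.smul_mem _ _ (hE' _ n)) }
  have hEapp : ∀ x, E x = Efun x := fun x => rfl
  refine ⟨E, ?_, ?_⟩
  · -- idempotent
    apply LinearMap.ext
    intro x
    rw [Module.End.mul_apply]
    apply hH
    intro n
    -- E (E x) - E x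
    have h1 : es e₀ n (E x) - E (E x) ∈ I ^ n • (⊤ : Submodule W P) := hE' _ n
    have h2 : es e₀ n x - E x ∈ I ^ n • (⊤ : Submodule W P) := hE' _ n
    have h3 : es e₀ n (es e₀ n x - E x) ∈ I ^ n • (⊤ : Submodule W P) := map_mem_of_mem _ h2
    have h4 : ((es e₀ n) ^ 2 - es e₀ n) x ∈ I ^ n • (⊤ : Submodule W P) :=
      lev_mono (Nat.le_succ n) (es_sq_sub e₀ h0 n) x
    have h5 : E (E x) - E x = -(es e₀ n (E x) - E (E x)) - es e₀ n (es e₀ n x - E x)
        + ((es e₀ n) ^ 2 - es e₀ n) x + (es e₀ n x - E x) := by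
      rw [LinearMap.sub_apply, pow_two, Module.End.mul_apply, map_sub]; abel
    rw [h5]
    exact Submodule.add_mem _ (Submodule.add_mem _ (Submodule.sub_mem _ (Submodule.neg_mem _ h1) h3) h4) h2
  · intro x
    rw [LinearMap.sub_apply]
    have h1 : es e₀ 1 x - E x ∈ I ^ 1 • (⊤ : Submodule W P) := hE' _ 1
    have h2 : (es e₀ 1 - es e₀ 0) x ∈ I ^ 1 • (⊤ : Submodule W P) := es_succ_sub e₀ h0 0 x
    have h3 : E x - e₀ x = -(es e₀ 1 x - E x) + (es e₀ 1 - es e₀ 0) x := by
      rw [LinearMap.sub_apply]; show _ = _ + (es e₀ 1 x - e₀ x); abel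
    rw [h3]
    exact Submodule.add_mem _ (Submodule.neg_mem _ h1) h2

theorem exists_normal_decomposition [IsAdicComplete I W] [Module.Finite W P] [Module.Projective W P]
    (Q C : Submodule W P) (h1 : Q ⊔ C = ⊤) (h2 : Q ⊓ C = I • (⊤ : Submodule W P)) :
    ∃ L T : Submodule W P, IsCompl L T ∧ Q = L ⊔ I • T := by
  -- the lift e₀
  let cp : (Q × C) →ₗ[W] P := (Q.subtype).coprod (C.subtype)
  have hcp : Function.Surjective cp := by
    intro x
    have hx : x ∈ Q ⊔ C := by rw [h1]; trivial
    obtain ⟨q, hq, c, hc, rfl⟩ := Submodule.mem_sup.1 hx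
    exact ⟨(⟨q, hq⟩, ⟨c, hc⟩), by simp [cp]⟩
  obtain ⟨s, hs⟩ := Module.projective_lifting_property cp LinearMap.id hcp
  let e₀ : Module.End W P := Q.subtype ∘ₗ (LinearMap.fst W Q C) ∘ₗ s
  have he₀Q : ∀ x, e₀ x ∈ Q := fun x => ((s x).1).2
  have he₀C : ∀ x, x - e₀ x ∈ C := by
    intro x
    have h3 : cp (s x) = x := by
      have := LinearMap.congr_fun hs x
      simpa using this
    have h3' : ((s x).1 : P) + ((s x).2 : P) = x := by
      simpa [cp] using h3
    have h3'' : e₀ x = ((s x).1 : P) := rfl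
    have h4 : x - e₀ x = ((s x).2 : P) := by
      rw [h3'']
      exact sub_eq_of_eq_add (by rw [add_comm]; exact h3'.symm)
    rw [h4]; exact ((s x).2).2
  have hI : ∀ y, y ∈ Q → y ∈ C → y ∈ I • (⊤ : Submodule W P) := fun y hq hc => by
    rw [← h2]; exact ⟨hq, hc⟩
  have hIQ : I • (⊤ : Submodule W P) ≤ Q := by rw [← h2]; exact inf_le_left
  have h0 : e₀ ^ 2 - e₀ ∈ lev I 1 := by
    intro x
    rw [pow_one, LinearMap.sub_apply, pow_two, Module.End.mul_apply]
    have : e₀ (e₀ x) - e₀ x = -(e₀ x - e₀ (e₀ x)) := by abel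
    rw [this]
    apply Submodule.neg_mem
    exact hI _ (Submodule.sub_mem _ (he₀Q _) (he₀Q _)) (he₀C _)
  obtain ⟨E, hEid, hE0⟩ := exists_idempotent_lift I e₀ h0
  have hE0' : ∀ x, E x - e₀ x ∈ I • (⊤ : Submodule W P) := fun x => by
    have := hE0 x
    rwa [pow_one, LinearMap.sub_apply] at this
  have hEE : ∀ x, E (E x) = E x := fun x => by
    have := LinearMap.congr_fun hEid.eq x
    simpa [Module.End.mul_apply] using this
  refine ⟨LinearMap.range E, LinearMap.ker E, LinearMap.IsIdempotentElem.isCompl hEid, ?_⟩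
  apply le_antisymm
  · intro q hq
    have hy1 : q - E q ∈ LinearMap.ker E := by
      rw [LinearMap.mem_ker, map_sub, hEE, sub_self]
    have hy2 : q - E q ∈ I • (⊤ : Submodule W P) := by
      have : q - E q = (q - e₀ q) - (E q - e₀ q) := by abel
      rw [this]
      exact Submodule.sub_mem _ (hI _ (Submodule.sub_mem _ hq (he₀Q _)) (he₀C _)) (hE0' q)
    have hy3 : q - E q ∈ I • LinearMap.ker E := by
      have h5 : (1 - E) (q - E q) ∈ (I • (⊤ : Submodule W P)).map (1 - E) :=
        Submodule.mem_map_of_mem hy2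
      rw [Submodule.map_smul''] at h5
      have h6 : Submodule.map (1 - E) ⊤ ≤ LinearMap.ker E := by
        rintro _ ⟨z, -, rfl⟩
        rw [LinearMap.mem_ker, LinearMap.sub_apply, map_sub, Module.End.one_apply, hEE, sub_self]
      have h7 := Submodule.smul_mono (le_refl I) h6 h5
      have h8 : (1 - E) (q - E q) = q - E q := by
        rw [LinearMap.sub_apply, Module.End.one_apply, map_sub, hEE, sub_self, sub_zero]
      rwa [h8] at h7
    have : q = E q + (q - E q) := by abel
    rw [this]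
    exact Submodule.add_mem _ (Submodule.mem_sup_left ⟨q, rfl⟩) (Submodule.mem_sup_right hy3)
  · apply sup_le
    · rintro _ ⟨x, rfl⟩
      have : E x = e₀ x + (E x - e₀ x) := by abel
      rw [this]
      exact Submodule.add_mem _ (he₀Q x) (hIQ (hE0' x))
    · exact le_trans (Submodule.smul_mono le_rfl le_top) hIQ

end Main

end Groth.Agent.Lib.helper10.NormDec
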