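import Mathlib

/-!
# A normality criterion (helper10)

A domain `A` with an element `x ≠ 0` such that `(x)` is a radical ideal and every element of the
fraction field integral over `A` lies in `A[1/x]` is integrally closed.
-/

set_option autoImplicit false

namespace Groth.Agent.Lib.helper10.NormalCrit

theorem isIntegrallyClosed_of_away {A : Type*} [CommRing A] [IsDomain A] (x : A) (hx : x ≠ 0)
    (hrad : (Ideal.span {x}).IsRadical)
    (h : ∀ y : FractionRing A, IsIntegral A y → ∃ (a : A) (k : ℕ),
      y * (algebraMap A (FractionRing A) x) ^ k = algebraMap A (FractionRing A) a) :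
    IsIntegrallyClosed A := by
  rw [isIntegrallyClosed_iff (FractionRing A)]
  intro y hy
  obtain ⟨a, k, hak⟩ := h y hy
  have key : ∀ k : ℕ, ∀ a : A,
      y * (algebraMap A (FractionRing A) x) ^ k = algebraMap A (FractionRing A) a →
      ∃ a', algebraMap A (FractionRing A) a' = y := by
    intro k
    induction k with
    | zero =>
      intro a ha
      exact ⟨a, by rw [pow_zero, mul_one] at ha; exact ha.symm⟩
    | succ k ih =>
      intro a ha
      obtain ⟨p, hp1, hp2⟩ := hy
      have hdvd := Polynomial.dvd_pow_natDegree_of_eval₂_eq_zero
        (IsFractionRing.injective A (FractionRing A)) hp1 (x ^ (k + 1)) a y hp2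
        (by rw [map_pow, mul_comm]; exact ha)
      have h1 : a ^ p.natDegree ∈ Ideal.span {x} :=
        Ideal.mem_span_singleton.2 (dvd_trans (dvd_pow_self x (Nat.succ_ne_zero k)) hdvd)
      have h2 : a ∈ Ideal.span {x} := hrad ⟨_, h1⟩
      obtain ⟨a', rfl⟩ := Ideal.mem_span_singleton.1 h2
      apply ih a'
      have hx' : algebraMap A (FractionRing A) x ≠ 0 := by
        intro h0
        exact hx ((IsFractionRing.injective A (FractionRing A)) (by rw [h0, map_zero]))
      rw [pow_succ, map_mul, ← mul_assoc] at ha
      have h3 : (y * (algebraMap A (FractionRing A) x) ^ k) * algebraMap A (FractionRing A) x =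
          algebraMap A (FractionRing A) a' * algebraMap A (FractionRing A) x := by
        rw [ha, mul_comm]
      exact mul_right_cancel₀ hx' h3
  exact key k a hak

end Groth.Agent.Lib.helper10.NormalCrit
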