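import Mathlib
import Groth.Prelude.Def_W4c6brauerbgmalleOrbPic

/-!
Elementary facts on geometric partial orbifold line bundles (helper10, S18951-S18953).
-/

set_option autoImplicit false
set_option linter.unusedSectionVars false
set_option linter.unusedVariables false

universe u v

namespace Groth.Agent.Lib.helper10

namespace OrbPicLib

open W4c6brauerbgmalle

variable (G : Type u) [Group G] (C : Set G)

theorem mem_picOrb (p : (Additive G →+ QmodZ) × (G → ℚ)) :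
    p ∈ picOrb G C ↔ p.2 1 = 0 ∧ (∀ g : G, g ∉ C → p.2 g = 0) ∧
      (∀ g h : G, p.2 (h * g * h⁻¹) = p.2 g) ∧
      ∀ g : G, g ∈ C → toQmodZ (p.2 g) = p.1 (Additive.ofMul g) := Iff.rfl

/-- Characters agreeing on a generating set agree. -/
theorem char_ext (hC : Subgroup.closure C = ⊤) (χ χ' : Additive G →+ QmodZ)
    (h : ∀ g ∈ C, χ (Additive.ofMul g) = χ' (Additive.ofMul g)) : χ = χ' := by
  have key : ∀ g : G, χ (Additive.ofMul g) = χ' (Additive.ofMul g) := by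
    intro g
    have hg : g ∈ Subgroup.closure C := by rw [hC]; exact Subgroup.mem_top g
    induction hg using Subgroup.closure_induction with
    | mem x hx => exact h x hx
    | one => rw [ofMul_one, map_zero, map_zero]
    | mul x y _ _ hx hy => rw [ofMul_mul, map_add, map_add, hx, hy]
    | inv x _ hx => rw [ofMul_inv, map_neg, map_neg, hx]
  ext a
  exact key a

theorem injOn (hC : Subgroup.closure C = ⊤) :
    Set.InjOn (fun p : (Additive G →+ QmodZ) × (G → ℚ) => p.2) (picOrb G C) := by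
  rintro ⟨χ, w⟩ hp ⟨χ', w'⟩ hq (hw : w = w')
  subst hw
  have hχ : χ = χ' := by
    apply char_ext G C hC
    intro g hg
    rw [← hp.2.2.2 g hg, ← hq.2.2.2 g hg]
  rw [hχ]

theorem intWeights_mem (w : G → ℚ) (hw : w ∈ intWeights G C) :
    ((0 : Additive G →+ QmodZ), w) ∈ picOrb G C := by
  obtain ⟨h1, h2, h3, h4⟩ := hw
  refine ⟨h1, h2, h3, fun g _ => ?_⟩
  obtain ⟨n, hn⟩ := h4 g
  show toQmodZ (w g) = 0
  rw [hn]
  refine (QuotientAddGroup.eq_zero_iff _).mpr ?_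
  exact AddSubgroup.mem_zmultiples_iff.mpr ⟨n, by simp⟩

theorem torsionFree (hC : Subgroup.closure C = ⊤) (n : ℕ)
    (p : (Additive G →+ QmodZ) × (G → ℚ)) (hp : p ∈ picOrb G C) (hn : n ≠ 0) (hnp : n • p = 0) :
    p = 0 := by
  obtain ⟨χ, w⟩ := p
  have hw : w = 0 := by
    have h2 : n • w = 0 := congrArg Prod.snd hnp
    funext g
    have := congrFun h2 g
    simp only [Pi.smul_apply, Pi.zero_apply, nsmul_eq_mul] at this
    rcases mul_eq_zero.mp this with h | h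
    · exact absurd (by exact_mod_cast h) hn
    · exact h
  subst hw
  exact injOn G C hC hp (picOrb G C).zero_mem rfl

/-! ### Surjectivity onto characters and the kernel -/

open Classical in
/-- A weight lifting the character `χ`. -/
noncomputable def liftW (χ : Additive G →+ QmodZ) : G → ℚ :=
  fun g => if g ∈ C ∧ g ≠ 1 then Quotient.out (χ (Additive.ofMul g)) else 0

theorem char_conj (χ : Additive G →+ QmodZ) (g h : G) :
    χ (Additive.ofMul (h * g * h⁻¹)) = χ (Additive.ofMul g) := by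
  rw [ofMul_mul, ofMul_mul, ofMul_inv, map_add, map_add, map_neg]
  abel

theorem exists_weight (hC : ∀ g h : G, g ∈ C → h * g * h⁻¹ ∈ C) (χ : Additive G →+ QmodZ) :
    ∃ w : G → ℚ, (χ, w) ∈ picOrb G C := by
  classical
  refine ⟨liftW G C χ, ?_, ?_, ?_, ?_⟩
  · show liftW G C χ 1 = 0
    rw [liftW, if_neg]
    exact fun h => h.2 rfl
  · intro g hg
    show liftW G C χ g = 0
    rw [liftW, if_neg]
    exact fun h => hg h.1
  · intro g h
    show liftW G C χ (h * g * h⁻¹) = liftW G C χ g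
    have hiff : (h * g * h⁻¹ ∈ C ∧ h * g * h⁻¹ ≠ 1) ↔ (g ∈ C ∧ g ≠ 1) := by
      constructor
      · rintro ⟨h1, h2⟩
        refine ⟨?_, ?_⟩
        · have := hC _ h⁻¹ h1
          simpa [mul_assoc] using this
        · intro hg
          apply h2
          rw [hg, mul_one, mul_inv_cancel]
      · rintro ⟨h1, h2⟩
        refine ⟨hC g h h1, ?_⟩
        intro hg
        apply h2
        have : g = h⁻¹ * (h * g * h⁻¹) * h := by group
        rw [this, hg, mul_one, inv_mul_cancel]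
    unfold liftW
    by_cases hcase : g ∈ C ∧ g ≠ 1
    · rw [if_pos hcase, if_pos (hiff.mpr hcase), char_conj]
    · rw [if_neg hcase, if_neg (fun h' => hcase (hiff.mp h'))]
  · intro g hg
    show toQmodZ (liftW G C χ g) = χ (Additive.ofMul g)
    unfold liftW
    by_cases h1 : g = 1
    · subst h1
      rw [if_neg (fun h => h.2 rfl), map_zero, ofMul_one, map_zero]
    · rw [if_pos ⟨hg, h1⟩]
      exact Quotient.out_eq _

theorem ker_weight (p : (Additive G →+ QmodZ) × (G → ℚ)) (hp : p ∈ picOrb G C) (h0 : p.1 = 0) :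
    p.2 ∈ intWeights G C := by
  classical
  obtain ⟨h1, h2, h3, h4⟩ := hp
  refine ⟨h1, h2, h3, fun g => ?_⟩
  by_cases hg : g ∈ C
  · have := h4 g hg
    rw [h0, AddMonoidHom.zero_apply] at this
    have hmem : p.2 g ∈ AddSubgroup.zmultiples (1 : ℚ) := (QuotientAddGroup.eq_zero_iff _).mp this
    obtain ⟨n, hn⟩ := AddSubgroup.mem_zmultiples_iff.mp hmem
    exact ⟨n, by rw [← hn]; simp⟩
  · exact ⟨0, by rw [h2 g hg]; simp⟩

/-! ### Products -/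

section Prod

variable (G₁ : Type u) (G₂ : Type v) [Group G₁] [Group G₂] (C₁ : Set G₁) (C₂ : Set G₂)

/-- The union of `C₁ × {1}` and `{1} × C₂`. -/
def CC : Set (G₁ × G₂) := (fun g => (g, (1 : G₂))) '' C₁ ∪ (fun g => ((1 : G₁), g)) '' C₂

theorem mem_CC (g : G₁ × G₂) :
    g ∈ CC G₁ G₂ C₁ C₂ ↔ (g.1 ∈ C₁ ∧ g.2 = 1) ∨ (g.1 = 1 ∧ g.2 ∈ C₂) := by
  obtain ⟨g₁, g₂⟩ := g
  simp only [CC, Set.mem_union, Set.mem_image, Prod.mk.injEq]
  constructor
  · rintro (⟨x, hx, rfl, rfl⟩ | ⟨x, hx, rfl, rfl⟩)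
    · exact Or.inl ⟨hx, rfl⟩
    · exact Or.inr ⟨rfl, hx⟩
  · rintro (⟨h1, h2⟩ | ⟨h1, h2⟩)
    · exact Or.inl ⟨g₁, h1, rfl, h2.symm⟩
    · exact Or.inr ⟨g₂, h2, h1.symm, rfl⟩

/-- The restriction map. -/
def Phi (p : (Additive (G₁ × G₂) →+ QmodZ) × (G₁ × G₂ → ℚ)) :
    ((Additive G₁ →+ QmodZ) × (G₁ → ℚ)) × ((Additive G₂ →+ QmodZ) × (G₂ → ℚ)) :=
  ((p.1.comp (MonoidHom.toAdditive (MonoidHom.inl G₁ G₂)), fun g => p.2 (g, 1)),
    (p.1.comp (MonoidHom.toAdditive (MonoidHom.inr G₁ G₂)), fun g => p.2 (1, g)))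

theorem mapsTo :
    Set.MapsTo (Phi G₁ G₂) (picOrb (G₁ × G₂) (CC G₁ G₂ C₁ C₂))
      ((picOrb G₁ C₁ : Set _) ×ˢ (picOrb G₂ C₂ : Set _)) := by
  rintro ⟨χ, w⟩ ⟨h1, h2, h3, h4⟩
  refine ⟨⟨h1, ?_, ?_, ?_⟩, ⟨h1, ?_, ?_, ?_⟩⟩
  · intro g hg
    show w (g, 1) = 0
    by_cases hg1 : g = 1
    · subst hg1; exact h1
    · apply h2
      rw [mem_CC]
      rintro (⟨h, _⟩ | ⟨h, _⟩)
      · exact hg h
      · exact hg1 h
  · intro g h
    show w (h * g * h⁻¹, 1) = w (g, 1)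
    have := h3 (g, 1) (h, 1)
    simpa using this
  · intro g hg
    exact h4 (g, 1) ((mem_CC G₁ G₂ C₁ C₂ _).mpr (Or.inl ⟨hg, rfl⟩))
  · intro g hg
    show w (1, g) = 0
    by_cases hg1 : g = 1
    · subst hg1; exact h1
    · apply h2
      rw [mem_CC]
      rintro (⟨_, h⟩ | ⟨_, h⟩)
      · exact hg1 h
      · exact hg h
  · intro g h
    show w (1, h * g * h⁻¹) = w (1, g)
    have := h3 (1, g) (1, h)
    simpa using this
  · intro g hg
    exact h4 (1, g) ((mem_CC G₁ G₂ C₁ C₂ _).mpr (Or.inr ⟨rfl, hg⟩))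

theorem injOn_Phi :
    Set.InjOn (Phi G₁ G₂) (picOrb (G₁ × G₂) (CC G₁ G₂ C₁ C₂)) := by
  rintro ⟨χ, w⟩ ⟨h1, h2, h3, h4⟩ ⟨χ', w'⟩ ⟨h1', h2', h3', h4'⟩ heq
  replace h2 : ∀ g ∉ CC G₁ G₂ C₁ C₂, w g = 0 := h2
  replace h2' : ∀ g ∉ CC G₁ G₂ C₁ C₂, w' g = 0 := h2'
  simp only [Phi, Prod.mk.injEq] at heq
  obtain ⟨⟨e1, e2⟩, ⟨e3, e4⟩⟩ := heq
  have hχ : χ = χ' := by
    ext g
    obtain ⟨g₁, g₂⟩ := g
    have hg : (g₁, g₂) = (g₁, 1) * (1, g₂) := by simp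
    have a1 := DFunLike.congr_fun e1 (Additive.ofMul g₁)
    have a2 := DFunLike.congr_fun e3 (Additive.ofMul g₂)
    simp only [AddMonoidHom.comp_apply] at a1 a2
    show χ (Additive.ofMul (g₁, g₂)) = χ' (Additive.ofMul (g₁, g₂))
    rw [hg, ofMul_mul, map_add, map_add]
    exact congrArg₂ (· + ·) a1 a2
  have hw : w = w' := by
    funext g
    obtain ⟨g₁, g₂⟩ := g
    by_cases hg2 : g₂ = 1
    · subst hg2; exact congrFun e2 g₁
    · by_cases hg1 : g₁ = 1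
      · subst hg1; exact congrFun e4 g₂
      · have hn : (g₁, g₂) ∉ CC G₁ G₂ C₁ C₂ := by
          rw [mem_CC]
          rintro (⟨_, h⟩ | ⟨h, _⟩)
          · exact hg2 h
          · exact hg1 h
        rw [h2 _ hn, h2' _ hn]
  rw [hχ, hw]

open Classical in
/-- The weight on the product. -/
noncomputable def prodW (w₁ : G₁ → ℚ) (w₂ : G₂ → ℚ) : G₁ × G₂ → ℚ :=
  fun g => if g.2 = 1 then w₁ g.1 else if g.1 = 1 then w₂ g.2 else 0

/-- The character on the product. -/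
def prodChar (χ₁ : Additive G₁ →+ QmodZ) (χ₂ : Additive G₂ →+ QmodZ) :
    Additive (G₁ × G₂) →+ QmodZ :=
  χ₁.comp (MonoidHom.toAdditive (MonoidHom.fst G₁ G₂)) +
    χ₂.comp (MonoidHom.toAdditive (MonoidHom.snd G₁ G₂))

theorem prodChar_apply (χ₁ : Additive G₁ →+ QmodZ) (χ₂ : Additive G₂ →+ QmodZ) (g : G₁ × G₂) :
    prodChar G₁ G₂ χ₁ χ₂ (Additive.ofMul g) = χ₁ (Additive.ofMul g.1) + χ₂ (Additive.ofMul g.2) :=
  rfl

theorem conj_eq_one_iff {H : Type*} [Group H] (g h : H) : h * g * h⁻¹ = 1 ↔ g = 1 := by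
  constructor
  · intro hg
    have : g = h⁻¹ * (h * g * h⁻¹) * h := by group
    rw [this, hg, mul_one, inv_mul_cancel]
  · rintro rfl
    rw [mul_one, mul_inv_cancel]

theorem surjOn :
    Set.SurjOn (Phi G₁ G₂) (picOrb (G₁ × G₂) (CC G₁ G₂ C₁ C₂))
      ((picOrb G₁ C₁ : Set _) ×ˢ (picOrb G₂ C₂ : Set _)) := by
  classical
  rintro ⟨⟨χ₁, w₁⟩, ⟨χ₂, w₂⟩⟩ ⟨⟨a1, a2, a3, a4⟩, ⟨b1, b2, b3, b4⟩⟩
  replace a1 : w₁ 1 = 0 := a1
  replace a2 : ∀ g ∉ C₁, w₁ g = 0 := a2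
  replace a3 : ∀ g h : G₁, w₁ (h * g * h⁻¹) = w₁ g := a3
  replace a4 : ∀ g ∈ C₁, toQmodZ (w₁ g) = χ₁ (Additive.ofMul g) := a4
  replace b1 : w₂ 1 = 0 := b1
  replace b2 : ∀ g ∉ C₂, w₂ g = 0 := b2
  replace b3 : ∀ g h : G₂, w₂ (h * g * h⁻¹) = w₂ g := b3
  replace b4 : ∀ g ∈ C₂, toQmodZ (w₂ g) = χ₂ (Additive.ofMul g) := b4
  refine ⟨(prodChar G₁ G₂ χ₁ χ₂, prodW G₁ G₂ w₁ w₂), ⟨?_, ?_, ?_, ?_⟩, ?_⟩
  · show prodW G₁ G₂ w₁ w₂ 1 = 0
    simp only [prodW, Prod.snd_one, Prod.fst_one, if_true]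
    exact a1
  · intro g hg
    obtain ⟨g₁, g₂⟩ := g
    rw [mem_CC] at hg
    show prodW G₁ G₂ w₁ w₂ (g₁, g₂) = 0
    simp only [prodW]
    by_cases h2 : g₂ = 1
    · rw [if_pos h2]
      exact a2 g₁ (fun h => hg (Or.inl ⟨h, h2⟩))
    · rw [if_neg h2]
      by_cases h1 : g₁ = 1
      · rw [if_pos h1]
        exact b2 g₂ (fun h => hg (Or.inr ⟨h1, h⟩))
      · rw [if_neg h1]
  · rintro ⟨g₁, g₂⟩ ⟨h₁, h₂⟩
    show prodW G₁ G₂ w₁ w₂ (h₁ * g₁ * h₁⁻¹, h₂ * g₂ * h₂⁻¹) = prodW G₁ G₂ w₁ w₂ (g₁, g₂)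
    simp only [prodW, conj_eq_one_iff, a3, b3]
  · rintro ⟨g₁, g₂⟩ hg
    rw [mem_CC] at hg
    show toQmodZ (prodW G₁ G₂ w₁ w₂ (g₁, g₂)) = prodChar G₁ G₂ χ₁ χ₂ (Additive.ofMul (g₁, g₂))
    rw [prodChar_apply]
    simp only [prodW]
    rcases hg with ⟨h1, h2⟩ | ⟨h1, h2⟩
    · simp only at h1 h2
      subst h2
      rw [if_pos rfl, a4 g₁ h1, ofMul_one, map_zero, add_zero]
    · simp only at h1 h2
      subst h1
      by_cases hg2 : g₂ = 1
      · subst hg2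
        rw [if_pos rfl, a1, map_zero]
        simp
      · rw [if_neg hg2, if_pos rfl, b4 g₂ h2, ofMul_one, map_zero, zero_add]
  · simp only [Phi, Prod.mk.injEq]
    refine ⟨⟨?_, ?_⟩, ⟨?_, ?_⟩⟩
    · ext g
      show prodChar G₁ G₂ χ₁ χ₂ (Additive.ofMul (g, 1)) = χ₁ (Additive.ofMul g)
      rw [prodChar_apply, ofMul_one, map_zero, add_zero]
    · funext g
      simp only [prodW, if_true]
    · ext g
      show prodChar G₁ G₂ χ₁ χ₂ (Additive.ofMul (1, g)) = χ₂ (Additive.ofMul g)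
      rw [prodChar_apply, ofMul_one, map_zero, zero_add]
    · funext g
      simp only [prodW, if_true]
      by_cases hg : g = 1
      · subst hg
        rw [if_pos rfl, a1, b1]
      · rw [if_neg hg]

theorem bijOn :
    Set.BijOn (Phi G₁ G₂) (picOrb (G₁ × G₂) (CC G₁ G₂ C₁ C₂))
      ((picOrb G₁ C₁ : Set _) ×ˢ (picOrb G₂ C₂ : Set _)) :=
  ⟨mapsTo G₁ G₂ C₁ C₂, injOn_Phi G₁ G₂ C₁ C₂, surjOn G₁ G₂ C₁ C₂⟩

end Prod

end OrbPicLib

end Groth.Agent.Lib.helper10
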