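import Mathlib

/-!
# p-adic completion of a p-torsion-free algebra: completeness, torsion-freeness, universal property
-/

namespace Groth.Agent.Lib.helper10.PadicDil

universe u

variable {A : Type u} [CommRing A] (p : ℕ) (D₁ : Type u) [CommRing D₁] [Algebra A D₁]

/-- the p-adic completion -/
abbrev Dhat : Type u := AdicCompletion (Ideal.span {(p : D₁)}) D₁

lemma span_fg : (Ideal.span {(p : D₁)}).FG := ⟨{(p : D₁)}, by simp⟩

lemma isAdicComplete_Dhat : IsAdicComplete (Ideal.span {(p : Dhat p D₁)}) (Dhat p D₁) := by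
  have h := AdicCompletion.isAdicComplete_self (Ideal.span {(p : D₁)}) (span_fg p D₁)
  rw [Ideal.map_span, Set.image_singleton, map_natCast] at h
  exact h

variable {D₁} in
lemma mem_span_pow_iff (n : ℕ) (y : D₁) :
    y ∈ (Ideal.span {(p : D₁)}) ^ n ↔ ∃ z, y = (p : D₁) ^ n * z := by
  rw [Ideal.span_singleton_pow, Ideal.mem_span_singleton']
  constructor
  · rintro ⟨z, rfl⟩; exact ⟨z, mul_comm _ _⟩
  · rintro ⟨z, rfl⟩; exact ⟨z, mul_comm _ _⟩

lemma isSMulRegular_Dhat (hreg : IsSMulRegular D₁ (p : D₁)) :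
    IsSMulRegular (Dhat p D₁) (p : Dhat p D₁) := by
  intro x y hxy
  rw [← sub_eq_zero]
  have h0 : (p : Dhat p D₁) * (x - y) = 0 := by
    have : (p : Dhat p D₁) * x = (p : Dhat p D₁) * y := hxy
    rw [mul_sub, this, sub_self]
  set w := x - y with hw
  apply AdicCompletion.ext_evalₐ
  intro n
  rw [map_zero]
  obtain ⟨y', hy'⟩ := Ideal.Quotient.mk_surjective
    (AdicCompletion.evalₐ (Ideal.span {(p : D₁)}) (n + 1) w)
  have h1 : Ideal.Quotient.mk ((Ideal.span {(p : D₁)}) ^ (n + 1)) ((p : D₁) * y') = 0 := by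
    rw [map_mul, hy', map_natCast, ← map_natCast (AdicCompletion.evalₐ (Ideal.span {(p : D₁)})
      (n + 1)), ← map_mul, h0, map_zero]
  rw [Ideal.Quotient.eq_zero_iff_mem, mem_span_pow_iff] at h1
  obtain ⟨z, hz⟩ := h1
  have h2 : y' = (p : D₁) ^ n * z := by
    apply hreg
    simp only [smul_eq_mul]
    rw [hz, pow_succ]; ring
  -- compatibility
  obtain ⟨s, hs⟩ := AdicCompletion.mk_surjective (Ideal.span {(p : D₁)}) D₁ w
  rw [← hs, AdicCompletion.evalₐ_mk] at hy'
  rw [← hs, AdicCompletion.evalₐ_mk]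
  rw [Ideal.Quotient.eq_zero_iff_mem]
  have h3 : y' - s.val (n + 1) ∈ (Ideal.span {(p : D₁)}) ^ (n + 1) :=
    (Ideal.Quotient.eq.mp hy')
  have h4 : s.val (n + 1) - s.val n ∈ (Ideal.span {(p : D₁)}) ^ n := by
    have := s.2 (Nat.le_succ n)
    rw [SModEq.sub_mem] at this
    simpa using (neg_mem this)
  have h5 : y' ∈ (Ideal.span {(p : D₁)}) ^ n := (mem_span_pow_iff p n y').mpr ⟨z, h2⟩
  have h6 : y' - s.val (n + 1) ∈ (Ideal.span {(p : D₁)}) ^ n :=
    Ideal.pow_le_pow_right (Nat.le_succ n) h3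
  have : s.val n = y' - (y' - s.val (n + 1)) - (s.val (n + 1) - s.val n) := by ring
  rw [this]
  exact Ideal.sub_mem _ (Ideal.sub_mem _ h5 h6) h4


section lift

variable {D₁} {B : Type u} [CommRing B] [Algebra A B]

lemma map_pow_le (φ₁ : D₁ →ₐ[A] B) (n : ℕ) :
    (Ideal.span {(p : D₁)}) ^ n ≤ ((Ideal.span {(p : B)}) ^ n).comap φ₁ := by
  intro y hy
  obtain ⟨z, rfl⟩ := (mem_span_pow_iff p n y).mp hy
  rw [Ideal.mem_comap, map_mul, map_pow, map_natCast]
  exact (mem_span_pow_iff p n _).mpr ⟨φ₁ z, rfl⟩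

/-- the level-`n` map -/
noncomputable def levelMap (φ₁ : D₁ →ₐ[A] B) (n : ℕ) :
    Dhat p D₁ →ₐ[A] B ⧸ (Ideal.span {(p : B)}) ^ n :=
  (Ideal.quotientMapₐ _ φ₁ (map_pow_le p φ₁ n)).comp
    ((AdicCompletion.evalₐ (Ideal.span {(p : D₁)}) n).restrictScalars A)

lemma levelMap_mk (φ₁ : D₁ →ₐ[A] B) (n : ℕ)
    (s : AdicCompletion.AdicCauchySequence (Ideal.span {(p : D₁)}) D₁) :
    levelMap p φ₁ n (AdicCompletion.mk _ _ s) = Ideal.Quotient.mk _ (φ₁ (s.val n)) := by
  simp only [levelMap, AlgHom.comp_apply, AlgHom.restrictScalars_apply, AdicCompletion.evalₐ_mk]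
  rfl

lemma levelMap_compat (φ₁ : D₁ →ₐ[A] B) {m n : ℕ} (hle : m ≤ n) :
    (Ideal.Quotient.factorₐ A (Ideal.pow_le_pow_right hle)).comp (levelMap p φ₁ n) =
      levelMap p φ₁ m := by
  ext x
  obtain ⟨s, rfl⟩ := AdicCompletion.mk_surjective (Ideal.span {(p : D₁)}) D₁ x
  rw [AlgHom.comp_apply, levelMap_mk, levelMap_mk]
  show Ideal.Quotient.mk _ (φ₁ (s.val n)) = Ideal.Quotient.mk _ (φ₁ (s.val m))
  rw [Ideal.Quotient.eq, ← map_sub]
  apply map_pow_le p φ₁ m
  have := s.2 hle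
  rw [SModEq.sub_mem] at this
  have h2 := neg_mem this
  simpa using h2

variable [IsAdicComplete (Ideal.span {(p : B)}) B]

/-- the lift of an algebra map to the completion -/
noncomputable def liftHat (φ₁ : D₁ →ₐ[A] B) : Dhat p D₁ →ₐ[A] B :=
  IsAdicComplete.liftAlgHom (Ideal.span {(p : B)}) (levelMap p φ₁)
    (fun hle => levelMap_compat p φ₁ hle)

/-- algebra maps out of the completion into a separated algebra are determined on `D₁`. -/
lemma hat_ext {B : Type u} [CommRing B] [Algebra A B] [IsHausdorff (Ideal.span {(p : B)}) B]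
    (g₁ g₂ : Dhat p D₁ →ₐ[A] B)
    (h : ∀ d : D₁, g₁ (AdicCompletion.of _ _ d) = g₂ (AdicCompletion.of _ _ d)) : g₁ = g₂ := by
  ext x
  rw [← sub_eq_zero]
  apply IsHausdorff.haus' (I := Ideal.span {(p : B)})
  intro n
  rw [SModEq.zero, smul_eq_mul, Ideal.mul_top]
  -- the key: the ideal of elements mapped into p^n B by both
  have key : ∀ (g : Dhat p D₁ →ₐ[A] B) (y : Dhat p D₁),
      y ∈ ((Ideal.span {(p : D₁)}) ^ n • ⊤ : Submodule D₁ (Dhat p D₁)) →
      g y ∈ (Ideal.span {(p : B)}) ^ n := by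
    intro g y hy
    refine Submodule.smul_induction_on hy ?_ ?_
    · intro r hr y _
      obtain ⟨z, rfl⟩ := (mem_span_pow_iff p n r).mp hr
      have : ((p : D₁) ^ n * z) • y =
          (p : Dhat p D₁) ^ n * (algebraMap D₁ (Dhat p D₁) z * y) := by
        rw [Algebra.smul_def, map_mul, map_pow, map_natCast, mul_assoc]
      rw [this, map_mul, map_pow, map_natCast]
      exact (mem_span_pow_iff p n _).mpr ⟨_, rfl⟩
    · intro x y hx hy
      rw [map_add]; exact Ideal.add_mem _ hx hy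
  obtain ⟨s, rfl⟩ := AdicCompletion.mk_surjective (Ideal.span {(p : D₁)}) D₁ x
  set d := s.val n with hd
  have hmem : AdicCompletion.mk _ _ s - AdicCompletion.of _ _ d ∈
      ((Ideal.span {(p : D₁)}) ^ n • ⊤ : Submodule D₁ (Dhat p D₁)) := by
    rw [AdicCompletion.pow_smul_top_eq_ker_eval (span_fg p D₁), LinearMap.mem_ker, map_sub,
      sub_eq_zero]
    rfl
  have e : g₁ (AdicCompletion.mk _ _ s) - g₂ (AdicCompletion.mk _ _ s) =
      g₁ (AdicCompletion.mk _ _ s - AdicCompletion.of _ _ d) -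
        g₂ (AdicCompletion.mk _ _ s - AdicCompletion.of _ _ d) := by
    rw [map_sub, map_sub, h d]; ring
  rw [e]
  exact Ideal.sub_mem _ (key g₁ _ hmem) (key g₂ _ hmem)

end lift

end Groth.Agent.Lib.helper10.PadicDil
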