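import Mathlib

/-!
# Plane models of function fields: kernel of the base-changed evaluation map (helper10)
-/

set_option autoImplicit false
set_option linter.style.haveILetI false
universe u v

open TensorProduct

namespace Groth.Agent.Lib.helper10.PlaneModel

section Ker

variable (k : Type u) (k' : Type u) {R : Type u} {K : Type v} [Field k] [Field k'] [Algebra k k']
  [CommRing R] [Algebra k R] [CommRing K] [Algebra k K]

/-- Kernel of `id ⊗ φ` for a flat (here: field) extension, `φ` arbitrary. -/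
theorem ker_map_id (φ : R →ₐ[k] K) :
    RingHom.ker (Algebra.TensorProduct.map (AlgHom.id k k') φ) =
      (RingHom.ker φ).map (Algebra.TensorProduct.includeRight : R →ₐ[k] k' ⊗[k] R) := by
  have hcomp : φ = (φ.range.val).comp φ.rangeRestrict := by
    ext x; rfl
  have h1 : Algebra.TensorProduct.map (AlgHom.id k k') φ =
      (Algebra.TensorProduct.map (AlgHom.id k k') φ.range.val).comp
        (Algebra.TensorProduct.map (AlgHom.id k k') φ.rangeRestrict) := by
    rw [← Algebra.TensorProduct.map_comp]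
    rw [AlgHom.comp_id, ← hcomp]
  have hinj : Function.Injective (Algebra.TensorProduct.map (AlgHom.id k k') φ.range.val) := by
    have h2 : ⇑(Algebra.TensorProduct.map (AlgHom.id k k') φ.range.val) =
        ⇑(LinearMap.lTensor k' φ.range.val.toLinearMap) := by
      funext z
      induction z using TensorProduct.induction_on with
      | zero => simp
      | tmul a b => simp
      | add a b ha hb => rw [map_add, map_add, ha, hb]
    rw [h2]
    exact Module.Flat.lTensor_preserves_injective_linearMap _ Subtype.val_injective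
  have h3 : RingHom.ker (Algebra.TensorProduct.map (AlgHom.id k k') φ) =
      RingHom.ker (Algebra.TensorProduct.map (AlgHom.id k k') φ.rangeRestrict) := by
    ext z
    rw [RingHom.mem_ker, RingHom.mem_ker, h1, AlgHom.comp_apply]
    constructor
    · intro h
      exact hinj (by rw [h, map_zero])
    · intro h
      rw [h, map_zero]
  rw [h3, Algebra.TensorProduct.lTensor_ker _ φ.rangeRestrict_surjective]
  congr 1
  ext x
  rw [RingHom.mem_ker, RingHom.mem_ker]
  constructor
  · intro h
    have := congrArg Subtype.val h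
    simpa using this
  · intro h
    apply Subtype.ext
    simpa using h

end Ker


section Theta

variable (k : Type u) (k' : Type u) {K : Type v} [Field k] [Field k'] [Algebra k k']
  [Field K] [Algebra k K] {σ : Type} 

/-- The base-changed evaluation map `k'[X] → k' ⊗ K`. -/
noncomputable def Theta (φ : MvPolynomial σ k →ₐ[k] K) : MvPolynomial σ k' →+* k' ⊗[k] K :=
  (Algebra.TensorProduct.map (AlgHom.id k k') φ).toRingHom.comp
    (MvPolynomial.algebraTensorAlgEquiv k k').symm.toRingEquiv.toRingHom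

theorem Theta_map (φ : MvPolynomial σ k →ₐ[k] K) (p : MvPolynomial σ k) :
    Theta k k' φ (MvPolynomial.map (algebraMap k k') p) = 1 ⊗ₜ φ p := by
  unfold Theta
  simp only [RingHom.coe_comp, Function.comp_apply]
  have : (MvPolynomial.algebraTensorAlgEquiv k k').symm.toRingEquiv.toRingHom
      (MvPolynomial.map (algebraMap k k') p) = 1 ⊗ₜ p :=
    MvPolynomial.algebraTensorAlgEquiv_symm_map k k' p
  rw [this]
  simp

theorem Theta_C_mul_map (φ : MvPolynomial σ k →ₐ[k] K) (a : k') (p : MvPolynomial σ k) :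
    Theta k k' φ (MvPolynomial.C a * MvPolynomial.map (algebraMap k k') p) = a ⊗ₜ φ p := by
  have h1 : MvPolynomial.C a * MvPolynomial.map (algebraMap k k') p =
      MvPolynomial.algebraTensorAlgEquiv k k' (a ⊗ₜ p) := by
    rw [MvPolynomial.algebraTensorAlgEquiv_tmul, MvPolynomial.smul_eq_C_mul]
  unfold Theta
  simp only [RingHom.coe_comp, Function.comp_apply]
  rw [h1]
  have : (MvPolynomial.algebraTensorAlgEquiv k k').symm.toRingEquiv.toRingHom
      (MvPolynomial.algebraTensorAlgEquiv k k' (a ⊗ₜ p)) = a ⊗ₜ p :=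
    (MvPolynomial.algebraTensorAlgEquiv k k').symm_apply_apply _
  rw [this]
  simp

theorem ker_Theta (φ : MvPolynomial σ k →ₐ[k] K) (f : MvPolynomial σ k)
    (hker : RingHom.ker φ = Ideal.span {f}) :
    RingHom.ker (Theta k k' φ) = Ideal.span {MvPolynomial.map (algebraMap k k') f} := by
  unfold Theta
  rw [← RingHom.comap_ker]
  have h1 : RingHom.ker (Algebra.TensorProduct.map (AlgHom.id k k') φ).toRingHom =
      Ideal.span {(1 : k') ⊗ₜ[k] f} := by
    have := ker_map_id k k' φ
    rw [hker, Ideal.map_span, Set.image_singleton] at this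
    exact this
  rw [h1]
  have h2 : Ideal.comap (MvPolynomial.algebraTensorAlgEquiv k k').symm.toRingEquiv.toRingHom
      (Ideal.span {(1 : k') ⊗ₜ[k] f}) =
      Ideal.map (MvPolynomial.algebraTensorAlgEquiv k k').toRingEquiv.toRingHom
      (Ideal.span {(1 : k') ⊗ₜ[k] f}) :=
    Ideal.comap_symm (MvPolynomial.algebraTensorAlgEquiv k k').toRingEquiv
  rw [h2, Ideal.map_span, Set.image_singleton]
  congr 2
  have := MvPolynomial.algebraTensorAlgEquiv_tmul k k' (1 : k') f
  rw [one_smul] at this
  exact this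

end Theta


section StepA

variable (k : Type u) (k' : Type u) {K : Type v} [Field k] [Field k'] [Algebra k k']
  [Field K] [Algebra k K] {σ : Type}

/-- If `K` is the fraction field of the image of `φ`, `ker φ = (f)` and `f` stays irreducible over
the finite extension `k'`, then `k' ⊗ K` is a field. -/
theorem isField_tensor_of_irreducible [FiniteDimensional k k']
    (φ : MvPolynomial σ k →ₐ[k] K) (f : MvPolynomial σ k)
    (hfrac : ∀ c : K, ∃ p q : MvPolynomial σ k, φ q ≠ 0 ∧ c * φ q = φ p)
    (hker : RingHom.ker φ = Ideal.span {f})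
    (hirr : Irreducible (MvPolynomial.map (algebraMap k k') f)) :
    IsField (k' ⊗[k] K) := by
  classical
  have hprime : (RingHom.ker (Theta k k' φ)).IsPrime := by
    rw [ker_Theta k k' φ f hker]
    exact (Ideal.span_singleton_prime hirr.ne_zero).mpr
      (UniqueFactorizationMonoid.irreducible_iff_prime.mp hirr)
  -- representation of elements
  have hrep : ∀ z : k' ⊗[k] K, ∃ (p' : MvPolynomial σ k') (q : MvPolynomial σ k),
      φ q ≠ 0 ∧ z * ((1 : k') ⊗ₜ[k] φ q) = Theta k k' φ p' := by
    intro z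
    induction z using TensorProduct.induction_on with
    | zero => exact ⟨0, 1, by rw [map_one]; exact one_ne_zero, by rw [zero_mul, map_zero]⟩
    | tmul a c =>
      obtain ⟨p, q, hq, hpq⟩ := hfrac c
      refine ⟨MvPolynomial.C a * MvPolynomial.map (algebraMap k k') p, q, hq, ?_⟩
      rw [Theta_C_mul_map, Algebra.TensorProduct.tmul_mul_tmul, mul_one, hpq]
    | add z₁ z₂ h₁ h₂ =>
      obtain ⟨p₁, q₁, hq₁, e₁⟩ := h₁
      obtain ⟨p₂, q₂, hq₂, e₂⟩ := h₂
      refine ⟨p₁ * MvPolynomial.map (algebraMap k k') q₂ +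
        p₂ * MvPolynomial.map (algebraMap k k') q₁, q₁ * q₂, ?_, ?_⟩
      · rw [map_mul]; exact mul_ne_zero hq₁ hq₂
      · have hA : Theta k k' φ (p₁ * MvPolynomial.map (algebraMap k k') q₂ +
            p₂ * MvPolynomial.map (algebraMap k k') q₁) =
            Theta k k' φ p₁ * ((1 : k') ⊗ₜ[k] φ q₂) + Theta k k' φ p₂ * ((1 : k') ⊗ₜ[k] φ q₁) := by
          rw [RingHom.map_add, RingHom.map_mul, RingHom.map_mul, Theta_map, Theta_map]
        have hB : (1 : k') ⊗ₜ[k] (φ (q₁ * q₂)) =
            ((1 : k') ⊗ₜ[k] φ q₁) * ((1 : k') ⊗ₜ[k] φ q₂) := by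
          rw [Algebra.TensorProduct.tmul_mul_tmul, mul_one, map_mul]
        rw [hA, hB, ← e₁, ← e₂]
        ring
  have hunit : ∀ s : K, s ≠ 0 → ∀ z : k' ⊗[k] K, z * ((1 : k') ⊗ₜ[k] s) = 0 → z = 0 := by
    intro s hs z hz
    have h1 : ((1 : k') ⊗ₜ[k] s) * ((1 : k') ⊗ₜ[k] s⁻¹) = 1 := by
      rw [Algebra.TensorProduct.tmul_mul_tmul, mul_one, mul_inv_cancel₀ hs]
      rfl
    calc z = z * (((1 : k') ⊗ₜ[k] s) * ((1 : k') ⊗ₜ[k] s⁻¹)) := by rw [h1, mul_one]
      _ = (z * ((1 : k') ⊗ₜ[k] s)) * ((1 : k') ⊗ₜ[k] s⁻¹) := by ring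
      _ = 0 := by rw [hz, zero_mul]
  haveI : Nontrivial (k' ⊗[k] K) :=
    Algebra.TensorProduct.nontrivial_of_algebraMap_injective_of_flat_left k k' K
      (algebraMap k K).injective
  haveI : NoZeroDivisors (k' ⊗[k] K) := by
    refine ⟨fun {z₁ z₂} h => ?_⟩
    obtain ⟨p₁, q₁, hq₁, e₁⟩ := hrep z₁
    obtain ⟨p₂, q₂, hq₂, e₂⟩ := hrep z₂
    have h0 : Theta k k' φ (p₁ * p₂) = 0 := by
      rw [map_mul, ← e₁, ← e₂]
      calc z₁ * ((1 : k') ⊗ₜ[k] φ q₁) * (z₂ * ((1 : k') ⊗ₜ[k] φ q₂))
          = (z₁ * z₂) * (((1 : k') ⊗ₜ[k] φ q₁) * ((1 : k') ⊗ₜ[k] φ q₂)) := by ring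
        _ = 0 := by rw [h, zero_mul]
    have h1 : p₁ * p₂ ∈ RingHom.ker (Theta k k' φ) := h0
    rcases hprime.mem_or_mem h1 with h2 | h2
    · left
      apply hunit _ hq₁
      rw [e₁]; exact h2
    · right
      apply hunit _ hq₂
      rw [e₂]; exact h2
  haveI : IsDomain (k' ⊗[k] K) := NoZeroDivisors.to_isDomain _
  -- transfer to `K ⊗ k'`, which is finite over `K`
  let e := (Algebra.TensorProduct.comm k k' K).toRingEquiv
  haveI : IsDomain (K ⊗[k] k') := MulEquiv.isDomain (k' ⊗[k] K) e.symm.toMulEquiv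
  haveI : Algebra.IsIntegral K (K ⊗[k] k') := inferInstance
  have hF : IsField (K ⊗[k] k') := isField_of_isIntegral_of_isField' (Field.toIsField K)
  exact MulEquiv.isField hF e.toMulEquiv

end StepA


section Conv

variable (k : Type u) (k' : Type u) {K : Type v} [Field k] [Field k'] [Algebra k k']
  [Field K] [Algebra k K] {σ : Type}

/-- If `ker φ = (f)`, `f ≠ 0` and `k' ⊗ K` is a field, then `f` stays irreducible over `k'`. -/
theorem irreducible_map_of_isField
    (φ : MvPolynomial σ k →ₐ[k] K) (f : MvPolynomial σ k) (hf : f ≠ 0)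
    (hker : RingHom.ker φ = Ideal.span {f}) (hT : IsField (k' ⊗[k] K)) :
    Irreducible (MvPolynomial.map (algebraMap k k') f) := by
  haveI : IsDomain (k' ⊗[k] K) := hT.isDomain
  have hprime : (RingHom.ker (Theta k k' φ)).IsPrime := RingHom.ker_isPrime _
  rw [ker_Theta k k' φ f hker] at hprime
  have hne : MvPolynomial.map (algebraMap k k') f ≠ 0 := by
    intro h
    apply hf
    apply MvPolynomial.map_injective _ (algebraMap k k').injective
    rw [h, map_zero]
  exact ((Ideal.span_singleton_prime hne).mp hprime).irreducible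

end Conv

end Groth.Agent.Lib.helper10.PlaneModel
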