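import Mathlib

/-!
# Plane models of function fields: the relation ideal is principal (helper10)
-/

set_option autoImplicit false
set_option linter.style.haveILetI false
universe u v

open TensorProduct

namespace Groth.Agent.Lib.helper10.PlaneModel

section Principal

variable {k : Type u} {K : Type v} [Field k] [Field K] [Algebra k K]

/-- A nonzero prime ideal of `k[X, Y]` which is the kernel of an evaluation map whose image contains
a transcendental element is generated by one irreducible polynomial. -/
theorem ker_eq_span_of_transcendental (φ : MvPolynomial (Fin 2) k →ₐ[k] K)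
    (hne : RingHom.ker φ ≠ ⊥) (p : MvPolynomial (Fin 2) k) (htr : Transcendental k (φ p)) :
    ∃ f : MvPolynomial (Fin 2) k, Irreducible f ∧ RingHom.ker φ = Ideal.span {f} := by
  classical
  haveI hP : (RingHom.ker φ).IsPrime := RingHom.ker_isPrime _
  obtain ⟨f, hfP, hf⟩ := Ideal.IsPrime.exists_mem_prime_of_ne_bot hP hne
  refine ⟨f, hf.irreducible, ?_⟩
  have hle : Ideal.span {f} ≤ RingHom.ker φ := (Ideal.span_singleton_le_iff_mem _).mpr hfP
  by_contra hcon
  have hlt : Ideal.span {f} < RingHom.ker φ := lt_of_le_of_ne hle (Ne.symm hcon)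
  haveI hfprime : (Ideal.span {f}).IsPrime := (Ideal.span_singleton_prime hf.ne_zero).mpr hf
  have hbot : (⊥ : Ideal (MvPolynomial (Fin 2) k)) < Ideal.span {f} := by
    rw [bot_lt_iff_ne_bot]
    intro h
    rw [Ideal.span_singleton_eq_bot] at h
    exact hf.ne_zero h
  have hdim : ringKrullDim (MvPolynomial (Fin 2) k) = 2 := by
    rw [MvPolynomial.ringKrullDim_of_isNoetherianRing, ringKrullDim_eq_zero_of_field]
    simp
  -- the kernel is a maximal ideal
  have hmax : (RingHom.ker φ).IsMaximal := by
    by_contra hnm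
    obtain ⟨M, hM, hPM⟩ := Ideal.exists_le_maximal _ hP.ne_top
    have hPM' : RingHom.ker φ < M := lt_of_le_of_ne hPM (fun h => hnm (h ▸ hM))
    haveI := hM.isPrime
    have h1 := Ideal.height_add_one_le_of_lt_of_isPrime hbot
    have h2 := Ideal.height_add_one_le_of_lt_of_isPrime hlt
    have h3 := Ideal.height_add_one_le_of_lt_of_isPrime hPM'
    have h4 : (3 : ℕ∞) ≤ M.height := by
      calc (3 : ℕ∞) = 0 + 1 + 1 + 1 := by norm_num
        _ ≤ (⊥ : Ideal (MvPolynomial (Fin 2) k)).height + 1 + 1 + 1 := by gcongr; exact zero_le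
        _ ≤ (Ideal.span {f}).height + 1 + 1 := by gcongr
        _ ≤ (RingHom.ker φ).height + 1 := by gcongr
        _ ≤ M.height := h3
    have h5 : (M.height : WithBot ℕ∞) ≤ 2 := by
      rw [← hdim]
      exact Ideal.height_le_ringKrullDim_of_isPrime
    have h6 : M.height ≤ 2 := by
      have h5' : (M.height : WithBot ℕ∞) ≤ ((2 : ℕ∞) : WithBot ℕ∞) := h5
      exact WithBot.coe_le_coe.mp h5'
    have := h4.trans h6
    norm_num at this
  -- so the quotient is a field of finite type over `k`, hence finite
  letI : Field (MvPolynomial (Fin 2) k ⧸ RingHom.ker φ) := Ideal.Quotient.field _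
  haveI : Module.Finite k (MvPolynomial (Fin 2) k ⧸ RingHom.ker φ) :=
    finite_of_finite_type_of_isJacobsonRing k _
  have halg : IsAlgebraic k (Ideal.Quotient.mk (RingHom.ker φ) p) :=
    Algebra.IsAlgebraic.isAlgebraic _
  apply htr
  have h7 := halg.algHom (Ideal.kerLiftAlg φ)
  rwa [Ideal.kerLiftAlg_mk] at h7

end Principal


section Degree

variable {k : Type u} {K : Type v} [Field k] [Field K] [Algebra k K] {σ : Type} 

theorem degreeOf_aeval_X_eq_zero {i j : σ} (hij : j ≠ i) (P : Polynomial k) :
    MvPolynomial.degreeOf j (Polynomial.aeval (MvPolynomial.X i : MvPolynomial σ k) P) = 0 := by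
  classical
  have hmem : Polynomial.aeval (MvPolynomial.X i : MvPolynomial σ k) P ∈
      MvPolynomial.supported k ({i} : Set σ) := by
    have := Polynomial.aeval_mem_adjoin_singleton k (MvPolynomial.X i : MvPolynomial σ k) (p := P)
    rw [MvPolynomial.supported, Set.image_singleton]
    exact this
  rw [MvPolynomial.mem_supported] at hmem
  rw [MvPolynomial.degreeOf_def, Multiset.count_eq_zero]
  intro hj
  have hj' : j ∈ (Polynomial.aeval (MvPolynomial.X i : MvPolynomial σ k) P).vars := by
    rw [MvPolynomial.vars_def, Multiset.mem_toFinset]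
    exact hj
  have := hmem hj'
  exact hij (by simpa using this)

theorem degreeOf_eq_zero_of_dvd_aeval_X {i j : σ} (hij : j ≠ i) (f : MvPolynomial σ k)
    (P : Polynomial k) (hP : P ≠ 0)
    (h : f ∣ Polynomial.aeval (MvPolynomial.X i : MvPolynomial σ k) P) :
    MvPolynomial.degreeOf j f = 0 := by
  obtain ⟨g, hg⟩ := h
  have hne : Polynomial.aeval (MvPolynomial.X i : MvPolynomial σ k) P ≠ 0 := by
    intro h0
    apply hP
    have hinj := (transcendental_iff_injective.mp (MvPolynomial.transcendental_X k i))
    apply hinj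
    rw [h0, map_zero]
  have hf0 : f ≠ 0 := by
    rintro rfl
    rw [zero_mul] at hg
    exact hne hg
  have hg0 : g ≠ 0 := by
    rintro rfl
    rw [mul_zero] at hg
    exact hne hg
  have h1 := MvPolynomial.degreeOf_mul_eq (n := j) hf0 hg0
  rw [← hg, degreeOf_aeval_X_eq_zero hij] at h1
  omega

/-- If the kernel of evaluation at `(x, y)` is generated by an irreducible `f`, then `x` and `y`
are not both algebraic over `k`. -/
theorem not_both_algebraic (x y : K) (f : MvPolynomial (Fin 2) k) (hirr : Irreducible f)
    (hker : RingHom.ker (MvPolynomial.aeval ![x, y] : MvPolynomial (Fin 2) k →ₐ[k] K) =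
      Ideal.span {f})
    (hx : IsAlgebraic k x) (hy : IsAlgebraic k y) : False := by
  classical
  have key : ∀ (i : Fin 2) (z : K), ![x, y] i = z → IsAlgebraic k z → ∀ j : Fin 2, j ≠ i →
      MvPolynomial.degreeOf j f = 0 := by
    intro i z hz halg j hji
    obtain ⟨P, hP0, hP⟩ := halg
    apply degreeOf_eq_zero_of_dvd_aeval_X hji f P hP0
    rw [← Ideal.mem_span_singleton, ← hker, RingHom.mem_ker]
    rw [← Polynomial.aeval_algHom_apply, MvPolynomial.aeval_X, hz, hP]
  have h1 : MvPolynomial.degreeOf (1 : Fin 2) f = 0 := key 0 x rfl hx 1 (by decide)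
  have h0 : MvPolynomial.degreeOf (0 : Fin 2) f = 0 := key 1 y rfl hy 0 (by decide)
  have hvars : f.vars = ∅ := by
    rw [Finset.eq_empty_iff_forall_notMem]
    intro j hj
    rw [MvPolynomial.vars_def, Multiset.mem_toFinset] at hj
    have hc : 0 < Multiset.count j f.degrees := Multiset.count_pos.mpr hj
    rw [← MvPolynomial.degreeOf_def] at hc
    fin_cases j
    · simp only [Fin.zero_eta] at hc; omega
    · simp only [Fin.mk_one] at hc; omega
  rw [MvPolynomial.vars_eq_empty_iff_eq_C] at hvars
  have hc0 : f.coeff 0 ≠ 0 := by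
    intro h
    rw [h, map_zero] at hvars
    exact hirr.ne_zero hvars
  apply hirr.not_isUnit
  rw [hvars]
  exact (IsUnit.mk0 _ hc0).map MvPolynomial.C

end Degree

end Groth.Agent.Lib.helper10.PlaneModel
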