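import Mathlib
import Groth.Prelude.Def_W4bk4goldsch23FF

/-!
# Geometric extensions: the base field is algebraically closed in the extension (helper10)
-/

set_option autoImplicit false
set_option linter.style.haveILetI false
universe u v

open TensorProduct

namespace Groth.Agent.Lib.helper10.PlaneModel

section AlgClosed

variable {k : Type u} {K : Type v} [Field k] [Field K] [Algebra k K]

/-- If `K/k` is geometric, every element of `K` algebraic over `k` lies in `k`. -/
theorem mem_range_of_isAlgebraic_of_isGeometric (hg : FunFld.IsGeometric k K) (α : K)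
    (hα : IsAlgebraic k α) : α ∈ Set.range (algebraMap k K) := by
  classical
  have hint : IsIntegral k α := hα.isIntegral
  haveI : Fact (Irreducible (minpoly k α)) := ⟨minpoly.irreducible hint⟩
  have hm0 : minpoly k α ≠ 0 := minpoly.ne_zero hint
  haveI : FiniteDimensional k (AdjoinRoot (minpoly k α)) :=
    (AdjoinRoot.powerBasis hm0).finite
  have hT := hg (AdjoinRoot (minpoly k α)) inferInstance
  let j : AdjoinRoot (minpoly k α) →ₐ[k] K :=
    AdjoinRoot.liftAlgHom (minpoly k α) (Algebra.ofId k K) α (by
      have := minpoly.aeval k α
      rwa [Polynomial.aeval_def] at this)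
  let μ : AdjoinRoot (minpoly k α) ⊗[k] K →ₐ[k] K :=
    Algebra.TensorProduct.lift j (AlgHom.id k K) (fun _ _ => Commute.all _ _)
  have hz : (AdjoinRoot.root (minpoly k α)) ⊗ₜ[k] (1 : K) =
      (1 : AdjoinRoot (minpoly k α)) ⊗ₜ[k] α := by
    by_contra hne
    have hne' : (AdjoinRoot.root (minpoly k α)) ⊗ₜ[k] (1 : K) -
        (1 : AdjoinRoot (minpoly k α)) ⊗ₜ[k] α ≠ 0 := sub_ne_zero.mpr hne
    obtain ⟨w, hw⟩ := hT.mul_inv_cancel hne'
    have h1 := congrArg μ hw
    rw [map_mul, map_sub, map_one] at h1
    have h2 : μ ((AdjoinRoot.root (minpoly k α)) ⊗ₜ[k] (1 : K)) = α := by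
      simp [μ, j]
    have h3 : μ ((1 : AdjoinRoot (minpoly k α)) ⊗ₜ[k] α) = α := by
      simp [μ]
    rw [h2, h3, sub_self, zero_mul] at h1
    exact zero_ne_one h1
  by_contra hnot
  have hnot' : α ∉ LinearMap.range (Algebra.linearMap k K) := by
    intro h
    apply hnot
    obtain ⟨c, hc⟩ := h
    exact ⟨c, hc⟩
  obtain ⟨ℓ, hℓα, hℓ⟩ := Submodule.exists_le_ker_of_notMem hnot'
  have hℓ1 : ℓ 1 = 0 := by
    have : (1 : K) ∈ LinearMap.range (Algebra.linearMap k K) := ⟨1, by simp⟩
    exact hℓ this
  have h4 := congrArg (fun z => TensorProduct.rid k (AdjoinRoot (minpoly k α))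
    (LinearMap.lTensor (AdjoinRoot (minpoly k α)) ℓ z)) hz
  simp only [LinearMap.lTensor_tmul, TensorProduct.rid_tmul, hℓ1, zero_smul] at h4
  have h5 : ℓ α • (1 : AdjoinRoot (minpoly k α)) ≠ 0 := by
    rw [Ne, smul_eq_zero]
    push Not
    exact ⟨hℓα, one_ne_zero⟩
  exact h5 h4.symm

end AlgClosed


section FunctionField

open IntermediateField

variable {k : Type u} {K : Type v} [Field k] [Field K] [Algebra k K]

/-- If `K = k(x, y)` then some element among `x, y` is transcendental with `K` finite over it,
provided `x, y` are not both algebraic and are algebraically dependent. -/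
theorem exists_transcendental_finite (x y : K)
    (hgen : IntermediateField.adjoin k ({x, y} : Set K) = ⊤)
    (hdep : ¬ AlgebraicIndependent k ![x, y])
    (hnalg : ¬ (IsAlgebraic k x ∧ IsAlgebraic k y)) :
    ∃ z : K, Transcendental k z ∧ FiniteDimensional (IntermediateField.adjoin k ({z} : Set K)) K := by
  classical
  haveI : Algebra.IsAlgebraic (Algebra.adjoin k ({x, y} : Set K)) K := by
    rw [← isAlgebraic_adjoin_iff_top, hgen, Algebra.isAlgebraic_iff_isIntegral]
    exact Algebra.isIntegral_of_surjective topEquiv.surjective
  obtain ⟨t, hts, ht⟩ := exists_isTranscendenceBasis_subset (R := k) ({x, y} : Set K)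
  -- the singleton case
  have single : ∀ z : K, z ∈ ({x, y} : Set K) → t = {z} →
      ∃ z : K, Transcendental k z ∧
        FiniteDimensional (IntermediateField.adjoin k ({z} : Set K)) K := by
    intro z hz htz
    subst htz
    refine ⟨z, ?_, ?_⟩
    · have h1 := ht.1
      exact (algebraicIndependent_singleton_iff (x := ((↑) : ({z} : Set K) → K))
        (R := k) ⟨z, Set.mem_singleton z⟩).1 h1
    · have h2 := ht.isAlgebraic_field
      rw [Subtype.range_coe] at h2
      have hx : IsIntegral (IntermediateField.adjoin k ({z} : Set K)) x :=
        (Algebra.IsAlgebraic.isAlgebraic x).isIntegral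
      have hy : IsIntegral (IntermediateField.adjoin k ({z} : Set K)) y :=
        (Algebra.IsAlgebraic.isAlgebraic y).isIntegral
      have h3 : FiniteDimensional (IntermediateField.adjoin k ({z} : Set K))
          (IntermediateField.adjoin (IntermediateField.adjoin k ({z} : Set K)) ({x, y} : Set K)) :=
        IntermediateField.finiteDimensional_adjoin_pair hx hy
      have h4 : IntermediateField.adjoin (IntermediateField.adjoin k ({z} : Set K))
          ({x, y} : Set K) = ⊤ := by
        rw [← IntermediateField.restrictScalars_eq_top_iff (K := k),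
          IntermediateField.adjoin_adjoin_left, eq_top_iff, ← hgen]
        exact IntermediateField.adjoin.mono _ _ _ Set.subset_union_right
      rw [h4] at h3
      exact Module.Finite.equiv (IntermediateField.topEquiv
        (F := IntermediateField.adjoin k ({z} : Set K)) (E := K)).toLinearEquiv
  rcases Set.subset_pair_iff_eq.mp hts with h | h | h | h
  · -- empty: everything algebraic
    exfalso
    subst h
    have h2 := ht.isAlgebraic_field
    rw [Subtype.range_coe, IntermediateField.adjoin_empty] at h2
    apply hnalg
    have hbot : ∀ w : K, IsAlgebraic k w := by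
      intro w
      have h3 : IsAlgebraic (⊥ : IntermediateField k K) w := Algebra.IsAlgebraic.isAlgebraic w
      have h4 : Algebra.IsAlgebraic k (⊥ : IntermediateField k K) :=
        Algebra.IsAlgebraic.of_injective (IntermediateField.botEquiv k K).toAlgHom
          (IntermediateField.botEquiv k K).injective
      exact h3.restrictScalars k
    exact ⟨hbot x, hbot y⟩
  · exact single x (by simp) h
  · exact single y (by simp) h
  · by_cases hxy : x = y
    · subst hxy
      rw [Set.pair_eq_singleton] at h
      exact single x (by simp) h
    · exfalso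
      apply hdep
      subst h
      have h1 := ht.1
      let g : Fin 2 → ({x, y} : Set K) := fun i => ⟨![x, y] i, by
        fin_cases i <;> simp⟩
      have hg : Function.Injective g := by
        intro i j hij
        have := congrArg Subtype.val hij
        fin_cases i <;> fin_cases j <;> simp_all [g]
      have := h1.comp g hg
      convert this using 1
      funext i
      fin_cases i <;> rfl

end FunctionField

end Groth.Agent.Lib.helper10.PlaneModel
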