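import Mathlib
import Groth.Prelude.Def_CAlgX

/-!
# helper10: universally exact resolutions — extraction of exactness data (for S8775/S8776)
-/

set_option autoImplicit false
universe u
open CategoryTheory

namespace Groth.Agent.Lib.helper10.PureRes
set_option linter.style.haveILetI false

open TensorProduct

section linear

variable {R : Type u} [CommRing R]
  {A B C D : Type u} [AddCommGroup A] [Module R A] [AddCommGroup B] [Module R B]
  [AddCommGroup C] [Module R C] [AddCommGroup D] [Module R D]

theorem rid_rTensor (c : C →ₗ[R] A) (y : C ⊗[R] R) :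
    TensorProduct.rid R A (c.rTensor R y) = c (TensorProduct.rid R C y) := by
  induction y using TensorProduct.induction_on with
  | zero => simp
  | tmul x r => simp
  | add x y hx hy => simp only [map_add, hx, hy]

theorem exact_of_rTensor_self (c : C →ₗ[R] A) (a : A →ₗ[R] B)
    (h : Function.Exact (c.rTensor R) (a.rTensor R)) : Function.Exact c a := by
  intro x
  constructor
  · intro hx
    have h1 : a.rTensor R (x ⊗ₜ (1 : R)) = 0 := by
      rw [LinearMap.rTensor_tmul, hx, zero_tmul]
    obtain ⟨y, hy⟩ := (h _).1 h1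
    refine ⟨TensorProduct.rid R C y, ?_⟩
    rw [← rid_rTensor, hy, TensorProduct.rid_tmul, one_smul]
  · rintro ⟨z, rfl⟩
    have h1 : a.rTensor R (c.rTensor R (z ⊗ₜ (1 : R))) = 0 := h.apply_apply_eq_zero _
    rw [LinearMap.rTensor_tmul, LinearMap.rTensor_tmul] at h1
    have h2 := congrArg (TensorProduct.rid R B) h1
    rwa [TensorProduct.rid_tmul, one_smul, map_zero] at h2

theorem surjective_of_rTensor_self (a : A →ₗ[R] B)
    (h : Function.Surjective (a.rTensor R)) : Function.Surjective a := by
  intro b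
  obtain ⟨y, hy⟩ := h (b ⊗ₜ (1 : R))
  refine ⟨TensorProduct.rid R A y, ?_⟩
  rw [← rid_rTensor, hy, TensorProduct.rid_tmul, one_smul]

/-- kernel inclusions in a universally exact complex are universally injective -/
theorem univ_inj_ker (c' : D →ₗ[R] C) (c : C →ₗ[R] A) (a : A →ₗ[R] B)
    (hca : Function.Exact c a)
    (hc'c : ∀ (T : Type u) [AddCommGroup T] [Module R T],
      Function.Exact (c'.rTensor T) (c.rTensor T)) :
    CAlgX.UniversallyInjective R (LinearMap.ker a).subtype := by
  intro T _ _
  have h0 : c ∘ₗ c' = 0 := by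
    have := exact_of_rTensor_self c' c (hc'c R)
    ext z
    exact this.apply_apply_eq_zero z
  let K := LinearMap.ker a
  let g : C →ₗ[R] K := c.codRestrict K (fun z => hca.apply_apply_eq_zero z)
  have hg : Function.Surjective g := by
    intro k
    obtain ⟨z, hz⟩ := (hca k.1).1 k.2
    exact ⟨z, Subtype.ext hz⟩
  have hgc' : g ∘ₗ c' = 0 := by
    ext z
    exact LinearMap.congr_fun h0 z
  have hsub : K.subtype ∘ₗ g = c := rfl
  rw [injective_iff_map_eq_zero]
  intro x hx
  obtain ⟨y, rfl⟩ := LinearMap.rTensor_surjective T hg x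
  rw [← LinearMap.comp_apply, ← LinearMap.rTensor_comp, hsub] at hx
  obtain ⟨w, rfl⟩ := (hc'c T y).1 hx
  rw [← LinearMap.comp_apply, ← LinearMap.rTensor_comp, hgc', LinearMap.rTensor_zero,
    LinearMap.zero_apply]

/-- lifting along an exact pair with universally injective kernel -/
theorem lift_along {X : Type u} [AddCommGroup X] [Module R X]
    (hX : ∀ ⦃L T : Type u⦄ [AddCommGroup L] [Module R L] [AddCommGroup T] [Module R T]
      (g : L →ₗ[R] T), Function.Surjective g →
      CAlgX.UniversallyInjective R (LinearMap.ker g).subtype →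
      ∀ φ : X →ₗ[R] T, ∃ ψ : X →ₗ[R] L, g ∘ₗ ψ = φ)
    (c : C →ₗ[R] A) (a : A →ₗ[R] B) (hca : Function.Exact c a)
    (hu : CAlgX.UniversallyInjective R (LinearMap.ker c).subtype)
    (φ : X →ₗ[R] A) (hφ : a ∘ₗ φ = 0) : ∃ ψ : X →ₗ[R] C, c ∘ₗ ψ = φ := by
  let K := LinearMap.ker a
  let g : C →ₗ[R] K := c.codRestrict K (fun z => hca.apply_apply_eq_zero z)
  have hg : Function.Surjective g := by
    intro k
    obtain ⟨z, hz⟩ := (hca k.1).1 k.2
    exact ⟨z, Subtype.ext hz⟩
  have hker : LinearMap.ker g = LinearMap.ker c := LinearMap.ker_codRestrict _ _ _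
  have hu' : CAlgX.UniversallyInjective R (LinearMap.ker g).subtype := by
    rw [hker]
    exact hu
  let φ' : X →ₗ[R] K := φ.codRestrict K (fun x => LinearMap.congr_fun hφ x)
  obtain ⟨ψ, hψ⟩ := hX g hg hu' φ'
  refine ⟨ψ, ?_⟩
  ext x
  exact congrArg Subtype.val (LinearMap.congr_fun hψ x)

end linear

section chain

open MonoidalCategory

variable {R : Type u} [CommRing R] (N' : ChainComplex (ModuleCat.{u} R) ℕ) {N : ModuleCat.{u} R}
  (ε : N' ⟶ (ChainComplex.single₀ (ModuleCat.{u} R)).obj N) (T : ModuleCat.{u} R)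
  (h : QuasiIso (((tensorRight T).mapHomologicalComplex (ComplexShape.down ℕ)).map ε))

include h in
theorem chain_exact_succ (n : ℕ) :
    Function.Exact ((N'.d (n + 2) (n + 1)).hom.rTensor T) ((N'.d (n + 1) n).hom.rTensor T) := by
  have h1 : QuasiIsoAt (((tensorRight T).mapHomologicalComplex (ComplexShape.down ℕ)).map ε)
      (n + 1) := h.quasiIsoAt (n + 1)
  have hL : (((tensorRight T).mapHomologicalComplex (ComplexShape.down ℕ)).obj
      ((ChainComplex.single₀ (ModuleCat.{u} R)).obj N)).ExactAt (n + 1) := by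
    apply ShortComplex.exact_of_isZero_X₂
    exact (tensorRight T).map_isZero (HomologicalComplex.isZero_single_obj_X _ _ _ _ (by omega))
  rw [quasiIsoAt_iff_exactAt' (hL := hL),
    HomologicalComplex.exactAt_iff' _ (n + 2) (n + 1) n (by simp) (by simp)] at h1
  exact (ShortComplex.ShortExact.moduleCat_exact_iff_function_exact _).1 h1

include h in
set_option backward.defeqAttrib.useBackward true in
set_option backward.isDefEq.respectTransparency false in
theorem chain_exact_zero :
    Function.Exact ((N'.d 1 0).hom.rTensor T) ((ε.f 0).hom.rTensor T) ∧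
      Function.Surjective ((ε.f 0).hom.rTensor T) := by
  have h1 : QuasiIsoAt (((tensorRight T).mapHomologicalComplex (ComplexShape.down ℕ)).map ε) 0 :=
    h.quasiIsoAt 0
  rw [ChainComplex.quasiIsoAt₀_iff,
    ShortComplex.quasiIso_iff_of_zeros' _ (by simp) (by simp) (by simp)] at h1
  obtain ⟨h2, h3⟩ := h1
  constructor
  · exact (ShortComplex.ShortExact.moduleCat_exact_iff_function_exact _).1 h2
  · exact (ModuleCat.epi_iff_surjective _).1 h3

end chain

section chainAll

open MonoidalCategory

variable {R : Type u} [CommRing R] (N' : ChainComplex (ModuleCat.{u} R) ℕ) {N : ModuleCat.{u} R}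
  (ε : N' ⟶ (ChainComplex.single₀ (ModuleCat.{u} R)).obj N)
  (hN' : ∀ T : ModuleCat.{u} R,
    QuasiIso (((tensorRight T).mapHomologicalComplex (ComplexShape.down ℕ)).map ε))

include hN'

theorem chain_exact_succ' (n : ℕ) :
    Function.Exact (N'.d (n + 2) (n + 1)).hom (N'.d (n + 1) n).hom :=
  exact_of_rTensor_self _ _ (chain_exact_succ N' ε (ModuleCat.of R R) (hN' _) n)

theorem chain_exact_zero' : Function.Exact (N'.d 1 0).hom (ε.f 0).hom :=
  exact_of_rTensor_self _ _ (chain_exact_zero N' ε (ModuleCat.of R R) (hN' _)).1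

theorem chain_surj_zero' : Function.Surjective (ε.f 0).hom :=
  surjective_of_rTensor_self _ (chain_exact_zero N' ε (ModuleCat.of R R) (hN' _)).2

theorem chain_univ_zero : CAlgX.UniversallyInjective R (LinearMap.ker (ε.f 0).hom).subtype :=
  univ_inj_ker (N'.d 2 1).hom (N'.d 1 0).hom (ε.f 0).hom (chain_exact_zero' N' ε hN')
    (fun T _ _ => chain_exact_succ N' ε (ModuleCat.of R T) (hN' _) 0)

theorem chain_univ_succ (n : ℕ) :
    CAlgX.UniversallyInjective R (LinearMap.ker (N'.d (n + 1) n).hom).subtype :=
  univ_inj_ker (N'.d (n + 3) (n + 2)).hom (N'.d (n + 2) (n + 1)).hom (N'.d (n + 1) n).hom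
    (chain_exact_succ' N' ε hN' n)
    (fun T _ _ => chain_exact_succ N' ε (ModuleCat.of R T) (hN' _) (n + 1))

end chainAll

section linear2

variable {R : Type u} [CommRing R]
  {A B C D : Type u} [AddCommGroup A] [Module R A] [AddCommGroup B] [Module R B]
  [AddCommGroup C] [Module R C] [AddCommGroup D] [Module R D]

theorem injective_of_rTensor_self (a : A →ₗ[R] B)
    (h : Function.Injective (a.rTensor R)) : Function.Injective a := by
  intro x y hxy
  have h1 : a.rTensor R (x ⊗ₜ (1 : R)) = a.rTensor R (y ⊗ₜ (1 : R)) := by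
    rw [LinearMap.rTensor_tmul, LinearMap.rTensor_tmul, hxy]
  have h2 := congrArg (TensorProduct.rid R A) (h h1)
  rwa [TensorProduct.rid_tmul, TensorProduct.rid_tmul, one_smul, one_smul] at h2

/-- ranges in a universally exact complex are universally injective -/
theorem univ_inj_range (c' : D →ₗ[R] C) (c : C →ₗ[R] A)
    (hc'c : ∀ (T : Type u) [AddCommGroup T] [Module R T],
      Function.Exact (c'.rTensor T) (c.rTensor T)) :
    CAlgX.UniversallyInjective R (LinearMap.range c).subtype := by
  intro T _ _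
  have h0 : c ∘ₗ c' = 0 := by
    have := exact_of_rTensor_self c' c (hc'c R)
    ext z
    exact this.apply_apply_eq_zero z
  let g : C →ₗ[R] LinearMap.range c := c.rangeRestrict
  have hg : Function.Surjective g := LinearMap.surjective_rangeRestrict c
  have hgc' : g ∘ₗ c' = 0 := by
    ext z
    exact LinearMap.congr_fun h0 z
  have hsub : (LinearMap.range c).subtype ∘ₗ g = c := rfl
  rw [injective_iff_map_eq_zero]
  intro x hx
  obtain ⟨y, rfl⟩ := LinearMap.rTensor_surjective T hg x
  rw [← LinearMap.comp_apply, ← LinearMap.rTensor_comp, hsub] at hx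
  obtain ⟨w, rfl⟩ := (hc'c T y).1 hx
  rw [← LinearMap.comp_apply, ← LinearMap.rTensor_comp, hgc', LinearMap.rTensor_zero,
    LinearMap.zero_apply]

/-- extension along an exact pair with universally injective range -/
theorem extend_along {X : Type u} [AddCommGroup X] [Module R X]
    (hX : ∀ ⦃K L : Type u⦄ [AddCommGroup K] [Module R K] [AddCommGroup L] [Module R L]
      (g : K →ₗ[R] L), CAlgX.UniversallyInjective R g →
      ∀ φ : K →ₗ[R] X, ∃ ψ : L →ₗ[R] X, ψ ∘ₗ g = φ)
    (c' : D →ₗ[R] C) (c : C →ₗ[R] A) (hc : Function.Exact c' c)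
    (hu : CAlgX.UniversallyInjective R (LinearMap.range c).subtype)
    (θ : C →ₗ[R] X) (hθ : θ ∘ₗ c' = 0) : ∃ ψ : A →ₗ[R] X, ψ ∘ₗ c = θ := by
  let g : C →ₗ[R] LinearMap.range c := c.rangeRestrict
  have hg : Function.Surjective g := LinearMap.surjective_rangeRestrict c
  have hker : LinearMap.ker g ≤ LinearMap.ker θ := by
    intro z hz
    have hz' : c z = 0 := congrArg Subtype.val hz
    obtain ⟨w, rfl⟩ := (hc z).1 hz'
    exact LinearMap.congr_fun hθ w
  let θ' : LinearMap.range c →ₗ[R] X :=
    ((LinearMap.ker g).liftQ θ hker) ∘ₗ (g.quotKerEquivOfSurjective hg).symm.toLinearMap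
  have hθ' : ∀ z, θ' (g z) = θ z := by
    intro z
    change ((LinearMap.ker g).liftQ θ hker) ((g.quotKerEquivOfSurjective hg).symm (g z)) = _
    have : (g.quotKerEquivOfSurjective hg).symm (g z) = Submodule.Quotient.mk z := by
      rw [LinearEquiv.symm_apply_eq]
      rfl
    rw [this]
    rfl
  obtain ⟨ψ, hψ⟩ := hX (LinearMap.range c).subtype hu θ'
  refine ⟨ψ, ?_⟩
  ext z
  have := LinearMap.congr_fun hψ (g z)
  rw [hθ'] at this
  exact this

end linear2

section cochain

open MonoidalCategory

variable {R : Type u} [CommRing R] (M' : CochainComplex (ModuleCat.{u} R) ℕ) {M : ModuleCat.{u} R}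
  (η : (CochainComplex.single₀ (ModuleCat.{u} R)).obj M ⟶ M') (T : ModuleCat.{u} R)
  (h : QuasiIso (((tensorRight T).mapHomologicalComplex (ComplexShape.up ℕ)).map η))

include h in
theorem cochain_exact_succ (n : ℕ) :
    Function.Exact ((M'.d n (n + 1)).hom.rTensor T) ((M'.d (n + 1) (n + 2)).hom.rTensor T) := by
  have h1 : QuasiIsoAt (((tensorRight T).mapHomologicalComplex (ComplexShape.up ℕ)).map η)
      (n + 1) := h.quasiIsoAt (n + 1)
  have hK : (((tensorRight T).mapHomologicalComplex (ComplexShape.up ℕ)).obj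
      ((CochainComplex.single₀ (ModuleCat.{u} R)).obj M)).ExactAt (n + 1) := by
    apply ShortComplex.exact_of_isZero_X₂
    exact (tensorRight T).map_isZero (HomologicalComplex.isZero_single_obj_X _ _ _ _ (by omega))
  rw [quasiIsoAt_iff_exactAt (hK := hK),
    HomologicalComplex.exactAt_iff' _ n (n + 1) (n + 2) (by simp) (by simp)] at h1
  exact (ShortComplex.ShortExact.moduleCat_exact_iff_function_exact _).1 h1

include h in
set_option backward.defeqAttrib.useBackward true in
set_option backward.isDefEq.respectTransparency false in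
theorem cochain_exact_zero :
    Function.Exact ((η.f 0).hom.rTensor T) ((M'.d 0 1).hom.rTensor T) ∧
      Function.Injective ((η.f 0).hom.rTensor T) := by
  have h1 : QuasiIsoAt (((tensorRight T).mapHomologicalComplex (ComplexShape.up ℕ)).map η) 0 :=
    h.quasiIsoAt 0
  rw [CochainComplex.quasiIsoAt₀_iff,
    ShortComplex.quasiIso_iff_of_zeros _ (by simp) (by simp) (by simp)] at h1
  obtain ⟨h2, h3⟩ := h1
  constructor
  · exact (ShortComplex.ShortExact.moduleCat_exact_iff_function_exact _).1 h2
  · exact (ModuleCat.mono_iff_injective _).1 h3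

end cochain

section cochainAll

open MonoidalCategory

variable {R : Type u} [CommRing R] (M' : CochainComplex (ModuleCat.{u} R) ℕ) {M : ModuleCat.{u} R}
  (η : (CochainComplex.single₀ (ModuleCat.{u} R)).obj M ⟶ M')
  (hM' : ∀ T : ModuleCat.{u} R,
    QuasiIso (((tensorRight T).mapHomologicalComplex (ComplexShape.up ℕ)).map η))

include hM'

theorem cochain_exact_succ' (n : ℕ) :
    Function.Exact (M'.d n (n + 1)).hom (M'.d (n + 1) (n + 2)).hom :=
  exact_of_rTensor_self _ _ (cochain_exact_succ M' η (ModuleCat.of R R) (hM' _) n)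

theorem cochain_exact_zero' : Function.Exact (η.f 0).hom (M'.d 0 1).hom :=
  exact_of_rTensor_self _ _ (cochain_exact_zero M' η (ModuleCat.of R R) (hM' _)).1

theorem cochain_univ_zero : CAlgX.UniversallyInjective R (η.f 0).hom :=
  fun T _ _ => (cochain_exact_zero M' η (ModuleCat.of R T) (hM' _)).2

theorem cochain_univ_range_zero :
    CAlgX.UniversallyInjective R (LinearMap.range (M'.d 0 1).hom).subtype :=
  univ_inj_range (η.f 0).hom (M'.d 0 1).hom
    (fun T _ _ => (cochain_exact_zero M' η (ModuleCat.of R T) (hM' _)).1)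

theorem cochain_univ_range_succ (n : ℕ) :
    CAlgX.UniversallyInjective R (LinearMap.range (M'.d (n + 1) (n + 2)).hom).subtype :=
  univ_inj_range (M'.d n (n + 1)).hom (M'.d (n + 1) (n + 2)).hom
    (fun T _ _ => cochain_exact_succ M' η (ModuleCat.of R T) (hM' _) n)

end cochainAll

end Groth.Agent.Lib.helper10.PureRes
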