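import Groth.Agent.Lib.Helper10.BiT3

/-!
# Plücker quadrics (helper10), part 1: alternating functions on tuples, the Plücker relations for
the minors of a matrix
-/

set_option autoImplicit false
set_option linter.unusedSectionVars false
set_option linter.style.haveILetI false

universe u

open MvPolynomial W4bk4grassmannian

namespace Groth.Agent.Lib.helper10.QPl

open Groth.Agent.Lib.helper10.SMT Groth.Agent.Lib.helper10.FFT Groth.Agent.Lib.helper10.DetV
open Groth.Agent.Lib.helper10.BiT

section Alt

variable {K : Type u} [CommRing K] {d n : ℕ}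

/-- Alternating functions on `d`-tuples of rows. -/
structure IsAlt (F : (Fin d → Fin n) → K) : Prop where
  zero_of_card : ∀ a : Fin d → Fin n, (Finset.univ.image a).card ≠ d → F a = 0
  perm : ∀ (a : Fin d → Fin n) (σ : Equiv.Perm (Fin d)),
    F (a ∘ σ) = ((Equiv.Perm.sign σ : ℤ) : K) * F a

theorem image_comp_perm (a : Fin d → Fin n) (σ : Equiv.Perm (Fin d)) :
    Finset.univ.image (a ∘ σ) = Finset.univ.image a := by
  ext x
  rw [Finset.mem_image, Finset.mem_image]
  constructor
  · rintro ⟨c, -, hc⟩
    exact ⟨σ c, Finset.mem_univ _, hc⟩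
  · rintro ⟨c, -, hc⟩
    refine ⟨σ.symm c, Finset.mem_univ _, ?_⟩
    rw [Function.comp_apply, Equiv.apply_symm_apply, hc]

/-- Two tuples with the same set of (distinct) entries differ by a permutation. -/
theorem exists_perm_of_image_eq (a a' : Fin d → Fin n) (hcard : (Finset.univ.image a).card = d)
    (himg : Finset.univ.image a' = Finset.univ.image a) :
    ∃ σ : Equiv.Perm (Fin d), a' = a ∘ σ := by
  have hinj' : Function.Injective a' := injective_of_card_image a' (by rw [himg, hcard])
  have hex : ∀ c, ∃ c', a c' = a' c := by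
    intro c
    have h1 : a' c ∈ Finset.univ.image a := by
      rw [← himg]
      exact Finset.mem_image_of_mem _ (Finset.mem_univ c)
    rw [Finset.mem_image] at h1
    obtain ⟨c', -, hc'⟩ := h1
    exact ⟨c', hc'⟩
  choose s hs using hex
  have hsinj : Function.Injective s := by
    intro c₁ c₂ h12
    apply hinj'
    rw [← hs c₁, ← hs c₂, h12]
  refine ⟨Equiv.ofBijective s (Finite.injective_iff_bijective.1 hsinj), ?_⟩
  funext c
  rw [Function.comp_apply]
  exact (hs c).symm

theorem intCast_sign_ne_zero [Nontrivial K] [NoZeroDivisors K] (σ : Equiv.Perm (Fin d)) :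
    ((Equiv.Perm.sign σ : ℤ) : K) ≠ 0 := by
  rcases Int.units_eq_one_or (Equiv.Perm.sign σ) with h | h
  · rw [h]
    simp
  · rw [h]
    simp

/-- Two alternating functions change by the same unit between two tuples with the same
entries. -/
theorem IsAlt.exists_unit [Nontrivial K] [NoZeroDivisors K] {F G : (Fin d → Fin n) → K}
    (hF : IsAlt F) (hG : IsAlt G)
    (a a' : Fin d → Fin n) (hcard : (Finset.univ.image a).card = d)
    (himg : Finset.univ.image a' = Finset.univ.image a) :
    ∃ u : K, u ≠ 0 ∧ F a' = u * F a ∧ G a' = u * G a := by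
  obtain ⟨σ, rfl⟩ := exists_perm_of_image_eq a a' hcard himg
  exact ⟨_, intCast_sign_ne_zero σ, hF.perm a σ, hG.perm a σ⟩

/-- The minors of a matrix form an alternating function. -/
theorem isAlt_minors (A : Matrix (Fin n) (Fin d) K) :
    IsAlt fun a : Fin d → Fin n => (A.submatrix a id).det := by
  constructor
  · intro a ha
    have hninj : ¬ Function.Injective a := by
      intro hinj
      apply ha
      rw [Finset.card_image_of_injective _ hinj, Finset.card_univ, Fintype.card_fin]
    rw [Function.Injective] at hninj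
    push Not at hninj
    obtain ⟨i, j, hij, hne⟩ := hninj
    apply Matrix.det_zero_of_row_eq hne
    funext c
    rw [Matrix.submatrix_apply, Matrix.submatrix_apply, hij]
  · intro a σ
    have h1 : A.submatrix (a ∘ σ) id = (A.submatrix a id).submatrix σ id := by
      refine Matrix.ext fun i j => ?_
      rfl
    show (A.submatrix (a ∘ σ) id).det = _
    rw [h1, Matrix.det_permute]

/-- The signed Plücker coordinates of a point form an alternating function. -/
theorem isAlt_coord (q : Idx d n → K) :
    IsAlt fun a : Fin d → Fin n => MvPolynomial.eval q (coord K d n a) := by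
  constructor
  · intro a ha
    show MvPolynomial.eval q (coord K d n a) = 0
    unfold coord
    rw [dif_neg ha, map_zero]
  · intro a σ
    show MvPolynomial.eval q (coord K d n (a ∘ σ)) = _ * MvPolynomial.eval q (coord K d n a)
    by_cases ha : (Finset.univ.image a).card = d
    · have ha' : (Finset.univ.image (a ∘ σ)).card = d := by rw [image_comp_perm, ha]
      have hinj := injective_of_card_image a ha
      have hinj' := injective_of_card_image (a ∘ σ) ha'
      have hsort : sortIdx d n (a ∘ σ) ha' = sortIdx d n a ha := by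
        apply idx_ext_of_image
        show Finset.univ.image (Finset.orderEmbOfFin _ ha') =
          Finset.univ.image (Finset.orderEmbOfFin _ ha)
        rw [Finset.image_orderEmbOfFin_univ, Finset.image_orderEmbOfFin_univ, image_comp_perm]
      obtain ⟨ρ, hρ⟩ := exists_perm_sort a ha
      have hs1 := sign_eq_neg_one_pow_invCount a hinj _ (sortIdx d n a ha).2 ρ hρ
      have hs2 := sign_eq_neg_one_pow_invCount (a ∘ σ) hinj' _ (sortIdx d n a ha).2 (ρ * σ)
        (fun p => by rw [Equiv.Perm.mul_apply, hρ]; rfl)
      unfold coord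
      rw [dif_pos ha, dif_pos ha', hsort, map_mul, map_mul, map_pow, map_pow, map_neg, map_one,
        ← mul_assoc]
      congr 1
      have h3 : ((-1 : ℤˣ) ^ invCount d n (a ∘ σ) : ℤˣ) =
          Equiv.Perm.sign σ * (-1 : ℤˣ) ^ invCount d n a := by
        rw [← hs2, ← hs1, map_mul, mul_comm]
      have h4 := congrArg (fun u : ℤˣ => ((u : ℤ) : K)) h3
      simp only [Units.val_mul, Units.val_pow_eq_pow_val, Units.val_neg, Units.val_one,
        Int.cast_mul, Int.cast_pow, Int.cast_neg, Int.cast_one] at h4
      exact h4
    · have ha' : (Finset.univ.image (a ∘ σ)).card ≠ d := by rw [image_comp_perm]; exact ha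
      unfold coord
      rw [dif_neg ha, dif_neg ha', map_zero, mul_zero]

end Alt

section PluckerRelation

variable {K : Type u} [CommRing K] {e n : ℕ}

/-- The cofactors along the last row of the minor on the rows `b, s`. -/
noncomputable def cof (A : Matrix (Fin n) (Fin (e + 1)) K) (b : Fin e → Fin n) (k : Fin (e + 1)) :
    K :=
  (-1) ^ (e + k.val) * ((A.submatrix b id).submatrix id k.succAbove).det

theorem det_snoc (A : Matrix (Fin n) (Fin (e + 1)) K) (b : Fin e → Fin n) (s : Fin n) :
    (A.submatrix (Fin.snoc b s) id).det = ∑ k, A s k * cof A b k := by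
  rw [Matrix.det_succ_row _ (Fin.last e)]
  apply Finset.sum_congr rfl
  intro k _
  rw [Matrix.submatrix_apply, Fin.snoc_last, id]
  unfold cof
  have h1 : (A.submatrix (Fin.snoc b s) id).submatrix (Fin.last e).succAbove k.succAbove =
      (A.submatrix b id).submatrix id k.succAbove := by
    refine Matrix.ext fun i j => ?_
    rw [Matrix.submatrix_apply, Matrix.submatrix_apply, Matrix.submatrix_apply,
      Matrix.submatrix_apply, Fin.succAbove_last, Fin.snoc_castSucc]
    rfl
  rw [h1, Fin.val_last]
  ring

/-- **The Plücker relations** for the maximal minors of a matrix, for arbitrary tuples of rows. -/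
theorem plucker_minors (A : Matrix (Fin n) (Fin (e + 1)) K) (b : Fin e → Fin n)
    (c : Fin (e + 2) → Fin n) :
    ∑ h : Fin (e + 2), (-1) ^ (h.val + 1) * (A.submatrix (Fin.snoc b (c h)) id).det *
      (A.submatrix (c ∘ h.succAbove) id).det = 0 := by
  obtain ⟨P, hP⟩ : ∃ P : Matrix (Fin (e + 1 + 1)) (Fin (e + 1)) K, P = A.submatrix c id :=
    ⟨_, rfl⟩
  obtain ⟨Q, hQ⟩ : ∃ Q : Matrix (Fin (e + 1)) (Fin (e + 1 + 1)) K,
      Q = Matrix.of fun (k : Fin (e + 1)) (j : Fin (e + 1 + 1)) =>
        (Fin.cons (cof A b k) (fun j' : Fin (e + 1) => if k = j' then (1 : K) else 0) :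
          Fin (e + 1 + 1) → K) j := ⟨_, rfl⟩
  have h0 := det_mul_eq_zero_of_lt P Q
  rw [Matrix.det_succ_column_zero] at h0
  have h1 : ∀ h : Fin (e + 1 + 1), (P * Q) h 0 = (A.submatrix (Fin.snoc b (c h)) id).det := by
    intro h
    rw [Matrix.mul_apply, det_snoc]
    apply Finset.sum_congr rfl
    intro k _
    rw [hP, hQ, Matrix.submatrix_apply, Matrix.of_apply, Fin.cons_zero]
    rfl
  have h2 : ∀ h : Fin (e + 1 + 1), (P * Q).submatrix h.succAbove Fin.succ =
      A.submatrix (c ∘ h.succAbove) id := by
    intro h
    refine Matrix.ext fun i j => ?_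
    rw [Matrix.submatrix_apply, Matrix.mul_apply, Finset.sum_eq_single j]
    · rw [hP, hQ, Matrix.of_apply, Fin.cons_succ, if_pos rfl, mul_one]
      rfl
    · intro k _ hk
      rw [hQ, Matrix.of_apply, Fin.cons_succ, if_neg hk, mul_zero]
    · intro h
      exact absurd (Finset.mem_univ _) h
  have h3 : ∑ h : Fin (e + 2), (-1) ^ (h.val + 1) * (A.submatrix (Fin.snoc b (c h)) id).det *
      (A.submatrix (c ∘ h.succAbove) id).det =
      - ∑ h : Fin (e + 1 + 1), (-1) ^ (h : ℕ) * (P * Q) h 0 *
        ((P * Q).submatrix h.succAbove Fin.succ).det := by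
    rw [← Finset.sum_neg_distrib]
    apply Finset.sum_congr rfl
    intro h _
    rw [h1, h2, pow_succ]
    ring
  rw [h3, h0, neg_zero]

end PluckerRelation

end Groth.Agent.Lib.helper10.QPl
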