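import Groth.Agent.Lib.Helper10.QPl1

/-!
# Plücker quadrics (helper10), part 2: an alternating function satisfying the quadrics is
determined by its values on the tuples differing from a fixed one in at most one entry
-/

set_option autoImplicit false
set_option linter.unusedSectionVars false
set_option linter.style.haveILetI false

universe u

open MvPolynomial W4bk4grassmannian

namespace Groth.Agent.Lib.helper10.QPl

open Groth.Agent.Lib.helper10.SMT Groth.Agent.Lib.helper10.FFT Groth.Agent.Lib.helper10.DetV
open Groth.Agent.Lib.helper10.BiT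

section Images

variable {n : ℕ}

theorem image_snoc {e : ℕ} (f : Fin e → Fin n) (y : Fin n) :
    Finset.univ.image (Fin.snoc f y : Fin (e + 1) → Fin n) = insert y (Finset.univ.image f) := by
  ext x
  rw [Finset.mem_image, Finset.mem_insert, Finset.mem_image]
  constructor
  · rintro ⟨i, -, hi⟩
    induction i using Fin.lastCases with
    | last =>
      rw [Fin.snoc_last] at hi
      exact Or.inl hi.symm
    | cast i =>
      rw [Fin.snoc_castSucc] at hi
      exact Or.inr ⟨i, Finset.mem_univ _, hi⟩
  · rintro (h | ⟨i, -, hi⟩)
    · exact ⟨Fin.last e, Finset.mem_univ _, by rw [Fin.snoc_last, h]⟩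
    · exact ⟨i.castSucc, Finset.mem_univ _, by rw [Fin.snoc_castSucc, hi]⟩

theorem image_cons {e : ℕ} (x : Fin n) (f : Fin e → Fin n) :
    Finset.univ.image (Fin.cons x f : Fin (e + 1) → Fin n) = insert x (Finset.univ.image f) := by
  ext z
  rw [Finset.mem_image, Finset.mem_insert, Finset.mem_image]
  constructor
  · rintro ⟨i, -, hi⟩
    induction i using Fin.cases with
    | zero =>
      rw [Fin.cons_zero] at hi
      exact Or.inl hi.symm
    | succ i =>
      rw [Fin.cons_succ] at hi
      exact Or.inr ⟨i, Finset.mem_univ _, hi⟩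
  · rintro (h | ⟨i, -, hi⟩)
    · exact ⟨0, Finset.mem_univ _, by rw [Fin.cons_zero, h]⟩
    · exact ⟨i.succ, Finset.mem_univ _, by rw [Fin.cons_succ, hi]⟩

theorem image_comp_succAbove {k : ℕ} (j : Fin (k + 1) → Fin n) (hj : Function.Injective j)
    (h : Fin (k + 1)) :
    Finset.univ.image (j ∘ h.succAbove) = (Finset.univ.image j).erase (j h) := by
  ext x
  rw [Finset.mem_image, Finset.mem_erase, Finset.mem_image]
  constructor
  · rintro ⟨i, -, hi⟩
    rw [Function.comp_apply] at hi
    refine ⟨?_, h.succAbove i, Finset.mem_univ _, hi⟩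
    rw [← hi]
    intro heq
    exact Fin.succAbove_ne h i (hj heq)
  · rintro ⟨hne, i', -, hi'⟩
    have hi'h : i' ≠ h := by
      intro heq
      apply hne
      rw [← hi', heq]
    obtain ⟨i, hi⟩ := Fin.exists_succAbove_eq hi'h
    exact ⟨i, Finset.mem_univ _, by rw [Function.comp_apply, hi, hi']⟩

theorem image_update {d : ℕ} (a : Fin d → Fin n) (ha : Function.Injective a) (l : Fin d)
    (z : Fin n) :
    Finset.univ.image (Function.update a l z) = insert z ((Finset.univ.image a).erase (a l)) := by
  ext x
  rw [Finset.mem_image, Finset.mem_insert, Finset.mem_erase, Finset.mem_image]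
  constructor
  · rintro ⟨i, -, hi⟩
    by_cases hil : i = l
    · rw [hil, Function.update_self] at hi
      exact Or.inl hi.symm
    · rw [Function.update_of_ne hil] at hi
      refine Or.inr ⟨?_, i, Finset.mem_univ _, hi⟩
      rw [← hi]
      intro heq
      exact hil (ha heq)
  · rintro (h | ⟨hne, i, -, hi⟩)
    · exact ⟨l, Finset.mem_univ _, by rw [Function.update_self, h]⟩
    · have hil : i ≠ l := by
        intro heq
        apply hne
        rw [← hi, heq]
      exact ⟨i, Finset.mem_univ _, by rw [Function.update_of_ne hil, hi]⟩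

theorem card_image_of_inj {d : ℕ} (a : Fin d → Fin n) (ha : Function.Injective a) :
    (Finset.univ.image a).card = d := by
  rw [Finset.card_image_of_injective _ ha, Finset.card_univ, Fintype.card_fin]

end Images

section Unique

variable {K : Type u} [Field K] {e n : ℕ}

/-- The value of the quadric attached to `b` and `c` for a function on tuples. -/
def Qd (F : (Fin (e + 1) → Fin n) → K) (b : Fin e → Fin n) (c : Fin (e + 2) → Fin n) : K :=
  ∑ h : Fin (e + 2), (-1) ^ (h.val + 1) * F (Fin.snoc b (c h)) * F (c ∘ h.succAbove)

/-- The number of entries of `a` outside the entries of `p`. -/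
def nout (p a : Fin (e + 1) → Fin n) : ℕ :=
  (Finset.univ.filter fun l => a l ∉ Finset.univ.image p).card

theorem nout_update_lt (p a : Fin (e + 1) → Fin n) (l : Fin (e + 1))
    (hl : a l ∉ Finset.univ.image p) (y : Fin n) (hy : y ∈ Finset.univ.image p) :
    nout p (Function.update a l y) < nout p a := by
  unfold nout
  apply Finset.card_lt_card
  rw [Finset.ssubset_iff_of_subset]
  · refine ⟨l, ?_, ?_⟩
    · rw [Finset.mem_filter]
      exact ⟨Finset.mem_univ _, hl⟩
    · rw [Finset.mem_filter, Function.update_self]
      exact fun h => h.2 hy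
  · intro l' hl'
    rw [Finset.mem_filter] at hl' ⊢
    refine ⟨Finset.mem_univ _, ?_⟩
    by_cases hll : l' = l
    · rw [hll, Function.update_self] at hl'
      exact absurd hy hl'.2
    · rw [Function.update_of_ne hll] at hl'
      exact hl'.2

/-- **Uniqueness.** Two alternating functions satisfying the Plücker quadrics which agree (and do
not vanish) at `p` and agree at the tuples differing from `p` in one entry are equal. -/
theorem eq_of_quadrics {F G : (Fin (e + 1) → Fin n) → K} (hF : IsAlt F) (hG : IsAlt G)
    (hFq : ∀ (i' : Idx e n) (j' : Idx (e + 2) n), Qd F i'.1 j'.1 = 0)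
    (hGq : ∀ (i' : Idx e n) (j' : Idx (e + 2) n), Qd G i'.1 j'.1 = 0)
    (p : Fin (e + 1) → Fin n) (hp : Function.Injective p) (hFp : F p ≠ 0) (hpeq : F p = G p)
    (hupd : ∀ k s, F (Function.update p k s) = G (Function.update p k s)) :
    ∀ a, F a = G a := by
  classical
  have hpcard := card_image_of_inj p hp
  suffices H : ∀ N, ∀ a, nout p a = N → F a = G a from fun a => H _ a rfl
  intro N
  induction N using Nat.strong_induction_on with
  | _ N ih =>
  intro a hN
  by_cases hcard : (Finset.univ.image a).card = e + 1
  swap
  · rw [hF.zero_of_card a hcard, hG.zero_of_card a hcard]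
  have hainj := injective_of_card_image a hcard
  by_cases hall : ∀ l, a l ∈ Finset.univ.image p
  · have himg : Finset.univ.image a = Finset.univ.image p := by
      apply Finset.eq_of_subset_of_card_le
      · intro x hx
        rw [Finset.mem_image] at hx
        obtain ⟨l, -, rfl⟩ := hx
        exact hall l
      · rw [hpcard, hcard]
    obtain ⟨u, -, h1, h2⟩ := hF.exists_unit hG p a hpcard himg
    rw [h1, h2, hpeq]
  · push Not at hall
    obtain ⟨l, hl⟩ := hall
    obtain ⟨x, hx⟩ : ∃ x, x = a l := ⟨_, rfl⟩
    rw [← hx] at hl
    have hxa : x ∈ Finset.univ.image a := by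
      rw [hx]; exact Finset.mem_image_of_mem _ (Finset.mem_univ l)
    obtain ⟨b, hb⟩ : ∃ b : Fin e → Fin n, b = a ∘ l.succAbove := ⟨_, rfl⟩
    obtain ⟨c, hc⟩ : ∃ c : Fin (e + 2) → Fin n, c = Fin.cons x p := ⟨_, rfl⟩
    have hbinj : Function.Injective b := by
      rw [hb]
      exact hainj.comp Fin.succAbove_right_injective
    have hbimg : Finset.univ.image b = (Finset.univ.image a).erase x := by
      rw [hb, hx]
      exact image_comp_succAbove a hainj l
    have hcimg : Finset.univ.image c = insert x (Finset.univ.image p) := by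
      rw [hc]
      exact image_cons x p
    have hbcard := card_image_of_inj b hbinj
    have hccard : (Finset.univ.image c).card = e + 2 := by
      rw [hcimg, Finset.card_insert_of_notMem hl, hpcard]
    obtain ⟨i', hi'⟩ : ∃ i', i' = sortIdx e n b hbcard := ⟨_, rfl⟩
    obtain ⟨j', hj'⟩ : ∃ j', j' = sortIdx (e + 2) n c hccard := ⟨_, rfl⟩
    have hi'img : Finset.univ.image i'.1 = (Finset.univ.image a).erase x := by
      rw [← hbimg, hi']
      exact Finset.image_orderEmbOfFin_univ _ _
    have hj'img : Finset.univ.image j'.1 = insert x (Finset.univ.image p) := by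
      rw [← hcimg, hj']
      exact Finset.image_orderEmbOfFin_univ _ _
    have hi'card : (Finset.univ.image i'.1).card = e := card_image_of_inj _ i'.2.injective
    -- the terms with `j' h ≠ x`
    have key : ∀ h : Fin (e + 2), j'.1 h ≠ x →
        F (Fin.snoc i'.1 (j'.1 h)) * F (j'.1 ∘ h.succAbove) =
          G (Fin.snoc i'.1 (j'.1 h)) * G (j'.1 ∘ h.succAbove) := by
      intro h hne
      obtain ⟨y, hy⟩ : ∃ y, y = j'.1 h := ⟨_, rfl⟩
      rw [← hy] at hne ⊢
      have hyp : y ∈ Finset.univ.image p := by
        have h1 : y ∈ Finset.univ.image j'.1 := by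
          rw [hy]; exact Finset.mem_image_of_mem _ (Finset.mem_univ h)
        rw [hj'img, Finset.mem_insert] at h1
        rcases h1 with h1 | h1
        · exact absurd h1 hne
        · exact h1
      obtain ⟨k, -, hk⟩ := Finset.mem_image.1 hyp
      have hT1 : Finset.univ.image (Fin.snoc i'.1 y : Fin (e + 1) → Fin n) =
          insert y ((Finset.univ.image a).erase x) := by
        rw [image_snoc, hi'img]
      have hT2 : Finset.univ.image (j'.1 ∘ h.succAbove) =
          insert x ((Finset.univ.image p).erase y) := by
        rw [image_comp_succAbove j'.1 j'.2.injective h, hj'img, ← hy,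
          Finset.erase_insert_of_ne (Ne.symm hne)]
      -- second factors agree
      have h2 : F (j'.1 ∘ h.succAbove) = G (j'.1 ∘ h.succAbove) := by
        have hp'' : Finset.univ.image (Function.update p k x) =
            insert x ((Finset.univ.image p).erase y) := by
          rw [image_update p hp k x, hk]
        have hp''card : (Finset.univ.image (Function.update p k x)).card = e + 1 := by
          rw [hp'', Finset.card_insert_of_notMem (fun hmem => hl (Finset.mem_of_mem_erase hmem)),
            Finset.card_erase_of_mem hyp, hpcard]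
          omega
        obtain ⟨u, -, h3, h4⟩ := hF.exists_unit hG (Function.update p k x) (j'.1 ∘ h.succAbove)
          hp''card (by rw [hT2, hp''])
        rw [h3, h4, hupd]
      rw [h2]
      congr 1
      by_cases hyb : y ∈ (Finset.univ.image a).erase x
      · have hcardT1 : (Finset.univ.image (Fin.snoc i'.1 y : Fin (e + 1) → Fin n)).card ≠ e + 1 := by
          rw [hT1, Finset.insert_eq_of_mem hyb, ← hi'img, hi'card]
          omega
        rw [hF.zero_of_card _ hcardT1, hG.zero_of_card _ hcardT1]
      · have ha'' : Finset.univ.image (Function.update a l y) =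
            insert y ((Finset.univ.image a).erase x) := by
          rw [image_update a hainj l y, ← hx]
        have ha''card : (Finset.univ.image (Function.update a l y)).card = e + 1 := by
          rw [ha'', Finset.card_insert_of_notMem hyb, Finset.card_erase_of_mem hxa, hcard]
          omega
        obtain ⟨u, -, h3, h4⟩ := hF.exists_unit hG (Function.update a l y)
          (Fin.snoc i'.1 y : Fin (e + 1) → Fin n) ha''card (by rw [hT1, ha''])
        rw [h3, h4]
        congr 1
        apply ih (nout p (Function.update a l y)) _ _ rfl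
        rw [← hN]
        exact nout_update_lt p a l (by rw [← hx]; exact hl) y hyp
    -- the term with `j' h = x`
    have key0 : ∀ h : Fin (e + 2), j'.1 h = x → ∃ u : K, u ≠ 0 ∧
        F (Fin.snoc i'.1 (j'.1 h)) * F (j'.1 ∘ h.succAbove) = u * (F a * F p) ∧
        G (Fin.snoc i'.1 (j'.1 h)) * G (j'.1 ∘ h.succAbove) = u * (G a * G p) := by
      intro h hh
      rw [hh]
      have hT1 : Finset.univ.image (Fin.snoc i'.1 x : Fin (e + 1) → Fin n) =
          Finset.univ.image a := by
        rw [image_snoc, hi'img, Finset.insert_erase hxa]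
      have hT2 : Finset.univ.image (j'.1 ∘ h.succAbove) = Finset.univ.image p := by
        rw [image_comp_succAbove j'.1 j'.2.injective h, hj'img, hh, Finset.erase_insert hl]
      obtain ⟨u, hu, h3, h4⟩ := hF.exists_unit hG a (Fin.snoc i'.1 x : Fin (e + 1) → Fin n)
        hcard hT1
      obtain ⟨u', hu', h5, h6⟩ := hF.exists_unit hG p (j'.1 ∘ h.succAbove) hpcard hT2
      refine ⟨u * u', mul_ne_zero hu hu', ?_, ?_⟩
      · rw [h3, h5]; ring
      · rw [h4, h6]; ring
    obtain ⟨h₀, hh₀⟩ : ∃ h₀, j'.1 h₀ = x := by
      have h1 : x ∈ Finset.univ.image j'.1 := by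
        rw [hj'img]; exact Finset.mem_insert_self _ _
      obtain ⟨h₀, -, hh₀⟩ := Finset.mem_image.1 h1
      exact ⟨h₀, hh₀⟩
    obtain ⟨u, hu, h3, h4⟩ := key0 h₀ hh₀
    have hdiff : Qd F i'.1 j'.1 - Qd G i'.1 j'.1 =
        (-1) ^ (h₀.val + 1) * (u * (F a * F p - G a * G p)) := by
      unfold Qd
      rw [← Finset.sum_sub_distrib, Finset.sum_eq_single h₀]
      · rw [mul_assoc, mul_assoc, h3, h4]
        ring
      · intro h _ hne
        have hne' : j'.1 h ≠ x := by
          intro heq
          apply hne
          apply j'.2.injective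
          rw [heq, hh₀]
        rw [mul_assoc, mul_assoc, key h hne', sub_self]
      · intro h
        exact absurd (Finset.mem_univ _) h
    rw [hFq, hGq, sub_self] at hdiff
    have h5 : F a * F p - G a * G p = 0 := by
      rcases mul_eq_zero.1 hdiff.symm with h6 | h6
      · exact absurd h6 (pow_ne_zero _ (neg_ne_zero.2 one_ne_zero))
      · rcases mul_eq_zero.1 h6 with h7 | h7
        · exact absurd h7 hu
        · exact h7
    rw [← hpeq, ← sub_mul] at h5
    rcases mul_eq_zero.1 h5 with h6 | h6
    · exact sub_eq_zero.1 h6
    · exact absurd h6 hFp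

end Unique

end Groth.Agent.Lib.helper10.QPl
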