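import Mathlib
import Groth.Prelude.Def_W4c4chowquasisplitNorm

/-!
# The Chow group of zero-cycles of the spectrum of a field, and the norm subgroup of the point

`CH_0(Spec k) ≅ ℤ` via `deg`; push-forward from `Spec F` multiplies by `[F : k]`
(`map_apply_pt`, `residueDegree_eq`); `map_deg_ptNormSubgroup` identifies the image of
`QsChow.ptNormSubgroup k K` with the subgroup of `ℤ` generated by the degrees of the finite
non-trivial subextensions; `main1`, `main2` are S17743 / S17744.
-/

set_option autoImplicit false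
set_option linter.style.haveILetI false
set_option linter.unusedSectionVars false

universe u

namespace Groth.Agent.Lib.helper10.QsPt

open CategoryTheory AlgebraicGeometry

section Pt
variable (k : Type u) [Field k]

noncomputable instance instUniquePt : Unique (Spec (CommRingCat.of k)) :=
  inferInstanceAs (Unique (PrimeSpectrum k))

/-- the comparison `k → κ(x)` for the point of `Spec k`. -/
noncomputable def toRes (x : Spec (CommRingCat.of k)) :
    k →+* (Spec (CommRingCat.of k)).residueField x :=
  ((Scheme.ΓSpecIso (CommRingCat.of k)).inv ≫ (Spec (CommRingCat.of k)).Γevaluation x).hom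

lemma toRes_bijective (x : Spec (CommRingCat.of k)) : Function.Bijective (toRes k x) := by
  refine ⟨RingHom.injective _, ?_⟩
  have h := Scheme.Spec.algebraMap_residueFieldIso_inv (CommRingCat.of k) x
  have h2 : toRes k x = ((Scheme.Spec.residueFieldIso (CommRingCat.of k) x).inv).hom.comp
      (algebraMap k x.asIdeal.ResidueField) := by
    have := congrArg (fun f => f.hom) h
    simp only [CommRingCat.hom_comp, CommRingCat.hom_ofHom] at this
    rw [this]
    rfl
  rw [h2]
  haveI : x.asIdeal.IsMaximal := by
    have : x.asIdeal = ⊥ := by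
      have := x.2
      exact (Ideal.eq_bot_or_top x.asIdeal).resolve_right x.2.ne_top
    rw [this]; exact Ideal.bot_isMaximal
  intro y
  obtain ⟨z, hz⟩ := Ideal.algebraMap_residueField_surjective x.asIdeal
    ((Scheme.Spec.residueFieldIso (CommRingCat.of k) x).hom.hom y)
  refine ⟨z, ?_⟩
  simp only [RingHom.comp_apply, hz]
  exact (Scheme.Spec.residueFieldIso (CommRingCat.of k) x).commRingCatIsoToRingEquiv.symm_apply_apply y

noncomputable def resEquiv (x : Spec (CommRingCat.of k)) :
    k ≃+* (Spec (CommRingCat.of k)).residueField x :=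
  RingEquiv.ofBijective (toRes k x) (toRes_bijective k x)

end Pt

section Deg
variable (k : Type u) [Field k] (F : Type u) [Field F] [Algebra k F]

lemma residueDegree_eq (x : Spec (CommRingCat.of F)) :
    (Spec.map (CommRingCat.ofHom (algebraMap k F))).residueDegree x = Module.finrank k F := by
  set f := Spec.map (CommRingCat.ofHom (algebraMap k F)) with hf
  unfold Scheme.Hom.residueDegree
  letI := (f.residueFieldMap x).hom.toAlgebra
  symm
  refine Algebra.finrank_eq_of_equiv_equiv (resEquiv k (f x)) (resEquiv F x) ?_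
  ext a
  simp only [RingHom.comp_apply]
  change (f.residueFieldMap x).hom (toRes k (f x) a) = toRes F x (algebraMap k F a)
  unfold toRes
  have h1 := Scheme.Γevaluation_naturality f x
  have h2 := Scheme.ΓSpecIso_naturality (CommRingCat.ofHom (algebraMap k F))
  have h3 : (Scheme.ΓSpecIso (CommRingCat.of k)).inv ≫ (Spec (CommRingCat.of k)).Γevaluation (f x)
      ≫ f.residueFieldMap x = CommRingCat.ofHom (algebraMap k F) ≫
        (Scheme.ΓSpecIso (CommRingCat.of F)).inv ≫ (Spec (CommRingCat.of F)).Γevaluation x := by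
    rw [h1, ← Category.assoc, ← Category.assoc]
    congr 1
    rw [Iso.inv_comp_eq, ← Category.assoc, ← h2, Category.assoc, Iso.hom_inv_id, Category.comp_id]
  have := congrArg (fun g => g.hom a) h3
  simp only [CommRingCat.hom_comp, RingHom.comp_apply, CommRingCat.hom_ofHom] at this
  exact this

end Deg

section Chow
variable (k : Type u) [Field k]

local notation "P" => Spec (CommRingCat.of k)

lemma ratEquivZero_pt (α : AlgebraicCycle P ℤ)
    (h : Cyc.RatEquivZero (X := P) (fun _ => (0 : ℤ)) 0 α) : α = 0 := by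
  obtain ⟨ι, ξ, f, h1, -, -, h4⟩ := h
  have hι : IsEmpty ι := ⟨fun i => by have := h1 i; simp at this⟩
  ext x
  rw [h4 x, finsum_of_isEmpty]
  rfl

lemma ratTriv_pt : ChowOps.ratTriv P (fun _ => (0 : ℤ)) 0 = ⊥ := by
  unfold ChowOps.ratTriv
  rw [AddSubgroup.closure_eq_bot_iff]
  intro a ha
  have := ratEquivZero_pt k _ ha
  simp only [Set.mem_singleton_iff]
  exact Subtype.ext this

/-- evaluation at the point. -/
noncomputable def evalHom : ↥(ChowOps.zk P (fun _ => (0 : ℤ)) 0) →+ ℤ where
  toFun a := (a : AlgebraicCycle P ℤ) default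
  map_zero' := rfl
  map_add' _ _ := rfl

noncomputable def deg : ChowOps.CH P (fun _ => (0 : ℤ)) 0 →+ ℤ :=
  QuotientAddGroup.lift _ (evalHom k) (by
    rw [ratTriv_pt]; exact bot_le)

lemma deg_cl (α : AlgebraicCycle P ℤ) (h : α ∈ Cyc.Zk P (fun _ => (0 : ℤ)) 0) :
    deg k (ChowOps.cl α h) = α default := rfl

lemma mem_Zk_pt (α : AlgebraicCycle P ℤ) : α ∈ Cyc.Zk P (fun _ => (0 : ℤ)) 0 :=
  fun _ hx => absurd rfl hx

lemma deg_injective : Function.Injective (deg k) := by
  rw [injective_iff_map_eq_zero]
  intro c hc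
  obtain ⟨a, rfl⟩ := QuotientAddGroup.mk_surjective c
  have h0 : (a : AlgebraicCycle P ℤ) default = 0 := hc
  have : a = 0 := by
    apply Subtype.ext
    ext x
    rw [Subsingleton.elim x default, h0]
    rfl
  rw [this]; rfl

lemma deg_surjective : Function.Surjective (deg k) := by
  classical
  intro n
  refine ⟨ChowOps.cl (Function.locallyFinsuppWithin.single default n) (mem_Zk_pt k _), ?_⟩
  rw [deg_cl]
  simp

end Chow

section Push
variable (k : Type u) [Field k] (F : Type u) [Field F] [Algebra k F]

lemma map_apply_pt (α : AlgebraicCycle (Spec (CommRingCat.of F)) ℤ)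
    (y : Spec (CommRingCat.of k)) :
    (AlgebraicCycle.map (Spec.map (CommRingCat.ofHom (algebraMap k F)))
      (fun _ => (0 : ℤ)) (fun _ => (0 : ℤ)) α) y = α default * (Module.finrank k F : ℤ) := by
  unfold AlgebraicCycle.map
  rw [Function.locallyFinsupp.map_apply]
  have hs : ((Spec.map (CommRingCat.ofHom (algebraMap k F))) ⁻¹' {y} :
      Set (Spec (CommRingCat.of F))) = Set.univ := by
    apply Set.eq_univ_of_forall
    intro x
    exact Subsingleton.elim _ _
  rw [hs, finsum_mem_univ, finsum_unique]
  congr 1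
  unfold AlgebraicCycle.mapCoeff
  rw [if_pos rfl, residueDegree_eq]

end Push

section Norm
variable (k : Type u) [Field k] (K : Type u) [Field K] [Algebra k K]

/-- the set of degrees of finite nontrivial subextensions. -/
def degs : Set ℤ :=
  {d | ∃ (F : IntermediateField k K), FiniteDimensional k F ∧ F ≠ ⊥ ∧ d = (Module.finrank k F : ℤ)}

lemma map_deg_ptNormSubgroup :
    (QsChow.ptNormSubgroup k K).map (deg k) = AddSubgroup.closure (degs k K) := by
  classical
  apply le_antisymm
  · rw [AddSubgroup.map_le_iff_le_comap]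
    unfold QsChow.ptNormSubgroup
    rw [AddSubgroup.closure_le]
    rintro c ⟨F, hF, hne, α, h, rfl⟩
    simp only [AddSubgroup.coe_comap, Set.mem_preimage, SetLike.mem_coe]
    rw [deg_cl, map_apply_pt]
    have : (Module.finrank k F : ℤ) ∈ AddSubgroup.closure (degs k K) :=
      AddSubgroup.subset_closure ⟨F, hF, hne, rfl⟩
    have := AddSubgroup.zsmul_mem _ this (α default)
    rwa [smul_eq_mul] at this
  · rw [AddSubgroup.closure_le]
    rintro d ⟨F, hF, hne, rfl⟩
    simp only [AddSubgroup.coe_map, Set.mem_image, SetLike.mem_coe]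
    have h : AlgebraicCycle.map (Spec.map (CommRingCat.ofHom (algebraMap k F)))
          (fun _ => (0 : ℤ)) (fun _ => (0 : ℤ))
          (Function.locallyFinsuppWithin.single default 1) ∈
          Cyc.Zk (Spec (CommRingCat.of k)) (fun _ => 0) 0 := mem_Zk_pt k _
    refine ⟨ChowOps.cl _ h, ?_, ?_⟩
    · unfold QsChow.ptNormSubgroup
      exact AddSubgroup.subset_closure ⟨F, hF, hne, _, h, rfl⟩
    · rw [deg_cl, map_apply_pt]
      simp

lemma ptNormSubgroup_eq_top (h : AddSubgroup.closure (degs k K) = ⊤) :
    QsChow.ptNormSubgroup k K = ⊤ := by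
  have := map_deg_ptNormSubgroup k K
  rw [h] at this
  rw [← AddSubgroup.comap_map_eq_self_of_injective (deg_injective k) (QsChow.ptNormSubgroup k K),
    this]
  rfl

lemma ptNormSubgroup_index :
    (QsChow.ptNormSubgroup k K).index = (AddSubgroup.closure (degs k K)).index := by
  rw [← map_deg_ptNormSubgroup]
  exact (AddSubgroup.index_map_of_bijective ⟨deg_injective k, deg_surjective k⟩ _).symm

end Norm

section Gal
variable (k : Type u) [Field k] (K : Type u) [Field K] [Algebra k K]
  (L : IntermediateField k K) [FiniteDimensional k L] [IsGalois k L]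

lemma exists_field_of_subgroup (H : Subgroup (L ≃ₐ[k] L)) :
    ∃ F : IntermediateField k K, FiniteDimensional k F ∧
      Module.finrank k F * Nat.card H = Module.finrank k L := by
  let E : IntermediateField k L := IntermediateField.fixedField H
  let e : E ≃ₐ[k] (IntermediateField.lift E : IntermediateField k K) :=
    IntermediateField.equivMap E L.val
  have hfin : FiniteDimensional k (IntermediateField.lift E : IntermediateField k K) :=
    Module.Finite.equiv e.toLinearEquiv
  refine ⟨IntermediateField.lift E, hfin, ?_⟩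
  rw [← e.toLinearEquiv.finrank_eq, ← IntermediateField.finrank_fixedField_eq_card H]
  exact Module.finrank_mul_finrank k E L

lemma finrank_mem_degs (F : IntermediateField k K) (hF : FiniteDimensional k F)
    (h1 : Module.finrank k F ≠ 1) : (Module.finrank k F : ℤ) ∈ degs k K := by
  refine ⟨F, hF, ?_, rfl⟩
  intro hb
  exact h1 (IntermediateField.finrank_eq_one_iff.mpr hb)

end Gal

section Main
variable (k : Type u) [Field k] (K : Type u) [Field K] [Algebra k K]
  (L : IntermediateField k K) [FiniteDimensional k L] [IsGalois k L]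

theorem main1 (hL : ∀ p n : ℕ, p.Prime → Module.finrank k L ≠ p ^ n) :
    QsChow.ptNormSubgroup k K = ⊤ := by
  apply ptNormSubgroup_eq_top
  set N := Module.finrank k L with hN
  have hN0 : N ≠ 0 := Module.finrank_pos.ne'
  have hN1 : N ≠ 1 := by
    have := hL 2 0 Nat.prime_two
    simpa using this
  have hcard : Nat.card (L ≃ₐ[k] L) = N := IsGalois.card_aut_eq_finrank k L
  -- for each prime q ∣ N, ordCompl[q] N ∈ degs
  have key : ∀ q : ℕ, q.Prime → q ∣ N → ((N / q ^ N.factorization q : ℕ) : ℤ) ∈ degs k K := by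
    intro q hq _
    haveI : Fact q.Prime := ⟨hq⟩
    obtain ⟨H, hH⟩ := Sylow.exists_subgroup_card_pow_prime (G := L ≃ₐ[k] L) q
      (n := N.factorization q) (by rw [hcard]; exact Nat.ordProj_dvd N q)
    obtain ⟨F, hF, hmul⟩ := exists_field_of_subgroup k K L H
    rw [hH] at hmul
    have hdeg : Module.finrank k F = N / q ^ N.factorization q := by
      rw [← hN] at hmul
      exact (Nat.div_eq_of_eq_mul_left (pow_pos hq.pos _) hmul.symm).symm
    rw [← hdeg]
    apply finrank_mem_degs k K F hF
    intro h1
    rw [h1, one_mul] at hmul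
    exact hL q _ hq hmul.symm
  obtain ⟨a, ha⟩ := Int.subgroup_cyclic (AddSubgroup.closure (degs k K))
  rw [← AddSubgroup.zmultiples_eq_closure] at ha
  have hdvd : ∀ q : ℕ, q.Prime → q ∣ N → a ∣ ((N / q ^ N.factorization q : ℕ) : ℤ) := by
    intro q hq hqN
    have := AddSubgroup.subset_closure (key q hq hqN)
    rw [ha, SetLike.mem_coe, AddSubgroup.mem_zmultiples_iff] at this
    obtain ⟨c, hc⟩ := this
    exact ⟨c, by rw [← hc, smul_eq_mul, mul_comm]⟩
  have ha1 : a.natAbs = 1 := by
    by_contra hne
    obtain ⟨r, hr, hra⟩ := Nat.exists_prime_and_dvd hne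
    obtain ⟨q, hq, hqN⟩ := Nat.exists_prime_and_dvd hN1
    have h1 : (r : ℤ) ∣ a := by
      rw [← Int.natAbs_dvd_natAbs, Int.natAbs_natCast]; exact hra
    have hrN : r ∣ N := by
      have h2 := (h1.trans (hdvd q hq hqN))
      rw [Int.natCast_dvd_natCast] at h2
      exact h2.trans (Nat.div_dvd_of_dvd (Nat.ordProj_dvd N q))
    have h3 := h1.trans (hdvd r hr hrN)
    rw [Int.natCast_dvd_natCast] at h3
    exact Nat.not_dvd_ordCompl hr hN0 h3
  rw [ha]
  rw [← Int.zmultiples_natAbs, ha1]
  ext x
  simp only [Nat.cast_one, AddSubgroup.mem_top, iff_true]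
  rw [AddSubgroup.mem_zmultiples_iff]
  exact ⟨x, by simp⟩

theorem main2 (p n : ℕ) (hp : p.Prime) (hn : 1 ≤ n) (hL : Module.finrank k L = p ^ n)
    (hF : ∀ F : IntermediateField k K, FiniteDimensional k F → ∃ e : ℕ, Module.finrank k F = p ^ e) :
    (QsChow.ptNormSubgroup k K).index = p := by
  rw [ptNormSubgroup_index]
  haveI : Fact p.Prime := ⟨hp⟩
  have hcard : Nat.card (L ≃ₐ[k] L) = p ^ n := by
    rw [IsGalois.card_aut_eq_finrank k L, hL]
  have hS : AddSubgroup.closure (degs k K) = AddSubgroup.zmultiples (p : ℤ) := by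
    apply le_antisymm
    · rw [AddSubgroup.closure_le]
      rintro d ⟨F, hFfin, hne, rfl⟩
      obtain ⟨e, he⟩ := hF F hFfin
      have he0 : e ≠ 0 := by
        rintro rfl
        rw [pow_zero] at he
        exact hne (IntermediateField.finrank_eq_one_iff.mp he)
      simp only [SetLike.mem_coe]
      rw [AddSubgroup.mem_zmultiples_iff]
      obtain ⟨e', rfl⟩ := Nat.exists_eq_succ_of_ne_zero he0
      refine ⟨(p : ℤ) ^ e', ?_⟩
      rw [he, smul_eq_mul]
      push_cast
      rw [Nat.succ_eq_add_one, pow_succ, mul_comm]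
    · rw [AddSubgroup.zmultiples_le]
      obtain ⟨H, hH⟩ := Sylow.exists_subgroup_card_pow_prime (G := L ≃ₐ[k] L) p
        (n := n - 1) (by rw [hcard]; exact pow_dvd_pow p (Nat.sub_le n 1))
      obtain ⟨F, hFfin, hmul⟩ := exists_field_of_subgroup k K L H
      rw [hH, hL] at hmul
      have hdeg : Module.finrank k F = p := by
        have h2 : p ^ n = p * p ^ (n - 1) := by
          rw [← pow_succ']; congr 1; omega
        rw [h2] at hmul
        exact Nat.eq_of_mul_eq_mul_right (pow_pos hp.pos _) hmul
      apply AddSubgroup.subset_closure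
      rw [← hdeg]
      apply finrank_mem_degs k K F hFfin
      rw [hdeg]; exact hp.one_lt.ne'
  rw [hS, Int.index_zmultiples]
  simp

end Main

end Groth.Agent.Lib.helper10.QsPt
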