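import Mathlib
import Groth.Prelude.Def_W4c6instabfans3FanCvx
import Groth.Agent.Lib.Helper19.Fan
import Groth.Agent.Lib.Helper10.RatCone
import Groth.Agent.Lib.Helper10.FanSpan

/-!
# Real extensions of integer linear maps, weak pullbacks (helper10)

Generic layer for the fan `R(K)`: the real extension of a `ℤ`-linear map `ℤ^n → ℤ^N`, its
injectivity, and weak pullbacks of two injective maps with respect to nonnegative real points.
-/

set_option autoImplicit false

open CategoryTheory Opposite Instab Matrix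

namespace Groth.Agent.Lib.Helper10.RFanLin

open Groth.Agent.Lib.helper19 Groth.Agent.Lib.Helper10.RatCone Groth.Agent.Lib.Helper10.FanSpan

variable {n N : ℕ}

/-- matrix of an integer linear map -/
def matL (A : (Fin n → ℤ) →ₗ[ℤ] (Fin N → ℤ)) : Matrix (Fin N) (Fin n) ℤ :=
  Matrix.of fun j i => A (Pi.single i 1) j

lemma lin_eq_sum (A : (Fin n → ℤ) →ₗ[ℤ] (Fin N → ℤ)) (x : Fin n → ℤ) (j : Fin N) :
    A x j = ∑ i, A (Pi.single i 1) j * x i := by
  have hx : x = ∑ i, x i • (Pi.single i (1 : ℤ) : Fin n → ℤ) := by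
    funext l
    simp [Finset.sum_apply, Pi.single_apply]
  conv_lhs => rw [hx]
  rw [map_sum, Finset.sum_apply]
  refine Finset.sum_congr rfl fun i _ => ?_
  rw [map_smul, Pi.smul_apply, smul_eq_mul, mul_comm]

lemma matL_mulVec (A : (Fin n → ℤ) →ₗ[ℤ] (Fin N → ℤ)) (x : Fin n → ℤ) : matL A *ᵥ x = A x := by
  funext j
  rw [lin_eq_sum]
  rfl

/-- real extension of an integer linear map -/
def ext (A : (Fin n → ℤ) →ₗ[ℤ] (Fin N → ℤ)) (v : Fin n → ℝ) : Fin N → ℝ :=
  fun j => ∑ i, (A (Pi.single i 1) j : ℝ) * v i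

lemma toReal_matL_mulVec (A : (Fin n → ℤ) →ₗ[ℤ] (Fin N → ℤ)) (v : Fin n → ℝ) :
    toReal (matL A) *ᵥ v = ext A v := by
  funext j
  rfl

/-- the real linear map extending an integer linear map -/
noncomputable def extLin (A : (Fin n → ℤ) →ₗ[ℤ] (Fin N → ℤ)) : (Fin n → ℝ) →ₗ[ℝ] (Fin N → ℝ) :=
  Matrix.mulVecLin (toReal (matL A))

lemma extLin_apply (A : (Fin n → ℤ) →ₗ[ℤ] (Fin N → ℤ)) (v : Fin n → ℝ) :
    extLin A v = ext A v := toReal_matL_mulVec A v

lemma ext_smul (A : (Fin n → ℤ) →ₗ[ℤ] (Fin N → ℤ)) (c : ℝ) (v : Fin n → ℝ) :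
    ext A (c • v) = c • ext A v := by
  rw [← extLin_apply, ← extLin_apply, map_smul]

lemma ext_add (A : (Fin n → ℤ) →ₗ[ℤ] (Fin N → ℤ)) (v w : Fin n → ℝ) :
    ext A (v + w) = ext A v + ext A w := by
  rw [← extLin_apply, ← extLin_apply, ← extLin_apply, map_add]

lemma ext_zero (A : (Fin n → ℤ) →ₗ[ℤ] (Fin N → ℤ)) : ext A 0 = 0 := by
  rw [← extLin_apply, map_zero]

lemma ext_cast (A : (Fin n → ℤ) →ₗ[ℤ] (Fin N → ℤ)) (w : Fin n → ℤ) :
    ext A (fun i => (w i : ℝ)) = fun j => (A w j : ℝ) := by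
  rw [← toReal_matL_mulVec, toReal_mulVec_cast, matL_mulVec]

lemma extLin_ker (A : (Fin n → ℤ) →ₗ[ℤ] (Fin N → ℤ)) (hA : Function.Injective A) :
    LinearMap.ker (extLin A) = ⊥ := by
  rw [LinearMap.ker_eq_bot']
  intro v hv
  by_contra hne
  rw [extLin_apply, ← toReal_matL_mulVec] at hv
  obtain ⟨w, hw, hMw⟩ := exists_int_ker (matL A) v hne hv
  rw [matL_mulVec] at hMw
  exact hw (hA (hMw.trans (map_zero A).symm))

lemma ext_injective (A : (Fin n → ℤ) →ₗ[ℤ] (Fin N → ℤ)) (hA : Function.Injective A) :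
    Function.Injective (ext A) := by
  have := LinearMap.ker_eq_bot.mp (extLin_ker A hA)
  intro v w h
  exact this (by rw [extLin_apply, extLin_apply, h])

lemma ext_comp {k : ℕ} (A : (Fin n → ℤ) →ₗ[ℤ] (Fin N → ℤ)) (B : (Fin k → ℤ) →ₗ[ℤ] (Fin n → ℤ))
    (v : Fin k → ℝ) : ext (A.comp B) v = ext A (ext B v) := by
  funext j
  change ∑ i, ((A (B (Pi.single i 1)) j : ℤ) : ℝ) * v i =
    ∑ l, ((A (Pi.single l 1) j : ℤ) : ℝ) * ∑ i, ((B (Pi.single i 1) l : ℤ) : ℝ) * v i
  simp_rw [Finset.mul_sum]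
  rw [Finset.sum_comm]
  refine Finset.sum_congr rfl fun i _ => ?_
  rw [lin_eq_sum A (B (Pi.single i 1)) j]
  push_cast
  rw [Finset.sum_mul]
  refine Finset.sum_congr rfl fun l _ => ?_
  ring

lemma realMap_eq_ext {k m : ICone} (φ : k ⟶ m) (v : Fin k.dim → ℝ) :
    φ.realMap v = ext φ.toLin v := rfl

/-- Weak pullbacks of two injective integer linear maps with respect to real points. -/
theorem weak_pullback_lin {k k' : ICone} (A : (Fin k.dim → ℤ) →ₗ[ℤ] (Fin N → ℤ))
    (B : (Fin k'.dim → ℤ) →ₗ[ℤ] (Fin N → ℤ)) (hA : Function.Injective A)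
    (hB : Function.Injective B) (y : Fin k.dim → ℝ)
    (y' : Fin k'.dim → ℝ) (hy0 : ∀ i, 0 ≤ y i) (hy'0 : ∀ i, 0 ≤ y' i) (hy : y ≠ 0)
    (h : ext A y = ext B y') :
    ∃ (l : ICone) (α : l ⟶ k) (β : l ⟶ k') (z : Fan.Orth l),
      A.comp α.toLin = B.comp β.toLin ∧ α.realMap z.1 = y ∧ β.realMap z.1 = y' := by
  classical
  let M : Matrix (Fin N) (Fin k.dim ⊕ Fin k'.dim) ℤ := Matrix.fromCols (matL A) (-(matL B))
  let p : Fin k.dim ⊕ Fin k'.dim → ℝ := Sum.elim y y'
  have hMR : toReal M = Matrix.fromCols (toReal (matL A)) (-(toReal (matL B))) := by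
    ext j (i | i)
    · rfl
    · simp [toReal, M]
  have hMp : toReal M *ᵥ p = 0 := by
    rw [hMR, Matrix.fromCols_mulVec]
    have h1 : p ∘ Sum.inl = y := rfl
    have h2 : p ∘ Sum.inr = y' := rfl
    rw [h1, h2, Matrix.neg_mulVec, toReal_matL_mulVec, toReal_matL_mulVec, h]
    simp
  have hp0 : ∀ i, 0 ≤ p i := by
    rintro (i | i)
    · exact hy0 i
    · exact hy'0 i
  have hp : p ≠ 0 := by
    intro hp
    apply hy
    funext i
    exact congrFun hp (Sum.inl i)
  obtain ⟨l, z, t, hz0, hMz, ht, hind, hdec, -⟩ := exists_decomp M p hp0 hp hMp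
  have hker : ∀ a, A (z a ∘ Sum.inl) = B (z a ∘ Sum.inr) := by
    intro a
    have := hMz a
    rw [Matrix.fromCols_mulVec, Matrix.neg_mulVec, matL_mulVec, matL_mulVec] at this
    exact sub_eq_zero.mp (by rw [sub_eq_add_neg]; exact this)
  let L : ICone := ⟨⟨l + 1, Nat.succ_pos l⟩⟩
  let αlin : (Fin (l + 1) → ℤ) →ₗ[ℤ] (Fin k.dim → ℤ) :=
    Fintype.linearCombination ℤ (fun a => z a ∘ Sum.inl)
  let βlin : (Fin (l + 1) → ℤ) →ₗ[ℤ] (Fin k'.dim → ℤ) :=
    Fintype.linearCombination ℤ (fun a => z a ∘ Sum.inr)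
  have hαapp : ∀ (g : Fin (l + 1) → ℤ) (i : Fin k.dim), αlin g i = ∑ a, g a * z a (Sum.inl i) := by
    intro g i
    simp [αlin, Fintype.linearCombination_apply, Finset.sum_apply]
  have hβapp : ∀ (g : Fin (l + 1) → ℤ) (i : Fin k'.dim), βlin g i = ∑ a, g a * z a (Sum.inr i) := by
    intro g i
    simp [βlin, Fintype.linearCombination_apply, Finset.sum_apply]
  have hcomm : ∀ g, A (αlin g) = B (βlin g) := by
    intro g
    simp only [αlin, βlin, Fintype.linearCombination_apply, map_sum, map_smul, hker]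
  have hαinj : Function.Injective αlin := by
    rw [injective_iff_map_eq_zero]
    intro g hg
    have hβ : βlin g = 0 := by
      apply hB
      rw [← hcomm g, hg, map_zero, map_zero]
    apply hind
    rintro (i | i)
    · rw [← hαapp, hg]; rfl
    · rw [← hβapp, hβ]; rfl
  have hβinj : Function.Injective βlin := by
    rw [injective_iff_map_eq_zero]
    intro g hg
    have hα : αlin g = 0 := by
      apply hA
      rw [hcomm g, hg, map_zero, map_zero]
    apply hind
    rintro (i | i)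
    · rw [← hαapp, hα]; rfl
    · rw [← hβapp, hg]; rfl
  let α : L ⟶ k := ⟨αlin, hαinj, fun g hg i =>
    le_of_le_of_eq (Finset.sum_nonneg fun a _ => mul_nonneg (hg a) (hz0 a _)) (hαapp g i).symm⟩
  let β : L ⟶ k' := ⟨βlin, hβinj, fun g hg i =>
    le_of_le_of_eq (Finset.sum_nonneg fun a _ => mul_nonneg (hg a) (hz0 a _)) (hβapp g i).symm⟩
  have hsingleα : ∀ (a : Fin (l + 1)) (i : Fin k.dim),
      αlin (Pi.single a 1) i = z a (Sum.inl i) := by
    intro a i
    rw [hαapp, Finset.sum_eq_single a]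
    · simp
    · intro b _ hb
      simp [hb]
    · intro hh; exact absurd (Finset.mem_univ _) hh
  have hsingleβ : ∀ (a : Fin (l + 1)) (i : Fin k'.dim),
      βlin (Pi.single a 1) i = z a (Sum.inr i) := by
    intro a i
    rw [hβapp, Finset.sum_eq_single a]
    · simp
    · intro b _ hb
      simp [hb]
    · intro hh; exact absurd (Finset.mem_univ _) hh
  let zz : Fan.Orth L := ⟨t, fun a => (ht a).le, fun h0 => (ht 0).ne' (congrFun h0 0)⟩
  refine ⟨L, α, β, zz, ?_, ?_, ?_⟩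
  · apply LinearMap.ext
    intro g
    exact hcomm g
  · funext i
    change ∑ a : Fin (l + 1), ((αlin (Pi.single a 1) i : ℤ) : ℝ) * t a = y i
    have := hdec (Sum.inl i)
    change y i = _ at this
    rw [this]
    refine Finset.sum_congr rfl fun a _ => ?_
    rw [hsingleα, mul_comm]
  · funext i
    change ∑ a : Fin (l + 1), ((βlin (Pi.single a 1) i : ℤ) : ℝ) * t a = y' i
    have := hdec (Sum.inr i)
    change y' i = _ at this
    rw [this]
    refine Finset.sum_congr rfl fun a _ => ?_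
    rw [hsingleβ, mul_comm]

end Groth.Agent.Lib.Helper10.RFanLin
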