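import Mathlib
import Groth.Agent.Lib.Helper10.RFanLin

/-!
# Finitely generated rational cones: Carathéodory, closedness (helper10)
-/

set_option autoImplicit false

open CategoryTheory Opposite Instab

namespace Groth.Agent.Lib.Helper10.RFanCone

open Groth.Agent.Lib.Helper10.RFanLin
open Groth.Agent.Lib.Helper10.RFanLin (ext)

variable {N : ℕ}

/-- the real vector of an integer vector -/
def castV (g : Fin N → ℤ) : Fin N → ℝ := fun j => (g j : ℝ)

/-- real cone spanned by a finite set of integer vectors, in the form of the milestone -/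
def rcone (G : Finset (Fin N → ℤ)) : Set (Fin N → ℝ) :=
  {x | ∃ c : (Fin N → ℤ) → ℝ, (∀ g, 0 ≤ c g) ∧ x = Finset.sum G fun g => c g • fun j => (g j : ℝ)}

/-- integer linear independence of a finite set of integer vectors -/
def LinIndepZ (T : Finset (Fin N → ℤ)) : Prop :=
  ∀ d : (Fin N → ℤ) → ℤ, (Finset.sum T fun g => d g • g) = 0 → ∀ g ∈ T, d g = 0

lemma zero_mem_rcone (G : Finset (Fin N → ℤ)) : (0 : Fin N → ℝ) ∈ rcone G :=
  ⟨fun _ => 0, fun _ => le_refl _, by simp⟩

lemma smul_mem_rcone (G : Finset (Fin N → ℤ)) (x : Fin N → ℝ) (hx : x ∈ rcone G) (t : ℝ)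
    (ht : 0 ≤ t) : t • x ∈ rcone G := by
  obtain ⟨c, hc, rfl⟩ := hx
  refine ⟨fun g => t * c g, fun g => mul_nonneg ht (hc g), ?_⟩
  rw [Finset.smul_sum]
  refine Finset.sum_congr rfl fun g _ => ?_
  rw [smul_smul]

lemma rcone_mono {T G : Finset (Fin N → ℤ)} (h : T ⊆ G) : rcone T ⊆ rcone G := by
  classical
  rintro x ⟨c, hc, rfl⟩
  refine ⟨fun g => if g ∈ T then c g else 0, fun g => by by_cases hg : g ∈ T <;> simp [hg, hc g], ?_⟩
  rw [← Finset.sum_subset h]
  · refine Finset.sum_congr rfl fun g hg => ?_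
    simp [hg]
  · intro g _ hgT
    simp [hgT]

lemma cast_sum_smul (G : Finset (Fin N → ℤ)) (d : (Fin N → ℤ) → ℤ) :
    (fun j => ((Finset.sum G fun g => d g • g) j : ℝ)) =
      Finset.sum G fun g => (d g : ℝ) • fun j => (g j : ℝ) := by
  funext j
  simp [Finset.sum_apply]

/-- Carathéodory for rational cones. -/
theorem cara : ∀ (m : ℕ) (G : Finset (Fin N → ℤ)), G.card ≤ m → ∀ x ∈ rcone G, x ≠ 0 →
    ∃ T, T ⊆ G ∧ T.Nonempty ∧ LinIndepZ T ∧ x ∈ rcone T := by
  classical
  intro m
  induction m with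
  | zero =>
    intro G hG x hx hx0
    exfalso
    apply hx0
    obtain ⟨c, -, rfl⟩ := hx
    have : G = ∅ := Finset.card_eq_zero.mp (Nat.le_zero.mp hG)
    rw [this]
    simp
  | succ m ih =>
    intro G hG x hx hx0
    by_cases hind : LinIndepZ G
    · refine ⟨G, Finset.Subset.refl _, ?_, hind, hx⟩
      rw [Finset.nonempty_iff_ne_empty]
      rintro rfl
      apply hx0
      obtain ⟨c, -, rfl⟩ := hx
      simp
    · obtain ⟨c, hc, rfl⟩ := hx
      unfold LinIndepZ at hind
      push Not at hind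
      obtain ⟨d₀, hd₀, g₀, hg₀, hd₀g₀⟩ := hind
      obtain ⟨d, hd, hpos⟩ : ∃ d : (Fin N → ℤ) → ℤ, (Finset.sum G fun g => d g • g) = 0 ∧
          0 < d g₀ := by
        rcases lt_or_gt_of_ne hd₀g₀ with h | h
        · refine ⟨fun g => - d₀ g, ?_, by simpa using h⟩
          simp only [neg_smul, Finset.sum_neg_distrib, hd₀, neg_zero]
        · exact ⟨d₀, hd₀, h⟩
      let J : Finset (Fin N → ℤ) := G.filter (fun g => 0 < d g)
      have hJ : J.Nonempty := ⟨g₀, Finset.mem_filter.mpr ⟨hg₀, hpos⟩⟩
      obtain ⟨g₁, hg₁J, hmin⟩ := Finset.exists_min_image J (fun g => c g / (d g : ℝ)) hJ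
      have hg₁G : g₁ ∈ G := (Finset.mem_filter.mp hg₁J).1
      have hdg₁ : (0 : ℝ) < (d g₁ : ℝ) := by exact_mod_cast (Finset.mem_filter.mp hg₁J).2
      let t : ℝ := c g₁ / (d g₁ : ℝ)
      have ht0 : 0 ≤ t := div_nonneg (hc g₁) hdg₁.le
      let c' : (Fin N → ℤ) → ℝ := fun g => c g - t * (d g : ℝ)
      have hc'G : ∀ g ∈ G, 0 ≤ c' g := by
        intro g hg
        by_cases hdg : 0 < d g
        · have hdgR : (0 : ℝ) < (d g : ℝ) := by exact_mod_cast hdg
          have := hmin g (Finset.mem_filter.mpr ⟨hg, hdg⟩)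
          have h2 : t * (d g : ℝ) ≤ c g := by
            have := mul_le_mul_of_nonneg_right this hdgR.le
            rwa [div_mul_cancel₀ _ hdgR.ne'] at this
          exact sub_nonneg.mpr h2
        · have hdgR : (d g : ℝ) ≤ 0 := by exact_mod_cast not_lt.mp hdg
          have : t * (d g : ℝ) ≤ 0 := mul_nonpos_of_nonneg_of_nonpos ht0 hdgR
          have := hc g
          change 0 ≤ c g - t * (d g : ℝ)
          linarith
      have hc'g₁ : c' g₁ = 0 := by
        change c g₁ - c g₁ / (d g₁ : ℝ) * (d g₁ : ℝ) = 0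
        rw [div_mul_cancel₀ _ hdg₁.ne', sub_self]
      have hdR : (Finset.sum G fun g => (d g : ℝ) • fun j => (g j : ℝ)) = 0 := by
        rw [← cast_sum_smul, hd]
        funext j
        simp
      have hx' : (Finset.sum G fun g => c g • fun j => (g j : ℝ)) =
          Finset.sum G fun g => c' g • fun j => (g j : ℝ) := by
        have : (Finset.sum G fun g => c g • fun j => (g j : ℝ)) =
            (Finset.sum G fun g => c' g • fun j => (g j : ℝ)) +
              t • Finset.sum G fun g => (d g : ℝ) • fun j => (g j : ℝ) := by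
          rw [Finset.smul_sum, ← Finset.sum_add_distrib]
          refine Finset.sum_congr rfl fun g _ => ?_
          rw [smul_smul, ← add_smul]
          congr 1
          change c g = c g - t * (d g : ℝ) + t * (d g : ℝ)
          ring
        rw [this, hdR, smul_zero, add_zero]
      have hxE : (Finset.sum G fun g => c g • fun j => (g j : ℝ)) ∈ rcone (G.erase g₁) := by
        refine ⟨fun g => max (c' g) 0, fun g => le_max_right _ _, ?_⟩
        rw [hx', ← Finset.sum_erase G (a := g₁) (by rw [hc'g₁, zero_smul])]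
        refine Finset.sum_congr rfl fun g hg => ?_
        dsimp only
        rw [max_eq_left (hc'G g (Finset.mem_of_mem_erase hg))]
      have hcard : (G.erase g₁).card ≤ m := by
        rw [Finset.card_erase_of_mem hg₁G]
        omega
      obtain ⟨T, hTG, hTne, hTind, hxT⟩ := ih (G.erase g₁) hcard _ hxE hx0
      exact ⟨T, hTG.trans (Finset.erase_subset _ _), hTne, hTind, hxT⟩

theorem cara' (G : Finset (Fin N → ℤ)) (x : Fin N → ℝ) (hx : x ∈ rcone G) (hx0 : x ≠ 0) :
    ∃ T, T ⊆ G ∧ T.Nonempty ∧ LinIndepZ T ∧ x ∈ rcone T :=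
  cara G.card G le_rfl x hx hx0

/-- reindexing sums over a finset by `Fin card` -/
lemma sum_T_eq {M : Type*} [AddCommMonoid M] (T : Finset (Fin N → ℤ)) (f : (Fin N → ℤ) → M) :
    Finset.sum T f = ∑ k : Fin T.card, f (T.equivFin.symm k).1 := by
  rw [← Finset.sum_coe_sort, ← Equiv.sum_comp T.equivFin.symm]

/-- the integer linear map of a finite set of integer vectors -/
noncomputable def linT (T : Finset (Fin N → ℤ)) : (Fin T.card → ℤ) →ₗ[ℤ] (Fin N → ℤ) :=
  Fintype.linearCombination ℤ (fun k : Fin T.card => (T.equivFin.symm k).1)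

lemma linT_apply (T : Finset (Fin N → ℤ)) (w : Fin T.card → ℤ) :
    linT T w = ∑ k, w k • (T.equivFin.symm k).1 := by
  simp [linT, Fintype.linearCombination_apply]

lemma linT_single (T : Finset (Fin N → ℤ)) (k : Fin T.card) :
    linT T (Pi.single k 1) = (T.equivFin.symm k).1 := by
  simp [linT, Fintype.linearCombination_apply_single]

lemma linT_injective (T : Finset (Fin N → ℤ)) (hT : LinIndepZ T) : Function.Injective (linT T) := by
  classical
  rw [injective_iff_map_eq_zero]
  intro w hw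
  let d : (Fin N → ℤ) → ℤ := fun g => if h : g ∈ T then w (T.equivFin ⟨g, h⟩) else 0
  have hdk : ∀ k : Fin T.card, d (T.equivFin.symm k).1 = w k := by
    intro k
    simp only [d]
    rw [dif_pos (T.equivFin.symm k).2]
    simp
  have hsum : (Finset.sum T fun g => d g • g) = 0 := by
    rw [sum_T_eq, ← hw, linT_apply]
    refine Finset.sum_congr rfl fun k _ => ?_
    rw [hdk]
  funext k
  have := hT d hsum (T.equivFin.symm k).1 (T.equivFin.symm k).2
  rw [hdk] at this
  exact this

lemma ext_linT (T : Finset (Fin N → ℤ)) (v : Fin T.card → ℝ) :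
    ext (linT T) v = ∑ k, v k • fun j => ((T.equivFin.symm k).1 j : ℝ) := by
  funext j
  simp only [RFanLin.ext, Finset.sum_apply, Pi.smul_apply, smul_eq_mul]
  refine Finset.sum_congr rfl fun k _ => ?_
  rw [linT_single, mul_comm]

lemma rcone_eq_image (T : Finset (Fin N → ℤ)) :
    rcone T = ext (linT T) '' {v | ∀ i, 0 ≤ v i} := by
  classical
  ext x
  constructor
  · rintro ⟨c, hc, rfl⟩
    refine ⟨fun k => c (T.equivFin.symm k).1, fun k => hc _, ?_⟩
    rw [ext_linT, sum_T_eq]
  · rintro ⟨v, hv, rfl⟩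
    let c : (Fin N → ℤ) → ℝ := fun g => if h : g ∈ T then v (T.equivFin ⟨g, h⟩) else 0
    have hck : ∀ k : Fin T.card, c (T.equivFin.symm k).1 = v k := by
      intro k
      simp only [c]
      rw [dif_pos (T.equivFin.symm k).2]
      simp
    refine ⟨c, fun g => ?_, ?_⟩
    · simp only [c]
      split_ifs
      · exact hv _
      · exact le_refl _
    · rw [ext_linT, sum_T_eq]
      refine Finset.sum_congr rfl fun k _ => ?_
      rw [hck]

lemma isClosed_orthant (n : ℕ) : IsClosed {v : Fin n → ℝ | ∀ i, 0 ≤ v i} := by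
  have : {u : Fin n → ℝ | ∀ i, 0 ≤ u i} = ⋂ i, {u | 0 ≤ u i} := by
    ext u; simp
  rw [this]
  exact isClosed_iInter fun i => isClosed_le continuous_const (continuous_apply i)

lemma isClosed_rcone_of_indep (T : Finset (Fin N → ℤ)) (hT : LinIndepZ T) : IsClosed (rcone T) := by
  rw [rcone_eq_image]
  have hce := LinearMap.isClosedEmbedding_of_injective (extLin_ker (linT T) (linT_injective T hT))
  have := hce.isClosedMap _ (isClosed_orthant T.card)
  convert this using 1
  ext x
  simp only [Set.mem_image, extLin_apply]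

lemma isClosed_rcone (G : Finset (Fin N → ℤ)) : IsClosed (rcone G) := by
  have h : rcone G = {0} ∪ ⋃ T ∈ {T : Finset (Fin N → ℤ) | T ⊆ G ∧ LinIndepZ T}, rcone T := by
    ext x
    constructor
    · intro hx
      by_cases hx0 : x = 0
      · exact Or.inl hx0
      · obtain ⟨T, hTG, -, hTind, hxT⟩ := cara' G x hx hx0
        exact Or.inr (Set.mem_biUnion (show T ∈ {T : Finset (Fin N → ℤ) | T ⊆ G ∧ LinIndepZ T}
          from ⟨hTG, hTind⟩) hxT)
    · rintro (hx | hx)
      · rw [Set.mem_singleton_iff.mp hx]; exact zero_mem_rcone G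
      · obtain ⟨T, ⟨hTG, -⟩, hxT⟩ := Set.mem_iUnion₂.mp hx
        exact rcone_mono hTG hxT
  rw [h]
  apply isClosed_singleton.union
  have hfin : {T : Finset (Fin N → ℤ) | T ⊆ G ∧ LinIndepZ T}.Finite :=
    (Finset.finite_toSet G.powerset).subset fun T hT => Finset.mem_coe.mpr (Finset.mem_powerset.mpr hT.1)
  exact hfin.isClosed_biUnion fun T hT => isClosed_rcone_of_indep T hT.2

end Groth.Agent.Lib.Helper10.RFanCone
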