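import Mathlib
import Groth.Agent.Lib.Helper10.Tate19
import Groth.Agent.Lib.Helper10.Hilb3

/-!
# Riemann-Hurwitz (helper10), part 1: the divisor of a differential, for separable places, without
the geometricity hypothesis
-/

set_option autoImplicit false
set_option linter.style.haveILetI false
set_option linter.unusedSectionVars false
set_option linter.unusedVariables false

universe u v w

open FunFld LaurentSeries

namespace Groth.Agent.Lib.helper10.RH

open FF RD Tate

variable {k : Type u} {K : Type v} [Field k] [Field K] [Algebra k K]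

section family

variable (F : Place k K → Type w) [∀ P, Field (F P)] [∀ P, Algebra k (F P)]
  [∀ P, FiniteDimensional k (F P)] [∀ P, Algebra.IsSeparable k (F P)]
  (Φ : ∀ P, K →ₐ[k] LaurentSeries (F P)) (hΦ : ∀ P, LocRes.IsExpansionAt P.1 (Φ P))

/-- Pointwise criterion for the residue functional to vanish on `A(E) + K`. -/
theorem resWg_mem_WD_iff' (hK : IsFunctionField k K) {u s : K}
    (hu : u ≠ 0) (hs : ∀ P, LocRes.D (F P) (Φ P s) ≠ 0) (E : Divisor k K) :
    resWg F Φ hΦ hK u s ∈ WD E ↔ ∀ P, E P ≤ LocRes.ordDiff (Φ P) u s := by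
  have hne : ∀ P, Φ P u * LocRes.D (F P) (Φ P s) ≠ 0 := fun P =>
    mul_ne_zero ((map_ne_zero (Φ P)).2 hu) (hs P)
  have hC : ∀ P, Valued.v (Φ P u * LocRes.D (F P) (Φ P s)) =
      WithZero.exp (-(LocRes.ordDiff (Φ P) u s)) := fun P => val_eq_exp_neg_ordL (hne P)
  rw [mem_WD_iff]
  constructor
  · intro h P
    by_contra hP
    rw [not_le] at hP
    obtain ⟨x, hx1, hx2⟩ := exists_locRes_mul_ne_zero' (hΦ P) (hne P)
    have hmem : ((inA P x : adele k K) : Place k K → K) ∈ AD E ⊔ XK k K := by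
      classical
      apply Submodule.mem_sup_left
      rw [mem_AD_iff]
      intro Q
      rw [inA_apply]
      split_ifs with hQ
      · rw [hQ]
        refine hx1.trans ?_
        rw [WithZero.exp_le_exp]; omega
      · rw [Valuation.map_zero]; exact zero_le
    have h0 := h (inA P x) hmem
    rw [resWg_inA] at h0
    exact hx2 h0
  · intro hE a ha
    obtain ⟨b, hb, c, ⟨z, rfl⟩, hbc⟩ := Submodule.mem_sup.1 ha
    have e : a = ⟨b, AD_le_adele E hb⟩ + diagA hK z := by
      apply Subtype.ext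
      rw [Submodule.coe_add, ← hbc]
      rfl
    rw [e, map_add, resWg_diagA, add_zero, resWg_apply]
    rw [mem_AD_iff] at hb
    have : ∀ P, LocRes.locRes (Φ P) (b P * u) s = 0 := by
      intro P
      unfold LocRes.locRes LocRes.resExp
      rw [res_eq_zero_of_val_le_one, map_zero]
      rw [map_mul (Φ P), mul_assoc, map_mul, (hΦ P).1, hC P]
      calc P.1 (b P) * WithZero.exp (-(LocRes.ordDiff (Φ P) u s))
          ≤ WithZero.exp (E P) * WithZero.exp (-(LocRes.ordDiff (Φ P) u s)) :=
            mul_le_mul' (hb P) le_rfl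
        _ ≤ 1 := by
            rw [← WithZero.exp_add, ← WithZero.exp_zero, WithZero.exp_le_exp]
            have := hE P
            omega
    simp only [this, finsum_zero]

theorem resWg_ne_zero' (hK : IsFunctionField k K) {u s : K}
    (hu : u ≠ 0) (hs : ∀ P, LocRes.D (F P) (Φ P s) ≠ 0) : resWg F Φ hΦ hK u s ≠ 0 := by
  obtain ⟨P⟩ := exists_place hK
  have hne : Φ P u * LocRes.D (F P) (Φ P s) ≠ 0 :=
    mul_ne_zero ((map_ne_zero (Φ P)).2 hu) (hs P)
  obtain ⟨x, hx1, hx2⟩ := exists_locRes_mul_ne_zero' (hΦ P) hne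
  intro h0
  apply hx2
  rw [← resWg_inA F Φ hΦ hK u s x P, h0, LinearMap.zero_apply]

theorem isWeil_resWg' (hK : IsFunctionField k K) {u s : K}
    (hu : u ≠ 0) (hs : ∀ P, LocRes.D (F P) (Φ P s) ≠ 0) : IsWeil (resWg F Φ hΦ hK u s) := by
  classical
  set E : Divisor k K := Finsupp.onFinset (finite_neg_ordDiff F Φ hΦ hK u s).toFinset
    (fun P => min 0 (LocRes.ordDiff (Φ P) u s)) (by
      intro P hP
      rw [Set.Finite.mem_toFinset, Set.mem_ofPred_eq]
      by_contra hn
      exact hP (min_eq_left (not_lt.1 hn))) with hE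
  refine ⟨E, (resWg_mem_WD_iff' F Φ hΦ hK hu hs E).2 fun P => ?_⟩
  rw [hE, Finsupp.onFinset_apply]
  exact min_le_right _ _

/-- The divisor of the residue functional of `u ds` is the pointwise order of `u ds`. -/
theorem exists_divisor_eq_ordDiff' (hK : IsFunctionField k K) {u s : K}
    (hu : u ≠ 0) (hs : ∀ P, LocRes.D (F P) (Φ P s) ≠ 0) :
    ∃ W : Divisor k K, IsDivOf (resWg F Φ hΦ hK u s) W ∧
      ∀ P, W P = LocRes.ordDiff (Φ P) u s := by
  classical
  obtain ⟨W, hW⟩ := exists_isDivOf hK (isWeil_resWg' F Φ hΦ hK hu hs)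
    (resWg_ne_zero' F Φ hΦ hK hu hs)
  refine ⟨W, hW, ?_⟩
  have h1 : ∀ P, W P ≤ LocRes.ordDiff (Φ P) u s :=
    (resWg_mem_WD_iff' F Φ hΦ hK hu hs W).1 (IsDivOf.mem_WD hW)
  intro P₀
  apply le_antisymm (h1 P₀)
  set E : Divisor k K := W + Finsupp.single P₀ (LocRes.ordDiff (Φ P₀) u s - W P₀) with hE
  have hEle : ∀ P, E P ≤ LocRes.ordDiff (Φ P) u s := by
    intro P
    rw [hE, Finsupp.add_apply]
    by_cases hP : P = P₀
    · subst hP
      rw [Finsupp.single_eq_same]; omega
    · rw [Finsupp.single_eq_of_ne hP, add_zero]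
      exact h1 P
  have h2 := (hW E).1 ((resWg_mem_WD_iff' F Φ hΦ hK hu hs E).2 hEle) P₀
  rw [hE, Finsupp.add_apply, Finsupp.single_eq_same] at h2
  omega

include hΦ in
/-- The divisor of `dv`: canonical, and computing the orders of all `y dv`. -/
theorem exists_canonical_ordDiff' (hK : IsFunctionField k K) {v : K}
    (hv : ∀ P, LocRes.D (F P) (Φ P v) ≠ 0) :
    ∃ W : Divisor k K, IsCanonical k K W ∧
      (∀ P, Valued.v (LocRes.D (F P) (Φ P v)) = WithZero.exp (-(W P))) ∧
      ∀ (y : K) (P : Place k K), LocRes.vDiff (Φ P) y v = P.1 y * WithZero.exp (-(W P)) := by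
  obtain ⟨W, hW, hWP⟩ := exists_divisor_eq_ordDiff' F Φ hΦ hK one_ne_zero hv
  have hval : ∀ P, Valued.v (LocRes.D (F P) (Φ P v)) = WithZero.exp (-(W P)) := by
    intro P
    rw [hWP P, ordDiff_one]
    exact val_eq_exp_neg_ordL (hv P)
  refine ⟨W, ⟨_, resWg_ne_zero' F Φ hΦ hK one_ne_zero hv, hW⟩, hval, ?_⟩
  intro y P
  unfold LocRes.vDiff
  rw [map_mul, (hΦ P).1, hval P]


include hΦ in
/-- The divisor of `dv`, canonical, with its pointwise orders. -/
theorem exists_canonical_eq_ordDiff (hK : IsFunctionField k K) {v : K}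
    (hv : ∀ P, LocRes.D (F P) (Φ P v) ≠ 0) :
    ∃ W : Divisor k K, IsCanonical k K W ∧ ∀ P, W P = LocRes.ordDiff (Φ P) 1 v := by
  obtain ⟨W, hW, hWP⟩ := exists_divisor_eq_ordDiff' F Φ hΦ hK one_ne_zero hv
  exact ⟨W, ⟨_, resWg_ne_zero' F Φ hΦ hK one_ne_zero hv, hW⟩, hWP⟩

end family

section Kaehler

/-- Differentials over a bigger constant field stay one-dimensional as soon as they do not all
vanish. -/
theorem finrank_kaehler_top {k k' K' : Type*} [Field k] [Field k'] [Field K'] [Algebra k k']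
    [Algebra k' K'] [Algebra k K'] [IsScalarTower k k' K']
    (h1 : Module.finrank K' (Ω[K'⁄k]) = 1) (hne : ∃ z : K', KaehlerDifferential.D k' K' z ≠ 0) :
    Module.finrank K' (Ω[K'⁄k']) = 1 := by
  haveI : Module.Finite K' (Ω[K'⁄k]) := Module.finite_of_finrank_pos (by rw [h1]; exact one_pos)
  have hsurj := KaehlerDifferential.map_surjective k k' K'
  have hle := LinearMap.finrank_le_finrank_of_surjective hsurj
  rw [h1] at hle
  haveI : Module.Finite K' (Ω[K'⁄k']) := Module.Finite.of_surjective _ hsurj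
  obtain ⟨z, hz⟩ := hne
  haveI : Nontrivial (Ω[K'⁄k']) := ⟨⟨_, _, hz⟩⟩
  have hpos : 0 < Module.finrank K' (Ω[K'⁄k']) := Module.finrank_pos
  omega

end Kaehler

section Book

variable {k k' : Type u} {K' : Type v} [Field k] [Field k'] [Field K']
    [Algebra k k'] [Algebra k' K'] [Algebra k K'] [IsScalarTower k k' K']

theorem deg_eq_finsum {K : Type v} [Field K] [Algebra k K] (D : Divisor k K) :
    D.deg = ∑ᶠ P, D P * (P.deg : ℤ) := by
  unfold Divisor.deg Finsupp.sum
  rw [finsum_eq_sum_of_support_subset]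
  intro P hP
  rw [Function.mem_support] at hP
  rw [Finset.mem_coe, Finsupp.mem_support_iff]
  intro h
  apply hP
  rw [h, zero_mul]

/-- Pull a divisor of `K'/k` back to a divisor of `K'/k'`. -/
noncomputable def upDiv (D : Divisor k K') : Divisor k' K' :=
  Finsupp.comapDomain (Place.down (k := k)) D (Place.down_injective.injOn)

theorem upDiv_apply (D : Divisor k K') (Q : Place k' K') :
    upDiv D Q = D (Place.down (k := k) Q) := rfl

theorem deg_upDiv [FiniteDimensional k k'] (D : Divisor k K') :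
    (Module.finrank k k' : ℤ) * (upDiv (k' := k') D).deg = D.deg := by
  unfold Divisor.deg
  have hbij : Set.BijOn (Place.down (k := k) (k₁ := k') (E := K'))
      (Place.down (k := k) (k₁ := k') (E := K') ⁻¹' ↑D.support) ↑D.support := by
    refine ⟨fun x hx => hx, Place.down_injective.injOn, fun y hy => ?_⟩
    exact ⟨Place.up (k₁ := k') y, by simpa [Place.down_up] using hy, Place.down_up y⟩
  have h1 := Finsupp.sum_comapDomain (Place.down (k := k) (k₁ := k') (E := K')) D
    (fun Q₀ n => n * (Q₀.deg : ℤ)) hbij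
  rw [← h1]
  unfold upDiv
  rw [Finsupp.mul_sum]
  apply Finsupp.sum_congr
  intro Q _
  simp only [Function.comp]
  rw [Place.deg_down]
  push_cast
  ring

end Book

end Groth.Agent.Lib.helper10.RH
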