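import Mathlib

/-!
# Degeneration of an algebra with a weighted basis to its associated graded algebra (helper10)

Let `A` be a commutative algebra over a field `K` with a `K`-basis `b i` and weights `ν i : ℕ` such
that `1 ∈ F 0` and `b i * b j ∈ F (ν i + ν j)`, where `F k` is the span of the `b i` with `ν i ≤ k`.
The Rees algebra `R = {p ∈ A[X] | ∀ k, coeff p k ∈ F k}` is a free `K[X]`-module on the elements
`b i X ^ ν i`, its fibre at `X = c ≠ 0` is `A`, and its fibre at `X = 0` is any `K`-algebra `T` spanned
by a family `e i` admitting an algebra map `T → R / X R` with `e i ↦ b i X ^ ν i`.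
-/

set_option autoImplicit false
set_option linter.unusedSectionVars false
set_option linter.style.haveILetI false

universe u

open Polynomial

namespace Groth.Agent.Lib.helper10.ReesDeg

attribute [local instance] Polynomial.algebra

variable {K : Type u} [Field K] {A : Type u} [CommRing A] [Algebra K A] {I : Type*}
variable (b : Module.Basis I K A) (ν : I → ℕ)

/-- The filtration attached to a weighted basis. -/
def F (k : ℕ) : Submodule K A := Submodule.span K (b '' {i | ν i ≤ k})

theorem F_mono {k l : ℕ} (h : k ≤ l) : F b ν k ≤ F b ν l :=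
  Submodule.span_mono (Set.image_mono fun _ hi => le_trans hi h)

theorem basis_mem_F (i : I) : b i ∈ F b ν (ν i) :=
  Submodule.subset_span ⟨i, le_refl (ν i), rfl⟩

theorem mem_F_iff (k : ℕ) (x : A) : x ∈ F b ν k ↔ ∀ i, b.repr x i ≠ 0 → ν i ≤ k := by
  unfold F
  rw [Module.Basis.mem_span_image]
  constructor
  · intro h i hi
    exact h (Finsupp.mem_support_iff.2 hi)
  · intro h i hi
    exact h i (Finsupp.mem_support_iff.1 hi)

/-- The multiplicativity hypotheses on a weighted basis. -/
structure Hyp : Prop where
  one_mem : (1 : A) ∈ F b ν 0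
  mul_mem : ∀ i j, b i * b j ∈ F b ν (ν i + ν j)

theorem F_mul (h : Hyp b ν) {k l : ℕ} {x y : A} (hx : x ∈ F b ν k) (hy : y ∈ F b ν l) :
    x * y ∈ F b ν (k + l) := by
  induction hx using Submodule.span_induction with
  | mem x hx =>
    obtain ⟨i, hi, rfl⟩ := hx
    induction hy using Submodule.span_induction with
    | mem y hy =>
      obtain ⟨j, hj, rfl⟩ := hy
      exact F_mono b ν (Nat.add_le_add hi hj) (h.mul_mem i j)
    | zero => rw [mul_zero]; exact zero_mem _
    | add y z _ _ hy hz => rw [mul_add]; exact add_mem hy hz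
    | smul a y _ hy => rw [mul_smul_comm]; exact Submodule.smul_mem _ _ hy
  | zero => rw [zero_mul]; exact zero_mem _
  | add x z _ _ hx hz => rw [add_mul]; exact add_mem hx hz
  | smul a x _ hx => rw [smul_mul_assoc]; exact Submodule.smul_mem _ _ hx

/-- The Rees algebra of the filtration. -/
def rees (h : Hyp b ν) : Subalgebra K[X] A[X] where
  carrier := {p | ∀ k, p.coeff k ∈ F b ν k}
  mul_mem' := by
    intro p q hp hq k
    rw [coeff_mul]
    apply Submodule.sum_mem
    intro x hx
    rw [Finset.HasAntidiagonal.mem_antidiagonal] at hx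
    rw [← hx]
    exact F_mul b ν h (hp _) (hq _)
  add_mem' := by
    intro p q hp hq k
    rw [coeff_add]
    exact add_mem (hp k) (hq k)
  algebraMap_mem' := by
    intro r k
    rw [Polynomial.algebraMap_def, coe_mapRingHom, coeff_map, Algebra.algebraMap_eq_smul_one]
    exact Submodule.smul_mem _ _ (F_mono b ν (Nat.zero_le k) h.one_mem)

theorem mem_rees (h : Hyp b ν) (p : A[X]) : p ∈ rees b ν h ↔ ∀ k, p.coeff k ∈ F b ν k := Iff.rfl

/-- The basis elements `b i X ^ ν i` of the Rees algebra. -/
noncomputable def beta (h : Hyp b ν) (i : I) : rees b ν h := ⟨C (b i) * X ^ ν i, by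
  intro k
  rw [coeff_C_mul_X_pow]
  split_ifs with hk
  · rw [hk]; exact basis_mem_F b ν i
  · exact zero_mem _⟩

theorem coe_beta (h : Hyp b ν) (i : I) : (beta b ν h i : A[X]) = C (b i) * X ^ ν i := rfl

theorem coeff_smul_beta (h : Hyp b ν) (g : K[X]) (i : I) (k : ℕ) :
    ((g • beta b ν h i : rees b ν h) : A[X]).coeff k =
      (if ν i ≤ k then g.coeff (k - ν i) else 0) • b i := by
  rw [Subalgebra.coe_smul, coe_beta, Algebra.smul_def, Polynomial.algebraMap_def, coe_mapRingHom,
    ← mul_assoc, coeff_mul_X_pow', ]
  split_ifs with hk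
  · rw [coeff_mul_C, coeff_map, Algebra.smul_def]
  · rw [zero_smul]


theorem linearIndependent_beta (h : Hyp b ν) : LinearIndependent K[X] (beta b ν h) := by
  rw [linearIndependent_iff']
  intro s g hsum i hi
  have hcoe : ∀ k, ∑ j ∈ s, (if ν j ≤ k then (g j).coeff (k - ν j) else 0) • b j = 0 := by
    intro k
    have h1 := congrArg (fun p : rees b ν h => (p : A[X]).coeff k) hsum
    simp only [ZeroMemClass.coe_zero, coeff_zero] at h1
    rw [← h1, AddSubmonoidClass.coe_finsetSum, finsetSum_coeff]
    apply Finset.sum_congr rfl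
    intro j _
    rw [coeff_smul_beta]
  ext m
  have h1 := linearIndependent_iff'.1 b.linearIndependent s
    (fun j => if ν j ≤ m + ν i then (g j).coeff (m + ν i - ν j) else 0) (hcoe (m + ν i)) i hi
  simp only [le_add_iff_nonneg_left, zero_le, if_true, Nat.add_sub_cancel] at h1
  rw [coeff_zero]
  exact h1

theorem C_mul_X_pow_mem (h : Hyp b ν) (k : ℕ) (a : A) (ha : a ∈ F b ν k) :
    C a * X ^ k ∈ Submodule.span K[X] (Set.range fun i => (beta b ν h i : A[X])) := by
  induction ha using Submodule.span_induction with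
  | mem a ha =>
    obtain ⟨i, hi, rfl⟩ := ha
    have h1 : C (b i) * X ^ k = (X ^ (k - ν i) : K[X]) • (beta b ν h i : A[X]) := by
      rw [coe_beta, Algebra.smul_def, Polynomial.algebraMap_def, coe_mapRingHom, Polynomial.map_pow,
        map_X]
      have hk : k = (k - ν i) + ν i := (Nat.sub_add_cancel hi).symm
      conv_lhs => rw [hk, pow_add]
      ring
    rw [h1]
    exact Submodule.smul_mem _ _ (Submodule.subset_span ⟨i, rfl⟩)
  | zero => rw [C_0, zero_mul]; exact zero_mem _
  | add x y _ _ hx hy => rw [C_add, add_mul]; exact add_mem hx hy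
  | smul c x _ hx =>
    have h1 : C (c • x) * X ^ k = (C c : K[X]) • (C x * X ^ k) := by
      rw [Algebra.smul_def c x, C_mul, Algebra.smul_def, Polynomial.algebraMap_def, coe_mapRingHom,
        map_C, mul_assoc]
    rw [h1]
    exact Submodule.smul_mem _ _ hx

theorem span_beta (h : Hyp b ν) : ⊤ ≤ Submodule.span K[X] (Set.range (beta b ν h)) := by
  intro p _
  have h1 : (p : A[X]) ∈ Submodule.span K[X] (Set.range fun i => (beta b ν h i : A[X])) := by
    rw [(p : A[X]).as_sum_support_C_mul_X_pow]
    apply Submodule.sum_mem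
    intro k _
    exact C_mul_X_pow_mem b ν h k _ (p.2 k)
  have h2 : (Set.range fun i => (beta b ν h i : A[X])) =
      (rees b ν h).val.toLinearMap '' Set.range (beta b ν h) := by
    rw [← Set.range_comp]
    rfl
  rw [h2, ← Submodule.map_span] at h1
  obtain ⟨y, hy, hyp⟩ := h1
  have : y = p := Subtype.ext hyp
  rw [← this]
  exact hy

/-- The Rees algebra is free over `K[X]` on the elements `b i X ^ ν i`. -/
noncomputable def basisRees (h : Hyp b ν) : Module.Basis I K[X] (rees b ν h) :=
  Module.Basis.mk (linearIndependent_beta b ν h) (span_beta b ν h)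

theorem basisRees_apply (h : Hyp b ν) (i : I) : basisRees b ν h i = beta b ν h i := by
  unfold basisRees
  rw [Module.Basis.mk_apply]

theorem free_rees (h : Hyp b ν) : Module.Free K[X] (rees b ν h) :=
  Module.Free.of_basis (basisRees b ν h)

end Groth.Agent.Lib.helper10.ReesDeg
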