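import Groth.Agent.Lib.Helper10.ReesDeg1

/-!
# Degeneration of an algebra with a weighted basis (helper10), part 2: the fibres of the Rees algebra
-/

set_option autoImplicit false
set_option linter.unusedSectionVars false
set_option linter.style.haveILetI false

universe u

open Polynomial

namespace Groth.Agent.Lib.helper10.ReesDeg

attribute [local instance] Polynomial.algebra

variable {K : Type u} [Field K] {A : Type u} [CommRing A] [Algebra K A] {I : Type*}
variable (b : Module.Basis I K A) (ν : I → ℕ)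

theorem coe_algebraMap_rees (h : Hyp b ν) (g : K[X]) :
    ((algebraMap K[X] (rees b ν h) g : rees b ν h) : A[X]) = g.map (algebraMap K A) := rfl

theorem coe_algebraMap_K_rees (h : Hyp b ν) (a : K) :
    ((algebraMap K (rees b ν h) a : rees b ν h) : A[X]) = C (algebraMap K A a) := by
  rw [IsScalarTower.algebraMap_apply K K[X] (rees b ν h), coe_algebraMap_rees, Polynomial.algebraMap_apply,
    Algebra.algebraMap_self, RingHom.id_apply, map_C]

/-- Evaluation of the Rees algebra at `X = c`. -/
noncomputable def evalAt (h : Hyp b ν) (c : K) : rees b ν h →ₐ[K] A where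
  toFun p := (p : A[X]).eval (algebraMap K A c)
  map_one' := by simp
  map_mul' := by intro p q; simp [eval_mul]
  map_zero' := by simp
  map_add' := by intro p q; simp
  commutes' := by
    intro a
    simp only [coe_algebraMap_K_rees, eval_C]

theorem evalAt_apply (h : Hyp b ν) (c : K) (p : rees b ν h) :
    evalAt b ν h c p = (p : A[X]).eval (algebraMap K A c) := rfl

theorem evalAt_smul (h : Hyp b ν) (c : K) (g : K[X]) (p : rees b ν h) :
    evalAt b ν h c (g • p) = g.eval c • evalAt b ν h c p := by
  rw [evalAt_apply, evalAt_apply, Subalgebra.coe_smul, Algebra.smul_def, Polynomial.algebraMap_def,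
    coe_mapRingHom, eval_mul, eval_map_algebraMap, aeval_algebraMap_apply, Algebra.smul_def,
    coe_aeval_eq_eval]

theorem evalAt_beta (h : Hyp b ν) (c : K) (i : I) :
    evalAt b ν h c (beta b ν h i) = (c ^ ν i) • b i := by
  rw [evalAt_apply, coe_beta, eval_mul, eval_C, eval_pow, eval_X, Algebra.smul_def, map_pow,
    mul_comm]


theorem evalAt_surjective (h : Hyp b ν) (c : K) (hc : c ≠ 0) :
    Function.Surjective (evalAt b ν h c) := by
  intro a
  have hmem : a ∈ LinearMap.range (evalAt b ν h c).toLinearMap := by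
    have htop : Submodule.span K (Set.range b) ≤ LinearMap.range (evalAt b ν h c).toLinearMap := by
      rw [Submodule.span_le]
      rintro _ ⟨i, rfl⟩
      refine ⟨(C ((c ^ ν i)⁻¹) : K[X]) • beta b ν h i, ?_⟩
      rw [AlgHom.toLinearMap_apply, evalAt_smul, evalAt_beta, eval_C, smul_smul,
        inv_mul_cancel₀ (pow_ne_zero _ hc), one_smul]
    rw [b.span_eq] at htop
    exact htop trivial
  obtain ⟨p, hp⟩ := hmem
  exact ⟨p, hp⟩

theorem evalAt_eq_sum (h : Hyp b ν) (c : K) (p : rees b ν h) :
    evalAt b ν h c p = ∑ i ∈ ((basisRees b ν h).repr p).support,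
      (((basisRees b ν h).repr p i).eval c * c ^ ν i) • b i := by
  conv_lhs => rw [← (basisRees b ν h).linearCombination_repr p]
  rw [Finsupp.linearCombination_apply, Finsupp.sum, map_sum]
  apply Finset.sum_congr rfl
  intro i _
  rw [basisRees_apply, evalAt_smul, evalAt_beta, smul_smul]

theorem ker_evalAt (h : Hyp b ν) (c : K) (hc : c ≠ 0) :
    RingHom.ker (evalAt b ν h c) =
      Ideal.span {algebraMap K[X] (rees b ν h) (X - C c)} := by
  apply le_antisymm
  · intro p hp
    rw [RingHom.mem_ker, evalAt_eq_sum] at hp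
    have hzero := linearIndependent_iff'.1 b.linearIndependent _ _ hp
    have hroot : ∀ i, ((basisRees b ν h).repr p i).IsRoot c := by
      intro i
      by_cases hi : i ∈ ((basisRees b ν h).repr p).support
      · have h1 := hzero i hi
        rcases mul_eq_zero.1 h1 with h2 | h2
        · exact h2
        · exact absurd h2 (pow_ne_zero _ hc)
      · rw [Finsupp.notMem_support_iff.1 hi]
        exact eval_zero
    have hdiv : ∀ i, (X - C c) * ((basisRees b ν h).repr p i /ₘ (X - C c)) =
        (basisRees b ν h).repr p i := fun i => mul_divByMonic_eq_iff_isRoot.2 (hroot i)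
    rw [Ideal.mem_span_singleton']
    refine ⟨∑ i ∈ ((basisRees b ν h).repr p).support,
      ((basisRees b ν h).repr p i /ₘ (X - C c)) • beta b ν h i, ?_⟩
    conv_rhs => rw [← (basisRees b ν h).linearCombination_repr p]
    rw [Finsupp.linearCombination_apply, Finsupp.sum, mul_comm, ← Algebra.smul_def,
      Finset.smul_sum]
    apply Finset.sum_congr rfl
    intro i _
    rw [smul_smul, hdiv, basisRees_apply]
  · rw [Ideal.span_le, Set.singleton_subset_iff]
    show algebraMap K[X] (rees b ν h) (X - C c) ∈ RingHom.ker (evalAt b ν h c)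
    rw [RingHom.mem_ker, evalAt_apply, coe_algebraMap_rees, Polynomial.map_sub, map_X, map_C,
      eval_sub, eval_X, eval_C, sub_self]

/-- The fibre of the Rees algebra at `X = c ≠ 0` is `A`. -/
noncomputable def fibreEquiv (h : Hyp b ν) (c : K) (hc : c ≠ 0) :
    (rees b ν h ⧸ Ideal.span {algebraMap K[X] (rees b ν h) (X - C c)}) ≃ₐ[K] A :=
  (Ideal.quotientEquivAlgOfEq K (ker_evalAt b ν h c hc).symm).trans
    (Ideal.quotientKerAlgEquivOfSurjective (evalAt_surjective b ν h c hc))


section Special

variable (h : Hyp b ν)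

/-- The ideal `X R` of the Rees algebra. -/
noncomputable abbrev X0 : Ideal (rees b ν h) := Ideal.span {algebraMap K[X] (rees b ν h) X}

theorem mk_smul_X0 (g : K[X]) (x : rees b ν h) :
    Ideal.Quotient.mk (X0 b ν h) (g • x) = (g.coeff 0) • Ideal.Quotient.mk (X0 b ν h) x := by
  have hg : g = divX g * X + C (g.coeff 0) := (divX_mul_X_add g).symm
  have h1 : g • x = algebraMap K[X] (rees b ν h) X * (divX g • x) + (g.coeff 0) • x := by
    conv_lhs => rw [hg]
    rw [add_smul, mul_comm (divX g) X, mul_smul, Algebra.smul_def X, ← algebraMap_smul K[X] (g.coeff 0) x]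
    rfl
  rw [h1, map_add, map_mul]
  have h2 : Ideal.Quotient.mk (X0 b ν h) (algebraMap K[X] (rees b ν h) X) = 0 :=
    Ideal.Quotient.eq_zero_iff_mem.2 (Ideal.subset_span rfl)
  rw [h2, zero_mul, zero_add]
  exact map_smul (Ideal.Quotient.mkₐ K (X0 b ν h)) (g.coeff 0) x

theorem indep_mk_beta (s : Finset I) (a : I → K)
    (hsum : ∑ i ∈ s, a i • Ideal.Quotient.mk (X0 b ν h) (beta b ν h i) = 0) :
    ∀ i ∈ s, a i = 0 := by
  classical
  have h1 : ∑ i ∈ s, a i • beta b ν h i ∈ X0 b ν h := by
    rw [← Ideal.Quotient.eq_zero_iff_mem, map_sum, ← hsum]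
    apply Finset.sum_congr rfl
    intro i _
    exact map_smul (Ideal.Quotient.mkₐ K (X0 b ν h)) (a i) (beta b ν h i)
  obtain ⟨r, hr⟩ := Ideal.mem_span_singleton'.1 h1
  intro i hi
  have h2 := congrArg (fun x => ((basisRees b ν h).repr x i).coeff 0) hr
  have hL : r * algebraMap K[X] (rees b ν h) X = (X : K[X]) • r := by
    rw [Algebra.smul_def, mul_comm]
  have hR : ∑ j ∈ s, a j • beta b ν h j = ∑ j ∈ s, (C (a j) : K[X]) • basisRees b ν h j := by
    apply Finset.sum_congr rfl
    intro j _
    rw [basisRees_apply, ← algebraMap_smul K[X] (a j) (beta b ν h j)]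
    rfl
  simp only [hL, hR, map_smul, map_sum, Module.Basis.repr_self, Finsupp.smul_apply,
    Finsupp.coe_finsetSum, Finset.sum_apply, Finsupp.single_apply, smul_eq_mul, mul_ite, mul_one,
    mul_zero, Finset.sum_ite_eq', if_pos hi, coeff_X_mul_zero, coeff_C_zero] at h2
  exact h2.symm

/-- The fibre of the Rees algebra at `X = 0`. -/
theorem specialFibre_bijective {T : Type u} [CommRing T] [Algebra K T] (e : I → T)
    (he : Submodule.span K (Set.range e) = ⊤)
    (Ψ : T →ₐ[K] (rees b ν h ⧸ X0 b ν h))
    (hΨ : ∀ i, Ψ (e i) = Ideal.Quotient.mk (X0 b ν h) (beta b ν h i)) :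
    Function.Bijective Ψ := by
  constructor
  · rw [injective_iff_map_eq_zero]
    intro t ht
    have htm : t ∈ Submodule.span K (Set.range e) := by rw [he]; trivial
    rw [Finsupp.mem_span_range_iff_exists_finsupp] at htm
    obtain ⟨l, hl⟩ := htm
    rw [Finsupp.sum] at hl
    rw [← hl, map_sum] at ht
    have h1 : ∑ i ∈ l.support, l i • Ideal.Quotient.mk (X0 b ν h) (beta b ν h i) = 0 := by
      rw [← ht]
      apply Finset.sum_congr rfl
      intro i _
      rw [map_smul, hΨ]
    have h2 := indep_mk_beta b ν h l.support l h1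
    rw [← hl]
    apply Finset.sum_eq_zero
    intro i hi
    rw [h2 i hi, zero_smul]
  · intro y
    obtain ⟨p, rfl⟩ := Ideal.Quotient.mk_surjective y
    refine ⟨∑ i ∈ ((basisRees b ν h).repr p).support, ((basisRees b ν h).repr p i).coeff 0 • e i, ?_⟩
    conv_rhs => rw [← (basisRees b ν h).linearCombination_repr p]
    rw [Finsupp.linearCombination_apply, Finsupp.sum, map_sum, map_sum]
    apply Finset.sum_congr rfl
    intro i _
    rw [map_smul, hΨ, basisRees_apply, mk_smul_X0]

/-- **Degeneration of an algebra with a weighted basis.** -/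
theorem exists_degeneration {T : Type u} [CommRing T] [Algebra K T] (e : I → T)
    (he : Submodule.span K (Set.range e) = ⊤)
    (Ψ : T →ₐ[K] (rees b ν h ⧸ X0 b ν h))
    (hΨ : ∀ i, Ψ (e i) = Ideal.Quotient.mk (X0 b ν h) (beta b ν h i)) :
    ∃ (R : Type u) (_ : CommRing R) (_ : Algebra K R) (_ : Algebra K[X] R)
      (_ : IsScalarTower K K[X] R),
      Module.Free K[X] R ∧
      Nonempty ((R ⧸ Ideal.span {algebraMap K[X] R X}) ≃ₐ[K] T) ∧
      ∀ c : K, c ≠ 0 →
        Nonempty ((R ⧸ Ideal.span {algebraMap K[X] R (X - C c)}) ≃ₐ[K] A) :=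
  ⟨rees b ν h, inferInstance, inferInstance, inferInstance, inferInstance, free_rees b ν h,
    ⟨(AlgEquiv.ofBijective Ψ (specialFibre_bijective b ν h e he Ψ hΨ)).symm⟩,
    fun c hc => ⟨fibreEquiv b ν h c hc⟩⟩


theorem beta_mul (i j l : I) (hb : b i * b j = b l) (hν : ν l = ν i + ν j) :
    beta b ν h i * beta b ν h j = beta b ν h l := by
  apply Subtype.ext
  rw [Subalgebra.coe_mul, coe_beta, coe_beta, coe_beta, ← hb, hν, C_mul, pow_add]
  ring

/-- An element of the Rees algebra of the form `a X ^ (N + 1)` with `a ∈ F N` lies in `X R`. -/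
theorem mem_X0_of_coe (p : rees b ν h) (a : A) (N : ℕ) (ha : a ∈ F b ν N)
    (hp : (p : A[X]) = C a * X ^ (N + 1)) : p ∈ X0 b ν h := by
  rw [Ideal.mem_span_singleton']
  refine ⟨⟨C a * X ^ N, ?_⟩, ?_⟩
  · intro k
    rw [coeff_C_mul_X_pow]
    split_ifs with hk
    · rw [hk]; exact ha
    · exact zero_mem _
  · apply Subtype.ext
    rw [Subalgebra.coe_mul, coe_algebraMap_rees, map_X, hp, pow_succ]
    ring

end Special

end Groth.Agent.Lib.helper10.ReesDeg
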