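import Mathlib
import Groth.Agent.S1984

/-!
Adjoining an `e`-th root (helper10): existence of a finite separable extension containing an
`e`-th root of a nonzero element when `e` is invertible.
-/

set_option autoImplicit false
set_option linter.unusedSectionVars false
set_option linter.style.haveILetI false

universe u

open Polynomial

namespace Groth.Agent.Lib.helper10

namespace RootExt

theorem exists_root_ext (L : Type u) [Field L] (c : L) (hc : c ≠ 0) (e : ℕ) (he : (e : L) ≠ 0) :
    ∃ (L' : Type u) (_ : Field L') (_ : Algebra L L') (_ : FiniteDimensional L L')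
      (_ : Algebra.IsSeparable L L') (z : L'), z ^ e = algebraMap L L' c ∧
        Algebra.adjoin L {z} = ⊤ := by
  have he0 : e ≠ 0 := by rintro rfl; exact he Nat.cast_zero
  have hsep : (X ^ e - C c : L[X]).Separable := separable_X_pow_sub_C c he hc
  have hmon : (X ^ e - C c : L[X]).Monic := monic_X_pow_sub_C c he0
  have hdeg : (X ^ e - C c : L[X]).degree ≠ 0 := by
    rw [degree_X_pow_sub_C (Nat.pos_of_ne_zero he0)]
    exact_mod_cast he0
  obtain ⟨g, hg, hgdvd⟩ := exists_irreducible_of_degree_pos
    (lt_of_le_of_ne (zero_le_degree_iff.mpr hmon.ne_zero) (Ne.symm hdeg))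
  haveI : Fact (Irreducible g) := ⟨hg⟩
  have hgsep : g.Separable := hsep.of_dvd hgdvd
  haveI hfd : FiniteDimensional L (AdjoinRoot g) := (AdjoinRoot.powerBasis hg.ne_zero).finite
  have hz : (AdjoinRoot.root g) ^ e = algebraMap L (AdjoinRoot g) c := by
    obtain ⟨q, hq⟩ := hgdvd
    have h1 : aeval (AdjoinRoot.root g) (X ^ e - C c : L[X]) = 0 := by
      rw [hq, map_mul, AdjoinRoot.aeval_eq, AdjoinRoot.mk_self, zero_mul]
    rw [map_sub, map_pow, aeval_X, aeval_C, sub_eq_zero] at h1
    exact h1
  have hgen : Algebra.adjoin L {AdjoinRoot.root g} = ⊤ := AdjoinRoot.adjoinRoot_eq_top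
  have hsepL : Algebra.IsSeparable L (AdjoinRoot g) := by
    have h1 : IntermediateField.adjoin L {AdjoinRoot.root g} = ⊤ :=
      IntermediateField.adjoin_eq_top_of_algebra L _ hgen
    have h2 : Algebra.IsSeparable L (IntermediateField.adjoin L {AdjoinRoot.root g}) := by
      rw [IntermediateField.isSeparable_adjoin_iff_isSeparable]
      rintro _ rfl
      apply hgsep.of_dvd
      apply minpoly.dvd
      rw [AdjoinRoot.aeval_eq, AdjoinRoot.mk_self]
    rw [h1] at h2
    exact AlgEquiv.Algebra.isSeparable (IntermediateField.topEquiv (F := L) (E := AdjoinRoot g))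
  exact ⟨AdjoinRoot g, inferInstance, inferInstance, hfd, hsepL, AdjoinRoot.root g, hz, hgen⟩

end RootExt

end Groth.Agent.Lib.helper10
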