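import Mathlib
import Groth.Prelude.Def_EtRam
import Groth.Agent.Lib.Helper10.CompDvr12
import Groth.Agent.Lib.Helper10.TameComp1
import Groth.Agent.S1987

/-!
Tame extensions become unramified after adjoining a root of the uniformizer (helper10):
the local computation.
-/

set_option autoImplicit false
set_option linter.unusedSectionVars false
set_option linter.style.haveILetI false

universe u

open Polynomial IsLocalRing TensorProduct

namespace Groth.Agent.Lib.helper10

namespace RootExt

section Main

variable {A K L : Type u} [CommRing A] [IsDomain A] [IsDiscreteValuationRing A] [Field K]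
  [Algebra A K] [IsFractionRing A K] [Field L] [Algebra K L] [Algebra A L] [IsScalarTower A K L]
  [FiniteDimensional K L] [Algebra.IsSeparable K L]
  (π : A) (hπ : Irreducible π) (n : ℕ) (hn : 2 ≤ n)
  (L' : Type u) [Field L'] [Algebra L L'] [FiniteDimensional L L']
  [Algebra (AdjoinRoot (X ^ n - C π : A[X])) L']

local notation "A'" => AdjoinRoot (X ^ n - C π : A[X])

include K hπ hn in
theorem root_unramified
    (hcompat : ∀ a : A, algebraMap A' L' (AdjoinRoot.of _ a) = algebraMap L L' (algebraMap A L a))
    (hgen : Algebra.adjoin L {algebraMap A' L' (AdjoinRoot.root _)} = ⊤)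
    (htame : EtRam.IsTamelyRamified A (algebraMap A L))
    (hnA : (n : ResidueField A) ≠ 0)
    (hdvd : ∀ (V : ValuationSubring L) (hV : EtRam.Dominates A (algebraMap A L) V),
      letI : Algebra A V := (RingHom.codRestrict (algebraMap A L) V hV.1).toAlgebra
      Ideal.ramificationIdx' (maximalIdeal A) (maximalIdeal V) ∣ n)
    [IsLocalRing A'] :
    EtRam.IsUnramifiedExt A' (algebraMap A' L') := by
  intro W hW
  letI : Algebra A' W := (RingHom.codRestrict (algebraMap A' L') W hW.1).toAlgebra
  intro hloc
  haveI hdomainA' : IsDomain A' := Groth.Agent.S1987.isDomain_B π hπ n hn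
  haveI hdvrA' : IsDiscreteValuationRing A' := Groth.Agent.S1987.isDVR_B π hπ n hn
  have hmaxA' : maximalIdeal A' = Ideal.span {AdjoinRoot.root (X ^ n - C π : A[X])} :=
    Groth.Agent.S1987.maximalIdeal_B π hπ n hn
  have hπA : maximalIdeal A = Ideal.span {π} := hπ.maximalIdeal_eq
  have hn0 : n ≠ 0 := by omega
  have hmemA' : ∀ a ∈ maximalIdeal A, algebraMap A A' a ∈ maximalIdeal A' := by
    intro a ha
    rw [hπA, Ideal.mem_span_singleton] at ha
    obtain ⟨a', rfl⟩ := ha
    rw [hmaxA', Ideal.mem_span_singleton, map_mul, AdjoinRoot.algebraMap_eq,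
      ← Groth.Agent.S1987.root_pow π n]
    exact Dvd.dvd.mul_right (dvd_pow_self _ hn0) _
  haveI : IsLocalHom (algebraMap A A') := by
    constructor
    intro a ha
    by_contra hna
    exact (IsLocalRing.mem_maximalIdeal _).mp (hmemA' a ((IsLocalRing.mem_maximalIdeal a).mpr hna)) ha
  -- the valuation ring B of L
  obtain ⟨B, hB⟩ : ∃ B : ValuationSubring L, B = W.comap (algebraMap L L') := ⟨_, rfl⟩
  have hBmem : ∀ x : L, x ∈ B ↔ algebraMap L L' x ∈ W := by
    intro x; rw [hB]; exact ValuationSubring.mem_comap
  have hBlt : ∀ x : L, B.valuation x < 1 ↔ W.valuation (algebraMap L L' x) < 1 := by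
    intro x; rw [hB]; exact TotRam.comap_val_lt_one_iff W (algebraMap L L') x
  have hdomA : EtRam.Dominates A (algebraMap A L) B := by
    refine ⟨fun a => ?_, fun a ha => ?_⟩
    · rw [hBmem, ← hcompat]; exact hW.1 _
    · rw [hBlt, ← hcompat, ← AdjoinRoot.algebraMap_eq]
      exact hW.2 _ (hmemA' a ha)
  haveI : IsDiscreteValuationRing B :=
    TameComp.isDVR_of_dominates A K L B (by rw [← IsScalarTower.algebraMap_eq A K L]; exact hdomA)
  letI : Algebra A B := (RingHom.codRestrict (algebraMap A L) B hdomA.1).toAlgebra
  haveI : IsLocalHom (algebraMap A B) := CompDvr.isLocalHom_codRestrict _ _ hdomA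
  haveI : IsScalarTower A B L := IsScalarTower.of_algebraMap_eq (fun _ => rfl)
  obtain ⟨hsepB, -⟩ := htame B hdomA
  haveI := hsepB
  letI : Algebra B L' := ((algebraMap L L').comp B.subtype).toAlgebra
  haveI : IsScalarTower B L L' := IsScalarTower.of_algebraMap_eq (fun _ => rfl)
  have hjP' : ∀ q : B, algebraMap B L' q = algebraMap L L' (q : L) := fun q => rfl
  have hWB : EtRam.Dominates B (algebraMap B L') W := by
    refine ⟨fun q => ?_, fun q hq => ?_⟩
    · rw [hjP', ← hBmem]; exact q.2
    · rw [ValuationSubring.valuation_lt_one_iff] at hq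
      rw [hjP']
      exact (hBlt q).mp hq
  obtain ⟨v, hv, hv1, hv2⟩ := CompDvr.exists_discrete_valuation B L L' W hWB
  -- uniformizers and factorization
  obtain ⟨πB, hπBirr⟩ := IsDiscreteValuationRing.exists_irreducible B
  have hπB : maximalIdeal B = Ideal.span {πB} := hπBirr.maximalIdeal_eq
  have hinjAL : Function.Injective (algebraMap A L) := by
    rw [IsScalarTower.algebraMap_eq A K L]
    exact (algebraMap K L).injective.comp (IsFractionRing.injective A K)
  have hab0 : algebraMap A B π ≠ 0 := by
    intro h0
    apply hπ.ne_zero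
    apply hinjAL
    rw [map_zero]
    exact congrArg Subtype.val h0
  obtain ⟨e, w, hw⟩ := IsDiscreteValuationRing.eq_unit_mul_pow_irreducible hab0 hπBirr
  have he : Ideal.ramificationIdx' (maximalIdeal A) (maximalIdeal B) = e :=
    CompDvr.ramificationIdx'_eq hπA hπB hπBirr.ne_zero w e hw
  have hdvd' : e ∣ n := by rw [← he]; exact hdvd B hdomA
  obtain ⟨d, hd⟩ := hdvd'
  have he0 : e ≠ 0 := by rintro rfl; rw [zero_mul] at hd; exact hn0 hd
  have hd0 : d ≠ 0 := by rintro rfl; rw [mul_zero] at hd; exact hn0 hd
  have heA : ((e : ℕ) : ResidueField A) ≠ 0 := by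
    intro h0
    apply hnA
    rw [hd, Nat.cast_mul, h0, zero_mul]
  -- the elements x, y
  have hcompat' : ∀ a : A, algebraMap B L' (algebraMap A B a) = algebraMap A' L' (algebraMap A A' a) := by
    intro a
    rw [AdjoinRoot.algebraMap_eq, hcompat]
    rfl
  obtain ⟨x, hx⟩ : ∃ x : L', x = algebraMap A' L' (AdjoinRoot.root (X ^ n - C π : A[X])) := ⟨_, rfl⟩
  obtain ⟨y, hy⟩ : ∃ y : L', y = algebraMap B L' πB := ⟨_, rfl⟩
  have hinjBL' : Function.Injective (algebraMap B L') :=
    (algebraMap L L').injective.comp Subtype.val_injective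
  have hy0 : y ≠ 0 := by
    rw [hy]; exact fun h0 => hπBirr.ne_zero (hinjBL' (by rw [h0, map_zero]))
  have hxn : x ^ n = algebraMap B L' w * y ^ e := by
    rw [hx, ← map_pow, Groth.Agent.S1987.root_pow π n, ← AdjoinRoot.algebraMap_eq, ← hcompat', hw,
      map_mul, map_pow, ← hy]
  have hunitB : ∀ u : Bˣ, v (algebraMap B L' u) = 1 := by
    intro u
    have h1 := (hv _).mp (hWB.1 (u : B))
    have h2 := (hv _).mp (hWB.1 ((u⁻¹ : Bˣ) : B))
    have h3 : algebraMap B L' u * algebraMap B L' ((u⁻¹ : Bˣ) : B) = 1 := by
      rw [← map_mul, ← Units.val_mul, mul_inv_cancel, Units.val_one, map_one]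
    have h4 := congrArg v h3
    rw [map_mul, map_one] at h4
    refine le_antisymm h1 ?_
    calc (1 : WithZero (Multiplicative ℤ)) = v (algebraMap B L' u) * v (algebraMap B L' ((u⁻¹ : Bˣ) : B)) := h4.symm
      _ ≤ v (algebraMap B L' u) * 1 := mul_le_mul' le_rfl h2
      _ = _ := mul_one _
  have hw0 : algebraMap B L' w ≠ 0 := by
    intro h0
    have := hunitB w
    rw [h0, map_zero] at this
    exact zero_ne_one this
  have hx0 : x ≠ 0 := by
    intro h0
    rw [h0, zero_pow hn0] at hxn
    exact mul_ne_zero hw0 (pow_ne_zero _ hy0) hxn.symm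
  have hzn : (x ^ d / y) ^ e = algebraMap B L' w *
      algebraMap A' L' (((1 : A'ˣ) : A')) := by
    rw [Units.val_one, map_one, mul_one, div_pow, ← pow_mul, mul_comm d e, ← hd, hxn]
    field_simp
  have hzz : (x ^ d / y) * (y / x ^ d) = 1 := by
    field_simp
  have hvz : v (x ^ d / y) = 1 := by
    have h1 := congrArg v hzn
    rw [map_pow, map_mul, hunitB, Units.val_one, map_one, map_one, mul_one] at h1
    exact (pow_eq_one_iff_of_nonneg zero_le he0).mp h1
  have hzW : x ^ d / y ∈ W := (hv _).mpr hvz.le
  have hziW : y / x ^ d ∈ W := by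
    rw [hv]
    have h1 := congrArg v hzz
    rw [map_mul, hvz, one_mul, map_one] at h1
    exact h1.le
  -- residue field of A'
  have hsurjA' : Function.Surjective (algebraMap (ResidueField A) (ResidueField A')) := by
    intro r
    obtain ⟨b, rfl⟩ := residue_surjective r
    obtain ⟨a, c, rfl⟩ := Groth.Agent.S1987.decomp π n b
    refine ⟨residue A a, ?_⟩
    rw [IsLocalRing.ResidueField.algebraMap_residue, ← sub_eq_zero, ← map_sub, residue_eq_zero_iff,
      hmaxA', Ideal.mem_span_singleton, AdjoinRoot.algebraMap_eq]
    exact ⟨-c, by ring⟩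
  haveI hintQ : Algebra.IsIntegral (ResidueField A) (ResidueField A') :=
    Algebra.isIntegral_of_surjective hsurjA'
  haveI hfinQ : Module.Finite (ResidueField A) (ResidueField A') :=
    Module.Finite.of_surjective (Algebra.linearMap (ResidueField A) (ResidueField A')) hsurjA'
  haveI hsepQ : Algebra.IsSeparable (ResidueField A) (ResidueField A') :=
    ⟨fun r => by
      obtain ⟨r', rfl⟩ := hsurjA' r
      exact isSeparable_algebraMap r'⟩
  have hT : ∀ t : ResidueField B ⊗[ResidueField A] ResidueField A', ∃ u, t = t * t * u := by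
    haveI : Algebra.FormallyUnramified (ResidueField A) (ResidueField A') :=
      Algebra.FormallyUnramified.of_isSeparable _ _
    haveI : IsReduced (ResidueField B ⊗[ResidueField A] ResidueField A') :=
      Algebra.FormallyUnramified.isReduced_of_field (ResidueField B) _
    exact CompDvr.vnr_tensor_right (ResidueField A) (ResidueField B) (ResidueField A')
  have hgenR : ∀ t : L', t ∈ CompDvr.fracField (CompDvr.RR (algebraMap B L') (algebraMap A' L')) := by
    intro t
    have ht : t ∈ Algebra.adjoin L {algebraMap A' L' (AdjoinRoot.root (X ^ n - C π : A[X]))} := by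
      rw [hgen]; trivial
    induction ht using Algebra.adjoin_induction with
    | mem t ht =>
      rw [Set.mem_singleton_iff] at ht
      rw [ht]
      exact CompDvr.subring_le_fracField _ (CompDvr.jQ_mem _ _ _)
    | algebraMap l =>
      obtain ⟨b₁, b₂, hb₂, rfl⟩ := IsFractionRing.div_surjective (A := B) l
      rw [CompDvr.mem_fracField]
      refine ⟨algebraMap B L' b₁, CompDvr.jP_mem _ _ b₁, algebraMap B L' b₂, CompDvr.jP_mem _ _ b₂,
        ?_, ?_⟩
      · exact fun h0 => nonZeroDivisors.ne_zero hb₂ (hinjBL' (by rw [h0, map_zero]))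
      · rw [IsScalarTower.algebraMap_apply B L L' b₂, IsScalarTower.algebraMap_apply B L L' b₁,
          ← map_mul, div_mul_cancel₀]
        exact fun h0 => nonZeroDivisors.ne_zero hb₂
          (IsFractionRing.injective B L (by rw [h0, map_zero]))
    | add s t _ _ ihs iht => exact (CompDvr.fracField _).add_mem ihs iht
    | mul s t _ _ ihs iht => exact (CompDvr.fracField _).mul_mem ihs iht
  have hxmem : x ∈ CompDvr.RRz (algebraMap B L') (algebraMap A' L') (x ^ d / y) (y / x ^ d) := by
    rw [hx]; exact CompDvr.jQ_mem_z _ _ _ _ _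
  have hrootmem : AdjoinRoot.root (X ^ n - C π : A[X]) ∈ maximalIdeal A' := by
    rw [hmaxA']; exact Ideal.mem_span_singleton_self _
  have hπv : W.valuation x < 1 := by
    rw [hx]
    exact hW.2 _ hrootmem
  have hPπ : ∀ p ∈ maximalIdeal B, ∃ t ∈ CompDvr.RRz (algebraMap B L') (algebraMap A' L')
      (x ^ d / y) (y / x ^ d), algebraMap B L' p = x * t := by
    intro p hp
    rw [hπB, Ideal.mem_span_singleton'] at hp
    obtain ⟨c, rfl⟩ := hp
    refine ⟨algebraMap B L' c * x ^ (d - 1) * (y / x ^ d),
      Subring.mul_mem _ (Subring.mul_mem _ (CompDvr.jP_mem_z _ _ _ _ c)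
        (Subring.pow_mem _ hxmem _)) (CompDvr.zi_mem _ _ _ _), ?_⟩
    rw [map_mul, ← hy]
    obtain ⟨d', rfl⟩ : ∃ d', d = d' + 1 := ⟨d - 1, by omega⟩
    rw [Nat.add_sub_cancel]
    field_simp
    ring
  have hQπ : ∀ q ∈ maximalIdeal A', ∃ t ∈ CompDvr.RRz (algebraMap B L') (algebraMap A' L')
      (x ^ d / y) (y / x ^ d), algebraMap A' L' q = x * t := by
    intro q hq
    rw [hmaxA', Ideal.mem_span_singleton'] at hq
    obtain ⟨c, rfl⟩ := hq
    exact ⟨algebraMap A' L' c, CompDvr.jQ_mem_z _ _ _ _ c, by rw [map_mul, hx, mul_comm]⟩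
  obtain ⟨h1, h2⟩ := CompDvr.apply_root (algebraMap B L') (algebraMap A' L') (x ^ d / y) (y / x ^ d)
    W v hv hv1 hWB.1 hW.1 hzW hziW hcompat' x hxmem hx0 hπv hPπ hQπ hzz e he0 w 1 hzn heA hT hgenR
  constructor
  · -- weakly unramified
    unfold EtRam.IsWeaklyUnramified
    apply le_antisymm
    · exact IsLocalRing.map_maximalIdeal_le (algebraMap A' W)
    · intro t ht
      rw [ValuationSubring.valuation_lt_one_iff] at ht
      obtain ⟨y', hy', hty⟩ := h1 _ ht
      have ht' : t = (⟨y', hy'⟩ : W) * algebraMap A' W (AdjoinRoot.root (X ^ n - C π : A[X])) := by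
        apply Subtype.ext
        rw [hty, hx]; rfl
      rw [ht']
      apply Ideal.mul_mem_left
      exact Ideal.mem_map_of_mem _ hrootmem
  · -- separable residue field extension
    letI : Algebra B W := (RingHom.codRestrict (algebraMap B L') W hWB.1).toAlgebra
    haveI : IsLocalHom (algebraMap B W) := CompDvr.isLocalHom_codRestrict _ _ hWB
    letI : Algebra A W := ((algebraMap A' W).comp (algebraMap A A')).toAlgebra
    haveI : IsScalarTower A A' W := IsScalarTower.of_algebraMap_eq (fun _ => rfl)
    haveI : IsScalarTower A B W :=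
      IsScalarTower.of_algebraMap_eq (fun a => Subtype.ext (hcompat' a).symm)
    haveI : IsLocalHom (algebraMap A W) := by
      show IsLocalHom ((algebraMap A' W).comp (algebraMap A A'))
      exact RingHom.isLocalHom_comp _ _
    constructor
    intro t
    have ht := CompDvr.residue_mem_closure_root (algebraMap B L') (algebraMap A' L')
      (x ^ d / y) (y / x ^ d) W hWB.1 hW.1 hzW hziW h2 t
    have hQsep : ∀ q : A', residue W (algebraMap A' W q) ∈
        separableClosure (ResidueField A') (ResidueField W) := by
      intro q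
      rw [← IsLocalRing.ResidueField.algebraMap_residue]
      exact (separableClosure (ResidueField A') (ResidueField W)).algebraMap_mem _
    have hPsep : ∀ p : B, residue W (algebraMap B W p) ∈
        separableClosure (ResidueField A') (ResidueField W) := by
      intro p
      rw [mem_separableClosure_iff]
      have hp : IsSeparable (ResidueField A) (residue _ p) :=
        Algebra.IsSeparable.isSeparable (ResidueField A) _
      have hp' : IsSeparable (ResidueField A) (residue W (algebraMap B W p)) := by
        rw [← IsLocalRing.ResidueField.algebraMap_residue]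
        unfold IsSeparable at hp ⊢
        rwa [minpoly.algebraMap_eq (algebraMap (ResidueField B) (ResidueField W)).injective]
      exact hp'.tower_top (ResidueField A')
    have hzsep : residue W ⟨x ^ d / y, hzW⟩ ∈
        separableClosure (ResidueField A') (ResidueField W) := by
      rw [mem_separableClosure_iff]
      have hc : residue W (algebraMap B W (w : B)) ∈
          separableClosure (ResidueField A') (ResidueField W) := hPsep _
      have hzc : residue W ⟨x ^ d / y, hzW⟩ ^ e = residue W (algebraMap B W (w : B)) := by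
        rw [← map_pow]
        congr 1
        apply Subtype.ext
        show (x ^ d / y) ^ e = algebraMap B L' w
        rw [hzn, Units.val_one, map_one, mul_one]
      have hc0 : residue W (algebraMap B W (w : B)) ≠ 0 := by
        rw [← hzc]
        apply pow_ne_zero
        rw [Ne, residue_eq_zero_iff, ValuationSubring.valuation_lt_one_iff, hv1]
        show ¬ v (x ^ d / y) < 1
        rw [hvz]; exact lt_irrefl _
      have hgE : ((e : ℕ) : separableClosure (ResidueField A') (ResidueField W)) ≠ 0 := by
        intro h0
        apply heA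
        have h3 := congrArg (algebraMap (separableClosure (ResidueField A') (ResidueField W))
          (ResidueField W)) h0
        rw [map_natCast, map_zero] at h3
        have h4 : algebraMap (ResidueField A) (ResidueField W) ((e : ℕ) : ResidueField A) = 0 := by
          rw [map_natCast]; exact h3
        exact (map_eq_zero _).mp h4
      have hsepE : IsSeparable (separableClosure (ResidueField A') (ResidueField W))
          (residue W ⟨x ^ d / y, hzW⟩) := by
        have hpoly := Polynomial.separable_X_pow_sub_C
          (⟨_, hc⟩ : separableClosure (ResidueField A') (ResidueField W)) hgE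
          (fun h0 => hc0 (congrArg Subtype.val h0))
        apply hpoly.of_dvd
        apply minpoly.dvd
        rw [map_sub, map_pow, Polynomial.aeval_X, Polynomial.aeval_C, hzc]
        exact sub_self _
      exact IsSeparable.of_algebra_isSeparable_of_isSeparable (ResidueField A') hsepE
    have hzisep : residue W ⟨y / x ^ d, hziW⟩ ∈
        separableClosure (ResidueField A') (ResidueField W) := by
      have h3 : residue W ⟨x ^ d / y, hzW⟩ * residue W ⟨y / x ^ d, hziW⟩ = 1 := by
        rw [← map_mul, ← map_one (residue W)]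
        congr 1
        exact Subtype.ext hzz
      rw [eq_inv_of_mul_eq_one_right h3]
      exact inv_mem hzsep
    have hle : Subring.closure
        (Set.range (fun p => residue W (RingHom.codRestrict (algebraMap B L') W hWB.1 p)) ∪
          Set.range (fun q => residue W (RingHom.codRestrict (algebraMap A' L') W hW.1 q)) ∪
          {residue W ⟨x ^ d / y, hzW⟩, residue W ⟨y / x ^ d, hziW⟩}) ≤
        (separableClosure (ResidueField A') (ResidueField W)).toSubring := by
      apply Subring.closure_le.mpr
      rintro _ ((⟨p, rfl⟩ | ⟨q, rfl⟩) | (rfl | rfl))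
      · exact hPsep p
      · exact hQsep q
      · exact hzsep
      · exact hzisep
    exact mem_separableClosure_iff.mp (hle ht)

end Main

end RootExt

end Groth.Agent.Lib.helper10
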