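import Mathlib
import Groth.Agent.S1987

/-!
`A[x]/(x^n - π)` for `n ≥ 1` (helper10): local ring with maximal ideal generated by the root.
(Variants of the lemmas of S1987 without the assumption `2 ≤ n`.)
-/

set_option autoImplicit false
set_option linter.unusedSectionVars false
set_option linter.style.haveILetI false

universe u

open Polynomial

namespace Groth.Agent.Lib.helper10

namespace RootExt

section
variable {A : Type u} [CommRing A] [IsDomain A] [IsDiscreteValuationRing A]

lemma monic_f' (π : A) (n : ℕ) (hn : n ≠ 0) : (X ^ n - C π : A[X]).Monic :=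
  monic_X_pow_sub_C π hn

/-- the map `B → A/(π)` killing the root. -/
noncomputable def phi' (π : A) (n : ℕ) (hn : n ≠ 0) :
    AdjoinRoot (X ^ n - C π : A[X]) →+* A ⧸ Ideal.span {π} :=
  AdjoinRoot.lift (Ideal.Quotient.mk _) 0 (by
    rw [eval₂_sub, eval₂_pow, eval₂_X, eval₂_C, zero_pow hn, zero_sub, neg_eq_zero,
      Ideal.Quotient.eq_zero_iff_mem]
    exact Ideal.mem_span_singleton_self π)

lemma phi'_surj (π : A) (n : ℕ) (hn : n ≠ 0) : Function.Surjective (phi' π n hn) := by
  intro y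
  obtain ⟨a, rfl⟩ := Ideal.Quotient.mk_surjective y
  exact ⟨AdjoinRoot.of _ a, by simp [phi']⟩

lemma ker_phi' (π : A) (n : ℕ) (hn : n ≠ 0) :
    RingHom.ker (phi' π n hn) = Ideal.span {AdjoinRoot.root (X ^ n - C π : A[X])} := by
  apply le_antisymm
  · intro b hb
    rw [RingHom.mem_ker] at hb
    obtain ⟨a, c, rfl⟩ := Groth.Agent.S1987.decomp π n b
    have h1 : phi' π n hn (AdjoinRoot.of _ a + AdjoinRoot.root _ * c) = Ideal.Quotient.mk _ a := by
      simp [phi']
    rw [h1, Ideal.Quotient.eq_zero_iff_mem, Ideal.mem_span_singleton] at hb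
    obtain ⟨a', rfl⟩ := hb
    rw [Ideal.mem_span_singleton]
    refine ⟨AdjoinRoot.root _ ^ (n - 1) * AdjoinRoot.of _ a' + c, ?_⟩
    have hp : AdjoinRoot.root (X ^ n - C π : A[X]) ^ n =
        AdjoinRoot.root _ * AdjoinRoot.root _ ^ (n - 1) := by
      rw [← pow_succ']
      congr 1
      omega
    rw [map_mul, ← Groth.Agent.S1987.root_pow π n, hp]
    ring
  · rw [Ideal.span_le, Set.singleton_subset_iff, SetLike.mem_coe, RingHom.mem_ker]
    simp [phi']

lemma span_root_isMaximal' (π : A) (hπ : Irreducible π) (n : ℕ) (hn : n ≠ 0) :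
    (Ideal.span {AdjoinRoot.root (X ^ n - C π : A[X])}).IsMaximal := by
  rw [← ker_phi' π n hn]
  haveI := Groth.Agent.S1987.span_pi_isMaximal π hπ
  letI := Ideal.Quotient.field (Ideal.span {π} : Ideal A)
  exact RingHom.ker_isMaximal_of_surjective _ (phi'_surj π n hn)

lemma isLocalRing_B' (π : A) (hπ : Irreducible π) (n : ℕ) (hn : n ≠ 0) :
    IsLocalRing (AdjoinRoot (X ^ n - C π : A[X])) := by
  apply IsLocalRing.of_unique_max_ideal
  refine ⟨_, span_root_isMaximal' π hπ n hn, ?_⟩
  intro M hM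
  haveI : Module.Finite A (AdjoinRoot (X ^ n - C π : A[X])) := (monic_f' π n hn).finite_adjoinRoot
  haveI : Algebra.IsIntegral A (AdjoinRoot (X ^ n - C π : A[X])) := Algebra.IsIntegral.of_finite _ _
  have h1 : (M.comap (algebraMap A (AdjoinRoot (X ^ n - C π : A[X])))).IsMaximal :=
    Ideal.isMaximal_comap_of_isIntegral_of_isMaximal M
  have h2 := IsLocalRing.eq_maximalIdeal h1
  have h3 : π ∈ M.comap (algebraMap A (AdjoinRoot (X ^ n - C π : A[X]))) := by
    rw [h2, hπ.maximalIdeal_eq]
    exact Ideal.mem_span_singleton_self π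
  rw [Ideal.mem_comap, AdjoinRoot.algebraMap_eq, ← Groth.Agent.S1987.root_pow π n] at h3
  have h4 : AdjoinRoot.root (X ^ n - C π : A[X]) ∈ M := hM.isPrime.mem_of_pow_mem n h3
  have h5 : Ideal.span {AdjoinRoot.root (X ^ n - C π : A[X])} ≤ M := by
    rw [Ideal.span_le, Set.singleton_subset_iff]; exact h4
  exact ((span_root_isMaximal' π hπ n hn).eq_of_le hM.ne_top h5).symm

lemma maximalIdeal_B' (π : A) (hπ : Irreducible π) (n : ℕ) (hn : n ≠ 0)
    [IsLocalRing (AdjoinRoot (X ^ n - C π : A[X]))] :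
    IsLocalRing.maximalIdeal (AdjoinRoot (X ^ n - C π : A[X])) =
      Ideal.span {AdjoinRoot.root (X ^ n - C π : A[X])} :=
  (IsLocalRing.eq_maximalIdeal (span_root_isMaximal' π hπ n hn)).symm

end

end RootExt

end Groth.Agent.Lib.helper10
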