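import Mathlib

/-!
Reflection-invariant quadratic forms on the coweight module of a root pairing (helper10).
-/

set_option autoImplicit false

namespace Groth.Agent.Lib.helper10

section general

variable {R : Type*} {N : Type*} [CommRing R] [AddCommGroup N] [Module R N]

/-- Expansion of a quadratic form along `y - c • a`. -/
theorem quad_sub_smul (Q : QuadraticMap R N R) (y a : N) (c : R) :
    Q (y - c • a) = Q y + c * c * Q a - c * QuadraticMap.polar Q y a := by
  have h1 : y - c • a = y + (-c) • a := by rw [neg_smul, sub_eq_add_neg]
  rw [h1, QuadraticMap.map_add (⇑Q), QuadraticMap.map_smul, QuadraticMap.polar_smul_right]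
  simp only [smul_eq_mul]
  ring

end general

section root

variable {ι R M N : Type*} [CommRing R] [IsDomain R] [CharZero R]
  [AddCommGroup M] [Module R M] [AddCommGroup N] [Module R N] (P : RootPairing ι R M N)

/-- If `Q` is invariant under the coreflection `j` on a submodule `D` containing the coroot `j`, then
`B(y, α^∨) = ⟨α, y⟩ Q(α^∨)` for `y ∈ D`. -/
theorem polar_coroot_of_invariant_on (Q : QuadraticMap R N R) (j : ι) (D : Submodule R N)
    (hD : P.coroot j ∈ D) (h : ∀ y ∈ D, Q (P.coreflection j y) = Q y) :
    ∀ y ∈ D, QuadraticMap.polar Q y (P.coroot j) = P.root' j y * Q (P.coroot j) := by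
  have key : ∀ y ∈ D, P.root' j y ≠ 0 →
      QuadraticMap.polar Q y (P.coroot j) = P.root' j y * Q (P.coroot j) := by
    intro y hy hc
    have h1 := h y hy
    rw [P.coreflection_apply, quad_sub_smul] at h1
    have h2 : P.root' j y * (P.root' j y * Q (P.coroot j) - QuadraticMap.polar Q y (P.coroot j)) = 0 := by
      linear_combination h1
    rcases mul_eq_zero.mp h2 with h3 | h3
    · exact absurd h3 hc
    · exact (sub_eq_zero.mp h3).symm
  intro y hy
  by_cases hc : P.root' j y = 0
  · have h2 : P.root' j (y + P.coroot j) ≠ 0 := by
      rw [map_add, hc, zero_add, P.root'_coroot_eq_pairing, P.pairing_same]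
      exact two_ne_zero
    have h3 := key (y + P.coroot j) (D.add_mem hy hD) h2
    rw [QuadraticMap.polar_add_left, QuadraticMap.polar_self, map_add, hc, zero_add,
      P.root'_coroot_eq_pairing, P.pairing_same] at h3
    rw [hc, zero_mul]
    simp only [nsmul_eq_mul, Nat.cast_ofNat] at h3
    linear_combination h3
  · exact key y hy hc

omit [IsDomain R] [CharZero R] in
/-- Converse: the polar identity at `y` gives invariance at `y`. -/
theorem invariant_of_polar_coroot (Q : QuadraticMap R N R) (j : ι) (y : N)
    (h : QuadraticMap.polar Q y (P.coroot j) = P.root' j y * Q (P.coroot j)) :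
    Q (P.coreflection j y) = Q y := by
  rw [P.coreflection_apply, quad_sub_smul, h]
  ring

end root

end Groth.Agent.Lib.helper10
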