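import Mathlib

/-!
Strict-henselization-like extensions of discrete valuation rings (helper10), part 1:
the algebraic core of "adjoining an étale-integral element does not ramify".
-/

set_option autoImplicit false
set_option linter.unusedSectionVars false
set_option linter.style.haveILetI false

universe u

open IsLocalRing Polynomial

namespace Groth.Agent.Lib.helper10

namespace SHens

section ClaimA

variable {R₀ S : Type u} [CommRing R₀] [IsLocalRing R₀] [CommRing S] [IsLocalRing S]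
  (φ : R₀ →+* S) [IsLocalHom φ]

theorem residue_eval₂ (θ : S) (Q : R₀[X]) :
    residue S (Q.eval₂ φ θ) =
      (Q.map (residue R₀)).eval₂ (ResidueField.map φ) (residue S θ) := by
  rw [eval₂_map, Polynomial.hom_eval₂]
  congr 1

/-- if `P(θ)` is a non-unit, where `θ` is a simple root mod `𝔪` of `g` with `g(θ) = 0`, then after
multiplying by a unit of the form `r(θ)`, `P(θ)` becomes divisible by the uniformizer. -/
theorem claimA (π : R₀) (hπ : maximalIdeal R₀ = Ideal.span {π})
    (θ : S) (g : R₀[X]) (hgθ : g.eval₂ φ θ = 0) (hg' : IsUnit (g.derivative.eval₂ φ θ))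
    (P : R₀[X]) (hP : P.eval₂ φ θ ∈ maximalIdeal S) :
    ∃ r T : R₀[X], IsUnit (r.eval₂ φ θ) ∧ P.eval₂ φ θ * r.eval₂ φ θ = φ π * T.eval₂ φ θ := by
  classical
  set ψ := ResidueField.map φ with hψ
  set θb := residue S θ with hθb
  have hPb : (P.map (residue R₀)).eval₂ ψ θb = 0 := by
    rw [← residue_eval₂, residue_eq_zero_iff]; exact hP
  have hgb : (g.map (residue R₀)).eval₂ ψ θb = 0 := by
    rw [← residue_eval₂, hgθ, map_zero]
  have hgb' : (derivative (g.map (residue R₀))).eval₂ ψ θb ≠ 0 := by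
    rw [derivative_map, ← residue_eval₂, Ne, residue_eq_zero_iff, mem_maximalIdeal, mem_nonunits_iff,
      not_not]
    exact hg'
  -- the gcd
  obtain ⟨rb, hrb⟩ : EuclideanDomain.gcd (P.map (residue R₀)) (g.map (residue R₀)) ∣
      g.map (residue R₀) := EuclideanDomain.gcd_dvd_right _ _
  obtain ⟨sb, hsb⟩ : EuclideanDomain.gcd (P.map (residue R₀)) (g.map (residue R₀)) ∣
      P.map (residue R₀) := EuclideanDomain.gcd_dvd_left _ _
  have hdb : (EuclideanDomain.gcd (P.map (residue R₀)) (g.map (residue R₀))).eval₂ ψ θb = 0 := by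
    rw [EuclideanDomain.gcd_eq_gcd_ab, eval₂_add, eval₂_mul, eval₂_mul, hPb, hgb, zero_mul,
      zero_mul, add_zero]
  have hrb0 : rb.eval₂ ψ θb ≠ 0 := by
    intro h0
    apply hgb'
    rw [hrb, derivative_mul, eval₂_add, eval₂_mul, eval₂_mul, h0, hdb, mul_zero, zero_mul,
      add_zero]
  have hPr : P.map (residue R₀) * rb = sb * g.map (residue R₀) := by
    conv_lhs => rw [hsb]
    conv_rhs => rw [hrb]
    ring
  obtain ⟨r, hr⟩ := Polynomial.map_surjective (residue R₀) residue_surjective rb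
  obtain ⟨s, hs⟩ := Polynomial.map_surjective (residue R₀) residue_surjective sb
  have hD : (P * r - s * g).map (residue R₀) = 0 := by
    rw [Polynomial.map_sub, Polynomial.map_mul, Polynomial.map_mul, hr, hs, hPr, sub_self]
  have hDmem : P * r - s * g ∈ Ideal.map (C : R₀ →+* R₀[X]) (Ideal.span {π}) := by
    rw [Ideal.mem_map_C_iff]
    intro n
    have h1 := congrArg (fun q => q.coeff n) hD
    simp only [coeff_map, coeff_zero] at h1
    rw [← hπ, ← residue_eq_zero_iff]
    exact h1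
  rw [Ideal.map_span, Set.image_singleton, Ideal.mem_span_singleton'] at hDmem
  obtain ⟨T, hT⟩ := hDmem
  refine ⟨r, T, ?_, ?_⟩
  · have h1 : residue S (r.eval₂ φ θ) ≠ 0 := by
      rw [residue_eval₂, hr]; exact hrb0
    rw [Ne, residue_eq_zero_iff, mem_maximalIdeal, mem_nonunits_iff, not_not] at h1
    exact h1
  · have h2 := congrArg (fun q => q.eval₂ φ θ) hT
    simp only [eval₂_mul, eval₂_sub, eval₂_C, hgθ, mul_zero, sub_zero] at h2
    rw [← h2]; ring

end ClaimA

section ClaimB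

variable {R₀ S : Type u} [CommRing R₀] [IsLocalRing R₀] [CommRing S] [IsLocalRing S]
  (φ : R₀ →+* S) [IsLocalHom φ]

/-- iterating `claimA`: a polynomial expression `P(θ)` which is not infinitely divisible by the
uniformizer is, up to units of the form `r(θ)`, a power of the uniformizer. -/
theorem claimB (π : R₀) (hπ : maximalIdeal R₀ = Ideal.span {π})
    (θ : S) (g : R₀[X]) (hgθ : g.eval₂ φ θ = 0) (hg' : IsUnit (g.derivative.eval₂ φ θ))
    (P : R₀[X]) (hfin : ∃ k : ℕ, ¬ (φ π) ^ k ∣ P.eval₂ φ θ) :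
    ∃ (k : ℕ) (r z : R₀[X]), IsUnit (r.eval₂ φ θ) ∧ IsUnit (z.eval₂ φ θ) ∧
      P.eval₂ φ θ * r.eval₂ φ θ = (φ π) ^ k * z.eval₂ φ θ := by
  obtain ⟨k₀, hk₀⟩ := hfin
  have key : ∀ j k : ℕ, k₀ - k = j → ∀ r z : R₀[X], IsUnit (r.eval₂ φ θ) →
      P.eval₂ φ θ * r.eval₂ φ θ = (φ π) ^ k * z.eval₂ φ θ →
      ∃ (k' : ℕ) (r' z' : R₀[X]), IsUnit (r'.eval₂ φ θ) ∧ IsUnit (z'.eval₂ φ θ) ∧
        P.eval₂ φ θ * r'.eval₂ φ θ = (φ π) ^ k' * z'.eval₂ φ θ := by
    intro j
    induction j with
    | zero =>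
      intro k hk r z hr hPr
      exfalso
      apply hk₀
      have hle : k₀ ≤ k := Nat.sub_eq_zero_iff_le.mp hk
      obtain ⟨u, hu⟩ := hr
      have h1 : P.eval₂ φ θ = (φ π) ^ k * z.eval₂ φ θ * ((u⁻¹ : Sˣ) : S) := by
        rw [← hPr, ← hu, mul_assoc, Units.mul_inv, mul_one]
      rw [h1, mul_assoc]
      exact Dvd.dvd.mul_right (pow_dvd_pow _ hle) _
    | succ j ih =>
      intro k hk r z hr hPr
      by_cases hz : IsUnit (z.eval₂ φ θ)
      · exact ⟨k, r, z, hr, hz, hPr⟩
      · have hzm : z.eval₂ φ θ ∈ maximalIdeal S := (mem_maximalIdeal _).mpr hz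
        obtain ⟨r₁, T, hr₁, hT⟩ := claimA φ π hπ θ g hgθ hg' z hzm
        refine ih (k + 1) (by omega) (r * r₁) T ?_ ?_
        · rw [eval₂_mul]; exact hr.mul hr₁
        · rw [eval₂_mul, ← mul_assoc, hPr, mul_assoc, hT, pow_succ]
          ring
  exact key (k₀ - 0) 0 rfl 1 P (by rw [eval₂_one]; exact isUnit_one)
    (by rw [eval₂_one, mul_one, pow_zero, one_mul])

end ClaimB

end SHens

end Groth.Agent.Lib.helper10
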