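import Mathlib
import Groth.Prelude.Def_EtRam
import Groth.Agent.Lib.Helper10.TotRam1
import Groth.Agent.Lib.Helper10.EppSol8
import Groth.Agent.Lib.Helper10.SHens1

/-!
Strict-henselization-like extensions of discrete valuation rings (helper10), part 2:
adjoining an étale-integral element to a discretely valued field keeps the value group and
gives a residue extension generated by the residue of the element.
-/

set_option autoImplicit false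
set_option linter.unusedSectionVars false
set_option linter.style.haveILetI false

universe u

open IsLocalRing Polynomial IntermediateField

namespace Groth.Agent.Lib.helper10

namespace SHens

section KL1

variable {F Ω : Type u} [Field F] [Field Ω] [Algebra F Ω] (𝒪 : ValuationSubring Ω)

/-- the valuation ring induced on `F`. -/
abbrev VF : ValuationSubring F := 𝒪.comap (algebraMap F Ω)

/-- the inclusion `𝒪 ∩ F → 𝒪`. -/
abbrev incl : VF (F := F) 𝒪 →+* 𝒪 := EtRam.inclOfComap 𝒪 (algebraMap F Ω)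

/-- `F` is discretely valued with uniformizer `π`. -/
def IsDisc (π : F) : Prop :=
  π ≠ 0 ∧ 𝒪.valuation (algebraMap F Ω π) < 1 ∧
    ∀ x : F, x ≠ 0 → ∃ n : ℤ, 𝒪.valuation (algebraMap F Ω x) = 𝒪.valuation (algebraMap F Ω π) ^ n

variable {𝒪}

theorem IsDisc.val_ne_zero {π : F} (h : IsDisc 𝒪 π) : 𝒪.valuation (algebraMap F Ω π) ≠ 0 :=
  (Valuation.ne_zero_iff _).mpr ((_root_.map_ne_zero _).mpr h.1)

theorem zpow_lt_one_iff' {Γ : Type*} [LinearOrderedCommGroupWithZero Γ] {a : Γ} (ha0 : a ≠ 0)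
    (ha1 : a < 1) (n : ℤ) : a ^ n < 1 ↔ 0 < n := by
  constructor
  · intro h
    by_contra hn
    rw [not_lt] at hn
    have h1 : 1 ≤ a ^ n := by
      obtain ⟨m, rfl⟩ : ∃ m : ℕ, n = -(m : ℤ) := ⟨(-n).toNat, by omega⟩
      rw [zpow_neg, zpow_natCast, one_le_inv₀ (zero_lt_iff.mpr (pow_ne_zero _ ha0))]
      exact pow_le_one' ha1.le m
    exact absurd h (not_lt.mpr h1)
  · intro h
    obtain ⟨m, rfl⟩ : ∃ m : ℕ, n = (m : ℤ) + 1 := ⟨(n - 1).toNat, by omega⟩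
    rw [zpow_add_one₀ ha0, zpow_natCast]
    calc a ^ m * a ≤ 1 * a := mul_le_mul' (pow_le_one' ha1.le m) le_rfl
      _ = a := one_mul a
      _ < 1 := ha1

theorem zpow_eq_one_iff' {Γ : Type*} [LinearOrderedCommGroupWithZero Γ] {a : Γ} (ha0 : a ≠ 0)
    (ha1 : a < 1) (n : ℤ) : a ^ n = 1 ↔ n = 0 := by
  constructor
  · intro h
    by_contra hn
    rcases lt_or_gt_of_ne hn with hlt | hgt
    · have h1 : a ^ (-n) < 1 := (zpow_lt_one_iff' ha0 ha1 (-n)).mpr (by omega)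
      rw [zpow_neg, h, inv_one] at h1
      exact lt_irrefl _ h1
    · have h1 : a ^ n < 1 := (zpow_lt_one_iff' ha0 ha1 n).mpr hgt
      rw [h] at h1
      exact lt_irrefl _ h1
  · rintro rfl
    exact zpow_zero a

/-- the maximal ideal of `𝒪 ∩ F` is generated by the uniformizer. -/
theorem IsDisc.maximalIdeal_eq {π : F} (h : IsDisc 𝒪 π) (hπV : π ∈ VF (F := F) 𝒪) :
    maximalIdeal (VF (F := F) 𝒪) = Ideal.span {⟨π, hπV⟩} := by
  have hv0 := h.val_ne_zero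
  apply le_antisymm
  · intro x hx
    rw [ValuationSubring.valuation_lt_one_iff, TotRam.comap_val_lt_one_iff] at hx
    by_cases hx0 : (x : F) = 0
    · have : x = 0 := Subtype.ext hx0
      rw [this]; exact zero_mem _
    obtain ⟨n, hn⟩ := h.2.2 x hx0
    rw [hn, zpow_lt_one_iff' hv0 h.2.1] at hx
    rw [Ideal.mem_span_singleton']
    have hmem : (x : F) / π ∈ VF (F := F) 𝒪 := by
      rw [ValuationSubring.mem_comap, ← ValuationSubring.valuation_le_one_iff, map_div₀, map_div₀,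
        hn]
      rw [div_le_one₀ (zero_lt_iff.mpr hv0)]
      obtain ⟨m, rfl⟩ : ∃ m : ℕ, n = (m : ℤ) + 1 := ⟨(n - 1).toNat, by omega⟩
      rw [zpow_add_one₀ hv0, zpow_natCast]
      calc 𝒪.valuation (algebraMap F Ω π) ^ m * 𝒪.valuation (algebraMap F Ω π)
          ≤ 1 * 𝒪.valuation (algebraMap F Ω π) := mul_le_mul' (pow_le_one' h.2.1.le m) le_rfl
        _ = _ := one_mul _
    refine ⟨⟨_, hmem⟩, ?_⟩
    apply Subtype.ext
    show (x : F) / π * π = x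
    rw [div_mul_cancel₀ _ h.1]
  · rw [Ideal.span_le, Set.singleton_subset_iff, SetLike.mem_coe,
      ValuationSubring.valuation_lt_one_iff, TotRam.comap_val_lt_one_iff]
    exact h.2.1

end KL1

section KL1b

variable {F Ω : Type u} [Field F] [Field Ω] [Algebra F Ω] {𝒪 : ValuationSubring Ω}

/-- elements algebraic over a discretely valued field are not infinitely small. -/
theorem IsDisc.exists_pow_lt {π : F} (h : IsDisc 𝒪 π) (y : Ω) (hy : IsAlgebraic F y)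
    (hy0 : y ≠ 0) : ∃ k : ℕ, 𝒪.valuation (algebraMap F Ω π) ^ k < 𝒪.valuation y := by
  have hv0 := h.val_ne_zero
  letI algV : Algebra (VF (F := F) 𝒪) Ω :=
    ((algebraMap F Ω).comp (VF (F := F) 𝒪).subtype).toAlgebra
  haveI : IsScalarTower (VF (F := F) 𝒪) F Ω := IsScalarTower.of_algebraMap_eq (fun _ => rfl)
  have hyi : IsAlgebraic F y⁻¹ := hy.inv
  have hyi' : IsAlgebraic (VF (F := F) 𝒪) y⁻¹ := by
    rw [IsFractionRing.isAlgebraic_iff (VF (F := F) 𝒪) F Ω]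
    exact hyi
  obtain ⟨d, hd0, hdint⟩ := hyi'.exists_integral_multiple
  have hmem : d • y⁻¹ ∈ 𝒪 := EppSol.mem_of_isIntegral 𝒪 (fun x => x.2) _ hdint
  have hd0' : (d : F) ≠ 0 := fun h0 => hd0 (Subtype.ext h0)
  obtain ⟨n, hn⟩ := h.2.2 d hd0'
  rw [Algebra.smul_def, ← ValuationSubring.valuation_le_one_iff, map_mul, map_inv₀] at hmem
  have hvy0 : 𝒪.valuation y ≠ 0 := (Valuation.ne_zero_iff _).mpr hy0
  have hle : 𝒪.valuation (algebraMap F Ω d) ≤ 𝒪.valuation y := by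
    have h1 : 𝒪.valuation (algebraMap (VF (F := F) 𝒪) Ω d) * (𝒪.valuation y)⁻¹ *
        𝒪.valuation y ≤ 1 * 𝒪.valuation y := mul_le_mul' hmem le_rfl
    rw [one_mul, mul_assoc, inv_mul_cancel₀ hvy0, mul_one] at h1
    exact h1
  refine ⟨n.toNat + 1, lt_of_lt_of_le ?_ hle⟩
  rw [hn, ← zpow_natCast]
  apply zpow_lt_zpow_right_of_lt_one₀ (zero_lt_iff.mpr hv0) h.2.1
  push_cast
  omega

/-- clearing denominators in a polynomial expression. -/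
theorem IsDisc.exists_clear {π : F} (h : IsDisc 𝒪 π) (hπV : π ∈ VF (F := F) 𝒪) (θ : 𝒪)
    (P₀ : F[X]) : ∃ (N : ℕ) (P : (VF (F := F) 𝒪)[X]),
      aeval (θ : Ω) P₀ * algebraMap F Ω π ^ N = ((P.eval₂ (incl 𝒪) θ : 𝒪) : Ω) := by
  have hv0 := h.val_ne_zero
  induction P₀ using Polynomial.induction_on' with
  | add p q hp hq =>
    obtain ⟨N₁, P₁, h₁⟩ := hp
    obtain ⟨N₂, P₂, h₂⟩ := hq
    refine ⟨N₁ + N₂, C (⟨π, hπV⟩ ^ N₂) * P₁ + C (⟨π, hπV⟩ ^ N₁) * P₂, ?_⟩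
    rw [eval₂_add, eval₂_mul, eval₂_mul, eval₂_C, eval₂_C, map_add, add_mul, pow_add]
    have e1 : ((incl 𝒪 (⟨π, hπV⟩ ^ N₂) * P₁.eval₂ (incl 𝒪) θ + incl 𝒪 (⟨π, hπV⟩ ^ N₁) *
        P₂.eval₂ (incl 𝒪) θ : 𝒪) : Ω) =
        algebraMap F Ω π ^ N₂ * ((P₁.eval₂ (incl 𝒪) θ : 𝒪) : Ω) +
        algebraMap F Ω π ^ N₁ * ((P₂.eval₂ (incl 𝒪) θ : 𝒪) : Ω) := by
      simp only [map_pow]
      rfl
    rw [e1, ← h₁, ← h₂]
    ring
  | monomial i c =>
    by_cases hc : c = 0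
    · refine ⟨0, 0, ?_⟩
      rw [hc, monomial_zero_right, map_zero, zero_mul, eval₂_zero]
      rfl
    obtain ⟨n, hn⟩ := h.2.2 c hc
    have hmem : c * π ^ (-n).toNat ∈ VF (F := F) 𝒪 := by
      rw [ValuationSubring.mem_comap, ← ValuationSubring.valuation_le_one_iff, map_mul, map_mul,
        hn, map_pow, map_pow, ← zpow_natCast, ← zpow_add₀ hv0]
      have h1 : (0 : ℤ) ≤ n + ((-n).toNat : ℤ) := by omega
      rcases h1.eq_or_lt with h1 | h1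
      · rw [← h1, zpow_zero]
      · exact (zpow_lt_one₀ (zero_lt_iff.mpr hv0) h.2.1 h1).le
    refine ⟨(-n).toNat, monomial i ⟨_, hmem⟩, ?_⟩
    rw [aeval_monomial, eval₂_monomial]
    show algebraMap F Ω c * (θ : Ω) ^ i * algebraMap F Ω π ^ (-n).toNat =
      algebraMap F Ω (c * π ^ (-n).toNat) * ((θ ^ i : 𝒪) : Ω)
    rw [map_mul, map_pow]
    push_cast
    ring

end KL1b

section KL1c

variable {F Ω : Type u} [Field F] [Field Ω] [Algebra F Ω] {𝒪 : ValuationSubring Ω}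

theorem coe_eval₂_incl (θ : 𝒪) (Q : (VF (F := F) 𝒪)[X]) :
    ((Q.eval₂ (incl 𝒪) θ : 𝒪) : Ω) = aeval (θ : Ω) (Q.map (VF (F := F) 𝒪).subtype) := by
  rw [aeval_def, eval₂_map]
  exact Polynomial.hom_eval₂ Q (incl 𝒪) 𝒪.subtype θ

theorem isUnit_iff_val {x : 𝒪} : IsUnit x ↔ 𝒪.valuation (x : Ω) = 1 :=
  ValuationSubring.valuation_eq_one_iff 𝒪 x

/-- **Key lemma**: adjoining a root `θ` of a monic polynomial over `𝒪 ∩ F` at which the derivative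
is a unit. Every nonzero element of `F(θ)` is, up to units of the form `r(θ)`, `z(θ)`, a power of
the uniformizer of `F`. -/
theorem IsDisc.adjoin_root {π : F} (h : IsDisc 𝒪 π) (θ : 𝒪) (g : (VF (F := F) 𝒪)[X])
    (hgm : g.Monic) (hgθ : g.eval₂ (incl 𝒪) θ = 0)
    (hg' : IsUnit (g.derivative.eval₂ (incl 𝒪) θ))
    (y : Ω) (hy : y ∈ F⟮(θ : Ω)⟯) (hy0 : y ≠ 0) :
    ∃ (n : ℤ) (r z : (VF (F := F) 𝒪)[X]), IsUnit (r.eval₂ (incl 𝒪) θ) ∧
      IsUnit (z.eval₂ (incl 𝒪) θ) ∧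
      y * ((r.eval₂ (incl 𝒪) θ : 𝒪) : Ω) =
        algebraMap F Ω π ^ n * ((z.eval₂ (incl 𝒪) θ : 𝒪) : Ω) := by
  have hv0 := h.val_ne_zero
  have hπΩ : algebraMap F Ω π ≠ 0 := (_root_.map_ne_zero _).mpr h.1
  have hπV : π ∈ VF (F := F) 𝒪 := by
    rw [ValuationSubring.mem_comap, ← ValuationSubring.valuation_le_one_iff]
    exact h.2.1.le
  have hmax := h.maximalIdeal_eq hπV
  -- `θ` is integral over `F`
  have hθint : IsIntegral F (θ : Ω) := by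
    refine ⟨g.map (VF (F := F) 𝒪).subtype, hgm.map _, ?_⟩
    rw [← aeval_def, ← coe_eval₂_incl, hgθ]
    rfl
  have hyadj : y ∈ Algebra.adjoin F {(θ : Ω)} := by
    rw [← IntermediateField.adjoin_simple_toSubalgebra_of_isAlgebraic hθint.isAlgebraic]
    exact hy
  have hyint : IsIntegral F y := IsIntegral.of_mem_of_fg _ hθint.fg_adjoin_singleton y hyadj
  rw [Algebra.adjoin_singleton_eq_range_aeval] at hyadj
  obtain ⟨P₀, hP₀⟩ := hyadj
  replace hP₀ : aeval (θ : Ω) P₀ = y := hP₀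
  subst hP₀
  obtain ⟨N, P, hNP⟩ := h.exists_clear hπV θ P₀
  have hP0 : ((P.eval₂ (incl 𝒪) θ : 𝒪) : Ω) ≠ 0 := by
    rw [← hNP]
    exact mul_ne_zero hy0 (pow_ne_zero _ hπΩ)
  have hPalg : IsAlgebraic F ((P.eval₂ (incl 𝒪) θ : 𝒪) : Ω) := by
    rw [← hNP]
    exact (hyint.mul ((isIntegral_algebraMap).pow N)).isAlgebraic
  obtain ⟨k₀, hk₀⟩ := h.exists_pow_lt _ hPalg hP0
  have hfin : ∃ k : ℕ, ¬ (incl (F := F) 𝒪 ⟨π, hπV⟩) ^ k ∣ P.eval₂ (incl 𝒪) θ := by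
    refine ⟨k₀, ?_⟩
    rintro ⟨c, hc⟩
    have h1 : 𝒪.valuation ((P.eval₂ (incl 𝒪) θ : 𝒪) : Ω) = 𝒪.valuation ((incl (F := F) 𝒪 ⟨π, hπV⟩ ^ k₀ * c : 𝒪) : Ω) := congrArg (fun x : 𝒪 => 𝒪.valuation (x : Ω)) hc
    rw [h1] at hk₀
    have h2 : ((incl (F := F) 𝒪 ⟨π, hπV⟩ ^ k₀ * c : 𝒪) : Ω) = algebraMap F Ω π ^ k₀ * (c : Ω) := by
      push_cast
      rfl
    rw [h2, map_mul, map_pow] at hk₀
    have h3 : 𝒪.valuation (algebraMap F Ω π) ^ k₀ * 𝒪.valuation (c : Ω) ≤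
        𝒪.valuation (algebraMap F Ω π) ^ k₀ * 1 :=
      mul_le_mul' le_rfl ((ValuationSubring.valuation_le_one_iff 𝒪 _).mpr c.2)
    rw [mul_one] at h3
    exact absurd hk₀ (not_lt.mpr h3)
  obtain ⟨k, r, z, hr, hz, hrz⟩ := claimB (incl (F := F) 𝒪) ⟨π, hπV⟩ hmax θ g hgθ hg' P hfin
  refine ⟨(k : ℤ) - N, r, z, hr, hz, ?_⟩
  have h1 : ((P.eval₂ (incl 𝒪) θ * r.eval₂ (incl 𝒪) θ : 𝒪) : Ω) = ((incl (F := F) 𝒪 ⟨π, hπV⟩ ^ k * z.eval₂ (incl 𝒪) θ : 𝒪) : Ω) := congrArg (fun x : 𝒪 => (x : Ω)) hrz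
  have h2 : ((P.eval₂ (incl 𝒪) θ * r.eval₂ (incl 𝒪) θ : 𝒪) : Ω) =
      ((P.eval₂ (incl 𝒪) θ : 𝒪) : Ω) * ((r.eval₂ (incl 𝒪) θ : 𝒪) : Ω) := rfl
  have h3 : ((incl (F := F) 𝒪 ⟨π, hπV⟩ ^ k * z.eval₂ (incl 𝒪) θ : 𝒪) : Ω) =
      algebraMap F Ω π ^ k * ((z.eval₂ (incl 𝒪) θ : 𝒪) : Ω) := by
    push_cast
    rfl
  rw [h2, h3, ← hNP] at h1
  rw [zpow_sub₀ hπΩ, zpow_natCast, zpow_natCast, div_mul_eq_mul_div, eq_div_iff (pow_ne_zero _ hπΩ),
    ← h1]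
  ring

end KL1c

end SHens

end Groth.Agent.Lib.helper10
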