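import Mathlib
import Groth.Prelude.Def_EtRam
import Groth.Agent.Lib.Helper10.SHens2

/-!
Strict-henselization-like extensions of discrete valuation rings (helper10), part 3:
adjoining a set of étale-integral elements to a discretely valued field keeps the value group and
gives a separable algebraic residue extension.
-/

set_option autoImplicit false
set_option linter.unusedSectionVars false
set_option linter.style.haveILetI false

universe u

open IsLocalRing Polynomial IntermediateField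

namespace Groth.Agent.Lib.helper10

namespace SHens

section Sep

/-- a simple root of a polynomial is separable. -/
theorem isSeparable_of_simple_root {k E : Type*} [Field k] [Field E] [Algebra k E] (p : k[X])
    (x : E) (h0 : aeval x p = 0) (h1 : aeval x (derivative p) ≠ 0) : IsSeparable k x := by
  have hp0 : p ≠ 0 := by
    rintro rfl
    simp at h1
  have halg : IsAlgebraic k x := ⟨p, hp0, h0⟩
  have hint : IsIntegral k x := halg.isIntegral
  obtain ⟨q, hq⟩ := minpoly.dvd k x h0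
  have hm' : aeval x (derivative (minpoly k x)) ≠ 0 := by
    intro h
    apply h1
    rw [hq, derivative_mul, map_add, map_mul, map_mul, h, minpoly.aeval, zero_mul, zero_mul,
      add_zero]
  have h2 : derivative (minpoly k x) ≠ 0 := by
    intro h
    rw [h, map_zero] at hm'
    exact hm' rfl
  exact (separable_iff_derivative_ne_zero (minpoly.irreducible hint)).mpr h2

end Sep

section Iter

variable (F : Type u) {Ω : Type u} [Field F] [Field Ω] [Algebra F Ω] (𝒪 : ValuationSubring Ω)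

/-- elements of `𝒪` that are roots of a monic polynomial over `𝒪 ∩ F` with unit derivative. -/
def EtInt : Set Ω :=
  {θ | ∃ (hθ : θ ∈ 𝒪) (g : (VF (F := F) 𝒪)[X]), g.Monic ∧ g.eval₂ (incl 𝒪) ⟨θ, hθ⟩ = 0 ∧
    IsUnit (g.derivative.eval₂ (incl 𝒪) ⟨θ, hθ⟩)}

/-- the residue field of `𝒪` as an algebra over that of `𝒪 ∩ F`. -/
noncomputable abbrev resAlg : Algebra (ResidueField (VF (F := F) 𝒪)) (ResidueField 𝒪) :=
  (ResidueField.map (incl 𝒪)).toAlgebra

attribute [local instance] resAlg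

variable {F}

/-- base change of the valuation rings. -/
def toE (E : IntermediateField F Ω) : VF (F := F) 𝒪 →+* VF (F := E) 𝒪 where
  toFun x := ⟨algebraMap F E x, x.2⟩
  map_one' := Subtype.ext (map_one _)
  map_mul' x y := Subtype.ext (map_mul _ _ _)
  map_zero' := Subtype.ext (map_zero _)
  map_add' x y := Subtype.ext (map_add _ _ _)

theorem incl_comp_toE (E : IntermediateField F Ω) :
    (incl (F := E) 𝒪).comp (toE 𝒪 E) = incl (F := F) 𝒪 := by
  ext x
  rfl

theorem etInt_mono (E : IntermediateField F Ω) : EtInt F 𝒪 ⊆ EtInt E 𝒪 := by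
  rintro θ ⟨hθ, g, hgm, hg0, hg'⟩
  refine ⟨hθ, g.map (toE 𝒪 E), hgm.map _, ?_, ?_⟩
  · rw [eval₂_map, incl_comp_toE]; exact hg0
  · rw [derivative_map, eval₂_map, incl_comp_toE]; exact hg'

/-- the residue of an étale-integral element is separable over the residue field of `𝒪 ∩ F`. -/
theorem residue_mem_sep {θ : Ω} (h : θ ∈ EtInt F 𝒪) (hθ : θ ∈ 𝒪) :
    residue 𝒪 ⟨θ, hθ⟩ ∈ separableClosure (ResidueField (VF (F := F) 𝒪)) (ResidueField 𝒪) := by
  obtain ⟨hθ', g, hgm, hg0, hg'⟩ := h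
  rw [mem_separableClosure_iff]
  apply isSeparable_of_simple_root (g.map (residue (VF (F := F) 𝒪)))
  · rw [aeval_def]
    have := residue_eval₂ (incl (F := F) 𝒪) ⟨θ, hθ⟩ g
    rw [hg0, map_zero] at this
    exact this.symm
  · rw [aeval_def, derivative_map]
    have := residue_eval₂ (incl (F := F) 𝒪) ⟨θ, hθ⟩ (derivative g)
    show (Polynomial.map (residue (VF (F := F) 𝒪)) (derivative g)).eval₂ (ResidueField.map (incl 𝒪)) _ ≠ 0
    rw [← this]
    intro h0
    rw [residue_eq_zero_iff] at h0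
    exact (mem_maximalIdeal _).mp h0 hg'

variable {𝒪}

theorem iter_finset {π : F} (h : IsDisc 𝒪 π) (S : Set Ω) (hS : S ⊆ EtInt F 𝒪) (T : Finset Ω)
    (hT : (T : Set Ω) ⊆ S) :
    (∀ y ∈ adjoin F (T : Set Ω), y ≠ 0 →
      ∃ n : ℤ, 𝒪.valuation y = 𝒪.valuation (algebraMap F Ω π) ^ n) ∧
    (∀ y : 𝒪, (y : Ω) ∈ adjoin F (T : Set Ω) →
      residue 𝒪 y ∈ separableClosure (ResidueField (VF (F := F) 𝒪)) (ResidueField 𝒪)) := by
  classical
  induction T using Finset.induction_on with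
  | empty =>
    rw [Finset.coe_empty, adjoin_empty]
    constructor
    · intro y hy hy0
      obtain ⟨x, rfl⟩ := IntermediateField.mem_bot.mp hy
      exact h.2.2 x (fun hx => hy0 (by rw [hx, map_zero]))
    · intro y hy
      obtain ⟨x, hx⟩ := IntermediateField.mem_bot.mp hy
      have hxV : x ∈ VF (F := F) 𝒪 := by
        rw [ValuationSubring.mem_comap, hx]; exact y.2
      have : y = incl (F := F) 𝒪 ⟨x, hxV⟩ := Subtype.ext hx.symm
      rw [this, ← ResidueField.map_residue]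
      exact (separableClosure _ _).algebraMap_mem _
  | insert θ s hθs ih =>
    have hsS : (s : Set Ω) ⊆ S := fun x hx => hT (by
      rw [Finset.coe_insert]; exact Set.mem_insert_of_mem _ hx)
    have hθS : θ ∈ S := hT (by rw [Finset.coe_insert]; exact Set.mem_insert _ _)
    obtain ⟨ih1, ih2⟩ := ih hsS
    set E : IntermediateField F Ω := adjoin F (s : Set Ω) with hE
    have hED : IsDisc (F := E) 𝒪 (algebraMap F E π) := by
      refine ⟨(_root_.map_ne_zero _).mpr h.1, h.2.1, fun x hx => ?_⟩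
      exact ih1 (x : Ω) x.2 (fun h0 => hx (Subtype.ext h0))
    obtain ⟨hθ, g, hgm, hg0, hg'⟩ := etInt_mono 𝒪 E (hS hθS)
    have hmem : ∀ y : Ω, y ∈ adjoin F ((insert θ s : Finset Ω) : Set Ω) → y ∈ E⟮θ⟯ := by
      intro y hy
      have h1 : (adjoin E ({θ} : Set Ω)).restrictScalars F = adjoin F ((s : Set Ω) ∪ {θ}) :=
        adjoin_adjoin_left F (s : Set Ω) {θ}
      rw [Finset.coe_insert, ← Set.union_singleton, ← h1] at hy
      exact hy
    have key : ∀ y : Ω, y ∈ adjoin F ((insert θ s : Finset Ω) : Set Ω) → y ≠ 0 →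
        ∃ (n : ℤ) (r z : (VF (F := E) 𝒪)[X]), IsUnit (r.eval₂ (incl 𝒪) ⟨θ, hθ⟩) ∧
          IsUnit (z.eval₂ (incl 𝒪) ⟨θ, hθ⟩) ∧
          y * ((r.eval₂ (incl 𝒪) ⟨θ, hθ⟩ : 𝒪) : Ω) =
            algebraMap F Ω π ^ n * ((z.eval₂ (incl 𝒪) ⟨θ, hθ⟩ : 𝒪) : Ω) := by
      intro y hy hy0
      exact hED.adjoin_root ⟨θ, hθ⟩ g hgm hg0 hg' y (hmem y hy) hy0
    have hv0 := h.val_ne_zero
    have hval : ∀ y : Ω, y ∈ adjoin F ((insert θ s : Finset Ω) : Set Ω) → y ≠ 0 →
        ∃ n : ℤ, 𝒪.valuation y = 𝒪.valuation (algebraMap F Ω π) ^ n ∧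
          ∃ (r z : (VF (F := E) 𝒪)[X]), IsUnit (r.eval₂ (incl 𝒪) ⟨θ, hθ⟩) ∧
          IsUnit (z.eval₂ (incl 𝒪) ⟨θ, hθ⟩) ∧
          y * ((r.eval₂ (incl 𝒪) ⟨θ, hθ⟩ : 𝒪) : Ω) =
            algebraMap F Ω π ^ n * ((z.eval₂ (incl 𝒪) ⟨θ, hθ⟩ : 𝒪) : Ω) := by
      intro y hy hy0
      obtain ⟨n, r, z, hr, hz, hrz⟩ := key y hy hy0
      refine ⟨n, ?_, r, z, hr, hz, hrz⟩
      have h1 := congrArg 𝒪.valuation hrz
      rw [map_mul, map_mul, isUnit_iff_val.mp hr, isUnit_iff_val.mp hz, mul_one, mul_one,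
        map_zpow₀] at h1
      exact h1
    -- residues of polynomial expressions in θ
    have hθres := residue_mem_sep 𝒪 (hS hθS) hθ
    have hpoly : ∀ Q : (VF (F := E) 𝒪)[X], residue 𝒪 (Q.eval₂ (incl 𝒪) ⟨θ, hθ⟩) ∈
        separableClosure (ResidueField (VF (F := F) 𝒪)) (ResidueField 𝒪) := by
      intro Q
      rw [eval₂_eq_sum_range, map_sum]
      apply sum_mem
      intro i _
      rw [map_mul, map_pow]
      apply mul_mem _ (pow_mem hθres i)
      exact ih2 (incl (F := E) 𝒪 (Q.coeff i)) (Q.coeff i : E).2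
    constructor
    · intro y hy hy0
      obtain ⟨n, hn, -⟩ := hval y hy hy0
      exact ⟨n, hn⟩
    · intro y hy
      by_cases hy0 : (y : Ω) = 0
      · have : y = 0 := Subtype.ext hy0
        rw [this, map_zero]
        exact zero_mem _
      obtain ⟨n, hn, r, z, hr, hz, hrz⟩ := hval y hy hy0
      have hyle : 𝒪.valuation (y : Ω) ≤ 1 := (ValuationSubring.valuation_le_one_iff 𝒪 _).mpr y.2
      rcases hyle.lt_or_eq with hlt | heq
      · have : residue 𝒪 y = 0 := by
          rw [residue_eq_zero_iff, ValuationSubring.valuation_lt_one_iff]; exact hlt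
        rw [this]; exact zero_mem _
      · rw [hn, zpow_eq_one_iff' hv0 h.2.1] at heq
        subst heq
        rw [zpow_zero, one_mul] at hrz
        have hrz' : y * r.eval₂ (incl 𝒪) ⟨θ, hθ⟩ = z.eval₂ (incl 𝒪) ⟨θ, hθ⟩ := Subtype.ext hrz
        have h1 : residue 𝒪 y * residue 𝒪 (r.eval₂ (incl 𝒪) ⟨θ, hθ⟩) =
            residue 𝒪 (z.eval₂ (incl 𝒪) ⟨θ, hθ⟩) := by
          rw [← map_mul, hrz']
        have hr0 : residue 𝒪 (r.eval₂ (incl 𝒪) ⟨θ, hθ⟩) ≠ 0 := by
          intro h0
          rw [residue_eq_zero_iff] at h0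
          exact (mem_maximalIdeal _).mp h0 hr
        have h2 : residue 𝒪 y = residue 𝒪 (z.eval₂ (incl 𝒪) ⟨θ, hθ⟩) *
            (residue 𝒪 (r.eval₂ (incl 𝒪) ⟨θ, hθ⟩))⁻¹ := by
          rw [← h1, mul_assoc, mul_inv_cancel₀ hr0, mul_one]
        rw [h2]
        exact mul_mem (hpoly z) (inv_mem (hpoly r))

/-- **Iterated key lemma**: adjoining étale-integral elements keeps the value group and produces a
separable algebraic residue field extension. -/
theorem iter {π : F} (h : IsDisc 𝒪 π) (S : Set Ω) (hS : S ⊆ EtInt F 𝒪) :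
    (∀ y ∈ adjoin F S, y ≠ 0 →
      ∃ n : ℤ, 𝒪.valuation y = 𝒪.valuation (algebraMap F Ω π) ^ n) ∧
    (∀ y : 𝒪, (y : Ω) ∈ adjoin F S →
      residue 𝒪 y ∈ separableClosure (ResidueField (VF (F := F) 𝒪)) (ResidueField 𝒪)) := by
  constructor
  · intro y hy hy0
    obtain ⟨T, hTS, hyT⟩ := exists_finset_of_mem_adjoin hy
    exact (iter_finset h S hS T hTS).1 y hyT hy0
  · intro y hy
    obtain ⟨T, hTS, hyT⟩ := exists_finset_of_mem_adjoin hy
    exact (iter_finset h S hS T hTS).2 y hyT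

end Iter

end SHens

end Groth.Agent.Lib.helper10
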