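import Mathlib
import Groth.Prelude.Def_EtRam
import Groth.Agent.Lib.Helper10.SHens3
import Groth.Agent.Lib.Helper10.EppSol1
import Groth.Agent.Lib.Helper3.GeomRed2
import Groth.Agent.Lib.Helper17.SmoothArtin

/-!
Strict-henselization-like extensions of discrete valuation rings (helper10), part 4:
transitivity of geometric reducedness along separable algebraic extensions, and the descent of
"weakly unramified with separable residue extension" from a bigger bottom field to a smaller one
with the same value group and separable algebraic residue extension.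
-/

set_option autoImplicit false
set_option linter.unusedSectionVars false
set_option linter.style.haveILetI false

universe u

open IsLocalRing Polynomial IntermediateField TensorProduct

namespace Groth.Agent.Lib.helper10

namespace SHens

section GR

/-- transitivity of geometric reducedness for field extensions. -/
theorem geomReduced_trans (k k' E : Type u) [Field k] [Field k'] [Field E] [Algebra k k']
    [Algebra k' E] [Algebra k E] [IsScalarTower k k' E] [Algebra.IsGeometricallyReduced k k']
    [Algebra.IsGeometricallyReduced k' E] : Algebra.IsGeometricallyReduced k E := by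
  rw [Algebra.isGeometricallyReduced_field_iff]
  have h1 : IsReduced (AlgebraicClosure k ⊗[k] k') :=
    Groth.Agent.Lib.helper3.GeomRed.isReduced_tensor_of_isGeometricallyReduced k
      (AlgebraicClosure k) k'
  have h2 : IsReduced (k' ⊗[k] AlgebraicClosure k) :=
    Groth.Agent.Lib.helper3.GeomRed.isReduced_comm _ _ h1
  have h3 : IsReduced (E ⊗[k'] (k' ⊗[k] AlgebraicClosure k)) :=
    Groth.Agent.Lib.helper3.GeomRed.isReduced_tensor_of_isGeometricallyReduced_left E
      (k' ⊗[k] AlgebraicClosure k)
  have h4 : IsReduced (E ⊗[k] AlgebraicClosure k) :=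
    isReduced_of_injective
      (Algebra.TensorProduct.cancelBaseChange k k' k' E (AlgebraicClosure k)).symm.toRingEquiv.toRingHom
      (Algebra.TensorProduct.cancelBaseChange k k' k' E (AlgebraicClosure k)).symm.injective
  exact Groth.Agent.Lib.helper3.GeomRed.isReduced_comm _ _ h4

/-- a separable algebraic field extension is geometrically reduced. -/
theorem geomReduced_of_isSeparable (k k' : Type u) [Field k] [Field k'] [Algebra k k']
    [Algebra.IsSeparable k k'] : Algebra.IsGeometricallyReduced k k' := by
  haveI : Algebra.FormallyEtale k k' := Algebra.FormallyEtale.of_isSeparable k k'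
  exact Groth.Agent.Lib.helper17.SmoothArtin.isGeometricallyReduced_of_formallySmooth

/-- geometric reducedness over a smaller base whose image is separable algebraic below. -/
theorem geomReduced_of_range {k₂ k₃ E : Type u} [Field k₂] [Field k₃] [Field E]
    (ρ₂ : k₂ →+* E) (ρ₃ : k₃ →+* E) (hsub : ∀ x, ∃ y, ρ₃ y = ρ₂ x)
    (hsep : ∀ y : k₃, @IsSeparable k₂ E _ _ ρ₂.toAlgebra (ρ₃ y))
    (h : @Algebra.IsGeometricallyReduced k₃ E _ _ ρ₃.toAlgebra) :
    @Algebra.IsGeometricallyReduced k₂ E _ _ ρ₂.toAlgebra := by
  choose j hj using hsub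
  let J : k₂ →+* k₃ :=
    { toFun := j
      map_one' := ρ₃.injective (by rw [hj, map_one, map_one])
      map_mul' := fun x y => ρ₃.injective (by rw [hj, map_mul, map_mul, hj, hj])
      map_zero' := ρ₃.injective (by rw [hj, map_zero, map_zero])
      map_add' := fun x y => ρ₃.injective (by rw [hj, map_add, map_add, hj, hj]) }
  letI a23 : Algebra k₂ k₃ := J.toAlgebra
  letI a3E : Algebra k₃ E := ρ₃.toAlgebra
  letI a2E : Algebra k₂ E := ρ₂.toAlgebra
  haveI : IsScalarTower k₂ k₃ E := IsScalarTower.of_algebraMap_eq (fun x => (hj x).symm)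
  haveI : Algebra.IsSeparable k₂ k₃ := by
    refine ⟨fun y => ?_⟩
    have h1 := hsep y
    unfold IsSeparable at h1 ⊢
    have h2 : minpoly k₂ (algebraMap k₃ E y) = minpoly k₂ y :=
      minpoly.algebraMap_eq (algebraMap k₃ E).injective y
    rw [← h2]
    exact h1
  haveI : Algebra.IsGeometricallyReduced k₂ k₃ := geomReduced_of_isSeparable k₂ k₃
  haveI := h
  exact geomReduced_trans k₂ k₃ E

end GR

section Descend

attribute [local instance] resAlg

variable {K₂ K₂' M : Type u} [Field K₂] [Field K₂'] [Field M] [Algebra K₂ M]
  (W : ValuationSubring M)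

/-- descent of "weakly unramified with separable residue extension" from `Θ : K₂' → M` to the
smaller field `K₂ → M`, when the value groups agree and the residues of `K₂'` are separable over
the residue field of `K₂`. -/
theorem descend (Θ : K₂' →+* M) (hsub : ∀ x : K₂, ∃ x' : K₂', Θ x' = algebraMap K₂ M x)
    (hval : ∀ x' : K₂', W.valuation (Θ x') < 1 → ∃ x : K₂, W.valuation (algebraMap K₂ M x) < 1 ∧
      W.valuation (Θ x') ≤ W.valuation (algebraMap K₂ M x))
    (hres : ∀ (x' : K₂') (hx : Θ x' ∈ W), residue W ⟨Θ x', hx⟩ ∈
      separableClosure (ResidueField (VF (F := K₂) W)) (ResidueField W))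
    (h : letI : Algebra (W.comap Θ) W := (EtRam.inclOfComap W Θ).toAlgebra
      EtRam.IsWeaklyUnramified (W.comap Θ) W ∧
      @Algebra.IsGeometricallyReduced (ResidueField (W.comap Θ)) (ResidueField W) _ _
        (ResidueField.map (EtRam.inclOfComap W Θ)).toAlgebra) :
    letI : Algebra (W.comap (algebraMap K₂ M)) W :=
      (EtRam.inclOfComap W (algebraMap K₂ M)).toAlgebra
    EtRam.IsWeaklyUnramified (W.comap (algebraMap K₂ M)) W ∧
      @Algebra.IsGeometricallyReduced (ResidueField (W.comap (algebraMap K₂ M))) (ResidueField W) _ _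
        (ResidueField.map (EtRam.inclOfComap W (algebraMap K₂ M))).toAlgebra := by
  obtain ⟨hwu, hgr⟩ := h
  have hwu' := (EppSol.wu_iff W Θ).mp hwu
  refine ⟨(EppSol.wu_iff W (algebraMap K₂ M)).mpr ?_, ?_⟩
  · intro y hy
    obtain ⟨x', hx'1, hx'2⟩ := hwu' y hy
    obtain ⟨x, hx1, hx2⟩ := hval x' hx'1
    exact ⟨x, hx1, hx'2.trans hx2⟩
  · apply geomReduced_of_range (ResidueField.map (EtRam.inclOfComap W (algebraMap K₂ M)))
      (ResidueField.map (EtRam.inclOfComap W Θ)) _ _ hgr
    · intro x
      obtain ⟨x, rfl⟩ := residue_surjective x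
      obtain ⟨x', hx'⟩ := hsub (x : K₂)
      have hx'W : x' ∈ W.comap Θ := by
        rw [ValuationSubring.mem_comap, hx']
        exact x.2
      refine ⟨residue _ ⟨x', hx'W⟩, ?_⟩
      rw [ResidueField.map_residue, ResidueField.map_residue]
      congr 1
      exact Subtype.ext hx'
    · intro y
      obtain ⟨y, rfl⟩ := residue_surjective y
      rw [ResidueField.map_residue]
      have := hres (y : K₂') y.2
      rw [mem_separableClosure_iff] at this
      exact this

end Descend

end SHens

end Groth.Agent.Lib.helper10
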