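import Mathlib
import Groth.Prelude.Def_EtRam
import Groth.Agent.Lib.Helper10.SHens4
import Groth.Agent.Lib.Helper10.EppSol8
import Groth.Agent.Lib.Helper10.TameComp1
import Groth.Agent.S1983

/-!
Strict-henselization-like extensions of discrete valuation rings (helper10), part 5:
valuation rings of finite extensions dominating a DVR are DVRs (no separability needed), and
persistence of solutions: a finite extension of a solution is a solution.
-/

set_option autoImplicit false
set_option linter.unusedSectionVars false
set_option linter.style.haveILetI false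

universe u

open IsLocalRing Polynomial IntermediateField TensorProduct

namespace Groth.Agent.Lib.helper10

namespace SHens

open Groth.Agent.Lib.helper10.DvrExt Groth.Agent.Lib.helper10.EppSol

section ResAlg

theorem residueField_algebra_eq (R S : Type*) [CommRing R] [IsLocalRing R] [CommRing S]
    [IsLocalRing S] [Algebra R S] [IsLocalHom (algebraMap R S)] :
    (ResidueField.map (algebraMap R S)).toAlgebra =
      (inferInstance : Algebra (ResidueField R) (ResidueField S)) := by
  apply Algebra.algebra_ext
  intro r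
  obtain ⟨r, rfl⟩ := residue_surjective r
  rfl

theorem geomReduced_inst_of_map (R S : Type*) [CommRing R] [IsLocalRing R] [CommRing S]
    [IsLocalRing S] [Algebra R S] [IsLocalHom (algebraMap R S)]
    (h : @Algebra.IsGeometricallyReduced (ResidueField R) (ResidueField S) _ _
      (ResidueField.map (algebraMap R S)).toAlgebra) :
    Algebra.IsGeometricallyReduced (ResidueField R) (ResidueField S) := by
  have e := residueField_algebra_eq R S
  have key : ∀ (a₁ a₂ : Algebra (ResidueField R) (ResidueField S)), a₁ = a₂ →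
      @Algebra.IsGeometricallyReduced (ResidueField R) (ResidueField S) _ _ a₁ →
      @Algebra.IsGeometricallyReduced (ResidueField R) (ResidueField S) _ _ a₂ := by
    rintro a₁ a₂ rfl h
    exact h
  exact key _ _ e h

end ResAlg

section DVR

variable (A K L : Type u) [CommRing A] [IsDomain A] [IsDiscreteValuationRing A]
  [Field K] [Algebra A K] [IsFractionRing A K]
  [Field L] [Algebra K L] [FiniteDimensional K L]

theorem isDVR_of_dominates' (V : ValuationSubring L)
    (hV : EtRam.Dominates A ((algebraMap K L).comp (algebraMap A K)) V) :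
    IsDiscreteValuationRing V := by
  letI : Algebra A L := ((algebraMap K L).comp (algebraMap A K)).toAlgebra
  haveI : IsScalarTower A K L := IsScalarTower.of_algebraMap_eq (fun _ => rfl)
  haveI : Module.IsTorsionFree A L := .trans_faithfulSMul A K L
  haveI : IsDedekindDomain (integralClosure A L) :=
    CompDvr.isDedekindDomain_integralClosure A K L
  haveI : IsFractionRing (integralClosure A L) L :=
    integralClosure.isFractionRing_of_finite_extension K L
  obtain ⟨w, hw, rfl⟩ := exists_w (integralClosure A L) V hV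
  exact TameComp.isDVR_val w

end DVR

section Persist

variable (A B K L K₁ K₂ : Type u) [CommRing A] [IsDomain A] [IsDiscreteValuationRing A]
  [CommRing B] [IsDomain B] [IsDiscreteValuationRing B] [Algebra A B]
  [IsLocalHom (algebraMap A B)]
  [Field K] [Field L] [Algebra A K] [IsFractionRing A K] [Algebra B L] [IsFractionRing B L]
  [Algebra K L] [Algebra A L] [IsScalarTower A K L] [IsScalarTower A B L]
  [Field K₁] [Field K₂] [Algebra K K₁] [Algebra K K₂] [Algebra K₁ K₂] [IsScalarTower K K₁ K₂]

include A in
/-- a finite extension of a solution is a solution. -/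
theorem persist [FiniteDimensional K K₁] [FiniteDimensional K K₂]
    (h : EtRam.IsSolution B K L K₁) : EtRam.IsSolution B K L K₂ := by
  intro M _ _ _ _ _ _ hgen W hW
  letI algK₁M : Algebra K₁ M := ((algebraMap K₂ M).comp (algebraMap K₁ K₂)).toAlgebra
  haveI : IsScalarTower K₁ K₂ M := IsScalarTower.of_algebraMap_eq (fun _ => rfl)
  haveI : IsScalarTower K K₁ M := IsScalarTower.of_algebraMap_eq (fun x => by
    show algebraMap K M x = algebraMap K₂ M (algebraMap K₁ K₂ (algebraMap K K₁ x))
    rw [← IsScalarTower.algebraMap_apply K K₁ K₂, ← IsScalarTower.algebraMap_apply K K₂ M])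
  letI algM₁ : Algebra K₁ (Comp L K₁ M) := compAlg L K₁ M
  haveI tw₁ : IsScalarTower K K₁ (Comp L K₁ M) := comp_tower₁ K L K₁ M
  haveI tw₁' : IsScalarTower K₁ (Comp L K₁ M) M := comp_tower₂ L K₁ M
  have hgen₁ : Algebra.adjoin L (Set.range (algebraMap K₁ (Comp L K₁ M))) = ⊤ :=
    comp_gen K L K₁ M (Algebra.IsAlgebraic.of_finite K K₁)
  have hdom₁ : EtRam.Dominates B ((algebraMap L (Comp L K₁ M)).comp (algebraMap B L))
      (W.comap (algebraMap (Comp L K₁ M) M)) := dominates_comap B W hW
  have h₁ := h (Comp L K₁ M) hgen₁ (W.comap (algebraMap (Comp L K₁ M) M)) hdom₁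
  obtain ⟨hfd₁, -⟩ := Groth.Agent.S1984.finite_of_gen K L K₁ (Comp L K₁ M) hgen₁
  -- the two valuation rings are DVRs
  haveI hW₁ : IsDiscreteValuationRing (W.comap (algebraMap (Comp L K₁ M) M)) :=
    isDVR_of_dominates' B L (Comp L K₁ M) _ hdom₁
  have hdomA : EtRam.Dominates A ((algebraMap K K₁).comp (algebraMap A K))
      ((W.comap (algebraMap (Comp L K₁ M) M)).comap (algebraMap K₁ (Comp L K₁ M))) := by
    have e : ∀ a : A, algebraMap K₁ (Comp L K₁ M) (algebraMap K K₁ (algebraMap A K a)) =
        algebraMap L (Comp L K₁ M) (algebraMap B L (algebraMap A B a)) := by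
      intro a
      rw [← IsScalarTower.algebraMap_apply K K₁ (Comp L K₁ M),
        IsScalarTower.algebraMap_apply K L (Comp L K₁ M),
        ← IsScalarTower.algebraMap_apply A K L, IsScalarTower.algebraMap_apply A B L]
    refine ⟨fun a => ?_, fun a ha => ?_⟩
    · rw [ValuationSubring.mem_comap]
      show algebraMap K₁ (Comp L K₁ M) (algebraMap K K₁ (algebraMap A K a)) ∈ _
      rw [e]
      exact hdom₁.1 _
    · rw [TotRam.comap_val_lt_one_iff]
      show (W.comap (algebraMap (Comp L K₁ M) M)).valuation
        (algebraMap K₁ (Comp L K₁ M) (algebraMap K K₁ (algebraMap A K a))) < 1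
      rw [e]
      apply hdom₁.2
      rw [mem_maximalIdeal, mem_nonunits_iff] at ha ⊢
      exact fun hu => ha (isUnit_of_map_unit (algebraMap A B) a hu)
  haveI hV₁ : IsDiscreteValuationRing
      ((W.comap (algebraMap (Comp L K₁ M) M)).comap (algebraMap K₁ (Comp L K₁ M))) :=
    isDVR_of_dominates' A K K₁ _ hdomA
  -- set up the local extension `V₁ → W₁`
  letI algVW : Algebra ((W.comap (algebraMap (Comp L K₁ M) M)).comap (algebraMap K₁ (Comp L K₁ M)))
      (W.comap (algebraMap (Comp L K₁ M) M)) :=
    (EtRam.inclOfComap (W.comap (algebraMap (Comp L K₁ M) M))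
      (algebraMap K₁ (Comp L K₁ M))).toAlgebra
  haveI : IsLocalHom (algebraMap
      ((W.comap (algebraMap (Comp L K₁ M) M)).comap (algebraMap K₁ (Comp L K₁ M)))
      (W.comap (algebraMap (Comp L K₁ M) M))) :=
    EtRam.isLocalHom_inclOfComap _ _
  letI algVM : Algebra ((W.comap (algebraMap (Comp L K₁ M) M)).comap (algebraMap K₁ (Comp L K₁ M)))
      (Comp L K₁ M) :=
    ((algebraMap K₁ (Comp L K₁ M)).comp (algebraMap _ K₁)).toAlgebra
  haveI : IsScalarTower
      ((W.comap (algebraMap (Comp L K₁ M) M)).comap (algebraMap K₁ (Comp L K₁ M))) K₁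
      (Comp L K₁ M) := IsScalarTower.of_algebraMap_eq (fun _ => rfl)
  haveI : IsScalarTower
      ((W.comap (algebraMap (Comp L K₁ M) M)).comap (algebraMap K₁ (Comp L K₁ M)))
      (W.comap (algebraMap (Comp L K₁ M) M)) (Comp L K₁ M) :=
    IsScalarTower.of_algebraMap_eq (fun _ => rfl)
  haveI : FiniteDimensional K₁ K₂ := Module.Finite.of_restrictScalars_finite K K₁ K₂
  haveI hgr : Algebra.IsGeometricallyReduced
      (ResidueField ((W.comap (algebraMap (Comp L K₁ M) M)).comap (algebraMap K₁ (Comp L K₁ M))))
      (ResidueField (W.comap (algebraMap (Comp L K₁ M) M))) :=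
    geomReduced_inst_of_map _ _ h₁.2
  have hsol := Groth.Agent.S1983.main
    ((W.comap (algebraMap (Comp L K₁ M) M)).comap (algebraMap K₁ (Comp L K₁ M)))
    (W.comap (algebraMap (Comp L K₁ M) M)) K₁ (Comp L K₁ M) h₁.1 K₂
  have hgen' : Algebra.adjoin (Comp L K₁ M) (Set.range (algebraMap K₂ M)) = ⊤ := by
    rw [eq_top_iff]
    rintro x -
    have hx : x ∈ Algebra.adjoin L (Set.range (algebraMap K₂ M)) := by rw [hgen]; trivial
    induction hx using Algebra.adjoin_induction with
    | mem y hy => exact Algebra.subset_adjoin hy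
    | algebraMap r =>
      have : algebraMap L M r = algebraMap (Comp L K₁ M) M (algebraMap L (Comp L K₁ M) r) := rfl
      rw [this]
      exact Subalgebra.algebraMap_mem _ _
    | add y y' _ _ ihy ihy' => exact Subalgebra.add_mem _ ihy ihy'
    | mul y y' _ _ ihy ihy' => exact Subalgebra.mul_mem _ ihy ihy'
  have hdom' : EtRam.Dominates (W.comap (algebraMap (Comp L K₁ M) M))
      ((algebraMap (Comp L K₁ M) M).comp (algebraMap _ (Comp L K₁ M))) W := by
    refine ⟨fun w => w.2, fun w hw => ?_⟩
    rw [ValuationSubring.valuation_lt_one_iff, TotRam.comap_val_lt_one_iff] at hw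
    exact hw
  exact hsol M hgen' W hdom'

end Persist

end SHens

end Groth.Agent.Lib.helper10
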