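import Mathlib
import Groth.Prelude.Def_EtRam
import Groth.Agent.Lib.Helper10.SHens5

/-!
Strict-henselization-like extensions of discrete valuation rings (helper10), part 6:
descent of a solution along an extension `K'/K` generated by étale-integral elements, for a
splitting field.
-/

set_option autoImplicit false
set_option linter.unusedSectionVars false
set_option linter.style.haveILetI false

universe u

open IsLocalRing Polynomial IntermediateField TensorProduct

namespace Groth.Agent.Lib.helper10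

namespace SHens

section DiscDVR

variable {F Ω : Type u} [Field F] [Field Ω] [Algebra F Ω] (𝒪 : ValuationSubring Ω)

/-- a discrete valuation ring gives a discretely valued field. -/
theorem isDisc_of_isDVR [IsDiscreteValuationRing (VF (F := F) 𝒪)] {ϖ : VF (F := F) 𝒪}
    (hϖ : Irreducible ϖ) : IsDisc 𝒪 (ϖ : F) := by
  have hϖ0 : (ϖ : F) ≠ 0 := fun h => hϖ.ne_zero (Subtype.ext h)
  have hϖ1 : 𝒪.valuation (algebraMap F Ω ϖ) < 1 := by
    rw [← TotRam.comap_val_lt_one_iff, ← ValuationSubring.valuation_lt_one_iff,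
      mem_maximalIdeal, mem_nonunits_iff]
    exact hϖ.not_isUnit
  have hunit : ∀ u : (VF (F := F) 𝒪)ˣ, 𝒪.valuation (algebraMap F Ω ((u : VF (F := F) 𝒪) : F)) = 1 := by
    intro u
    rw [← TotRam.comap_val_eq_one_iff, ← ValuationSubring.valuation_eq_one_iff]
    exact u.isUnit
  have key : ∀ x : VF (F := F) 𝒪, x ≠ 0 → ∃ n : ℕ,
      𝒪.valuation (algebraMap F Ω (x : F)) = 𝒪.valuation (algebraMap F Ω ϖ) ^ n := by
    intro x hx
    obtain ⟨n, u, hu⟩ := IsDiscreteValuationRing.associated_pow_irreducible hx hϖ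
    refine ⟨n, ?_⟩
    have h1 : (x : F) * ((u : VF (F := F) 𝒪) : F) = (ϖ : F) ^ n := by
      have := congrArg (fun y : VF (F := F) 𝒪 => (y : F)) hu
      simpa using this
    have h2 := congrArg (fun y : F => 𝒪.valuation (algebraMap F Ω y)) h1
    simp only [map_mul, map_pow] at h2
    rw [hunit u, mul_one] at h2
    exact h2
  refine ⟨hϖ0, hϖ1, fun x hx => ?_⟩
  rcases (VF (F := F) 𝒪).mem_or_inv_mem x with h | h
  · obtain ⟨n, hn⟩ := key ⟨x, h⟩ (fun h0 => hx (congrArg Subtype.val h0))
    exact ⟨n, by rw [zpow_natCast]; exact hn⟩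
  · have hx' : x⁻¹ ≠ 0 := inv_ne_zero hx
    obtain ⟨n, hn⟩ := key ⟨x⁻¹, h⟩ (fun h0 => hx' (congrArg Subtype.val h0))
    refine ⟨-(n : ℤ), ?_⟩
    have h3 : 𝒪.valuation (algebraMap F Ω x⁻¹) = (𝒪.valuation (algebraMap F Ω x))⁻¹ := by
      rw [map_inv₀, map_inv₀]
    rw [zpow_neg, zpow_natCast, ← hn]
    show 𝒪.valuation (algebraMap F Ω x) = (𝒪.valuation (algebraMap F Ω x⁻¹))⁻¹
    rw [h3, inv_inv]

end DiscDVR

section Normal

variable (A C K K' L' K₂ K₂' : Type u) [CommRing A] [IsDomain A] [IsDiscreteValuationRing A]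
  [CommRing C] [IsDomain C] [IsDiscreteValuationRing C]
  [Field K] [Field K'] [Field L'] [Field K₂] [Field K₂']
  [Algebra A K] [IsFractionRing A K] [Algebra C L'] [IsFractionRing C L']
  [Algebra K K'] [Algebra K' L'] [Algebra K L'] [IsScalarTower K K' L']
  [Algebra A K'] [IsScalarTower A K K']
  [Algebra K K₂] [Algebra K' K₂'] [FiniteDimensional K K₂]

/-- **Descent along an étale-integrally generated extension.** -/
theorem descend_splitting
    (hAC : ∀ a : A, ∃ c : C, algebraMap C L' c = algebraMap K L' (algebraMap A K a) ∧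
      (a ∈ maximalIdeal A → c ∈ maximalIdeal C))
    (f : K[X]) [IsSplittingField K K₂ f] [IsSplittingField K' K₂' (f.map (algebraMap K K'))]
    (S : Set K') (hS : IntermediateField.adjoin K S = ⊤)
    (hSet : ∀ θ ∈ S, ∃ g : A[X], g.Monic ∧ aeval θ g = 0 ∧
      (∃ c : C, algebraMap C L' c = algebraMap K' L' θ) ∧
      ∃ c d : C, c * d = 1 ∧ algebraMap C L' c = algebraMap K' L' (aeval θ (derivative g)))
    (hsol : EtRam.IsSolution C K' L' K₂') : EtRam.IsSolution C K L' K₂ := by
  intro M _ _ _ _ _ _ hgen W hW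
  letI algK'M : Algebra K' M := ((algebraMap L' M).comp (algebraMap K' L')).toAlgebra
  haveI : IsScalarTower K' L' M := IsScalarTower.of_algebraMap_eq (fun _ => rfl)
  haveI : IsScalarTower K K' M := IsScalarTower.of_algebraMap_eq (fun x => by
    show algebraMap K M x = algebraMap L' M (algebraMap K' L' (algebraMap K K' x))
    rw [← IsScalarTower.algebraMap_apply K K' L', ← IsScalarTower.algebraMap_apply K L' M])
  -- the embedding of `K₂'`
  have hsplit₂ : (f.map (algebraMap K K₂)).Splits := IsSplittingField.splits K₂ f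
  have hsplitM : (f.map (algebraMap K M)).Splits := by
    have := hsplit₂.map (algebraMap K₂ M)
    rwa [Polynomial.map_map, ← IsScalarTower.algebraMap_eq K K₂ M] at this
  have hsplitM' : ((f.map (algebraMap K K')).map (algebraMap K' M)).Splits := by
    rwa [Polynomial.map_map, ← IsScalarTower.algebraMap_eq K K' M]
  let Θ : K₂' →ₐ[K'] M := IsSplittingField.lift K₂' (f.map (algebraMap K K')) hsplitM'
  have hrootSet : (f.map (algebraMap K K')).rootSet M = f.rootSet M := by
    ext x
    rw [mem_rootSet', mem_rootSet', Polynomial.map_map, ← IsScalarTower.algebraMap_eq K K' M,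
      aeval_def, eval₂_map, ← IsScalarTower.algebraMap_eq K K' M, ← aeval_def]
  have hΘrange : Algebra.adjoin K' (f.rootSet M) = Θ.range := by
    rw [← hrootSet]
    exact IsSplittingField.adjoin_rootSet_eq_range K₂' (f.map (algebraMap K K')) Θ
  have hφrange : Algebra.adjoin K (f.rootSet M) = (IsScalarTower.toAlgHom K K₂ M).range :=
    IsSplittingField.adjoin_rootSet_eq_range K₂ f (IsScalarTower.toAlgHom K K₂ M)
  -- claim (a)
  have hsub : ∀ x : K₂, ∃ x' : K₂', Θ x' = algebraMap K₂ M x := by
    intro x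
    have h1 : algebraMap K₂ M x ∈ Algebra.adjoin K (f.rootSet M) := by
      rw [hφrange]
      exact ⟨x, rfl⟩
    have h2 : algebraMap K₂ M x ∈ Algebra.adjoin K' (f.rootSet M) := by
      have hle : Algebra.adjoin K (f.rootSet M) ≤
          (Algebra.adjoin K' (f.rootSet M)).restrictScalars K := by
        apply Algebra.adjoin_le
        exact Algebra.subset_adjoin
      exact hle h1
    rw [hΘrange] at h2
    exact h2
  -- set up `K₂'` over `M`
  letI algK₂'M : Algebra K₂' M := Θ.toRingHom.toAlgebra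
  haveI : IsScalarTower K' K₂' M := IsScalarTower.of_algebraMap_eq (fun x => (Θ.commutes x).symm)
  have hgen' : Algebra.adjoin L' (Set.range (algebraMap K₂' M)) = ⊤ := by
    rw [eq_top_iff, ← hgen]
    apply Algebra.adjoin_mono
    rintro _ ⟨x, rfl⟩
    obtain ⟨x', hx'⟩ := hsub x
    exact ⟨x', hx'⟩
  have h := hsol M hgen' W hW
  -- domination of `A`
  have hAW : ∀ a : A, ∃ c : C, algebraMap K₂ M (algebraMap K K₂ (algebraMap A K a)) =
      algebraMap L' M (algebraMap C L' c) ∧ (a ∈ maximalIdeal A → c ∈ maximalIdeal C) := by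
    intro a
    obtain ⟨c, hc1, hc2⟩ := hAC a
    refine ⟨c, ?_, hc2⟩
    rw [hc1, ← IsScalarTower.algebraMap_apply K K₂ M, ← IsScalarTower.algebraMap_apply K L' M]
  have hdomA : EtRam.Dominates A ((algebraMap K K₂).comp (algebraMap A K))
      (W.comap (algebraMap K₂ M)) := by
    refine ⟨fun a => ?_, fun a ha => ?_⟩
    · obtain ⟨c, hc1, -⟩ := hAW a
      rw [ValuationSubring.mem_comap]
      show algebraMap K₂ M (algebraMap K K₂ (algebraMap A K a)) ∈ W
      rw [hc1]
      exact hW.1 c
    · obtain ⟨c, hc1, hc2⟩ := hAW a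
      rw [TotRam.comap_val_lt_one_iff]
      show W.valuation (algebraMap K₂ M (algebraMap K K₂ (algebraMap A K a))) < 1
      rw [hc1]
      exact hW.2 c (hc2 ha)
  haveI hV₂ : IsDiscreteValuationRing (VF (F := K₂) W) :=
    isDVR_of_dominates' A K K₂ _ hdomA
  obtain ⟨ϖ, hϖ⟩ := IsDiscreteValuationRing.exists_irreducible (VF (F := K₂) W)
  have hdisc : IsDisc W (ϖ : K₂) := isDisc_of_isDVR W hϖ
  -- the étale-integral generators
  have hSM : (algebraMap K' M) '' S ⊆ EtInt K₂ W := by
    rintro _ ⟨θ, hθS, rfl⟩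
    obtain ⟨g, hgm, hg0, ⟨c₀, hc₀⟩, c, d, hcd, hc⟩ := hSet θ hθS
    have hθW : algebraMap K' M θ ∈ W := by
      show algebraMap L' M (algebraMap K' L' θ) ∈ W
      rw [← hc₀]
      exact hW.1 c₀
    let jA : A →+* VF (F := K₂) W :=
      RingHom.codRestrict ((algebraMap K K₂).comp (algebraMap A K)) (VF (F := K₂) W).toSubring
        hdomA.1
    have hcomp : (W.subtype).comp ((incl (F := K₂) W).comp jA) =
        (algebraMap K' M).comp (algebraMap A K') := by
      ext a
      show algebraMap K₂ M (algebraMap K K₂ (algebraMap A K a)) =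
        algebraMap K' M (algebraMap A K' a)
      rw [← IsScalarTower.algebraMap_apply K K₂ M, IsScalarTower.algebraMap_apply A K K',
        ← IsScalarTower.algebraMap_apply K K' M]
    have heval : ∀ q : A[X], (((q.map jA).eval₂ (incl (F := K₂) W) ⟨_, hθW⟩ : W) : M) =
        algebraMap K' M (aeval θ q) := by
      intro q
      rw [eval₂_map]
      have h1 := Polynomial.hom_eval₂ q ((incl (F := K₂) W).comp jA) W.subtype ⟨_, hθW⟩
      have h2 : ((q.eval₂ ((incl (F := K₂) W).comp jA) ⟨_, hθW⟩ : W) : M) =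
          W.subtype (q.eval₂ ((incl (F := K₂) W).comp jA) ⟨_, hθW⟩) := rfl
      rw [h2, h1, hcomp, aeval_def, Polynomial.hom_eval₂]
      rfl
    refine ⟨hθW, g.map jA, hgm.map _, ?_, ?_⟩
    · apply Subtype.ext
      rw [heval, hg0, map_zero]
      rfl
    · rw [derivative_map, isUnit_iff_val, heval]
      show W.valuation (algebraMap L' M (algebraMap K' L' (aeval θ (derivative g)))) = 1
      rw [← hc]
      have h1 : W.valuation (algebraMap L' M (algebraMap C L' c)) ≤ 1 :=
        (ValuationSubring.valuation_le_one_iff W _).mpr (hW.1 c)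
      have h2 : W.valuation (algebraMap L' M (algebraMap C L' d)) ≤ 1 :=
        (ValuationSubring.valuation_le_one_iff W _).mpr (hW.1 d)
      have h3 : W.valuation (algebraMap L' M (algebraMap C L' c)) *
          W.valuation (algebraMap L' M (algebraMap C L' d)) = 1 := by
        rw [← map_mul, ← map_mul, ← map_mul, hcd, map_one, map_one, map_one]
      rcases h1.lt_or_eq with hlt | heq
      · exfalso
        have : W.valuation (algebraMap L' M (algebraMap C L' c)) *
            W.valuation (algebraMap L' M (algebraMap C L' d)) < 1 :=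
          mul_lt_one_of_lt_of_le hlt h2
        rw [h3] at this
        exact lt_irrefl _ this
      · exact heq
  obtain ⟨hit1, hit2⟩ := iter hdisc ((algebraMap K' M) '' S) hSM
  -- claim (c)
  have hmemK' : ∀ c : K', algebraMap K' M c ∈ adjoin K₂ ((algebraMap K' M) '' S) := by
    intro c
    have hc : c ∈ IntermediateField.adjoin K S := by rw [hS]; trivial
    induction hc using IntermediateField.adjoin_induction with
    | mem x hx => exact IntermediateField.subset_adjoin _ _ ⟨x, hx, rfl⟩
    | algebraMap x =>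
      rw [← IsScalarTower.algebraMap_apply K K' M, IsScalarTower.algebraMap_apply K K₂ M]
      exact IntermediateField.algebraMap_mem _ _
    | add x y _ _ hx hy => rw [map_add]; exact add_mem hx hy
    | inv x _ hx => rw [map_inv₀]; exact inv_mem hx
    | mul x y _ _ hx hy => rw [map_mul]; exact mul_mem hx hy
  have hmem : ∀ x' : K₂', Θ x' ∈ adjoin K₂ ((algebraMap K' M) '' S) := by
    intro x'
    have h1 : Θ x' ∈ Algebra.adjoin K' (f.rootSet M) := by
      rw [hΘrange]; exact ⟨x', rfl⟩
    generalize Θ x' = y₀ at h1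
    induction h1 using Algebra.adjoin_induction with
    | mem y hy =>
      have h2 : y ∈ Algebra.adjoin K (f.rootSet M) := Algebra.subset_adjoin hy
      rw [hφrange] at h2
      obtain ⟨z, rfl⟩ := h2
      exact IntermediateField.algebraMap_mem _ z
    | algebraMap r => exact hmemK' r
    | add y y' _ _ ihy ihy' => exact add_mem ihy ihy'
    | mul y y' _ _ ihy ihy' => exact mul_mem ihy ihy'
  have hv0 := hdisc.val_ne_zero
  refine descend W Θ.toRingHom hsub ?_ ?_ h
  · intro x' hx'
    by_cases hx0 : Θ x' = 0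
    · refine ⟨ϖ, hdisc.2.1, ?_⟩
      show W.valuation (Θ x') ≤ _
      rw [hx0, map_zero]
      exact zero_le
    obtain ⟨n, hn⟩ := hit1 (Θ x') (hmem x') hx0
    refine ⟨ϖ, hdisc.2.1, ?_⟩
    show W.valuation (Θ x') ≤ _
    have hx'' : W.valuation (Θ x') < 1 := hx'
    rw [hn] at hx'' ⊢
    rw [zpow_lt_one_iff' hv0 hdisc.2.1] at hx''
    obtain ⟨m, rfl⟩ : ∃ m : ℕ, n = (m : ℤ) + 1 := ⟨(n - 1).toNat, by omega⟩
    rw [zpow_add_one₀ hv0, zpow_natCast]
    calc W.valuation (algebraMap K₂ M ϖ) ^ m * W.valuation (algebraMap K₂ M ϖ)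
        ≤ 1 * W.valuation (algebraMap K₂ M ϖ) :=
          mul_le_mul' (pow_le_one' hdisc.2.1.le m) le_rfl
      _ = _ := one_mul _
  · intro x' hx
    exact hit2 ⟨Θ x', hx⟩ (hmem x')

end Normal

end SHens

end Groth.Agent.Lib.helper10
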