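import Mathlib
import Groth.Prelude.Def_EtRam
import Groth.Agent.Lib.Helper10.SHens6
import Groth.Agent.S1988

/-!
Strict-henselization-like extensions of discrete valuation rings (helper10), part 7:
the descent of solutions from `A' ⊂ B'` to `A ⊂ B`.
-/

set_option autoImplicit false
set_option linter.unusedSectionVars false
set_option linter.style.haveILetI false

universe u

open IsLocalRing Polynomial IntermediateField TensorProduct

namespace Groth.Agent.Lib.helper10

namespace SHens

section Descent

variable (A B K L A' B' K' L' : Type u) [CommRing A] [IsDomain A] [IsDiscreteValuationRing A]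
  [CommRing B] [IsDomain B] [IsDiscreteValuationRing B] [Algebra A B]
  [IsLocalHom (algebraMap A B)]
  [Field K] [Field L] [Algebra A K] [IsFractionRing A K] [Algebra B L] [IsFractionRing B L]
  [Algebra K L] [Algebra A L] [IsScalarTower A K L] [IsScalarTower A B L]
  [CommRing A'] [IsDomain A'] [IsDiscreteValuationRing A']
  [CommRing B'] [IsDomain B'] [IsDiscreteValuationRing B'] [Field K'] [Field L']
  [Algebra B B'] [Algebra A' B']
  [Algebra A' K'] [IsFractionRing A' K'] [Algebra B' L'] [IsFractionRing B' L']
  [Algebra K' L'] [Algebra A' L'] [IsScalarTower A' K' L'] [IsScalarTower A' B' L']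
  [Algebra K K'] [Algebra A K'] [IsScalarTower A K K']
  [Algebra L L'] [Algebra B L'] [IsScalarTower B L L'] [IsScalarTower B B' L']
  [IsLocalHom (algebraMap B B')] [IsLocalHom (algebraMap A' B')]

include A' in
/-- the core of the descent: from a finite solution `K₁'/K'` to a finite solution over `K`,
being a splitting field of a polynomial over `K` all of whose roots are conjugates of a basis of
`K₁'`. -/
theorem descent_core (hinjA : Function.Injective (algebraMap A B))
    (hinjB : Function.Injective (algebraMap B B'))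
    (hcompat : ∀ x : K, algebraMap K' L' (algebraMap K K' x) = algebraMap L L' (algebraMap K L x))
    [Algebra.IsAlgebraic K K']
    (S : Set K') (hS : IntermediateField.adjoin K S = ⊤)
    (hSet : ∀ θ ∈ S, ∃ g : A[X], g.Monic ∧ aeval θ g = 0 ∧
      (∃ c : B', algebraMap B' L' c = algebraMap K' L' θ) ∧
      ∃ c d : B', c * d = 1 ∧ algebraMap B' L' c = algebraMap K' L' (aeval θ (derivative g)))
    (K₁ : Type u) [Field K₁] [Algebra K' K₁] [FiniteDimensional K' K₁]
    (hsol : EtRam.IsSolution B' K' L' K₁) :
    ∃ (f : K[X]), f ≠ 0 ∧ EtRam.IsSolution B K L f.SplittingField ∧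
      letI : Algebra K K₁ := ((algebraMap K' K₁).comp (algebraMap K K')).toAlgebra
      ∀ ρ ∈ f.rootSet f.SplittingField, ∃ β : K₁, aeval ρ (minpoly K β) = 0 := by
  classical
  letI algKK₁ : Algebra K K₁ := ((algebraMap K' K₁).comp (algebraMap K K')).toAlgebra
  haveI : IsScalarTower K K' K₁ := IsScalarTower.of_algebraMap_eq (fun _ => rfl)
  haveI : Algebra.IsAlgebraic K' K₁ := Algebra.IsAlgebraic.of_finite K' K₁
  haveI : Algebra.IsAlgebraic K K₁ := Algebra.IsAlgebraic.trans K K' K₁
  let b := Module.finBasis K' K₁
  let f : K[X] := ∏ j, minpoly K (b j)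
  have hf0 : f ≠ 0 := by
    rw [Finset.prod_ne_zero_iff]
    intro j _
    exact minpoly.ne_zero (Algebra.IsIntegral.isIntegral (b j))
  have hf0' : f.map (algebraMap K K') ≠ 0 := by
    rwa [Ne, Polynomial.map_eq_zero]
  -- the splitting field over `K'` and the embedding of `K₁`
  have hsplit' : ((f.map (algebraMap K K')).map
      (algebraMap K' (f.map (algebraMap K K')).SplittingField)).Splits :=
    SplittingField.splits _
  have hK : ∀ s ∈ Set.range b, IsIntegral K' s ∧ ((minpoly K' s).map
      (algebraMap K' (f.map (algebraMap K K')).SplittingField)).Splits := by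
    rintro _ ⟨j, rfl⟩
    refine ⟨Algebra.IsIntegral.isIntegral _, ?_⟩
    have h1 : minpoly K' (b j) ∣ f.map (algebraMap K K') := by
      refine (minpoly.dvd_map_of_isScalarTower K K' (b j)).trans ?_
      apply Polynomial.map_dvd
      exact Finset.dvd_prod_of_mem _ (Finset.mem_univ j)
    refine hsplit'.of_dvd ?_ (Polynomial.map_dvd _ h1)
    rwa [Ne, Polynomial.map_eq_zero]
  have hadj : IntermediateField.adjoin K' (Set.range b) = ⊤ := by
    apply IntermediateField.adjoin_eq_top_of_algebra
    rw [eq_top_iff]
    intro x _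
    have hx : x ∈ Submodule.span K' (Set.range b) := by rw [b.span_eq]; trivial
    exact Algebra.span_le_adjoin K' _ hx
  obtain ⟨ι⟩ := IntermediateField.nonempty_algHom_of_adjoin_splits hK hadj
  letI algK₁K₂' : Algebra K₁ (f.map (algebraMap K K')).SplittingField := ι.toRingHom.toAlgebra
  haveI : IsScalarTower K' K₁ (f.map (algebraMap K K')).SplittingField :=
    IsScalarTower.of_algebraMap_eq (fun x => (ι.commutes x).symm)
  -- persistence
  have hsol₂' : EtRam.IsSolution B' K' L' (f.map (algebraMap K K')).SplittingField :=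
    persist A' B' K' L' K₁ _ hsol
  -- descent to the splitting field over `K`
  letI algKL' : Algebra K L' := ((algebraMap L L').comp (algebraMap K L)).toAlgebra
  haveI : IsScalarTower K L L' := IsScalarTower.of_algebraMap_eq (fun _ => rfl)
  haveI : IsScalarTower K K' L' := IsScalarTower.of_algebraMap_eq (fun x => (hcompat x).symm)
  have hAC : ∀ a : A, ∃ c : B', algebraMap B' L' c = algebraMap K L' (algebraMap A K a) ∧
      (a ∈ maximalIdeal A → c ∈ maximalIdeal B') := by
    intro a
    refine ⟨algebraMap B B' (algebraMap A B a), ?_, fun ha => ?_⟩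
    · rw [← IsScalarTower.algebraMap_apply B B' L', IsScalarTower.algebraMap_apply B L L',
        ← IsScalarTower.algebraMap_apply A B L, IsScalarTower.algebraMap_apply A K L]
      rfl
    · rw [mem_maximalIdeal, mem_nonunits_iff] at ha ⊢
      intro hu
      exact ha (isUnit_of_map_unit (algebraMap A B) a (isUnit_of_map_unit (algebraMap B B') _ hu))
  have hsol₂ : EtRam.IsSolution B' K L' f.SplittingField :=
    descend_splitting A B' K K' L' f.SplittingField (f.map (algebraMap K K')).SplittingField
      hAC f S hS hSet hsol₂'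
  have hsol₃ : EtRam.IsSolution B K L f.SplittingField :=
    (Groth.Agent.S1988.result A B B' K L L' f.SplittingField hinjA hinjB).2 hsol₂
  refine ⟨f, hf0, hsol₃, ?_⟩
  intro ρ hρ
  rw [mem_rootSet'] at hρ
  have h1 := hρ.2
  rw [map_prod, Finset.prod_eq_zero_iff] at h1
  obtain ⟨j, -, hj⟩ := h1
  exact ⟨b j, hj⟩

include A' in
/-- **Descent of solutions** -/
theorem descent (hinjA : Function.Injective (algebraMap A B))
    (hinjB : Function.Injective (algebraMap B B'))
    (hcompat : ∀ x : K, algebraMap K' L' (algebraMap K K' x) = algebraMap L L' (algebraMap K L x))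
    [Algebra.IsSeparable K K']
    (S : Set K') (hS : IntermediateField.adjoin K S = ⊤)
    (hSet : ∀ θ ∈ S, ∃ g : A[X], g.Monic ∧ aeval θ g = 0 ∧
      (∃ c : B', algebraMap B' L' c = algebraMap K' L' θ) ∧
      ∃ c d : B', c * d = 1 ∧ algebraMap B' L' c = algebraMap K' L' (aeval θ (derivative g))) :
    ((∃ (K₁ : Type u) (_ : Field K₁) (_ : Algebra K' K₁), FiniteDimensional K' K₁ ∧
        EtRam.IsSolution B' K' L' K₁) →
      ∃ (K₁ : Type u) (_ : Field K₁) (_ : Algebra K K₁), FiniteDimensional K K₁ ∧
        EtRam.IsSolution B K L K₁) ∧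
    ((∃ (K₁ : Type u) (_ : Field K₁) (_ : Algebra K' K₁), FiniteDimensional K' K₁ ∧
        Algebra.IsSeparable K' K₁ ∧ EtRam.IsSolution B' K' L' K₁) →
      ∃ (K₁ : Type u) (_ : Field K₁) (_ : Algebra K K₁), FiniteDimensional K K₁ ∧
        Algebra.IsSeparable K K₁ ∧ EtRam.IsSolution B K L K₁) := by
  haveI : Algebra.IsAlgebraic K K' := Algebra.IsSeparable.isAlgebraic K K'
  constructor
  · rintro ⟨K₁, _, _, hfin, hsol⟩
    haveI := hfin
    obtain ⟨f, -, hsol', -⟩ := descent_core A B K L A' B' K' L' hinjA hinjB hcompat S hS hSet K₁ hsol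
    exact ⟨f.SplittingField, inferInstance, inferInstance, inferInstance, hsol'⟩
  · rintro ⟨K₁, _, _, hfin, hsep, hsol⟩
    haveI := hfin
    haveI := hsep
    obtain ⟨f, hf0, hsol', hroots⟩ :=
      descent_core A B K L A' B' K' L' hinjA hinjB hcompat S hS hSet K₁ hsol
    refine ⟨f.SplittingField, inferInstance, inferInstance, inferInstance, ?_, hsol'⟩
    letI algKK₁ : Algebra K K₁ := ((algebraMap K' K₁).comp (algebraMap K K')).toAlgebra
    haveI : IsScalarTower K K' K₁ := IsScalarTower.of_algebraMap_eq (fun _ => rfl)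
    haveI : Algebra.IsSeparable K K₁ := Algebra.IsSeparable.trans K K' K₁
    have h1 : IntermediateField.adjoin K (f.rootSet f.SplittingField) = ⊤ :=
      IntermediateField.adjoin_eq_top_of_algebra K _ (IsSplittingField.adjoin_rootSet _ f)
    have h2 : Algebra.IsSeparable K
        (IntermediateField.adjoin K (f.rootSet f.SplittingField)) := by
      rw [IntermediateField.isSeparable_adjoin_iff_isSeparable]
      intro ρ hρ
      obtain ⟨β, hβ⟩ := hroots ρ hρ
      have hsepβ : (minpoly K β).Separable := Algebra.IsSeparable.isSeparable K β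
      exact hsepβ.of_dvd (minpoly.dvd K ρ hβ)
    rw [h1] at h2
    exact AlgEquiv.Algebra.isSeparable (IntermediateField.topEquiv (F := K) (E := f.SplittingField))

end Descent

end SHens

end Groth.Agent.Lib.helper10
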