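import Mathlib
import Groth.Prelude.Def_EtRam
import Groth.Agent.Lib.Helper10.SHens6

/-!
Strict-henselization-like extensions of discrete valuation rings (helper10), part 8:
general lemmas on valued fields: discreteness from a dominated DVR, DVR from discreteness, lifting
of residue roots in an algebraically closed valued field, small field-theoretic transfers.
-/

set_option autoImplicit false
set_option linter.unusedSectionVars false
set_option linter.style.haveILetI false

universe u

open IsLocalRing Polynomial IntermediateField TensorProduct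

namespace Groth.Agent.Lib.helper10

namespace SHens

section Dominated

variable (R : Type u) {F Ω : Type u} [CommRing R] [IsDomain R] [IsDiscreteValuationRing R]
  [Field F] [Field Ω] [Algebra R F] [IsFractionRing R F] [Algebra F Ω] (𝒪 : ValuationSubring Ω)

/-- a dominated DVR makes its fraction field discretely valued. -/
theorem isDisc_of_dominates
    (hdom : EtRam.Dominates R ((algebraMap F Ω).comp (algebraMap R F)) 𝒪) {ϖ : R}
    (hϖ : Irreducible ϖ) : IsDisc 𝒪 (algebraMap R F ϖ) := by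
  have hinj : Function.Injective (algebraMap R F) := IsFractionRing.injective R F
  have hϖ0 : algebraMap R F ϖ ≠ 0 := fun h =>
    hϖ.ne_zero (hinj (by rw [h, map_zero]))
  have hϖ1 : 𝒪.valuation (algebraMap F Ω (algebraMap R F ϖ)) < 1 :=
    hdom.2 ϖ ((mem_maximalIdeal _).mpr hϖ.not_isUnit)
  have hunit : ∀ u : Rˣ, 𝒪.valuation (algebraMap F Ω (algebraMap R F (u : R))) = 1 := by
    intro u
    have h1 : 𝒪.valuation (algebraMap F Ω (algebraMap R F (u : R))) ≤ 1 :=
      (ValuationSubring.valuation_le_one_iff 𝒪 _).mpr (hdom.1 _)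
    have h2 : 𝒪.valuation (algebraMap F Ω (algebraMap R F ((u⁻¹ : Rˣ) : R))) ≤ 1 :=
      (ValuationSubring.valuation_le_one_iff 𝒪 _).mpr (hdom.1 _)
    have h3 : 𝒪.valuation (algebraMap F Ω (algebraMap R F (u : R))) *
        𝒪.valuation (algebraMap F Ω (algebraMap R F ((u⁻¹ : Rˣ) : R))) = 1 := by
      rw [← map_mul, ← map_mul, ← map_mul, Units.mul_inv, map_one, map_one, map_one]
    rcases h1.lt_or_eq with hlt | heq
    · exfalso
      have := mul_lt_one_of_lt_of_le hlt h2
      rw [h3] at this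
      exact lt_irrefl _ this
    · exact heq
  have key : ∀ r : R, r ≠ 0 → ∃ n : ℕ, 𝒪.valuation (algebraMap F Ω (algebraMap R F r)) =
      𝒪.valuation (algebraMap F Ω (algebraMap R F ϖ)) ^ n := by
    intro r hr
    obtain ⟨n, u, hu⟩ := IsDiscreteValuationRing.associated_pow_irreducible hr hϖ
    refine ⟨n, ?_⟩
    have h2 := congrArg (fun y : R => 𝒪.valuation (algebraMap F Ω (algebraMap R F y))) hu
    simp only [map_mul, map_pow] at h2
    rw [hunit u, mul_one] at h2
    exact h2
  have hv0 : 𝒪.valuation (algebraMap F Ω (algebraMap R F ϖ)) ≠ 0 :=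
    (Valuation.ne_zero_iff _).mpr ((_root_.map_ne_zero _).mpr hϖ0)
  refine ⟨hϖ0, hϖ1, fun x hx => ?_⟩
  obtain ⟨r, s, hs, rfl⟩ := IsFractionRing.div_surjective (A := R) x
  have hs0 : s ≠ 0 := nonZeroDivisors.ne_zero hs
  have hr0 : r ≠ 0 := by
    rintro rfl
    rw [map_zero, zero_div] at hx
    exact hx rfl
  obtain ⟨n, hn⟩ := key r hr0
  obtain ⟨m, hm⟩ := key s hs0
  refine ⟨(n : ℤ) - m, ?_⟩
  rw [map_div₀, map_div₀, hn, hm, zpow_sub₀ hv0, zpow_natCast, zpow_natCast]

/-- the valuation ring induced on the fraction field of a dominated DVR is that DVR. -/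
theorem mem_range_of_dominates
    (hdom : EtRam.Dominates R ((algebraMap F Ω).comp (algebraMap R F)) 𝒪) (x : F)
    (hx : algebraMap F Ω x ∈ 𝒪) : ∃ r : R, algebraMap R F r = x := by
  by_cases hx0 : x = 0
  · exact ⟨0, by rw [hx0, map_zero]⟩
  rcases ValuationRing.isInteger_or_isInteger R x with ⟨r, hr⟩ | ⟨r, hr⟩
  · exact ⟨r, hr⟩
  · by_cases hu : IsUnit r
    · obtain ⟨u, rfl⟩ := hu
      refine ⟨((u⁻¹ : Rˣ) : R), ?_⟩
      have h1 : algebraMap R F (u : R) * algebraMap R F ((u⁻¹ : Rˣ) : R) = 1 := by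
        rw [← map_mul, Units.mul_inv, map_one]
      rw [hr] at h1
      have h2 := eq_inv_of_mul_eq_one_right h1
      rw [h2, inv_inv]
    · exfalso
      have h1 : 𝒪.valuation (algebraMap F Ω (algebraMap R F r)) < 1 :=
        hdom.2 r ((mem_maximalIdeal _).mpr hu)
      rw [hr, map_inv₀, map_inv₀] at h1
      have h2 : 𝒪.valuation (algebraMap F Ω x) ≤ 1 :=
        (ValuationSubring.valuation_le_one_iff 𝒪 _).mpr hx
      have h0 : 𝒪.valuation (algebraMap F Ω x) ≠ 0 :=
        (Valuation.ne_zero_iff _).mpr ((_root_.map_ne_zero _).mpr hx0)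
      have h3 : 1 ≤ (𝒪.valuation (algebraMap F Ω x))⁻¹ :=
        (one_le_inv₀ (zero_lt_iff.mpr h0)).mpr h2
      exact absurd h1 (not_lt.mpr h3)

end Dominated

section DVR

variable {F Ω : Type u} [Field F] [Field Ω] [Algebra F Ω] {𝒪 : ValuationSubring Ω}

/-- a discretely valued field has a discrete valuation ring. -/
theorem IsDisc.isDVR {π : F} (h : IsDisc 𝒪 π) : IsDiscreteValuationRing (VF (F := F) 𝒪) := by
  have hv0 := h.val_ne_zero
  have hπV : π ∈ VF (F := F) 𝒪 := by
    rw [ValuationSubring.mem_comap, ← ValuationSubring.valuation_le_one_iff]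
    exact h.2.1.le
  have hmax := h.maximalIdeal_eq hπV
  have hπ0 : (⟨π, hπV⟩ : VF (F := F) 𝒪) ≠ 0 := fun h0 => h.1 (congrArg Subtype.val h0)
  have hirr : Irreducible (⟨π, hπV⟩ : VF (F := F) 𝒪) :=
    IsDiscreteValuationRing.irreducible_of_span_eq_maximalIdeal _ hπ0 hmax
  apply IsDiscreteValuationRing.ofHasUnitMulPowIrreducibleFactorization
  refine ⟨⟨π, hπV⟩, hirr, ?_⟩
  intro x hx
  have hx0 : (x : F) ≠ 0 := fun h0 => hx (Subtype.ext h0)
  obtain ⟨n, hn⟩ := h.2.2 x hx0
  have hle : 𝒪.valuation (algebraMap F Ω x) ≤ 1 :=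
    (ValuationSubring.valuation_le_one_iff 𝒪 _).mpr x.2
  have hn0 : 0 ≤ n := by
    by_contra hneg
    rw [not_le] at hneg
    have h1 : 𝒪.valuation (algebraMap F Ω π) ^ (-n) < 1 :=
      (zpow_lt_one_iff' hv0 h.2.1 (-n)).mpr (by omega)
    rw [zpow_neg, ← hn] at h1
    have h0 : 𝒪.valuation (algebraMap F Ω x) ≠ 0 :=
      (Valuation.ne_zero_iff _).mpr ((_root_.map_ne_zero _).mpr hx0)
    have h3 : 1 ≤ (𝒪.valuation (algebraMap F Ω x))⁻¹ :=
      (one_le_inv₀ (zero_lt_iff.mpr h0)).mpr hle
    exact absurd h1 (not_lt.mpr h3)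
  obtain ⟨m, rfl⟩ : ∃ m : ℕ, n = (m : ℤ) := ⟨n.toNat, by omega⟩
  rw [zpow_natCast] at hn
  refine ⟨m, ?_⟩
  have hπm0 : π ^ m ≠ 0 := pow_ne_zero _ h.1
  have hval : 𝒪.valuation (algebraMap F Ω ((x : F) / π ^ m)) = 1 := by
    rw [map_div₀, map_div₀, hn, map_pow, map_pow, div_self (pow_ne_zero _ hv0)]
  have hu1 : (x : F) / π ^ m ∈ VF (F := F) 𝒪 := by
    rw [ValuationSubring.mem_comap, ← ValuationSubring.valuation_le_one_iff]
    exact hval.le
  have hu2 : ((x : F) / π ^ m)⁻¹ ∈ VF (F := F) 𝒪 := by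
    rw [ValuationSubring.mem_comap, ← ValuationSubring.valuation_le_one_iff, map_inv₀, map_inv₀,
      hval, inv_one]
  have hne : (x : F) / π ^ m ≠ 0 := div_ne_zero hx0 hπm0
  refine ⟨⟨⟨_, hu1⟩, ⟨_, hu2⟩, Subtype.ext (mul_inv_cancel₀ hne),
    Subtype.ext (inv_mul_cancel₀ hne)⟩, ?_⟩
  apply Subtype.ext
  show π ^ m * ((x : F) / π ^ m) = x
  rw [mul_div_cancel₀ _ hπm0]

end DVR

section Lift

variable {Ω : Type u} [Field Ω] [IsAlgClosed Ω] (W : ValuationSubring Ω)

theorem mem_of_root {R : Type*} [CommRing R] (φ : R →+* W) (h : R[X]) (hm : h.Monic) (a : Ω)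
    (ha : (h.map (W.subtype.comp φ)).eval a = 0) : a ∈ W := by
  apply EppSol.mem_of_isIntegral W (A := W) (fun x => x.2) a
  refine ⟨h.map φ, hm.map _, ?_⟩
  rw [← aeval_def, aeval_def, eval₂_map]
  rw [eval_map] at ha
  exact ha

/-- a root modulo the maximal ideal lifts to a root, in an algebraically closed valued field. -/
theorem exists_root_lift {R : Type*} [CommRing R] (φ : R →+* W) (h : R[X]) (hm : h.Monic)
    (ξ : W) (hξ : h.eval₂ φ ξ ∈ maximalIdeal W) :
    ∃ ρ : W, h.eval₂ φ ρ = 0 ∧ ξ - ρ ∈ maximalIdeal W := by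
  classical
  set hΩ : Polynomial Ω := h.map (W.subtype.comp φ) with hhΩ
  have hmΩ : hΩ.Monic := hm.map _
  have hsplit : hΩ.Splits := IsAlgClosed.splits hΩ
  have hcoe : ∀ y : W, ((h.eval₂ φ y : W) : Ω) = hΩ.eval (y : Ω) := by
    intro y
    rw [hhΩ, eval_map]
    exact Polynomial.hom_eval₂ h φ W.subtype y
  have heval := hsplit.eval_eq_prod_roots_of_monic hmΩ (ξ : Ω)
  have hlt : W.valuation (hΩ.eval (ξ : Ω)) < 1 := by
    rw [← hcoe, ← ValuationSubring.valuation_lt_one_iff]
    exact hξ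
  have hroots : ∀ a ∈ hΩ.roots, a ∈ W := by
    intro a ha
    exact mem_of_root W φ h hm a ((mem_roots hmΩ.ne_zero).mp ha)
  have hex : ∃ a ∈ hΩ.roots, W.valuation ((ξ : Ω) - a) < 1 := by
    by_contra hne
    push Not at hne
    have h1 : ∀ y ∈ (hΩ.roots.map (fun a => (ξ : Ω) - a)).map W.valuation, y = 1 := by
      intro y hy
      obtain ⟨z, hz, rfl⟩ := Multiset.mem_map.mp hy
      obtain ⟨a, ha, rfl⟩ := Multiset.mem_map.mp hz
      have h2 : W.valuation ((ξ : Ω) - a) ≤ 1 :=
        (ValuationSubring.valuation_le_one_iff W _).mpr (sub_mem ξ.2 (hroots a ha))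
      exact le_antisymm h2 (hne a ha)
    have h3 := Multiset.prod_eq_one h1
    rw [← map_multiset_prod, ← heval] at h3
    rw [h3] at hlt
    exact lt_irrefl _ hlt
  obtain ⟨a, ha, hlt'⟩ := hex
  refine ⟨⟨a, hroots a ha⟩, ?_, ?_⟩
  · apply Subtype.ext
    rw [hcoe]
    exact (mem_roots hmΩ.ne_zero).mp ha
  · rw [ValuationSubring.valuation_lt_one_iff]
    exact hlt'

/-- the residue field of a valuation ring of an algebraically closed field is algebraically
closed. -/
theorem isAlgClosed_residueField : IsAlgClosed (ResidueField W) := by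
  apply IsAlgClosed.of_exists_root
  intro p hpm hpirr
  obtain ⟨q, hq, -, hqm⟩ := lifts_and_natDegree_eq_and_monic
    (f := residue W) ((mem_lifts p).mpr (Polynomial.map_surjective _ residue_surjective p)) hpm
  have hdeg : (q.map W.subtype).degree ≠ 0 := by
    rw [degree_map_eq_of_injective (Subtype.val_injective)]
    intro h0
    have h1 := (hqm.degree_map (residue W))
    rw [hq, h0] at h1
    exact (degree_pos_of_irreducible hpirr).ne' h1
  obtain ⟨a, ha⟩ := IsAlgClosed.exists_root (q.map W.subtype) hdeg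
  have haW : a ∈ W := by
    apply mem_of_root W (RingHom.id W) q hqm a
    rw [RingHom.comp_id]
    exact ha
  refine ⟨residue W ⟨a, haW⟩, ?_⟩
  have hh := Polynomial.hom_eval₂ q (RingHom.id W) (residue W) ⟨a, haW⟩
  rw [RingHom.comp_id] at hh
  rw [← hq, eval_map, ← hh]
  have h0 : q.eval₂ (RingHom.id W) ⟨a, haW⟩ = 0 := by
    apply Subtype.ext
    have h1 := Polynomial.hom_eval₂ q (RingHom.id W) W.subtype ⟨a, haW⟩
    rw [RingHom.comp_id] at h1
    show W.subtype _ = 0
    rw [h1, ← eval_map]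
    exact ha
  rw [h0, map_zero]

end Lift

section FieldTransfer

/-- separability over a quotient-isomorphic smaller base. -/
theorem isSeparable_of_tower_surj {k k' E : Type*} [Field k] [Field k'] [Field E] [Algebra k k']
    [Algebra k' E] [Algebra k E] [IsScalarTower k k' E]
    (hs : Function.Surjective (algebraMap k k')) {x : E} (h : IsSeparable k' x) :
    IsSeparable k x := by
  unfold IsSeparable at h ⊢
  obtain ⟨p₀, hp₀⟩ := Polynomial.map_surjective _ hs (minpoly k' x)
  have hsep : p₀.Separable := by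
    rw [← Polynomial.separable_map (algebraMap k k'), hp₀]
    exact h
  have h0 : aeval x p₀ = 0 := by
    rw [← aeval_map_algebraMap k', hp₀, minpoly.aeval]
  exact hsep.of_dvd (minpoly.dvd k x h0)

/-- separable closedness transfers along ring isomorphisms. -/
theorem isSepClosed_of_ringEquiv {k k' : Type*} [Field k] [Field k'] (e : k ≃+* k')
    [IsSepClosed k] : IsSepClosed k' := by
  apply IsSepClosed.of_exists_root
  intro p hpm hpirr hpsep
  have hsep : (p.map e.symm.toRingHom).Separable := (Polynomial.separable_map _).mpr hpsep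
  have hdeg : (p.map e.symm.toRingHom).degree ≠ 0 := by
    rw [degree_map]
    exact (degree_pos_of_irreducible hpirr).ne'
  obtain ⟨x, hx⟩ := IsSepClosed.exists_root _ hdeg hsep
  refine ⟨e x, ?_⟩
  replace hx : (p.map e.symm.toRingHom).eval x = 0 := hx
  rw [eval_map] at hx
  have h1 := Polynomial.hom_eval₂ p e.symm.toRingHom e.toRingHom x
  rw [hx, map_zero] at h1
  have h2 : e.toRingHom.comp e.symm.toRingHom = RingHom.id k' := by
    ext y
    exact e.apply_symm_apply y
  rw [h2, eval₂_id] at h1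
  exact h1.symm

end FieldTransfer

end SHens

end Groth.Agent.Lib.helper10
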