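import Mathlib
import Groth.Prelude.Def_EtRam
import Groth.Agent.Lib.Helper10.SHens8

/-!
Strict-henselization-like extensions of discrete valuation rings (helper10), part 9:
the strict henselization of a DVR inside an algebraically closed valued field.
-/

set_option autoImplicit false
set_option linter.unusedSectionVars false
set_option linter.style.haveILetI false

universe u

open IsLocalRing Polynomial IntermediateField TensorProduct

namespace Groth.Agent.Lib.helper10

namespace SHens

section Construction

variable (R F : Type u) {Ω : Type u} [CommRing R] [IsDomain R] [IsDiscreteValuationRing R]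
  [Field F] [Field Ω] [Algebra R F] [IsFractionRing R F] [Algebra F Ω] (W : ValuationSubring Ω)

/-- the field generated by the étale-integral elements. -/
abbrev SH : IntermediateField F Ω := adjoin F (EtInt F W)

/-- its valuation ring. -/
abbrev RH : ValuationSubring (SH F W) := VF (F := SH F W) W

variable {F}

/-- the map from the DVR to its strict henselization. -/
def toRH (hdom : EtRam.Dominates R ((algebraMap F Ω).comp (algebraMap R F)) W) :
    R →+* RH F W :=
  RingHom.codRestrict ((algebraMap F (SH F W)).comp (algebraMap R F)) (RH F W).toSubring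
    (fun r => hdom.1 r)

/-- the map from the DVR to the big valuation ring. -/
def toW (hdom : EtRam.Dominates R ((algebraMap F Ω).comp (algebraMap R F)) W) : R →+* W :=
  RingHom.codRestrict ((algebraMap F Ω).comp (algebraMap R F)) W.toSubring hdom.1

/-- the map from the DVR to the induced valuation ring of its fraction field. -/
def toVF (hdom : EtRam.Dominates R ((algebraMap F Ω).comp (algebraMap R F)) W) :
    R →+* VF (F := F) W :=
  RingHom.codRestrict (algebraMap R F) (VF (F := F) W).toSubring (fun r => hdom.1 r)

variable (hdom : EtRam.Dominates R ((algebraMap F Ω).comp (algebraMap R F)) W)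

include hdom in
theorem isLocalHom_of_dominates {S : Type*} [CommRing S] (g : R →+* S) (j : S →+* Ω)
    (hj : ∀ s, j s ∈ W)
    (hcomp : ∀ r, j (g r) = algebraMap F Ω (algebraMap R F r)) : IsLocalHom g := by
  constructor
  intro r hr
  by_contra hnu
  have h1 : W.valuation (algebraMap F Ω (algebraMap R F r)) < 1 :=
    hdom.2 r ((mem_maximalIdeal _).mpr hnu)
  obtain ⟨u, hu⟩ := hr
  have h2 : W.valuation (j (u : S)) * W.valuation (j ((u⁻¹ : Sˣ) : S)) = 1 := by
    rw [← map_mul, ← map_mul, Units.mul_inv, map_one, map_one]
  have h3 : W.valuation (j ((u⁻¹ : Sˣ) : S)) ≤ 1 :=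
    (ValuationSubring.valuation_le_one_iff W _).mpr (hj _)
  rw [hu, hcomp] at h2
  have h4 := mul_lt_one_of_lt_of_le h1 h3
  rw [h2] at h4
  exact lt_irrefl _ h4

instance isLocalHom_toRH : IsLocalHom (toRH R W hdom) :=
  isLocalHom_of_dominates R W hdom _ ((algebraMap (SH F W) Ω).comp (RH F W).subtype)
    (fun s => s.2) (fun _ => rfl)

instance isLocalHom_toW : IsLocalHom (toW R W hdom) :=
  isLocalHom_of_dominates R W hdom _ W.subtype (fun s => s.2) (fun _ => rfl)

instance isLocalHom_toVF : IsLocalHom (toVF R W hdom) :=
  isLocalHom_of_dominates R W hdom _ ((algebraMap F Ω).comp (VF (F := F) W).subtype)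
    (fun s => s.2) (fun _ => rfl)

include hdom in
theorem toRH_injective : Function.Injective (toRH R W hdom) := by
  intro x y hxy
  have h1 := congrArg (fun z : RH F W => ((z : SH F W) : Ω)) hxy
  exact IsFractionRing.injective R F ((algebraMap F Ω).injective h1)

include hdom in
theorem toVF_surjective : Function.Surjective (toVF R W hdom) := by
  intro x
  obtain ⟨r, hr⟩ := mem_range_of_dominates R W hdom (x : F) x.2
  exact ⟨r, Subtype.ext hr⟩

include hdom in
/-- the strict henselization is discretely valued. -/
theorem isDisc_SH {ϖ : R} (hϖ : Irreducible ϖ) :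
    IsDisc (F := SH F W) W (algebraMap F (SH F W) (algebraMap R F ϖ)) := by
  have hdisc := isDisc_of_dominates R W hdom hϖ
  obtain ⟨h1, -⟩ := iter hdisc (EtInt F W) subset_rfl
  refine ⟨(_root_.map_ne_zero _).mpr hdisc.1, hdisc.2.1, fun x hx => ?_⟩
  exact h1 (x : Ω) x.2 (fun h0 => hx (Subtype.ext h0))

include hdom in
theorem isDVR_RH : IsDiscreteValuationRing (RH F W) := by
  obtain ⟨ϖ, hϖ⟩ := IsDiscreteValuationRing.exists_irreducible R
  exact (isDisc_SH R W hdom hϖ).isDVR

omit [IsDomain R] [IsDiscreteValuationRing R] [IsFractionRing R F] in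
/-- the strict henselization is separable algebraic. -/
theorem isSeparable_SH : Algebra.IsSeparable F (SH F W) := by
  rw [IntermediateField.isSeparable_adjoin_iff_isSeparable]
  rintro θ ⟨hθ, g, hgm, hg0, hg'⟩
  apply isSeparable_of_simple_root (g.map (VF (F := F) W).subtype)
  · have := coe_eval₂_incl (F := F) ⟨θ, hθ⟩ g
    rw [hg0] at this
    exact this.symm
  · rw [derivative_map]
    have := coe_eval₂_incl (F := F) ⟨θ, hθ⟩ (derivative g)
    rw [← this]
    intro h0
    have h1 : g.derivative.eval₂ (incl W) ⟨θ, hθ⟩ = 0 := Subtype.ext h0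
    rw [h1] at hg'
    exact not_isUnit_zero hg'

end Construction

section Residue

attribute [local instance] resAlg

variable (R : Type u) {F Ω : Type u} [CommRing R] [IsDomain R] [IsDiscreteValuationRing R]
  [Field F] [Field Ω] [IsAlgClosed Ω] [Algebra R F] [IsFractionRing R F] [Algebra F Ω]
  (W : ValuationSubring Ω)
  (hdom : EtRam.Dominates R ((algebraMap F Ω).comp (algebraMap R F)) W)

/-- the residue field of the strict henselization is a separable closure of the residue field. -/
theorem isSepClosure_residue :
    letI := (ResidueField.map (toRH R W hdom)).toAlgebra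
    IsSepClosure (ResidueField R) (ResidueField (RH F W)) := by
  letI algRH : Algebra (ResidueField R) (ResidueField (RH F W)) :=
    (ResidueField.map (toRH R W hdom)).toAlgebra
  letI algRW : Algebra (ResidueField R) (ResidueField W) :=
    (ResidueField.map (toW R W hdom)).toAlgebra
  letI algRV : Algebra (ResidueField R) (ResidueField (VF (F := F) W)) :=
    (ResidueField.map (toVF R W hdom)).toAlgebra
  haveI tower : IsScalarTower (ResidueField R) (ResidueField (VF (F := F) W)) (ResidueField W) := by
    refine IsScalarTower.of_algebraMap_eq (fun x => ?_)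
    obtain ⟨r, rfl⟩ := residue_surjective x
    rfl
  have hsurj : Function.Surjective
      (algebraMap (ResidueField R) (ResidueField (VF (F := F) W))) := by
    intro x
    obtain ⟨x, rfl⟩ := residue_surjective x
    obtain ⟨r, rfl⟩ := toVF_surjective R W hdom x
    exact ⟨residue R r, rfl⟩
  obtain ⟨ϖ, hϖ⟩ := IsDiscreteValuationRing.exists_irreducible R
  have hdisc := isDisc_of_dominates R W hdom hϖ
  obtain ⟨-, hit⟩ := iter hdisc (EtInt F W) subset_rfl
  -- the embedding of residue fields
  let ι : ResidueField (RH F W) →+* ResidueField W :=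
    ResidueField.map (incl (F := SH F W) W)
  have hιcomm : ∀ x : ResidueField R,
      ι (algebraMap (ResidueField R) (ResidueField (RH F W)) x) =
        algebraMap (ResidueField R) (ResidueField W) x := by
    intro x
    obtain ⟨r, rfl⟩ := residue_surjective x
    rfl
  -- `⊆`
  have hsub : ∀ y : ResidueField (RH F W),
      ι y ∈ separableClosure (ResidueField R) (ResidueField W) := by
    intro y
    obtain ⟨y, rfl⟩ := residue_surjective y
    have h1 := hit (incl (F := SH F W) W y) (y : SH F W).2
    rw [mem_separableClosure_iff] at h1 ⊢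
    exact isSeparable_of_tower_surj hsurj h1
  -- `⊇`
  have hsup : ∀ x ∈ separableClosure (ResidueField R) (ResidueField W), ∃ y, ι y = x := by
    intro x hx
    rw [mem_separableClosure_iff] at hx
    have hint : IsIntegral (ResidueField R) x := hx.isIntegral
    have hm : (minpoly (ResidueField R) x).Monic := minpoly.monic hint
    obtain ⟨h, hh, -, hhm⟩ := lifts_and_natDegree_eq_and_monic (f := residue R)
      ((mem_lifts _).mpr (Polynomial.map_surjective _ residue_surjective _)) hm
    obtain ⟨ξ, rfl⟩ := residue_surjective x
    have hξ : h.eval₂ (toW R W hdom) ξ ∈ maximalIdeal W := by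
      rw [← residue_eq_zero_iff, residue_eval₂, hh]
      exact minpoly.aeval (ResidueField R) (residue W ξ)
    obtain ⟨ρ, hρ0, hρξ⟩ := exists_root_lift W (toW R W hdom) h hhm ξ hξ
    have hres : residue W ρ = residue W ξ := by
      rw [eq_comm, ← sub_eq_zero, ← map_sub, residue_eq_zero_iff]
      exact hρξ
    have hcomp : (incl (F := F) W).comp (toVF R W hdom) = toW R W hdom := by
      ext r
      rfl
    have hρE : (ρ : Ω) ∈ EtInt F W := by
      refine ⟨ρ.2, h.map (toVF R W hdom), hhm.map _, ?_, ?_⟩
      · rw [eval₂_map, hcomp]
        exact hρ0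
      · rw [derivative_map, eval₂_map, hcomp]
        by_contra hnu
        have h1 : residue W (h.derivative.eval₂ (toW R W hdom) ρ) = 0 := by
          rw [residue_eq_zero_iff]
          exact (mem_maximalIdeal _).mpr hnu
        rw [residue_eval₂, ← derivative_map, hh, hres] at h1
        exact hx.aeval_derivative_ne_zero (minpoly.aeval _ _) h1
    have hρS : (ρ : Ω) ∈ SH F W := IntermediateField.subset_adjoin _ _ hρE
    refine ⟨residue _ ⟨⟨(ρ : Ω), hρS⟩, ρ.2⟩, ?_⟩
    rw [← hres]
    rfl
  -- the isomorphism
  haveI : IsAlgClosed (ResidueField W) := isAlgClosed_residueField W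
  let ι' : ResidueField (RH F W) →+*
      separableClosure (ResidueField R) (ResidueField W) :=
    RingHom.codRestrict ι (separableClosure (ResidueField R) (ResidueField W)).toSubring hsub
  have hbij : Function.Bijective ι' := by
    constructor
    · exact ι'.injective
    · rintro ⟨x, hx⟩
      obtain ⟨y, hy⟩ := hsup x hx
      exact ⟨y, Subtype.ext hy⟩
  let e : ResidueField (RH F W) ≃+* separableClosure (ResidueField R) (ResidueField W) :=
    RingEquiv.ofBijective ι' hbij
  haveI hsc : IsSepClosed (separableClosure (ResidueField R) (ResidueField W)) :=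
    IsSepClosure.sep_closed (ResidueField R)
  haveI : IsSepClosed (ResidueField (RH F W)) := isSepClosed_of_ringEquiv e.symm
  refine isSepClosure_iff.mpr ⟨inferInstance, ⟨fun y => ?_⟩⟩
  let ιa : ResidueField (RH F W) →ₐ[ResidueField R] ResidueField W :=
    { ι with commutes' := hιcomm }
  have h1 : minpoly (ResidueField R) (ιa y) = minpoly (ResidueField R) y :=
    minpoly.algHom_eq ιa ιa.injective y
  have h2 := hsub y
  rw [mem_separableClosure_iff] at h2
  unfold IsSeparable at h2 ⊢
  rw [← h1]
  exact h2

end Residue

end SHens

end Groth.Agent.Lib.helper10
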