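import Mathlib
import Groth.Prelude.Def_EtRam
import Groth.Agent.Lib.Helper10.SHens7
import Groth.Agent.Lib.Helper10.SHens9

/-!
Strict-henselization-like extensions of discrete valuation rings (helper10), part 10:
the square of strict henselizations inside a common algebraically closed valued field.
-/

set_option autoImplicit false
set_option linter.unusedSectionVars false
set_option linter.style.haveILetI false

universe u

open IsLocalRing Polynomial IntermediateField TensorProduct

namespace Groth.Agent.Lib.helper10

namespace SHens

section Mono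

variable (F E : Type u) {Ω : Type u} [Field F] [Field E] [Field Ω] [Algebra F E] [Algebra F Ω]
  [Algebra E Ω] [IsScalarTower F E Ω] (W : ValuationSubring Ω)

/-- base change of the induced valuation rings along a field extension. -/
def toE' : VF (F := F) W →+* VF (F := E) W where
  toFun x := ⟨algebraMap F E x, by
    rw [ValuationSubring.mem_comap, ← IsScalarTower.algebraMap_apply F E Ω]
    exact x.2⟩
  map_one' := Subtype.ext (map_one _)
  map_mul' x y := Subtype.ext (map_mul _ _ _)
  map_zero' := Subtype.ext (map_zero _)
  map_add' x y := Subtype.ext (map_add _ _ _)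

theorem incl_comp_toE' : (incl (F := E) W).comp (toE' F E W) = incl (F := F) W := by
  ext x
  exact (IsScalarTower.algebraMap_apply F E Ω (x : F)).symm

theorem etInt_mono' : EtInt F W ⊆ EtInt E W := by
  rintro θ ⟨hθ, g, hgm, hg0, hg'⟩
  refine ⟨hθ, g.map (toE' F E W), hgm.map _, ?_, ?_⟩
  · rw [eval₂_map, incl_comp_toE']; exact hg0
  · rw [derivative_map, eval₂_map, incl_comp_toE']; exact hg'

theorem SH_le (x : Ω) (hx : x ∈ SH F W) : x ∈ SH E W := by
  have h : ((adjoin F (EtInt F W) : IntermediateField F Ω) : Set Ω) ⊆
      (adjoin E (EtInt E W) : IntermediateField E Ω) := by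
    rw [adjoin_subset_adjoin_iff]
    constructor
    · rintro _ ⟨y, rfl⟩
      rw [IsScalarTower.algebraMap_apply F E Ω]
      exact IntermediateField.algebraMap_mem _ _
    · exact (etInt_mono' F E W).trans (IntermediateField.subset_adjoin _ _)
  exact h hx

/-- the inclusion of strict henselizations. -/
def jSH : SH F W →+* SH E W where
  toFun x := ⟨(x : Ω), SH_le F E W x.1 x.2⟩
  map_one' := rfl
  map_mul' _ _ := rfl
  map_zero' := rfl
  map_add' _ _ := rfl

/-- the inclusion of their valuation rings. -/
def jRH : RH F W →+* RH E W where
  toFun x := ⟨jSH F E W (x : SH F W), x.2⟩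
  map_one' := rfl
  map_mul' _ _ := rfl
  map_zero' := rfl
  map_add' _ _ := rfl

theorem jRH_injective : Function.Injective (jRH F E W) := by
  intro x y hxy
  have h1 := congrArg (fun z : RH E W => ((z : SH E W) : Ω)) hxy
  exact Subtype.ext (Subtype.ext h1)

theorem isUnit_RH_iff (x : RH F W) : IsUnit x ↔ W.valuation (((x : SH F W) : Ω)) = 1 := by
  rw [ValuationSubring.valuation_eq_one_iff, TotRam.comap_val_eq_one_iff]
  rfl

instance isLocalHom_jRH : IsLocalHom (jRH F E W) := by
  constructor
  intro x hx
  rw [isUnit_RH_iff] at hx ⊢
  exact hx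

/-- the generators of `SH F W` inside itself. -/
theorem adjoin_preimage_eq_top :
    IntermediateField.adjoin F {θ : SH F W | (θ : Ω) ∈ EtInt F W} = ⊤ := by
  rw [eq_top_iff]
  rintro ⟨x, hx⟩ -
  induction hx using IntermediateField.adjoin_induction with
  | mem y hy => exact IntermediateField.subset_adjoin _ _ hy
  | algebraMap y => exact IntermediateField.algebraMap_mem _ y
  | add y z hy hz ihy ihz =>
    exact add_mem ihy ihz
  | inv y hy ihy => exact inv_mem ihy
  | mul y z hy hz ihy ihz => exact mul_mem ihy ihz

end Mono

end SHens

end Groth.Agent.Lib.helper10
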