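import Mathlib
import Groth.Prelude.Def_W4bk4grassmannianPl

/-!
# Standard monomial theory for the Grassmannian (helper10), part 1: weights, signed coordinates,
sums over the pieces of a shuffle
-/

set_option autoImplicit false
set_option linter.unusedSectionVars false
set_option linter.style.haveILetI false

universe u

open MvPolynomial W4bk4grassmannian

namespace Groth.Agent.Lib.helper10.SMT

variable {d n : ℕ}

/-- The weight of a tuple: the sum of its entries. -/
def wt (a : Fin d → Fin n) : ℕ := ∑ t, (a t : ℕ)

theorem wt_le (a : Fin d → Fin n) : wt a ≤ d * n := by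
  unfold wt
  calc ∑ t, (a t : ℕ) ≤ ∑ _t : Fin d, n := Finset.sum_le_sum fun t _ => (a t).isLt.le
    _ = d * n := by simp

theorem wt_lt_of_lt {i j : Idx d n} (h : i < j) : wt i.1 < wt j.1 := by
  have hle : ∀ t, i.1 t ≤ j.1 t := fun t => h.le t
  have hne : ∃ t, i.1 t < j.1 t := by
    by_contra hcon
    push Not at hcon
    apply h.not_ge
    intro t
    exact hcon t
  obtain ⟨t₀, ht₀⟩ := hne
  unfold wt
  apply Finset.sum_lt_sum
  · intro t _
    exact_mod_cast hle t
  · exact ⟨t₀, Finset.mem_univ _, by exact_mod_cast ht₀⟩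

section Coord

variable (K : Type u) [CommRing K]

theorem card_image_idx (θ : Idx d n) : (Finset.univ.image θ.1).card = d := by
  rw [Finset.card_image_of_injective _ θ.2.injective, Finset.card_univ, Fintype.card_fin]

theorem invCount_idx (θ : Idx d n) : invCount d n θ.1 = 0 := by
  unfold invCount
  rw [Finset.card_eq_zero, Finset.filter_eq_empty_iff]
  rintro p - ⟨h1, h2⟩
  exact absurd (θ.2 h1) (not_lt.2 h2.le)

theorem sortIdx_idx (θ : Idx d n) (h : (Finset.univ.image θ.1).card = d) :
    sortIdx d n θ.1 h = θ := by
  apply Subtype.ext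
  have := Finset.orderEmbOfFin_unique h (f := θ.1)
    (fun x => Finset.mem_image_of_mem _ (Finset.mem_univ x)) θ.2
  funext t
  show Finset.orderEmbOfFin _ h t = θ.1 t
  exact (congrFun this t).symm

theorem coord_idx (θ : Idx d n) : coord K d n θ.1 = X θ := by
  unfold coord
  rw [dif_pos (card_image_idx θ), invCount_idx, pow_zero, one_mul, sortIdx_idx]

theorem wt_sortIdx (a : Fin d → Fin n) (h : (Finset.univ.image a).card = d) :
    wt (sortIdx d n a h).1 = wt a := by
  have hinj : Function.Injective a := by
    have h1 : (Finset.univ.image a).card = (Finset.univ : Finset (Fin d)).card := by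
      rw [h, Finset.card_univ, Fintype.card_fin]
    have := Finset.card_image_iff.1 h1
    intro x y hxy
    exact this (Finset.mem_coe.2 (Finset.mem_univ x)) (Finset.mem_coe.2 (Finset.mem_univ y)) hxy
  unfold wt
  have h1 : ∑ t, ((sortIdx d n a h).1 t : ℕ) = ∑ x ∈ Finset.univ.image a, (x : ℕ) := by
    conv_rhs => rw [← Finset.map_orderEmbOfFin_univ (Finset.univ.image a) h]
    rw [Finset.sum_map]
    rfl
  rw [h1, Finset.sum_image (fun x _ y _ hxy => hinj hxy)]

/-- A signed coordinate is zero or plus or minus a variable of the same weight. -/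
theorem coord_cases (a : Fin d → Fin n) :
    coord K d n a = 0 ∨ ∃ θ : Idx d n, wt θ.1 = wt a ∧
      (coord K d n a = X θ ∨ coord K d n a = -X θ) := by
  unfold coord
  by_cases h : (Finset.univ.image a).card = d
  · right
    refine ⟨sortIdx d n a h, wt_sortIdx a h, ?_⟩
    rw [dif_pos h]
    rcases neg_one_pow_eq_or (PlRing K d n) (invCount d n a) with h1 | h1
    · left; rw [h1, one_mul]
    · right; rw [h1, neg_one_mul]
  · left
    rw [dif_neg h]

end Coord

section Sums

/-- Splitting a sum over `Fin d` defined by cases `t ≤ r`. -/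
theorem sum_dite_le {m : ℕ} (r : ℕ) (hr : r < m) (G : Fin (r + 1) → ℕ) (H : Fin m → ℕ) :
    ∑ t : Fin m, (if h : t.val ≤ r then G ⟨t.val, by omega⟩ else H t) =
      ∑ u, G u + ∑ t ∈ Finset.univ.filter (fun t : Fin m => r < t.val), H t := by
  rw [← Finset.sum_filter_add_sum_filter_not Finset.univ (fun t : Fin m => t.val ≤ r)]
  congr 1
  · symm
    apply Finset.sum_bij (fun (u : Fin (r + 1)) _ => (⟨u.val, by omega⟩ : Fin m))
    · intro u _
      rw [Finset.mem_filter]
      exact ⟨Finset.mem_univ _, by have := u.isLt; simp only; omega⟩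
    · intro u _ u' _ h
      apply Fin.ext
      have := congrArg Fin.val h
      simpa using this
    · intro t ht
      rw [Finset.mem_filter] at ht
      exact ⟨⟨t.val, by omega⟩, Finset.mem_univ _, Fin.ext rfl⟩
    · intro u _
      have : (u.val : ℕ) ≤ r := by have := u.isLt; omega
      rw [dif_pos this]
  · have hf : Finset.univ.filter (fun t : Fin m => ¬ t.val ≤ r) =
        Finset.univ.filter (fun t : Fin m => r < t.val) := by
      ext t
      simp only [Finset.mem_filter, Finset.mem_univ, true_and, not_le]
    rw [hf]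
    apply Finset.sum_congr rfl
    intro t ht
    rw [Finset.mem_filter] at ht
    rw [dif_neg (by omega)]

/-- Splitting a sum over `Fin d` defined by cases `t < r`. -/
theorem sum_dite_lt {m : ℕ} (r : ℕ) (hr : r ≤ m) (G : Fin (m - r) → ℕ) (H : Fin m → ℕ) :
    ∑ t : Fin m, (if _h : t.val < r then H t else G ⟨t.val - r, by have := t.isLt; omega⟩) =
      ∑ t ∈ Finset.univ.filter (fun t : Fin m => t.val < r), H t + ∑ u, G u := by
  rw [← Finset.sum_filter_add_sum_filter_not Finset.univ (fun t : Fin m => t.val < r)]
  congr 1
  · apply Finset.sum_congr rfl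
    intro t ht
    rw [Finset.mem_filter] at ht
    rw [dif_pos ht.2]
  · symm
    apply Finset.sum_bij (fun (u : Fin (m - r)) _ => (⟨u.val + r, by have := u.isLt; omega⟩ : Fin m))
    · intro u _
      rw [Finset.mem_filter]
      exact ⟨Finset.mem_univ _, by simp⟩
    · intro u _ u' _ h
      apply Fin.ext
      have := congrArg Fin.val h
      simp only at this
      omega
    · intro t ht
      rw [Finset.mem_filter, not_lt] at ht
      exact ⟨⟨t.val - r, by have := t.isLt; omega⟩, Finset.mem_univ _, Fin.ext (by simp; omega)⟩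
    · intro u _
      have h1 : ¬ (u.val + r < r) := by omega
      rw [dif_neg h1]
      congr 1
      apply Fin.ext
      simp

end Sums

end Groth.Agent.Lib.helper10.SMT
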