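import Groth.Agent.Lib.Helper10.SMT10
import Groth.Agent.Lib.Helper10.ReesDeg2

/-!
# Standard monomial theory for the Grassmannian (helper10), part 11: the standard monomial basis of
the cone over a Schubert variety and the common part of its degenerations
-/

set_option autoImplicit false
set_option linter.unusedSectionVars false
set_option linter.style.haveILetI false

universe u

open MvPolynomial W4bk4grassmannian

namespace Groth.Agent.Lib.helper10.SMT

variable {d n : ℕ}

/-- Standard chains below `w`. -/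
abbrev CW (w : Idx d n) : Type := {c : Chains d n // ∀ k, c.2.1 k ≤ w}

section Basis

variable (K : Type u) [Field K] [Infinite K]

theorem linearIndependent_CW (hd : 0 < d) (w : Idx d n) :
    LinearIndependent K (fun c : CW w =>
      Ideal.Quotient.mk (schubertVanishing K d n w) (chainMon K c.1.2.1)) := by
  rw [linearIndependent_iff']
  intro s g hsum c hc
  have h1 : Ideal.Quotient.mk (schubertVanishing K d n w)
      (∑ c ∈ s, g c • chainMon K c.1.2.1) = 0 := by
    rw [map_sum, ← hsum]
    apply Finset.sum_congr rfl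
    intro c _
    exact map_smul (Ideal.Quotient.mkₐ K (schubertVanishing K d n w)) (g c) (chainMon K c.1.2.1)
  rw [Ideal.Quotient.eq_zero_iff_mem] at h1
  exact std_independent_union K hd (fun _ : Unit => w) (fun c : CW w => c.1)
    Subtype.val_injective s g (fun c _ => ⟨(), c.2⟩) (by rw [iInf_const]; exact h1) c hc

theorem span_CW (w : Idx d n) :
    ⊤ ≤ Submodule.span K (Set.range fun c : CW w =>
      Ideal.Quotient.mk (schubertVanishing K d n w) (chainMon K c.1.2.1)) := by
  intro x _
  obtain ⟨f, rfl⟩ := Ideal.Quotient.mk_surjective x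
  obtain ⟨g, hg, hfg⟩ := std_span_general K (schubertVanishing K d n w)
    (plIdealTop_le_schubertVanishing K w) (fun c => ∀ k, c.2.1 k ≤ w)
    (by
      intro c hc
      obtain ⟨k, hk⟩ := not_forall.1 hc
      exact chainMon_mem_of_not_le K w _ k hk) f
  have h1 : Ideal.Quotient.mk (schubertVanishing K d n w) f =
      Ideal.Quotient.mk (schubertVanishing K d n w) g := Ideal.Quotient.eq.2 hfg
  rw [h1]
  have h2 : (Ideal.Quotient.mkₐ K (schubertVanishing K d n w)).toLinearMap g ∈
      Submodule.map (Ideal.Quotient.mkₐ K (schubertVanishing K d n w)).toLinearMap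
        (Submodule.span K ((fun c : Chains d n => chainMon K c.2.1) ''
          {c | ∀ k, c.2.1 k ≤ w})) := Submodule.mem_map_of_mem hg
  rw [Submodule.map_span] at h2
  refine Submodule.span_mono ?_ h2
  rintro _ ⟨_, ⟨c, hc, rfl⟩, rfl⟩
  exact ⟨⟨c, hc⟩, rfl⟩

/-- The standard monomial basis of the cone over a Schubert variety. -/
noncomputable def basisW (hd : 0 < d) (w : Idx d n) :
    Module.Basis (CW w) K (PlRing K d n ⧸ schubertVanishing K d n w) :=
  Module.Basis.mk (linearIndependent_CW K hd w) (span_CW K w)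

theorem basisW_apply (hd : 0 < d) (w : Idx d n) (c : CW w) :
    basisW K hd w c = Ideal.Quotient.mk (schubertVanishing K d n w) (chainMon K c.1.2.1) := by
  unfold basisW
  rw [Module.Basis.mk_apply]

end Basis


section Common

open Polynomial in
attribute [local instance] Polynomial.algebra

variable (K : Type u) [Field K] [Infinite K] (hd : 0 < d) (w : Idx d n) (ω : Idx d n → ℕ)

/-- The weight of a chain for a weight function on the indices. -/
def nuC (c : CW w) : ℕ := ∑ k, ω (c.1.2.1 k)

/-- The chain of length one. -/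
def singleC (θ : Below w) : CW w :=
  ⟨⟨1, ⟨fun _ => θ.1, fun _ _ _ => le_rfl⟩⟩, fun _ => θ.2⟩

/-- The empty chain. -/
def emptyC : CW w := ⟨⟨0, ⟨Fin.elim0, fun a => a.elim0⟩⟩, fun k => k.elim0⟩

theorem nuC_singleC (θ : Below w) : nuC w ω (singleC w θ) = ω θ.1 := by
  unfold nuC singleC
  simp

theorem nuC_emptyC : nuC w ω (emptyC w) = 0 := by
  unfold nuC emptyC
  simp

theorem basisW_singleC (θ : Below w) :
    basisW K hd w (singleC w θ) = Ideal.Quotient.mk (schubertVanishing K d n w) (X θ.1) := by
  rw [basisW_apply]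
  unfold chainMon singleC
  simp

theorem basisW_emptyC : basisW K hd w (emptyC w) = 1 := by
  rw [basisW_apply]
  unfold chainMon emptyC
  simp

theorem one_mem_F : (1 : PlRing K d n ⧸ schubertVanishing K d n w) ∈
    ReesDeg.F (basisW K hd w) (nuC w ω) 0 := by
  rw [← basisW_emptyC K hd w]
  have := ReesDeg.basis_mem_F (basisW K hd w) (nuC w ω) (emptyC w)
  rw [nuC_emptyC] at this
  exact this

/-- The class of a standard monomial lies in the piece of the filtration given by its weight. -/
theorem mk_chainMon_mem_F (c : Chains d n) (k : ℕ)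
    (h : (∀ j, c.2.1 j ≤ w) → ∑ j, ω (c.2.1 j) ≤ k) :
    Ideal.Quotient.mk (schubertVanishing K d n w) (chainMon K c.2.1) ∈
      ReesDeg.F (basisW K hd w) (nuC w ω) k := by
  by_cases hc : ∀ j, c.2.1 j ≤ w
  · have h1 := ReesDeg.basis_mem_F (basisW K hd w) (nuC w ω) ⟨c, hc⟩
    rw [basisW_apply] at h1
    exact ReesDeg.F_mono _ _ (h hc) h1
  · obtain ⟨j, hj⟩ := not_forall.1 hc
    rw [Ideal.Quotient.eq_zero_iff_mem.2 (chainMon_mem_of_not_le K w _ j hj)]
    exact zero_mem _

variable (hyp : ReesDeg.Hyp (basisW K hd w) (nuC w ω))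

theorem prod_beta (c : CW w) :
    ∏ k, ReesDeg.beta (basisW K hd w) (nuC w ω) hyp (singleC w ⟨c.1.2.1 k, c.2 k⟩) =
      ReesDeg.beta (basisW K hd w) (nuC w ω) hyp c := by
  apply Subtype.ext
  rw [SubmonoidClass.coe_finsetProd]
  simp_rw [ReesDeg.coe_beta, nuC_singleC, basisW_singleC]
  rw [Finset.prod_mul_distrib, Finset.prod_pow_eq_pow_sum, ← map_prod, ← map_prod, basisW_apply]
  rfl

/-- The map from the polynomial ring on `H(w)` to the special fibre of the Rees algebra. -/
noncomputable def psi0 : MvPolynomial (Below w) K →ₐ[K]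
    (ReesDeg.rees (basisW K hd w) (nuC w ω) hyp ⧸ ReesDeg.X0 (basisW K hd w) (nuC w ω) hyp) :=
  MvPolynomial.aeval fun θ : Below w => Ideal.Quotient.mk _
    (ReesDeg.beta (basisW K hd w) (nuC w ω) hyp (singleC w θ))

/-- The chain monomial in the polynomial ring on `H(w)`. -/
noncomputable def chainMonW (c : CW w) : MvPolynomial (Below w) K :=
  ∏ k, X (⟨c.1.2.1 k, c.2 k⟩ : Below w)

theorem psi0_chainMonW (c : CW w) :
    psi0 K hd w ω hyp (chainMonW K w c) =
      Ideal.Quotient.mk _ (ReesDeg.beta (basisW K hd w) (nuC w ω) hyp c) := by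
  unfold psi0 chainMonW
  rw [map_prod]
  simp_rw [aeval_X]
  rw [← map_prod, prod_beta]

/-- The common part of the degenerations of the cone over a Schubert variety. -/
theorem exists_degeneration_of (J : Ideal (MvPolynomial (Below w) K))
    (hJ : ∀ f ∈ J, psi0 K hd w ω hyp f = 0)
    (hspan : Submodule.span K (Set.range fun c : CW w =>
      Ideal.Quotient.mk J (chainMonW K w c)) = ⊤) :
    ∃ (R : Type u) (_ : CommRing R) (_ : Algebra K R) (_ : Algebra (Polynomial K) R)
      (_ : IsScalarTower K (Polynomial K) R),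
      Module.Free (Polynomial K) R ∧
      Nonempty ((R ⧸ Ideal.span {algebraMap (Polynomial K) R Polynomial.X}) ≃ₐ[K]
        (MvPolynomial (Below w) K ⧸ J)) ∧
      ∀ c : K, c ≠ 0 →
        Nonempty ((R ⧸ Ideal.span {algebraMap (Polynomial K) R (Polynomial.X - Polynomial.C c)}) ≃ₐ[K]
          (PlRing K d n ⧸ schubertVanishing K d n w)) := by
  apply ReesDeg.exists_degeneration (basisW K hd w) (nuC w ω) hyp
    (fun c : CW w => Ideal.Quotient.mk J (chainMonW K w c)) hspan
    (Ideal.Quotient.liftₐ J (psi0 K hd w ω hyp) hJ)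
  intro c
  rw [Ideal.Quotient.liftₐ_apply, Ideal.Quotient.lift_mk]
  exact psi0_chainMonW K hd w ω hyp c

end Common

end Groth.Agent.Lib.helper10.SMT
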