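import Groth.Agent.Lib.Helper10.SMT11

/-!
# Standard monomial theory for the Grassmannian (helper10), part 12: straightening with control of
the potential, and the degeneration of the cone over a Schubert variety to a Stanley–Reisner ring
-/

set_option autoImplicit false
set_option linter.unusedSectionVars false
set_option linter.style.haveILetI false

universe u

open MvPolynomial W4bk4grassmannian

namespace Groth.Agent.Lib.helper10.SMT

variable {d n : ℕ}

section GenStraighten

variable (K : Type u) [CommRing K]
variable (T : Submodule K (PlRing K d n))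

theorem sign_mem_gen (k : ℕ) {x : PlRing K d n} (h : x ∈ T) :
    (-1 : PlRing K d n) ^ k * x ∈ T := by
  rcases neg_one_pow_eq_or (PlRing K d n) k with h1 | h1
  · rw [h1, one_mul]; exact h
  · rw [h1, neg_one_mul]; exact Submodule.neg_mem _ h

theorem mul_sign_mem_gen {M x y cx cy : PlRing K d n} (k : ℕ) (hx : cx = x ∨ cx = -x)
    (hy : cy = y ∨ cy = -y) (h : M * x * y ∈ T) :
    M * ((-1) ^ k * cx * cy) ∈ T := by
  have e1 : M * ((-1) ^ k * cx * cy) = (-1) ^ k * (M * cx * cy) := by ring
  rw [e1]
  apply sign_mem_gen
  rcases hx with rfl | rfl <;> rcases hy with rfl | rfl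
  · exact h
  · have : M * cx * -y = -(M * cx * y) := by ring
    rw [this]; exact Submodule.neg_mem _ h
  · have : M * -x * cy = -(M * x * cy) := by ring
    rw [this]; exact Submodule.neg_mem _ h
  · have : M * -x * -y = M * x * y := by ring
    rw [this]; exact h

/-- The straightening step with an arbitrary target submodule containing the shuffle relations. -/
theorem straighten_step_gen (hT : (plIdealTop (d := d) (n := n) K).restrictScalars K ≤ T)
    (s' : Idx d n →₀ ℕ) (i j : Idx d n) (r : Fin d) (hp : IsPivot i j r)
    (IH : ∀ θ φ : Idx d n, wt i.1 < wt θ.1 → wt θ.1 + wt φ.1 = wt i.1 + wt j.1 →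
      monomial (s' + Finsupp.single θ 1 + Finsupp.single φ 1) (1 : K) ∈ T) :
    monomial (s' + Finsupp.single i 1 + Finsupp.single j 1) (1 : K) ∈ T := by
  rw [monomial_add_two]
  obtain ⟨M, hM⟩ : ∃ M, M = monomial s' (1 : K) := ⟨_, rfl⟩
  rw [← hM]
  obtain ⟨ε, hε⟩ : ∃ ε, ε = (-1 : PlRing K d n) ^ shuffleSign r (initSeg r) := ⟨_, rfl⟩
  have hεε : ε * ε = 1 := by
    rw [hε, ← mul_pow, neg_mul_neg, one_mul, one_pow]
  have hrel : shuffleRel K i j r = ε * X i * X j +
      ∑ A ∈ Finset.univ.erase (initSeg r), shuffleTerm K i j r A := by
    unfold shuffleRel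
    rw [← Finset.add_sum_erase _ _ (Finset.mem_univ (initSeg r)), shuffleTerm_initSeg, hε]
  have key : M * X i * X j = ε * (M * shuffleRel K i j r) -
      ε * (∑ A ∈ Finset.univ.erase (initSeg r), M * shuffleTerm K i j r A) := by
    rw [hrel, ← Finset.mul_sum]
    linear_combination (-(M * X i * X j)) * hεε
  rw [key]
  apply Submodule.sub_mem
  · rw [hε]
    apply sign_mem_gen
    exact hT (Ideal.mul_mem_left _ _ (shuffleRel_mem K i j r hp))
  · rw [hε]
    apply sign_mem_gen
    apply Submodule.sum_mem
    intro A hA
    have hne : A ≠ initSeg r := (Finset.mem_erase.1 hA).1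
    unfold shuffleTerm
    split_ifs with hcard
    · rcases coord_cases K (shuffleI i j r A hcard) with h0 | ⟨θ, hθw, hθ⟩
      · rw [h0]; simp
      rcases coord_cases K (shuffleJ i j r A hcard) with h0 | ⟨φ, hφw, hφ⟩
      · rw [h0]; simp
      have hmem := IH θ φ (by rw [hθw]; exact wt_shuffleI_gt i j r hp.2 A hcard hne)
        (by rw [hθw, hφw]; exact wt_shuffle_add i j r A hcard)
      rw [monomial_add_two, ← hM] at hmem
      exact mul_sign_mem_gen K T _ hθ hφ hmem
    · rw [mul_zero]; exact Submodule.zero_mem _

end GenStraighten


section ChainGen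

/-- A finitely supported function supported on a chain is the sum of the indicator functions along
an antitone tuple (general version for a poset with a strictly monotone weight). -/
theorem exists_chain_gen {σ : Type*} [PartialOrder σ] (f : σ → ℕ) (hf : StrictMono f) (m : ℕ) :
    ∀ s : σ →₀ ℕ, Finsupp.degree s = m →
    (∀ a ∈ s.support, ∀ b ∈ s.support, a ≤ b ∨ b ≤ a) →
    ∃ c : Fin m → σ, Antitone c ∧ (∀ k, c k ∈ s.support) ∧
      s = ∑ k, Finsupp.single (c k) 1 := by
  induction m with
  | zero =>
    intro s hs _
    have h0 : s = 0 := (Finsupp.degree_eq_zero_iff s).1 hs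
    subst h0
    exact ⟨Fin.elim0, fun a => a.elim0, fun k => k.elim0, by simp⟩
  | succ m ih =>
    intro s hs hch
    have hne : s.support.Nonempty := by
      rw [Finsupp.support_nonempty_iff]
      rintro rfl
      simp at hs
    obtain ⟨θ, hθ, hmin⟩ := Finset.exists_min_image s.support f hne
    have hθle : ∀ b ∈ s.support, θ ≤ b := by
      intro b hb
      rcases hch θ hθ b hb with h | h
      · exact h
      · rcases eq_or_lt_of_le h with h1 | h1
        · rw [h1]
        · exact absurd (hf h1) (not_lt.2 (hmin b hb))
    have hθ1 : 1 ≤ s θ := by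
      have := Finsupp.mem_support_iff.1 hθ
      omega
    obtain ⟨s', hs'⟩ : ∃ s', s' = s - Finsupp.single θ 1 := ⟨_, rfl⟩
    have hs's : s = s' + Finsupp.single θ 1 := by
      classical
      rw [hs']
      ext a
      simp only [Finsupp.coe_add, Finsupp.coe_tsub, Pi.add_apply, Pi.sub_apply]
      by_cases ha : a = θ
      · subst ha
        simp only [Finsupp.single_eq_same]
        omega
      · rw [Finsupp.single_eq_of_ne (by exact ha)]
        omega
    have hsub : s'.support ⊆ s.support := by
      intro a ha
      rw [Finsupp.mem_support_iff] at ha ⊢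
      rw [hs's]
      simp only [Finsupp.coe_add, Pi.add_apply]
      omega
    have hdeg : Finsupp.degree s' = m := by
      have := hs
      rw [hs's, map_add, Finsupp.degree_single] at this
      omega
    obtain ⟨c, hc, hcs, hsum⟩ := ih s' hdeg (fun a ha b hb => hch a (hsub ha) b (hsub hb))
    refine ⟨Fin.snoc c θ, ?_, ?_, ?_⟩
    · intro k k' hkk'
      induction k' using Fin.lastCases with
      | last =>
        rw [Fin.snoc_last]
        induction k using Fin.lastCases with
        | last => rw [Fin.snoc_last]
        | cast k =>
          rw [Fin.snoc_castSucc]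
          exact hθle _ (hsub (hcs k))
      | cast k' =>
        induction k using Fin.lastCases with
        | last =>
          exfalso
          have := Fin.castSucc_lt_last k'
          exact absurd (lt_of_le_of_lt hkk' this) (lt_irrefl _)
        | cast k =>
          rw [Fin.snoc_castSucc, Fin.snoc_castSucc]
          exact hc (Fin.castSucc_le_castSucc_iff.1 hkk')
    · intro k
      induction k using Fin.lastCases with
      | last => rw [Fin.snoc_last]; exact hθ
      | cast k => rw [Fin.snoc_castSucc]; exact hsub (hcs k)
    · rw [Fin.sum_univ_castSucc]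
      simp only [Fin.snoc_castSucc, Fin.snoc_last]
      rw [← hsum]
      exact hs's

end ChainGen

section Refined

variable (K : Type u) [CommRing K]

/-- The exponent vector of the product of the variables along a tuple of indices. -/
noncomputable def expoC {m : ℕ} (c : Fin m → Idx d n) : Idx d n →₀ ℕ :=
  ∑ k, Finsupp.single (c k) 1

theorem chainMon_eq_monomial {m : ℕ} (c : Fin m → Idx d n) :
    chainMon K c = monomial (expoC c) (1 : K) := by
  unfold chainMon expoC
  rw [monomial_sum_one]
  rfl

theorem pot_expoC {m : ℕ} (c : Fin m → Idx d n) : pot (expoC c) = ∑ k, (wt (c k).1) ^ 2 := by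
  unfold expoC
  have h : ∀ (S : Finset (Fin m)), pot (∑ k ∈ S, Finsupp.single (c k) 1) =
      ∑ k ∈ S, (wt (c k).1) ^ 2 := by
    intro S
    classical
    induction S using Finset.induction_on with
    | empty =>
      simp only [Finset.sum_empty]
      unfold pot
      simp
    | insert a S ha ih => rw [Finset.sum_insert ha, Finset.sum_insert ha, pot_add, pot_single, ih]
  exact h Finset.univ

theorem degree_expoC {m : ℕ} (c : Fin m → Idx d n) : Finsupp.degree (expoC c) = m := by
  unfold expoC
  rw [map_sum]
  simp

/-- The span of the standard monomials of degree `m` and potential at least `p`. -/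
noncomputable def Gpot (m p : ℕ) : Submodule K (PlRing K d n) :=
  Submodule.span K {f | ∃ c : Fin m → Idx d n, Antitone c ∧ p ≤ pot (expoC c) ∧ f = chainMon K c}

theorem Gpot_mono (m : ℕ) {p q : ℕ} (h : p ≤ q) : Gpot (d := d) (n := n) K m q ≤ Gpot K m p := by
  apply Submodule.span_mono
  rintro f ⟨c, hc, hq, rfl⟩
  exact ⟨c, hc, le_trans h hq, rfl⟩

/-- Chain-supported exponent vectors. -/
def ChainSupp (s : Idx d n →₀ ℕ) : Prop := ∀ a ∈ s.support, ∀ b ∈ s.support, a ≤ b ∨ b ≤ a

/-- **Straightening with control of the degree and the potential.** -/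
theorem refined_straighten (s : Idx d n →₀ ℕ) :
    monomial s (1 : K) ∈ Gpot K (Finsupp.degree s) (pot s) ⊔
        (plIdealTop (d := d) (n := n) K).restrictScalars K ∧
      (¬ ChainSupp s → monomial s (1 : K) ∈ Gpot K (Finsupp.degree s) (pot s + 1) ⊔
        (plIdealTop (d := d) (n := n) K).restrictScalars K) := by
  obtain ⟨k, hk⟩ : ∃ k, k = Finsupp.degree s * (d * n) ^ 2 - pot s := ⟨_, rfl⟩
  induction k using Nat.strong_induction_on generalizing s with
  | _ k ih =>
    by_cases hch : ChainSupp s
    · refine ⟨?_, fun h => absurd hch h⟩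
      obtain ⟨c, hc, -, hsum⟩ := exists_chain_gen (fun θ : Idx d n => wt θ.1)
        (fun a b hab => wt_lt_of_lt hab) _ s rfl hch
      have hs : s = expoC c := hsum
      apply Submodule.mem_sup_left
      apply Submodule.subset_span
      refine ⟨c, hc, by rw [← hs], ?_⟩
      rw [chainMon_eq_monomial, ← hs]
    · have key : monomial s (1 : K) ∈ Gpot K (Finsupp.degree s) (pot s + 1) ⊔
          (plIdealTop (d := d) (n := n) K).restrictScalars K := by
        have hch' := hch
        unfold ChainSupp at hch'
        push Not at hch'
        obtain ⟨a, ha, b, hb, hab, hba⟩ := hch'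
        obtain ⟨i, j, hi, hj, hji, hwt⟩ : ∃ i j, i ∈ s.support ∧ j ∈ s.support ∧ ¬ j ≤ i ∧
            wt j.1 ≤ wt i.1 := by
          rcases le_total (wt b.1) (wt a.1) with h | h
          · exact ⟨a, b, ha, hb, hba, h⟩
          · exact ⟨b, a, hb, ha, hab, h⟩
        have hij : i ≠ j := fun h => hji (h ▸ le_refl _)
        have hex : (Finset.univ.filter fun t : Fin d => i.1 t < j.1 t).Nonempty := by
          by_contra hcon
          rw [Finset.not_nonempty_iff_eq_empty, Finset.filter_eq_empty_iff] at hcon
          apply hji
          intro t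
          exact not_lt.1 (hcon (Finset.mem_univ t))
        obtain ⟨r, hr, hrmin⟩ := Finset.exists_min_image _ (fun t : Fin d => t) hex
        rw [Finset.mem_filter] at hr
        have hp : IsPivot i j r := by
          refine ⟨fun t ht => ?_, hr.2⟩
          by_contra hcon
          have := hrmin t (Finset.mem_filter.2 ⟨Finset.mem_univ _, not_le.1 hcon⟩)
          exact absurd ht (not_lt.2 this)
        have hi1 : 1 ≤ s i := by
          have := Finsupp.mem_support_iff.1 hi
          omega
        have hj1 : 1 ≤ s j := by
          have := Finsupp.mem_support_iff.1 hj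
          omega
        obtain ⟨s', hs'⟩ : ∃ s', s' = s - Finsupp.single i 1 - Finsupp.single j 1 := ⟨_, rfl⟩
        have hs's : s = s' + Finsupp.single i 1 + Finsupp.single j 1 := by
          rw [hs']
          ext a
          simp only [Finsupp.coe_add, Finsupp.coe_tsub, Pi.add_apply, Pi.sub_apply]
          by_cases hai : a = i
          · subst hai
            rw [Finsupp.single_eq_same, Finsupp.single_eq_of_ne (by exact hij)]
            omega
          · by_cases haj : a = j
            · subst haj
              rw [Finsupp.single_eq_same, Finsupp.single_eq_of_ne (by exact hai)]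
              omega
            · rw [Finsupp.single_eq_of_ne (by exact hai), Finsupp.single_eq_of_ne (by exact haj)]
              omega
        have hdeg : Finsupp.degree s = Finsupp.degree s' + 2 := by
          rw [hs's, map_add, map_add, Finsupp.degree_single, Finsupp.degree_single]
        have hpot : pot s = pot s' + wt i.1 ^ 2 + wt j.1 ^ 2 := by
          rw [hs's, pot_add, pot_add, pot_single, pot_single]
        obtain ⟨T, hT⟩ : ∃ T, T = Gpot K (Finsupp.degree s) (pot s + 1) ⊔
          (plIdealTop (d := d) (n := n) K).restrictScalars K := ⟨_, rfl⟩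
        rw [← hT]
        have hmono : monomial s (1 : K) =
            monomial (s' + Finsupp.single i 1 + Finsupp.single j 1) (1 : K) := by rw [← hs's]
        rw [hmono]
        apply straighten_step_gen K T (by rw [hT]; exact le_sup_right) s' i j r hp
        intro θ φ hθ hsum
        obtain ⟨s₂, hs₂⟩ : ∃ s₂, s₂ = s' + Finsupp.single θ 1 + Finsupp.single φ 1 := ⟨_, rfl⟩
        rw [← hs₂]
        have hdeg₂ : Finsupp.degree s₂ = Finsupp.degree s' + 2 := by
          rw [hs₂, map_add, map_add, Finsupp.degree_single, Finsupp.degree_single]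
        have hpot₂ : pot s₂ = pot s' + wt θ.1 ^ 2 + wt φ.1 ^ 2 := by
          rw [hs₂, pot_add, pot_add, pot_single, pot_single]
        have hlt := sq_add_sq_lt hwt hθ hsum
        have hle := pot_le s₂
        have hlt' : Finsupp.degree s₂ * (d * n) ^ 2 - pot s₂ < k := by
          rw [hk, hdeg, ← hdeg₂]
          have hle' := pot_le s
          rw [hdeg, ← hdeg₂] at hle'
          generalize Finsupp.degree s₂ * (d * n) ^ 2 = N at *
          omega
        have h1 := (ih _ hlt' s₂ rfl).1
        rw [hT, hdeg, ← hdeg₂]
        refine sup_le_sup_right (Gpot_mono K _ ?_) _ h1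
        omega
      exact ⟨sup_le_sup_right (Gpot_mono K _ (Nat.le_succ _)) _ key, fun _ => key⟩

end Refined

end Groth.Agent.Lib.helper10.SMT
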