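import Groth.Agent.Lib.Helper10.SMT12

/-!
# Standard monomial theory for the Grassmannian (helper10), part 13: degeneration of the cone over
a Schubert variety to the Stanley–Reisner ring of the order complex of `H(w)`
-/

set_option autoImplicit false
set_option linter.unusedSectionVars false
set_option linter.style.haveILetI false

universe u

open MvPolynomial W4bk4grassmannian

namespace Groth.Agent.Lib.helper10.SMT

variable {d n : ℕ}

/-- The constant bounding the squares of the weights. -/
def C0 (d n : ℕ) : ℕ := (d * n) ^ 2 + 1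

/-- The weights of the variables for the Stanley–Reisner degeneration. -/
def omegaSR (θ : Idx d n) : ℕ := C0 d n - wt θ.1 ^ 2

theorem omegaSR_add (θ : Idx d n) : omegaSR θ + wt θ.1 ^ 2 = C0 d n := by
  unfold omegaSR C0
  have := Nat.pow_le_pow_left (wt_le θ.1) 2
  omega

theorem one_le_omegaSR (θ : Idx d n) : 1 ≤ omegaSR θ := by
  unfold omegaSR C0
  have := Nat.pow_le_pow_left (wt_le θ.1) 2
  omega

theorem sum_omegaSR {m : ℕ} (c : Fin m → Idx d n) :
    ∑ k, omegaSR (c k) + pot (expoC c) = C0 d n * m := by
  rw [pot_expoC, ← Finset.sum_add_distrib]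
  simp_rw [omegaSR_add]
  simp [mul_comm]

section SR

attribute [local instance] Polynomial.algebra

variable (K : Type u) [Field K] [Infinite K] (hd : 0 < d) (w : Idx d n)

theorem mk_mem_F_of_Gpot (m p : ℕ) (f : PlRing K d n)
    (hf : f ∈ Gpot K m p ⊔ (plIdealTop (d := d) (n := n) K).restrictScalars K) :
    Ideal.Quotient.mk (schubertVanishing K d n w) f ∈
      ReesDeg.F (basisW K hd w) (nuC w omegaSR) (C0 d n * m - p) := by
  have hle : Gpot K m p ⊔ (plIdealTop (d := d) (n := n) K).restrictScalars K ≤
      Submodule.comap (Ideal.Quotient.mkₐ K (schubertVanishing K d n w)).toLinearMap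
        (ReesDeg.F (basisW K hd w) (nuC w omegaSR) (C0 d n * m - p)) := by
    apply sup_le
    · unfold Gpot
      rw [Submodule.span_le]
      rintro f ⟨c, hc, hp, rfl⟩
      show Ideal.Quotient.mk (schubertVanishing K d n w) (chainMon K c) ∈
        ReesDeg.F (basisW K hd w) (nuC w omegaSR) (C0 d n * m - p)
      apply mk_chainMon_mem_F K hd w omegaSR ⟨m, ⟨c, hc⟩⟩
      intro _
      have := sum_omegaSR c
      show ∑ j, omegaSR (c j) ≤ C0 d n * m - p
      omega
    · intro f hf
      show Ideal.Quotient.mk (schubertVanishing K d n w) f ∈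
        ReesDeg.F (basisW K hd w) (nuC w omegaSR) (C0 d n * m - p)
      rw [Ideal.Quotient.eq_zero_iff_mem.2 (plIdealTop_le_schubertVanishing K w hf)]
      exact zero_mem _
  exact hle hf

theorem basisW_mul (c c' : CW w) : basisW K hd w c * basisW K hd w c' =
    Ideal.Quotient.mk (schubertVanishing K d n w)
      (monomial (expoC c.1.2.1 + expoC c'.1.2.1) (1 : K)) := by
  rw [basisW_apply, basisW_apply, ← map_mul, chainMon_eq_monomial, chainMon_eq_monomial,
    monomial_mul, one_mul]

theorem nuC_omegaSR (c : CW w) : nuC w omegaSR c + pot (expoC c.1.2.1) = C0 d n * c.1.1 :=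
  sum_omegaSR c.1.2.1

theorem hypSR : ReesDeg.Hyp (basisW K hd w) (nuC w omegaSR) where
  one_mem := one_mem_F K hd w omegaSR
  mul_mem := by
    intro c c'
    rw [basisW_mul]
    have h1 := (refined_straighten K (expoC c.1.2.1 + expoC c'.1.2.1)).1
    have h2 := mk_mem_F_of_Gpot K hd w _ _ _ h1
    refine ReesDeg.F_mono _ _ ?_ h2
    rw [map_add, degree_expoC, degree_expoC, pot_add]
    have := nuC_omegaSR w c
    have := nuC_omegaSR w c'
    rw [mul_add]
    omega


theorem not_chainSupp_pair (a b : Idx d n) (hab : ¬ a ≤ b) (hba : ¬ b ≤ a) :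
    ¬ ChainSupp (Finsupp.single a 1 + Finsupp.single b 1) := by
  intro h
  have hne : a ≠ b := fun h1 => hab (h1 ▸ le_refl _)
  have ha : a ∈ (Finsupp.single a 1 + Finsupp.single b 1 : Idx d n →₀ ℕ).support := by
    rw [Finsupp.mem_support_iff, Finsupp.add_apply, Finsupp.single_eq_same]
    omega
  have hb : b ∈ (Finsupp.single a 1 + Finsupp.single b 1 : Idx d n →₀ ℕ).support := by
    rw [Finsupp.mem_support_iff, Finsupp.add_apply, Finsupp.single_eq_same]
    omega
  rcases h a ha b hb with h1 | h1
  · exact hab h1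
  · exact hba h1

theorem psi0_sr_relation (a b : Below w) (hab : ¬ a ≤ b) (hba : ¬ b ≤ a) :
    psi0 K hd w omegaSR (hypSR K hd w) (X a * X b) = 0 := by
  unfold psi0
  rw [map_mul, aeval_X, aeval_X, ← map_mul, Ideal.Quotient.eq_zero_iff_mem]
  have hab' : ¬ a.1 ≤ b.1 := hab
  have hba' : ¬ b.1 ≤ a.1 := hba
  have h1 := (refined_straighten K (Finsupp.single a.1 1 + Finsupp.single b.1 1)).2
    (not_chainSupp_pair a.1 b.1 hab' hba')
  have h2 := mk_mem_F_of_Gpot K hd w _ _ _ h1
  rw [map_add, Finsupp.degree_single, Finsupp.degree_single, pot_add, pot_single, pot_single]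
    at h2
  have ha := omegaSR_add a.1
  have hb := omegaSR_add b.1
  have ha1 := one_le_omegaSR a.1
  have hb1 := one_le_omegaSR b.1
  apply ReesDeg.mem_X0_of_coe (basisW K hd w) (nuC w omegaSR) (hypSR K hd w) _
    (Ideal.Quotient.mk (schubertVanishing K d n w)
      (monomial (Finsupp.single a.1 1 + Finsupp.single b.1 1) (1 : K)))
    (omegaSR a.1 + omegaSR b.1 - 1)
  · refine ReesDeg.F_mono _ _ ?_ h2
    omega
  · rw [Subalgebra.coe_mul, ReesDeg.coe_beta, ReesDeg.coe_beta, nuC_singleC, nuC_singleC,
      basisW_singleC, basisW_singleC]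
    have h3 : omegaSR a.1 + omegaSR b.1 - 1 + 1 = omegaSR a.1 + omegaSR b.1 := by omega
    rw [h3, pow_add]
    have h4 : (monomial (Finsupp.single a.1 1 + Finsupp.single b.1 1) (1 : K) : PlRing K d n) =
        X a.1 * X b.1 := by
      rw [X, X, monomial_mul, one_mul]
    rw [h4, map_mul, Polynomial.C_mul]
    ring

theorem srIdeal_le_ker (f : MvPolynomial (Below w) K) (hf : f ∈ srIdeal K w) :
    psi0 K hd w omegaSR (hypSR K hd w) f = 0 := by
  have hle : srIdeal K w ≤ RingHom.ker (psi0 K hd w omegaSR (hypSR K hd w)).toRingHom := by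
    unfold srIdeal
    rw [Ideal.span_le]
    rintro f ⟨a, b, hab, hba, rfl⟩
    exact psi0_sr_relation K hd w a b hab hba
  exact hle hf

/-- The chain monomials span the Stanley–Reisner ring. -/
theorem span_sr : Submodule.span K (Set.range fun c : CW w =>
    Ideal.Quotient.mk (srIdeal K w) (chainMonW K w c)) = ⊤ := by
  rw [eq_top_iff]
  intro x hx
  clear hx
  obtain ⟨f, rfl⟩ := Ideal.Quotient.mk_surjective x
  induction f using MvPolynomial.induction_on' with
  | monomial s a =>
    have hsm : monomial s a = a • monomial s (1 : K) := by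
      rw [smul_monomial, smul_eq_mul, mul_one]
    rw [hsm]
    have hsm2 : Ideal.Quotient.mk (srIdeal K w) (a • monomial s (1 : K)) =
        a • Ideal.Quotient.mk (srIdeal K w) (monomial s (1 : K)) :=
      map_smul (Ideal.Quotient.mkₐ K (srIdeal K w)) a _
    rw [hsm2]
    apply Submodule.smul_mem
    by_cases hch : ∀ a ∈ s.support, ∀ b ∈ s.support, a ≤ b ∨ b ≤ a
    · obtain ⟨c, hc, -, hsum⟩ := exists_chain_gen (fun θ : Below w => wt θ.1.1)
        (fun a b hab => wt_lt_of_lt (show a.1 < b.1 from hab)) _ s rfl hch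
      apply Submodule.subset_span
      refine ⟨⟨⟨_, ⟨fun k => (c k).1, fun k k' hkk' => hc hkk'⟩⟩, fun k => (c k).2⟩, ?_⟩
      show Ideal.Quotient.mk (srIdeal K w) (chainMonW K w _) = _
      congr 1
      unfold chainMonW
      conv_rhs => rw [hsum, monomial_sum_one]
      rfl
    · push Not at hch
      obtain ⟨a, ha, b, hb, hab, hba⟩ := hch
      have hne : a ≠ b := fun h1 => hab (h1 ▸ le_refl _)
      have ha1 : 1 ≤ s a := by
        have := Finsupp.mem_support_iff.1 ha
        omega
      have hb1 : 1 ≤ s b := by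
        have := Finsupp.mem_support_iff.1 hb
        omega
      have hs : s = (s - Finsupp.single a 1 - Finsupp.single b 1) +
          (Finsupp.single a 1 + Finsupp.single b 1) := by
        classical
        ext θ
        simp only [Finsupp.coe_add, Finsupp.coe_tsub, Pi.add_apply, Pi.sub_apply]
        by_cases hθa : θ = a
        · subst hθa
          rw [Finsupp.single_eq_same, Finsupp.single_eq_of_ne (by exact hne)]
          omega
        · by_cases hθb : θ = b
          · subst hθb
            rw [Finsupp.single_eq_same, Finsupp.single_eq_of_ne (by exact hθa)]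
            omega
          · rw [Finsupp.single_eq_of_ne (by exact hθa), Finsupp.single_eq_of_ne (by exact hθb)]
            omega
      have hmem : monomial s (1 : K) ∈ srIdeal K w := by
        rw [hs, ← mul_one (1 : K), ← monomial_mul]
        apply Ideal.mul_mem_left
        have h4 : (monomial (Finsupp.single a 1 + Finsupp.single b 1) (1 * 1 : K) :
            MvPolynomial (Below w) K) = X a * X b := by
          rw [X, X, monomial_mul]
        rw [mul_one] at h4
        rw [h4]
        exact Ideal.subset_span ⟨a, b, hab, hba, rfl⟩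
      rw [Ideal.Quotient.eq_zero_iff_mem.2 hmem]
      exact zero_mem _
  | add p q hp hq =>
    rw [map_add]
    exact Submodule.add_mem _ hp hq

include hd in
/-- **Degeneration of the cone over a Schubert variety to a Stanley–Reisner ring.** -/
theorem sr_degeneration :
    ∃ (R : Type u) (_ : CommRing R) (_ : Algebra K R) (_ : Algebra (Polynomial K) R)
      (_ : IsScalarTower K (Polynomial K) R),
      Module.Free (Polynomial K) R ∧
      Nonempty ((R ⧸ Ideal.span {algebraMap (Polynomial K) R Polynomial.X}) ≃ₐ[K]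
        (MvPolynomial (Below w) K ⧸ srIdeal K w)) ∧
      ∀ c : K, c ≠ 0 →
        Nonempty ((R ⧸ Ideal.span {algebraMap (Polynomial K) R (Polynomial.X - Polynomial.C c)}) ≃ₐ[K]
          (PlRing K d n ⧸ schubertVanishing K d n w)) :=
  exists_degeneration_of K hd w omegaSR (hypSR K hd w) (srIdeal K w) (srIdeal_le_ker K hd w)
    (span_sr K w)

end SR

end Groth.Agent.Lib.helper10.SMT
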