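import Groth.Agent.Lib.Helper10.SMT13

/-!
# Standard monomial theory for the Grassmannian (helper10), part 14: degeneration of the cone over
a Schubert variety to the Hibi ring of the distributive lattice `H(w)`
-/

set_option autoImplicit false
set_option linter.unusedSectionVars false
set_option linter.style.haveILetI false

universe u

open MvPolynomial W4bk4grassmannian

namespace Groth.Agent.Lib.helper10.SMT

variable {d n : ℕ}

/-- The weights of the variables for the Hibi degeneration. -/
def omegaH (θ : Idx d n) : ℕ := dwt θ.1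

section Top

variable (K : Type u) [Field K]

/-- The coefficient of the leading monomial of the chain of largest weight in a combination of
standard monomials. -/
theorem coeff_top (hd : 0 < d) (τ : Idx d n) (F : Finset (Chains d n)) (lam : Chains d n → K)
    (hF : ∀ c ∈ F, ∀ k, c.2.1 k ≤ τ) (c₀ : Chains d n) (hc₀ : c₀ ∈ F)
    (hmax : ∀ c ∈ F, lam c ≠ 0 → ∑ k, dwt (c.2.1 k).1 ≤ ∑ k, dwt (c₀.2.1 k).1) :
    MvPolynomial.coeff (expo c₀.2.1) ((wtHom K (shapeEval K τ
      (∑ c ∈ F, lam c • chainMon K c.2.1))).coeff (∑ k, dwt (c₀.2.1 k).1)) = lam c₀ := by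
  classical
  simp only [map_sum, Polynomial.finsetSum_coeff, MvPolynomial.coeff_sum]
  have hterm : ∀ c ∈ F, MvPolynomial.coeff (expo c₀.2.1)
      ((wtHom K (shapeEval K τ (lam c • chainMon K c.2.1))).coeff (∑ k, dwt (c₀.2.1 k).1)) =
      if c = c₀ then lam c₀ else 0 := by
    intro c hcF
    rw [map_smul, MvPolynomial.smul_eq_C_mul, map_mul, wtHom_C, Polynomial.coeff_C_mul,
      MvPolynomial.coeff_C_mul]
    by_cases hlam : lam c = 0
    · rw [hlam, zero_mul]
      split_ifs with h
      · rw [h] at hlam; exact hlam.symm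
      · rfl
    · have hEc := hmax c hcF hlam
      have hnat := natDegree_wtHom_chainMon K τ c.2.1 (hF c hcF)
      rcases lt_or_eq_of_le hEc with hlt | heq
      · rw [Polynomial.coeff_eq_zero_of_natDegree_lt (by rw [hnat]; exact hlt),
          MvPolynomial.coeff_zero, mul_zero, if_neg]
        rintro rfl
        exact absurd hlt (lt_irrefl _)
      · have hlc := leadingCoeff_wtHom_chainMon K τ c.2.1 (hF c hcF)
        rw [Polynomial.leadingCoeff, hnat, heq, prod_diagMon] at hlc
        rw [hlc, MvPolynomial.coeff_monomial]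
        by_cases hcc : c = c₀
        · subst hcc
          rw [if_pos rfl, if_pos rfl, mul_one]
        · rw [if_neg hcc, if_neg, mul_zero]
          intro hexp
          apply hcc
          obtain ⟨m, c, hcanti⟩ := c
          obtain ⟨m₀, c₀, hc₀anti⟩ := c₀
          exact chain_unique hd c c₀ hcanti hc₀anti hexp
  rw [Finset.sum_congr rfl hterm, Finset.sum_ite_eq' F c₀, if_pos hc₀]

end Top


section Hibi

attribute [local instance] Polynomial.algebra

variable (K : Type u) [Field K] [Infinite K] (hd : 0 < d) (w : Idx d n)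

/-- The weights of the standard monomials occurring in a class are bounded by the degree of its
weighted evaluation at the generic matrix of shape `w`. -/
theorem nuC_le_degree (f : PlRing K d n) (c : CW w)
    (hc : (basisW K hd w).repr (Ideal.Quotient.mk (schubertVanishing K d n w) f) c ≠ 0) :
    ((nuC w omegaH c : ℕ) : WithBot ℕ) ≤ (wtHom K (shapeEval K w f)).degree := by
  classical
  obtain ⟨l, hl⟩ : ∃ l, l = (basisW K hd w).repr
    (Ideal.Quotient.mk (schubertVanishing K d n w) f) := ⟨_, rfl⟩
  rw [← hl] at hc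
  obtain ⟨g, hg⟩ : ∃ g, g = ∑ c ∈ l.support, l c • chainMon K c.1.2.1 := ⟨_, rfl⟩
  have hmk : Ideal.Quotient.mk (schubertVanishing K d n w) g =
      Ideal.Quotient.mk (schubertVanishing K d n w) f := by
    have h1 := (basisW K hd w).linearCombination_repr
      (Ideal.Quotient.mk (schubertVanishing K d n w) f)
    rw [← hl, Finsupp.linearCombination_apply, Finsupp.sum] at h1
    rw [← h1, hg, map_sum]
    apply Finset.sum_congr rfl
    intro c _
    rw [basisW_apply]
    exact map_smul (Ideal.Quotient.mkₐ K (schubertVanishing K d n w)) (l c) (chainMon K c.1.2.1)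
  have hshape : shapeEval K w f = shapeEval K w g := by
    have h1 : f - g ∈ schubertVanishing K d n w := Ideal.Quotient.eq.1 hmk.symm
    have h2 := shapeEval_eq_zero_of_mem K w _ h1
    rw [map_sub, sub_eq_zero] at h2
    exact h2
  have hcs : c ∈ l.support := Finsupp.mem_support_iff.2 hc
  obtain ⟨c₀, hc₀, hmax⟩ := Finset.exists_max_image l.support (nuC w omegaH) ⟨c, hcs⟩
  have hgF : g = ∑ x ∈ l.support.map ⟨Subtype.val, Subtype.val_injective⟩,
      (Function.extend Subtype.val l 0) x • chainMon K x.2.1 := by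
    rw [Finset.sum_map, hg]
    apply Finset.sum_congr rfl
    intro c _
    simp only [Function.Embedding.coeFn_mk]
    rw [Subtype.val_injective.extend_apply]
  have key := coeff_top K hd w (l.support.map ⟨Subtype.val, Subtype.val_injective⟩)
    (Function.extend Subtype.val l 0)
    (by
      intro x hx
      rw [Finset.mem_map] at hx
      obtain ⟨c, _, rfl⟩ := hx
      exact c.2)
    c₀.1 (Finset.mem_map.2 ⟨c₀, hc₀, rfl⟩)
    (by
      intro x hx _
      rw [Finset.mem_map] at hx
      obtain ⟨c, hc, rfl⟩ := hx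
      exact hmax c hc)
  rw [← hgF, Subtype.val_injective.extend_apply, ← hshape] at key
  have hne : (wtHom K (shapeEval K w f)).coeff (∑ k, dwt (c₀.1.2.1 k).1) ≠ 0 := by
    intro h0
    rw [h0, MvPolynomial.coeff_zero] at key
    exact (Finsupp.mem_support_iff.1 hc₀) key.symm
  have h1 := Polynomial.le_degree_of_ne_zero hne
  refine le_trans ?_ h1
  have h2 : nuC w omegaH c ≤ ∑ k, dwt (c₀.1.2.1 k).1 := hmax c hcs
  exact_mod_cast h2

theorem mk_mem_F_of_degree_le (f : PlRing K d n) (k : ℕ)
    (h : (wtHom K (shapeEval K w f)).degree ≤ k) :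
    Ideal.Quotient.mk (schubertVanishing K d n w) f ∈
      ReesDeg.F (basisW K hd w) (nuC w omegaH) k := by
  rw [ReesDeg.mem_F_iff]
  intro c hc
  have h1 := le_trans (nuC_le_degree K hd w f c hc) h
  exact_mod_cast h1

theorem mk_mem_F_of_degree_lt (f : PlRing K d n) (N : ℕ)
    (h : (wtHom K (shapeEval K w f)).degree < N) :
    Ideal.Quotient.mk (schubertVanishing K d n w) f ∈
      ReesDeg.F (basisW K hd w) (nuC w omegaH) (N - 1) ∧
    (Ideal.Quotient.mk (schubertVanishing K d n w) f ≠ 0 → 1 ≤ N) := by
  have hkey : ∀ c, (basisW K hd w).repr (Ideal.Quotient.mk (schubertVanishing K d n w) f) c ≠ 0 →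
      nuC w omegaH c + 1 ≤ N := by
    intro c hc
    have h1 := lt_of_le_of_lt (nuC_le_degree K hd w f c hc) h
    have h2 : nuC w omegaH c < N := by exact_mod_cast h1
    omega
  constructor
  · rw [ReesDeg.mem_F_iff]
    intro c hc
    have := hkey c hc
    omega
  · intro hne
    have hrepr : (basisW K hd w).repr (Ideal.Quotient.mk (schubertVanishing K d n w) f) ≠ 0 := by
      intro h0
      apply hne
      have := (basisW K hd w).repr.injective (a₁ := Ideal.Quotient.mk _ f) (a₂ := 0)
        (by rw [h0, map_zero])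
      exact this
    obtain ⟨c, hc⟩ := Finsupp.ne_iff.1 hrepr
    have := hkey c (by simpa using hc)
    omega


theorem hypH : ReesDeg.Hyp (basisW K hd w) (nuC w omegaH) where
  one_mem := one_mem_F K hd w omegaH
  mul_mem := by
    intro c c'
    rw [basisW_apply, basisW_apply, ← map_mul]
    apply mk_mem_F_of_degree_le
    refine le_trans Polynomial.degree_le_natDegree ?_
    have h1 : (wtHom K (shapeEval K w (chainMon K c.1.2.1 * chainMon K c'.1.2.1))).natDegree ≤
        nuC w omegaH c + nuC w omegaH c' := by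
      rw [map_mul, map_mul]
      refine le_trans Polynomial.natDegree_mul_le ?_
      rw [natDegree_wtHom_chainMon K w c.1.2.1 c.2, natDegree_wtHom_chainMon K w c'.1.2.1 c'.2]
      rfl
    exact_mod_cast h1

theorem dwt_sup_add_inf (a b : Idx d n) :
    dwt (W4bk4grassmannian.sup a b).1 + dwt (W4bk4grassmannian.inf a b).1 = dwt a.1 + dwt b.1 := by
  unfold dwt W4bk4grassmannian.sup W4bk4grassmannian.inf
  rw [← Finset.sum_add_distrib, ← Finset.sum_add_distrib]
  apply Finset.sum_congr rfl
  intro q _
  simp only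
  rcases le_total (a.1 q) (b.1 q) with h | h
  · rw [max_eq_right h, min_eq_left h]; ring
  · rw [max_eq_left h, min_eq_right h]

theorem diagMon_sup_mul_inf (a b : Idx d n) :
    diagMon K (W4bk4grassmannian.sup a b) * diagMon K (W4bk4grassmannian.inf a b) =
      diagMon K a * diagMon K b := by
  unfold diagMon W4bk4grassmannian.sup W4bk4grassmannian.inf
  rw [← Finset.prod_mul_distrib, ← Finset.prod_mul_distrib]
  apply Finset.prod_congr rfl
  intro q _
  simp only
  rcases le_total (a.1 q) (b.1 q) with h | h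
  · rw [max_eq_right h, min_eq_left h, mul_comm]
  · rw [max_eq_left h, min_eq_right h]

theorem wtHom_shapeEval_X (θ : Idx d n) : wtHom K (shapeEval K w (X θ)) = wtMinor K w θ := by
  rw [shapeEval_X]
  rfl

theorem psi0_hibi_relation (a b : Below w) :
    psi0 K hd w omegaH (hypH K hd w)
      (X a * X b - X (Below.sup a b) * X (Below.inf a b)) = 0 := by
  unfold psi0
  rw [map_sub, map_mul, map_mul, aeval_X, aeval_X, aeval_X, aeval_X, ← map_mul, ← map_mul,
    ← map_sub, Ideal.Quotient.eq_zero_iff_mem]
  obtain ⟨N, hN⟩ : ∃ N, N = dwt a.1.1 + dwt b.1.1 := ⟨_, rfl⟩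
  obtain ⟨f, hf⟩ : ∃ f : PlRing K d n, f = X a.1 * X b.1 -
    X (W4bk4grassmannian.sup a.1 b.1) * X (W4bk4grassmannian.inf a.1 b.1) := ⟨_, rfl⟩
  have hsle : W4bk4grassmannian.sup a.1 b.1 ≤ w := (Below.sup a b).2
  have hile : W4bk4grassmannian.inf a.1 b.1 ≤ w := (Below.inf a b).2
  -- the degree drops
  have hdeg : (wtHom K (shapeEval K w f)).degree < N := by
    rw [hf, map_sub, map_sub, map_mul, map_mul, map_mul, map_mul, wtHom_shapeEval_X,
      wtHom_shapeEval_X, wtHom_shapeEval_X, wtHom_shapeEval_X]
    have hne1 : wtMinor K w a.1 * wtMinor K w b.1 ≠ 0 :=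
      mul_ne_zero (wtMinor_ne_zero K w a.1 a.2) (wtMinor_ne_zero K w b.1 b.2)
    have hne2 : wtMinor K w (W4bk4grassmannian.sup a.1 b.1) *
        wtMinor K w (W4bk4grassmannian.inf a.1 b.1) ≠ 0 :=
      mul_ne_zero (wtMinor_ne_zero K w _ hsle) (wtMinor_ne_zero K w _ hile)
    have hd1 : (wtMinor K w a.1 * wtMinor K w b.1).degree = N := by
      rw [Polynomial.degree_eq_natDegree hne1, Polynomial.natDegree_mul
        (wtMinor_ne_zero K w a.1 a.2) (wtMinor_ne_zero K w b.1 b.2),
        natDegree_wtMinor K w a.1 a.2, natDegree_wtMinor K w b.1 b.2, hN]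
    have hd2 : (wtMinor K w (W4bk4grassmannian.sup a.1 b.1) *
        wtMinor K w (W4bk4grassmannian.inf a.1 b.1)).degree = N := by
      rw [Polynomial.degree_eq_natDegree hne2, Polynomial.natDegree_mul
        (wtMinor_ne_zero K w _ hsle) (wtMinor_ne_zero K w _ hile),
        natDegree_wtMinor K w _ hsle, natDegree_wtMinor K w _ hile, dwt_sup_add_inf, hN]
    have hlc : (wtMinor K w a.1 * wtMinor K w b.1).leadingCoeff =
        (wtMinor K w (W4bk4grassmannian.sup a.1 b.1) *
          wtMinor K w (W4bk4grassmannian.inf a.1 b.1)).leadingCoeff := by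
      rw [Polynomial.leadingCoeff_mul, Polynomial.leadingCoeff_mul,
        leadingCoeff_wtMinor K w a.1 a.2, leadingCoeff_wtMinor K w b.1 b.2,
        leadingCoeff_wtMinor K w _ hsle, leadingCoeff_wtMinor K w _ hile, diagMon_sup_mul_inf]
    have := Polynomial.degree_sub_lt_left (hd1.trans hd2.symm) hne1 hlc
    rw [hd1] at this
    exact this
  obtain ⟨hmem, hone⟩ := mk_mem_F_of_degree_lt K hd w f N hdeg
  -- the element of the Rees algebra
  have hcoe : ((ReesDeg.beta (basisW K hd w) (nuC w omegaH) (hypH K hd w) (singleC w a) *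
      ReesDeg.beta (basisW K hd w) (nuC w omegaH) (hypH K hd w) (singleC w b) -
      ReesDeg.beta (basisW K hd w) (nuC w omegaH) (hypH K hd w) (singleC w (Below.sup a b)) *
      ReesDeg.beta (basisW K hd w) (nuC w omegaH) (hypH K hd w) (singleC w (Below.inf a b)) :
      ReesDeg.rees (basisW K hd w) (nuC w omegaH) (hypH K hd w)) :
        Polynomial (PlRing K d n ⧸ schubertVanishing K d n w)) =
      Polynomial.C (Ideal.Quotient.mk (schubertVanishing K d n w) f) * Polynomial.X ^ N := by
    rw [Subalgebra.coe_sub, Subalgebra.coe_mul, Subalgebra.coe_mul, ReesDeg.coe_beta,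
      ReesDeg.coe_beta, ReesDeg.coe_beta, ReesDeg.coe_beta, nuC_singleC, nuC_singleC, nuC_singleC,
      nuC_singleC, basisW_singleC, basisW_singleC, basisW_singleC, basisW_singleC]
    have hN2 : N = omegaH (Below.sup a b).1 + omegaH (Below.inf a b).1 := by
      rw [hN]
      exact (dwt_sup_add_inf a.1 b.1).symm
    have hN1 : N = omegaH a.1 + omegaH b.1 := hN
    have e1 : Polynomial.X ^ N = (Polynomial.X ^ omegaH a.1 * Polynomial.X ^ omegaH b.1 :
        Polynomial (PlRing K d n ⧸ schubertVanishing K d n w)) := by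
      rw [← pow_add, ← hN1]
    have e2 : Polynomial.X ^ N = (Polynomial.X ^ omegaH (Below.sup a b).1 *
        Polynomial.X ^ omegaH (Below.inf a b).1 :
        Polynomial (PlRing K d n ⧸ schubertVanishing K d n w)) := by
      rw [← pow_add, ← hN2]
    have hs1 : (Below.sup a b).1 = W4bk4grassmannian.sup a.1 b.1 := rfl
    have hi1 : (Below.inf a b).1 = W4bk4grassmannian.inf a.1 b.1 := rfl
    rw [hs1, hi1] at e2 ⊢
    rw [hf, map_sub, map_mul, map_mul, Polynomial.C_sub, Polynomial.C_mul, Polynomial.C_mul,
      sub_mul]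
    congr 1
    · rw [e1]; ring
    · rw [e2]; ring
  by_cases hzero : Ideal.Quotient.mk (schubertVanishing K d n w) f = 0
  · have : (ReesDeg.beta (basisW K hd w) (nuC w omegaH) (hypH K hd w) (singleC w a) *
        ReesDeg.beta (basisW K hd w) (nuC w omegaH) (hypH K hd w) (singleC w b) -
        ReesDeg.beta (basisW K hd w) (nuC w omegaH) (hypH K hd w) (singleC w (Below.sup a b)) *
        ReesDeg.beta (basisW K hd w) (nuC w omegaH) (hypH K hd w) (singleC w (Below.inf a b))) =
        0 := by
      apply Subtype.ext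
      rw [hcoe, hzero, Polynomial.C_0, zero_mul]
      rfl
    rw [this]
    exact zero_mem _
  · have hN1 := hone hzero
    apply ReesDeg.mem_X0_of_coe (basisW K hd w) (nuC w omegaH) (hypH K hd w) _
      (Ideal.Quotient.mk (schubertVanishing K d n w) f) (N - 1) hmem
    rw [hcoe, Nat.sub_add_cancel hN1]

theorem hibiIdeal_le_ker (f : MvPolynomial (Below w) K) (hf : f ∈ hibiIdeal K w) :
    psi0 K hd w omegaH (hypH K hd w) f = 0 := by
  have hle : hibiIdeal K w ≤ RingHom.ker (psi0 K hd w omegaH (hypH K hd w)).toRingHom := by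
    unfold hibiIdeal
    rw [Ideal.span_le]
    rintro f ⟨a, b, rfl⟩
    exact psi0_hibi_relation K hd w a b
  exact hle hf


/-- The potential of a monomial on `H(w)`. -/
def potW (s : Below w →₀ ℕ) : ℕ := s.sum fun θ e => e * (wt θ.1.1) ^ 2

theorem potW_add (s t : Below w →₀ ℕ) : potW w (s + t) = potW w s + potW w t := by
  unfold potW
  apply Finsupp.sum_add_index'
  · intro a; simp
  · intro a b c; ring

theorem potW_single (θ : Below w) : potW w (Finsupp.single θ 1) = (wt θ.1.1) ^ 2 := by
  unfold potW
  rw [Finsupp.sum_single_index (by simp)]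
  simp

theorem potW_le (s : Below w →₀ ℕ) : potW w s ≤ Finsupp.degree s * (d * n) ^ 2 := by
  unfold potW
  rw [Finsupp.degree_apply, Finset.sum_mul, Finsupp.sum]
  apply Finset.sum_le_sum
  intro θ _
  apply Nat.mul_le_mul_left
  exact Nat.pow_le_pow_left (wt_le θ.1.1) 2

theorem wt_sup_add_inf (a b : Idx d n) :
    wt (W4bk4grassmannian.sup a b).1 + wt (W4bk4grassmannian.inf a b).1 = wt a.1 + wt b.1 := by
  unfold wt W4bk4grassmannian.sup W4bk4grassmannian.inf
  rw [← Finset.sum_add_distrib, ← Finset.sum_add_distrib]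
  apply Finset.sum_congr rfl
  intro q _
  simp only
  rcases le_total (a.1 q) (b.1 q) with h | h
  · rw [max_eq_right h, min_eq_left h]; ring
  · rw [max_eq_left h, min_eq_right h]

theorem lt_sup_of_not_le (a b : Idx d n) (h : ¬ b ≤ a) : a < W4bk4grassmannian.sup a b := by
  apply lt_of_le_not_ge
  · intro t
    exact le_max_left _ _
  · intro hle
    apply h
    intro t
    exact le_trans (le_max_right (a.1 t) (b.1 t)) (hle t)

/-- The chain monomials span the Hibi ring. -/
theorem span_hibi_monomial (s : Below w →₀ ℕ) :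
    Ideal.Quotient.mk (hibiIdeal K w) (monomial s (1 : K)) ∈
      Submodule.span K (Set.range fun c : CW w =>
        Ideal.Quotient.mk (hibiIdeal K w) (chainMonW K w c)) := by
  obtain ⟨k, hk⟩ : ∃ k, k = Finsupp.degree s * (d * n) ^ 2 - potW w s := ⟨_, rfl⟩
  induction k using Nat.strong_induction_on generalizing s with
  | _ k ih =>
    by_cases hch : ∀ a ∈ s.support, ∀ b ∈ s.support, a ≤ b ∨ b ≤ a
    · obtain ⟨c, hc, -, hsum⟩ := exists_chain_gen (fun θ : Below w => wt θ.1.1)
        (fun a b hab => wt_lt_of_lt (show a.1 < b.1 from hab)) _ s rfl hch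
      apply Submodule.subset_span
      refine ⟨⟨⟨_, ⟨fun k => (c k).1, fun k k' hkk' => hc hkk'⟩⟩, fun k => (c k).2⟩, ?_⟩
      show Ideal.Quotient.mk (hibiIdeal K w) (chainMonW K w _) = _
      congr 1
      unfold chainMonW
      conv_rhs => rw [hsum, monomial_sum_one]
      rfl
    · push Not at hch
      obtain ⟨a₀, ha₀, b₀, hb₀, hab₀, hba₀⟩ := hch
      obtain ⟨a, b, ha, hb, hab, hba, hwt⟩ : ∃ a b, a ∈ s.support ∧ b ∈ s.support ∧ ¬ a ≤ b ∧
          ¬ b ≤ a ∧ wt b.1.1 ≤ wt a.1.1 := by
        rcases le_total (wt b₀.1.1) (wt a₀.1.1) with h | h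
        · exact ⟨a₀, b₀, ha₀, hb₀, hab₀, hba₀, h⟩
        · exact ⟨b₀, a₀, hb₀, ha₀, hba₀, hab₀, h⟩
      have hne : a ≠ b := fun h1 => hab (h1 ▸ le_refl _)
      have ha1 : 1 ≤ s a := by
        have := Finsupp.mem_support_iff.1 ha
        omega
      have hb1 : 1 ≤ s b := by
        have := Finsupp.mem_support_iff.1 hb
        omega
      obtain ⟨s', hs'⟩ : ∃ s', s' = s - Finsupp.single a 1 - Finsupp.single b 1 := ⟨_, rfl⟩
      have hs : s = s' + Finsupp.single a 1 + Finsupp.single b 1 := by
        classical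
        rw [hs']
        ext θ
        simp only [Finsupp.coe_add, Finsupp.coe_tsub, Pi.add_apply, Pi.sub_apply]
        by_cases hθa : θ = a
        · subst hθa
          rw [Finsupp.single_eq_same, Finsupp.single_eq_of_ne (by exact hne)]
          omega
        · by_cases hθb : θ = b
          · subst hθb
            rw [Finsupp.single_eq_same, Finsupp.single_eq_of_ne (by exact hθa)]
            omega
          · rw [Finsupp.single_eq_of_ne (by exact hθa), Finsupp.single_eq_of_ne (by exact hθb)]
            omega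
      obtain ⟨s₂, hs₂⟩ : ∃ s₂, s₂ = s' + Finsupp.single (Below.sup a b) 1 +
        Finsupp.single (Below.inf a b) 1 := ⟨_, rfl⟩
      have hmk : Ideal.Quotient.mk (hibiIdeal K w) (monomial s (1 : K)) =
          Ideal.Quotient.mk (hibiIdeal K w) (monomial s₂ (1 : K)) := by
        have e1 : (monomial s (1 : K) : MvPolynomial (Below w) K) =
            monomial s' 1 * (X a * X b) := by
          rw [hs, X, X, monomial_mul, monomial_mul, mul_one, mul_one, add_assoc]
        have e2 : (monomial s₂ (1 : K) : MvPolynomial (Below w) K) =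
            monomial s' 1 * (X (Below.sup a b) * X (Below.inf a b)) := by
          rw [hs₂, X, X, monomial_mul, monomial_mul, mul_one, mul_one, add_assoc]
        have hrel : Ideal.Quotient.mk (hibiIdeal K w) (X a * X b) =
            Ideal.Quotient.mk (hibiIdeal K w) (X (Below.sup a b) * X (Below.inf a b)) :=
          Ideal.Quotient.eq.2 (Ideal.subset_span ⟨a, b, rfl⟩)
        rw [e1, e2, map_mul, hrel, ← map_mul]
      rw [hmk]
      have hdeg : Finsupp.degree s = Finsupp.degree s' + 2 := by
        rw [hs, map_add, map_add, Finsupp.degree_single, Finsupp.degree_single]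
      have hdeg₂ : Finsupp.degree s₂ = Finsupp.degree s' + 2 := by
        rw [hs₂, map_add, map_add, Finsupp.degree_single, Finsupp.degree_single]
      have hpot : potW w s = potW w s' + wt a.1.1 ^ 2 + wt b.1.1 ^ 2 := by
        rw [hs, potW_add, potW_add, potW_single, potW_single]
      have hpot₂ : potW w s₂ = potW w s' + wt (Below.sup a b).1.1 ^ 2 +
          wt (Below.inf a b).1.1 ^ 2 := by
        rw [hs₂, potW_add, potW_add, potW_single, potW_single]
      have hba' : ¬ b.1 ≤ a.1 := hba
      have hlt := sq_add_sq_lt hwt (wt_lt_of_lt (lt_sup_of_not_le a.1 b.1 hba'))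
        (wt_sup_add_inf a.1 b.1)
      have hs1 : (Below.sup a b).1 = W4bk4grassmannian.sup a.1 b.1 := rfl
      have hi1 : (Below.inf a b).1 = W4bk4grassmannian.inf a.1 b.1 := rfl
      rw [hs1, hi1] at hpot₂
      have hle := potW_le w s₂
      apply ih (Finsupp.degree s₂ * (d * n) ^ 2 - potW w s₂) _ s₂ rfl
      rw [hk, hdeg, ← hdeg₂]
      have hle' := potW_le w s
      rw [hdeg, ← hdeg₂] at hle'
      generalize Finsupp.degree s₂ * (d * n) ^ 2 = N at *
      omega

theorem span_hibi : Submodule.span K (Set.range fun c : CW w =>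
    Ideal.Quotient.mk (hibiIdeal K w) (chainMonW K w c)) = ⊤ := by
  rw [eq_top_iff]
  intro x hx
  clear hx
  obtain ⟨f, rfl⟩ := Ideal.Quotient.mk_surjective x
  induction f using MvPolynomial.induction_on' with
  | monomial s a =>
    have hsm : monomial s a = a • monomial s (1 : K) := by
      rw [smul_monomial, smul_eq_mul, mul_one]
    rw [hsm]
    have hsm2 : Ideal.Quotient.mk (hibiIdeal K w) (a • monomial s (1 : K)) =
        a • Ideal.Quotient.mk (hibiIdeal K w) (monomial s (1 : K)) :=
      map_smul (Ideal.Quotient.mkₐ K (hibiIdeal K w)) a _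
    rw [hsm2]
    exact Submodule.smul_mem _ _ (span_hibi_monomial K w s)
  | add p q hp hq =>
    rw [map_add]
    exact Submodule.add_mem _ hp hq

include hd in
/-- **Degeneration of the cone over a Schubert variety to the Hibi ring.** -/
theorem hibi_degeneration :
    ∃ (R : Type u) (_ : CommRing R) (_ : Algebra K R) (_ : Algebra (Polynomial K) R)
      (_ : IsScalarTower K (Polynomial K) R),
      Module.Free (Polynomial K) R ∧
      Nonempty ((R ⧸ Ideal.span {algebraMap (Polynomial K) R Polynomial.X}) ≃ₐ[K]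
        (MvPolynomial (Below w) K ⧸ hibiIdeal K w)) ∧
      ∀ c : K, c ≠ 0 →
        Nonempty ((R ⧸ Ideal.span {algebraMap (Polynomial K) R (Polynomial.X - Polynomial.C c)}) ≃ₐ[K]
          (PlRing K d n ⧸ schubertVanishing K d n w)) :=
  exists_degeneration_of K hd w omegaH (hypH K hd w) (hibiIdeal K w) (hibiIdeal_le_ker K hd w)
    (span_hibi K w)

end Hibi

end Groth.Agent.Lib.helper10.SMT
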