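import Groth.Agent.Lib.Helper10.SMT14
import Groth.Agent.Lib.Helper10.NormalCrit

/-!
# Standard monomial theory for the Grassmannian (helper10), part 15: the cone over a Schubert
variety is a domain (the Schubert ideal is the kernel of the evaluation at the generic matrix of
shape `τ`)
-/

set_option autoImplicit false
set_option linter.unusedSectionVars false
set_option linter.style.haveILetI false

universe u

open MvPolynomial W4bk4grassmannian

namespace Groth.Agent.Lib.helper10.SMT

variable {d n : ℕ}

section Coord

variable (K : Type u) [CommRing K]

/-- The signed coordinate of a tuple of rows evaluates to the determinant on these rows, for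
matrices over any `K`-algebra. -/
theorem aeval_minors_coord {R : Type*} [CommRing R] [Algebra K R] (A : Matrix (Fin n) (Fin d) R)
    (a : Fin d → Fin n) :
    MvPolynomial.aeval (fun θ : Idx d n => (A.submatrix θ.1 id).det) (coord K d n a) =
      (A.submatrix a id).det := by
  unfold coord
  by_cases h : (Finset.univ.image a).card = d
  · rw [dif_pos h]
    obtain ⟨σ, hσ⟩ := exists_perm_sort a h
    have hinj := injective_of_card_image a h
    have hsign := sign_eq_neg_one_pow_invCount a hinj _ (sortIdx d n a h).2 σ hσ
    have hsub : A.submatrix a id = (A.submatrix (sortIdx d n a h).1 id).submatrix σ id := by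
      ext p q
      simp only [Matrix.submatrix_apply, id]
      rw [hσ]
    rw [hsub, Matrix.det_permute, hsign, map_mul, map_pow, map_neg, map_one, aeval_X]
    congr 1
    simp
  · rw [dif_neg h, map_zero]
    have hninj : ¬ Function.Injective a := by
      intro hinj
      apply h
      rw [Finset.card_image_of_injective _ hinj, Finset.card_univ, Fintype.card_fin]
    rw [Function.Injective] at hninj
    push Not at hninj
    obtain ⟨p, q, hpq, hne⟩ := hninj
    symm
    apply Matrix.det_zero_of_row_eq hne
    ext c
    simp only [Matrix.submatrix_apply, id]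
    rw [hpq]

theorem shapeEval_coord (τ : Idx d n) (a : Fin d → Fin n) :
    shapeEval K τ (coord K d n a) = ((shapeMat K τ).submatrix a id).det := by
  unfold shapeEval
  exact aeval_minors_coord K (shapeMat K τ) a

end Coord

section Domain

variable (K : Type u) [Field K] [Infinite K] (hd : 0 < d) (τ : Idx d n)

include hd in
/-- The Schubert ideal is the kernel of the evaluation at the generic matrix of shape `τ`. -/
theorem mem_schubertVanishing_iff (f : PlRing K d n) :
    f ∈ schubertVanishing K d n τ ↔ shapeEval K τ f = 0 := by
  constructor
  · exact shapeEval_eq_zero_of_mem K τ f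
  · intro h0
    rw [← Ideal.Quotient.eq_zero_iff_mem]
    by_contra hne
    have hrepr : (basisW K hd τ).repr (Ideal.Quotient.mk (schubertVanishing K d n τ) f) ≠ 0 := by
      intro h1
      apply hne
      exact (basisW K hd τ).repr.injective (a₁ := Ideal.Quotient.mk _ f) (a₂ := 0)
        (by rw [h1, map_zero])
    obtain ⟨c, hc⟩ := Finsupp.ne_iff.1 hrepr
    have h2 := nuC_le_degree K hd τ f c (by simpa using hc)
    rw [h0, map_zero, Polynomial.degree_zero] at h2
    exact absurd h2 (by simp)

/-- The evaluation at the generic matrix of shape `τ`, on the quotient. -/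
noncomputable def evA : (PlRing K d n ⧸ schubertVanishing K d n τ) →ₐ[K]
    MvPolynomial (Fin n × Fin d) K :=
  Ideal.Quotient.liftₐ (schubertVanishing K d n τ) (shapeEval K τ)
    (fun f hf => shapeEval_eq_zero_of_mem K τ f hf)

theorem evA_mk (f : PlRing K d n) :
    evA K τ (Ideal.Quotient.mk (schubertVanishing K d n τ) f) = shapeEval K τ f := by
  unfold evA
  rw [Ideal.Quotient.liftₐ_apply, Ideal.Quotient.lift_mk]
  rfl

include hd in
theorem evA_injective : Function.Injective (evA K τ) := by
  rw [injective_iff_map_eq_zero]
  intro x hx
  obtain ⟨f, rfl⟩ := Ideal.Quotient.mk_surjective x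
  rw [evA_mk] at hx
  exact Ideal.Quotient.eq_zero_iff_mem.2 ((mem_schubertVanishing_iff K hd τ f).2 hx)

include hd in
theorem isDomain_schubert : IsDomain (PlRing K d n ⧸ schubertVanishing K d n τ) :=
  Function.Injective.isDomain (evA K τ).toRingHom (evA_injective K hd τ)

end Domain

end Groth.Agent.Lib.helper10.SMT
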