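import Groth.Agent.Lib.Helper10.SMT15

/-!
# Standard monomial theory for the Grassmannian (helper10), part 16: the cell coordinates of the
generic matrix of shape `τ` and the retraction onto the localized ring of minors
-/

set_option autoImplicit false
set_option linter.unusedSectionVars false
set_option linter.style.haveILetI false

universe u

open MvPolynomial W4bk4grassmannian

namespace Groth.Agent.Lib.helper10.SMT

variable {d n : ℕ}

/-- The minors of a matrix of shape `τ` on a tuple of rows whose entries from a position `t₀` on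
exceed `τ t₀` vanish. -/
theorem det_eq_zero_of_shape' {R : Type*} [CommRing R] (τ : Idx d n) (a : Fin d → Fin n)
    (M : Matrix (Fin n) (Fin d) R) (hM : ∀ s t, τ.1 t < s → M s t = 0) (t₀ : Fin d)
    (h : ∀ r, t₀ ≤ r → τ.1 t₀ < a r) : (M.submatrix a id).det = 0 := by
  rw [Matrix.det_apply]
  apply Finset.sum_eq_zero
  intro σ _
  have hex : ∃ q, q ≤ t₀ ∧ t₀ ≤ σ q := by
    by_contra hcon
    push Not at hcon
    have hmaps : ∀ q ∈ Finset.Iic t₀, σ q ∈ Finset.Iio t₀ :=
      fun q hq => Finset.mem_Iio.2 (hcon q (Finset.mem_Iic.1 hq))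
    have := Finset.card_le_card_of_injOn σ hmaps (σ.injective.injOn)
    rw [Fin.card_Iic, Fin.card_Iio] at this
    omega
  obtain ⟨q, hq1, hq2⟩ := hex
  have hzero : (M.submatrix a id) (σ q) q = 0 := by
    rw [Matrix.submatrix_apply, id]
    apply hM
    exact lt_of_le_of_lt (τ.2.monotone hq1) (h (σ q) hq2)
  rw [Finset.prod_eq_zero (f := fun i => (M.submatrix a id) (σ i) i) (Finset.mem_univ q) hzero,
    smul_zero]

section Cell

variable (K : Type u) [CommRing K] (τ : Idx d n)

/-- The block of the generic matrix of shape `τ` on the rows `τ`. -/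
noncomputable def topBlock : Matrix (Fin d) (Fin d) (MvPolynomial (Fin n × Fin d) K) :=
  (shapeMat K τ).submatrix τ.1 id

/-- The numerators of the cell coordinates. -/
noncomputable def cellNum : Matrix (Fin n) (Fin d) (MvPolynomial (Fin n × Fin d) K) :=
  shapeMat K τ * (topBlock K τ).adjugate

theorem det_topBlock : (topBlock K τ).det = shapeEval K τ (X τ) := by
  rw [shapeEval_X]
  rfl

theorem cellNum_apply (s : Fin n) (t : Fin d) :
    cellNum K τ s t = ((shapeMat K τ).submatrix (Function.update τ.1 t s) id).det := by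
  have h1 : cellNum K τ s t = ((topBlock K τ).updateRow t (shapeMat K τ s)).det := by
    rw [← Matrix.cramer_transpose_apply, Matrix.cramer_eq_adjugate_mulVec,
      ← Matrix.adjugate_transpose, Matrix.mulVec_transpose]
    rfl
  rw [h1]
  congr 1
  ext r c
  rw [Matrix.updateRow_apply, Matrix.submatrix_apply, id, Function.update_apply]
  split_ifs with hr
  · rfl
  · rfl

theorem cellNum_eq_shapeEval (s : Fin n) (t : Fin d) :
    cellNum K τ s t = shapeEval K τ (coord K d n (Function.update τ.1 t s)) := by
  rw [cellNum_apply, shapeEval_coord]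

theorem cellNum_eq_zero (s : Fin n) (t : Fin d) (hst : τ.1 t < s) : cellNum K τ s t = 0 := by
  rw [cellNum_apply]
  apply det_eq_zero_of_shape' τ _ _ _ t
  · intro r hr
    rw [Function.update_apply]
    split_ifs with h
    · exact hst
    · exact τ.2 (lt_of_le_of_ne hr (Ne.symm h))
  · intro s' t' hs't'
    rw [shapeMat_apply, if_neg (not_le.2 hs't')]

theorem det_cellNum_submatrix (θ : Fin d → Fin n) :
    ((cellNum K τ).submatrix θ id).det =
      ((shapeMat K τ).submatrix θ id).det * (topBlock K τ).det ^ (d - 1) := by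
  have h1 : (cellNum K τ).submatrix θ id =
      (shapeMat K τ).submatrix θ id * (topBlock K τ).adjugate := by
    unfold cellNum
    ext r c
    rw [Matrix.submatrix_apply, Matrix.mul_apply, Matrix.mul_apply]
    rfl
  rw [h1, Matrix.det_mul, Matrix.det_adjugate, Fintype.card_fin]

end Cell


theorem inv_pow_mul_pow_pred {F : Type*} [Field F] (x : F) (hx : x ≠ 0) (m : ℕ) (hm : 0 < m) :
    x * (x⁻¹ ^ m * x ^ (m - 1)) = 1 := by
  obtain ⟨e, rfl⟩ : ∃ e, m = e + 1 := ⟨m - 1, by omega⟩
  rw [Nat.add_sub_cancel, inv_pow]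
  have : x ^ (e + 1) ≠ 0 := pow_ne_zero _ hx
  field_simp
  ring

section Retraction

variable (K : Type u) [Field K] (hd : 0 < d) (τ : Idx d n)

/-- The minor on the rows `τ`, in the fraction field. -/
noncomputable def topL : FractionRing (MvPolynomial (Fin n × Fin d) K) :=
  algebraMap (MvPolynomial (Fin n × Fin d) K) (FractionRing (MvPolynomial (Fin n × Fin d) K))
    (topBlock K τ).det

theorem topBlock_det_ne_zero : (topBlock K τ).det ≠ 0 := by
  intro h0
  have h1 : wtMinor K τ τ = 0 := by
    unfold wtMinor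
    have : ((shapeMat K τ).submatrix τ.1 id).det = (topBlock K τ).det := rfl
    rw [this, h0, map_zero]
  exact wtMinor_ne_zero K τ τ le_rfl h1

theorem topL_ne_zero : topL K τ ≠ 0 := by
  intro h0
  apply topBlock_det_ne_zero K τ
  apply IsFractionRing.injective (MvPolynomial (Fin n × Fin d) K)
    (FractionRing (MvPolynomial (Fin n × Fin d) K))
  rw [map_zero]
  exact h0

/-- The diagonal scaling: the first column is multiplied by the minor on the rows `τ`. -/
noncomputable def scaleD (t : Fin d) : FractionRing (MvPolynomial (Fin n × Fin d) K) :=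
  if t = (⟨0, hd⟩ : Fin d) then topL K τ else 1

theorem prod_scaleD : ∏ t : Fin d, scaleD K hd τ t = topL K τ := by
  unfold scaleD
  rw [Finset.prod_ite_eq' Finset.univ (⟨0, hd⟩ : Fin d) (fun _ => topL K τ),
    if_pos (Finset.mem_univ _)]

/-- The retraction: substitute the scaled cell coordinates for the variables. -/
noncomputable def rho : MvPolynomial (Fin n × Fin d) K →ₐ[K]
    FractionRing (MvPolynomial (Fin n × Fin d) K) :=
  MvPolynomial.aeval fun p : Fin n × Fin d =>
    scaleD K hd τ p.2 * ((topL K τ)⁻¹ *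
      algebraMap (MvPolynomial (Fin n × Fin d) K)
        (FractionRing (MvPolynomial (Fin n × Fin d) K)) (cellNum K τ p.1 p.2))

theorem rho_shapeMat (s : Fin n) (t : Fin d) :
    rho K hd τ (shapeMat K τ s t) = scaleD K hd τ t * ((topL K τ)⁻¹ *
      algebraMap (MvPolynomial (Fin n × Fin d) K)
        (FractionRing (MvPolynomial (Fin n × Fin d) K)) (cellNum K τ s t)) := by
  rw [shapeMat_apply]
  split_ifs with h
  · unfold rho
    rw [aeval_X]
  · rw [map_zero, cellNum_eq_zero K τ s t (not_le.1 h), map_zero, mul_zero, mul_zero]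

theorem rho_minor (θ : Fin d → Fin n) :
    rho K hd τ ((shapeMat K τ).submatrix θ id).det =
      algebraMap (MvPolynomial (Fin n × Fin d) K)
        (FractionRing (MvPolynomial (Fin n × Fin d) K)) ((shapeMat K τ).submatrix θ id).det := by
  rw [AlgHom.map_det]
  have h1 : (rho K hd τ).mapMatrix ((shapeMat K τ).submatrix θ id) =
      Matrix.of fun r t => scaleD K hd τ t *
        (((topL K τ)⁻¹ • ((cellNum K τ).submatrix θ id).map
          (algebraMap (MvPolynomial (Fin n × Fin d) K)
            (FractionRing (MvPolynomial (Fin n × Fin d) K)))) r t) := by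
    ext r t
    rw [AlgHom.mapMatrix_apply, Matrix.map_apply, Matrix.submatrix_apply, id, rho_shapeMat,
      Matrix.of_apply, Matrix.smul_apply, Matrix.map_apply, Matrix.submatrix_apply, id, smul_eq_mul]
  rw [h1, Matrix.det_mul_row, prod_scaleD, Matrix.det_smul, Fintype.card_fin,
    ← RingHom.mapMatrix_apply, ← RingHom.map_det, det_cellNum_submatrix, map_mul, map_pow]
  have e : algebraMap (MvPolynomial (Fin n × Fin d) K)
      (FractionRing (MvPolynomial (Fin n × Fin d) K)) (topBlock K τ).det = topL K τ := rfl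
  rw [e]
  have hring : ∀ x y : FractionRing (MvPolynomial (Fin n × Fin d) K),
      x * (x⁻¹ ^ d * (y * x ^ (d - 1))) = (x * (x⁻¹ ^ d * x ^ (d - 1))) * y := fun x y => by ring
  rw [hring, inv_pow_mul_pow_pred (topL K τ) (topL_ne_zero K τ) d hd, one_mul]

/-- The retraction fixes the minors. -/
theorem rho_shapeEval (f : PlRing K d n) :
    rho K hd τ (shapeEval K τ f) =
      algebraMap (MvPolynomial (Fin n × Fin d) K)
        (FractionRing (MvPolynomial (Fin n × Fin d) K)) (shapeEval K τ f) := by
  have h : (rho K hd τ).comp (shapeEval K τ) =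
      (IsScalarTower.toAlgHom K (MvPolynomial (Fin n × Fin d) K)
        (FractionRing (MvPolynomial (Fin n × Fin d) K))).comp (shapeEval K τ) := by
    apply MvPolynomial.algHom_ext
    intro θ
    rw [AlgHom.comp_apply, AlgHom.comp_apply, shapeEval_X, rho_minor]
    rfl
  exact DFunLike.congr_fun h f


theorem topL_pow (k : ℕ) : topL K τ ^ k =
    algebraMap (MvPolynomial (Fin n × Fin d) K) (FractionRing (MvPolynomial (Fin n × Fin d) K))
      (shapeEval K τ (X τ ^ k)) := by
  unfold topL
  rw [map_pow, map_pow, det_topBlock]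

/-- The localization of the ring of minors at the minor on the rows `τ`, inside the fraction
field of the polynomial ring. -/
noncomputable def cellAlg : Subalgebra K (FractionRing (MvPolynomial (Fin n × Fin d) K)) where
  carrier := {y | ∃ (a : PlRing K d n) (k : ℕ), y * topL K τ ^ k =
    algebraMap (MvPolynomial (Fin n × Fin d) K) (FractionRing (MvPolynomial (Fin n × Fin d) K))
      (shapeEval K τ a)}
  mul_mem' := by
    rintro y₁ y₂ ⟨a₁, k₁, h₁⟩ ⟨a₂, k₂, h₂⟩
    refine ⟨a₁ * a₂, k₁ + k₂, ?_⟩
    rw [map_mul, map_mul, ← h₁, ← h₂, pow_add]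
    ring
  add_mem' := by
    rintro y₁ y₂ ⟨a₁, k₁, h₁⟩ ⟨a₂, k₂, h₂⟩
    refine ⟨a₁ * X τ ^ k₂ + a₂ * X τ ^ k₁, k₁ + k₂, ?_⟩
    rw [map_add, map_add, map_mul, map_mul, map_mul, map_mul, ← h₁, ← h₂, ← topL_pow, ← topL_pow,
      pow_add]
    ring
  algebraMap_mem' := by
    intro c
    refine ⟨C c, 0, ?_⟩
    rw [pow_zero, mul_one, ← MvPolynomial.algebraMap_eq, AlgHom.commutes,
      ← IsScalarTower.algebraMap_apply]

theorem mem_cellAlg (y : FractionRing (MvPolynomial (Fin n × Fin d) K)) :
    y ∈ cellAlg K τ ↔ ∃ (a : PlRing K d n) (k : ℕ), y * topL K τ ^ k =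
      algebraMap (MvPolynomial (Fin n × Fin d) K) (FractionRing (MvPolynomial (Fin n × Fin d) K))
        (shapeEval K τ a) := Iff.rfl

theorem rho_var_mem (p : Fin n × Fin d) :
    scaleD K hd τ p.2 * ((topL K τ)⁻¹ *
      algebraMap (MvPolynomial (Fin n × Fin d) K)
        (FractionRing (MvPolynomial (Fin n × Fin d) K)) (cellNum K τ p.1 p.2)) ∈ cellAlg K τ := by
  rw [mem_cellAlg]
  have hM := topL_ne_zero K τ
  unfold scaleD
  split_ifs with h
  · refine ⟨X τ * coord K d n (Function.update τ.1 p.2 p.1), 1, ?_⟩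
    rw [pow_one, map_mul, map_mul, ← cellNum_eq_shapeEval, ← det_topBlock]
    have e : algebraMap (MvPolynomial (Fin n × Fin d) K)
        (FractionRing (MvPolynomial (Fin n × Fin d) K)) (topBlock K τ).det = topL K τ := rfl
    rw [e]
    field_simp
  · refine ⟨coord K d n (Function.update τ.1 p.2 p.1), 1, ?_⟩
    rw [pow_one, ← cellNum_eq_shapeEval]
    field_simp

/-- The retraction takes values in the localized ring of minors. -/
theorem rho_mem_cellAlg (p : MvPolynomial (Fin n × Fin d) K) : rho K hd τ p ∈ cellAlg K τ := by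
  induction p using MvPolynomial.induction_on with
  | C a =>
    rw [← MvPolynomial.algebraMap_eq, AlgHom.commutes]
    exact Subalgebra.algebraMap_mem _ _
  | add p q hp hq =>
    rw [map_add]
    exact Subalgebra.add_mem _ hp hq
  | mul_X p i hp =>
    rw [map_mul]
    apply Subalgebra.mul_mem _ hp
    unfold rho
    rw [aeval_X]
    exact rho_var_mem K hd τ i

end Retraction

end Groth.Agent.Lib.helper10.SMT
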