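import Groth.Agent.Lib.Helper10.SMT16
import Groth.Agent.S11254

/-!
# Standard monomial theory for the Grassmannian (helper10), part 17: the cone over a Schubert
variety is normal
-/

set_option autoImplicit false
set_option linter.unusedSectionVars false
set_option linter.style.haveILetI false

universe u

open MvPolynomial W4bk4grassmannian

namespace Groth.Agent.Lib.helper10.SMT

variable {d n : ℕ}

theorem schubertVanishing_isRadical' (K : Type u) [Field K] (τ : Idx d n) :
    (schubertVanishing K d n τ).IsRadical := by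
  intro x hx
  obtain ⟨k, hk⟩ := hx
  unfold schubertVanishing at hk ⊢
  rw [Ideal.mem_iInf] at hk ⊢
  intro A
  have h1 := hk A
  rw [Ideal.mem_iInf] at h1 ⊢
  intro hA
  have h2 := h1 hA
  rw [RingHom.mem_ker] at h2 ⊢
  rw [map_pow] at h2
  exact pow_eq_zero_iff (n := k) (by
    rintro rfl
    rw [pow_zero] at h2
    exact one_ne_zero h2) |>.1 h2

section Radical

variable (K : Type u) [Field K] [IsAlgClosed K] (hd : 0 < d) (hdn : d < n) (τ : Idx d n)

include hd hdn in
/-- The ideal generated by the class of `X_τ` in the coordinate ring of the cone over `X(τ)` is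
radical, when `X(τ)` has positive dimension. -/
theorem span_X_isRadical_of_exists (hτ : ∃ φ : Idx d n, φ < τ) :
    (Ideal.span {Ideal.Quotient.mk (schubertVanishing K d n τ) (X τ)}).IsRadical := by
  intro y hy
  obtain ⟨k, hk⟩ := hy
  obtain ⟨f, rfl⟩ := Ideal.Quotient.mk_surjective y
  have hS := Groth.Agent.S11254.result K d n hd hdn τ hτ
  have hmem : ∀ g : PlRing K d n, Ideal.Quotient.mk (schubertVanishing K d n τ) g ∈
      Ideal.span {Ideal.Quotient.mk (schubertVanishing K d n τ) (X τ)} ↔
      g ∈ schubertVanishing K d n τ ⊔ Ideal.span {X τ} := by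
    intro g
    rw [Ideal.mem_span_singleton']
    constructor
    · rintro ⟨a, ha⟩
      obtain ⟨a', rfl⟩ := Ideal.Quotient.mk_surjective a
      rw [← map_mul, Ideal.Quotient.eq] at ha
      have h1 : g = (a' * X τ) - (a' * X τ - g) := by ring
      rw [h1]
      exact Ideal.sub_mem _ (Ideal.mem_sup_right (Ideal.mul_mem_left _ _ (Ideal.subset_span rfl)))
        (Ideal.mem_sup_left ha)
    · intro hg
      obtain ⟨j, hj, z, hz, rfl⟩ := Submodule.mem_sup.1 hg
      obtain ⟨a', rfl⟩ := Ideal.mem_span_singleton'.1 hz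
      refine ⟨Ideal.Quotient.mk _ a', ?_⟩
      rw [map_add, Ideal.Quotient.eq_zero_iff_mem.2 hj, zero_add, map_mul]
  rw [← map_pow, hmem, hS] at hk
  rw [hmem, hS]
  rw [Ideal.mem_iInf] at hk ⊢
  intro φ
  have h1 := hk φ
  rw [Ideal.mem_iInf] at h1 ⊢
  intro hφ
  exact schubertVanishing_isRadical' K φ ⟨k, h1 hφ⟩


/-- The same for the zero-dimensional Schubert variety. -/
theorem span_X_isRadical_of_not_exists (hτ : ¬ ∃ φ : Idx d n, φ < τ) :
    (Ideal.span {Ideal.Quotient.mk (schubertVanishing K d n τ) (X τ)}).IsRadical := by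
  haveI : Infinite K := inferInstance
  obtain ⟨I, hI⟩ : ∃ I, I = Ideal.span {Ideal.Quotient.mk (schubertVanishing K d n τ) (X τ)} :=
    ⟨_, rfl⟩
  rw [← hI]
  have hxI : Ideal.Quotient.mk (schubertVanishing K d n τ) (X τ) ∈ I := by
    rw [hI]; exact Ideal.subset_span rfl
  have step1 : ∀ y : PlRing K d n ⧸ schubertVanishing K d n τ, ∃ l : K,
      y - algebraMap K (PlRing K d n ⧸ schubertVanishing K d n τ) l ∈ I := by
    intro y
    have hy : y ∈ Submodule.span K (Set.range fun c : CW τ =>
        Ideal.Quotient.mk (schubertVanishing K d n τ) (chainMon K c.1.2.1)) := span_CW K τ trivial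
    induction hy using Submodule.span_induction with
    | mem y hy =>
      obtain ⟨c, rfl⟩ := hy
      beta_reduce
      have hc : ∀ k, c.1.2.1 k = τ := by
        intro k
        exact eq_of_le_of_not_lt (c.2 k) (fun h => hτ ⟨_, h⟩)
      have hmon : chainMon K c.1.2.1 = X τ ^ c.1.1 := by
        unfold chainMon
        simp_rw [hc]
        rw [Finset.prod_const, Finset.card_univ, Fintype.card_fin]
      rw [hmon]
      by_cases hm : c.1.1 = 0
      · refine ⟨1, ?_⟩
        rw [hm, pow_zero, map_one, map_one, sub_self]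
        exact zero_mem _
      · refine ⟨0, ?_⟩
        rw [map_zero, sub_zero, map_pow]
        obtain ⟨e, he⟩ : ∃ e, c.1.1 = e + 1 := ⟨c.1.1 - 1, by omega⟩
        rw [he, pow_succ]
        exact Ideal.mul_mem_left _ _ hxI
    | zero => exact ⟨0, by rw [map_zero, sub_zero]; exact zero_mem _⟩
    | add y z _ _ hy hz =>
      obtain ⟨l₁, h₁⟩ := hy
      obtain ⟨l₂, h₂⟩ := hz
      refine ⟨l₁ + l₂, ?_⟩
      have : y + z - algebraMap K _ (l₁ + l₂) = (y - algebraMap K _ l₁) + (z - algebraMap K _ l₂) := by
        rw [map_add]; ring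
      rw [this]
      exact Ideal.add_mem _ h₁ h₂
    | smul a y _ hy =>
      obtain ⟨l, h₁⟩ := hy
      refine ⟨a * l, ?_⟩
      have hsm : a • y = algebraMap K (PlRing K d n ⧸ schubertVanishing K d n τ) a * y :=
        Algebra.smul_def a y
      have : a • y - algebraMap K _ (a * l) = algebraMap K _ a * (y - algebraMap K _ l) := by
        rw [map_mul, hsm]; ring
      rw [this]
      exact Ideal.mul_mem_left _ _ h₁
  intro y hy
  obtain ⟨k, hk⟩ := hy
  obtain ⟨l, hl⟩ := step1 y
  by_cases hl0 : l = 0
  · rw [hl0, map_zero, sub_zero] at hl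
    exact hl
  · have h1 : Ideal.Quotient.mk I y =
        Ideal.Quotient.mk I (algebraMap K (PlRing K d n ⧸ schubertVanishing K d n τ) l) :=
      Ideal.Quotient.eq.2 hl
    have h2 : Ideal.Quotient.mk I (y ^ k) = 0 := Ideal.Quotient.eq_zero_iff_mem.2 hk
    rw [map_pow, h1, ← map_pow, ← map_pow, Ideal.Quotient.eq_zero_iff_mem] at h2
    have hunit : IsUnit (algebraMap K (PlRing K d n ⧸ schubertVanishing K d n τ) (l ^ k)) :=
      (IsUnit.mk0 _ (pow_ne_zero k hl0)).map _
    have htop : I = ⊤ := Ideal.eq_top_of_isUnit_mem _ h2 hunit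
    rw [htop]
    trivial

end Radical

section Normal

variable (K : Type u) [Field K] [Infinite K] (hd : 0 < d) (τ : Idx d n)

include hd in
theorem mk_X_ne_zero : Ideal.Quotient.mk (schubertVanishing K d n τ) (X τ) ≠ 0 := by
  intro h0
  have h1 := congrArg (evA K τ) h0
  rw [evA_mk, map_zero, ← det_topBlock] at h1
  exact topBlock_det_ne_zero K τ h1

include hd in
/-- Every element of the fraction field of the cone over `X(τ)` which is integral over the
coordinate ring lies in the localization at `X_τ`. -/
theorem integral_mem_away (y : FractionRing (PlRing K d n ⧸ schubertVanishing K d n τ))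
    (hy : IsIntegral (PlRing K d n ⧸ schubertVanishing K d n τ) y) :
    ∃ (a : PlRing K d n ⧸ schubertVanishing K d n τ) (k : ℕ),
      y * (algebraMap (PlRing K d n ⧸ schubertVanishing K d n τ)
        (FractionRing (PlRing K d n ⧸ schubertVanishing K d n τ))
          (Ideal.Quotient.mk (schubertVanishing K d n τ) (X τ))) ^ k =
      algebraMap (PlRing K d n ⧸ schubertVanishing K d n τ)
        (FractionRing (PlRing K d n ⧸ schubertVanishing K d n τ)) a := by
  haveI := isDomain_schubert K hd τ
  obtain ⟨g, hgdef⟩ : ∃ g : (PlRing K d n ⧸ schubertVanishing K d n τ) →+*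
      FractionRing (MvPolynomial (Fin n × Fin d) K), g =
      (algebraMap (MvPolynomial (Fin n × Fin d) K)
        (FractionRing (MvPolynomial (Fin n × Fin d) K))).comp (evA K τ).toRingHom := ⟨_, rfl⟩
  have hgapp : ∀ a, g a = algebraMap (MvPolynomial (Fin n × Fin d) K)
      (FractionRing (MvPolynomial (Fin n × Fin d) K)) (evA K τ a) := by
    intro a; rw [hgdef]; rfl
  have hg : Function.Injective g := by
    rw [hgdef]
    exact (IsFractionRing.injective (MvPolynomial (Fin n × Fin d) K)
      (FractionRing (MvPolynomial (Fin n × Fin d) K))).comp (evA_injective K hd τ)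
  obtain ⟨j, hjdef⟩ : ∃ j : FractionRing (PlRing K d n ⧸ schubertVanishing K d n τ) →+*
      FractionRing (MvPolynomial (Fin n × Fin d) K), j = IsFractionRing.lift hg := ⟨_, rfl⟩
  have hj : ∀ a, j (algebraMap (PlRing K d n ⧸ schubertVanishing K d n τ)
      (FractionRing (PlRing K d n ⧸ schubertVanishing K d n τ)) a) = g a := by
    intro a; rw [hjdef]; exact IsFractionRing.lift_algebraMap hg a
  have hjinj : Function.Injective j := j.injective
  -- `j y` is integral over the polynomial ring
  have h1 : IsIntegral (MvPolynomial (Fin n × Fin d) K) (j y) := by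
    obtain ⟨p, hp1, hp2⟩ := hy
    refine ⟨p.map (evA K τ).toRingHom, hp1.map _, ?_⟩
    rw [Polynomial.eval₂_map]
    have hcomp : (algebraMap (MvPolynomial (Fin n × Fin d) K)
        (FractionRing (MvPolynomial (Fin n × Fin d) K))).comp (evA K τ).toRingHom =
        j.comp (algebraMap (PlRing K d n ⧸ schubertVanishing K d n τ)
          (FractionRing (PlRing K d n ⧸ schubertVanishing K d n τ))) := by
      refine RingHom.ext fun a => ?_
      rw [RingHom.comp_apply, RingHom.comp_apply, hj, hgdef]
      rfl
    rw [hcomp, ← Polynomial.hom_eval₂, hp2, map_zero]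
  obtain ⟨p, hp⟩ := IsIntegrallyClosed.algebraMap_eq_of_integral h1
  obtain ⟨a, b, hb, hab⟩ := IsFractionRing.div_surjective
    (A := PlRing K d n ⧸ schubertVanishing K d n τ) y
  have hb0 : b ≠ 0 := nonZeroDivisors.ne_zero hb
  have hgb0 : g b ≠ 0 := fun h0 => hb0 (hg (by rw [h0, map_zero]))
  -- `p * evA b = evA a`
  have h2 : algebraMap (MvPolynomial (Fin n × Fin d) K)
      (FractionRing (MvPolynomial (Fin n × Fin d) K)) p * g b = g a := by
    rw [hp, ← hab, map_div₀, hj, hj]
    field_simp
  have h3 : p * evA K τ b = evA K τ a := by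
    apply IsFractionRing.injective (MvPolynomial (Fin n × Fin d) K)
      (FractionRing (MvPolynomial (Fin n × Fin d) K))
    rw [map_mul, ← hgapp, ← hgapp]
    exact h2
  -- apply the retraction
  have hrho : ∀ c : PlRing K d n ⧸ schubertVanishing K d n τ,
      rho K hd τ (evA K τ c) = g c := by
    intro c
    obtain ⟨c', rfl⟩ := Ideal.Quotient.mk_surjective c
    rw [hgapp, evA_mk, rho_shapeEval]
  have h4 : rho K hd τ p = algebraMap (MvPolynomial (Fin n × Fin d) K)
      (FractionRing (MvPolynomial (Fin n × Fin d) K)) p := by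
    have h5 := congrArg (rho K hd τ) h3
    rw [map_mul, hrho, hrho, ← h2] at h5
    exact mul_right_cancel₀ hgb0 h5
  obtain ⟨a', k, hak⟩ := (mem_cellAlg K τ _).1 (rho_mem_cellAlg K hd τ p)
  refine ⟨Ideal.Quotient.mk _ a', k, ?_⟩
  apply hjinj
  rw [map_mul, map_pow, hj, hj, hgapp, hgapp, evA_mk, evA_mk, ← hp, ← h4, ← hak, topL_pow,
    map_pow, map_pow]

end Normal

section Final

variable (K : Type u) [Field K] [IsAlgClosed K] (hd : 0 < d) (hdn : d < n) (τ : Idx d n)

include hd hdn in
/-- The cone over a Schubert variety is a normal domain. -/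
theorem schubert_normal :
    IsDomain (PlRing K d n ⧸ schubertVanishing K d n τ) ∧
      IsIntegrallyClosed (PlRing K d n ⧸ schubertVanishing K d n τ) := by
  haveI : Infinite K := inferInstance
  haveI := isDomain_schubert K hd τ
  refine ⟨inferInstance, ?_⟩
  have hrad : (Ideal.span {Ideal.Quotient.mk (schubertVanishing K d n τ) (X τ)}).IsRadical := by
    by_cases hτ : ∃ φ : Idx d n, φ < τ
    · exact span_X_isRadical_of_exists K hd hdn τ hτ
    · exact span_X_isRadical_of_not_exists K τ hτ
  exact NormalCrit.isIntegrallyClosed_of_away _ (mk_X_ne_zero K hd τ) hrad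
    (integral_mem_away K hd τ)

end Final

end Groth.Agent.Lib.helper10.SMT
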