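import Groth.Agent.Lib.Helper10.SMT18
import Groth.Agent.Lib.Helper10.ConeCM1
import Groth.Agent.Lib.Helper10.ConeCM2
import Groth.Agent.S11253

/-!
# Standard monomial theory for the Grassmannian (helper10), part 19: homogeneity of the Schubert
ideals, distributivity, Schubert divisors
-/

set_option autoImplicit false
set_option linter.unusedSectionVars false
set_option linter.style.haveILetI false

universe u

open MvPolynomial W4bk4grassmannian

namespace Groth.Agent.Lib.helper10.SMT

open Groth.Agent.Lib.helper26.Seg Groth.Agent.Lib.helper26.GrCM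

attribute [local instance] MvPolynomial.weightedGradedAlgebra

variable {d n : ℕ}

/-! ### Homogeneity -/

section Homog

variable (K : Type u) [Field K]

theorem neg_one_pow_mul_mem {N : ℤ} (e : ℕ) {f : PlRing K d n}
    (hf : f ∈ stdGr K (Idx d n) N) : (-1 : PlRing K d n) ^ e * f ∈ stdGr K (Idx d n) N := by
  have h1 : (-1 : PlRing K d n) ^ e * f = ((-1 : K) ^ e) • f := by
    rw [MvPolynomial.smul_eq_C_mul, map_pow, map_neg, map_one]
  rw [h1]
  exact Submodule.smul_mem _ _ hf

theorem coord_mem_stdGr (a : Fin d → Fin n) : coord K d n a ∈ stdGr K (Idx d n) 1 := by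
  unfold coord
  split_ifs with h
  · exact neg_one_pow_mul_mem K _ (X_mem_stdGr _)
  · exact Submodule.zero_mem _

theorem shuffleTerm_mem_stdGr (i j : Idx d n) (r : Fin d) (A : Finset (Fin (d + 1))) :
    shuffleTerm K i j r A ∈ stdGr K (Idx d n) 2 := by
  unfold shuffleTerm
  split_ifs with hA
  · rw [mul_assoc]
    apply neg_one_pow_mul_mem
    have h2 : (2 : ℤ) = 1 + 1 := rfl
    rw [h2]
    exact SetLike.GradedMul.mul_mem (coord_mem_stdGr K _) (coord_mem_stdGr K _)
  · exact Submodule.zero_mem _

theorem shuffleRel_mem_stdGr (i j : Idx d n) (r : Fin d) :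
    shuffleRel K i j r ∈ stdGr K (Idx d n) 2 := by
  unfold shuffleRel
  exact Submodule.sum_mem _ fun A _ => shuffleTerm_mem_stdGr K i j r A

theorem plIdeal_isHomogeneous (τ : Idx d n) :
    (plIdeal K τ).IsHomogeneous (stdGr K (Idx d n)) := by
  unfold plIdeal
  apply Ideal.homogeneous_span
  rintro f (⟨i, j, r, -, rfl⟩ | ⟨φ, -, rfl⟩)
  · exact ⟨2, shuffleRel_mem_stdGr K i j r⟩
  · exact ⟨1, X_mem_stdGr φ⟩

theorem X_mem_irr (θ : Idx d n) : (X θ : PlRing K d n) ∈ irr (stdGr K (Idx d n)) :=
  mem_irr_of_mem _ one_pos (X_mem_stdGr θ)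

variable [Infinite K] (hd : 0 < d)

include hd in
theorem schubertVanishing_isHomogeneous (τ : Idx d n) :
    (schubertVanishing K d n τ).IsHomogeneous (stdGr K (Idx d n)) := by
  rw [← plIdeal_eq_schubertVanishing K hd τ]
  exact plIdeal_isHomogeneous K τ

include hd in
theorem finsetInf_isHomogeneous (D : Finset (Idx d n)) :
    (D.inf fun a => schubertVanishing K d n a).IsHomogeneous (stdGr K (Idx d n)) := by
  apply Finset.inf_induction
  · exact Ideal.IsHomogeneous.top _
  · intro a ha b hb
    exact ha.inf hb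
  · intro a _
    exact schubertVanishing_isHomogeneous K hd a

end Homog

/-! ### Distributivity -/

section Distrib

variable (K : Type u) [Field K] [Infinite K] (hd : 0 < d)

include hd in
theorem finsetInf_sup (D : Finset (Idx d n)) (φ : Idx d n) :
    (D.inf fun a => schubertVanishing K d n a) ⊔ schubertVanishing K d n φ =
      D.inf fun a => schubertVanishing K d n (W4bk4grassmannian.inf a φ) := by
  classical
  have hle : (D.inf fun a => schubertVanishing K d n a) ⊔ schubertVanishing K d n φ ≤
      D.inf fun a => schubertVanishing K d n (W4bk4grassmannian.inf a φ) := by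
    apply sup_le
    · apply Finset.le_inf
      intro a ha
      exact le_trans (Finset.inf_le ha) (schubertVanishing_mono K (fun t => min_le_left _ _))
    · apply Finset.le_inf
      intro a _
      exact schubertVanishing_mono K (fun t => min_le_right _ _)
  apply le_antisymm hle
  rcases D.eq_empty_or_nonempty with rfl | hDne
  · rw [Finset.inf_empty, Finset.inf_empty, top_sup_eq]
  intro f hf
  obtain ⟨g, hg, hfg⟩ := std_span_general K
    ((D.inf fun a => schubertVanishing K d n a) ⊔ schubertVanishing K d n φ)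
    (le_trans (plIdealTop_le_schubertVanishing K φ) le_sup_right)
    (fun c => ∃ a ∈ D, ∀ k, c.2.1 k ≤ W4bk4grassmannian.inf a φ)
    (by
      intro c hc
      push Not at hc
      obtain ⟨m, c, hcanti⟩ := c
      cases m with
      | zero =>
        obtain ⟨a, ha⟩ := hDne
        obtain ⟨k, -⟩ := hc a ha
        exact k.elim0
      | succ m =>
        have h0 : ∀ a ∈ D, ¬ c 0 ≤ W4bk4grassmannian.inf a φ := by
          intro a ha hle0
          obtain ⟨k, hk⟩ := hc a ha
          exact hk (le_trans (hcanti (Fin.zero_le k)) hle0)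
        by_cases hφ : c 0 ≤ φ
        · apply Ideal.mem_sup_left
          rw [Submodule.mem_finsetInf]
          intro a ha
          apply chainMon_mem_of_not_le K a c 0
          intro hca
          exact h0 a ha (fun t => le_min (hca t) (hφ t))
        · exact Ideal.mem_sup_right (chainMon_mem_of_not_le K φ c 0 hφ)) f
  have hgJ : g ∈ D.inf fun a => schubertVanishing K d n (W4bk4grassmannian.inf a φ) := by
    have h1 : g = f - (f - g) := by ring
    rw [h1]
    exact Ideal.sub_mem _ hf (hle hfg)
  rw [Finsupp.mem_span_image_iff_linearCombination] at hg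
  obtain ⟨l, hl, hlg⟩ := hg
  rw [Finsupp.linearCombination_apply, Finsupp.sum] at hlg
  have hzero := std_independent_union K hd
    (fun a : {a // a ∈ D} => W4bk4grassmannian.inf a.1 φ) (fun c : Chains d n => c)
    (fun _ _ h => h) l.support l
    (by
      intro c hc
      obtain ⟨a, ha, hk⟩ := (Finsupp.mem_supported K l).1 hl hc
      exact ⟨⟨a, ha⟩, hk⟩)
    (by
      rw [hlg, Ideal.mem_iInf]
      intro a
      rw [Submodule.mem_finsetInf] at hgJ
      exact hgJ a.1 a.2)
  have hl0 : l = 0 := by
    ext c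
    by_cases hc : c ∈ l.support
    · exact hzero c hc
    · exact Finsupp.notMem_support_iff.1 hc
  rw [hl0] at hlg
  simp only [Finsupp.support_zero, Finset.sum_empty] at hlg
  have : f = f - g := by rw [← hlg, sub_zero]
  rw [this]
  exact hfg

end Distrib

/-! ### Schubert divisors -/

section Divisors

theorem wt_eq_codeg_add (w : Idx d n) : wt w.1 = codeg w + ∑ t : Fin d, t.val := by
  unfold wt codeg
  rw [← Finset.sum_add_distrib]
  apply Finset.sum_congr rfl
  intro t _
  exact (Nat.sub_add_cancel (val_le_idx w t)).symm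

theorem wt_le_of_le {a b : Idx d n} (h : a ≤ b) : wt a.1 ≤ wt b.1 := by
  rcases eq_or_lt_of_le h with rfl | hlt
  · exact le_rfl
  · exact (wt_lt_of_lt hlt).le

theorem eq_of_le_of_wt_eq {a b : Idx d n} (h : a ≤ b) (hw : wt a.1 = wt b.1) : a = b := by
  rcases eq_or_lt_of_le h with heq | hlt
  · exact heq
  · exact absurd hw (wt_lt_of_lt hlt).ne

theorem mem_divisors_iff_wt (φ τ : Idx d n) : φ ∈ divisors τ ↔ φ ≤ τ ∧ wt φ.1 + 1 = wt τ.1 := by
  change (φ < τ ∧ codeg φ + 1 = codeg τ) ↔ _
  rw [wt_eq_codeg_add, wt_eq_codeg_add]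
  constructor
  · rintro ⟨h1, h2⟩
    exact ⟨h1.le, by omega⟩
  · rintro ⟨h1, h2⟩
    refine ⟨lt_of_le_of_ne h1 ?_, by omega⟩
    rintro rfl
    omega

/-- Two distinct Schubert divisors of `τ` meet in a Schubert divisor of each of them. -/
theorem inf_mem_divisors {τ φ φ' : Idx d n} (hφ : φ ∈ divisors τ) (hφ' : φ' ∈ divisors τ)
    (hne : φ' ≠ φ) : W4bk4grassmannian.inf φ' φ ∈ divisors φ := by
  rw [mem_divisors_iff_wt] at hφ hφ' ⊢
  have h1 : W4bk4grassmannian.inf φ' φ ≤ φ := fun t => min_le_right _ _
  refine ⟨h1, ?_⟩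
  have h2 : W4bk4grassmannian.sup φ' φ ≤ τ := fun t => max_le (hφ'.1 t) (hφ.1 t)
  have h3 : ¬ φ ≤ φ' := by
    intro hle
    exact hne (eq_of_le_of_wt_eq hle (by omega)).symm
  have h4 := wt_lt_of_lt (lt_sup_of_not_le φ' φ h3)
  have h5 := wt_le_of_le h2
  have h6 := wt_sup_add_inf φ' φ
  omega

end Divisors

end Groth.Agent.Lib.helper10.SMT
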