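import Groth.Agent.Lib.Helper10.SMT1

/-!
# Standard monomial theory for the Grassmannian (helper10), part 2: the weights of the terms of a
shuffle relation
-/

set_option autoImplicit false
set_option linter.unusedSectionVars false
set_option linter.style.haveILetI false

universe u

open MvPolynomial W4bk4grassmannian

namespace Groth.Agent.Lib.helper10.SMT

variable {d n : ℕ}

theorem val_le_of_strictMono {m m' : ℕ} (f : Fin m → Fin m') (hf : StrictMono f) (u : Fin m) :
    u.val ≤ (f u).val := by
  obtain ⟨k, hk⟩ := u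
  induction k with
  | zero => exact Nat.zero_le _
  | succ k ih =>
    have h1 := ih (by omega)
    have h2 : (⟨k, by omega⟩ : Fin m) < ⟨k + 1, hk⟩ := by
      rw [Fin.lt_def]; simp
    have h3 := hf h2
    rw [Fin.lt_def] at h3
    simp only at h1 ⊢
    omega

theorem movingRows_of_le (i j : Idx d n) (r : Fin d) (k : Fin (d + 1)) (h : k.val ≤ r.val) :
    movingRows i j r k = i.1 ⟨k.val, lt_of_le_of_lt h r.isLt⟩ := by
  unfold movingRows
  rw [dif_pos h]

theorem movingRows_of_lt (i j : Idx d n) (r : Fin d) (k : Fin (d + 1)) (h : r.val < k.val) :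
    movingRows i j r k = j.1 ⟨k.val - 1, by have := k.isLt; omega⟩ := by
  unfold movingRows
  rw [dif_neg (by omega)]

theorem movingRows_strictMono {i j : Idx d n} {r : Fin d} (hp : i.1 r < j.1 r) :
    StrictMono (movingRows i j r) := by
  intro k k' hkk'
  rw [Fin.lt_def] at hkk'
  by_cases h1 : k.val ≤ r.val
  · by_cases h2 : k'.val ≤ r.val
    · rw [movingRows_of_le _ _ _ _ h1, movingRows_of_le _ _ _ _ h2]
      apply i.2
      rw [Fin.lt_def]; exact hkk'
    · rw [movingRows_of_le _ _ _ _ h1, movingRows_of_lt _ _ _ _ (by omega)]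
      have h3 : i.1 ⟨k.val, lt_of_le_of_lt h1 r.isLt⟩ ≤ i.1 r := by
        apply i.2.monotone
        rw [Fin.le_def]; exact h1
      have h4 : j.1 r ≤ j.1 ⟨k'.val - 1, by have := k'.isLt; omega⟩ := by
        apply j.2.monotone
        rw [Fin.le_def]; simp only; omega
      exact lt_of_le_of_lt h3 (lt_of_lt_of_le hp h4)
  · rw [movingRows_of_lt _ _ _ _ (by omega), movingRows_of_lt _ _ _ _ (by omega)]
    apply j.2
    rw [Fin.lt_def]; simp only; omega

/-- The initial segment `{0, …, r}` of the positions. -/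
def initSeg (r : Fin d) : Finset (Fin (d + 1)) := Finset.univ.filter fun k => k.val ≤ r.val

theorem initSeg_emb (r : Fin d) (h : (initSeg r).card = r.val + 1) (u : Fin (r.val + 1)) :
    (initSeg r).orderEmbOfFin h u = ⟨u.val, by have := u.isLt; have := r.isLt; omega⟩ := by
  have key := Finset.orderEmbOfFin_unique h
    (f := fun u : Fin (r.val + 1) => (⟨u.val, by have := u.isLt; have := r.isLt; omega⟩ : Fin (d + 1)))
    (by
      intro x
      unfold initSeg
      rw [Finset.mem_filter]
      exact ⟨Finset.mem_univ _, by have := x.isLt; simp only; omega⟩)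
    (by
      intro x y hxy
      rw [Fin.lt_def] at hxy ⊢
      exact hxy)
  exact (congrFun key u).symm

theorem card_initSeg (r : Fin d) : (initSeg r).card = r.val + 1 := by
  have h : initSeg r = Finset.univ.map
      (⟨fun u : Fin (r.val + 1) => (⟨u.val, by have := u.isLt; have := r.isLt; omega⟩ : Fin (d + 1)),
        fun x y hxy => by
          apply Fin.ext
          have := congrArg Fin.val hxy
          simpa using this⟩ : Fin (r.val + 1) ↪ Fin (d + 1)) := by
    ext k
    unfold initSeg
    simp only [Finset.mem_filter, Finset.mem_univ, true_and, Finset.mem_map,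
      Function.Embedding.coeFn_mk]
    constructor
    · intro hk
      exact ⟨⟨k.val, by omega⟩, Fin.ext rfl⟩
    · rintro ⟨u, rfl⟩
      have := u.isLt
      simp only
      omega
  rw [h, Finset.card_map, Finset.card_univ, Fintype.card_fin]

theorem eq_initSeg_of_emb {r : Fin d} {A : Finset (Fin (d + 1))} (hA : A.card = r.val + 1)
    (h : ∀ u : Fin (r.val + 1), (A.orderEmbOfFin hA u).val = u.val) : A = initSeg r := by
  have h1 := Finset.range_orderEmbOfFin A hA
  have h2 := Finset.range_orderEmbOfFin (initSeg r) (card_initSeg r)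
  apply Finset.coe_injective
  rw [← h1, ← h2]
  congr 1
  funext u
  rw [initSeg_emb]
  exact Fin.ext (h u)

section Weights

variable (i j : Idx d n) (r : Fin d)

theorem sum_emb (A : Finset (Fin (d + 1))) {m : ℕ} (hA : A.card = m) (f : Fin (d + 1) → ℕ) :
    ∑ u, f (A.orderEmbOfFin hA u) = ∑ a ∈ A, f a := by
  conv_rhs => rw [← Finset.map_orderEmbOfFin_univ A hA]
  rw [Finset.sum_map]
  rfl

theorem wt_shuffleI (A : Finset (Fin (d + 1))) (hA : A.card = r.val + 1) :
    wt (shuffleI i j r A hA) = ∑ a ∈ A, (movingRows i j r a : ℕ) +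
      ∑ t ∈ Finset.univ.filter (fun t : Fin d => r.val < t.val), (i.1 t : ℕ) := by
  unfold wt shuffleI
  have h1 : ∀ t : Fin d, ((if h : t.val ≤ r.val then
      movingRows i j r (A.orderEmbOfFin hA ⟨t.val, by omega⟩) else i.1 t : Fin n) : ℕ) =
      if h : t.val ≤ r.val then
        (fun u : Fin (r.val + 1) => (movingRows i j r (A.orderEmbOfFin hA u) : ℕ)) ⟨t.val, by omega⟩
      else (fun t : Fin d => (i.1 t : ℕ)) t := by
    intro t
    split_ifs <;> rfl
  simp_rw [h1]
  rw [sum_dite_le r.val r.isLt (fun u : Fin (r.val + 1) =>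
    (movingRows i j r (A.orderEmbOfFin hA u) : ℕ)) (fun t : Fin d => (i.1 t : ℕ)),
    sum_emb A hA (fun a => (movingRows i j r a : ℕ))]

theorem wt_shuffleJ (A : Finset (Fin (d + 1))) (hA : A.card = r.val + 1) :
    wt (shuffleJ i j r A hA) =
      ∑ t ∈ Finset.univ.filter (fun t : Fin d => t.val < r.val), (j.1 t : ℕ) +
        ∑ a ∈ Aᶜ, (movingRows i j r a : ℕ) := by
  have hC : Aᶜ.card = d - r.val := by
    rw [Finset.card_compl, hA, Fintype.card_fin]; omega
  unfold wt shuffleJ
  have h1 : ∀ t : Fin d, ((if h : t.val < r.val then j.1 t else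
      movingRows i j r (Aᶜ.orderEmbOfFin hC ⟨t.val - r.val, by have := t.isLt; omega⟩) : Fin n) : ℕ) =
      if _h : t.val < r.val then (fun t : Fin d => (j.1 t : ℕ)) t
      else (fun u : Fin (d - r.val) => (movingRows i j r (Aᶜ.orderEmbOfFin hC u) : ℕ))
        ⟨t.val - r.val, by have := t.isLt; omega⟩ := by
    intro t
    split_ifs <;> rfl
  simp_rw [h1]
  rw [sum_dite_lt r.val r.isLt.le (fun u : Fin (d - r.val) =>
    (movingRows i j r (Aᶜ.orderEmbOfFin hC u) : ℕ)) (fun t : Fin d => (j.1 t : ℕ)),
    sum_emb Aᶜ hC (fun a => (movingRows i j r a : ℕ))]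

theorem wt_split_le : wt i.1 = ∑ u : Fin (r.val + 1),
      (i.1 ⟨u.val, by have := u.isLt; have := r.isLt; omega⟩ : ℕ) +
      ∑ t ∈ Finset.univ.filter (fun t : Fin d => r.val < t.val), (i.1 t : ℕ) := by
  rw [← sum_dite_le r.val r.isLt (fun u : Fin (r.val + 1) =>
    (i.1 ⟨u.val, by have := u.isLt; have := r.isLt; omega⟩ : ℕ)) (fun t : Fin d => (i.1 t : ℕ))]
  unfold wt
  apply Finset.sum_congr rfl
  intro t _
  split_ifs <;> rfl

theorem wt_split_lt : wt j.1 =
      ∑ t ∈ Finset.univ.filter (fun t : Fin d => t.val < r.val), (j.1 t : ℕ) +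
      ∑ u : Fin (d - r.val), (j.1 ⟨u.val + r.val, by have := u.isLt; omega⟩ : ℕ) := by
  rw [← sum_dite_lt r.val r.isLt.le (fun u : Fin (d - r.val) =>
    (j.1 ⟨u.val + r.val, by have := u.isLt; omega⟩ : ℕ)) (fun t : Fin d => (j.1 t : ℕ))]
  unfold wt
  apply Finset.sum_congr rfl
  intro t _
  split_ifs with h
  · rfl
  · exact congrArg (fun x : Fin d => ((j.1 x : Fin n) : ℕ)) (Fin.ext (by simp only; omega))

theorem sum_movingRows : ∑ k : Fin (d + 1), (movingRows i j r k : ℕ) =
      ∑ u : Fin (r.val + 1), (i.1 ⟨u.val, by have := u.isLt; have := r.isLt; omega⟩ : ℕ) +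
      ∑ u : Fin (d - r.val), (j.1 ⟨u.val + r.val, by have := u.isLt; omega⟩ : ℕ) := by
  have hd : 0 < d := Fin.pos r
  have h1 : ∀ k : Fin (d + 1), (movingRows i j r k : ℕ) =
      if h : k.val ≤ r.val then (i.1 ⟨k.val, by omega⟩ : ℕ)
      else (j.1 ⟨k.val - 1, by have := k.isLt; omega⟩ : ℕ) := by
    intro k
    unfold movingRows
    split_ifs <;> rfl
  simp_rw [h1]
  rw [sum_dite_le r.val (by have := r.isLt; omega) (fun u : Fin (r.val + 1) =>
    (i.1 ⟨u.val, by have := u.isLt; have := r.isLt; omega⟩ : ℕ))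
    (fun k : Fin (d + 1) => (j.1 ⟨k.val - 1, by have := k.isLt; omega⟩ : ℕ))]
  congr 1
  symm
  apply Finset.sum_bij (fun (u : Fin (d - r.val)) _ =>
    (⟨u.val + r.val + 1, by have := u.isLt; omega⟩ : Fin (d + 1)))
  · intro u _
    rw [Finset.mem_filter]
    exact ⟨Finset.mem_univ _, by simp only; omega⟩
  · intro u _ u' _ h
    apply Fin.ext
    have := congrArg Fin.val h
    simp only at this
    omega
  · intro k hk
    rw [Finset.mem_filter] at hk
    exact ⟨⟨k.val - r.val - 1, by have := k.isLt; omega⟩, Finset.mem_univ _,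
      Fin.ext (by simp only; omega)⟩
  · intro u _
    congr 2

/-- The shuffle preserves the total weight. -/
theorem wt_shuffle_add (A : Finset (Fin (d + 1))) (hA : A.card = r.val + 1) :
    wt (shuffleI i j r A hA) + wt (shuffleJ i j r A hA) = wt i.1 + wt j.1 := by
  rw [wt_shuffleI, wt_shuffleJ, wt_split_le i r, wt_split_lt j r]
  have h1 := Finset.sum_add_sum_compl A (fun a => (movingRows i j r a : ℕ))
  have h2 := sum_movingRows i j r
  omega

/-- A nontrivial shuffle strictly increases the weight of the first factor. -/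
theorem wt_shuffleI_gt (hp : i.1 r < j.1 r) (A : Finset (Fin (d + 1))) (hA : A.card = r.val + 1)
    (hne : A ≠ initSeg r) : wt i.1 < wt (shuffleI i j r A hA) := by
  rw [wt_shuffleI, wt_split_le i r]
  apply Nat.add_lt_add_right
  rw [← sum_emb A hA (fun a => (movingRows i j r a : ℕ))]
  have hmono := movingRows_strictMono (i := i) (j := j) (r := r) hp
  have hle : ∀ u : Fin (r.val + 1),
      (i.1 ⟨u.val, by have := u.isLt; have := r.isLt; omega⟩ : ℕ) ≤
        (movingRows i j r (A.orderEmbOfFin hA u) : ℕ) := by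
    intro u
    have h1 := val_le_of_strictMono _ (A.orderEmbOfFin hA).strictMono u
    have h2 : (⟨u.val, by have := u.isLt; have := r.isLt; omega⟩ : Fin (d + 1)) ≤
        A.orderEmbOfFin hA u := by
      rw [Fin.le_def]; exact h1
    have h3 := hmono.monotone h2
    rw [movingRows_of_le _ _ _ _ (by have := u.isLt; simp only; omega)] at h3
    exact_mod_cast h3
  obtain ⟨u₀, hu₀⟩ : ∃ u : Fin (r.val + 1), (A.orderEmbOfFin hA u).val ≠ u.val := by
    by_contra hcon
    push Not at hcon
    exact hne (eq_initSeg_of_emb hA hcon)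
  apply Finset.sum_lt_sum (fun u _ => hle u)
  refine ⟨u₀, Finset.mem_univ _, ?_⟩
  have h1 := val_le_of_strictMono _ (A.orderEmbOfFin hA).strictMono u₀
  have h2 : (⟨u₀.val, by have := u₀.isLt; have := r.isLt; omega⟩ : Fin (d + 1)) <
      A.orderEmbOfFin hA u₀ := by
    rw [Fin.lt_def]
    simp only
    omega
  have h3 := hmono h2
  rw [movingRows_of_le _ _ _ _ (by have := u₀.isLt; simp only; omega)] at h3
  exact_mod_cast h3

/-- The identity shuffle. -/
theorem shuffleI_initSeg (h : (initSeg r).card = r.val + 1) :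
    shuffleI i j r (initSeg r) h = i.1 := by
  funext t
  unfold shuffleI
  split_ifs with h1
  · rw [initSeg_emb, movingRows_of_le _ _ _ _ (by simp only; exact h1)]
  · rfl

theorem compl_initSeg_emb (hC : (initSeg r)ᶜ.card = d - r.val) (u : Fin (d - r.val)) :
    (initSeg r)ᶜ.orderEmbOfFin hC u = ⟨u.val + r.val + 1, by have := u.isLt; omega⟩ := by
  have key := Finset.orderEmbOfFin_unique hC
    (f := fun u : Fin (d - r.val) => (⟨u.val + r.val + 1, by have := u.isLt; omega⟩ : Fin (d + 1)))
    (by
      intro x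
      unfold initSeg
      rw [Finset.mem_compl, Finset.mem_filter]
      simp only [Finset.mem_univ, true_and, not_le]
      omega)
    (by
      intro x y hxy
      rw [Fin.lt_def] at hxy ⊢
      simp only
      omega)
  exact (congrFun key u).symm

theorem shuffleJ_initSeg (h : (initSeg r).card = r.val + 1) :
    shuffleJ i j r (initSeg r) h = j.1 := by
  funext t
  unfold shuffleJ
  split_ifs with h1
  · rfl
  · rw [compl_initSeg_emb, movingRows_of_lt _ _ _ _ (by simp only; omega)]
    exact congrArg (fun x : Fin d => j.1 x) (Fin.ext (by simp only; omega))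

end Weights

end Groth.Agent.Lib.helper10.SMT
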