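import Groth.Agent.Lib.Helper10.SMT19

/-!
# Standard monomial theory for the Grassmannian (helper10), part 20: the cones over Schubert
varieties and over unions of Schubert divisors are Cohen–Macaulay
-/

set_option autoImplicit false
set_option linter.unusedSectionVars false
set_option linter.style.haveILetI false

universe u

open MvPolynomial W4bk4grassmannian

namespace Groth.Agent.Lib.helper10.SMT

open Groth.Agent.Lib.helper26.Seg Groth.Agent.Lib.helper26.GrCM Groth.Agent.Lib.helper10.ConeCM

attribute [local instance] MvPolynomial.weightedGradedAlgebra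

variable {d n : ℕ}

section Depth

variable (K : Type u) [Field K] [IsAlgClosed K] (hd : 0 < d) (hdn : d < n)

include hd in
theorem X_regular (τ : Idx d n) (f : PlRing K d n)
    (h : X τ * f ∈ schubertVanishing K d n τ) : f ∈ schubertVanishing K d n τ := by
  haveI : Infinite K := inferInstance
  haveI := isDomain_schubert K hd τ
  have hp : (schubertVanishing K d n τ).IsPrime :=
    (Ideal.Quotient.isDomain_iff_prime _).1 inferInstance
  rcases hp.mem_or_mem h with h1 | h1
  · exact absurd (Ideal.Quotient.eq_zero_iff_mem.2 h1) (mk_X_ne_zero K hd τ)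
  · exact h1

include hd in
theorem depth_X (τ : Idx d n) :
    dp (irr (stdGr K (Idx d n))) (schubertVanishing K d n τ ⊔ Ideal.span {X τ}) + 1 =
      dp (irr (stdGr K (Idx d n))) (schubertVanishing K d n τ) :=
  dp_sup_span _ _ _ (X_mem_irr K τ) (X_regular K hd τ)

include hd hdn in
theorem sup_span_eq_finsetInf (τ : Idx d n) (hτ : ∃ φ : Idx d n, φ < τ) :
    ∃ D : Finset (Idx d n), D.Nonempty ∧ (∀ a ∈ D, a ∈ divisors τ) ∧
      schubertVanishing K d n τ ⊔ Ideal.span {X τ} = D.inf fun a => schubertVanishing K d n a := by
  classical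
  refine ⟨Finset.univ.filter fun a => a ∈ divisors τ, ?_, ?_, ?_⟩
  · obtain ⟨φ₀, hφ₀⟩ := hτ
    obtain ⟨φ, hφ, -⟩ := Groth.Agent.S11268.result d n φ₀ τ hφ₀
    exact ⟨φ, Finset.mem_filter.2 ⟨Finset.mem_univ _, hφ⟩⟩
  · intro a ha
    exact (Finset.mem_filter.1 ha).2
  · rw [Groth.Agent.S11254.result K d n hd hdn τ hτ, Finset.inf_eq_iInf]
    apply iInf_congr
    intro a
    exact iInf_congr_Prop
      ⟨fun h => Finset.mem_filter.2 ⟨Finset.mem_univ _, h⟩, fun h => (Finset.mem_filter.1 h).2⟩
      (fun _ => rfl)

include hd hdn in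
theorem depth_main : ∀ (c : ℕ) (τ : Idx d n), codeg τ = c →
    (∀ D : Finset (Idx d n), D.Nonempty → (∀ a ∈ D, a ∈ divisors τ) →
      (c : ℕ∞) ≤ dp (irr (stdGr K (Idx d n))) (D.inf fun a => schubertVanishing K d n a)) ∧
    ((c + 1 : ℕ) : ℕ∞) ≤ dp (irr (stdGr K (Idx d n))) (schubertVanishing K d n τ) := by
  haveI : Infinite K := inferInstance
  intro c
  induction c using Nat.strong_induction_on with
  | _ c IH =>
    intro τ hτc
    have hdiv : ∀ a ∈ divisors τ, (c : ℕ∞) ≤
        dp (irr (stdGr K (Idx d n))) (schubertVanishing K d n a) ∧ codeg a < c ∧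
          codeg a + 1 = c := by
      intro a ha
      have h1 : codeg a + 1 = c := by rw [← hτc]; exact ha.2
      refine ⟨?_, by omega, h1⟩
      have h2 := (IH (codeg a) (by omega) a rfl).2
      rw [h1] at h2
      exact h2
    have partB : ∀ D : Finset (Idx d n), D.Nonempty → (∀ a ∈ D, a ∈ divisors τ) →
        (c : ℕ∞) ≤ dp (irr (stdGr K (Idx d n))) (D.inf fun a => schubertVanishing K d n a) := by
      intro D hD
      induction hD using Finset.Nonempty.cons_induction with
      | singleton a =>
        intro ha
        rw [Finset.inf_singleton]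
        exact (hdiv a (ha a (Finset.mem_singleton_self a))).1
      | cons a s has hs ih =>
        intro hall
        have ha : a ∈ divisors τ := hall a (Finset.mem_cons_self a s)
        have hs' : ∀ b ∈ s, b ∈ divisors τ := fun b hb => hall b (Finset.mem_cons_of_mem hb)
        rw [Finset.inf_cons]
        refine le_trans ?_ (dp_inf _ _ _)
        refine le_min (le_min (hdiv a ha).1 (ih hs')) ?_
        rw [sup_comm, finsetInf_sup K hd s a]
        have himg : (s.inf fun b => schubertVanishing K d n (W4bk4grassmannian.inf b a)) =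
            (s.image fun b => W4bk4grassmannian.inf b a).inf
              fun b => schubertVanishing K d n b := by
          classical
          rw [Finset.inf_image]
          rfl
        rw [himg]
        obtain ⟨-, hlt, hca⟩ := hdiv a ha
        have h3 := (IH (codeg a) hlt a rfl).1 (s.image fun b => W4bk4grassmannian.inf b a)
          (by classical exact hs.image _) (by
            classical
            intro b hb
            obtain ⟨b', hb', rfl⟩ := Finset.mem_image.1 hb
            apply inf_mem_divisors ha (hs' b' hb')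
            rintro rfl
            exact has hb')
        have h4 : (c : ℕ∞) = ((codeg a : ℕ) : ℕ∞) + 1 := by
          rw [← hca]
          push_cast
          rfl
        rw [h4]
        exact add_le_add_left h3 1
    refine ⟨partB, ?_⟩
    rw [← depth_X K hd τ]
    rcases Nat.eq_zero_or_pos c with hc0 | hcpos
    · subst hc0
      simp
    · obtain ⟨D, hDne, hDdiv, hDeq⟩ := sup_span_eq_finsetInf K hd hdn τ
        (exists_lt_of_codeg_pos τ (by omega))
      rw [hDeq]
      have h5 := partB D hDne hDdiv
      have h6 : ((c + 1 : ℕ) : ℕ∞) = (c : ℕ∞) + 1 := by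
        push_cast
        rfl
      rw [h6]
      exact add_le_add_left h5 1

end Depth

section Final

variable (K : Type u) [Field K] [IsAlgClosed K] (hd : 0 < d) (hdn : d < n)

include hd in
theorem schubertVanishing_ne_top (τ : Idx d n) : schubertVanishing K d n τ ≠ ⊤ := by
  haveI : Infinite K := inferInstance
  haveI := isDomain_schubert K hd τ
  exact Ideal.Quotient.nontrivial_iff.1 inferInstance

include hd hdn in
/-- The cone over a Schubert variety is Cohen–Macaulay. -/
theorem isCohenMacaulayRing_schubert (τ : Idx d n) :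
    LocCoh.IsCohenMacaulayRing (PlRing K d n ⧸ schubertVanishing K d n τ) := by
  haveI : Infinite K := inferInstance
  exact isCohenMacaulayRing_quotient_of_le_idealDepth (stdGr K (Idx d n))
    ⟨schubertVanishing K d n τ, schubertVanishing_isHomogeneous K hd τ⟩
    stdGr_eq_bot stdGr_zero (schubertVanishing_ne_top K hd τ) (codeg τ + 1)
    (krullDim_schubert K hd τ) (depth_main K hd hdn (codeg τ) τ rfl).2

include hd in
theorem krullDim_union (τ : Idx d n) (D : Finset (Idx d n)) (hD : D.Nonempty)
    (hDdiv : ∀ a ∈ D, a ∈ divisors τ) :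
    ringKrullDim (PlRing K d n ⧸ D.inf fun a => schubertVanishing K d n a) =
      (((codeg τ : ℕ) : ℕ∞) : WithBot ℕ∞) := by
  haveI : Infinite K := inferInstance
  apply le_antisymm
  · have hle : schubertVanishing K d n τ ≤ D.inf fun a => schubertVanishing K d n a := by
      apply Finset.le_inf
      intro a ha
      exact schubertVanishing_mono K (hDdiv a ha).1.le
    have h1 := ringKrullDim_succ_le_of_surjective (Ideal.Quotient.factor hle)
      (Ideal.Quotient.factor_surjective hle) (mk_X_mem_nonZeroDivisors K hd τ) (by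
        rw [Ideal.Quotient.factor_mk, Ideal.Quotient.eq_zero_iff_mem, Submodule.mem_finsetInf]
        intro a ha
        exact X_mem_schubertVanishing K a τ (not_le_of_gt (hDdiv a ha).1))
    rw [krullDim_schubert K hd τ] at h1
    have h2 : (((codeg τ + 1 : ℕ) : ℕ∞) : WithBot ℕ∞) =
        (((codeg τ : ℕ) : ℕ∞) : WithBot ℕ∞) + 1 := by
      push_cast
      rfl
    rw [h2] at h1
    exact ENat.WithBot.add_le_add_one_right_iff.1 h1
  · obtain ⟨a, ha⟩ := hD
    have hle : (D.inf fun a => schubertVanishing K d n a) ≤ schubertVanishing K d n a :=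
      Finset.inf_le ha
    have h1 := ringKrullDim_le_of_surjective (Ideal.Quotient.factor hle)
      (Ideal.Quotient.factor_surjective hle)
    rw [krullDim_schubert K hd a, (hDdiv a ha).2] at h1
    exact h1

include hd hdn in
/-- The cone over a union of Schubert divisors of a Schubert variety is Cohen–Macaulay. -/
theorem isCohenMacaulayRing_union (τ : Idx d n) (D : Finset (Idx d n)) (hD : D.Nonempty)
    (hDdiv : ∀ a ∈ D, a ∈ divisors τ) :
    LocCoh.IsCohenMacaulayRing (PlRing K d n ⧸ D.inf fun a => schubertVanishing K d n a) := by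
  haveI : Infinite K := inferInstance
  have hne : (D.inf fun a => schubertVanishing K d n a) ≠ ⊤ := by
    obtain ⟨a, ha⟩ := hD
    intro htop
    apply schubertVanishing_ne_top K hd a
    rw [eq_top_iff, ← htop]
    exact Finset.inf_le ha
  exact isCohenMacaulayRing_quotient_of_le_idealDepth (stdGr K (Idx d n))
    ⟨D.inf fun a => schubertVanishing K d n a, finsetInf_isHomogeneous K hd D⟩
    stdGr_eq_bot stdGr_zero hne (codeg τ)
    (krullDim_union K hd τ D hD hDdiv) ((depth_main K hd hdn (codeg τ) τ rfl).1 D hD hDdiv)

include hd hdn in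
theorem isCohenMacaulayRing_iInf (τ : Idx d n) (s : ℕ) (φ : Fin s → Idx d n)
    (hφ : ∀ i, φ i ∈ divisors τ) :
    LocCoh.IsCohenMacaulayRing (PlRing K d n ⧸ ⨅ i, schubertVanishing K d n (φ i)) := by
  classical
  have h1 : (⨅ i, schubertVanishing K d n (φ i)) =
      (Finset.univ.image φ).inf fun a => schubertVanishing K d n a := by
    rw [Finset.inf_image, Finset.inf_univ_eq_iInf]
    rfl
  rcases Nat.eq_zero_or_pos s with rfl | hs
  · have htop : (⨅ i : Fin 0, schubertVanishing K d n (φ i)) = ⊤ := iInf_of_empty _
    rw [htop]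
    haveI : Subsingleton (PlRing K d n ⧸ (⊤ : Ideal (PlRing K d n))) :=
      Ideal.Quotient.subsingleton_iff.2 rfl
    refine @LocCoh.IsCohenMacaulayRing.mk _ _ inferInstance (fun p hp => ?_)
    exact absurd (Subsingleton.elim _ _) hp.ne_top
  · rw [h1]
    apply isCohenMacaulayRing_union K hd hdn τ
    · exact ⟨φ ⟨0, hs⟩, Finset.mem_image_of_mem _ (Finset.mem_univ _)⟩
    · intro a ha
      obtain ⟨i, -, rfl⟩ := Finset.mem_image.1 ha
      exact hφ i

end Final

end Groth.Agent.Lib.helper10.SMT
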