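import Groth.Agent.Lib.Helper10.SMT19

/-!
# Standard monomial theory for the Grassmannian (helper10), part 21: combinatorics of the
Schubert divisors of `τ`
-/

set_option autoImplicit false
set_option linter.unusedSectionVars false
set_option linter.style.haveILetI false

universe u

open MvPolynomial W4bk4grassmannian

namespace Groth.Agent.Lib.helper10.SMT

variable {d n : ℕ}

/-- The positions at which `τ` can be lowered. -/
def IsDesc (τ : Idx d n) (a : Fin d) : Prop :=
  0 < (τ.1 a).val ∧ ∀ a' : Fin d, a'.val + 1 = a.val → (τ.1 a').val + 1 < (τ.1 a).val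

/-- Lowering the entry at a descent position. -/
def lower (τ : Idx d n) (a : Fin d) (h : IsDesc τ a) : Idx d n :=
  ⟨fun t => if t = a then ⟨(τ.1 a).val - 1, by have := (τ.1 a).isLt; omega⟩ else τ.1 t, by
    intro i j hij
    dsimp only
    by_cases hi : i = a
    · by_cases hj : j = a
      · rw [hi, hj] at hij
        exact absurd hij (lt_irrefl _)
      · rw [if_pos hi, if_neg hj, Fin.lt_def]
        have h1 : τ.1 a < τ.1 j := τ.2 (hi ▸ hij)
        rw [Fin.lt_def] at h1
        show (τ.1 a).val - 1 < (τ.1 j).val
        omega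
    · by_cases hj : j = a
      · rw [if_neg hi, if_pos hj, Fin.lt_def]
        show (τ.1 i).val < (τ.1 a).val - 1
        rw [hj] at hij
        have hpos : 0 < a.val := by
          have : i.val < a.val := Fin.lt_def.1 hij
          omega
        have h2 := h.2 ⟨a.val - 1, by have := a.isLt; omega⟩ (by show a.val - 1 + 1 = a.val; omega)
        have h3 : τ.1 i ≤ τ.1 ⟨a.val - 1, by have := a.isLt; omega⟩ := τ.2.monotone (by
          rw [Fin.le_def]
          have : i.val < a.val := Fin.lt_def.1 hij
          show i.val ≤ a.val - 1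
          omega)
        rw [Fin.le_def] at h3
        omega
      · rw [if_neg hi, if_neg hj]
        exact τ.2 hij⟩

theorem lower_apply_self (τ : Idx d n) (a : Fin d) (h : IsDesc τ a) :
    ((lower τ a h).1 a).val = (τ.1 a).val - 1 := by
  unfold lower
  simp

theorem lower_apply_of_ne (τ : Idx d n) (a : Fin d) (h : IsDesc τ a) (t : Fin d) (ht : t ≠ a) :
    (lower τ a h).1 t = τ.1 t := by
  unfold lower
  simp [ht]

theorem lower_mem_divisors (τ : Idx d n) (a : Fin d) (h : IsDesc τ a) :
    lower τ a h ∈ divisors τ := by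
  rw [mem_divisors_iff_wt]
  constructor
  · intro t
    by_cases ht : t = a
    · rw [Fin.le_def, ht, lower_apply_self]
      omega
    · rw [lower_apply_of_ne τ a h t ht]
  · unfold wt
    have h1 : ∀ t : Fin d, (τ.1 t).val = ((lower τ a h).1 t).val + if t = a then 1 else 0 := by
      intro t
      by_cases ht : t = a
      · rw [if_pos ht, ht, lower_apply_self]
        have := h.1
        omega
      · rw [if_neg ht, lower_apply_of_ne τ a h t ht, add_zero]
    rw [Finset.sum_congr rfl (fun t _ => h1 t), Finset.sum_add_distrib,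
      Finset.sum_ite_eq' Finset.univ a (fun _ => 1), if_pos (Finset.mem_univ _)]

theorem lower_injective (τ : Idx d n) (a b : Fin d) (ha : IsDesc τ a) (hb : IsDesc τ b)
    (h : lower τ a ha = lower τ b hb) : a = b := by
  by_contra hne
  have h1 : ((lower τ a ha).1 a).val = ((lower τ b hb).1 a).val := by rw [h]
  rw [lower_apply_self, lower_apply_of_ne τ b hb a hne] at h1
  have := ha.1
  omega

theorem exists_lower_of_mem_divisors (τ φ : Idx d n) (hφ : φ ∈ divisors τ) :
    ∃ (a : Fin d) (h : IsDesc τ a), φ = lower τ a h := by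
  classical
  rw [mem_divisors_iff_wt] at hφ
  obtain ⟨hle, hwt⟩ := hφ
  -- some entry differs
  have hex : ∃ a : Fin d, φ.1 a < τ.1 a := by
    by_contra hcon
    push Not at hcon
    have : φ = τ := le_antisymm hle hcon
    rw [this] at hwt
    omega
  obtain ⟨a, ha⟩ := hex
  rw [Fin.lt_def] at ha
  -- the sums
  have hsum : ∑ t : Fin d, ((τ.1 t).val - (φ.1 t).val) = 1 := by
    have h1 : ∑ t : Fin d, ((τ.1 t).val - (φ.1 t).val) + wt φ.1 = wt τ.1 := by
      unfold wt
      rw [← Finset.sum_add_distrib]
      apply Finset.sum_congr rfl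
      intro t _
      exact Nat.sub_add_cancel (Fin.le_def.1 (hle t))
    omega
  rw [← Finset.add_sum_erase Finset.univ _ (Finset.mem_univ a)] at hsum
  have h2 : (τ.1 a).val - (φ.1 a).val = 1 := by omega
  have h3 : ∑ t ∈ Finset.univ.erase a, ((τ.1 t).val - (φ.1 t).val) = 0 := by omega
  rw [Finset.sum_eq_zero_iff] at h3
  have hoth : ∀ t : Fin d, t ≠ a → φ.1 t = τ.1 t := by
    intro t ht
    have h4 := h3 t (Finset.mem_erase.2 ⟨ht, Finset.mem_univ _⟩)
    have h5 := Fin.le_def.1 (hle t)
    exact Fin.ext (by omega)
  have hdesc : IsDesc τ a := by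
    refine ⟨by omega, ?_⟩
    intro a' ha'
    have hlt : a' < a := by rw [Fin.lt_def]; omega
    have h6 : φ.1 a' < φ.1 a := φ.2 hlt
    rw [Fin.lt_def, hoth a' (ne_of_lt hlt)] at h6
    omega
  refine ⟨a, hdesc, ?_⟩
  apply Subtype.ext
  funext t
  by_cases ht : t = a
  · apply Fin.ext
    rw [ht, lower_apply_self]
    omega
  · rw [lower_apply_of_ne τ a hdesc t ht, hoth t ht]

theorem divisors_subsingleton_iff (τ : Idx d n) :
    (divisors τ).Subsingleton ↔ ∀ a b : Fin d, IsDesc τ a → IsDesc τ b → a = b := by
  constructor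
  · intro hs a b ha hb
    exact lower_injective τ a b ha hb
      (hs (lower_mem_divisors τ a ha) (lower_mem_divisors τ b hb))
  · intro h φ hφ φ' hφ'
    obtain ⟨a, ha, rfl⟩ := exists_lower_of_mem_divisors τ φ hφ
    obtain ⟨b, hb, rfl⟩ := exists_lower_of_mem_divisors τ φ' hφ'
    have hab := h a b ha hb
    subst hab
    rfl

theorem not_isDesc_iff (τ : Idx d n) (t : Fin d) :
    ¬ IsDesc τ t ↔ (τ.1 t).val = 0 ∨ ∃ t' : Fin d, t'.val + 1 = t.val ∧
      (τ.1 t).val ≤ (τ.1 t').val + 1 := by
  unfold IsDesc
  constructor
  · intro h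
    by_cases h0 : (τ.1 t).val = 0
    · exact Or.inl h0
    · right
      by_contra hcon
      push Not at hcon
      exact h ⟨by omega, fun a' ha' => hcon a' ha'⟩
  · rintro (h | ⟨t', ht', hle⟩) ⟨h1, h2⟩
    · omega
    · have := h2 t' ht'
      omega

/-- The combinatorial shape of the `τ` with at most one Schubert divisor. -/
theorem divisors_subsingleton_iff_shape (τ : Idx d n) :
    (divisors τ).Subsingleton ↔
      ∃ s : ℕ, (∀ t : Fin d, t.val < s → (τ.1 t).val = t.val) ∧
        ∀ t t' : Fin d, s ≤ t.val → t.val + 1 = t'.val → (τ.1 t).val + 1 = (τ.1 t').val := by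
  rw [divisors_subsingleton_iff]
  constructor
  · intro h
    -- consecutive entries at non-descent positions
    have hstep : ∀ t t' : Fin d, t.val + 1 = t'.val → ¬ IsDesc τ t' →
        (τ.1 t).val + 1 = (τ.1 t').val := by
      intro t t' htt' hnd
      have hlt : τ.1 t < τ.1 t' := τ.2 (by rw [Fin.lt_def]; omega)
      rw [Fin.lt_def] at hlt
      rcases (not_isDesc_iff τ t').1 hnd with h0 | ⟨t'', ht'', hle⟩
      · omega
      · have : t'' = t := Fin.ext (by omega)
        rw [this] at hle
        omega
    by_cases hex : ∃ a : Fin d, IsDesc τ a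
    · obtain ⟨a, ha⟩ := hex
      refine ⟨a.val, ?_, ?_⟩
      · intro t
        obtain ⟨k, hk⟩ := t
        induction k with
        | zero =>
          intro hta
          have hnd : ¬ IsDesc τ ⟨0, hk⟩ := by
            intro hdesc
            have := h _ _ hdesc ha
            rw [← this] at hta
            exact lt_irrefl _ hta
          rcases (not_isDesc_iff τ ⟨0, hk⟩).1 hnd with h0 | ⟨t'', ht'', -⟩
          · exact h0
          · simp at ht''
        | succ k ih =>
          intro hta
          have hnd : ¬ IsDesc τ ⟨k + 1, hk⟩ := by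
            intro hdesc
            have := h _ _ hdesc ha
            rw [← this] at hta
            exact lt_irrefl _ hta
          have h1 := ih (by omega) (by simp only at hta ⊢; omega)
          have h2 := hstep ⟨k, by omega⟩ ⟨k + 1, hk⟩ rfl hnd
          simp only at h1 h2 ⊢
          omega
      · intro t t' hat htt'
        apply hstep t t' htt'
        intro hdesc
        have := h _ _ hdesc ha
        rw [this] at htt'
        omega
    · push Not at hex
      refine ⟨0, fun t ht => absurd ht (Nat.not_lt_zero _), ?_⟩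
      intro t t' _ htt'
      exact hstep t t' htt' (hex t')
  · rintro ⟨s, hs1, hs2⟩
    have key : ∀ a : Fin d, IsDesc τ a → a.val = s := by
      intro a ha
      by_contra hne
      rcases lt_or_gt_of_ne hne with hlt | hgt
      · have h1 := hs1 a hlt
        have hpos : 0 < a.val := by have := ha.1; omega
        have h2 := ha.2 ⟨a.val - 1, by have := a.isLt; omega⟩ (by show a.val - 1 + 1 = a.val; omega)
        have h3 := hs1 ⟨a.val - 1, by have := a.isLt; omega⟩ (by show a.val - 1 < s; omega)
        simp only at h2 h3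
        omega
      · have h2 := ha.2 ⟨a.val - 1, by have := a.isLt; omega⟩ (by show a.val - 1 + 1 = a.val; omega)
        have h3 := hs2 ⟨a.val - 1, by have := a.isLt; omega⟩ a (by show s ≤ a.val - 1; omega)
          (by show a.val - 1 + 1 = a.val; omega)
        omega
    intro a b ha hb
    exact Fin.ext (by rw [key a ha, key b hb])

end Groth.Agent.Lib.helper10.SMT
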