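import Groth.Agent.Lib.Helper10.SMT21
import Groth.Agent.Lib.Helper10.SMT20

/-!
# Standard monomial theory for the Grassmannian (helper10), part 22: the class of `X_τ` in the
cone over `X(τ)` is prime iff `τ` has at most one Schubert divisor
-/

set_option autoImplicit false
set_option linter.unusedSectionVars false
set_option linter.style.haveILetI false

universe u

open MvPolynomial W4bk4grassmannian

namespace Groth.Agent.Lib.helper10.SMT

variable {d n : ℕ}

section PrimeX

variable (K : Type u) [Field K] [IsAlgClosed K] (hd : 0 < d) (hdn : d < n) (τ : Idx d n)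

theorem span_mk_X_eq_map :
    Ideal.span {Ideal.Quotient.mk (schubertVanishing K d n τ) (X τ)} =
      (schubertVanishing K d n τ ⊔ Ideal.span {X τ}).map
        (Ideal.Quotient.mk (schubertVanishing K d n τ)) := by
  rw [Ideal.map_sup, Ideal.map_quotient_self, bot_sup_eq, Ideal.map_span, Set.image_singleton]

theorem comap_span_mk_X :
    (Ideal.span {Ideal.Quotient.mk (schubertVanishing K d n τ) (X τ)}).comap
      (Ideal.Quotient.mk (schubertVanishing K d n τ)) =
      schubertVanishing K d n τ ⊔ Ideal.span {X τ} := by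
  rw [span_mk_X_eq_map, Ideal.comap_map_of_surjective _ Ideal.Quotient.mk_surjective,
    ← RingHom.ker_eq_comap_bot, Ideal.mk_ker, sup_assoc, sup_comm (Ideal.span {X τ}),
    ← sup_assoc, sup_idem]

theorem isPrime_span_iff :
    (Ideal.span {Ideal.Quotient.mk (schubertVanishing K d n τ) (X τ)}).IsPrime ↔
      (schubertVanishing K d n τ ⊔ Ideal.span {X τ}).IsPrime := by
  constructor
  · intro h
    rw [← comap_span_mk_X]
    exact Ideal.comap_isPrime _ _
  · intro h
    rw [span_mk_X_eq_map]
    apply Ideal.map_isPrime_of_surjective Ideal.Quotient.mk_surjective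
    rw [Ideal.mk_ker]
    exact le_sup_left

include hd in
theorem prime_mk_X_iff :
    Prime (Ideal.Quotient.mk (schubertVanishing K d n τ) (X τ)) ↔
      (schubertVanishing K d n τ ⊔ Ideal.span {X τ}).IsPrime := by
  haveI : Infinite K := inferInstance
  haveI := isDomain_schubert K hd τ
  rw [← isPrime_span_iff, Ideal.span_singleton_prime (mk_X_ne_zero K hd τ)]

include hd in
/-- Modulo the class of `X_τ`, for the zero-dimensional Schubert variety, everything is a
scalar. -/
theorem exists_sub_algebraMap_mem (hτ : ¬ ∃ φ : Idx d n, φ < τ)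
    (y : PlRing K d n ⧸ schubertVanishing K d n τ) : ∃ l : K,
      y - algebraMap K (PlRing K d n ⧸ schubertVanishing K d n τ) l ∈
        Ideal.span {Ideal.Quotient.mk (schubertVanishing K d n τ) (X τ)} := by
  haveI : Infinite K := inferInstance
  obtain ⟨I, hI⟩ : ∃ I, I = Ideal.span {Ideal.Quotient.mk (schubertVanishing K d n τ) (X τ)} :=
    ⟨_, rfl⟩
  rw [← hI]
  have hxI : Ideal.Quotient.mk (schubertVanishing K d n τ) (X τ) ∈ I := by
    rw [hI]; exact Ideal.subset_span rfl
  have hy : y ∈ Submodule.span K (Set.range fun c : CW τ =>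
      Ideal.Quotient.mk (schubertVanishing K d n τ) (chainMon K c.1.2.1)) := span_CW K τ trivial
  induction hy using Submodule.span_induction with
  | mem y hy =>
    obtain ⟨c, rfl⟩ := hy
    beta_reduce
    have hc : ∀ k, c.1.2.1 k = τ := by
      intro k
      exact eq_of_le_of_not_lt (c.2 k) (fun h => hτ ⟨_, h⟩)
    have hmon : chainMon K c.1.2.1 = X τ ^ c.1.1 := by
      unfold chainMon
      simp_rw [hc]
      rw [Finset.prod_const, Finset.card_univ, Fintype.card_fin]
    rw [hmon]
    by_cases hm : c.1.1 = 0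
    · refine ⟨1, ?_⟩
      rw [hm, pow_zero, map_one, map_one, sub_self]
      exact zero_mem _
    · refine ⟨0, ?_⟩
      rw [map_zero, sub_zero, map_pow]
      obtain ⟨e, he⟩ : ∃ e, c.1.1 = e + 1 := ⟨c.1.1 - 1, by omega⟩
      rw [he, pow_succ]
      exact Ideal.mul_mem_left _ _ hxI
  | zero => exact ⟨0, by rw [map_zero, sub_zero]; exact zero_mem _⟩
  | add y z _ _ hy hz =>
    obtain ⟨l₁, h₁⟩ := hy
    obtain ⟨l₂, h₂⟩ := hz
    refine ⟨l₁ + l₂, ?_⟩
    have : y + z - algebraMap K _ (l₁ + l₂) = (y - algebraMap K _ l₁) + (z - algebraMap K _ l₂) := by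
      rw [map_add]; ring
    rw [this]
    exact Ideal.add_mem _ h₁ h₂
  | smul a y _ hy =>
    obtain ⟨l, h₁⟩ := hy
    refine ⟨a * l, ?_⟩
    have hsm : a • y = algebraMap K (PlRing K d n ⧸ schubertVanishing K d n τ) a * y :=
      Algebra.smul_def a y
    have : a • y - algebraMap K _ (a * l) = algebraMap K _ a * (y - algebraMap K _ l) := by
      rw [map_mul, hsm]; ring
    rw [this]
    exact Ideal.mul_mem_left _ _ h₁

include hd in
theorem prime_mk_X_of_not_exists (hτ : ¬ ∃ φ : Idx d n, φ < τ) :
    Prime (Ideal.Quotient.mk (schubertVanishing K d n τ) (X τ)) := by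
  haveI : Infinite K := inferInstance
  haveI := isDomain_schubert K hd τ
  rw [← Ideal.span_singleton_prime (mk_X_ne_zero K hd τ)]
  obtain ⟨I, hI⟩ : ∃ I, I = Ideal.span {Ideal.Quotient.mk (schubertVanishing K d n τ) (X τ)} :=
    ⟨_, rfl⟩
  rw [← hI]
  have hker : I ≤ RingHom.ker (evZero K hd τ) := by
    rw [hI, Ideal.span_le, Set.singleton_subset_iff]
    exact evZero_mk_X K hd τ τ
  have hscal : ∀ l : K, algebraMap K (PlRing K d n ⧸ schubertVanishing K d n τ) l ∈ I → l = 0 := by
    intro l hl
    have h1 := hker hl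
    rw [RingHom.mem_ker] at h1
    have h2 : evZero K hd τ (algebraMap K (PlRing K d n ⧸ schubertVanishing K d n τ) l) = l := by
      have : algebraMap K (PlRing K d n ⧸ schubertVanishing K d n τ) l =
          Ideal.Quotient.mk _ (C l) := rfl
      rw [this]
      unfold evZero
      rw [Ideal.Quotient.lift_mk]
      show evalMinors K d n 0 (C l) = l
      rw [← MvPolynomial.algebraMap_eq, AlgHom.commutes]
      rfl
    rw [h2] at h1
    exact h1
  refine ⟨?_, ?_⟩
  · intro htop
    have h1 : (1 : PlRing K d n ⧸ schubertVanishing K d n τ) ∈ I := by rw [htop]; trivial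
    have h2 := hscal 1 (by rw [map_one]; exact h1)
    exact one_ne_zero h2
  · intro a b hab
    obtain ⟨la, hla⟩ := exists_sub_algebraMap_mem K hd τ hτ a
    obtain ⟨lb, hlb⟩ := exists_sub_algebraMap_mem K hd τ hτ b
    rw [← hI] at hla hlb
    have h1 : algebraMap K (PlRing K d n ⧸ schubertVanishing K d n τ) (la * lb) ∈ I := by
      have : algebraMap K (PlRing K d n ⧸ schubertVanishing K d n τ) (la * lb) =
          a * b - (a - algebraMap K _ la) * b - algebraMap K _ la * (b - algebraMap K _ lb) := by
        rw [map_mul]; ring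
      rw [this]
      exact Ideal.sub_mem _ (Ideal.sub_mem _ hab (Ideal.mul_mem_right _ _ hla))
        (Ideal.mul_mem_left _ _ hlb)
    rcases mul_eq_zero.1 (hscal _ h1) with h | h
    · left
      rw [h, map_zero, sub_zero] at hla
      exact hla
    · right
      rw [h, map_zero, sub_zero] at hlb
      exact hlb

include hd hdn in
/-- The class of `X_τ` is prime iff `τ` has at most one Schubert divisor. -/
theorem prime_mk_X_iff_subsingleton :
    Prime (Ideal.Quotient.mk (schubertVanishing K d n τ) (X τ)) ↔ (divisors τ).Subsingleton := by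
  classical
  haveI : Infinite K := inferInstance
  by_cases hτ : ∃ φ : Idx d n, φ < τ
  · rw [prime_mk_X_iff K hd τ, Groth.Agent.S11254.result K d n hd hdn τ hτ]
    have hinf : (⨅ φ ∈ divisors τ, schubertVanishing K d n φ) =
        (Finset.univ.filter fun a => a ∈ divisors τ).inf fun a => schubertVanishing K d n a := by
      rw [Finset.inf_eq_iInf]
      apply iInf_congr
      intro a
      exact iInf_congr_Prop
        ⟨fun h => Finset.mem_filter.2 ⟨Finset.mem_univ _, h⟩, fun h => (Finset.mem_filter.1 h).2⟩
        (fun _ => rfl)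
    rw [hinf]
    constructor
    · intro hP φ hφ φ' hφ'
      obtain ⟨a, ha, hale⟩ := (Ideal.IsPrime.inf_le' hP).1 (le_refl _)
      have hadiv : a ∈ divisors τ := (Finset.mem_filter.1 ha).2
      have key : ∀ ψ ∈ divisors τ, ψ = a := by
        intro ψ hψ
        have h1 : schubertVanishing K d n a ≤ schubertVanishing K d n ψ :=
          le_trans hale (Finset.inf_le (Finset.mem_filter.2 ⟨Finset.mem_univ _, hψ⟩))
        have h2 : ψ ≤ a := by
          by_contra hnot
          have h3 := h1 (X_mem_schubertVanishing K a ψ hnot)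
          exact mk_X_ne_zero K hd ψ (Ideal.Quotient.eq_zero_iff_mem.2 h3)
        have h4 := (mem_divisors_iff_wt ψ τ).1 hψ
        have h5 := (mem_divisors_iff_wt a τ).1 hadiv
        exact eq_of_le_of_wt_eq h2 (by omega)
      rw [key φ hφ, key φ' hφ']
    · intro hs
      obtain ⟨φ₀, hφ₀⟩ := hτ
      obtain ⟨φ, hφ, -⟩ := Groth.Agent.S11268.result d n φ₀ τ hφ₀
      have hD : (Finset.univ.filter fun a => a ∈ divisors τ) = {φ} := by
        rw [Finset.eq_singleton_iff_unique_mem]
        refine ⟨Finset.mem_filter.2 ⟨Finset.mem_univ _, hφ⟩, ?_⟩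
        intro ψ hψ
        exact hs (Finset.mem_filter.1 hψ).2 hφ
      rw [hD, Finset.inf_singleton]
      haveI := isDomain_schubert K hd φ
      exact (Ideal.Quotient.isDomain_iff_prime _).1 inferInstance
  · constructor
    · intro _ φ hφ
      exact absurd ⟨φ, hφ.1⟩ hτ
    · intro _
      exact prime_mk_X_of_not_exists K hd τ hτ

end PrimeX

end Groth.Agent.Lib.helper10.SMT
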