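import Groth.Agent.Lib.Helper10.SMT18

/-!
# Standard monomial theory for the Grassmannian (helper10), part 24: two-sided shapes
(Richardson varieties): the standard monomials with all factors in `[v, w]` are linearly
independent on the matrices whose column `t` is supported in the rows `[v_t, w_t]`
-/

set_option autoImplicit false
set_option linter.unusedSectionVars false
set_option linter.style.haveILetI false

universe u

open MvPolynomial W4bk4grassmannian

namespace Groth.Agent.Lib.helper10.SMT

variable {d n : ℕ}

section SigV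

variable (K : Type u) [CommRing K]

/-- The specialization `x_{s,t} ↦ 0` for `s < v_t`. -/
noncomputable def sigV (v : Idx d n) :
    MvPolynomial (Fin n × Fin d) K →ₐ[K] MvPolynomial (Fin n × Fin d) K :=
  MvPolynomial.aeval fun p : Fin n × Fin d => if v.1 p.2 ≤ p.1 then X p else 0

theorem sigV_X (v : Idx d n) (p : Fin n × Fin d) :
    sigV K v (X p) = if v.1 p.2 ≤ p.1 then X p else 0 := by
  unfold sigV
  rw [aeval_X]

theorem sigV_diagMon (v θ : Idx d n) (h : v ≤ θ) : sigV K v (diagMon K θ) = diagMon K θ := by
  unfold diagMon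
  rw [map_prod]
  apply Finset.prod_congr rfl
  intro q _
  rw [sigV_X, if_pos (h q)]

theorem wtHom_sigV (v : Idx d n) (P : MvPolynomial (Fin n × Fin d) K) :
    wtHom K (sigV K v P) = Polynomial.map (sigV K v).toRingHom (wtHom K P) := by
  have h : (wtHom (d := d) (n := n) K).comp (sigV K v).toRingHom =
      (Polynomial.mapRingHom (sigV K v).toRingHom).comp (wtHom K) := by
    apply MvPolynomial.ringHom_ext
    · intro a
      simp only [RingHom.comp_apply, AlgHom.toRingHom_eq_coe, RingHom.coe_coe]
      rw [← MvPolynomial.algebraMap_eq, AlgHom.commutes, MvPolynomial.algebraMap_eq, wtHom_C,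
        Polynomial.coe_mapRingHom, Polynomial.map_C]
      congr 1
      rw [RingHom.coe_coe, ← MvPolynomial.algebraMap_eq, AlgHom.commutes]
    · intro p
      simp only [RingHom.comp_apply, AlgHom.toRingHom_eq_coe, RingHom.coe_coe]
      rw [wtHom_X, Polynomial.coe_mapRingHom, Polynomial.map_mul, Polynomial.map_pow,
        Polynomial.map_X, Polynomial.map_C, RingHom.coe_coe, sigV_X]
      split_ifs
      · rw [wtHom_X]
      · rw [map_zero, Polynomial.C_0, zero_mul]
  exact DFunLike.congr_fun h P

end SigV

section Independence2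

variable (K : Type u) [Field K]

/-- **Linear independence of the standard monomials on a Richardson variety**: a linear
combination of standard monomials with all factors in `[v, w]` vanishing at the generic matrix
whose column `t` is supported in the rows `[v_t, w_t]` has zero coefficients. -/
theorem std_independent2 (hd : 0 < d) (v w : Idx d n) (F : Finset (Chains d n))
    (lam : Chains d n → K) (hF : ∀ c ∈ F, ∀ k, v ≤ c.2.1 k ∧ c.2.1 k ≤ w)
    (hsum : sigV K v (shapeEval K w (∑ c ∈ F, lam c • chainMon K c.2.1)) = 0) :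
    ∀ c ∈ F, lam c = 0 := by
  classical
  by_contra hcon
  push Not at hcon
  obtain ⟨c₁, hc₁F, hc₁⟩ := hcon
  obtain ⟨E, hE⟩ : ∃ E : Chains d n → ℕ, E = fun c => ∑ k, dwt (c.2.1 k).1 := ⟨_, rfl⟩
  obtain ⟨c₀, hc₀, hmax⟩ := Finset.exists_max_image (F.filter fun c => lam c ≠ 0) E
    ⟨c₁, Finset.mem_filter.2 ⟨hc₁F, hc₁⟩⟩
  rw [Finset.mem_filter] at hc₀
  have h1 := congrArg (fun P => MvPolynomial.coeff (expo c₀.2.1) ((wtHom K P).coeff (E c₀))) hsum
  simp only [wtHom_sigV, Polynomial.coeff_map, map_zero, Polynomial.coeff_zero,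
    MvPolynomial.coeff_zero] at h1
  rw [map_sum, map_sum, Polynomial.finsetSum_coeff, map_sum, MvPolynomial.coeff_sum] at h1
  have hterm : ∀ c ∈ F, MvPolynomial.coeff (expo c₀.2.1)
      ((sigV K v).toRingHom ((wtHom K (shapeEval K w (lam c • chainMon K c.2.1))).coeff (E c₀))) =
      if c = c₀ then lam c₀ else 0 := by
    intro c hcF
    rw [map_smul, MvPolynomial.smul_eq_C_mul, map_mul, wtHom_C, Polynomial.coeff_C_mul, map_mul]
    have hC : (sigV K v).toRingHom (C (lam c)) = C (lam c) := by
      rw [AlgHom.toRingHom_eq_coe, RingHom.coe_coe, ← MvPolynomial.algebraMap_eq, AlgHom.commutes]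
    rw [hC, MvPolynomial.coeff_C_mul]
    by_cases hlam : lam c = 0
    · rw [hlam, zero_mul]
      split_ifs with h
      · rw [h] at hlam; exact absurd hlam hc₀.2
      · rfl
    · have hEc : E c ≤ E c₀ := hmax c (Finset.mem_filter.2 ⟨hcF, hlam⟩)
      have hnat := natDegree_wtHom_chainMon K w c.2.1 (fun k => (hF c hcF k).2)
      have hEc' : E c = ∑ k, dwt (c.2.1 k).1 := by rw [hE]
      rcases lt_or_eq_of_le hEc with hlt | heq
      · rw [Polynomial.coeff_eq_zero_of_natDegree_lt (by rw [hnat, ← hEc']; exact hlt),
          map_zero, MvPolynomial.coeff_zero, mul_zero, if_neg]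
        rintro rfl
        exact absurd hlt (lt_irrefl _)
      · have hlc := leadingCoeff_wtHom_chainMon K w c.2.1 (fun k => (hF c hcF k).2)
        rw [Polynomial.leadingCoeff, hnat, ← hEc', heq] at hlc
        have hsig : (sigV K v).toRingHom (∏ k, diagMon K (c.2.1 k)) =
            ∏ k, diagMon K (c.2.1 k) := by
          rw [map_prod]
          apply Finset.prod_congr rfl
          intro k _
          exact sigV_diagMon K v _ (hF c hcF k).1
        rw [hlc, hsig, prod_diagMon, MvPolynomial.coeff_monomial]
        by_cases hcc : c = c₀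
        · subst hcc
          rw [if_pos rfl, if_pos rfl, mul_one]
        · rw [if_neg hcc, if_neg, mul_zero]
          intro hexp
          apply hcc
          obtain ⟨m, c, hcanti⟩ := c
          obtain ⟨m₀, c₀, hc₀anti⟩ := c₀
          exact chain_unique hd c c₀ hcanti hc₀anti hexp
  rw [Finset.sum_congr rfl hterm, Finset.sum_ite_eq' F c₀, if_pos hc₀.1] at h1
  exact hc₀.2 h1

end Independence2

section Iota

/-- The least element `(0, …, d - 1)`. -/
def iotaIdx (hdn : d < n) : Idx d n :=
  ⟨fun t => ⟨t.val, lt_trans t.isLt hdn⟩, fun _ _ h => h⟩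

/-- The unique cover `(0, …, d - 2, d)` of the least element. -/
def iotaCover (hdn : d < n) : Idx d n :=
  ⟨fun t => if t.val + 1 = d then ⟨d, hdn⟩ else ⟨t.val, lt_trans t.isLt hdn⟩, fun a b hab => by
    rw [Fin.lt_def] at hab
    have hb := b.isLt
    have ha : ¬ a.val + 1 = d := by omega
    dsimp only
    rw [if_neg ha]
    split_ifs
    · rw [Fin.lt_def]; show a.val < d; omega
    · rw [Fin.lt_def]; exact hab⟩

theorem iotaIdx_le (hdn : d < n) (θ : Idx d n) : iotaIdx hdn ≤ θ := by
  intro t
  rw [Fin.le_def]
  exact val_le_idx θ t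

theorem idx_add_le' (φ : Idx d n) : ∀ (k : ℕ) (t : Fin d) (h : t.val + k < d),
    (φ.1 t).val + k ≤ (φ.1 ⟨t.val + k, h⟩).val := by
  intro k
  induction k with
  | zero => intro t h; exact le_rfl
  | succ k ih =>
    intro t h
    have h1 := ih t (by omega)
    have h2 : φ.1 ⟨t.val + k, by omega⟩ < φ.1 ⟨t.val + (k + 1), h⟩ := φ.2 (by
      rw [Fin.lt_def]; show t.val + k < t.val + (k + 1); omega)
    rw [Fin.lt_def] at h2
    omega

theorem iotaCover_le (hdn : d < n) (θ : Idx d n) (h : θ ≠ iotaIdx hdn) : iotaCover hdn ≤ θ := by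
  intro t
  rw [Fin.le_def]
  show (if t.val + 1 = d then (⟨d, hdn⟩ : Fin n) else ⟨t.val, lt_trans t.isLt hdn⟩).val ≤ _
  split_ifs with ht
  · show d ≤ (θ.1 t).val
    by_contra hcon
    apply h
    apply Subtype.ext
    funext t'
    apply Fin.ext
    show (θ.1 t').val = t'.val
    have h1 := val_le_idx θ t'
    have h2 := idx_add_le' θ (t.val - t'.val) t' (by have := t'.isLt; omega)
    have h3 : (⟨t'.val + (t.val - t'.val), by have := t'.isLt; omega⟩ : Fin d) = t := by
      apply Fin.ext
      show t'.val + (t.val - t'.val) = t.val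
      have := t'.isLt
      omega
    rw [h3] at h2
    have := t'.isLt
    omega
  · exact val_le_idx θ t

theorem not_iotaCover_le_iotaIdx (hd : 0 < d) (hdn : d < n) : ¬ iotaCover hdn ≤ iotaIdx hdn := by
  intro h
  have h1 := h ⟨d - 1, by omega⟩
  rw [Fin.le_def] at h1
  have h2 : ((iotaCover hdn).1 ⟨d - 1, by omega⟩).val = d := by
    show (if d - 1 + 1 = d then (⟨d, hdn⟩ : Fin n) else _).val = d
    rw [if_pos (by omega)]
  have h3 : ((iotaIdx hdn).1 ⟨d - 1, by omega⟩).val = d - 1 := rfl
  omega

variable (K : Type u) [Field K] [Infinite K] (hd : 0 < d) (hdn : d < n) (w : Idx d n)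

/-- The evaluation at the generic matrix whose column `t` is supported in the rows between the
cover of the least element and `w`. -/
noncomputable def ev2 : PlRing K d n →ₐ[K] MvPolynomial (Fin n × Fin d) K :=
  (sigV K (iotaCover hdn)).comp (shapeEval K w)

include hd in
theorem ev2_X_iota : ev2 K hdn w (X (iotaIdx hdn)) = 0 := by
  unfold ev2
  rw [AlgHom.comp_apply, shapeEval_X, AlgHom.map_det]
  apply Matrix.det_eq_zero_of_column_eq_zero (⟨d - 1, by omega⟩ : Fin d)
  intro r
  rw [AlgHom.mapMatrix_apply, Matrix.map_apply, Matrix.submatrix_apply, id, shapeMat_apply]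
  split_ifs
  · rw [sigV_X, if_neg]
    rw [not_le, Fin.lt_def]
    show r.val < (if d - 1 + 1 = d then (⟨d, hdn⟩ : Fin n) else _).val
    rw [if_pos (by omega)]
    exact r.isLt
  · rw [map_zero]

include hd in
theorem ker_ev2 : RingHom.ker (ev2 K hdn w).toRingHom =
    schubertVanishing K d n w ⊔ Ideal.span {X (iotaIdx hdn)} := by
  classical
  apply le_antisymm
  · intro f hf
    rw [RingHom.mem_ker] at hf
    obtain ⟨g, hg, hfg⟩ := std_span_general K
      (schubertVanishing K d n w ⊔ Ideal.span {X (iotaIdx hdn)})
      (le_trans (plIdealTop_le_schubertVanishing K w) le_sup_left)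
      (fun c => ∀ k, iotaCover hdn ≤ c.2.1 k ∧ c.2.1 k ≤ w)
      (by
        intro c hc
        obtain ⟨k, hk⟩ := not_forall.1 hc
        rw [not_and_or] at hk
        rcases hk with hk | hk
        · apply Ideal.mem_sup_right
          apply chainMon_mem_ideal K _ c.2.1 k
          have : c.2.1 k = iotaIdx hdn := by
            by_contra hne
            exact hk (iotaCover_le hdn _ hne)
          rw [this]
          exact Ideal.subset_span rfl
        · exact Ideal.mem_sup_left (chainMon_mem_of_not_le K w _ k hk)) f
    have hle : schubertVanishing K d n w ⊔ Ideal.span {X (iotaIdx hdn)} ≤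
        RingHom.ker (ev2 K hdn w).toRingHom := by
      apply sup_le
      · intro x hx
        rw [RingHom.mem_ker]
        show ev2 K hdn w x = 0
        unfold ev2
        rw [AlgHom.comp_apply, shapeEval_eq_zero_of_mem K w x hx, map_zero]
      · rw [Ideal.span_le]
        intro x hx
        rw [Set.mem_singleton_iff] at hx
        rw [hx]
        exact ev2_X_iota K hd hdn w
    have hg0 : ev2 K hdn w g = 0 := by
      have h1 := hle hfg
      rw [RingHom.mem_ker] at h1
      have h2 : ev2 K hdn w (f - g) = 0 := h1
      rw [map_sub, sub_eq_zero] at h2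
      rw [← h2]
      exact hf
    rw [Submodule.mem_span_image_iff_exists_fun] at hg
    obtain ⟨t, ht, lam, hlam⟩ := hg
    obtain ⟨lam', hlam'⟩ : ∃ lam' : Chains d n → K,
        lam' = fun c => if h : c ∈ t then lam ⟨c, h⟩ else 0 := ⟨_, rfl⟩
    have hsum : ∑ c ∈ t, lam' c • chainMon K c.2.1 = g := by
      rw [← hlam, ← Finset.sum_coe_sort t (fun c => lam' c • chainMon K c.2.1)]
      apply Finset.sum_congr rfl
      intro c _
      have : lam' c.1 = lam c := by
        rw [hlam']
        dsimp only
        rw [dif_pos c.2]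
      rw [this]
    have hzero : ∀ c ∈ t, lam' c = 0 := by
      apply std_independent2 K hd (iotaCover hdn) w t lam'
      · intro c hc
        exact ht hc
      · rw [hsum]
        exact hg0
    have hg00 : g = 0 := by
      rw [← hsum]
      apply Finset.sum_eq_zero
      intro c hc
      rw [hzero c hc, zero_smul]
    rw [hg00, sub_zero] at hfg
    exact hfg
  · apply sup_le
    · intro x hx
      rw [RingHom.mem_ker]
      show ev2 K hdn w x = 0
      unfold ev2
      rw [AlgHom.comp_apply, shapeEval_eq_zero_of_mem K w x hx, map_zero]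
    · rw [Ideal.span_le]
      intro x hx
      rw [Set.mem_singleton_iff] at hx
      rw [hx]
      exact ev2_X_iota K hd hdn w

include hd in
/-- **The least Plücker coordinate is a prime element on every Schubert variety.** -/
theorem prime_mk_X_iota :
    Prime (Ideal.Quotient.mk (schubertVanishing K d n w) (X (iotaIdx hdn))) := by
  have hne : Ideal.Quotient.mk (schubertVanishing K d n w) (X (iotaIdx hdn)) ≠ 0 := by
    intro h0
    rw [Ideal.Quotient.eq_zero_iff_mem] at h0
    have h1 := shapeEval_eq_zero_of_mem K w _ h0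
    have h2 := wtMinor_ne_zero K w (iotaIdx hdn) (iotaIdx_le hdn w)
    apply h2
    unfold wtMinor
    rw [← shapeEval_X, h1, map_zero]
  rw [← Ideal.span_singleton_prime hne]
  have hker : (RingHom.ker (ev2 K hdn w).toRingHom).IsPrime := RingHom.ker_isPrime _
  have hmap := Ideal.map_isPrime_of_surjective
    (f := Ideal.Quotient.mk (schubertVanishing K d n w)) Ideal.Quotient.mk_surjective
    (I := RingHom.ker (ev2 K hdn w).toRingHom) (by
      rw [Ideal.mk_ker, ker_ev2 K hd hdn w]
      exact le_sup_left)
  rw [ker_ev2 K hd hdn w, Ideal.map_sup, Ideal.map_quotient_self, bot_sup_eq, Ideal.map_span,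
    Set.image_singleton] at hmap
  exact hmap

end Iota

end Groth.Agent.Lib.helper10.SMT
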