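import Groth.Agent.Lib.Helper10.SMT24
import Groth.Agent.Lib.Helper10.FFT2

/-!
# Standard monomial theory for the Grassmannian (helper10), part 25: the shape of the
straightening relation of a skew pair
-/

set_option autoImplicit false
set_option linter.unusedSectionVars false
set_option linter.style.haveILetI false

universe u

open MvPolynomial W4bk4grassmannian

namespace Groth.Agent.Lib.helper10.SMT

variable {d n : ℕ}

section Pairs

/-- The chain of length two. -/
def mk2 (α β : Idx d n) (h : β ≤ α) : Chains d n :=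
  ⟨2, ⟨![α, β], by
    intro a b hab
    fin_cases a <;> fin_cases b
    · exact le_rfl
    · exact h
    · exact absurd hab (by decide)
    · exact le_rfl⟩⟩

theorem mk2_zero (α β : Idx d n) (h : β ≤ α) : (mk2 α β h).2.1 (0 : Fin 2) = α := rfl

theorem mk2_one (α β : Idx d n) (h : β ≤ α) : (mk2 α β h).2.1 (1 : Fin 2) = β := rfl

theorem mk2_forall (α β : Idx d n) (h : β ≤ α) (P : Idx d n → Prop) :
    (∀ k, P ((mk2 α β h).2.1 k)) ↔ P α ∧ P β := Fin.forall_fin_two

theorem mk2_injective (α β α' β' : Idx d n) (h : β ≤ α) (h' : β' ≤ α')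
    (heq : mk2 α β h = mk2 α' β' h') : α = α' ∧ β = β' := by
  unfold mk2 at heq
  have h1 := eq_of_heq (Sigma.mk.inj heq).2
  have h2 := congrArg Subtype.val h1
  exact ⟨congrFun h2 (0 : Fin 2), congrFun h2 (1 : Fin 2)⟩

variable (K : Type u) [CommRing K]

theorem chainMon_mk2 (α β : Idx d n) (h : β ≤ α) :
    chainMon K (mk2 α β h).2.1 = X α * X β := by
  unfold chainMon
  show ∏ k : Fin 2, (X (![α, β] k) : PlRing K d n) = _
  rw [Fin.prod_univ_two]
  rfl

/-- Weight-homogeneous straightening in degree two. -/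
theorem straighten2 (W : ℕ) : ∀ (k : ℕ) (i j : Idx d n), d * n - max (wt i.1) (wt j.1) = k →
    wt i.1 + wt j.1 = W →
    (X i * X j : PlRing K d n) ∈ Submodule.span K ((fun c : Chains d n => chainMon K c.2.1) ''
      {c | ∃ (α β : Idx d n) (h : β ≤ α), c = mk2 α β h ∧ wt α.1 + wt β.1 = W}) ⊔
      (plIdealTop (d := d) (n := n) K).restrictScalars K := by
  intro k
  induction k using Nat.strong_induction_on with
  | _ k ih =>
    intro i j hk hW
    by_cases hji : j ≤ i
    · apply Submodule.mem_sup_left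
      apply Submodule.subset_span
      exact ⟨mk2 i j hji, ⟨i, j, hji, rfl, hW⟩, chainMon_mk2 K i j hji⟩
    by_cases hij : i ≤ j
    · apply Submodule.mem_sup_left
      apply Submodule.subset_span
      refine ⟨mk2 j i hij, ⟨j, i, hij, rfl, by rw [add_comm]; exact hW⟩, ?_⟩
      show chainMon K (mk2 j i hij).2.1 = _
      rw [chainMon_mk2, mul_comm]
    -- incomparable: orient so that the first index has the larger weight
    have key : ∀ (i j : Idx d n), ¬ j ≤ i → wt j.1 ≤ wt i.1 →
        d * n - max (wt i.1) (wt j.1) = k → wt i.1 + wt j.1 = W →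
        (X i * X j : PlRing K d n) ∈ Submodule.span K ((fun c : Chains d n => chainMon K c.2.1) ''
          {c | ∃ (α β : Idx d n) (h : β ≤ α), c = mk2 α β h ∧ wt α.1 + wt β.1 = W}) ⊔
          (plIdealTop (d := d) (n := n) K).restrictScalars K := by
      intro i j hji hwt hk hW
      have hex : (Finset.univ.filter fun t : Fin d => i.1 t < j.1 t).Nonempty := by
        by_contra hcon
        rw [Finset.not_nonempty_iff_eq_empty, Finset.filter_eq_empty_iff] at hcon
        apply hji
        intro t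
        exact not_lt.1 (hcon (Finset.mem_univ t))
      obtain ⟨r, hr, hrmin⟩ := Finset.exists_min_image _ (fun t : Fin d => t) hex
      rw [Finset.mem_filter] at hr
      have hp : IsPivot i j r := by
        refine ⟨fun t ht => ?_, hr.2⟩
        by_contra hcon
        have := hrmin t (Finset.mem_filter.2 ⟨Finset.mem_univ _, not_le.1 hcon⟩)
        exact absurd ht (not_lt.2 this)
      have hstep := straighten_step_gen K
        (Submodule.span K ((fun c : Chains d n => chainMon K c.2.1) ''
          {c | ∃ (α β : Idx d n) (h : β ≤ α), c = mk2 α β h ∧ wt α.1 + wt β.1 = W}) ⊔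
          (plIdealTop (d := d) (n := n) K).restrictScalars K) le_sup_right 0 i j r hp
        (by
          intro θ φ hθ hsum
          rw [monomial_add_two]
          have h1 : (monomial (0 : Idx d n →₀ ℕ) (1 : K)) = 1 := rfl
          rw [h1, one_mul]
          have hθle := wt_le θ.1
          have hφle := wt_le φ.1
          have hile := wt_le i.1
          have hmax : max (wt i.1) (wt j.1) = wt i.1 := max_eq_left hwt
          have hmax2 : wt i.1 < max (wt θ.1) (wt φ.1) := lt_of_lt_of_le hθ (le_max_left _ _)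
          have hmax3 : max (wt θ.1) (wt φ.1) ≤ d * n := max_le hθle hφle
          exact ih (d * n - max (wt θ.1) (wt φ.1)) (by rw [← hk, hmax]; omega) θ φ rfl
            (by rw [hsum]; exact hW))
      rw [monomial_add_two] at hstep
      have h1 : (monomial (0 : Idx d n →₀ ℕ) (1 : K)) = 1 := rfl
      rw [h1, one_mul] at hstep
      exact hstep
    rcases le_total (wt j.1) (wt i.1) with h | h
    · exact key i j hji h hk hW
    · rw [mul_comm]
      exact key j i hij h (by rw [max_comm]; exact hk) (by rw [add_comm]; exact hW)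

end Pairs

section LowerShape

/-- The minors on rows `θ ≱ v` of a matrix whose column `t` vanishes in the rows above `v_t`
vanish. -/
theorem det_eq_zero_of_lower_shape {R : Type*} [CommRing R] (v θ : Idx d n)
    (M : Matrix (Fin n) (Fin d) R) (hM : ∀ s t, s < v.1 t → M s t = 0) (h : ¬ v ≤ θ) :
    (M.submatrix θ.1 id).det = 0 := by
  obtain ⟨t₀, ht₀⟩ : ∃ t₀, θ.1 t₀ < v.1 t₀ := by
    by_contra hcon
    push Not at hcon
    exact h (fun t => hcon t)
  rw [Matrix.det_apply]
  apply Finset.sum_eq_zero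
  intro σ _
  have hex : ∃ q, t₀ ≤ q ∧ σ q ≤ t₀ := by
    by_contra hcon
    push Not at hcon
    have hmaps : ∀ q ∈ Finset.Ici t₀, σ q ∈ Finset.Ioi t₀ :=
      fun q hq => Finset.mem_Ioi.2 (hcon q (Finset.mem_Ici.1 hq))
    have := Finset.card_le_card_of_injOn σ hmaps (σ.injective.injOn)
    rw [Fin.card_Ici, Fin.card_Ioi] at this
    have := t₀.isLt
    omega
  obtain ⟨q, hq1, hq2⟩ := hex
  have hzero : (M.submatrix θ.1 id) (σ q) q = 0 := by
    rw [Matrix.submatrix_apply, id]
    apply hM
    calc θ.1 (σ q) ≤ θ.1 t₀ := θ.2.monotone hq2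
      _ < v.1 t₀ := ht₀
      _ ≤ v.1 q := v.2.monotone hq1
  rw [Finset.prod_eq_zero (f := fun i => (M.submatrix θ.1 id) (σ i) i) (Finset.mem_univ q) hzero,
    smul_zero]

variable (K : Type u) [CommRing K]

theorem sigV_shapeEval_X_eq_zero (v w θ : Idx d n) (h : ¬ v ≤ θ) :
    sigV K v (shapeEval K w (X θ)) = 0 := by
  rw [shapeEval_X, AlgHom.map_det]
  have h1 : (sigV K v).mapMatrix ((shapeMat K w).submatrix θ.1 id) =
      ((shapeMat K w).map (sigV K v)).submatrix θ.1 id := by
    ext r c
    rfl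
  rw [h1]
  apply det_eq_zero_of_lower_shape v θ _ _ h
  intro s t hst
  rw [Matrix.map_apply, shapeMat_apply]
  split_ifs
  · rw [sigV_X, if_neg (not_le.2 hst)]
  · rw [map_zero]

end LowerShape

section HibiDegree

variable (K : Type u) [Field K] [Infinite K]

/-- The leading terms of `X_a X_b` and `X_{a ∨ b} X_{a ∧ b}` at the generic matrix of shape `w`
cancel. -/
theorem degree_hibi_lt (w a b : Idx d n) (ha : a ≤ w) (hb : b ≤ w) :
    (wtHom K (shapeEval K w (X a * X b -
      X (W4bk4grassmannian.sup a b) * X (W4bk4grassmannian.inf a b)))).degree <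
      ((dwt a.1 + dwt b.1 : ℕ) : WithBot ℕ) := by
  obtain ⟨N, hN⟩ : ∃ N, N = dwt a.1 + dwt b.1 := ⟨_, rfl⟩
  rw [← hN]
  have hsle : W4bk4grassmannian.sup a b ≤ w := fun t => max_le (ha t) (hb t)
  have hile : W4bk4grassmannian.inf a b ≤ w := fun t => le_trans (min_le_left _ _) (ha t)
  rw [map_sub, map_sub, map_mul, map_mul, map_mul, map_mul, wtHom_shapeEval_X,
    wtHom_shapeEval_X, wtHom_shapeEval_X, wtHom_shapeEval_X]
  have hne1 : wtMinor K w a * wtMinor K w b ≠ 0 :=
    mul_ne_zero (wtMinor_ne_zero K w a ha) (wtMinor_ne_zero K w b hb)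
  have hne2 : wtMinor K w (W4bk4grassmannian.sup a b) *
      wtMinor K w (W4bk4grassmannian.inf a b) ≠ 0 :=
    mul_ne_zero (wtMinor_ne_zero K w _ hsle) (wtMinor_ne_zero K w _ hile)
  have hd1 : (wtMinor K w a * wtMinor K w b).degree = N := by
    rw [Polynomial.degree_eq_natDegree hne1, Polynomial.natDegree_mul
      (wtMinor_ne_zero K w a ha) (wtMinor_ne_zero K w b hb),
      natDegree_wtMinor K w a ha, natDegree_wtMinor K w b hb, hN]
  have hd2 : (wtMinor K w (W4bk4grassmannian.sup a b) *
      wtMinor K w (W4bk4grassmannian.inf a b)).degree = N := by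
    rw [Polynomial.degree_eq_natDegree hne2, Polynomial.natDegree_mul
      (wtMinor_ne_zero K w _ hsle) (wtMinor_ne_zero K w _ hile),
      natDegree_wtMinor K w _ hsle, natDegree_wtMinor K w _ hile, dwt_sup_add_inf, hN]
  have hlc : (wtMinor K w a * wtMinor K w b).leadingCoeff =
      (wtMinor K w (W4bk4grassmannian.sup a b) *
        wtMinor K w (W4bk4grassmannian.inf a b)).leadingCoeff := by
    rw [Polynomial.leadingCoeff_mul, Polynomial.leadingCoeff_mul,
      leadingCoeff_wtMinor K w a ha, leadingCoeff_wtMinor K w b hb,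
      leadingCoeff_wtMinor K w _ hsle, leadingCoeff_wtMinor K w _ hile, diagMon_sup_mul_inf]
  have := Polynomial.degree_sub_lt_left (hd1.trans hd2.symm) hne1 hlc
  rw [hd1] at this
  exact this

end HibiDegree

section Shape

theorem eq_of_le_of_wt_eq' {a b : Idx d n} (h : a ≤ b) (hw : wt a.1 = wt b.1) : a = b := by
  rcases eq_or_lt_of_le h with heq | hlt
  · exact heq
  · exact absurd hw (wt_lt_of_lt hlt).ne

variable (K : Type u) [Field K] [Infinite K]

/-- **Shape of the straightening relation of a skew pair.** -/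
theorem straightening_shape (hd : 0 < d) (hdn : d ≤ n) (τ φ : Idx d n) :
    ∃ g ∈ Submodule.span K {f : PlRing K d n | ∃ α β : Idx d n,
        β ≤ α ∧ W4bk4grassmannian.sup τ φ < α ∧ β < W4bk4grassmannian.inf τ φ ∧
          f = X α * X β},
      X τ * X φ - X (W4bk4grassmannian.sup τ φ) * X (W4bk4grassmannian.inf τ φ) - g ∈
        vanishing K d n := by
  classical
  obtain ⟨W, hW⟩ : ∃ W, W = wt τ.1 + wt φ.1 := ⟨_, rfl⟩
  obtain ⟨s, hs⟩ : ∃ s, s = W4bk4grassmannian.sup τ φ := ⟨_, rfl⟩
  obtain ⟨p, hp⟩ : ∃ p, p = W4bk4grassmannian.inf τ φ := ⟨_, rfl⟩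
  have hps : p ≤ s := by
    rw [hs, hp]
    intro t
    exact le_trans (min_le_left _ _) (le_max_left _ _)
  have hsτ : τ ≤ s := by rw [hs]; intro t; exact le_max_left _ _
  have hsφ : φ ≤ s := by rw [hs]; intro t; exact le_max_right _ _
  have hpτ : p ≤ τ := by rw [hp]; intro t; exact min_le_left _ _
  have hpφ : p ≤ φ := by rw [hp]; intro t; exact min_le_right _ _
  have hWsp : wt s.1 + wt p.1 = W := by rw [hs, hp, hW]; exact wt_sup_add_inf τ φ
  rw [← hs, ← hp]
  have h0 := straighten2 K W _ τ φ rfl hW.symm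
  obtain ⟨g₀, hg₀, r, hr, hsum⟩ := Submodule.mem_sup.1 h0
  rw [Submodule.mem_span_image_iff_exists_fun] at hg₀
  obtain ⟨t, ht, lam, hlam⟩ := hg₀
  obtain ⟨lam', hlam'⟩ : ∃ lam' : Chains d n → K,
      lam' = fun c => if h : c ∈ t then lam ⟨c, h⟩ else 0 := ⟨_, rfl⟩
  have hsum' : ∑ c ∈ t, lam' c • chainMon K c.2.1 = g₀ := by
    rw [← hlam, ← Finset.sum_coe_sort t (fun c => lam' c • chainMon K c.2.1)]
    apply Finset.sum_congr rfl
    intro c _
    have : lam' c.1 = lam c := by
      rw [hlam']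
      dsimp only
      rw [dif_pos c.2]
    rw [this]
  have hlam0 : ∀ c, c ∉ t → lam' c = 0 := by
    intro c hc
    rw [hlam']
    dsimp only
    rw [dif_neg hc]
  have hrel : X τ * X φ = ∑ c ∈ t, lam' c • chainMon K c.2.1 + r := by rw [hsum', hsum]
  have hrJ : ∀ w, r ∈ schubertVanishing K d n w :=
    fun w => plIdealTop_le_schubertVanishing K w hr
  have htform : ∀ c ∈ t, ∃ (α β : Idx d n) (h : β ≤ α), c = mk2 α β h ∧ wt α.1 + wt β.1 = W :=
    fun c hc => ht hc
  -- Claim 1
  have c1 : ∀ (α₀ β₀ : Idx d n) (h₀ : β₀ ≤ α₀), mk2 α₀ β₀ h₀ ∈ t → ¬ s ≤ α₀ →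
      lam' (mk2 α₀ β₀ h₀) = 0 := by
    intro α₀ β₀ h₀ hmem hnot
    obtain ⟨P, hP⟩ : ∃ P : Chains d n → Prop,
      P = fun c => ∃ (α β : Idx d n) (h : β ≤ α), c = mk2 α β h ∧ α ≤ α₀ := ⟨_, rfl⟩
    have hsplit := Finset.sum_filter_add_sum_filter_not t P (fun c => lam' c • chainMon K c.2.1)
    have hin : ∑ c ∈ t.filter P, lam' c • chainMon K c.2.1 ∈ schubertVanishing K d n α₀ := by
      have e : ∑ c ∈ t.filter P, lam' c • chainMon K c.2.1 = X τ * X φ - r -
          ∑ c ∈ t.filter (fun c => ¬ P c), lam' c • chainMon K c.2.1 := by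
        rw [hrel, ← hsplit]
        ring
      rw [e]
      apply Ideal.sub_mem
      · apply Ideal.sub_mem _ _ (hrJ α₀)
        have : ¬ τ ≤ α₀ ∨ ¬ φ ≤ α₀ := by
          by_contra hcon
          push Not at hcon
          apply hnot
          rw [hs]
          intro q
          exact max_le (hcon.1 q) (hcon.2 q)
        rcases this with h | h
        · exact Ideal.mul_mem_right _ _ (X_mem_schubertVanishing K α₀ τ h)
        · exact Ideal.mul_mem_left _ _ (X_mem_schubertVanishing K α₀ φ h)
      · apply Ideal.sum_mem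
        intro c hc
        rw [Finset.mem_filter] at hc
        obtain ⟨α, β, h, rfl, -⟩ := htform c hc.1
        have hα : ¬ α ≤ α₀ := by
          intro hle
          apply hc.2
          rw [hP]
          exact ⟨α, β, h, rfl, hle⟩
        rw [chainMon_mk2, MvPolynomial.smul_eq_C_mul]
        apply Ideal.mul_mem_left
        exact Ideal.mul_mem_right _ _ (X_mem_schubertVanishing K α₀ α hα)
    have hz := std_independent K hd α₀ (t.filter P) lam' (by
      intro c hc
      rw [Finset.mem_filter, hP] at hc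
      obtain ⟨-, α, β, h, rfl, hle⟩ := hc
      rw [mk2_forall α β h (fun θ => θ ≤ α₀)]
      exact ⟨hle, le_trans h hle⟩) hin
    apply hz
    rw [Finset.mem_filter, hP]
    exact ⟨hmem, α₀, β₀, h₀, rfl, le_rfl⟩
  -- Claim 2
  have c2 : ∀ (α₀ β₀ : Idx d n) (h₀ : β₀ ≤ α₀), mk2 α₀ β₀ h₀ ∈ t → ¬ β₀ ≤ p →
      lam' (mk2 α₀ β₀ h₀) = 0 := by
    intro α₀ β₀ h₀ hmem hnot
    obtain ⟨P, hP⟩ : ∃ P : Chains d n → Prop,
      P = fun c => ∃ (α β : Idx d n) (h : β ≤ α), c = mk2 α β h ∧ β₀ ≤ β := ⟨_, rfl⟩
    have hsplit := Finset.sum_filter_add_sum_filter_not t P (fun c => lam' c • chainMon K c.2.1)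
    have hin : sigV K β₀ (shapeEval K (FFT.topIdx hdn)
        (∑ c ∈ t.filter P, lam' c • chainMon K c.2.1)) = 0 := by
      have e : ∑ c ∈ t.filter P, lam' c • chainMon K c.2.1 = X τ * X φ - r -
          ∑ c ∈ t.filter (fun c => ¬ P c), lam' c • chainMon K c.2.1 := by
        rw [hrel, ← hsplit]
        ring
      rw [e, map_sub, map_sub, map_sub, map_sub,
        shapeEval_eq_zero_of_mem K _ r (hrJ _), map_zero, sub_zero]
      have h1 : sigV K β₀ (shapeEval K (FFT.topIdx hdn) (X τ * X φ)) = 0 := by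
        have : ¬ β₀ ≤ τ ∨ ¬ β₀ ≤ φ := by
          by_contra hcon
          push Not at hcon
          apply hnot
          rw [hp]
          intro q
          exact le_min (hcon.1 q) (hcon.2 q)
        rw [map_mul, map_mul]
        rcases this with h | h
        · rw [sigV_shapeEval_X_eq_zero K β₀ _ τ h, zero_mul]
        · rw [sigV_shapeEval_X_eq_zero K β₀ _ φ h, mul_zero]
      rw [h1, zero_sub, neg_eq_zero, map_sum, map_sum]
      apply Finset.sum_eq_zero
      intro c hc
      rw [Finset.mem_filter] at hc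
      obtain ⟨α, β, h, rfl, -⟩ := htform c hc.1
      have hβ : ¬ β₀ ≤ β := by
        intro hle
        apply hc.2
        rw [hP]
        exact ⟨α, β, h, rfl, hle⟩
      rw [chainMon_mk2, map_smul, map_smul, map_mul, map_mul,
        sigV_shapeEval_X_eq_zero K β₀ _ β hβ, mul_zero, smul_zero]
    have hz := std_independent2 K hd β₀ (FFT.topIdx hdn) (t.filter P) lam' (by
      intro c hc
      rw [Finset.mem_filter, hP] at hc
      obtain ⟨-, α, β, h, rfl, hle⟩ := hc
      rw [mk2_forall α β h (fun θ => β₀ ≤ θ ∧ θ ≤ FFT.topIdx hdn)]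
      exact ⟨⟨le_trans hle h, FFT.le_topIdx hdn _⟩, hle, FFT.le_topIdx hdn _⟩) hin
    apply hz
    rw [Finset.mem_filter, hP]
    exact ⟨hmem, α₀, β₀, h₀, rfl, le_rfl⟩
  -- Claim 4
  obtain ⟨cs, hcs⟩ : ∃ cs, cs = mk2 s p hps := ⟨_, rfl⟩
  have c4 : lam' cs = 1 := by
    obtain ⟨μ, hμ⟩ : ∃ μ : Chains d n → K, μ = fun c => lam' c - if c = cs then 1 else 0 :=
      ⟨_, rfl⟩
    obtain ⟨E, hE⟩ : ∃ E : Chains d n → ℕ, E = fun c => ∑ k, dwt (c.2.1 k).1 := ⟨_, rfl⟩
    have hEcs : E cs = dwt τ.1 + dwt φ.1 := by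
      rw [hE, hcs]
      show ∑ k : Fin 2, dwt (![s, p] k).1 = _
      rw [Fin.sum_univ_two, hs, hp]
      exact dwt_sup_add_inf τ φ
    have hG : ∑ c ∈ insert cs t, μ c • chainMon K c.2.1 =
        ∑ c ∈ t, lam' c • chainMon K c.2.1 - X s * X p := by
      have h1 : ∑ c ∈ insert cs t, μ c • chainMon K c.2.1 =
          ∑ c ∈ insert cs t, lam' c • chainMon K c.2.1 -
            ∑ c ∈ insert cs t, (if c = cs then (1 : K) else 0) • chainMon K c.2.1 := by
        rw [← Finset.sum_sub_distrib]
        apply Finset.sum_congr rfl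
        intro c _
        rw [hμ, sub_smul]
      rw [h1]
      congr 1
      · by_cases hmem : cs ∈ t
        · rw [Finset.insert_eq_of_mem hmem]
        · rw [Finset.sum_insert hmem, hlam0 cs hmem, zero_smul, zero_add]
      · rw [Finset.sum_eq_single cs]
        · rw [if_pos rfl, one_smul, hcs, chainMon_mk2]
        · intro c _ hc
          rw [if_neg hc, zero_smul]
        · intro h
          exact absurd (Finset.mem_insert_self _ _) h
    have hshape : shapeEval K (FFT.topIdx hdn) (∑ c ∈ insert cs t, μ c • chainMon K c.2.1) =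
        shapeEval K (FFT.topIdx hdn) (X τ * X φ - X s * X p) := by
      rw [hG, hrel]
      have : ∑ c ∈ t, lam' c • chainMon K c.2.1 + r - X s * X p =
          (∑ c ∈ t, lam' c • chainMon K c.2.1 - X s * X p) + r := by ring
      rw [this, map_add, shapeEval_eq_zero_of_mem K _ r (hrJ _), add_zero]
    have hdeg := degree_hibi_lt K (FFT.topIdx hdn) τ φ (FFT.le_topIdx hdn _) (FFT.le_topIdx hdn _)
    rw [← hs, ← hp] at hdeg
    by_contra hne
    have hμcs : μ cs ≠ 0 := by
      rw [hμ]
      dsimp only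
      rw [if_pos rfl]
      intro h
      exact hne (sub_eq_zero.1 h)
    obtain ⟨c₀, hc₀, hmax⟩ := Finset.exists_max_image ((insert cs t).filter fun c => μ c ≠ 0) E
      ⟨cs, Finset.mem_filter.2 ⟨Finset.mem_insert_self _ _, hμcs⟩⟩
    rw [Finset.mem_filter] at hc₀
    have hct := coeff_top K hd (FFT.topIdx hdn) (insert cs t) μ
      (fun c _ k => FFT.le_topIdx hdn _) c₀ hc₀.1 (by
        intro c hc hμc
        have := hmax c (Finset.mem_filter.2 ⟨hc, hμc⟩)
        rw [hE] at this
        exact this)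
    rw [hshape] at hct
    have hEc₀ : E cs ≤ E c₀ := hmax cs (Finset.mem_filter.2 ⟨Finset.mem_insert_self _ _, hμcs⟩)
    have hzero : (wtHom K (shapeEval K (FFT.topIdx hdn) (X τ * X φ - X s * X p))).coeff
        (∑ k, dwt (c₀.2.1 k).1) = 0 := by
      apply Polynomial.coeff_eq_zero_of_degree_lt
      refine lt_of_lt_of_le hdeg ?_
      have : dwt τ.1 + dwt φ.1 ≤ ∑ k, dwt (c₀.2.1 k).1 := by
        rw [← hEcs]
        have e0 : E c₀ = ∑ k, dwt (c₀.2.1 k).1 := by rw [hE]
        rw [← e0]
        exact hEc₀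
      exact_mod_cast this
    rw [hzero, MvPolynomial.coeff_zero] at hct
    exact hc₀.2 hct.symm
  -- assembly
  refine ⟨∑ c ∈ t.erase cs, lam' c • chainMon K c.2.1, ?_, ?_⟩
  · apply Submodule.sum_mem
    intro c hc
    rw [Finset.mem_erase] at hc
    by_cases hl : lam' c = 0
    · rw [hl, zero_smul]
      exact Submodule.zero_mem _
    apply Submodule.smul_mem
    apply Submodule.subset_span
    obtain ⟨α, β, h, rfl, hwt⟩ := htform c hc.2
    have h1 : s ≤ α := by
      by_contra hcon
      exact hl (c1 α β h hc.2 hcon)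
    have h2 : β ≤ p := by
      by_contra hcon
      exact hl (c2 α β h hc.2 hcon)
    have h3 : s ≠ α := by
      intro heq
      apply hc.1
      have hβp : β = p := by
        apply eq_of_le_of_wt_eq' h2
        rw [← heq] at hwt
        omega
      subst heq
      subst hβp
      rw [hcs]
    have h4 : β ≠ p := by
      intro heq
      apply h3
      apply eq_of_le_of_wt_eq' h1
      rw [heq] at hwt
      omega
    exact ⟨α, β, h, lt_of_le_of_ne h1 h3, lt_of_le_of_ne h2 h4, chainMon_mk2 K α β h⟩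
  · have e : X τ * X φ - X s * X p - ∑ c ∈ t.erase cs, lam' c • chainMon K c.2.1 = r := by
      rw [hrel]
      by_cases hmem : cs ∈ t
      · rw [← Finset.add_sum_erase t _ hmem, c4, one_smul, hcs, chainMon_mk2]
        ring
      · exact absurd (hlam0 cs hmem) (by rw [c4]; exact one_ne_zero)
    rw [e]
    exact plIdealTop_le_vanishing K hr

end Shape

end Groth.Agent.Lib.helper10.SMT
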