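import Groth.Agent.Lib.Helper10.SMT2

/-!
# Standard monomial theory for the Grassmannian (helper10), part 3: straightening
-/

set_option autoImplicit false
set_option linter.unusedSectionVars false
set_option linter.style.haveILetI false

universe u

open MvPolynomial W4bk4grassmannian

namespace Groth.Agent.Lib.helper10.SMT

variable {d n : ℕ}

/-- The potential of a monomial. -/
def pot (s : Idx d n →₀ ℕ) : ℕ := s.sum fun θ e => e * (wt θ.1) ^ 2

theorem pot_add (s t : Idx d n →₀ ℕ) : pot (s + t) = pot s + pot t := by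
  unfold pot
  apply Finsupp.sum_add_index'
  · intro a; simp
  · intro a b c; ring

theorem pot_single (θ : Idx d n) : pot (Finsupp.single θ 1) = (wt θ.1) ^ 2 := by
  unfold pot
  rw [Finsupp.sum_single_index (by simp)]
  simp

theorem pot_le (s : Idx d n →₀ ℕ) : pot s ≤ Finsupp.degree s * (d * n) ^ 2 := by
  unfold pot
  rw [Finsupp.degree_apply, Finset.sum_mul, Finsupp.sum]
  apply Finset.sum_le_sum
  intro θ _
  apply Nat.mul_le_mul_left
  exact Nat.pow_le_pow_left (wt_le θ.1) 2

theorem sq_add_sq_lt {a b x y : ℕ} (hab : b ≤ a) (hx : a < x) (hsum : x + y = a + b) :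
    a ^ 2 + b ^ 2 < x ^ 2 + y ^ 2 := by
  obtain ⟨e, rfl⟩ : ∃ e, x = a + e := ⟨x - a, by omega⟩
  obtain ⟨rfl⟩ : b = y + e := by omega
  nlinarith

variable (K : Type u) [CommRing K]

/-- The span of the standard monomials in the Plücker polynomial ring. -/
noncomputable def stdPoly : Submodule K (PlRing K d n) :=
  Submodule.span K (Set.range fun c : (Σ m : ℕ, {c : Fin m → Idx d n // Antitone c}) =>
    chainMon K c.2.1)

/-- Standard monomials plus shuffle relations. -/
noncomputable def stdPlus : Submodule K (PlRing K d n) :=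
  stdPoly K ⊔ (plIdealTop (d := d) (n := n) K).restrictScalars K

theorem chainMon_mem_stdPoly {m : ℕ} (c : Fin m → Idx d n) (hc : Antitone c) :
    chainMon K c ∈ stdPoly (d := d) (n := n) K :=
  Submodule.subset_span ⟨⟨m, c, hc⟩, rfl⟩

theorem chainMon_snoc {m : ℕ} (c : Fin m → Idx d n) (θ : Idx d n) :
    chainMon K (Fin.snoc c θ : Fin (m + 1) → Idx d n) = chainMon K c * X θ := by
  unfold chainMon
  rw [Fin.prod_univ_castSucc]
  simp

/-- A monomial supported on a chain is a standard monomial. -/
theorem exists_chain (m : ℕ) : ∀ (s : Idx d n →₀ ℕ), Finsupp.degree s = m →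
    (∀ a ∈ s.support, ∀ b ∈ s.support, a ≤ b ∨ b ≤ a) →
    ∃ c : Fin m → Idx d n, Antitone c ∧ (∀ k, c k ∈ s.support) ∧
      monomial s (1 : K) = chainMon K c := by
  induction m with
  | zero =>
    intro s hs _
    have h0 : s = 0 := (Finsupp.degree_eq_zero_iff s).1 hs
    subst h0
    refine ⟨Fin.elim0, fun a => a.elim0, fun k => k.elim0, ?_⟩
    unfold chainMon
    simp
  | succ m ih =>
    intro s hs hch
    have hne : s.support.Nonempty := by
      rw [Finsupp.support_nonempty_iff]
      rintro rfl
      simp at hs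
    obtain ⟨θ, hθ, hmin⟩ := Finset.exists_min_image s.support (fun θ : Idx d n => wt θ.1) hne
    have hθle : ∀ b ∈ s.support, θ ≤ b := by
      intro b hb
      rcases hch θ hθ b hb with h | h
      · exact h
      · rcases eq_or_lt_of_le h with h1 | h1
        · rw [h1]
        · exact absurd (wt_lt_of_lt h1) (not_lt.2 (hmin b hb))
    have hθ1 : 1 ≤ s θ := by
      have := Finsupp.mem_support_iff.1 hθ
      omega
    obtain ⟨s', hs'⟩ : ∃ s', s' = s - Finsupp.single θ 1 := ⟨_, rfl⟩
    have hs's : s = s' + Finsupp.single θ 1 := by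
      rw [hs']
      ext a
      simp only [Finsupp.coe_add, Finsupp.coe_tsub, Pi.add_apply, Pi.sub_apply]
      by_cases ha : a = θ
      · subst ha
        simp only [Finsupp.single_eq_same]
        omega
      · rw [Finsupp.single_eq_of_ne (by exact ha)]
        omega
    have hsub : s'.support ⊆ s.support := by
      intro a ha
      rw [Finsupp.mem_support_iff] at ha ⊢
      rw [hs's]
      simp only [Finsupp.coe_add, Pi.add_apply]
      omega
    have hdeg : Finsupp.degree s' = m := by
      have := hs
      rw [hs's, map_add, Finsupp.degree_single] at this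
      omega
    obtain ⟨c, hc, hcs, hmon⟩ := ih s' hdeg (fun a ha b hb => hch a (hsub ha) b (hsub hb))
    refine ⟨Fin.snoc c θ, ?_, ?_, ?_⟩
    · intro k k' hkk'
      induction k' using Fin.lastCases with
      | last =>
        rw [Fin.snoc_last]
        induction k using Fin.lastCases with
        | last => rw [Fin.snoc_last]
        | cast k =>
          rw [Fin.snoc_castSucc]
          exact hθle _ (hsub (hcs k))
      | cast k' =>
        induction k using Fin.lastCases with
        | last =>
          exfalso
          have := Fin.castSucc_lt_last k'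
          exact absurd (lt_of_le_of_lt hkk' this) (lt_irrefl _)
        | cast k =>
          rw [Fin.snoc_castSucc, Fin.snoc_castSucc]
          exact hc (Fin.castSucc_le_castSucc_iff.1 hkk')
    · intro k
      induction k using Fin.lastCases with
      | last => rw [Fin.snoc_last]; exact hθ
      | cast k => rw [Fin.snoc_castSucc]; exact hsub (hcs k)
    · rw [chainMon_snoc, ← hmon, hs's, X, monomial_mul, mul_one]


theorem stdPlus_sign (k : ℕ) {x : PlRing K d n} (h : x ∈ stdPlus K) :
    (-1 : PlRing K d n) ^ k * x ∈ stdPlus K := by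
  rcases neg_one_pow_eq_or (PlRing K d n) k with h1 | h1
  · rw [h1, one_mul]; exact h
  · rw [h1, neg_one_mul]; exact Submodule.neg_mem _ h

theorem mul_sign_mem {M x y cx cy : PlRing K d n} (k : ℕ) (hx : cx = x ∨ cx = -x)
    (hy : cy = y ∨ cy = -y) (h : M * x * y ∈ stdPlus K) :
    M * ((-1) ^ k * cx * cy) ∈ stdPlus K := by
  have e1 : M * ((-1) ^ k * cx * cy) = (-1) ^ k * (M * cx * cy) := by ring
  rw [e1]
  apply stdPlus_sign
  rcases hx with rfl | rfl <;> rcases hy with rfl | rfl
  · exact h
  · have : M * cx * -y = -(M * cx * y) := by ring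
    rw [this]; exact Submodule.neg_mem _ h
  · have : M * -x * cy = -(M * x * cy) := by ring
    rw [this]; exact Submodule.neg_mem _ h
  · have : M * -x * -y = M * x * y := by ring
    rw [this]; exact h

theorem shuffleTerm_initSeg (i j : Idx d n) (r : Fin d) :
    shuffleTerm K i j r (initSeg r) =
      (-1 : PlRing K d n) ^ shuffleSign r (initSeg r) * X i * X j := by
  unfold shuffleTerm
  rw [dif_pos (card_initSeg r), shuffleI_initSeg, shuffleJ_initSeg, coord_idx, coord_idx]

theorem shuffleRel_mem (i j : Idx d n) (r : Fin d) (h : IsPivot i j r) :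
    shuffleRel K i j r ∈ plIdealTop (d := d) (n := n) K :=
  Ideal.subset_span ⟨i, j, r, h, rfl⟩

theorem monomial_add_two (s' : Idx d n →₀ ℕ) (θ φ : Idx d n) :
    monomial (s' + Finsupp.single θ 1 + Finsupp.single φ 1) (1 : K) =
      monomial s' (1 : K) * X θ * X φ := by
  rw [X, X, monomial_mul, monomial_mul, mul_one, mul_one]

theorem straighten_step (s' : Idx d n →₀ ℕ) (i j : Idx d n) (r : Fin d) (hp : IsPivot i j r)
    (IH : ∀ θ φ : Idx d n, wt i.1 < wt θ.1 → wt θ.1 + wt φ.1 = wt i.1 + wt j.1 →
      monomial (s' + Finsupp.single θ 1 + Finsupp.single φ 1) (1 : K) ∈ stdPlus K) :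
    monomial (s' + Finsupp.single i 1 + Finsupp.single j 1) (1 : K) ∈ stdPlus K := by
  rw [monomial_add_two]
  obtain ⟨M, hM⟩ : ∃ M, M = monomial s' (1 : K) := ⟨_, rfl⟩
  rw [← hM]
  obtain ⟨ε, hε⟩ : ∃ ε, ε = (-1 : PlRing K d n) ^ shuffleSign r (initSeg r) := ⟨_, rfl⟩
  have hεε : ε * ε = 1 := by
    rw [hε, ← mul_pow, neg_mul_neg, one_mul, one_pow]
  have hrel : shuffleRel K i j r = ε * X i * X j +
      ∑ A ∈ Finset.univ.erase (initSeg r), shuffleTerm K i j r A := by
    unfold shuffleRel
    rw [← Finset.add_sum_erase _ _ (Finset.mem_univ (initSeg r)), shuffleTerm_initSeg, hε]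
  have key : M * X i * X j = ε * (M * shuffleRel K i j r) -
      ε * (∑ A ∈ Finset.univ.erase (initSeg r), M * shuffleTerm K i j r A) := by
    rw [hrel, ← Finset.mul_sum]
    linear_combination (-(M * X i * X j)) * hεε
  rw [key]
  apply Submodule.sub_mem
  · rw [hε]
    apply stdPlus_sign
    exact Submodule.mem_sup_right (Ideal.mul_mem_left _ _ (shuffleRel_mem K i j r hp))
  · rw [hε]
    apply stdPlus_sign
    apply Submodule.sum_mem
    intro A hA
    have hne : A ≠ initSeg r := (Finset.mem_erase.1 hA).1
    unfold shuffleTerm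
    split_ifs with hcard
    · rcases coord_cases K (shuffleI i j r A hcard) with h0 | ⟨θ, hθw, hθ⟩
      · rw [h0]; simp
      rcases coord_cases K (shuffleJ i j r A hcard) with h0 | ⟨φ, hφw, hφ⟩
      · rw [h0]; simp
      have hmem := IH θ φ (by rw [hθw]; exact wt_shuffleI_gt i j r hp.2 A hcard hne)
        (by rw [hθw, hφw]; exact wt_shuffle_add i j r A hcard)
      rw [monomial_add_two, ← hM] at hmem
      exact mul_sign_mem K _ hθ hφ hmem
    · rw [mul_zero]; exact Submodule.zero_mem _

/-- Straightening: every monomial is a combination of standard monomials modulo the shuffle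
relations. -/
theorem monomial_mem_stdPlus (s : Idx d n →₀ ℕ) : monomial s (1 : K) ∈ stdPlus K := by
  obtain ⟨k, hk⟩ : ∃ k, k = Finsupp.degree s * (d * n) ^ 2 - pot s := ⟨_, rfl⟩
  induction k using Nat.strong_induction_on generalizing s with
  | _ k ih =>
    by_cases hch : ∀ a ∈ s.support, ∀ b ∈ s.support, a ≤ b ∨ b ≤ a
    · obtain ⟨c, hc, -, hmon⟩ := exists_chain K _ s rfl hch
      rw [hmon]
      exact Submodule.mem_sup_left (chainMon_mem_stdPoly K c hc)
    · push Not at hch
      obtain ⟨a, ha, b, hb, hab, hba⟩ := hch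
      obtain ⟨i, j, hi, hj, hji, hwt⟩ : ∃ i j, i ∈ s.support ∧ j ∈ s.support ∧ ¬ j ≤ i ∧
          wt j.1 ≤ wt i.1 := by
        rcases le_total (wt b.1) (wt a.1) with h | h
        · exact ⟨a, b, ha, hb, hba, h⟩
        · exact ⟨b, a, hb, ha, hab, h⟩
      have hij : i ≠ j := fun h => hji (h ▸ le_refl _)
      have hex : (Finset.univ.filter fun t : Fin d => i.1 t < j.1 t).Nonempty := by
        by_contra hcon
        rw [Finset.not_nonempty_iff_eq_empty, Finset.filter_eq_empty_iff] at hcon
        apply hji
        intro t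
        exact not_lt.1 (hcon (Finset.mem_univ t))
      obtain ⟨r, hr, hrmin⟩ := Finset.exists_min_image _ (fun t : Fin d => t) hex
      rw [Finset.mem_filter] at hr
      have hp : IsPivot i j r := by
        refine ⟨fun t ht => ?_, hr.2⟩
        by_contra hcon
        have := hrmin t (Finset.mem_filter.2 ⟨Finset.mem_univ _, not_le.1 hcon⟩)
        exact absurd ht (not_lt.2 this)
      have hi1 : 1 ≤ s i := by
        have := Finsupp.mem_support_iff.1 hi
        omega
      have hj1 : 1 ≤ s j := by
        have := Finsupp.mem_support_iff.1 hj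
        omega
      obtain ⟨s', hs'⟩ : ∃ s', s' = s - Finsupp.single i 1 - Finsupp.single j 1 := ⟨_, rfl⟩
      have hs's : s = s' + Finsupp.single i 1 + Finsupp.single j 1 := by
        rw [hs']
        ext a
        simp only [Finsupp.coe_add, Finsupp.coe_tsub, Pi.add_apply, Pi.sub_apply]
        by_cases hai : a = i
        · subst hai
          rw [Finsupp.single_eq_same, Finsupp.single_eq_of_ne (by exact hij)]
          omega
        · by_cases haj : a = j
          · subst haj
            rw [Finsupp.single_eq_same, Finsupp.single_eq_of_ne (by exact hai)]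
            omega
          · rw [Finsupp.single_eq_of_ne (by exact hai), Finsupp.single_eq_of_ne (by exact haj)]
            omega
      have hdeg : Finsupp.degree s = Finsupp.degree s' + 2 := by
        rw [hs's, map_add, map_add, Finsupp.degree_single, Finsupp.degree_single]
      have hpot : pot s = pot s' + wt i.1 ^ 2 + wt j.1 ^ 2 := by
        rw [hs's, pot_add, pot_add, pot_single, pot_single]
      rw [hs's]
      apply straighten_step K s' i j r hp
      intro θ φ hθ hsum
      obtain ⟨s₂, hs₂⟩ : ∃ s₂, s₂ = s' + Finsupp.single θ 1 + Finsupp.single φ 1 := ⟨_, rfl⟩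
      rw [← hs₂]
      have hdeg₂ : Finsupp.degree s₂ = Finsupp.degree s' + 2 := by
        rw [hs₂, map_add, map_add, Finsupp.degree_single, Finsupp.degree_single]
      have hpot₂ : pot s₂ = pot s' + wt θ.1 ^ 2 + wt φ.1 ^ 2 := by
        rw [hs₂, pot_add, pot_add, pot_single, pot_single]
      have hlt := sq_add_sq_lt hwt hθ hsum
      have hle := pot_le s₂
      apply ih (Finsupp.degree s₂ * (d * n) ^ 2 - pot s₂) _ s₂ rfl
      rw [hk, hdeg, ← hdeg₂]
      have hle' := pot_le s
      rw [hdeg, ← hdeg₂] at hle'
      generalize Finsupp.degree s₂ * (d * n) ^ 2 = N at *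
      omega

theorem stdPlus_eq_top : stdPlus (d := d) (n := n) K = ⊤ := by
  rw [eq_top_iff]
  intro p hp0
  clear hp0
  induction p using MvPolynomial.induction_on' with
  | monomial s a =>
    have : monomial s a = a • monomial s (1 : K) := by
      rw [smul_monomial, smul_eq_mul, mul_one]
    rw [this]
    exact Submodule.smul_mem _ _ (monomial_mem_stdPlus K s)
  | add p q hp hq => exact Submodule.add_mem _ hp hq

/-- Every polynomial is congruent to a combination of standard monomials modulo the shuffle
relations. -/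
theorem exists_std_sub_mem (f : PlRing K d n) :
    ∃ g ∈ stdPoly (d := d) (n := n) K, f - g ∈ plIdealTop (d := d) (n := n) K := by
  have hf : f ∈ stdPlus (d := d) (n := n) K := by rw [stdPlus_eq_top]; trivial
  obtain ⟨g, hg, h, hh, hsum⟩ := Submodule.mem_sup.1 hf
  refine ⟨g, hg, ?_⟩
  have : f - g = h := by rw [← hsum]; ring
  rw [this]
  exact hh

end Groth.Agent.Lib.helper10.SMT
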