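import Groth.Agent.Lib.Helper10.SMT3

/-!
# Standard monomial theory for the Grassmannian (helper10), part 4: the signed coordinate of a
tuple of rows evaluates to the determinant on these rows
-/

set_option autoImplicit false
set_option linter.unusedSectionVars false
set_option linter.style.haveILetI false

universe u

open MvPolynomial W4bk4grassmannian

namespace Groth.Agent.Lib.helper10.SMT

variable {d n : ℕ}

theorem injective_of_card_image (a : Fin d → Fin n) (h : (Finset.univ.image a).card = d) :
    Function.Injective a := by
  have h1 : (Finset.univ.image a).card = (Finset.univ : Finset (Fin d)).card := by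
    rw [h, Finset.card_univ, Fintype.card_fin]
  have := Finset.card_image_iff.1 h1
  intro x y hxy
  exact this (Finset.mem_coe.2 (Finset.mem_univ x)) (Finset.mem_coe.2 (Finset.mem_univ y)) hxy

/-- The sorting permutation of an injective tuple. -/
theorem exists_perm_sort (a : Fin d → Fin n) (h : (Finset.univ.image a).card = d) :
    ∃ σ : Equiv.Perm (Fin d), ∀ p, (sortIdx d n a h).1 (σ p) = a p := by
  have hinj := injective_of_card_image a h
  have hex : ∀ p, ∃ q, (sortIdx d n a h).1 q = a p := by
    intro p
    have h1 : a p ∈ Set.range (Finset.orderEmbOfFin _ h) := by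
      rw [Finset.range_orderEmbOfFin]
      exact Finset.mem_coe.2 (Finset.mem_image_of_mem _ (Finset.mem_univ p))
    obtain ⟨q, hq⟩ := h1
    exact ⟨q, hq⟩
  choose f hf using hex
  have hfinj : Function.Injective f := by
    intro p p' hpp'
    apply hinj
    rw [← hf p, ← hf p', hpp']
  exact ⟨Equiv.ofBijective f (Finite.injective_iff_bijective.1 hfinj), hf⟩

theorem sign_eq_neg_one_pow_invCount (a : Fin d → Fin n) (hinj : Function.Injective a)
    (θ : Fin d → Fin n) (hθ : StrictMono θ) (σ : Equiv.Perm (Fin d)) (hσ : ∀ p, θ (σ p) = a p) :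
    Equiv.Perm.sign σ = (-1 : ℤˣ) ^ invCount d n a := by
  rw [Equiv.Perm.sign_eq_prod_prod_Ioi]
  have h1 : ∀ i j : Fin d, (σ i < σ j ↔ a i < a j) := by
    intro i j
    rw [← hσ i, ← hσ j, hθ.lt_iff_lt]
  have h2 : ∀ i : Fin d, ∏ j ∈ Finset.Ioi i, (if σ i < σ j then (1 : ℤˣ) else -1) =
      ∏ j : Fin d, (if i < j ∧ a j < a i then (-1 : ℤˣ) else 1) := by
    intro i
    have hIoi : Finset.Ioi i = Finset.univ.filter (fun j => i < j) := by
      ext j; simp
    rw [hIoi, Finset.prod_filter]
    apply Finset.prod_congr rfl
    intro j _
    by_cases hij : i < j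
    · rw [if_pos hij]
      by_cases haij : a i < a j
      · rw [if_pos ((h1 i j).2 haij), if_neg]
        rintro ⟨-, h3⟩
        exact absurd haij (not_lt.2 h3.le)
      · rw [if_neg (fun h3 => haij ((h1 i j).1 h3)), if_pos]
        refine ⟨hij, lt_of_le_of_ne (not_lt.1 haij) ?_⟩
        intro h3
        exact absurd (hinj h3) hij.ne'
    · rw [if_neg hij, if_neg]
      rintro ⟨h3, -⟩
      exact hij h3
  simp_rw [h2]
  rw [← Finset.prod_product' (s := Finset.univ) (t := Finset.univ)
    (f := fun i j : Fin d => (if i < j ∧ a j < a i then (-1 : ℤˣ) else 1))]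
  rw [Finset.prod_ite, Finset.prod_const_one, mul_one, Finset.prod_const]
  unfold invCount
  congr 1

variable (K : Type u) [CommRing K]

/-- The signed coordinate of a tuple of rows evaluates to the determinant on these rows. -/
theorem evalMinors_coord (A : Matrix (Fin n) (Fin d) K) (a : Fin d → Fin n) :
    evalMinors K d n A (coord K d n a) = (A.submatrix a id).det := by
  unfold coord
  by_cases h : (Finset.univ.image a).card = d
  · rw [dif_pos h]
    obtain ⟨σ, hσ⟩ := exists_perm_sort a h
    have hinj := injective_of_card_image a h
    have hsign := sign_eq_neg_one_pow_invCount a hinj _ (sortIdx d n a h).2 σ hσ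
    have hsub : A.submatrix a id = (A.submatrix (sortIdx d n a h).1 id).submatrix σ id := by
      ext p q
      simp only [Matrix.submatrix_apply, id]
      rw [hσ]
    rw [hsub, Matrix.det_permute, hsign, map_mul, map_pow, map_neg, map_one]
    unfold evalMinors
    rw [aeval_X]
    congr 1
    simp
  · rw [dif_neg h, map_zero]
    have hninj : ¬ Function.Injective a := by
      intro hinj
      apply h
      rw [Finset.card_image_of_injective _ hinj, Finset.card_univ, Fintype.card_fin]
    rw [Function.Injective] at hninj
    push Not at hninj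
    obtain ⟨p, q, hpq, hne⟩ := hninj
    symm
    apply Matrix.det_zero_of_row_eq hne
    ext c
    simp only [Matrix.submatrix_apply, id]
    rw [hpq]

end Groth.Agent.Lib.helper10.SMT
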