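import Groth.Agent.Lib.Helper10.SMT4

/-!
# Standard monomial theory for the Grassmannian (helper10), part 5: the abstract shuffle identity
(a signed shuffle sum of products of two alternating maps in more variables than the rank vanishes)
-/

set_option autoImplicit false
set_option linter.unusedSectionVars false
set_option linter.style.haveILetI false

universe u

namespace Groth.Agent.Lib.helper10.SMT

section General

variable {K : Type u} [CommRing K] {V W : Type*} [AddCommGroup V] [Module K V]
  [AddCommGroup W] [Module K W]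

/-- A multilinear map on `Fin N` vanishing on tuples with two adjacent equal entries is
antisymmetric under adjacent swaps. -/
theorem swap_adjacent {N : ℕ} (Φ : MultilinearMap K (fun _ : Fin N => V) W)
    (h : ∀ (v : Fin N → V) (p p' : Fin N), p.val + 1 = p'.val → v p = v p' → Φ v = 0)
    (v : Fin N → V) (p p' : Fin N) (hpp' : p.val + 1 = p'.val) :
    Φ (v ∘ Equiv.swap p p') = -Φ v := by
  have hne : p ≠ p' := by
    intro h1
    rw [h1] at hpp'
    omega
  apply eq_neg_of_add_eq_zero_left
  rw [Equiv.comp_swap_eq_update]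
  have h0 : Φ (Function.update (Function.update v p (v p + v p')) p' (v p + v p')) = 0 := by
    apply h _ p p' hpp'
    rw [Function.update_self, Function.update_of_ne hne, Function.update_self]
  have h1 : Φ (Function.update (Function.update v p (v p)) p' (v p)) = 0 := by
    apply h _ p p' hpp'
    rw [Function.update_self, Function.update_of_ne hne, Function.update_self]
  have h2 : Φ (Function.update (Function.update v p (v p')) p' (v p')) = 0 := by
    apply h _ p p' hpp'
    rw [Function.update_self, Function.update_of_ne hne, Function.update_self]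
  rw [Φ.map_update_add, Function.update_comm hne (v p + v p') (v p) v,
    Function.update_comm hne (v p + v p') (v p') v, Φ.map_update_add, Φ.map_update_add,
    Function.update_comm hne.symm (v p) (v p) v, h1,
    Function.update_comm hne.symm (v p') (v p') v, h2, zero_add, add_zero,
    Function.update_eq_self, Function.update_eq_self] at h0
  exact h0

/-- A multilinear map on `Fin N` vanishing on tuples with two adjacent equal entries is
alternating. -/
theorem alternating_of_adjacent {N : ℕ} (Φ : MultilinearMap K (fun _ : Fin N => V) W)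
    (h : ∀ (v : Fin N → V) (p p' : Fin N), p.val + 1 = p'.val → v p = v p' → Φ v = 0)
    (v : Fin N → V) (p q : Fin N) (hv : v p = v q) (hpq : p ≠ q) : Φ v = 0 := by
  have key : ∀ (g : ℕ) (v : Fin N → V) (p q : Fin N), p.val + 1 + g = q.val → v p = v q →
      Φ v = 0 := by
    intro g
    induction g with
    | zero =>
      intro v p q hg hv
      exact h v p q (by omega) hv
    | succ g ih =>
      intro v p q hg hv
      obtain ⟨q', hq'⟩ : ∃ q' : Fin N, q'.val + 1 = q.val :=
        ⟨⟨q.val - 1, by have := q.isLt; omega⟩, by simp only; omega⟩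
      have hsw := swap_adjacent Φ h v q' q hq'
      have h0 : Φ (v ∘ Equiv.swap q' q) = 0 := by
        apply ih _ p q' (by omega)
        have hpq' : p ≠ q' := by
          intro h1; rw [h1] at hg; omega
        have hpq : p ≠ q := by
          intro h1; rw [h1] at hg; omega
        simp only [Function.comp_apply]
        rw [Equiv.swap_apply_of_ne_of_ne hpq' hpq, Equiv.swap_apply_left]
        exact hv
      rw [h0] at hsw
      exact neg_eq_zero.1 hsw.symm
  rcases lt_or_gt_of_ne hpq with hlt | hlt
  · rw [Fin.lt_def] at hlt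
    exact key (q.val - p.val - 1) v p q (by omega) hv
  · rw [Fin.lt_def] at hlt
    exact key (p.val - q.val - 1) v q p (by omega) hv.symm

end General

section Rank

variable {K : Type u} [CommRing K]

/-- An alternating map in more variables than the rank vanishes. -/
theorem alternating_eq_zero {d N : ℕ} (hdN : d < N) (f : (Fin d → K) [⋀^Fin N]→ₗ[K] K) : f = 0 := by
  apply Module.Basis.ext_alternating (Pi.basisFun K (Fin d))
  intro v hv
  exfalso
  have := Fintype.card_le_of_injective v hv
  rw [Fintype.card_fin, Fintype.card_fin] at this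
  omega

end Rank


section Shuffle

variable {K : Type u} [CommRing K] {V : Type*} [AddCommGroup V] [Module K V]
variable {N k l : ℕ}

/-- The bijection `Fin k ⊕ Fin l ≃ Fin N` listing a subset of cardinality `k` and its complement
in increasing order. -/
noncomputable def splitEquiv (A : Finset (Fin N)) (hA : A.card = k) (hC : Aᶜ.card = l) :
    Fin k ⊕ Fin l ≃ Fin N :=
  Equiv.ofBijective (Sum.elim (A.orderEmbOfFin hA) (Aᶜ.orderEmbOfFin hC)) (by
    constructor
    · apply Function.Injective.sumElim (A.orderEmbOfFin hA).injective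
        (Aᶜ.orderEmbOfFin hC).injective
      intro t u h
      have h1 := Finset.orderEmbOfFin_mem A hA t
      have h2 := Finset.orderEmbOfFin_mem Aᶜ hC u
      rw [h] at h1
      exact (Finset.mem_compl.1 h2) h1
    · intro x
      by_cases hx : x ∈ A
      · have h1 : x ∈ Set.range (A.orderEmbOfFin hA) := by
          rw [Finset.range_orderEmbOfFin]; exact hx
        obtain ⟨t, ht⟩ := h1
        exact ⟨Sum.inl t, ht⟩
      · have h1 : x ∈ Set.range (Aᶜ.orderEmbOfFin hC) := by
          rw [Finset.range_orderEmbOfFin]; exact Finset.mem_coe.2 (Finset.mem_compl.2 hx)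
        obtain ⟨t, ht⟩ := h1
        exact ⟨Sum.inr t, ht⟩)

theorem splitEquiv_inl (A : Finset (Fin N)) (hA : A.card = k) (hC : Aᶜ.card = l) (t : Fin k) :
    splitEquiv A hA hC (Sum.inl t) = A.orderEmbOfFin hA t := rfl

theorem splitEquiv_inr (A : Finset (Fin N)) (hA : A.card = k) (hC : Aᶜ.card = l) (t : Fin l) :
    splitEquiv A hA hC (Sum.inr t) = Aᶜ.orderEmbOfFin hC t := rfl

/-- One term of the shuffle sum as a multilinear map. -/
noncomputable def shufTerm (a : MultilinearMap K (fun _ : Fin k => V) K)
    (b : MultilinearMap K (fun _ : Fin l => V) K)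
    (A : Finset (Fin N)) (hA : A.card = k) (hC : Aᶜ.card = l) :
    MultilinearMap K (fun _ : Fin N => V) K :=
  (MultilinearMap.uncurrySum (N := fun _ : Fin k ⊕ Fin l => V) (a.smulRight b)).domDomCongr
    (splitEquiv A hA hC)

theorem shufTerm_apply (a : MultilinearMap K (fun _ : Fin k => V) K)
    (b : MultilinearMap K (fun _ : Fin l => V) K)
    (A : Finset (Fin N)) (hA : A.card = k) (hC : Aᶜ.card = l) (v : Fin N → V) :
    shufTerm a b A hA hC v =
      a (fun t => v (A.orderEmbOfFin hA t)) * b (fun u => v (Aᶜ.orderEmbOfFin hC u)) := by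
  unfold shufTerm
  rw [MultilinearMap.domDomCongr_apply, MultilinearMap.uncurrySum_apply,
    MultilinearMap.smulRight_apply]
  rfl

/-- The signed shuffle sum as a multilinear map. -/
noncomputable def shufSum (a : MultilinearMap K (fun _ : Fin k => V) K)
    (b : MultilinearMap K (fun _ : Fin l => V) K) (c : ℕ) :
    MultilinearMap K (fun _ : Fin N => V) K :=
  ∑ A : Finset (Fin N), if h : A.card = k ∧ Aᶜ.card = l then
    ((-1 : K) ^ ((A.sum fun x => x.val) - c)) • shufTerm a b A h.1 h.2 else 0

/-- One term of the shuffle sum, evaluated. -/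
noncomputable def shufVal (a : MultilinearMap K (fun _ : Fin k => V) K)
    (b : MultilinearMap K (fun _ : Fin l => V) K) (c : ℕ) (v : Fin N → V)
    (A : Finset (Fin N)) : K :=
  if h : A.card = k ∧ Aᶜ.card = l then
    (-1 : K) ^ ((A.sum fun x => x.val) - c) *
      (a (fun t => v (A.orderEmbOfFin h.1 t)) * b (fun u => v (Aᶜ.orderEmbOfFin h.2 u)))
  else 0

theorem shufSum_apply (a : MultilinearMap K (fun _ : Fin k => V) K)
    (b : MultilinearMap K (fun _ : Fin l => V) K) (c : ℕ) (v : Fin N → V) :
    shufSum (N := N) a b c v = ∑ A : Finset (Fin N), shufVal a b c v A := by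
  unfold shufSum shufVal
  rw [_root_.sum_apply]
  apply Finset.sum_congr rfl
  intro A _
  split_ifs with h
  · rw [_root_.smul_apply, shufTerm_apply, smul_eq_mul]
  · rfl

end Shuffle


section Swap

variable {N : ℕ}

theorem swap_lt_swap (p p' : Fin N) (hpp' : p.val + 1 = p'.val) (x y : Fin N) (hxy : x < y)
    (h : ¬ (x = p ∧ y = p')) : Equiv.swap p p' x < Equiv.swap p p' y := by
  rw [Equiv.swap_apply_def, Equiv.swap_apply_def]
  rw [Fin.lt_def] at hxy
  split_ifs with h1 h2 h3 h4 h5 h6 h7 h8 <;> rw [Fin.lt_def] <;>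
    simp only [Fin.ext_iff] at * <;> omega

theorem exists_emb_eq {m : ℕ} (B : Finset (Fin N)) (hB : B.card = m) (x : Fin N) (hx : x ∈ B) :
    ∃ t, B.orderEmbOfFin hB t = x := by
  have h1 : x ∈ Set.range (B.orderEmbOfFin hB) := by
    rw [Finset.range_orderEmbOfFin]; exact hx
  exact h1

theorem emb_swap {m : ℕ} (B B' : Finset (Fin N)) (hB : B.card = m) (hB' : B'.card = m)
    (p p' : Fin N) (hpp' : p.val + 1 = p'.val)
    (hBB' : ∀ x, x ∈ B' ↔ Equiv.swap p p' x ∈ B) (hx : ¬ (p ∈ B ∧ p' ∈ B)) (t : Fin m) :
    B'.orderEmbOfFin hB' t = Equiv.swap p p' (B.orderEmbOfFin hB t) := by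
  have key := Finset.orderEmbOfFin_unique hB'
    (f := fun t => Equiv.swap p p' (B.orderEmbOfFin hB t))
    (by
      intro t
      rw [hBB', Equiv.swap_apply_self]
      exact Finset.orderEmbOfFin_mem B hB t)
    (by
      intro t t' htt'
      apply swap_lt_swap p p' hpp' _ _ ((B.orderEmbOfFin hB).strictMono htt')
      rintro ⟨h1, h2⟩
      apply hx
      constructor
      · rw [← h1]; exact Finset.orderEmbOfFin_mem B hB t
      · rw [← h2]; exact Finset.orderEmbOfFin_mem B hB t')
  exact (congrFun key t).symm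

theorem mem_map_swap (A : Finset (Fin N)) (p p' x : Fin N) :
    x ∈ A.map (Equiv.swap p p').toEmbedding ↔ Equiv.swap p p' x ∈ A := by
  rw [Finset.mem_map_equiv, Equiv.symm_swap]

theorem map_swap_map_swap (A : Finset (Fin N)) (p p' : Fin N) :
    (A.map (Equiv.swap p p').toEmbedding).map (Equiv.swap p p').toEmbedding = A := by
  ext x
  rw [mem_map_swap, mem_map_swap, Equiv.swap_apply_self]

theorem card_compl_map_swap (A : Finset (Fin N)) (p p' : Fin N) :
    (A.map (Equiv.swap p p').toEmbedding)ᶜ.card = Aᶜ.card := by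
  rw [Finset.card_compl, Finset.card_compl, Finset.card_map]

theorem sum_map_swap (A : Finset (Fin N)) (p p' : Fin N) (hpp' : p.val + 1 = p'.val)
    (hp : p ∈ A) (hp' : p' ∉ A) :
    ((A.map (Equiv.swap p p').toEmbedding).sum fun x => x.val) = (A.sum fun x => x.val) + 1 := by
  rw [Finset.sum_map, ← Finset.add_sum_erase A _ hp, ← Finset.add_sum_erase A (fun x => x.val) hp]
  have h1 : ∑ x ∈ A.erase p, ((Equiv.swap p p').toEmbedding x).val = ∑ x ∈ A.erase p, x.val := by
    apply Finset.sum_congr rfl
    intro x hx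
    rw [Finset.mem_erase] at hx
    have hxp' : x ≠ p' := fun h => hp' (h ▸ hx.2)
    rw [Equiv.coe_toEmbedding, Equiv.swap_apply_of_ne_of_ne hx.1 hxp']
  rw [h1, Equiv.coe_toEmbedding, Equiv.swap_apply_left]
  omega

end Swap

section ShuffleAlt

variable {K : Type u} [CommRing K] {V : Type*} [AddCommGroup V] [Module K V]
variable {N k l : ℕ}

theorem comp_swap_of_eq (v : Fin N → V) (p p' : Fin N) (hv : v p = v p') (x : Fin N) :
    v (Equiv.swap p p' x) = v x := by
  rw [Equiv.swap_apply_def]
  split_ifs with h1 h2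
  · rw [h1]; exact hv.symm
  · rw [h2]; exact hv
  · rfl

theorem shufVal_eq_zero (a : V [⋀^Fin k]→ₗ[K] K) (b : V [⋀^Fin l]→ₗ[K] K) (c : ℕ)
    (v : Fin N → V) (p p' : Fin N) (hne : p ≠ p') (hv : v p = v p') (A : Finset (Fin N))
    (hboth : (p ∈ A ∧ p' ∈ A) ∨ (p ∉ A ∧ p' ∉ A)) :
    shufVal a.toMultilinearMap b.toMultilinearMap c v A = 0 := by
  unfold shufVal
  split_ifs with h
  · rcases hboth with ⟨hp, hp'⟩ | ⟨hp, hp'⟩
    · obtain ⟨t, ht⟩ := exists_emb_eq A h.1 p hp
      obtain ⟨t', ht'⟩ := exists_emb_eq A h.1 p' hp'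
      have htt' : t ≠ t' := by
        intro h1
        rw [h1, ht'] at ht
        exact hne ht.symm
      have h0 : a (fun t => v (A.orderEmbOfFin h.1 t)) = 0 := by
        apply a.map_eq_zero_of_eq _ _ htt'
        show v (A.orderEmbOfFin h.1 t) = v (A.orderEmbOfFin h.1 t')
        rw [ht, ht', hv]
      simp only [AlternatingMap.coe_multilinearMap]
      rw [h0, zero_mul, mul_zero]
    · obtain ⟨t, ht⟩ := exists_emb_eq Aᶜ h.2 p (Finset.mem_compl.2 hp)
      obtain ⟨t', ht'⟩ := exists_emb_eq Aᶜ h.2 p' (Finset.mem_compl.2 hp')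
      have htt' : t ≠ t' := by
        intro h1
        rw [h1, ht'] at ht
        exact hne ht.symm
      have h0 : b (fun t => v (Aᶜ.orderEmbOfFin h.2 t)) = 0 := by
        apply b.map_eq_zero_of_eq _ _ htt'
        show v (Aᶜ.orderEmbOfFin h.2 t) = v (Aᶜ.orderEmbOfFin h.2 t')
        rw [ht, ht', hv]
      simp only [AlternatingMap.coe_multilinearMap]
      rw [h0, mul_zero, mul_zero]
  · rfl

theorem shufVal_flip (a : MultilinearMap K (fun _ : Fin k => V) K)
    (b : MultilinearMap K (fun _ : Fin l => V) K) (c : ℕ)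
    (hc : ∀ A : Finset (Fin N), A.card = k → c ≤ A.sum fun x => x.val)
    (v : Fin N → V) (p p' : Fin N) (hpp' : p.val + 1 = p'.val) (hv : v p = v p')
    (A : Finset (Fin N)) (hp : p ∈ A) (hp' : p' ∉ A) :
    shufVal a b c v (A.map (Equiv.swap p p').toEmbedding) = -shufVal a b c v A := by
  unfold shufVal
  by_cases h : A.card = k ∧ Aᶜ.card = l
  · have h' : (A.map (Equiv.swap p p').toEmbedding).card = k ∧
        (A.map (Equiv.swap p p').toEmbedding)ᶜ.card = l := by
      rw [Finset.card_map, card_compl_map_swap]; exact h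
    rw [dif_pos h, dif_pos h']
    have e1 : ∀ t, (A.map (Equiv.swap p p').toEmbedding).orderEmbOfFin h'.1 t =
        Equiv.swap p p' (A.orderEmbOfFin h.1 t) :=
      emb_swap A _ h.1 h'.1 p p' hpp' (mem_map_swap A p p') (fun h2 => hp' h2.2)
    have e2 : ∀ u, (A.map (Equiv.swap p p').toEmbedding)ᶜ.orderEmbOfFin h'.2 u =
        Equiv.swap p p' (Aᶜ.orderEmbOfFin h.2 u) :=
      emb_swap Aᶜ _ h.2 h'.2 p p' hpp' (by
        intro x
        rw [Finset.mem_compl, Finset.mem_compl, mem_map_swap])
        (fun h2 => (Finset.mem_compl.1 h2.1) hp)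
    simp_rw [e1, e2, comp_swap_of_eq v p p' hv]
    rw [sum_map_swap A p p' hpp' hp hp']
    have h3 := hc A h.1
    have h4 : (A.sum fun x => x.val) + 1 - c = (A.sum fun x => x.val) - c + 1 := by omega
    rw [h4, pow_succ]
    ring
  · have h' : ¬ ((A.map (Equiv.swap p p').toEmbedding).card = k ∧
        (A.map (Equiv.swap p p').toEmbedding)ᶜ.card = l) := by
      rw [Finset.card_map, card_compl_map_swap]; exact h
    rw [dif_neg h, dif_neg h', neg_zero]

/-- The shuffle sum vanishes on tuples with two adjacent equal entries. -/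
theorem shufSum_adjacent (a : V [⋀^Fin k]→ₗ[K] K) (b : V [⋀^Fin l]→ₗ[K] K) (c : ℕ)
    (hc : ∀ A : Finset (Fin N), A.card = k → c ≤ A.sum fun x => x.val)
    (v : Fin N → V) (p p' : Fin N) (hpp' : p.val + 1 = p'.val) (hv : v p = v p') :
    ∑ A : Finset (Fin N), shufVal a.toMultilinearMap b.toMultilinearMap c v A = 0 := by
  have hne : p ≠ p' := by
    intro h1
    rw [h1] at hpp'
    omega
  apply Finset.sum_ninvolution (fun A => A.map (Equiv.swap p p').toEmbedding)
  · intro A
    by_cases hp : p ∈ A <;> by_cases hp' : p' ∈ A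
    · rw [shufVal_eq_zero a b c v p p' hne hv A (Or.inl ⟨hp, hp'⟩),
        shufVal_eq_zero a b c v p p' hne hv _ (Or.inl ⟨by
          rw [mem_map_swap, Equiv.swap_apply_left]; exact hp', by
          rw [mem_map_swap, Equiv.swap_apply_right]; exact hp⟩), add_zero]
    · rw [shufVal_flip _ _ c hc v p p' hpp' hv A hp hp', add_neg_cancel]
    · have h1 := shufVal_flip a.toMultilinearMap b.toMultilinearMap c hc v p p' hpp' hv
        (A.map (Equiv.swap p p').toEmbedding)
        (by rw [mem_map_swap, Equiv.swap_apply_left]; exact hp')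
        (by rw [mem_map_swap, Equiv.swap_apply_right]; exact hp)
      rw [map_swap_map_swap] at h1
      rw [h1, neg_add_cancel]
    · rw [shufVal_eq_zero a b c v p p' hne hv A (Or.inr ⟨hp, hp'⟩),
        shufVal_eq_zero a b c v p p' hne hv _ (Or.inr ⟨by
          rw [mem_map_swap, Equiv.swap_apply_left]; exact hp', by
          rw [mem_map_swap, Equiv.swap_apply_right]; exact hp⟩), add_zero]
  · intro A hT hgA
    by_cases hp : p ∈ A <;> by_cases hp' : p' ∈ A
    · exact hT (shufVal_eq_zero a b c v p p' hne hv A (Or.inl ⟨hp, hp'⟩))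
    · apply hp'
      rw [← hgA, mem_map_swap, Equiv.swap_apply_right]
      exact hp
    · apply hp
      rw [← hgA, mem_map_swap, Equiv.swap_apply_left]
      exact hp'
    · exact hT (shufVal_eq_zero a b c v p p' hne hv A (Or.inr ⟨hp, hp'⟩))
  · intro A
    exact Finset.mem_univ _
  · intro A
    exact map_swap_map_swap A p p'

/-- **The abstract shuffle identity**: a signed shuffle sum of products of two alternating maps in
more variables than the rank vanishes. -/
theorem shuffle_identity {d : ℕ} (hdN : d < N) (a : (Fin d → K) [⋀^Fin k]→ₗ[K] K)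
    (b : (Fin d → K) [⋀^Fin l]→ₗ[K] K) (c : ℕ)
    (hc : ∀ A : Finset (Fin N), A.card = k → c ≤ A.sum fun x => x.val)
    (v : Fin N → (Fin d → K)) :
    ∑ A : Finset (Fin N), shufVal a.toMultilinearMap b.toMultilinearMap c v A = 0 := by
  rw [← shufSum_apply]
  have halt : ∀ (v : Fin N → (Fin d → K)) (p q : Fin N), v p = v q → p ≠ q →
      shufSum (N := N) a.toMultilinearMap b.toMultilinearMap c v = 0 := by
    apply alternating_of_adjacent
    intro v p p' hpp' hv
    rw [shufSum_apply]
    exact shufSum_adjacent a b c hc v p p' hpp' hv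
  have h0 := alternating_eq_zero hdN
    (⟨shufSum (N := N) a.toMultilinearMap b.toMultilinearMap c, halt⟩ :
      (Fin d → K) [⋀^Fin N]→ₗ[K] K)
  have h1 := congrArg (fun f : (Fin d → K) [⋀^Fin N]→ₗ[K] K => f v) h0
  exact h1

end ShuffleAlt

end Groth.Agent.Lib.helper10.SMT
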