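import Groth.Agent.Lib.Helper10.SMT5

/-!
# Standard monomial theory for the Grassmannian (helper10), part 6: the shuffle relations vanish at
the minors of every matrix
-/

set_option autoImplicit false
set_option linter.unusedSectionVars false
set_option linter.style.haveILetI false

universe u

open MvPolynomial W4bk4grassmannian

namespace Groth.Agent.Lib.helper10.SMT

section DetExt

theorem extend_update {α β γ : Type*} [DecidableEq α] [DecidableEq β] (ι : α → β)
    (hι : Function.Injective ι) (u : α → γ) (x : β → γ) (t : α) (z : γ) :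
    Function.extend ι (Function.update u t z) x =
      Function.update (Function.extend ι u x) (ι t) z := by
  funext b
  by_cases hb : ∃ a, ι a = b
  · obtain ⟨a, rfl⟩ := hb
    rw [hι.extend_apply]
    by_cases hat : a = t
    · subst hat
      rw [Function.update_self, Function.update_self]
    · rw [Function.update_of_ne hat, Function.update_of_ne (hι.ne hat), hι.extend_apply]
  · have hne : b ≠ ι t := by
      rintro rfl
      exact hb ⟨t, rfl⟩
    rw [Function.extend_apply' _ _ _ hb, Function.update_of_ne hne,
      Function.extend_apply' _ _ _ hb]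

variable {K : Type u} [CommRing K] {d m : ℕ}

/-- The determinant with the rows at the positions `ι` variable and the other rows fixed. -/
noncomputable def detExt (ι : Fin m → Fin d) (hι : Function.Injective ι)
    (x : Fin d → (Fin d → K)) : (Fin d → K) [⋀^Fin m]→ₗ[K] K where
  toFun u := Matrix.det (Matrix.of (Function.extend ι u x))
  map_update_add' := by
    intro inst u t y z
    have e : inst = instDecidableEqFin m := Subsingleton.elim _ _
    subst e
    rw [extend_update ι hι, extend_update ι hι, extend_update ι hι]
    exact (Matrix.detRowAlternating : (Fin d → K) [⋀^Fin d]→ₗ[K] K).map_update_add _ _ _ _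
  map_update_smul' := by
    intro inst u t c z
    have e : inst = instDecidableEqFin m := Subsingleton.elim _ _
    subst e
    rw [extend_update ι hι, extend_update ι hι]
    exact (Matrix.detRowAlternating : (Fin d → K) [⋀^Fin d]→ₗ[K] K).map_update_smul _ _ _ _
  map_eq_zero_of_eq' := by
    intro u t t' hu htt'
    apply Matrix.det_zero_of_row_eq (hι.ne htt')
    show Function.extend ι u x (ι t) = Function.extend ι u x (ι t')
    rw [hι.extend_apply, hι.extend_apply, hu]

theorem detExt_apply (ι : Fin m → Fin d) (hι : Function.Injective ι)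
    (x : Fin d → (Fin d → K)) (u : Fin m → (Fin d → K)) :
    detExt ι hι x u = Matrix.det (Matrix.of (Function.extend ι u x)) := rfl

end DetExt

section Concrete

variable (K : Type u) [CommRing K] {d n : ℕ}

theorem sum_emb' {N m : ℕ} (A : Finset (Fin N)) (hA : A.card = m) (f : Fin N → ℕ) :
    ∑ u, f (A.orderEmbOfFin hA u) = ∑ a ∈ A, f a := by
  conv_rhs => rw [← Finset.map_orderEmbOfFin_univ A hA]
  rw [Finset.sum_map]
  rfl

theorem gauss_le (r : ℕ) (N : ℕ) (A : Finset (Fin N)) (hA : A.card = r + 1) :
    r * (r + 1) / 2 ≤ A.sum fun x => x.val := by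
  rw [← sum_emb' A hA (fun x => x.val)]
  have h1 : ∑ u : Fin (r + 1), (u : ℕ) ≤ ∑ u, ((A.orderEmbOfFin hA u : Fin N) : ℕ) :=
    Finset.sum_le_sum fun u _ => val_le_of_strictMono _ (A.orderEmbOfFin hA).strictMono u
  have h2 : ∑ u : Fin (r + 1), (u : ℕ) = r * (r + 1) / 2 := by
    rw [Fin.sum_univ_eq_sum_range (fun i => i) (r + 1), Finset.sum_range_id, Nat.add_sub_cancel,
      mul_comm]
  rw [← h2]
  exact h1

section Rows

variable (Amat : Matrix (Fin n) (Fin d) K) (i j : Idx d n) (r : Fin d)

/-- The positions of the first `r + 1` rows. -/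
def posA : Fin (r.val + 1) → Fin d := fun t => ⟨t.val, by have := t.isLt; have := r.isLt; omega⟩

/-- The positions of the last `d - r` rows. -/
def posB : Fin (d - r.val) → Fin d := fun u => ⟨u.val + r.val, by have := u.isLt; omega⟩

theorem posA_injective : Function.Injective (posA r) := by
  intro t t' h
  have := congrArg Fin.val h
  exact Fin.ext this

theorem posB_injective : Function.Injective (posB r) := by
  intro t t' h
  have := congrArg Fin.val h
  apply Fin.ext
  simp only [posB] at this
  omega

theorem detExt_shuffleI (A : Finset (Fin (d + 1))) (hA : A.card = r.val + 1) :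
    detExt (posA r) (posA_injective r) (fun t => Amat (i.1 t))
      (fun t => Amat (movingRows i j r (A.orderEmbOfFin hA t))) =
      (Amat.submatrix (shuffleI i j r A hA) id).det := by
  rw [detExt_apply]
  congr 1
  ext t c
  rw [Matrix.of_apply, Matrix.submatrix_apply, id]
  unfold shuffleI
  by_cases h : t.val ≤ r.val
  · have ht : t = posA r ⟨t.val, by omega⟩ := Fin.ext rfl
    rw [dif_pos h]
    conv_lhs => rw [ht, (posA_injective r).extend_apply]
  · rw [dif_neg h, Function.extend_apply']
    rintro ⟨u, hu⟩
    apply h
    rw [← hu]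
    have := u.isLt
    simp only [posA]
    omega

theorem detExt_shuffleJ (A : Finset (Fin (d + 1))) (hA : A.card = r.val + 1)
    (hC : Aᶜ.card = d - r.val) :
    detExt (posB r) (posB_injective r) (fun t => Amat (j.1 t))
      (fun t => Amat (movingRows i j r (Aᶜ.orderEmbOfFin hC t))) =
      (Amat.submatrix (shuffleJ i j r A hA) id).det := by
  rw [detExt_apply]
  congr 1
  ext t c
  rw [Matrix.of_apply, Matrix.submatrix_apply, id]
  unfold shuffleJ
  by_cases h : t.val < r.val
  · rw [dif_pos h, Function.extend_apply']
    rintro ⟨u, hu⟩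
    rw [← hu] at h
    simp only [posB] at h
    omega
  · have ht : t = posB r ⟨t.val - r.val, by have := t.isLt; omega⟩ :=
      Fin.ext (by simp only [posB]; omega)
    rw [dif_neg h]
    conv_lhs => rw [ht, (posB_injective r).extend_apply]

/-- **The shuffle relations vanish at the minors of every matrix.** -/
theorem evalMinors_shuffleRel : evalMinors K d n Amat (shuffleRel K i j r) = 0 := by
  unfold shuffleRel
  rw [map_sum]
  have hc : ∀ A : Finset (Fin (d + 1)), A.card = r.val + 1 →
      r.val * (r.val + 1) / 2 ≤ A.sum fun x => x.val := fun A hA => gauss_le r.val _ A hA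
  rw [← shuffle_identity (N := d + 1) (k := r.val + 1) (l := d - r.val) (Nat.lt_succ_self d)
    (detExt (posA r) (posA_injective r) (fun t => Amat (i.1 t)))
    (detExt (posB r) (posB_injective r) (fun t => Amat (j.1 t)))
    (r.val * (r.val + 1) / 2) hc (fun k => Amat (movingRows i j r k))]
  apply Finset.sum_congr rfl
  intro A _
  unfold shuffleTerm shufVal
  by_cases hA : A.card = r.val + 1
  · have hC : Aᶜ.card = d - r.val := by
      rw [Finset.card_compl, hA, Fintype.card_fin]; omega
    rw [dif_pos hA, dif_pos ⟨hA, hC⟩, map_mul, map_mul, map_pow, map_neg, map_one,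
      evalMinors_coord, evalMinors_coord]
    simp only [AlternatingMap.coe_multilinearMap]
    rw [detExt_shuffleI K Amat i j r A hA, detExt_shuffleJ K Amat i j r A hA hC, mul_assoc]
    rfl
  · rw [dif_neg hA, dif_neg (fun h => hA h.1), map_zero]

end Rows

/-- The shuffle relations lie in the vanishing ideal of the Grassmannian. -/
theorem plIdealTop_le_ker (Amat : Matrix (Fin n) (Fin d) K) :
    plIdealTop (d := d) (n := n) K ≤ RingHom.ker (evalMinors K d n Amat).toRingHom := by
  unfold plIdealTop
  rw [Ideal.span_le]
  rintro f ⟨i, j, r, -, rfl⟩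
  exact evalMinors_shuffleRel K Amat i j r

theorem plIdealTop_le_vanishing : plIdealTop (d := d) (n := n) K ≤ vanishing K d n := by
  unfold vanishing
  exact le_iInf fun Amat => plIdealTop_le_ker K Amat

theorem plIdealTop_le_schubertVanishing (τ : Idx d n) :
    plIdealTop (d := d) (n := n) K ≤ schubertVanishing K d n τ := by
  unfold schubertVanishing
  exact le_iInf fun Amat => le_iInf fun _ => plIdealTop_le_ker K Amat

theorem plIdeal_eq_sup (τ : Idx d n) : plIdeal K τ = plIdealTop (d := d) (n := n) K ⊔
    Ideal.span {f | ∃ φ : Idx d n, ¬ φ ≤ τ ∧ f = X φ} := by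
  unfold plIdeal plIdealTop
  rw [Ideal.span_union]

theorem X_mem_schubertVanishing (τ φ : Idx d n) (h : ¬ φ ≤ τ) :
    (X φ : PlRing K d n) ∈ schubertVanishing K d n τ := by
  unfold schubertVanishing
  rw [Ideal.mem_iInf]
  intro Amat
  rw [Ideal.mem_iInf]
  intro hA
  rw [RingHom.mem_ker]
  show evalMinors K d n Amat (X φ) = 0
  unfold evalMinors
  rw [aeval_X]
  exact hA φ h

theorem plIdeal_le_schubertVanishing (τ : Idx d n) :
    plIdeal K τ ≤ schubertVanishing K d n τ := by
  rw [plIdeal_eq_sup]
  apply sup_le (plIdealTop_le_schubertVanishing K τ)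
  rw [Ideal.span_le]
  rintro f ⟨φ, hφ, rfl⟩
  exact X_mem_schubertVanishing K τ φ hφ

end Concrete

end Groth.Agent.Lib.helper10.SMT
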