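import Groth.Agent.Lib.Helper10.SMT6

/-!
# Standard monomial theory for the Grassmannian (helper10), part 7: generic matrices of shape `τ`
and the evaluation of Plücker polynomials at their minors
-/

set_option autoImplicit false
set_option linter.unusedSectionVars false
set_option linter.style.haveILetI false

universe u

open MvPolynomial W4bk4grassmannian

namespace Groth.Agent.Lib.helper10.SMT

variable {d n : ℕ}

/-- The minors on rows `φ ≰ τ` of a matrix of shape `τ` vanish. -/
theorem det_eq_zero_of_shape {R : Type*} [CommRing R] (τ φ : Idx d n)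
    (M : Matrix (Fin n) (Fin d) R) (hM : ∀ s t, τ.1 t < s → M s t = 0) (h : ¬ φ ≤ τ) :
    (M.submatrix φ.1 id).det = 0 := by
  obtain ⟨t₀, ht₀⟩ : ∃ t₀, τ.1 t₀ < φ.1 t₀ := by
    by_contra hcon
    push Not at hcon
    exact h (fun t => hcon t)
  rw [Matrix.det_apply]
  apply Finset.sum_eq_zero
  intro σ _
  have hex : ∃ q, q ≤ t₀ ∧ t₀ ≤ σ q := by
    by_contra hcon
    push Not at hcon
    have hmaps : ∀ q ∈ Finset.Iic t₀, σ q ∈ Finset.Iio t₀ :=
      fun q hq => Finset.mem_Iio.2 (hcon q (Finset.mem_Iic.1 hq))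
    have := Finset.card_le_card_of_injOn σ hmaps (σ.injective.injOn)
    rw [Fin.card_Iic, Fin.card_Iio] at this
    omega
  obtain ⟨q, hq1, hq2⟩ := hex
  have hzero : (M.submatrix φ.1 id) (σ q) q = 0 := by
    rw [Matrix.submatrix_apply, id]
    apply hM
    calc τ.1 q ≤ τ.1 t₀ := τ.2.monotone hq1
      _ < φ.1 t₀ := ht₀
      _ ≤ φ.1 (σ q) := φ.2.monotone hq2
  rw [Finset.prod_eq_zero (f := fun i => (M.submatrix φ.1 id) (σ i) i) (Finset.mem_univ q) hzero,
    smul_zero]

variable (K : Type u) [CommRing K]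

/-- The generic matrix of shape `τ`: the entry `(s, t)` is a variable for `s ≤ τ_t` and zero
otherwise. -/
noncomputable def shapeMat (τ : Idx d n) : Matrix (Fin n) (Fin d) (MvPolynomial (Fin n × Fin d) K) :=
  Matrix.of fun s t => if s ≤ τ.1 t then X (s, t) else 0

theorem shapeMat_apply (τ : Idx d n) (s : Fin n) (t : Fin d) :
    shapeMat K τ s t = if s ≤ τ.1 t then X (s, t) else 0 := rfl

/-- Evaluation of Plücker polynomials at the minors of the generic matrix of shape `τ`. -/
noncomputable def shapeEval (τ : Idx d n) : PlRing K d n →ₐ[K] MvPolynomial (Fin n × Fin d) K :=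
  MvPolynomial.aeval fun θ : Idx d n => ((shapeMat K τ).submatrix θ.1 id).det

theorem shapeEval_X (τ θ : Idx d n) :
    shapeEval K τ (X θ) = ((shapeMat K τ).submatrix θ.1 id).det := by
  unfold shapeEval
  rw [aeval_X]

theorem shapeEval_X_eq_zero (τ φ : Idx d n) (h : ¬ φ ≤ τ) : shapeEval K τ (X φ) = 0 := by
  rw [shapeEval_X]
  apply det_eq_zero_of_shape τ φ _ _ h
  intro s t hst
  rw [shapeMat_apply, if_neg (not_le.2 hst)]

theorem eval_shapeEval (τ : Idx d n) (x : Fin n × Fin d → K) (f : PlRing K d n) :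
    eval x (shapeEval K τ f) = evalMinors K d n ((shapeMat K τ).map (eval x)) f := by
  have h : (MvPolynomial.aeval x : MvPolynomial (Fin n × Fin d) K →ₐ[K] K).comp (shapeEval K τ) =
      evalMinors K d n ((shapeMat K τ).map (eval x)) := by
    apply MvPolynomial.algHom_ext
    intro θ
    rw [AlgHom.comp_apply, shapeEval_X]
    unfold evalMinors
    rw [aeval_X, AlgHom.map_det]
    congr 1
  have h1 := DFunLike.congr_fun h f
  rw [AlgHom.comp_apply] at h1
  rw [← h1]
  rfl

theorem shapeMat_map_shape (τ : Idx d n) (x : Fin n × Fin d → K) (s : Fin n) (t : Fin d)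
    (hst : τ.1 t < s) : (shapeMat K τ).map (eval x) s t = 0 := by
  rw [Matrix.map_apply, shapeMat_apply, if_neg (not_le.2 hst), map_zero]

/-- A polynomial in the Schubert vanishing ideal vanishes at the minors of the generic matrix of
shape `τ` (over an infinite domain). -/
theorem shapeEval_eq_zero_of_mem [IsDomain K] [Infinite K] (τ : Idx d n) (f : PlRing K d n)
    (hf : f ∈ schubertVanishing K d n τ) : shapeEval K τ f = 0 := by
  apply MvPolynomial.funext
  intro x
  rw [map_zero, eval_shapeEval]
  unfold schubertVanishing at hf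
  rw [Ideal.mem_iInf] at hf
  have h1 := hf ((shapeMat K τ).map (eval x))
  rw [Ideal.mem_iInf] at h1
  have h2 := h1 (fun φ hφ => det_eq_zero_of_shape τ φ _ (shapeMat_map_shape K τ x) hφ)
  exact h2

end Groth.Agent.Lib.helper10.SMT
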