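import Groth.Agent.Lib.Helper10.SMT7

/-!
# Standard monomial theory for the Grassmannian (helper10), part 8: the leading term of a minor
of the generic matrix of shape `τ` under the weight substitution `x_{s,t} ↦ x_{s,t} u^{s t}`
-/

set_option autoImplicit false
set_option linter.unusedSectionVars false
set_option linter.style.haveILetI false

universe u

open MvPolynomial W4bk4grassmannian

namespace Groth.Agent.Lib.helper10.SMT

variable {d n : ℕ}

/-- The weight `Σ_q θ_q q` of a tuple. -/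
def dwt (θ : Fin d → Fin n) : ℕ := ∑ q : Fin d, (θ q).val * q.val

theorem sum_perm_le (θ : Fin d → Fin n) (hθ : StrictMono θ) (σ : Equiv.Perm (Fin d)) :
    ∑ q : Fin d, (θ (σ q)).val * q.val ≤ dwt θ := by
  have hmv : Monovary (fun q : Fin d => (θ q).val) (fun q : Fin d => q.val) := by
    intro i j hij
    exact hθ.monotone (le_of_lt (Fin.lt_def.2 hij))
  exact hmv.sum_comp_perm_mul_le_sum_mul (σ := σ)

theorem sum_perm_lt (θ : Fin d → Fin n) (hθ : StrictMono θ) (σ : Equiv.Perm (Fin d))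
    (hσ : σ ≠ 1) : ∑ q : Fin d, (θ (σ q)).val * q.val < dwt θ := by
  have hmv : Monovary (fun q : Fin d => (θ q).val) (fun q : Fin d => q.val) := by
    intro i j hij
    exact hθ.monotone (le_of_lt (Fin.lt_def.2 hij))
  apply (hmv.sum_comp_perm_mul_lt_sum_mul_iff (σ := σ)).2
  intro hmv'
  apply hσ
  have hmono : StrictMono σ := by
    intro i j hij
    have h1 : (θ (σ i)).val ≤ (θ (σ j)).val := hmv' (Fin.lt_def.1 hij)
    have h2 : σ i ≤ σ j := hθ.le_iff_le.1 (Fin.le_def.2 h1)
    exact lt_of_le_of_ne h2 (fun h3 => hij.ne (σ.injective h3))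
  have h3 : (σ : Fin d → Fin d) = id := by
    apply (hmono.range_inj strictMono_id).1
    rw [Set.range_id, σ.surjective.range_eq]
  ext q
  rw [h3]
  rfl

variable (K : Type u) [CommRing K]

/-- The weight substitution `x_{s,t} ↦ x_{s,t} u^{s t}`. -/
noncomputable def wtHom : MvPolynomial (Fin n × Fin d) K →+*
    Polynomial (MvPolynomial (Fin n × Fin d) K) :=
  MvPolynomial.eval₂Hom (Polynomial.C.comp MvPolynomial.C)
    (fun p => Polynomial.C (X p) * Polynomial.X ^ (p.1.val * p.2.val))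

theorem wtHom_X (p : Fin n × Fin d) :
    wtHom (d := d) (n := n) K (X p) = Polynomial.C (X p) * Polynomial.X ^ (p.1.val * p.2.val) := by
  unfold wtHom
  rw [MvPolynomial.coe_eval₂Hom, MvPolynomial.eval₂_X]

theorem wtHom_C (a : K) :
    wtHom (d := d) (n := n) K (C a) = Polynomial.C (C a) := by
  unfold wtHom
  rw [MvPolynomial.coe_eval₂Hom, MvPolynomial.eval₂_C]
  rfl

theorem wtHom_entry (τ : Idx d n) (s : Fin n) (t : Fin d) :
    wtHom K (shapeMat K τ s t) =
      if s ≤ τ.1 t then Polynomial.C (X (s, t)) * Polynomial.X ^ (s.val * t.val) else 0 := by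
  rw [shapeMat_apply]
  split_ifs
  · rw [wtHom_X]
  · rw [map_zero]

theorem natDegree_wtHom_entry (τ : Idx d n) (s : Fin n) (t : Fin d) :
    (wtHom K (shapeMat K τ s t)).natDegree ≤ s.val * t.val := by
  rw [wtHom_entry]
  split_ifs
  · exact Polynomial.natDegree_C_mul_X_pow_le _ _
  · simp

/-- The weighted minor. -/
noncomputable def wtMinor (τ θ : Idx d n) : Polynomial (MvPolynomial (Fin n × Fin d) K) :=
  wtHom K (((shapeMat K τ).submatrix θ.1 id).det)

theorem wtMinor_eq_sum (τ θ : Idx d n) : wtMinor K τ θ =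
    ∑ σ : Equiv.Perm (Fin d), (Equiv.Perm.sign σ : ℤ) •
      ∏ q : Fin d, wtHom K (shapeMat K τ (θ.1 (σ q)) q) := by
  unfold wtMinor
  rw [Matrix.det_apply, map_sum]
  apply Finset.sum_congr rfl
  intro σ _
  rw [Units.smul_def, map_zsmul, map_prod]
  rfl

theorem natDegree_term_le (τ θ : Idx d n) (σ : Equiv.Perm (Fin d)) :
    ((Equiv.Perm.sign σ : ℤ) • ∏ q : Fin d, wtHom K (shapeMat K τ (θ.1 (σ q)) q)).natDegree ≤
      ∑ q : Fin d, (θ.1 (σ q)).val * q.val := by
  refine le_trans (Polynomial.natDegree_smul_le _ _) ?_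
  refine le_trans (Polynomial.natDegree_prod_le _ _) ?_
  exact Finset.sum_le_sum fun q _ => natDegree_wtHom_entry K τ _ _

theorem natDegree_wtMinor_le (τ θ : Idx d n) : (wtMinor K τ θ).natDegree ≤ dwt θ.1 := by
  rw [wtMinor_eq_sum]
  apply Polynomial.natDegree_sum_le_of_forall_le
  intro σ _
  exact le_trans (natDegree_term_le K τ θ σ) (sum_perm_le θ.1 θ.2 σ)

/-- The diagonal monomial of a minor. -/
noncomputable def diagMon (θ : Idx d n) : MvPolynomial (Fin n × Fin d) K :=
  ∏ q : Fin d, X (θ.1 q, q)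

theorem coeff_wtMinor (τ θ : Idx d n) (hθ : θ ≤ τ) :
    (wtMinor K τ θ).coeff (dwt θ.1) = diagMon K θ := by
  rw [wtMinor_eq_sum, Polynomial.finsetSum_coeff]
  rw [Finset.sum_eq_single (1 : Equiv.Perm (Fin d))]
  · rw [Equiv.Perm.sign_one, Units.val_one, one_smul]
    have h1 : ∏ q : Fin d, wtHom K (shapeMat K τ (θ.1 ((1 : Equiv.Perm (Fin d)) q)) q) =
        Polynomial.C (diagMon K θ) * Polynomial.X ^ (dwt θ.1) := by
      unfold diagMon dwt
      rw [map_prod, ← Finset.prod_pow_eq_pow_sum, ← Finset.prod_mul_distrib]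
      apply Finset.prod_congr rfl
      intro q _
      rw [Equiv.Perm.one_apply, wtHom_entry, if_pos (hθ q)]
    rw [h1, Polynomial.coeff_C_mul_X_pow, if_pos rfl]
  · intro σ _ hσ
    apply Polynomial.coeff_eq_zero_of_natDegree_lt
    exact lt_of_le_of_lt (natDegree_term_le K τ θ σ) (sum_perm_lt θ.1 θ.2 σ hσ)
  · intro h
    exact absurd (Finset.mem_univ _) h

theorem diagMon_ne_zero [Nontrivial K] [NoZeroDivisors K] (θ : Idx d n) : diagMon K θ ≠ 0 := by
  unfold diagMon
  rw [Finset.prod_ne_zero_iff]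
  intro q _
  exact MvPolynomial.X_ne_zero _

theorem natDegree_wtMinor [Nontrivial K] [NoZeroDivisors K] (τ θ : Idx d n) (hθ : θ ≤ τ) :
    (wtMinor K τ θ).natDegree = dwt θ.1 := by
  apply Polynomial.natDegree_eq_of_le_of_coeff_ne_zero (natDegree_wtMinor_le K τ θ)
  rw [coeff_wtMinor K τ θ hθ]
  exact diagMon_ne_zero K θ

theorem leadingCoeff_wtMinor [Nontrivial K] [NoZeroDivisors K] (τ θ : Idx d n) (hθ : θ ≤ τ) :
    (wtMinor K τ θ).leadingCoeff = diagMon K θ := by
  rw [Polynomial.leadingCoeff, natDegree_wtMinor K τ θ hθ, coeff_wtMinor K τ θ hθ]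

theorem wtMinor_ne_zero [Nontrivial K] [NoZeroDivisors K] (τ θ : Idx d n) (hθ : θ ≤ τ) :
    wtMinor K τ θ ≠ 0 := by
  intro h
  have := leadingCoeff_wtMinor K τ θ hθ
  rw [h, Polynomial.leadingCoeff_zero] at this
  exact diagMon_ne_zero K θ this.symm

/-- The weighted image of a standard monomial. -/
theorem wtHom_chainMon {m : ℕ} (τ : Idx d n) (c : Fin m → Idx d n) :
    wtHom K (shapeEval K τ (chainMon K c)) = ∏ k : Fin m, wtMinor K τ (c k) := by
  unfold chainMon wtMinor
  rw [map_prod, map_prod]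
  apply Finset.prod_congr rfl
  intro k _
  rw [shapeEval_X]

theorem natDegree_wtHom_chainMon [Nontrivial K] [NoZeroDivisors K] {m : ℕ} (τ : Idx d n)
    (c : Fin m → Idx d n) (hc : ∀ k, c k ≤ τ) :
    (wtHom K (shapeEval K τ (chainMon K c))).natDegree = ∑ k : Fin m, dwt (c k).1 := by
  rw [wtHom_chainMon, Polynomial.natDegree_prod _ _ (fun k _ => wtMinor_ne_zero K τ (c k) (hc k))]
  apply Finset.sum_congr rfl
  intro k _
  exact natDegree_wtMinor K τ (c k) (hc k)

theorem leadingCoeff_wtHom_chainMon [Nontrivial K] [NoZeroDivisors K] {m : ℕ} (τ : Idx d n)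
    (c : Fin m → Idx d n) (hc : ∀ k, c k ≤ τ) :
    (wtHom K (shapeEval K τ (chainMon K c))).leadingCoeff = ∏ k : Fin m, diagMon K (c k) := by
  rw [wtHom_chainMon, Polynomial.leadingCoeff_prod]
  apply Finset.prod_congr rfl
  intro k _
  exact leadingCoeff_wtMinor K τ (c k) (hc k)

end Groth.Agent.Lib.helper10.SMT
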