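import Groth.Agent.Lib.Helper10.SMT8

/-!
# Standard monomial theory for the Grassmannian (helper10), part 9: the standard monomials on a
Schubert variety are linearly independent
-/

set_option autoImplicit false
set_option linter.unusedSectionVars false
set_option linter.style.haveILetI false

universe u

open MvPolynomial W4bk4grassmannian

namespace Groth.Agent.Lib.helper10.SMT

variable {d n : ℕ}

section Combinatorics

/-- A down-closed subset of `Fin m` is an initial segment. -/
theorem mem_iff_lt_card_of_downClosed {m : ℕ} (I : Finset (Fin m))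
    (hI : ∀ k ∈ I, ∀ k' : Fin m, k' ≤ k → k' ∈ I) (k : Fin m) : k ∈ I ↔ k.val < I.card := by
  constructor
  · intro hk
    have h1 : Finset.Iic k ⊆ I := fun k' hk' => hI k hk k' (Finset.mem_Iic.1 hk')
    have h2 := Finset.card_le_card h1
    rw [Fin.card_Iic] at h2
    omega
  · intro hk
    by_contra hkI
    have h1 : I ⊆ Finset.Iio k := by
      intro k' hk'
      rw [Finset.mem_Iio]
      by_contra hcon
      exact hkI (hI k' hk' k (not_lt.1 hcon))
    have h2 := Finset.card_le_card h1
    rw [Fin.card_Iio] at h2
    omega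

theorem card_lt_eq_sum {m : ℕ} (f : Fin m → Fin n) (s : Fin n) :
    (Finset.univ.filter fun k => s < f k).card =
      ∑ s' ∈ Finset.univ.filter (fun s' => s < s'), (Finset.univ.filter fun k => f k = s').card := by
  rw [Finset.card_eq_sum_card_fiberwise (f := f) (s := Finset.univ.filter fun k => s < f k)
    (t := Finset.univ.filter fun s' => s < s')]
  · apply Finset.sum_congr rfl
    intro s' hs'
    rw [Finset.mem_filter] at hs'
    congr 1
    ext k
    simp only [Finset.mem_filter, Finset.mem_univ, true_and]
    constructor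
    · rintro ⟨-, h⟩; exact h
    · intro h; exact ⟨h ▸ hs'.2, h⟩
  · intro k hk
    rw [Finset.mem_coe, Finset.mem_filter] at hk ⊢
    exact ⟨Finset.mem_univ _, hk.2⟩

/-- An antitone sequence is determined by the number of times it takes each value. -/
theorem antitone_unique {m : ℕ} (f g : Fin m → Fin n) (hf : Antitone f) (hg : Antitone g)
    (h : ∀ s, (Finset.univ.filter fun k => f k = s).card =
      (Finset.univ.filter fun k => g k = s).card) : f = g := by
  have hN : ∀ s, (Finset.univ.filter fun k => s < f k).card =
      (Finset.univ.filter fun k => s < g k).card := by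
    intro s
    rw [card_lt_eq_sum, card_lt_eq_sum]
    exact Finset.sum_congr rfl fun s' _ => h s'
  have hinit : ∀ (f : Fin m → Fin n), Antitone f → ∀ (s : Fin n) (k : Fin m),
      s < f k ↔ k.val < (Finset.univ.filter fun k => s < f k).card := by
    intro f hf s k
    rw [← mem_iff_lt_card_of_downClosed (Finset.univ.filter fun k => s < f k)]
    · simp
    · intro k hk k' hk'
      rw [Finset.mem_filter] at hk ⊢
      exact ⟨Finset.mem_univ _, lt_of_lt_of_le hk.2 (hf hk')⟩
  funext k
  apply eq_of_forall_lt_iff
  intro s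
  rw [hinit f hf, hinit g hg, hN]

end Combinatorics

section Expo

/-- The exponent vector of the product of the diagonal monomials along a tuple of indices. -/
noncomputable def expo {m : ℕ} (c : Fin m → Idx d n) : (Fin n × Fin d) →₀ ℕ :=
  ∑ k : Fin m, ∑ q : Fin d, Finsupp.single ((c k).1 q, q) 1

theorem expo_apply {m : ℕ} (c : Fin m → Idx d n) (s : Fin n) (q : Fin d) :
    expo c (s, q) = (Finset.univ.filter fun k => (c k).1 q = s).card := by
  unfold expo
  rw [Finsupp.finsetSum_apply, Finset.card_filter]
  apply Finset.sum_congr rfl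
  intro k _
  rw [Finsupp.finsetSum_apply, Finset.sum_eq_single q]
  · rw [Finsupp.single_apply]
    by_cases h : (c k).1 q = s
    · rw [if_pos h, if_pos (by rw [h])]
    · rw [if_neg h, if_neg]
      intro h1
      exact h (congrArg Prod.fst h1)
  · intro q' _ hq'
    rw [Finsupp.single_apply, if_neg]
    intro h1
    exact hq' (congrArg Prod.snd h1)
  · intro h
    exact absurd (Finset.mem_univ _) h

theorem sum_expo {m : ℕ} (c : Fin m → Idx d n) (q : Fin d) :
    ∑ s : Fin n, expo c (s, q) = m := by
  simp_rw [expo_apply]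
  have := Finset.card_eq_sum_card_fiberwise (f := fun k : Fin m => (c k).1 q)
    (s := Finset.univ) (t := Finset.univ) (fun k _ => Finset.mem_coe.2 (Finset.mem_univ _))
  rw [Finset.card_univ, Fintype.card_fin] at this
  exact this.symm

/-- A standard chain is determined by its exponent vector. -/
theorem chain_unique (hd : 0 < d) {m m' : ℕ} (c : Fin m → Idx d n) (c' : Fin m' → Idx d n)
    (hc : Antitone c) (hc' : Antitone c') (h : expo c = expo c') :
    (⟨m, ⟨c, hc⟩⟩ : Σ m : ℕ, {c : Fin m → Idx d n // Antitone c}) = ⟨m', ⟨c', hc'⟩⟩ := by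
  have hm : m = m' := by
    rw [← sum_expo c ⟨0, hd⟩, ← sum_expo c' ⟨0, hd⟩, h]
  subst hm
  have hcc' : c = c' := by
    funext k
    apply Subtype.ext
    funext q
    have h1 : (fun k => (c k).1 q) = (fun k => (c' k).1 q) := by
      apply antitone_unique
      · intro k k' hkk'
        exact hc hkk' q
      · intro k k' hkk'
        exact hc' hkk' q
      · intro s
        rw [← expo_apply, ← expo_apply, h]
    exact congrFun h1 k
  subst hcc'
  rfl

variable (K : Type u) [CommRing K]

theorem prod_diagMon {m : ℕ} (c : Fin m → Idx d n) :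
    ∏ k : Fin m, diagMon K (c k) = monomial (expo c) (1 : K) := by
  unfold expo diagMon
  rw [monomial_sum_one]
  apply Finset.prod_congr rfl
  intro k _
  rw [monomial_sum_one]
  rfl

end Expo

section Independence

variable (K : Type u) [Field K] [Infinite K]

/-- **Linear independence of the standard monomials on a Schubert variety**: a linear combination
of standard monomials below `τ` lying in the Schubert vanishing ideal has zero coefficients. -/
theorem std_independent (hd : 0 < d) (τ : Idx d n)
    (F : Finset (Σ m : ℕ, {c : Fin m → Idx d n // Antitone c}))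
    (lam : (Σ m : ℕ, {c : Fin m → Idx d n // Antitone c}) → K)
    (hF : ∀ c ∈ F, ∀ k, c.2.1 k ≤ τ)
    (hsum : ∑ c ∈ F, lam c • chainMon K c.2.1 ∈ schubertVanishing K d n τ) :
    ∀ c ∈ F, lam c = 0 := by
  classical
  by_contra hcon
  push Not at hcon
  obtain ⟨c₁, hc₁F, hc₁⟩ := hcon
  obtain ⟨E, hE⟩ : ∃ E : (Σ m : ℕ, {c : Fin m → Idx d n // Antitone c}) → ℕ,
      E = fun c => ∑ k, dwt (c.2.1 k).1 := ⟨_, rfl⟩
  obtain ⟨c₀, hc₀, hmax⟩ := Finset.exists_max_image (F.filter fun c => lam c ≠ 0) E
    ⟨c₁, Finset.mem_filter.2 ⟨hc₁F, hc₁⟩⟩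
  rw [Finset.mem_filter] at hc₀
  have h0 := shapeEval_eq_zero_of_mem K τ _ hsum
  have h1 := congrArg (fun P => MvPolynomial.coeff (expo c₀.2.1) ((wtHom K P).coeff (E c₀))) h0
  simp only [map_sum, map_zero, Polynomial.finsetSum_coeff, Polynomial.coeff_zero,
    MvPolynomial.coeff_sum, MvPolynomial.coeff_zero] at h1
  have hterm : ∀ c ∈ F, MvPolynomial.coeff (expo c₀.2.1)
      ((wtHom K (shapeEval K τ (lam c • chainMon K c.2.1))).coeff (E c₀)) =
      if c = c₀ then lam c₀ else 0 := by
    intro c hcF
    rw [map_smul, MvPolynomial.smul_eq_C_mul, map_mul, wtHom_C, Polynomial.coeff_C_mul,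
      MvPolynomial.coeff_C_mul]
    by_cases hlam : lam c = 0
    · rw [hlam, zero_mul]
      split_ifs with h
      · rw [h] at hlam; exact absurd hlam hc₀.2
      · rfl
    · have hEc : E c ≤ E c₀ := hmax c (Finset.mem_filter.2 ⟨hcF, hlam⟩)
      have hnat := natDegree_wtHom_chainMon K τ c.2.1 (hF c hcF)
      have hEc' : E c = ∑ k, dwt (c.2.1 k).1 := by rw [hE]
      rcases lt_or_eq_of_le hEc with hlt | heq
      · rw [Polynomial.coeff_eq_zero_of_natDegree_lt (by rw [hnat, ← hEc']; exact hlt),
          MvPolynomial.coeff_zero, mul_zero, if_neg]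
        rintro rfl
        exact absurd hlt (lt_irrefl _)
      · have hlc := leadingCoeff_wtHom_chainMon K τ c.2.1 (hF c hcF)
        rw [Polynomial.leadingCoeff, hnat, ← hEc', heq, prod_diagMon] at hlc
        rw [hlc, MvPolynomial.coeff_monomial]
        by_cases hcc : c = c₀
        · subst hcc
          rw [if_pos rfl, if_pos rfl, mul_one]
        · rw [if_neg hcc, if_neg, mul_zero]
          intro hexp
          apply hcc
          obtain ⟨m, c, hcanti⟩ := c
          obtain ⟨m₀, c₀, hc₀anti⟩ := c₀
          exact chain_unique hd c c₀ hcanti hc₀anti hexp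
  rw [Finset.sum_congr rfl hterm, Finset.sum_ite_eq' F c₀, if_pos hc₀.1] at h1
  exact hc₀.2 h1

end Independence

end Groth.Agent.Lib.helper10.SMT
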