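import Mathlib

set_option autoImplicit false
set_option linter.style.haveILetI false

namespace Groth.Agent.Lib.helper10

namespace SVComb

theorem strictMono_add_le {n : ℕ} {J : Fin n → ℕ} (hJ : StrictMono J) {a b : Fin n} (hab : a ≤ b) :
    J a + (b.1 - a.1) ≤ J b := by
  obtain ⟨d, hd⟩ : ∃ d, b.1 = a.1 + d := Nat.exists_eq_add_of_le hab
  induction d generalizing b with
  | zero =>
    have : b = a := Fin.ext (by omega)
    subst this
    simp
  | succ d ih =>
    have hb' : a.1 + d < n := by have := b.2; omega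
    have h1 := ih (b := ⟨a.1 + d, hb'⟩) (by simp [Fin.le_def]) rfl
    have hlt : J ⟨a.1 + d, hb'⟩ < J b := hJ (Fin.lt_def.mpr (by simp only; omega))
    simp only [add_tsub_cancel_left] at h1
    omega

theorem sum_fin_succ (n : ℕ) : 2 * ∑ l : Fin n, (l.1 + 1) = n * (n + 1) := by
  rw [Fin.sum_univ_eq_sum_range (fun i => i + 1) n, Finset.sum_add_distrib, Finset.sum_const,
    Finset.card_range, smul_eq_mul, mul_one, mul_add, mul_comm 2 (∑ i ∈ Finset.range n, i),
    Finset.sum_range_id_mul_two]
  cases n with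
  | zero => simp
  | succ n => simp; ring

theorem sum_ite_tail {n g : ℕ} (hgn : g ≤ n) :
    ∑ l : Fin n, (if l.1 < n - g then 0 else g) = g * g := by
  rw [Fin.sum_univ_eq_sum_range (fun i => if i < n - g then 0 else g) n]
  obtain ⟨m, rfl⟩ : ∃ m, n = m + g := ⟨n - g, by omega⟩
  rw [Nat.add_sub_cancel, Finset.sum_range_add]
  have h1 : ∑ x ∈ Finset.range m, (if x < m then 0 else g) = 0 := by
    apply Finset.sum_eq_zero
    intro x hx
    rw [if_pos (Finset.mem_range.mp hx)]
  have h2 : ∑ x ∈ Finset.range g, (if m + x < m then 0 else g) = g * g := by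
    rw [Finset.sum_congr rfl (g := fun _ => g)]
    · simp
    · intro x _
      rw [if_neg (by omega)]
  rw [h1, h2, zero_add]

/-- The sum of orders at `P₀` of the complete linear system `|(n+g)P₀|`. -/
theorem sum_le_of_orders {n g : ℕ} (hgn : g < n) (J' : Fin n → ℕ) (hmono : StrictMono J')
    (h1 : ∀ l, 1 ≤ J' l) (h2 : ∀ l, J' l ≤ n + g)
    (h3 : ∀ j, 1 ≤ j → j ≤ n - g → j ∈ Set.range J') :
    2 * ∑ l, J' l ≤ n * (n + 1) + 2 * g ^ 2 := by
  have hn : 0 < n := by omega
  have hi : ∀ l : Fin n, l.1 + 1 ≤ J' l := by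
    intro l
    have := strictMono_add_le hmono (a := ⟨0, hn⟩) (b := l) (by simp [Fin.le_def])
    have h0 := h1 ⟨0, hn⟩
    simp only [tsub_zero] at this
    omega
  have hii : ∀ l : Fin n, J' l ≤ l.1 + 1 + g := by
    intro l
    have := strictMono_add_le hmono (a := l) (b := ⟨n - 1, by omega⟩)
      (by simp [Fin.le_def]; have := l.2; omega)
    have h0 := h2 ⟨n - 1, by omega⟩
    simp only at this
    have := l.2
    omega
  have hiii : ∀ m : ℕ, ∀ l : Fin n, l.1 = m → m < n - g → J' l = m + 1 := by
    intro m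
    induction m using Nat.strong_induction_on with
    | _ m ih =>
      intro l hl hm
      obtain ⟨i, hi'⟩ := h3 (m + 1) (by omega) (by omega)
      rcases lt_trichotomy i.1 m with hlt | heq | hgt
      · have := ih i.1 hlt i rfl (by omega)
        omega
      · have : i = l := Fin.ext (by omega)
        rw [← this]
        exact hi'
      · have hlt : J' l < J' i := hmono (Fin.lt_def.mpr (by omega))
        have := hi l
        omega
  have hb : ∀ l : Fin n, J' l ≤ (l.1 + 1) + (if l.1 < n - g then 0 else g) := by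
    intro l
    by_cases hl : l.1 < n - g
    · rw [if_pos hl, hiii l.1 l rfl hl]
    · rw [if_neg hl]
      exact hii l
  calc 2 * ∑ l, J' l ≤ 2 * ∑ l : Fin n, ((l.1 + 1) + (if l.1 < n - g then 0 else g)) :=
        Nat.mul_le_mul_left 2 (Finset.sum_le_sum fun l _ => hb l)
    _ = n * (n + 1) + 2 * g ^ 2 := by
        rw [Finset.sum_add_distrib, mul_add, sum_fin_succ, sum_ite_tail hgn.le]
        ring

/-- strictly increasing sequences are bounded below by the index -/
theorem sum_ge_of_strictMono {n : ℕ} (J : Fin n → ℕ) (hmono : StrictMono J) :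
    n * (n - 1) ≤ 2 * ∑ l, J l := by
  have hi : ∀ l : Fin n, l.1 ≤ J l := by
    intro l
    have hn : 0 < n := lt_of_le_of_lt (Nat.zero_le _) l.2
    have := strictMono_add_le hmono (a := ⟨0, hn⟩) (b := l) (by simp [Fin.le_def])
    simp only [tsub_zero] at this
    omega
  calc n * (n - 1) = 2 * ∑ l : Fin n, l.1 := by
        rw [Fin.sum_univ_eq_sum_range (fun i => i) n, mul_comm 2, Finset.sum_range_id_mul_two]
    _ ≤ 2 * ∑ l, J l := Nat.mul_le_mul_left 2 (Finset.sum_le_sum fun l _ => hi l)

end SVComb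

end Groth.Agent.Lib.helper10
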