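import Mathlib

/-!
# Intertwiners between endomorphisms: products and transport
-/

namespace Groth.Agent.Lib.helper10.SemiHom

open Polynomial Module

variable {K : Type*} [Field K]

section basic

variable {V W : Type*} [AddCommGroup V] [Module K V] [AddCommGroup W] [Module K W]

/-- the space of intertwiners `h ∘ π = ρ ∘ h` -/
def inter (π : End K V) (ρ : End K W) : Submodule K (V →ₗ[K] W) :=
  LinearMap.ker (LinearMap.lcomp K W π - LinearMap.llcomp K V W W ρ)

lemma mem_inter {π : End K V} {ρ : End K W} {h : V →ₗ[K] W} :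
    h ∈ inter π ρ ↔ h ∘ₗ π = ρ ∘ₗ h := by
  rw [inter, LinearMap.mem_ker, LinearMap.sub_apply, sub_eq_zero]
  exact Iff.rfl

lemma inter_apply {π : End K V} {ρ : End K W} {h : V →ₗ[K] W} (hh : h ∈ inter π ρ) (v : V) :
    h (π v) = ρ (h v) := LinearMap.congr_fun (mem_inter.mp hh) v

lemma inter_aeval {π : End K V} {ρ : End K W} {h : V →ₗ[K] W} (hh : h ∈ inter π ρ) (p : K[X])
    (v : V) : h (aeval π p v) = aeval ρ p (h v) := by
  have hpow : ∀ (n : ℕ) (v : V), h ((π ^ n) v) = (ρ ^ n) (h v) := by
    intro n
    induction n with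
    | zero => intro v; simp
    | succ n ih =>
      intro v
      rw [pow_succ, Module.End.mul_apply, ih, inter_apply hh, pow_succ, Module.End.mul_apply]
  rw [aeval_eq_sum_range, aeval_eq_sum_range, LinearMap.sum_apply, LinearMap.sum_apply, map_sum]
  refine Finset.sum_congr rfl fun i _ => ?_
  rw [LinearMap.smul_apply, LinearMap.smul_apply, map_smul, hpow]

end basic

section transport

variable {V V' W : Type*} [AddCommGroup V] [Module K V] [AddCommGroup V'] [Module K V']
  [AddCommGroup W] [Module K W]

/-- transport of intertwiners along an equivalence in the first variable -/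
def interCongr (e : V ≃ₗ[K] V') (π : End K V) (π' : End K V') (he : e ∘ₗ π = π' ∘ₗ e)
    (ρ : End K W) : inter π ρ ≃ₗ[K] inter π' ρ where
  toFun h := ⟨h.1 ∘ₗ e.symm.toLinearMap, by
    rw [mem_inter]
    ext v
    obtain ⟨v, rfl⟩ := e.surjective v
    have h1 : π' (e v) = e (π v) := (LinearMap.congr_fun he v).symm
    simp [h1, inter_apply h.2]⟩
  invFun h := ⟨h.1 ∘ₗ e.toLinearMap, by
    rw [mem_inter]
    ext v
    have h1 : e (π v) = π' (e v) := LinearMap.congr_fun he v
    simp [h1, inter_apply h.2]⟩
  map_add' x y := by ext; simp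
  map_smul' c x := by ext; simp
  left_inv h := by ext; simp
  right_inv h := by ext; simp

lemma finrank_inter_congr (e : V ≃ₗ[K] V') (π : End K V) (π' : End K V')
    (he : e ∘ₗ π = π' ∘ₗ e) (ρ : End K W) :
    finrank K (inter π ρ) = finrank K (inter π' ρ) :=
  (interCongr e π π' he ρ).finrank_eq

lemma aeval_congr (e : V ≃ₗ[K] V') (π : End K V) (π' : End K V')
    (he : e ∘ₗ π = π' ∘ₗ e) (p : K[X]) (v : V) : e (aeval π p v) = aeval π' p (e v) := by
  have : e.toLinearMap ∈ inter π π' := mem_inter.mpr he
  exact inter_aeval this p v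

/-- transport of kernels of polynomials -/
def kerCongr (e : V ≃ₗ[K] V') (π : End K V) (π' : End K V') (he : e ∘ₗ π = π' ∘ₗ e)
    (p : K[X]) : LinearMap.ker (aeval π p) ≃ₗ[K] LinearMap.ker (aeval π' p) where
  toFun v := ⟨e v.1, by
    rw [LinearMap.mem_ker, ← aeval_congr e π π' he, LinearMap.mem_ker.mp v.2, map_zero]⟩
  invFun v := ⟨e.symm v.1, by
    rw [LinearMap.mem_ker]
    apply e.injective
    rw [aeval_congr e π π' he, e.apply_symm_apply, LinearMap.mem_ker.mp v.2, map_zero]⟩
  map_add' x y := by ext; simp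
  map_smul' c x := by ext; simp
  left_inv h := by ext; simp
  right_inv h := by ext; simp

lemma finrank_ker_congr (e : V ≃ₗ[K] V') (π : End K V) (π' : End K V')
    (he : e ∘ₗ π = π' ∘ₗ e) (p : K[X]) :
    finrank K (LinearMap.ker (aeval π p)) = finrank K (LinearMap.ker (aeval π' p)) :=
  (kerCongr e π π' he p).finrank_eq

lemma charpoly_congr [Module.Finite K V] [Module.Finite K V'] (e : V ≃ₗ[K] V') (π : End K V)
    (π' : End K V') (he : e ∘ₗ π = π' ∘ₗ e) : π.charpoly = π'.charpoly := by
  have : π' = e.conj π := by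
    ext v
    obtain ⟨v, rfl⟩ := e.surjective v
    simp only [LinearEquiv.conj_apply, LinearMap.comp_apply, LinearEquiv.coe_coe,
      LinearEquiv.symm_apply_apply]
    exact (LinearMap.congr_fun he v).symm
  rw [this, LinearEquiv.charpoly_conj]

end transport

section prod

variable {V V' W : Type*} [AddCommGroup V] [Module K V] [AddCommGroup V'] [Module K V']
  [AddCommGroup W] [Module K W]

/-- intertwiners out of a product -/
def interProd (a : End K V) (b : End K V') (ρ : End K W) :
    (inter a ρ × inter b ρ) ≃ₗ[K] inter (a.prodMap b) ρ where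
  toFun x := ⟨x.1.1.coprod x.2.1, by
    rw [mem_inter]
    ext v
    · simp [inter_apply x.1.2]
    · simp [inter_apply x.2.2]⟩
  invFun h := (⟨h.1 ∘ₗ LinearMap.inl K V V', by
      rw [mem_inter]
      ext v
      have := inter_apply h.2 (v, 0)
      simpa using this⟩,
    ⟨h.1 ∘ₗ LinearMap.inr K V V', by
      rw [mem_inter]
      ext v
      have := inter_apply h.2 (0, v)
      simpa using this⟩)
  map_add' x y := by ext <;> simp
  map_smul' c x := by ext <;> simp
  left_inv h := by ext <;> simp
  right_inv h := by ext <;> simp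

lemma finrank_inter_prodMap [Module.Finite K V] [Module.Finite K V'] [Module.Finite K W]
    (a : End K V) (b : End K V') (ρ : End K W) :
    finrank K (inter (a.prodMap b) ρ) = finrank K (inter a ρ) + finrank K (inter b ρ) := by
  rw [← (interProd a b ρ).finrank_eq, Module.finrank_prod]

lemma aeval_prodMap (a : End K V) (b : End K V') (p : K[X]) :
    aeval (a.prodMap b) p = (aeval a p).prodMap (aeval b p) := by
  have h1 : a.prodMap b = LinearMap.prodMapAlgHom K V V' (a, b) := rfl
  rw [h1, aeval_algHom_apply, aeval_prod_apply]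
  rfl

/-- kernel of a product map -/
def kerProd (f : End K V) (g : End K V') :
    (LinearMap.ker f × LinearMap.ker g) ≃ₗ[K] LinearMap.ker (f.prodMap g) where
  toFun x := ⟨(x.1.1, x.2.1), by
    rw [LinearMap.mem_ker]
    simp [LinearMap.mem_ker.mp x.1.2, LinearMap.mem_ker.mp x.2.2]⟩
  invFun x := (⟨x.1.1, by
      have := LinearMap.mem_ker.mp x.2
      rw [LinearMap.prodMap_apply, Prod.mk_eq_zero] at this
      exact this.1⟩, ⟨x.1.2, by
      have := LinearMap.mem_ker.mp x.2
      rw [LinearMap.prodMap_apply, Prod.mk_eq_zero] at this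
      exact this.2⟩)
  map_add' x y := by ext <;> simp
  map_smul' c x := by ext <;> simp
  left_inv h := by ext <;> simp
  right_inv h := by ext <;> simp

lemma finrank_ker_aeval_prodMap [Module.Finite K V] [Module.Finite K V']
    (a : End K V) (b : End K V') (p : K[X]) :
    finrank K (LinearMap.ker (aeval (a.prodMap b) p)) =
      finrank K (LinearMap.ker (aeval a p)) + finrank K (LinearMap.ker (aeval b p)) := by
  rw [aeval_prodMap, ← (kerProd (aeval a p) (aeval b p)).finrank_eq, Module.finrank_prod]

end prod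

end Groth.Agent.Lib.helper10.SemiHom
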