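import Mathlib
import Groth.Agent.Lib.Helper10.SemiHom1

/-!
# Simple endomorphisms: irreducible characteristic polynomial, intertwiners, kernels
-/

namespace Groth.Agent.Lib.helper10.SemiHom

open Polynomial Module

variable {K : Type*} [Field K]

variable {V W : Type*} [AddCommGroup V] [Module K V] [AddCommGroup W] [Module K W]

/-- an endomorphism of a nonzero space with no nontrivial invariant subspace -/
def IsSimpleEnd (π : End K V) : Prop :=
  Nontrivial V ∧ ∀ p ∈ π.invtSubmodule, p = ⊥ ∨ p = ⊤

lemma self_mem_inter (π : End K V) : π ∈ inter π π := mem_inter.mpr rfl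

lemma ker_aeval_mem_invt (π : End K V) (P : K[X]) :
    LinearMap.ker (aeval π P) ∈ π.invtSubmodule := by
  rw [Module.End.mem_invtSubmodule]
  intro x hx
  rw [Submodule.mem_comap, LinearMap.mem_ker, ← inter_aeval (self_mem_inter π),
    LinearMap.mem_ker.mp hx, map_zero]

/-- evaluation at a vector -/
noncomputable def ev (π : End K V) (v : V) : K[X] →ₗ[K] V :=
  (LinearMap.applyₗ v : (V →ₗ[K] V) →ₗ[K] V) ∘ₗ (aeval π : K[X] →ₐ[K] End K V).toLinearMap

@[simp] lemma ev_apply (π : End K V) (v : V) (p : K[X]) : ev π v p = aeval π p v := rfl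

lemma ev_X_mul (π : End K V) (v : V) (p : K[X]) : ev π v (X * p) = π (ev π v p) := by
  simp [ev_apply, map_mul, aeval_X, Module.End.mul_apply]

lemma ev_surjective {π : End K V} (hs : IsSimpleEnd π) {v : V} (hv : v ≠ 0) :
    Function.Surjective (ev π v) := by
  rw [← LinearMap.range_eq_top]
  have hinv : LinearMap.range (ev π v) ∈ π.invtSubmodule := by
    rw [Module.End.mem_invtSubmodule]
    rintro _ ⟨p, rfl⟩
    exact ⟨X * p, ev_X_mul π v p⟩
  rcases hs.2 _ hinv with h | h
  · exfalso
    have : v ∈ LinearMap.range (ev π v) := ⟨1, by simp⟩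
    rw [h] at this
    exact hv ((Submodule.mem_bot K).mp this)
  · exact h

variable [Module.Finite K V]

lemma minpoly_irreducible {π : End K V} (hs : IsSimpleEnd π) : Irreducible (minpoly K π) := by
  have := hs.1
  have hint : IsIntegral K π := LinearMap.isIntegral π
  obtain ⟨P, hPm, hPi, hPd⟩ := Polynomial.exists_monic_irreducible_factor (minpoly K π)
    (minpoly.not_isUnit K π)
  rcases hs.2 _ (ker_aeval_mem_invt π P) with h | h
  · exfalso
    obtain ⟨c, hc⟩ := hPd
    have hc0 : c ≠ 0 := by
      rintro rfl
      rw [mul_zero] at hc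
      exact minpoly.ne_zero hint hc
    have h0 : aeval π c = 0 := by
      ext x
      have h1 : aeval π (minpoly K π) x = 0 := by rw [minpoly.aeval]; rfl
      rw [hc, map_mul, Module.End.mul_apply] at h1
      have h2 : aeval π c x ∈ LinearMap.ker (aeval π P) := h1
      rw [h] at h2
      simpa using h2
    obtain ⟨d, hd⟩ := minpoly.dvd K π h0
    rw [hc] at hd
    have h3 : c * 1 = c * (P * d) := by rw [mul_one]; nth_rewrite 1 [hd]; ring
    have h4 : 1 = P * d := mul_left_cancel₀ hc0 h3
    exact hPi.not_isUnit (IsUnit.of_mul_eq_one _ h4.symm)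
  · have h0 : aeval π P = 0 := by
      ext x
      have : x ∈ LinearMap.ker (aeval π P) := by rw [h]; trivial
      simpa using this
    have h1 := minpoly.dvd K π h0
    have h2 : minpoly K π = P :=
      Polynomial.eq_of_monic_of_associated (minpoly.monic hint) hPm (associated_of_dvd_dvd h1 hPd)
    rw [h2]; exact hPi

lemma mem_ker_ev_iff {π : End K V} (hs : IsSimpleEnd π) {v : V} (hv : v ≠ 0) (p : K[X]) :
    ev π v p = 0 ↔ minpoly K π ∣ p := by
  constructor
  · intro h
    by_contra hnd
    have hcop : IsCoprime (minpoly K π) p :=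
      (minpoly_irreducible hs).coprime_iff_not_dvd.mpr hnd
    obtain ⟨a, b, hab⟩ := hcop
    apply hv
    have h1 : aeval π (a * minpoly K π + b * p) v = v := by rw [hab]; simp
    rw [map_add, map_mul, map_mul, minpoly.aeval, mul_zero, zero_add, Module.End.mul_apply] at h1
    rw [ev_apply] at h
    rw [h, map_zero] at h1
    exact h1.symm
  · rintro ⟨c, rfl⟩
    rw [ev_apply, map_mul, minpoly.aeval, zero_mul]; rfl

lemma finrank_eq_natDegree_minpoly {π : End K V} (hs : IsSimpleEnd π) :
    finrank K V = (minpoly K π).natDegree := by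
  have := hs.1
  obtain ⟨v, hv⟩ := exists_ne (0 : V)
  have hker : LinearMap.ker (ev π v) = (Ideal.span {minpoly K π}).restrictScalars K := by
    ext p
    rw [LinearMap.mem_ker, mem_ker_ev_iff hs hv, Submodule.restrictScalars_mem,
      Ideal.mem_span_singleton]
  have e1 := (LinearMap.quotKerEquivOfSurjective (ev π v) (ev_surjective hs hv)).finrank_eq
  have e2 := (Submodule.quotEquivOfEq _ _ hker).finrank_eq
  have e3 := (Submodule.Quotient.restrictScalarsEquiv K (Ideal.span {minpoly K π})).finrank_eq
  rw [← e1, e2, e3, finrank_quotient_span_eq_natDegree]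

lemma charpoly_eq_minpoly {π : End K V} (hs : IsSimpleEnd π) : π.charpoly = minpoly K π := by
  have hint : IsIntegral K π := LinearMap.isIntegral π
  apply Polynomial.eq_of_monic_of_dvd_of_natDegree_le (minpoly.monic hint) (LinearMap.charpoly_monic π)
    (LinearMap.minpoly_dvd_charpoly π)
  rw [LinearMap.charpoly_natDegree, finrank_eq_natDegree_minpoly hs]

lemma charpoly_irreducible {π : End K V} (hs : IsSimpleEnd π) : Irreducible π.charpoly := by
  rw [charpoly_eq_minpoly hs]; exact minpoly_irreducible hs

/-- kernels of monic irreducible polynomials on a simple endomorphism -/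
lemma finrank_ker_aeval_of_simple {π : End K V} (hs : IsSimpleEnd π) (P : K[X]) (hPm : P.Monic)
    (hPi : Irreducible P) [DecidableEq K[X]] :
    finrank K (LinearMap.ker (aeval π P)) = if P = π.charpoly then π.charpoly.natDegree else 0 := by
  have hint : IsIntegral K π := LinearMap.isIntegral π
  split_ifs with h
  · have : LinearMap.ker (aeval π P) = ⊤ := by
      rw [h, LinearMap.aeval_self_charpoly]; exact LinearMap.ker_zero
    rw [this, finrank_top, LinearMap.charpoly_natDegree]
  · rcases hs.2 _ (ker_aeval_mem_invt π P) with h' | h'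
    · rw [h', finrank_bot]
    · exfalso
      apply h
      have h0 : aeval π P = 0 := by
        ext x
        have : x ∈ LinearMap.ker (aeval π P) := by rw [h']; trivial
        simpa using this
      have h1 := minpoly.dvd K π h0
      have hu : ¬ IsUnit (minpoly K π) := (minpoly_irreducible hs).not_isUnit
      have h2 : Associated (minpoly K π) P := (hPi.dvd_iff.mp h1).resolve_left hu |>.symm
      rw [charpoly_eq_minpoly hs]
      exact (Polynomial.eq_of_monic_of_associated (minpoly.monic hint) hPm h2).symm


/-- intertwiners out of a simple endomorphism are determined by the image of a nonzero vector,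
which can be any vector killed by the characteristic polynomial. -/
lemma finrank_inter_of_simple {π : End K V} (hs : IsSimpleEnd π) (ρ : End K W) :
    finrank K (inter π ρ) = finrank K (LinearMap.ker (aeval ρ π.charpoly)) := by
  have := hs.1
  obtain ⟨v, hv⟩ := exists_ne (0 : V)
  have hsurj := ev_surjective hs hv
  rw [charpoly_eq_minpoly hs]
  set μ := minpoly K π with hμ
  let Φ : inter π ρ →ₗ[K] LinearMap.ker (aeval ρ μ) :=
    { toFun := fun h => ⟨h.1 v, by
        rw [LinearMap.mem_ker, ← inter_aeval h.2, hμ, minpoly.aeval]; simp⟩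
      map_add' := fun x y => by ext; simp
      map_smul' := fun c x => by ext; simp }
  have hinj : Function.Injective Φ := by
    rw [← LinearMap.ker_eq_bot, LinearMap.ker_eq_bot']
    intro h hh
    have h0 : h.1 v = 0 := congrArg Subtype.val hh
    ext x
    obtain ⟨p, rfl⟩ := hsurj x
    rw [ev_apply, inter_aeval h.2, h0, map_zero]; rfl
  have hsur : Function.Surjective Φ := by
    intro w
    set g : K[X] →ₗ[K] W := ev ρ w.1 with hg
    have hle : LinearMap.ker (ev π v) ≤ LinearMap.ker g := by
      intro p hp
      rw [LinearMap.mem_ker, mem_ker_ev_iff hs hv] at hp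
      obtain ⟨c, rfl⟩ := hp
      rw [LinearMap.mem_ker, hg, ev_apply, mul_comm, map_mul, Module.End.mul_apply,
        LinearMap.mem_ker.mp w.2, map_zero]
    set h : V →ₗ[K] W := (LinearMap.ker (ev π v)).liftQ g hle ∘ₗ
      (LinearMap.quotKerEquivOfSurjective (ev π v) hsurj).symm.toLinearMap with hh
    have hev : ∀ p : K[X], h (ev π v p) = g p := by
      intro p
      have : (LinearMap.quotKerEquivOfSurjective (ev π v) hsurj).symm (ev π v p) =
          Submodule.Quotient.mk p := by
        rw [LinearEquiv.symm_apply_eq]; rfl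
      rw [hh, LinearMap.comp_apply, LinearEquiv.coe_coe, this, Submodule.liftQ_apply]
    have hmem : h ∈ inter π ρ := by
      rw [mem_inter]
      ext x
      obtain ⟨p, rfl⟩ := hsurj x
      show h (π (ev π v p)) = ρ (h (ev π v p))
      rw [← ev_X_mul, hev, hev, hg, ev_X_mul]
    refine ⟨⟨h, hmem⟩, ?_⟩
    ext
    show h v = w.1
    have : v = ev π v 1 := by simp
    rw [this, hev, hg]; simp
  exact (LinearEquiv.ofBijective Φ ⟨hinj, hsur⟩).finrank_eq

end Groth.Agent.Lib.helper10.SemiHom
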