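import Mathlib
import Groth.Agent.Lib.Helper10.SemiHom2

/-!
# Splitting off simple invariant subspaces; dimension of intertwiners of semisimple endomorphisms
-/

namespace Groth.Agent.Lib.helper10.SemiHom

open Polynomial Module UniqueFactorizationMonoid

universe u v w

variable {K : Type u} [Field K]

section split

variable {V : Type v} [AddCommGroup V] [Module K V] [Module.Finite K V]

lemma exists_split {π : End K V} (hπ : π.IsSemisimple) [Nontrivial V] :
    ∃ (S S' : Submodule K V) (hS : S ∈ π.invtSubmodule), S' ∈ π.invtSubmodule ∧
      IsCompl S S' ∧ IsSimpleEnd (π.restrict hS) ∧ finrank K S' < finrank K V := by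
  classical
  have hex : ∃ n, ∃ S ∈ π.invtSubmodule, S ≠ ⊥ ∧ finrank K S = n :=
    ⟨finrank K (⊤ : Submodule K V), ⊤, by simp [Module.End.mem_invtSubmodule], top_ne_bot, rfl⟩
  obtain ⟨S, hS, hS0, hSn⟩ := Nat.find_spec hex
  have hmin : ∀ T ∈ π.invtSubmodule, T ≠ ⊥ → finrank K S ≤ finrank K T := by
    intro T hT hT0
    rw [hSn]
    exact Nat.find_min' hex ⟨T, hT, hT0, rfl⟩
  obtain ⟨S', hS', hc⟩ := (Module.End.isSemisimple_iff.mp hπ) S hS
  refine ⟨S, S', hS, hS', hc, ⟨(Submodule.nontrivial_iff_ne_bot).mpr hS0, ?_⟩, ?_⟩
  · intro p hp
    by_cases hp0 : p = ⊥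
    · exact Or.inl hp0
    · right
      set p' : Submodule K V := p.map S.subtype with hp'
      have hp'inv : p' ∈ π.invtSubmodule := by
        rw [Module.End.mem_invtSubmodule]
        rintro _ ⟨y, hy, rfl⟩
        rw [Module.End.mem_invtSubmodule] at hp
        exact ⟨(π.restrict hS) y, hp hy, rfl⟩
      have hp'0 : p' ≠ ⊥ := by
        intro h
        apply hp0
        rw [eq_bot_iff]
        intro x hx
        have h1 : (x : V) ∈ p' := ⟨x, hx, rfl⟩
        rw [h, Submodule.mem_bot] at h1
        rw [Submodule.mem_bot]
        exact Subtype.ext h1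
      have h1 := hmin p' hp'inv hp'0
      have h2 : finrank K p' = finrank K p := Submodule.finrank_map_subtype_eq S p
      apply Submodule.eq_top_of_finrank_eq
      have h3 := Submodule.finrank_le p
      omega
  · have h1 := Submodule.finrank_add_eq_of_isCompl hc
    have h2 : 0 < finrank K S := by
      rw [Module.finrank_pos_iff]
      exact (Submodule.nontrivial_iff_ne_bot).mpr hS0
    omega

variable {π : End K V} {S S' : Submodule K V} (hS : S ∈ π.invtSubmodule)
  (hS' : S' ∈ π.invtSubmodule) (hc : IsCompl S S')

omit [Module.Finite K V] in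
include hc in
lemma prodEquiv_comm :
    (Submodule.prodEquivOfIsCompl S S' hc).toLinearMap ∘ₗ
        ((π.restrict hS).prodMap (π.restrict hS')) =
      π ∘ₗ (Submodule.prodEquivOfIsCompl S S' hc).toLinearMap := by
  ext x <;> simp

include hc in
lemma charpoly_of_isCompl :
    π.charpoly = (π.restrict hS).charpoly * (π.restrict hS').charpoly := by
  rw [← LinearMap.charpoly_prodMap]
  exact (charpoly_congr (Submodule.prodEquivOfIsCompl S S' hc) _ _
    (prodEquiv_comm hS hS' hc)).symm

include hc in
lemma finrank_inter_of_isCompl {W : Type w} [AddCommGroup W] [Module K W] [Module.Finite K W]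
    (ρ : End K W) :
    finrank K (inter π ρ) =
      finrank K (inter (π.restrict hS) ρ) + finrank K (inter (π.restrict hS') ρ) := by
  rw [← finrank_inter_prodMap]
  exact (finrank_inter_congr (Submodule.prodEquivOfIsCompl S S' hc) _ _
    (prodEquiv_comm hS hS' hc) ρ).symm

include hc in
lemma finrank_ker_of_isCompl (P : K[X]) :
    finrank K (LinearMap.ker (aeval π P)) =
      finrank K (LinearMap.ker (aeval (π.restrict hS) P)) +
        finrank K (LinearMap.ker (aeval (π.restrict hS') P)) := by
  rw [← finrank_ker_aeval_prodMap]
  exact (finrank_ker_congr (Submodule.prodEquivOfIsCompl S S' hc) _ _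
    (prodEquiv_comm hS hS' hc) P).symm

end split


section main

lemma charpoly_eq_one_of_subsingleton {V : Type v} [AddCommGroup V] [Module K V]
    [Module.Finite K V] [Subsingleton V] (π : End K V) : π.charpoly = 1 := by
  apply Polynomial.eq_one_of_monic_natDegree_zero (LinearMap.charpoly_monic π)
  rw [LinearMap.charpoly_natDegree, Module.finrank_zero_of_subsingleton]

variable [DecidableEq K] [DecidableEq K[X]]

omit [DecidableEq K[X]] in
lemma normalizedFactors_irreducible_mul {Q f : K[X]} (hQ : Irreducible Q) (hQm : Q.Monic)
    (hf : f ≠ 0) : normalizedFactors (Q * f) = {Q} + normalizedFactors f := by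
  rw [normalizedFactors_mul hQ.ne_zero hf, normalizedFactors_irreducible hQ,
    hQm.normalize_eq_self]

/-- kernel of a monic irreducible polynomial in a semisimple endomorphism. -/
theorem finrank_ker_aeval (n : ℕ) : ∀ (V : Type v) [AddCommGroup V] [Module K V]
    [Module.Finite K V] (π : End K V), finrank K V = n → π.IsSemisimple →
    ∀ P : K[X], P.Monic → Irreducible P →
      finrank K (LinearMap.ker (aeval π P)) =
        (normalizedFactors π.charpoly).count P * P.natDegree := by
  induction n using Nat.strong_induction_on with
  | _ n ih =>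
    intro V _ _ _ π hn hπ P hPm hPi
    rcases subsingleton_or_nontrivial V with hV | hV
    · rw [charpoly_eq_one_of_subsingleton π, normalizedFactors_one, Multiset.count_zero, zero_mul]
      exact Module.finrank_zero_of_subsingleton
    · obtain ⟨S, S', hS, hS', hc, hsimple, hlt⟩ := exists_split hπ
      have hf' : (π.restrict hS').charpoly ≠ 0 := (LinearMap.charpoly_monic _).ne_zero
      have hQi := charpoly_irreducible hsimple
      have hQm := LinearMap.charpoly_monic (π.restrict hS)
      rw [finrank_ker_of_isCompl hS hS' hc, charpoly_of_isCompl hS hS' hc,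
        normalizedFactors_irreducible_mul hQi hQm hf', Multiset.count_add,
        Multiset.count_singleton, finrank_ker_aeval_of_simple hsimple P hPm hPi,
        ih (finrank K S') (hn ▸ hlt) S' (π.restrict hS') rfl (hπ.restrict hS') P hPm hPi]
      split_ifs with h
      · rw [h]; ring
      · ring

/-- dimension of the space of intertwiners between two semisimple endomorphisms -/
theorem finrank_inter (n : ℕ) {W : Type w} [AddCommGroup W] [Module K W] [Module.Finite K W]
    (ρ : End K W) (hρ : ρ.IsSemisimple) :
    ∀ (V : Type v) [AddCommGroup V] [Module K V] [Module.Finite K V] (π : End K V),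
      finrank K V = n → π.IsSemisimple →
      finrank K (inter π ρ) =
        ((normalizedFactors π.charpoly).map
          (fun P => (normalizedFactors ρ.charpoly).count P * P.natDegree)).sum := by
  induction n using Nat.strong_induction_on with
  | _ n ih =>
    intro V _ _ _ π hn hπ
    rcases subsingleton_or_nontrivial V with hV | hV
    · rw [charpoly_eq_one_of_subsingleton π, normalizedFactors_one, Multiset.map_zero,
        Multiset.sum_zero]
      have : Subsingleton (V →ₗ[K] W) := ⟨fun f g => LinearMap.ext fun x => by
        rw [Subsingleton.elim x 0, map_zero, map_zero]⟩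
      exact Module.finrank_zero_of_subsingleton
    · obtain ⟨S, S', hS, hS', hc, hsimple, hlt⟩ := exists_split hπ
      have hf' : (π.restrict hS').charpoly ≠ 0 := (LinearMap.charpoly_monic _).ne_zero
      have hQi := charpoly_irreducible hsimple
      have hQm := LinearMap.charpoly_monic (π.restrict hS)
      rw [finrank_inter_of_isCompl hS hS' hc ρ, charpoly_of_isCompl hS hS' hc,
        normalizedFactors_irreducible_mul hQi hQm hf', Multiset.map_add, Multiset.sum_add,
        Multiset.map_singleton, Multiset.sum_singleton, finrank_inter_of_simple hsimple ρ,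
        finrank_ker_aeval _ W ρ rfl hρ _ hQm hQi,
        ih (finrank K S') (hn ▸ hlt) S' (π.restrict hS') rfl (hπ.restrict hS')]

end main

end Groth.Agent.Lib.helper10.SemiHom
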