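import Mathlib
import Groth.Agent.Lib.Helper8.Azumaya
import Groth.Agent.Lib.Helper10.BrauerCorner
import Groth.Agent.Lib.Helper10.AzHomRank

/-!
# Left ideals generated by an element which becomes a rank one matrix after a faithfully flat
splitting (helper10)
-/

set_option autoImplicit false
set_option linter.style.haveILetI false
set_option linter.unusedSectionVars false
open scoped TensorProduct

namespace Groth.Agent.Lib.Helper10.TPowSplit

open Groth.Agent.Lib.helper8.Az Groth.Agent.Lib.Helper10.AzHomRank

section LeftIdeal

variable (R : Type*) [CommRing R] (T : Type*) [Ring T] [Algebra R T] (s : T)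

/-- the left ideal `T s` as a submodule -/
def leftIdeal : Submodule R T := LinearMap.range (LinearMap.mulRight R s)

theorem mul_mem_leftIdeal (t : T) {x : T} (hx : x ∈ leftIdeal R T s) :
    t * x ∈ leftIdeal R T s := by
  obtain ⟨y, rfl⟩ := hx
  exact ⟨t * y, by simp [mul_assoc]⟩

instance finite_leftIdeal [Module.Finite R T] : Module.Finite R (leftIdeal R T s) :=
  Module.Finite.range _

/-- left multiplication on the left ideal, linear in the multiplier -/
def leftMulLin : T →ₗ[R] Module.End R (leftIdeal R T s) where
  toFun t := (LinearMap.mulLeft R t).restrict (fun _ hx => mul_mem_leftIdeal R T s t hx)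
  map_add' t t' := by
    ext x
    simp [add_mul]
  map_smul' c t := by
    ext x
    simp

theorem leftMulLin_apply (t : T) (x : leftIdeal R T s) :
    ((leftMulLin R T s t) x : T) = t * (x : T) := rfl

/-- left multiplication on the left ideal, as an algebra map -/
def leftMul : T →ₐ[R] Module.End R (leftIdeal R T s) :=
  AlgHom.ofLinearMap (leftMulLin R T s)
    (by
      ext x
      simp [leftMulLin_apply])
    (by
      intro t t'
      ext x
      simp [leftMulLin_apply, mul_assoc])

end LeftIdeal

section ColMap

variable (R : Type*) [CommRing R] (T : Type*) [Ring T] [Algebra R T] (s : T)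
  (S : Type*) [CommRing S] [Algebra R S] [Module.Flat R S] {N : Type*} [Fintype N]
  [DecidableEq N] (Ψ : S ⊗[R] T →ₐ[S] Matrix N N S) (hΨ : Function.Bijective Ψ)
  (ε ε' : N → S) (i₀ j₀ : N) (hε : ε j₀ = 1) (hε' : ε' i₀ = 1)
  (hs : Ψ ((1 : S) ⊗ₜ[R] s) = Matrix.vecMulVec ε ε')

/-- the column `i₀` of a matrix, linearly -/
def colLin : Matrix N N S →ₗ[S] (N → S) where
  toFun X i := X i i₀
  map_add' _ _ := rfl
  map_smul' _ _ := rfl

/-- `S ⊗ T s → S^N`, the column `i₀` of the image under the splitting -/
noncomputable def colMap : S ⊗[R] (leftIdeal R T s) →ₗ[S] (N → S) :=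
  (colLin S i₀) ∘ₗ Ψ.toLinearMap ∘ₗ ((leftIdeal R T s).subtype.baseChange S)

include hΨ hε hε' hs in
theorem colMap_bijective : Function.Bijective (colMap R T s S Ψ i₀) := by
  have hincl_inj : Function.Injective ((leftIdeal R T s).subtype.baseChange S) := by
    have := Module.Flat.lTensor_preserves_injective_linearMap (M := S)
      (leftIdeal R T s).subtype (Submodule.injective_subtype _)
    rwa [← LinearMap.baseChange_eq_ltensor] at this
  have hform : ∀ y : S ⊗[R] leftIdeal R T s, ∃ X : Matrix N N S,
      Ψ ((leftIdeal R T s).subtype.baseChange S y) = X * Matrix.vecMulVec ε ε' := by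
    intro y
    induction y using TensorProduct.induction_on with
    | zero => exact ⟨0, by simp⟩
    | add a b ha hb =>
      obtain ⟨X, hX⟩ := ha
      obtain ⟨Y, hY⟩ := hb
      exact ⟨X + Y, by rw [map_add, map_add, hX, hY, add_mul]⟩
    | tmul c e =>
      obtain ⟨e, ⟨t, rfl⟩⟩ := e
      refine ⟨Ψ (c ⊗ₜ t), ?_⟩
      rw [LinearMap.baseChange_tmul, Submodule.subtype_apply, ← hs, ← map_mul,
        Algebra.TensorProduct.tmul_mul_tmul, mul_one]
      rfl
  have hcol : ∀ (X : Matrix N N S) (i : N),
      (X * Matrix.vecMulVec ε ε') i i₀ = (X.mulVec ε) i := by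
    intro X i
    rw [Matrix.mul_vecMulVec, Matrix.vecMulVec_apply, hε', mul_one]
  constructor
  · rw [injective_iff_map_eq_zero]
    intro y hy
    obtain ⟨X, hX⟩ := hform y
    have h1 : X.mulVec ε = 0 := by
      funext i
      have := congrFun hy i
      rw [← hcol, ← hX]
      exact this
    have h2 : Ψ ((leftIdeal R T s).subtype.baseChange S y) = 0 := by
      rw [hX, Matrix.mul_vecMulVec, h1, Matrix.zero_vecMulVec]
    exact hincl_inj ((hΨ.1 (h2.trans (map_zero Ψ).symm)).trans (map_zero _).symm)
  · intro w
    obtain ⟨z, hz⟩ := hΨ.2 (Matrix.vecMulVec w (Pi.single j₀ 1))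
    let ρ : T →ₗ[R] leftIdeal R T s := (LinearMap.mulRight R s).rangeRestrict
    refine ⟨ρ.baseChange S z, ?_⟩
    have h1 : ∀ z : S ⊗[R] T, (leftIdeal R T s).subtype.baseChange S (ρ.baseChange S z) =
        z * ((1 : S) ⊗ₜ[R] s) := by
      intro z
      induction z using TensorProduct.induction_on with
      | zero => simp
      | add a b ha hb => rw [map_add, map_add, ha, hb, add_mul]
      | tmul c t =>
        rw [LinearMap.baseChange_tmul, LinearMap.baseChange_tmul,
          Algebra.TensorProduct.tmul_mul_tmul, mul_one]
        rfl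
    funext i
    show (Ψ ((leftIdeal R T s).subtype.baseChange S (ρ.baseChange S z))) i i₀ = w i
    rw [h1, map_mul, hz, hs, hcol, Matrix.vecMulVec_mulVec]
    simp [dotProduct, Pi.single_apply, hε]

end ColMap

section Rank

variable (R : Type*) [CommRing R]

/-- descent of projectivity and rank from a faithfully flat trivialization -/
theorem projective_and_rank_of_equiv (S : Type*) [CommRing S] [Algebra R S]
    [Module.FaithfullyFlat R S] (E : Type*) [AddCommGroup E] [Module R E]
    {N : Type*} [Fintype N] (e : S ⊗[R] E ≃ₗ[S] (N → S)) :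
    Module.Projective R E ∧
      ∀ p : PrimeSpectrum R, Module.rankAtStalk E p = Fintype.card N := by
  classical
  haveI : Module.Finite S (S ⊗[R] E) := Module.Finite.equiv e.symm
  haveI : Module.Projective S (S ⊗[R] E) := Module.Projective.of_equiv e.symm
  haveI : Module.Projective R E := projective_of_faithfullyFlat R S E
  haveI : Module.Finite R E := Module.Finite.of_finite_tensorProduct_of_faithfullyFlat S
  refine ⟨inferInstance, fun p => ?_⟩
  obtain ⟨q, hq⟩ := PrimeSpectrum.comap_surjective_of_faithfullyFlat (A := R) (B := S) p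
  haveI : Nontrivial S := q.nontrivial
  have h1 := Module.rankAtStalk_baseChange (R := R) (M := E) (S := S) q
  rw [hq] at h1
  rw [← h1, Module.rankAtStalk_eq_of_equiv e, Module.rankAtStalk_eq_finrank_of_free]
  simp

/-- the rank of the endomorphism algebra -/
theorem rankAtStalk_end (E : Type*) [AddCommGroup E] [Module R E] [Module.Finite R E]
    [Module.Projective R E] (p : PrimeSpectrum R) :
    Module.rankAtStalk (Module.End R E) p = (Module.rankAtStalk E p) ^ 2 := by
  let Rp := Localization.AtPrime p.asIdeal
  haveI : Module.Finite R (Module.End R E) := finite_end R E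
  haveI : Module.Projective R (Module.End R E) := projective_end R E
  have hbc : IsBaseChange Rp (LinearMap.baseChangeHom R Rp E E) :=
    isBaseChange_baseChangeHom R Rp E E
  haveI : Module.Free Rp (Rp ⊗[R] E) := Module.free_of_flat_of_isLocalRing
  rw [Module.rankAtStalk_eq_finrank_tensorProduct, Module.rankAtStalk_eq_finrank_tensorProduct,
    hbc.equiv.finrank_eq, Module.finrank_linearMap, pow_two]

end Rank

end Groth.Agent.Lib.Helper10.TPowSplit
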