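import Mathlib
import Groth.Agent.S1984

/-!
Generic field theory (helper10): a property of finite separable extensions that is stable under
composita passes to a common overfield and to a Galois closure.
-/

set_option autoImplicit false
set_option linter.unusedSectionVars false
set_option linter.style.haveILetI false

universe u

open TensorProduct

namespace Groth.Agent.Lib.helper10

namespace TameComp

section Generic

variable (K : Type u) [Field K] (Pr : ∀ (E : Type u) [Field E] [Algebra K E], Prop)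

/-- the property `Pr` of (finite separable) extensions of `K` is stable under composita -/
def CompositumClosed : Prop :=
  ∀ (L₁ L₂ M : Type u) [Field L₁] [Field L₂] [Field M] [Algebra K L₁] [Algebra K L₂] [Algebra K M]
    [Algebra L₁ M] [Algebra L₂ M] [IsScalarTower K L₁ M] [IsScalarTower K L₂ M]
    [FiniteDimensional K L₁] [Algebra.IsSeparable K L₁]
    [FiniteDimensional K L₂] [Algebra.IsSeparable K L₂],
    Pr L₁ → Pr L₂ → Algebra.adjoin L₂ (Set.range (algebraMap L₁ M)) = ⊤ → Pr M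

variable {K Pr}

theorem compositum (hPr : CompositumClosed K Pr) (L₁ L₂ : Type u) [Field L₁] [Field L₂]
    [Algebra K L₁] [Algebra K L₂] [FiniteDimensional K L₁] [FiniteDimensional K L₂]
    [Algebra.IsSeparable K L₁] [Algebra.IsSeparable K L₂] (h₁ : Pr L₁) (h₂ : Pr L₂) :
    ∃ (M : Type u) (_ : Field M) (_ : Algebra K M) (_ : FiniteDimensional K M)
      (_ : Algebra.IsSeparable K M) (_ : L₁ →ₐ[K] M) (_ : L₂ →ₐ[K] M), Pr M := by
  have hfrT : Module.finrank L₁ (L₁ ⊗[K] L₂) = Module.finrank K L₂ := Module.finrank_baseChange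
  haveI : Nontrivial (L₁ ⊗[K] L₂) :=
    Module.nontrivial_of_finrank_pos (R := L₁) (by rw [hfrT]; exact Module.finrank_pos)
  obtain ⟨𝔪, h𝔪⟩ := Ideal.exists_maximal (L₁ ⊗[K] L₂)
  letI : Field ((L₁ ⊗[K] L₂) ⧸ 𝔪) := Ideal.Quotient.field 𝔪
  letI : Algebra L₂ ((L₁ ⊗[K] L₂) ⧸ 𝔪) := ((Ideal.Quotient.mk 𝔪).comp
    (Algebra.TensorProduct.includeRight : L₂ →ₐ[K] L₁ ⊗[K] L₂).toRingHom).toAlgebra
  haveI : IsScalarTower K L₁ ((L₁ ⊗[K] L₂) ⧸ 𝔪) := inferInstance
  haveI : IsScalarTower K L₂ ((L₁ ⊗[K] L₂) ⧸ 𝔪) := IsScalarTower.of_algebraMap_eq (fun k => by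
    show Ideal.Quotient.mk 𝔪 (algebraMap K L₁ k ⊗ₜ[K] (1 : L₂)) =
      Ideal.Quotient.mk 𝔪 ((1 : L₁) ⊗ₜ[K] algebraMap K L₂ k)
    congr 1
    rw [Algebra.algebraMap_eq_smul_one, Algebra.algebraMap_eq_smul_one, TensorProduct.smul_tmul])
  have hgen : Algebra.adjoin L₂ (Set.range (algebraMap L₁ ((L₁ ⊗[K] L₂) ⧸ 𝔪))) = ⊤ := by
    rw [eq_top_iff]
    rintro z -
    obtain ⟨t, rfl⟩ := Ideal.Quotient.mk_surjective z
    induction t using TensorProduct.induction_on with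
    | zero => rw [map_zero]; exact Subalgebra.zero_mem _
    | tmul y l =>
      have h1 : (y ⊗ₜ[K] l : L₁ ⊗[K] L₂) = (y ⊗ₜ[K] (1 : L₂)) * ((1 : L₁) ⊗ₜ[K] l) := by
        rw [Algebra.TensorProduct.tmul_mul_tmul, mul_one, one_mul]
      rw [h1, map_mul]
      apply Subalgebra.mul_mem
      · apply Algebra.subset_adjoin
        exact ⟨y, rfl⟩
      · exact Subalgebra.algebraMap_mem _ l
    | add a b ha hb => rw [map_add]; exact Subalgebra.add_mem _ ha hb
  obtain ⟨hfd, -⟩ := Groth.Agent.S1984.finite_of_gen K L₂ L₁ ((L₁ ⊗[K] L₂) ⧸ 𝔪) hgen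
  haveI := hfd
  haveI hsep := Groth.Agent.S1984.separable_of_gen K L₂ L₁ ((L₁ ⊗[K] L₂) ⧸ 𝔪) hgen
  exact ⟨(L₁ ⊗[K] L₂) ⧸ 𝔪, inferInstance, inferInstance, FiniteDimensional.trans K L₂ _,
    Algebra.IsSeparable.trans K L₂ _, IsScalarTower.toAlgHom K L₁ _, IsScalarTower.toAlgHom K L₂ _,
    hPr L₁ L₂ ((L₁ ⊗[K] L₂) ⧸ 𝔪) h₁ h₂ hgen⟩

theorem sup_gen {Ω : Type u} [Field Ω] [Algebra K Ω] (E₁ E₂ : IntermediateField K Ω)
    [FiniteDimensional K E₁] :
    letI : Algebra E₁ ↥(E₁ ⊔ E₂) := (IntermediateField.inclusion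
      (le_sup_left : E₁ ≤ E₁ ⊔ E₂)).toRingHom.toAlgebra
    letI : Algebra E₂ ↥(E₁ ⊔ E₂) := (IntermediateField.inclusion
      (le_sup_right : E₂ ≤ E₁ ⊔ E₂)).toRingHom.toAlgebra
    Algebra.adjoin E₂ (Set.range (algebraMap E₁ ↥(E₁ ⊔ E₂))) = ⊤ := by
  letI : Algebra E₁ ↥(E₁ ⊔ E₂) := (IntermediateField.inclusion
    (le_sup_left : E₁ ≤ E₁ ⊔ E₂)).toRingHom.toAlgebra
  letI : Algebra E₂ ↥(E₁ ⊔ E₂) := (IntermediateField.inclusion
    (le_sup_right : E₂ ≤ E₁ ⊔ E₂)).toRingHom.toAlgebra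
  rw [eq_top_iff]
  rintro ⟨x, hx⟩ -
  have hx' : x ∈ (E₁ ⊔ E₂).toSubalgebra := hx
  rw [IntermediateField.sup_toSubalgebra_of_left, Algebra.sup_def] at hx'
  have key : ∀ y (hy : y ∈ Algebra.adjoin K
      ((E₁.toSubalgebra : Set Ω) ∪ (E₂.toSubalgebra : Set Ω))) (h : y ∈ E₁ ⊔ E₂),
      (⟨y, h⟩ : ↥(E₁ ⊔ E₂)) ∈ Algebra.adjoin E₂ (Set.range (algebraMap E₁ ↥(E₁ ⊔ E₂))) := by
    have hle : Algebra.adjoin K ((E₁.toSubalgebra : Set Ω) ∪ (E₂.toSubalgebra : Set Ω)) ≤
        (E₁ ⊔ E₂).toSubalgebra := by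
      rw [← Algebra.sup_def, ← IntermediateField.sup_toSubalgebra_of_left]
    intro y hy
    induction hy using Algebra.adjoin_induction with
    | mem y hy =>
      intro h
      rcases hy with hy | hy
      · apply Algebra.subset_adjoin
        exact ⟨⟨y, hy⟩, rfl⟩
      · exact Subalgebra.algebraMap_mem _ (⟨y, hy⟩ : E₂)
    | algebraMap r =>
      intro h
      exact Subalgebra.algebraMap_mem _ (algebraMap K E₂ r)
    | add y y' hy hy' ihy ihy' =>
      intro h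
      exact Subalgebra.add_mem _ (ihy (hle hy)) (ihy' (hle hy'))
    | mul y y' hy hy' ihy ihy' =>
      intro h
      exact Subalgebra.mul_mem _ (ihy (hle hy)) (ihy' (hle hy'))
  exact key x hx' hx

theorem galois_closure (hPr : CompositumClosed K Pr) (L : Type u) [Field L] [Algebra K L]
    [FiniteDimensional K L] [Algebra.IsSeparable K L] (h : Pr L) :
    ∃ (M : Type u) (_ : Field M) (_ : Algebra K M) (_ : FiniteDimensional K M)
      (_ : IsGalois K M) (_ : L →ₐ[K] M), Pr M := by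
  classical
  obtain ⟨P, hP⟩ : ∃ P : IntermediateField K (AlgebraicClosure L) → Prop, P =
    fun (E : IntermediateField K (AlgebraicClosure L)) =>
      ∃ (_ : FiniteDimensional K ↥E) (_ : Algebra.IsSeparable K ↥E), Pr ↥E := ⟨_, rfl⟩
  have hbase : ∀ f : L →ₐ[K] AlgebraicClosure L, P f.fieldRange := by
    intro f
    rw [hP]
    letI : Algebra L f.fieldRange := f.rangeRestrict.toRingHom.toAlgebra
    haveI : IsScalarTower K L f.fieldRange := IsScalarTower.of_algebraMap_eq (fun k =>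
      Subtype.ext (f.commutes k).symm)
    have hsurj : Function.Surjective (algebraMap L f.fieldRange) := by
      rintro ⟨_, ⟨x, rfl⟩⟩
      exact ⟨x, rfl⟩
    have hgen : Algebra.adjoin L (Set.range (algebraMap L f.fieldRange)) = ⊤ := by
      rw [eq_top_iff]
      rintro z -
      obtain ⟨x, rfl⟩ := hsurj z
      exact Subalgebra.algebraMap_mem _ x
    haveI hfd : FiniteDimensional K f.fieldRange :=
      Module.Finite.of_surjective (IsScalarTower.toAlgHom K L f.fieldRange).toLinearMap hsurj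
    haveI : FiniteDimensional L f.fieldRange :=
      Module.Finite.of_surjective (Algebra.linearMap L f.fieldRange) hsurj
    have hsepL := Groth.Agent.S1984.separable_of_gen K L L f.fieldRange hgen
    exact ⟨hfd, Algebra.IsSeparable.trans K L _, hPr L L f.fieldRange h h hgen⟩
  have hstep : ∀ E₁, P E₁ → ∀ E₂, P E₂ → P (E₁ ⊔ E₂) := by
    intro E₁ h₁ E₂ h₂
    rw [hP] at h₁ h₂ ⊢
    obtain ⟨hfd₁, hsep₁, hP₁⟩ := h₁
    obtain ⟨hfd₂, hsep₂, hP₂⟩ := h₂
    letI : Algebra E₁ ↥(E₁ ⊔ E₂) := (IntermediateField.inclusion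
      (le_sup_left : E₁ ≤ E₁ ⊔ E₂)).toRingHom.toAlgebra
    letI : Algebra E₂ ↥(E₁ ⊔ E₂) := (IntermediateField.inclusion
      (le_sup_right : E₂ ≤ E₁ ⊔ E₂)).toRingHom.toAlgebra
    haveI : IsScalarTower K E₁ ↥(E₁ ⊔ E₂) := IsScalarTower.of_algebraMap_eq (fun k => rfl)
    haveI : IsScalarTower K E₂ ↥(E₁ ⊔ E₂) := IsScalarTower.of_algebraMap_eq (fun k => rfl)
    have hgen := sup_gen E₁ E₂
    obtain ⟨hfd, -⟩ := Groth.Agent.S1984.finite_of_gen K E₂ E₁ ↥(E₁ ⊔ E₂) hgen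
    haveI := hfd
    haveI hsep := Groth.Agent.S1984.separable_of_gen K E₂ E₁ ↥(E₁ ⊔ E₂) hgen
    exact ⟨FiniteDimensional.trans K E₂ _, Algebra.IsSeparable.trans K E₂ _,
      hPr E₁ E₂ ↥(E₁ ⊔ E₂) hP₁ hP₂ hgen⟩
  have hN : P (IntermediateField.normalClosure K L (AlgebraicClosure L)) := by
    rw [normalClosure_def, ← Finset.sup_univ_eq_iSup,
      ← Finset.sup'_eq_sup ⟨IsScalarTower.toAlgHom K L (AlgebraicClosure L), Finset.mem_univ _⟩]
    exact Finset.sup'_induction _ _ hstep (fun f _ => hbase f)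
  rw [hP] at hN
  obtain ⟨hfd, hsep, hPN⟩ := hN
  haveI : IsAlgClosure K (AlgebraicClosure L) := inferInstance
  haveI : Normal K (AlgebraicClosure L) := inferInstance
  exact ⟨↥(IntermediateField.normalClosure K L (AlgebraicClosure L)), inferInstance, inferInstance,
    hfd, { to_isSeparable := hsep, to_normal := inferInstance },
    IsScalarTower.toAlgHom K L _, hPN⟩

end Generic

end TameComp

end Groth.Agent.Lib.helper10
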