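import Mathlib
import Groth.Agent.Lib.Helper26.HenselPairIdem
import Groth.Agent.Lib.Helper26.PairHensIntegral

/-!
# Tame Eisenstein extensions of a henselian DVR with algebraically closed residue field
-/

set_option autoImplicit false
set_option linter.style.haveILetI false
set_option linter.unusedSectionVars false

namespace Groth.Agent.Lib.Helper10.TameKummer

open Polynomial IsLocalRing IntermediateField

universe u

section Roots

variable (O : Type u) [CommRing O] [IsDomain O] [HenselianLocalRing O]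
  [IsAlgClosed (ResidueField O)] (p : ℕ) [Fact p.Prime] [CharP (ResidueField O) p]

theorem natCast_residue_ne_zero (e : ℕ) (he : 1 ≤ e) (hep : e < p) :
    ((e : ℕ) : ResidueField O) ≠ 0 := by
  intro h
  rw [CharP.cast_eq_zero_iff (ResidueField O) p] at h
  exact absurd (Nat.le_of_dvd (by omega) h) (by omega)

theorem isUnit_natCast (e : ℕ) (he : 1 ≤ e) (hep : e < p) : IsUnit ((e : ℕ) : O) := by
  by_contra h
  rw [← mem_nonunits_iff, ← mem_maximalIdeal, ← residue_eq_zero_iff, map_natCast] at h
  exact natCast_residue_ne_zero O p e he hep h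

/-- a primitive `e`-th root of unity in `O` -/
theorem exists_primitiveRoot (e : ℕ) (he : 1 ≤ e) (hep : e < p) :
    ∃ ζ : O, IsPrimitiveRoot ζ e := by
  haveI : NeZero ((e : ℕ) : ResidueField O) := ⟨natCast_residue_ne_zero O p e he hep⟩
  obtain ⟨z, hz⟩ := HasEnoughRootsOfUnity.exists_primitiveRoot (ResidueField O) e
  obtain ⟨a₀, rfl⟩ := residue_surjective z
  have hmon : (X ^ e - 1 : O[X]).Monic := by
    have := monic_X_pow_sub_C (1 : O) (by omega : e ≠ 0)
    simpa using this
  obtain ⟨a, ha, haa⟩ := HenselianLocalRing.is_henselian (X ^ e - 1 : O[X]) hmon a₀ (by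
      rw [← residue_eq_zero_iff]
      simp only [eval_sub, eval_pow, eval_X, eval_one, map_sub, map_pow, map_one]
      rw [hz.pow_eq_one, sub_self]) (by
      by_contra h
      rw [← mem_nonunits_iff, ← mem_maximalIdeal, ← residue_eq_zero_iff] at h
      simp only [derivative_sub, derivative_X_pow, derivative_one, sub_zero, eval_mul, eval_pow,
        eval_X, eval_C, map_mul, map_pow, map_natCast, eval_natCast] at h
      rcases mul_eq_zero.mp h with h | h
      · exact natCast_residue_ne_zero O p e he hep h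
      · exact pow_ne_zero _ (hz.ne_zero (by omega)) h)
  refine ⟨a, ?_⟩
  have hae : a ^ e = 1 := by
    have := ha
    rw [IsRoot, eval_sub, eval_pow, eval_X, eval_one, sub_eq_zero] at this
    exact this
  have hres : residue O a = residue O a₀ := by
    rw [← sub_eq_zero, ← map_sub, residue_eq_zero_iff]
    exact haa
  rw [IsPrimitiveRoot.iff_def]
  refine ⟨hae, fun l hl => ?_⟩
  apply hz.dvd_of_pow_eq_one
  rw [← hres, ← map_pow, hl, map_one]

end Roots

section Unif

variable {O : Type u} [CommRing O] [IsDomain O] [IsDiscreteValuationRing O]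

theorem maximalIdeal_eq_span_of_notMem_sq {a : O} (h1 : a ∈ maximalIdeal O)
    (h2 : a ∉ maximalIdeal O ^ 2) : maximalIdeal O = Ideal.span {a} := by
  obtain ⟨ϖ, hϖ⟩ := IsDiscreteValuationRing.exists_irreducible O
  have ha0 : a ≠ 0 := fun h => h2 (h ▸ zero_mem _)
  obtain ⟨n, u, hu⟩ := IsDiscreteValuationRing.eq_unit_mul_pow_irreducible ha0 hϖ
  have hm := hϖ.maximalIdeal_eq
  have hn1 : n = 1 := by
    rcases n with _ | _ | n
    · exfalso
      rw [pow_zero, mul_one] at hu
      rw [hu, mem_maximalIdeal, mem_nonunits_iff] at h1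
      exact h1 u.isUnit
    · rfl
    · exfalso
      apply h2
      rw [hu, hm, Ideal.span_singleton_pow, Ideal.mem_span_singleton]
      exact ⟨u * ϖ ^ n, by ring⟩
  subst hn1
  rw [hm, hu, pow_one]
  exact (Ideal.span_singleton_eq_span_singleton.mpr
    ⟨u, mul_comm _ _⟩)

end Unif

section Hensel

open Groth.Agent.Lib.helper26.PairHens Groth.Agent.Lib.helper26.HenselPair

variable {O : Type u} [CommRing O] (m : Ideal O) (hO : HenselianRing O m)
  (c : O) (hc : c ∈ m) (e' : ℕ) (he : IsUnit ((e' + 1 : ℕ) : O))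
  (f : O[X]) (hmon : f.Monic) (hdeg : f.natDegree = e' + 1) (b : ℕ → O) (hb0 : b 0 = 1)
  (hb : ∀ i < e' + 1, f.coeff i = - c * b i)

theorem root_pow_eq :
    (AdjoinRoot.root (X ^ (e' + 1) - C c : O[X])) ^ (e' + 1) =
      algebraMap O (AdjoinRoot (X ^ (e' + 1) - C c : O[X])) c := by
  have h := AdjoinRoot.eval₂_root (X ^ (e' + 1) - C c : O[X])
  rw [eval₂_sub, eval₂_pow, eval₂_X, eval₂_C, sub_eq_zero] at h
  exact h

include hO hc he hmon hdeg hb0 hb in
theorem exists_root_adjoinRoot :
    ∃ z : AdjoinRoot (X ^ (e' + 1) - C c : O[X]),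
      aeval (AdjoinRoot.root (X ^ (e' + 1) - C c : O[X]) * z) f = 0 := by
  set g : O[X] := X ^ (e' + 1) - C c with hg
  have hgmon : g.Monic := monic_X_pow_sub_C c (by omega)
  haveI : Module.Finite O (AdjoinRoot g) := hgmon.finite_adjoinRoot
  haveI : Algebra.IsIntegral O (AdjoinRoot g) := Algebra.IsIntegral.of_finite O _
  set β : AdjoinRoot g := AdjoinRoot.root g with hβ
  have hβe : β ^ (e' + 1) = algebraMap O (AdjoinRoot g) c := root_pow_eq c e'
  -- the henselian pair
  have h1 : HenselianRing (AdjoinRoot g) (m.map (algebraMap O (AdjoinRoot g))) :=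
    henselianRing_map_of_isIntegral hO (AdjoinRoot g)
  set K' : Ideal (AdjoinRoot g) := m.map (algebraMap O (AdjoinRoot g)) ⊔ Ideal.span {β} with hK'
  have h2 : HenselianRing (AdjoinRoot g) K' := by
    refine henselianRing_of_le_radical h1 le_sup_left (sup_le Ideal.le_radical ?_)
    rw [Ideal.span_le, Set.singleton_subset_iff]
    refine ⟨e' + 1, ?_⟩
    rw [hβe]
    exact Ideal.mem_map_of_mem _ hc
  have hβK : β ∈ K' := Ideal.mem_sup_right (Ideal.subset_span rfl)
  -- the polynomial
  set q : (AdjoinRoot g)[X] :=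
    ∑ i ∈ Finset.range e', C (algebraMap O (AdjoinRoot g) (b (i + 1)) * β ^ i) * X ^ (i + 1) with hq
  set pp : (AdjoinRoot g)[X] := 1 + C β * q with hpp
  have hqdeg : q.degree ≤ (e' : WithBot ℕ) := by
    refine (degree_sum_le _ _).trans ?_
    refine Finset.sup_le fun i hi => ?_
    refine (degree_C_mul_X_pow_le _ _).trans ?_
    exact_mod_cast Finset.mem_range.mp hi
  have hppdeg : pp.degree ≤ (e' : WithBot ℕ) := by
    refine (degree_add_le _ _).trans (max_le ?_ ?_)
    · exact degree_one_le.trans (by exact_mod_cast Nat.zero_le _)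
    · refine (degree_mul_le _ _).trans ?_
      calc (C β).degree + q.degree ≤ 0 + (e' : WithBot ℕ) := add_le_add degree_C_le hqdeg
        _ = e' := zero_add _
  have hhmon : (X ^ (e' + 1) - pp).Monic :=
    monic_X_pow_sub (lt_of_le_of_lt hppdeg (by exact_mod_cast Nat.lt_succ_self e'))
  obtain ⟨z, hz, -⟩ := h2.is_henselian (X ^ (e' + 1) - pp) hhmon 1 (by
      rw [eval_sub, eval_pow, eval_X, one_pow, hpp, eval_add, eval_one, eval_mul, eval_C]
      have : (1 : AdjoinRoot g) - (1 + β * eval 1 q) = - (β * eval 1 q) := by ring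
      rw [this]
      exact K'.neg_mem (K'.mul_mem_right _ hβK)) (by
      have hd : derivative (X ^ (e' + 1) - pp) =
          C ((e' + 1 : ℕ) : AdjoinRoot g) * X ^ e' - C β * derivative q := by
        rw [derivative_sub, derivative_X_pow, hpp, derivative_add, derivative_one, zero_add,
          derivative_mul, derivative_C, zero_mul, zero_add, Nat.add_sub_cancel]
      rw [hd, eval_sub, eval_mul, eval_C, eval_pow, eval_X, one_pow, mul_one, eval_mul, eval_C,
        map_sub]
      have h0 : Ideal.Quotient.mk K' (β * eval 1 (derivative q)) = 0 :=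
        Ideal.Quotient.eq_zero_iff_mem.mpr (K'.mul_mem_right _ hβK)
      rw [h0, sub_zero]
      have h3 : ((e' + 1 : ℕ) : AdjoinRoot g)
          = algebraMap O (AdjoinRoot g) ((e' + 1 : ℕ) : O) := by
        rw [map_natCast]
      rw [h3]
      exact (he.map (algebraMap O (AdjoinRoot g))).map (Ideal.Quotient.mk K'))
  refine ⟨z, ?_⟩
  have hz' : z ^ (e' + 1) = 1 + β * ∑ i ∈ Finset.range e',
      algebraMap O (AdjoinRoot g) (b (i + 1)) * β ^ i * z ^ (i + 1) := by
    have := hz
    rw [IsRoot, eval_sub, eval_pow, eval_X, sub_eq_zero, hpp, eval_add, eval_one, eval_mul,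
      eval_C, hq, eval_finset_sum] at this
    simp only [eval_mul, eval_C, eval_pow, eval_X] at this
    exact this
  have hsum : ∑ i ∈ Finset.range e', algebraMap O (AdjoinRoot g) (f.coeff (i + 1)) *
      (β * z) ^ (i + 1) = - algebraMap O (AdjoinRoot g) c * (β * ∑ i ∈ Finset.range e',
      algebraMap O (AdjoinRoot g) (b (i + 1)) * β ^ i * z ^ (i + 1)) := by
    rw [Finset.mul_sum, Finset.mul_sum]
    refine Finset.sum_congr rfl fun i hi => ?_
    rw [hb (i + 1) (by have := Finset.mem_range.mp hi; omega), map_mul, map_neg]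
    ring
  conv_lhs => rw [hmon.as_sum]
  rw [hdeg, map_add, map_pow, aeval_X, map_sum, Finset.sum_range_succ']
  simp only [map_mul, aeval_C, map_pow, aeval_X, pow_zero, mul_one]
  rw [hsum, hb 0 (by omega), hb0, mul_pow, hβe, hz', map_mul, map_neg, map_one]
  ring

end Hensel

section Irred

variable {O : Type u} [CommRing O] [IsDomain O] [IsDiscreteValuationRing O]

/-- a monic Eisenstein polynomial over a DVR is irreducible over the fraction field -/
theorem irreducible_map_of_isEisensteinAt (f : O[X]) (hmon : f.Monic) (hdeg : 0 < f.natDegree)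
    (hf : f.IsEisensteinAt (maximalIdeal O)) :
    Irreducible (f.map (algebraMap O (FractionRing O))) := by
  rw [← hmon.irreducible_iff_irreducible_map_fraction_map]
  exact hf.irreducible (maximalIdeal.isMaximal O).isPrime hmon.isPrimitive hdeg

theorem isEisensteinAt_X_pow_sub_C (c : O) (hc : c ∈ maximalIdeal O)
    (hc2 : c ∉ maximalIdeal O ^ 2) (e : ℕ) (he : 1 ≤ e) :
    (X ^ e - C c : O[X]).IsEisensteinAt (maximalIdeal O) := by
  have hmon : (X ^ e - C c : O[X]).Monic := monic_X_pow_sub_C c (by omega)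
  have hnat : (X ^ e - C c : O[X]).natDegree = e := natDegree_X_pow_sub_C
  refine ⟨?_, ?_, ?_⟩
  · rw [hmon.leadingCoeff]
    exact fun h => (Ideal.ne_top_iff_one _).mp (maximalIdeal.isMaximal O).ne_top h
  · intro n hn
    rw [hnat] at hn
    rw [coeff_sub, coeff_X_pow, if_neg (by omega), zero_sub, coeff_C]
    split_ifs
    · exact (maximalIdeal O).neg_mem hc
    · rw [neg_zero]; exact zero_mem _
  · rw [coeff_sub, coeff_X_pow, if_neg (by omega), zero_sub, coeff_C, if_pos rfl]
    intro h
    exact hc2 (by simpa using (maximalIdeal O ^ 2).neg_mem h)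

end Irred

section Main

variable (O : Type u) [CommRing O] [IsDomain O]
  [IsDiscreteValuationRing O] [HenselianLocalRing O]
  [IsAlgClosed (ResidueField O)] (p : ℕ) [Fact p.Prime] [CharP (ResidueField O) p]

theorem main (f : O[X]) (hmon : f.Monic) (e : ℕ) (hdeg : f.natDegree = e) (he : 1 ≤ e)
    (hep : e < p) (hf : f.IsEisensteinAt (maximalIdeal O)) :
    Module.finrank (FractionRing O) (f.map (algebraMap O (FractionRing O))).SplittingField = e ∧
      IsCyclic (f.map (algebraMap O (FractionRing O))).Gal := by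
  classical
  obtain ⟨e', rfl⟩ : ∃ e', e = e' + 1 := ⟨e - 1, by omega⟩
  set K := FractionRing O with hK
  set F : K[X] := f.map (algebraMap O K) with hF
  -- the uniformizer
  set a₀ : O := f.coeff 0 with ha₀
  have ha₀m : a₀ ∈ maximalIdeal O := hf.mem (by omega)
  have ha₀2 : a₀ ∉ maximalIdeal O ^ 2 := hf.notMem
  have hm : maximalIdeal O = Ideal.span {a₀} := maximalIdeal_eq_span_of_notMem_sq ha₀m ha₀2
  set c : O := - a₀ with hc
  have hcm : c ∈ maximalIdeal O := (maximalIdeal O).neg_mem ha₀m
  have hc2 : c ∉ maximalIdeal O ^ 2 := fun h => ha₀2 (by simpa [hc] using (maximalIdeal O ^ 2).neg_mem h)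
  have hex : ∀ i, ∃ bi : O, (i < e' + 1 → f.coeff i = - c * bi) ∧ (i = 0 → bi = 1) := by
    intro i
    by_cases hi0 : i = 0
    · subst hi0
      exact ⟨1, fun _ => by rw [hc, neg_neg, mul_one], fun _ => rfl⟩
    · by_cases hi : i < e' + 1
      · have h1 : f.coeff i ∈ maximalIdeal O := hf.mem (by omega)
        rw [hm, Ideal.mem_span_singleton'] at h1
        obtain ⟨bi, hbi⟩ := h1
        exact ⟨bi, fun _ => by rw [hc, neg_neg, mul_comm, hbi], fun h => absurd h hi0⟩
      · exact ⟨0, fun h => absurd h hi, fun h => absurd h hi0⟩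
  choose b hb using hex
  have hO : HenselianRing O (maximalIdeal O) := inferInstance
  set g : O[X] := X ^ (e' + 1) - C c with hg
  obtain ⟨z, hz⟩ : ∃ z : AdjoinRoot g, aeval (AdjoinRoot.root g * z) f = 0 :=
    exists_root_adjoinRoot (maximalIdeal O) hO c hcm e'
    (isUnit_natCast O p (e' + 1) he hep) f hmon hdeg b ((hb 0).2 rfl) (fun i hi => (hb i).1 hi)
  -- Kummer extension
  set c' : K := algebraMap O K c with hc'
  set G : K[X] := X ^ (e' + 1) - C c' with hG
  have hgG : g.map (algebraMap O K) = G := by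
    rw [hg, Polynomial.map_sub, Polynomial.map_pow, map_X, map_C]
  have hgmon : g.Monic := monic_X_pow_sub_C c (by omega)
  have H : Irreducible G := by
    rw [← hgG]
    exact irreducible_map_of_isEisensteinAt g hgmon (by rw [hg, natDegree_X_pow_sub_C]; omega)
      (isEisensteinAt_X_pow_sub_C c hcm hc2 (e' + 1) he)
  haveI : Fact (Irreducible G) := ⟨H⟩
  have hζ : (primitiveRoots (e' + 1) K).Nonempty := by
    obtain ⟨ζ, hζ⟩ := exists_primitiveRoot O p (e' + 1) he hep
    exact ⟨algebraMap O K ζ, (mem_primitiveRoots (by omega)).mpr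
      (hζ.map_of_injective (IsFractionRing.injective O K))⟩
  haveI : NeZero (e' + 1) := ⟨by omega⟩
  haveI hsp : IsSplittingField K (AdjoinRoot G) G := isSplittingField_AdjoinRoot_X_pow_sub_C hζ H
  have hgal : IsGalois K (AdjoinRoot G) := isGalois_of_isSplittingField_X_pow_sub_C hζ H _
  have hcyc : IsCyclic (AdjoinRoot G ≃ₐ[K] AdjoinRoot G) :=
    isCyclic_of_isSplittingField_X_pow_sub_C hζ H _
  have hrank : Module.finrank K (AdjoinRoot G) = e' + 1 :=
    finrank_of_isSplittingField_X_pow_sub_C hζ H _
  haveI : FiniteDimensional K (AdjoinRoot G) := IsSplittingField.finiteDimensional _ G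
  -- the map
  let ψ : AdjoinRoot g →ₐ[O] AdjoinRoot G :=
    AdjoinRoot.liftAlgHom g (Algebra.ofId O (AdjoinRoot G)) (AdjoinRoot.root G) (by
      rw [hg, eval₂_sub, eval₂_pow, eval₂_X, eval₂_C]
      have := root_pow_eq c' e'
      rw [this, sub_eq_zero]
      exact (IsScalarTower.algebraMap_apply O K (AdjoinRoot G) c).symm)
  set α : AdjoinRoot G := ψ (AdjoinRoot.root g * z) with hα
  have hαf : aeval α f = 0 := by
    rw [hα, aeval_algHom_apply, hz, map_zero]
  have hαF : aeval α F = 0 := by
    rw [hF, aeval_map_algebraMap]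
    exact hαf
  have hFmon : F.Monic := hmon.map _
  have hFirr : Irreducible F :=
    irreducible_map_of_isEisensteinAt f hmon (by omega) hf
  have hmin : minpoly K α = F := (minpoly.eq_of_irreducible_of_monic hFirr hαF hFmon).symm
  have hFsplits : (F.map (algebraMap K (AdjoinRoot G))).Splits := by
    rw [← hmin]
    exact Normal.splits inferInstance α
  have hFdeg : F.natDegree = e' + 1 := by rw [hF, hmon.natDegree_map, hdeg]
  have hint : IsIntegral K α := IsIntegral.of_finite K α
  have htop : K⟮α⟯ = ⊤ := by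
    apply IntermediateField.eq_of_le_of_finrank_eq le_top
    rw [IntermediateField.adjoin.finrank hint, hmin, hFdeg, IntermediateField.finrank_top', hrank]
  haveI : IsSplittingField K (AdjoinRoot G) F := by
    refine ⟨hFsplits, ?_⟩
    rw [eq_top_iff, ← IntermediateField.top_toSubalgebra, ← htop,
      IntermediateField.adjoin_simple_toSubalgebra_of_isAlgebraic hint.isAlgebraic]
    apply Algebra.adjoin_mono
    rw [Set.singleton_subset_iff, mem_rootSet_of_ne hFmon.ne_zero]
    exact hαF
  let E : AdjoinRoot G ≃ₐ[K] F.SplittingField := IsSplittingField.algEquiv (AdjoinRoot G) F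
  refine ⟨?_, ?_⟩
  · rw [← E.toLinearEquiv.finrank_eq, hrank]
  · exact isCyclic_of_surjective (AlgEquiv.autCongr E) (AlgEquiv.autCongr E).surjective

end Main

end Groth.Agent.Lib.Helper10.TameKummer
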