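import Mathlib
import Groth.Agent.Lib.Helper10.Tate10

/-!
# Differentials with bounded divisor form a Riemann–Roch space (general constant field)
-/

set_option autoImplicit false
set_option linter.style.haveILetI false
set_option linter.unusedSectionVars false
set_option linter.unusedVariables false

universe u v w

open FunFld LaurentSeries

namespace Groth.Agent.Lib.helper10.Tate

open FF RD

variable {k : Type u} {K : Type v} [Field k] [Field K] [Algebra k K]

variable (F : Place k K → Type w) [∀ P, Field (F P)] [∀ P, Algebra k (F P)]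
  [∀ P, FiniteDimensional k (F P)]
  (Φ : ∀ P, K →ₐ[k] LaurentSeries (F P)) (hΦ : ∀ P, LocRes.IsExpansionAt P.1 (Φ P))

include hΦ in
/-- The divisor of `dv`: canonical, and computing the orders of all `y dv`. -/
theorem exists_canonical_ordDiff (hK : IsFunctionField k K) (hg : IsGeometric k K) {v : K}
    (hv : KaehlerDifferential.D k K v ≠ 0) :
    ∃ W : Divisor k K, IsCanonical k K W ∧
      (∀ P, Valued.v (LocRes.D (F P) (Φ P v)) = WithZero.exp (-(W P))) ∧
      ∀ (y : K) (P : Place k K), LocRes.vDiff (Φ P) y v = P.1 y * WithZero.exp (-(W P)) := by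
  obtain ⟨W, hW, hWP⟩ := exists_divisor_eq_ordDiff F Φ hΦ hK hg one_ne_zero hv
  have hval : ∀ P, Valued.v (LocRes.D (F P) (Φ P v)) = WithZero.exp (-(W P)) := by
    intro P
    rw [hWP P, ordDiff_one]
    exact val_eq_exp_neg_ordL (D_exp_ne_zero hK hg (hΦ P) hv)
  refine ⟨W, ⟨_, resWg_ne_zero F Φ hΦ hK hg one_ne_zero hv, hW⟩, hval, ?_⟩
  intro y P
  unfold LocRes.vDiff
  rw [map_mul, (hΦ P).1, hval P]

theorem vDiff_le_iff_mem_L {W : Divisor k K} {v : K}
    (hW : ∀ (y : K) (P : Place k K), LocRes.vDiff (Φ P) y v = P.1 y * WithZero.exp (-(W P)))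
    (D : Divisor k K) (y : K) :
    (∀ P, LocRes.vDiff (Φ P) y v ≤ WithZero.exp (-(D P))) ↔ y ∈ L (W - D) := by
  rw [mem_L_iff]
  refine forall_congr' fun P => ?_
  rw [hW y P, Finsupp.sub_apply]
  constructor
  · intro h
    have h1 := mul_le_mul' h (le_refl (WithZero.exp (W P)))
    rw [mul_assoc, ← WithZero.exp_add, neg_add_cancel, WithZero.exp_zero, mul_one,
      ← WithZero.exp_add] at h1
    rwa [show -(D P) + W P = W P - D P by ring] at h1
  · intro h
    have h1 := mul_le_mul' h (le_refl (WithZero.exp (-(W P))))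
    rwa [← WithZero.exp_add, show W P - D P + -(W P) = -(D P) by ring] at h1

theorem finrank_WD_eq_ell (hK : IsFunctionField k K) {W : Divisor k K} (hW : IsCanonical k K W)
    (D : Divisor k K) : Module.finrank k (WD D) = ell (W - D) := by
  have h1 := (finrank_WD hK D).2
  have h2 := riemann_roch hK hW D
  unfold delta at h1
  have : (Module.finrank k (WD D) : ℤ) = (ell (W - D) : ℤ) := by linarith
  exact_mod_cast this

end Groth.Agent.Lib.helper10.Tate
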