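import Groth.Agent.Lib.Helper10.Tate3
import Groth.Agent.Lib.Helper10.HasseExp15

/-!
# The residue theorem over an algebraically closed constant field, and `deg (ds) = 2g - 2`
-/

set_option autoImplicit false
set_option linter.unusedSectionVars false
set_option linter.style.haveILetI false

universe u v

open FunFld

namespace Groth.Agent.Lib.helper10.Tate

open FF RD

variable {k : Type u} {K : Type v} [Field k] [Field K] [Algebra k K]

/-- Every subspace is the range of an idempotent. -/
theorem exists_idem_range {V : Type*} [AddCommGroup V] [Module k V] (A : Submodule k V) :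
    ∃ ρ : Module.End k V, ρ * ρ = ρ ∧ LinearMap.range ρ = A := by
  obtain ⟨C, hC⟩ := Submodule.exists_isCompl A
  exact ⟨A.projection C hC, Submodule.isIdempotentElem_projection hC, Submodule.range_projection hC⟩

/-- A uniformizer at a place with a `k`-rational expansion generates the Kähler differentials
(algebraically closed constant field). -/
theorem kaehler_gen_of_uniformizer (hK : IsFunctionField k K) [IsAlgClosed k] (P : Place k K)
    {χ : K →ₐ[k] LaurentSeries k} (hχ : LocRes.IsExpansionAt P.1 χ) {t : K}
    (ht : P.1 t = WithZero.exp (-1 : ℤ)) (ω : Ω[K⁄k]) :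
    ∃ w : K, ω = w • KaehlerDifferential.D k K t := by
  have hv : Valued.v (χ t) = WithZero.exp (-(1 : ℤ)) := by rw [hχ.1, ht]
  have hD := FF.val_D_eq hv (by simp)
  have hD0 : LocRes.D k (χ t) ≠ 0 := by
    intro h0
    rw [h0, map_zero] at hD
    exact WithZero.exp_ne_zero hD.symm
  have hne : KaehlerDifferential.D k K t ≠ 0 := FF.kaehler_D_ne_zero_of χ hD0
  have h1 := Groth.Agent.S11003.result k K hK
    (HasseExp.isGeometric_of_isAlgClosed (k := k) (K := K))
  obtain ⟨w, hw⟩ := (finrank_eq_one_iff_of_nonzero' _ hne).mp h1 ω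
  exact ⟨w, hw.symm⟩

/-- The residue theorem over an algebraically closed constant field: the residues of `u dv`, read
through any family of expansions, sum to zero over any finite set of places containing the poles of
`u` and `v`. -/
theorem sum_resExp_eq_zero (hK : IsFunctionField k K) [IsAlgClosed k]
    (Φ : Place k K → (K →ₐ[k] LaurentSeries k))
    (hΦ : ∀ P : Place k K, LocRes.IsExpansionAt P.1 (Φ P)) (u v : K)
    (S : Finset (Place k K)) (hS : ∀ P ∉ S, P.1 u ≤ 1 ∧ P.1 v ≤ 1) :
    ∑ P ∈ S, LocRes.resExp (Φ P) u v = 0 := by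
  obtain ⟨P₀⟩ := exists_place hK
  set D : Divisor k K := Finsupp.single P₀ (-1) with hD
  have hdeg : D.deg < 0 := by
    rw [hD, deg_single]
    have := Place.deg_pos hK P₀
    have h2 : (0 : ℤ) < (P₀.deg : ℤ) := by exact_mod_cast this
    linarith
  have hL : L D = ⊥ := L_eq_bot_of_deg_neg hK hdeg
  choose ρ hρ hr using fun P : Place k K => exists_idem_range (Place.ball P (D P))
  have h0 := psi_piProj_eq_zero D ρ hr hK hρ hL u v
  rw [psi_piProj_eq_sum D ρ hr hK hρ u v S hS] at h0
  rw [← h0]
  refine Finset.sum_congr rfl fun P _ => ?_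
  obtain ⟨t, ht⟩ := Place.exists_uniformizer P
  exact (lpsi_eq_resExp hK P (D P) (hρ P) (hr P) (fun z hz => Place.exists_const_sub_lt hK P hz)
    (Φ P) (hΦ P) ht (kaehler_gen_of_uniformizer hK P (hΦ P) ht) u v).symm

end Groth.Agent.Lib.helper10.Tate
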