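import Mathlib
import Groth.Prelude.Def_W4c1hilbpnTgt

set_option linter.style.haveILetI false
set_option linter.unusedSectionVars false

namespace Groth.Agent.Lib.helper10.TgtMono

open MvPolynomial W4c1hilbpn
open scoped Classical

variable {σ : Type*} {k : Type*} [Field k]

/-! ### Monomial ideal basics -/

theorem exps_add {I : Ideal (MvPolynomial σ k)} {β : σ →₀ ℕ} (hβ : β ∈ exps I) (γ : σ →₀ ℕ) :
    β + γ ∈ exps I := by
  have h : monomial (β + γ) (1 : k) = monomial β 1 * monomial γ 1 := by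
    rw [monomial_mul, one_mul]
  change monomial (β + γ) (1 : k) ∈ I
  rw [h]
  exact I.mul_mem_right _ hβ

theorem exps_of_le {I : Ideal (MvPolynomial σ k)} {β β' : σ →₀ ℕ} (hβ : β ∈ exps I) (h : β ≤ β') :
    β' ∈ exps I := by
  have : β' = β + (β' - β) := by
    ext i
    have := h i
    simp only [Finsupp.coe_add, Finsupp.coe_tsub, Pi.add_apply, Pi.sub_apply]
    omega
  rw [this]
  exact exps_add hβ _

theorem monomial_mem {I : Ideal (MvPolynomial σ k)} {β : σ →₀ ℕ} (hβ : β ∈ exps I) (a : k) :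
    monomial β a ∈ I := by
  have : monomial β a = C a * monomial β 1 := by
    rw [C_mul_monomial, mul_one]
  rw [this]
  exact I.mul_mem_left _ hβ

theorem coeff_eq_zero_of_mem {I : Ideal (MvPolynomial σ k)} (hI : IsMonomial I)
    {p : MvPolynomial σ k} (hp : p ∈ I) {γ : σ →₀ ℕ} (hγ : γ ∉ exps I) : coeff γ p = 0 := by
  by_contra h
  exact hγ (hI p hp γ (mem_support_iff.mpr h))

/-- the coefficient functional at a standard monomial on the quotient. -/
noncomputable def coefQ {I : Ideal (MvPolynomial σ k)} (hI : IsMonomial I) (γ : σ →₀ ℕ)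
    (hγ : γ ∉ exps I) : (MvPolynomial σ k ⧸ I) →ₗ[k] k :=
  (Submodule.liftQ (I.restrictScalars k) (lcoeff k γ) (by
    intro p hp
    exact coeff_eq_zero_of_mem hI hp hγ)) ∘ₗ
    (Submodule.Quotient.restrictScalarsEquiv k I).symm.toLinearMap

theorem coefQ_mk {I : Ideal (MvPolynomial σ k)} (hI : IsMonomial I) (γ : σ →₀ ℕ)
    (hγ : γ ∉ exps I) (p : MvPolynomial σ k) :
    coefQ hI γ hγ (Ideal.Quotient.mk I p) = coeff γ p := by
  rfl

theorem mk_monomial_eq_zero {I : Ideal (MvPolynomial σ k)} {β : σ →₀ ℕ} (hβ : β ∈ exps I) (a : k) :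
    Ideal.Quotient.mk I (monomial β a) = 0 :=
  Ideal.Quotient.eq_zero_iff_mem.mpr (monomial_mem hβ a)

/-- two `S`-linear maps from a monomial ideal agreeing on the monomials agree. -/
theorem tgt_ext {I : Ideal (MvPolynomial σ k)} (hI : IsMonomial I) {M : Type*} [AddCommGroup M]
    [Module (MvPolynomial σ k) M]
    (φ φ' : ↥I →ₗ[MvPolynomial σ k] M)
    (h : ∀ (β : σ →₀ ℕ) (hβ : monomial β (1 : k) ∈ I), φ ⟨monomial β 1, hβ⟩ = φ' ⟨monomial β 1, hβ⟩) :
    φ = φ' := by
  ext ⟨p, hp⟩
  have key : ∀ (s : Finset (σ →₀ ℕ)) (hs : ∀ β ∈ s, β ∈ exps I) (f : (σ →₀ ℕ) → k)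
      (hmem : ∑ v ∈ s, monomial v (f v) ∈ I),
      φ ⟨∑ v ∈ s, monomial v (f v), hmem⟩ = φ' ⟨∑ v ∈ s, monomial v (f v), hmem⟩ := by
    intro s
    induction s using Finset.induction_on with
    | empty =>
      intro _ f hmem
      have : (⟨∑ v ∈ (∅ : Finset (σ →₀ ℕ)), monomial v (f v), hmem⟩ : ↥I) = 0 := by
        apply Subtype.ext; simp
      rw [this, map_zero, map_zero]
    | insert a s ha ih =>
      intro hs f hmem
      have ha' : monomial a (1 : k) ∈ I := hs a (Finset.mem_insert_self a s)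
      have hs' : ∀ β ∈ s, β ∈ exps I := fun β hβ => hs β (Finset.mem_insert_of_mem hβ)
      have hmem' : ∑ v ∈ s, monomial v (f v) ∈ I :=
        I.sum_mem fun v hv => monomial_mem (hs' v hv) _
      have e : (⟨∑ v ∈ insert a s, monomial v (f v), hmem⟩ : ↥I) =
          (C (f a) : MvPolynomial σ k) • (⟨monomial a 1, ha'⟩ : ↥I) + ⟨∑ v ∈ s, monomial v (f v), hmem'⟩ := by
        apply Subtype.ext
        change ∑ v ∈ insert a s, monomial v (f v) =
          C (f a) * monomial a 1 + ∑ v ∈ s, monomial v (f v)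
        rw [Finset.sum_insert ha, C_mul_monomial, mul_one]
      rw [e, map_add, map_add, map_smul, map_smul, h a ha', ih hs' f hmem']
  have hp' := p.as_sum
  have hmem : ∑ v ∈ p.support, monomial v (coeff v p) ∈ I := by rw [← hp']; exact hp
  have : (⟨p, hp⟩ : ↥I) = ⟨∑ v ∈ p.support, monomial v (coeff v p), hmem⟩ :=
    Subtype.ext hp'
  rw [this]
  exact key p.support (fun β hβ => hI p hp β hβ) _ hmem


/-! ### Compatible coefficient functions -/

section compat

variable [Finite σ]

theorem shift_apply (β : σ →₀ ℕ) (α : σ → ℤ) (i : σ) :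
    shift β α i = ((β i : ℤ) + α i).toNat := rfl

theorem shift_add_single (β : σ →₀ ℕ) (α : σ → ℤ) (i : σ) (h : 0 ≤ (β i : ℤ) + α i) :
    shift (β + Finsupp.single i 1) α = shift β α + Finsupp.single i 1 := by
  ext j
  rw [Finsupp.add_apply, shift_apply, shift_apply, Finsupp.add_apply]
  by_cases hj : j = i
  · subst hj
    rw [Finsupp.single_eq_same]
    push_cast
    omega
  · rw [Finsupp.single_eq_of_ne hj]
    simp

/-- the active exponents: `x^β ∈ I`, `β + α ≥ 0`, `x^(β+α) ∉ I`. -/
def act (I : Ideal (MvPolynomial σ k)) (α : σ → ℤ) : Set (σ →₀ ℕ) :=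
  {β | β ∈ exps I ∧ (∀ i, 0 ≤ (β i : ℤ) + α i) ∧ shift β α ∉ exps I}

structure Compat (I : Ideal (MvPolynomial σ k)) (α : σ → ℤ) (c : (σ →₀ ℕ) → k) : Prop where
  off : ∀ β, β ∉ act I α → c β = 0
  step : ∀ β ∈ exps I, ∀ i, β + Finsupp.single i 1 ∈ act I α → c (β + Finsupp.single i 1) = c β

/-- the `k`-linear map on all of `S` attached to a coefficient function. -/
noncomputable def psi (I : Ideal (MvPolynomial σ k)) (α : σ → ℤ) (c : (σ →₀ ℕ) → k) :
    MvPolynomial σ k →ₗ[k] (MvPolynomial σ k ⧸ I) :=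
  (basisMonomials σ k).constr k (fun β => c β • Ideal.Quotient.mk I (monomial (shift β α) 1))

theorem psi_monomial (I : Ideal (MvPolynomial σ k)) (α : σ → ℤ) (c : (σ →₀ ℕ) → k)
    (β : σ →₀ ℕ) (a : k) :
    psi I α c (monomial β a) = a • c β • Ideal.Quotient.mk I (monomial (shift β α) 1) := by
  have h : monomial β a = a • (basisMonomials σ k) β := by
    rw [coe_basisMonomials, smul_monomial, smul_eq_mul, mul_one]
  rw [h, map_smul, psi, Module.Basis.constr_basis]

theorem smul_quot (I : Ideal (MvPolynomial σ k)) (a : k) (q : MvPolynomial σ k ⧸ I) :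
    (C a : MvPolynomial σ k) • q = a • q := by
  induction q using Quotient.inductionOn' with
  | h p =>
    change Ideal.Quotient.mk I (C a * p) = Ideal.Quotient.mk I (a • p)
    rw [C_mul']

theorem psi_X_mul_monomial {I : Ideal (MvPolynomial σ k)} {α : σ → ℤ} {c : (σ →₀ ℕ) → k}
    (hc : Compat I α c) (i : σ) {β : σ →₀ ℕ} (hβ : β ∈ exps I) (a : k) :
    psi I α c (X i * monomial β a) = (X i : MvPolynomial σ k) • psi I α c (monomial β a) := by
  have e1 : (X i : MvPolynomial σ k) * monomial β a = monomial (β + Finsupp.single i 1) a := by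
    rw [X, monomial_mul, one_mul, add_comm]
  rw [e1, psi_monomial, psi_monomial]
  have hsm : ∀ (γ : σ →₀ ℕ), (X i : MvPolynomial σ k) • Ideal.Quotient.mk I (monomial γ (1 : k)) =
      Ideal.Quotient.mk I (monomial (γ + Finsupp.single i 1) 1) := by
    intro γ
    change Ideal.Quotient.mk I (X i * monomial γ (1 : k)) = _
    rw [X, monomial_mul, one_mul, add_comm]
  rw [smul_comm (X i : MvPolynomial σ k) a, smul_comm (X i : MvPolynomial σ k) (c β), hsm]
  by_cases h1 : β + Finsupp.single i 1 ∈ act I α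
  · rw [hc.step β hβ i h1]
    by_cases h2 : β ∈ act I α
    · rw [shift_add_single β α i (h2.2.1 i)]
    · rw [hc.off β h2, zero_smul, zero_smul]
  · rw [hc.off _ h1, zero_smul]
    by_cases h2 : β ∈ act I α
    · have h3 : shift (β + Finsupp.single i 1) α ∈ exps I := by
        by_contra h3
        apply h1
        refine ⟨exps_add hβ _, fun j => ?_, h3⟩
        have := h2.2.1 j
        rw [Finsupp.add_apply]
        push_cast
        have : (0 : ℤ) ≤ ((Finsupp.single i 1 : σ →₀ ℕ) j : ℤ) := by positivity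
        linarith
      rw [shift_add_single β α i (h2.2.1 i)] at h3
      rw [mk_monomial_eq_zero h3, smul_zero, smul_zero, smul_zero]
    · rw [hc.off β h2, zero_smul, smul_zero]

theorem psi_mul {I : Ideal (MvPolynomial σ k)} (hI : IsMonomial I) {α : σ → ℤ}
    {c : (σ →₀ ℕ) → k} (hc : Compat I α c) (s : MvPolynomial σ k) :
    ∀ p ∈ I, psi I α c (s * p) = s • psi I α c p := by
  induction s using MvPolynomial.induction_on with
  | C a =>
    intro p _
    rw [smul_quot, C_mul', map_smul]
  | add s t hs ht =>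
    intro p hp
    rw [add_mul, map_add, hs p hp, ht p hp, add_smul]
  | mul_X s i hs =>
    intro p hp
    have hX : psi I α c (X i * p) = (X i : MvPolynomial σ k) • psi I α c p := by
      rw [p.as_sum, Finset.mul_sum, map_sum, map_sum, Finset.smul_sum]
      refine Finset.sum_congr rfl fun v hv => ?_
      exact psi_X_mul_monomial hc i (hI p hp v hv) _
    rw [mul_assoc, hs (X i * p) (I.mul_mem_left _ hp), hX, mul_smul]

/-- the tangent vector attached to a compatible coefficient function. -/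
noncomputable def mkTgt {I : Ideal (MvPolynomial σ k)} (hI : IsMonomial I) {α : σ → ℤ}
    {c : (σ →₀ ℕ) → k} (hc : Compat I α c) : Tgt I where
  toFun p := psi I α c p.1
  map_add' p q := by
    change psi I α c (p.1 + q.1) = _
    rw [map_add]
  map_smul' s p := by
    change psi I α c (s * p.1) = s • psi I α c p.1
    exact psi_mul hI hc s p.1 p.2

theorem mkTgt_monomial {I : Ideal (MvPolynomial σ k)} (hI : IsMonomial I) {α : σ → ℤ}
    {c : (σ →₀ ℕ) → k} (hc : Compat I α c) (β : σ →₀ ℕ) (hβ : monomial β (1 : k) ∈ I) :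
    mkTgt hI hc ⟨monomial β 1, hβ⟩ = c β • Ideal.Quotient.mk I (monomial (shift β α) 1) := by
  change psi I α c (monomial β 1) = _
  rw [psi_monomial, one_smul]

theorem mkTgt_mem {I : Ideal (MvPolynomial σ k)} (hI : IsMonomial I) {α : σ → ℤ}
    {c : (σ →₀ ℕ) → k} (hc : Compat I α c) : mkTgt hI hc ∈ tPiece I α := by
  intro β hβ
  refine ⟨fun _ => ?_, fun h => ?_⟩
  · rw [mkTgt_monomial]
    exact Submodule.smul_mem _ _ (Submodule.subset_span rfl)
  · rw [mkTgt_monomial]
    have : β ∉ act I α := by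
      rintro ⟨_, h2, _⟩
      obtain ⟨i, hi⟩ := h
      exact absurd (h2 i) (not_le.mpr hi)
    rw [hc.off β this, zero_smul]


/-- the coefficient function of a tangent vector. -/
noncomputable def coefFn {I : Ideal (MvPolynomial σ k)} (hI : IsMonomial I) (α : σ → ℤ)
    (φ : Tgt I) (β : σ →₀ ℕ) : k :=
  if h : β ∈ act I α then coefQ hI (shift β α) h.2.2 (φ ⟨monomial β 1, h.1⟩) else 0

theorem coefFn_add {I : Ideal (MvPolynomial σ k)} (hI : IsMonomial I) (α : σ → ℤ)
    (φ φ' : Tgt I) (β : σ →₀ ℕ) :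
    coefFn hI α (φ + φ') β = coefFn hI α φ β + coefFn hI α φ' β := by
  unfold coefFn
  split_ifs with h
  · rw [LinearMap.add_apply, map_add]
  · rw [add_zero]

theorem coefFn_smul {I : Ideal (MvPolynomial σ k)} (hI : IsMonomial I) (α : σ → ℤ)
    (a : k) (φ : Tgt I) (β : σ →₀ ℕ) :
    coefFn hI α (a • φ) β = a * coefFn hI α φ β := by
  unfold coefFn
  split_ifs with h
  · rw [LinearMap.smul_apply, map_smul, smul_eq_mul]
  · rw [mul_zero]

theorem apply_monomial {I : Ideal (MvPolynomial σ k)} (hI : IsMonomial I) {α : σ → ℤ}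
    {φ : Tgt I} (hφ : φ ∈ tPiece I α) (β : σ →₀ ℕ) (hβ : monomial β (1 : k) ∈ I) :
    φ ⟨monomial β 1, hβ⟩ = coefFn hI α φ β • Ideal.Quotient.mk I (monomial (shift β α) 1) := by
  by_cases hnn : ∀ i, 0 ≤ (β i : ℤ) + α i
  · obtain ⟨a, ha⟩ := Submodule.mem_span_singleton.mp ((hφ β hβ).1 hnn)
    by_cases hs : shift β α ∈ exps I
    · rw [← ha, mk_monomial_eq_zero hs, smul_zero, smul_zero]
    · have hact : β ∈ act I α := ⟨hβ, hnn, hs⟩
      have : coefFn hI α φ β = a := by
        unfold coefFn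
        rw [dif_pos hact, ← ha, map_smul, coefQ_mk, coeff_monomial, if_pos rfl, smul_eq_mul,
          mul_one]
      rw [this, ha]
  · push Not at hnn
    rw [(hφ β hβ).2 hnn]
    have : β ∉ act I α := by
      rintro ⟨_, h2, _⟩
      obtain ⟨i, hi⟩ := hnn
      exact absurd (h2 i) (not_le.mpr hi)
    unfold coefFn
    rw [dif_neg this, zero_smul]

theorem compat_coefFn {I : Ideal (MvPolynomial σ k)} (hI : IsMonomial I) {α : σ → ℤ}
    {φ : Tgt I} (hφ : φ ∈ tPiece I α) : Compat I α (coefFn hI α φ) := by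
  refine ⟨fun β hβ => ?_, fun β hβ i hact => ?_⟩
  · unfold coefFn
    rw [dif_neg hβ]
  · have hβ' : monomial (β + Finsupp.single i 1) (1 : k) ∈ I := hact.1
    have hβ0 : monomial β (1 : k) ∈ I := hβ
    have e1 : (⟨monomial (β + Finsupp.single i 1) 1, hβ'⟩ : ↥I) =
        (X i : MvPolynomial σ k) • (⟨monomial β 1, hβ0⟩ : ↥I) := by
      apply Subtype.ext
      change monomial (β + Finsupp.single i 1) (1 : k) = X i * monomial β 1
      rw [X, monomial_mul, one_mul, add_comm]
    have e2 := apply_monomial hI hφ (β + Finsupp.single i 1) hβ'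
    rw [e1, map_smul, apply_monomial hI hφ β hβ0] at e2
    have e3 := congrArg (coefQ hI (shift (β + Finsupp.single i 1) α) hact.2.2) e2
    have hsm : (X i : MvPolynomial σ k) • (coefFn hI α φ β •
        Ideal.Quotient.mk I (monomial (shift β α) (1 : k))) =
        Ideal.Quotient.mk I (monomial (shift β α + Finsupp.single i 1) (coefFn hI α φ β)) := by
      rw [← smul_quot, ← Ideal.Quotient.mk_eq_mk, ← Submodule.Quotient.mk_smul,
        ← Submodule.Quotient.mk_smul]
      congr 1
      rw [smul_eq_mul, smul_eq_mul, C_mul_monomial, mul_one, X, monomial_mul, one_mul, add_comm]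
    have r1 : coefQ hI (shift (β + Finsupp.single i 1) α) hact.2.2
        (Ideal.Quotient.mk I (monomial (shift β α + Finsupp.single i 1) (coefFn hI α φ β))) =
        if shift β α + Finsupp.single i 1 = shift (β + Finsupp.single i 1) α then
          coefFn hI α φ β else 0 := by
      rw [coefQ_mk, coeff_monomial]
    have r2 : coefQ hI (shift (β + Finsupp.single i 1) α) hact.2.2
        (coefFn hI α φ (β + Finsupp.single i 1) •
          Ideal.Quotient.mk I (monomial (shift (β + Finsupp.single i 1) α) 1)) =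
        coefFn hI α φ (β + Finsupp.single i 1) := by
      rw [map_smul, coefQ_mk, coeff_monomial, if_pos rfl, smul_eq_mul, mul_one]
    rw [hsm, r1, r2] at e3
    by_cases h2 : β ∈ act I α
    · rw [shift_add_single β α i (h2.2.1 i), if_pos rfl] at e3
      exact e3.symm
    · have h0 : coefFn hI α φ β = 0 := by
        unfold coefFn
        rw [dif_neg h2]
      rw [h0] at e3 ⊢
      rw [← e3]
      split_ifs <;> rfl


/-- compatible coefficient functions as a subspace. -/
def compatSub (I : Ideal (MvPolynomial σ k)) (α : σ → ℤ) : Submodule k ((σ →₀ ℕ) → k) where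
  carrier := {c | Compat I α c}
  zero_mem' := ⟨fun _ _ => rfl, fun _ _ _ _ => rfl⟩
  add_mem' := by
    intro c c' (hc : Compat I α c) (hc' : Compat I α c')
    refine ⟨fun β hβ => ?_, fun β hβ i h => ?_⟩
    · rw [Pi.add_apply, hc.off β hβ, hc'.off β hβ, add_zero]
    · rw [Pi.add_apply, Pi.add_apply, hc.step β hβ i h, hc'.step β hβ i h]
  smul_mem' := by
    intro a c (hc : Compat I α c)
    refine ⟨fun β hβ => ?_, fun β hβ i h => ?_⟩
    · rw [Pi.smul_apply, hc.off β hβ, smul_zero]
    · rw [Pi.smul_apply, Pi.smul_apply, hc.step β hβ i h]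

theorem coefFn_mkTgt {I : Ideal (MvPolynomial σ k)} (hI : IsMonomial I) {α : σ → ℤ}
    {c : (σ →₀ ℕ) → k} (hc : Compat I α c) (β : σ →₀ ℕ) :
    coefFn hI α (mkTgt hI hc) β = c β := by
  unfold coefFn
  split_ifs with h
  · rw [mkTgt_monomial, map_smul, coefQ_mk, coeff_monomial, if_pos rfl, smul_eq_mul, mul_one]
  · rw [hc.off β h]

/-- the structure theorem: a graded piece of `T(I)` is the space of compatible coefficient
functions. -/
noncomputable def tPieceEquiv {I : Ideal (MvPolynomial σ k)} (hI : IsMonomial I) (α : σ → ℤ) :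
    ↥(tPiece I α) ≃ₗ[k] ↥(compatSub I α) where
  toFun φ := ⟨coefFn hI α φ.1, compat_coefFn hI φ.2⟩
  map_add' φ φ' := by
    apply Subtype.ext
    funext β
    exact coefFn_add hI α φ.1 φ'.1 β
  map_smul' a φ := by
    apply Subtype.ext
    funext β
    exact coefFn_smul hI α a φ.1 β
  invFun c := ⟨mkTgt hI c.2, mkTgt_mem hI c.2⟩
  left_inv φ := by
    apply Subtype.ext
    apply tgt_ext hI
    intro β hβ
    change mkTgt hI (compat_coefFn hI φ.2) ⟨monomial β 1, hβ⟩ = φ.1 ⟨monomial β 1, hβ⟩
    rw [mkTgt_monomial, apply_monomial hI φ.2 β hβ]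
  right_inv c := by
    apply Subtype.ext
    funext β
    exact coefFn_mkTgt hI c.2 β

end compat

end Groth.Agent.Lib.helper10.TgtMono
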