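import Mathlib
import Groth.Prelude.Def_W4c1hilbpnTgt
import Groth.Agent.Lib.Helper10.TgtMono

set_option linter.style.haveILetI false
set_option linter.unusedSectionVars false

namespace Groth.Agent.Lib.helper10.TgtMono

open MvPolynomial W4c1hilbpn
open scoped Classical

variable {σ : Type*} {k : Type*} [Field k] [Fintype σ]

/-- the integer vertex `β + α`. -/
def vtx (β : σ →₀ ℕ) (α : σ → ℤ) : σ → ℤ := fun i => (β i : ℤ) + α i

/-- the exponent `γ - α` (truncated). -/
noncomputable def pre (γ : σ → ℤ) (α : σ → ℤ) : σ →₀ ℕ :=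
  Finsupp.equivFunOnFinite.symm fun i => (γ i - α i).toNat

theorem pre_apply (γ α : σ → ℤ) (i : σ) : pre γ α i = (γ i - α i).toNat := rfl

theorem pre_vtx (β : σ →₀ ℕ) (α : σ → ℤ) : pre (vtx β α) α = β := by
  ext i
  rw [pre_apply, vtx]
  simp

theorem vtx_injective (α : σ → ℤ) {β β' : σ →₀ ℕ} (h : vtx β α = vtx β' α) : β = β' := by
  rw [← pre_vtx β α, h, pre_vtx]

theorem stepGraph_adj_iff (a b : σ → ℤ) : (stepGraph σ).Adj a b ↔
    ∃ i, (b i = a i + 1 ∨ a i = b i + 1) ∧ ∀ j, j ≠ i → b j = a j := by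
  unfold stepGraph
  rw [SimpleGraph.fromRel_adj]
  constructor
  · rintro ⟨_, h⟩
    have hsum : ∑ i, |a i - b i| = 1 := by
      rcases h with h | h
      · exact h
      · rw [← h]
        exact Finset.sum_congr rfl fun i _ => abs_sub_comm _ _
    obtain ⟨i, hi⟩ : ∃ i, |a i - b i| ≠ 0 := by
      by_contra h0
      push Not at h0
      simp [h0] at hsum
    have h1 : |a i - b i| + ∑ j ∈ Finset.univ.erase i, |a j - b j| = ∑ j, |a j - b j| :=
      Finset.add_sum_erase Finset.univ (fun j => |a j - b j|) (Finset.mem_univ i)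
    have h2 : 0 ≤ ∑ j ∈ Finset.univ.erase i, |a j - b j| :=
      Finset.sum_nonneg fun _ _ => abs_nonneg _
    have h3 : 1 ≤ |a i - b i| := by
      have := abs_nonneg (a i - b i)
      omega
    have h4 : |a i - b i| = 1 := by omega
    have h5 : ∑ j ∈ Finset.univ.erase i, |a j - b j| = 0 := by omega
    rw [Finset.sum_eq_zero_iff_of_nonneg (fun _ _ => abs_nonneg _)] at h5
    refine ⟨i, ?_, fun j hj => ?_⟩
    · rcases (abs_eq (by norm_num : (0 : ℤ) ≤ 1)).mp h4 with h | h
      · right; omega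
      · left; omega
    · have := h5 j (Finset.mem_erase.mpr ⟨hj, Finset.mem_univ j⟩)
      rw [abs_eq_zero] at this
      omega
  · rintro ⟨i, hi, hj⟩
    have hne : a ≠ b := by
      intro h
      rw [h] at hi
      omega
    refine ⟨hne, Or.inl ?_⟩
    rw [← Finset.add_sum_erase Finset.univ (fun j => |a j - b j|) (Finset.mem_univ i)]
    have h5 : ∑ j ∈ Finset.univ.erase i, |a j - b j| = 0 := by
      apply Finset.sum_eq_zero
      intro j hj'
      rw [hj j (Finset.mem_erase.mp hj').1, sub_self, abs_zero]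
    rw [h5, add_zero]
    rcases hi with h | h
    · rw [h]
      have : a i - (a i + 1) = -1 := by ring
      rw [this]
      rfl
    · rw [h]
      have : b i + 1 - b i = 1 := by ring
      rw [this]
      rfl

theorem mem_region_iff (I : Ideal (MvPolynomial σ k)) (α : σ → ℤ) (γ : σ → ℤ) :
    γ ∈ region I α ↔ (∃ β ∈ exps I, γ = vtx β α) ∧
      ¬ ((∀ i, 0 ≤ γ i) ∧ (Finsupp.equivFunOnFinite.symm fun i => (γ i).toNat) ∈ exps I) :=
  Iff.rfl

theorem vtx_mem_region_iff {I : Ideal (MvPolynomial σ k)} {α : σ → ℤ} {β : σ →₀ ℕ}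
    (hβ : β ∈ exps I) :
    vtx β α ∈ region I α ↔ ¬ ((∀ i, 0 ≤ (β i : ℤ) + α i) ∧ shift β α ∈ exps I) := by
  rw [mem_region_iff]
  constructor
  · rintro ⟨_, h⟩
    exact h
  · intro h
    exact ⟨⟨β, hβ, rfl⟩, h⟩

theorem vtx_mem_region_of_act {I : Ideal (MvPolynomial σ k)} {α : σ → ℤ} {β : σ →₀ ℕ}
    (hβ : β ∈ act I α) : vtx β α ∈ region I α :=
  (vtx_mem_region_iff hβ.1).mpr fun h => hβ.2.2 h.2

theorem act_of_mem_region {I : Ideal (MvPolynomial σ k)} {α : σ → ℤ} {β : σ →₀ ℕ}
    (h : vtx β α ∈ region I α) (hnn : ∀ i, 0 ≤ vtx β α i) : β ∈ act I α := by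
  obtain ⟨⟨β', hβ', e⟩, h2⟩ := (mem_region_iff I α _).mp h
  have := vtx_injective α e
  subst this
  exact ⟨hβ', hnn, fun h3 => h2 ⟨hnn, h3⟩⟩

/-- the induced graph on the region. -/
abbrev rG (I : Ideal (MvPolynomial σ k)) (α : σ → ℤ) : SimpleGraph ↥(region I α) :=
  (stepGraph σ).induce (region I α)

/-- the function on lattice points attached to a coefficient function. -/
noncomputable def gfun (α : σ → ℤ) (c : (σ →₀ ℕ) → k) (γ : σ → ℤ) : k :=
  if ∀ i, 0 ≤ γ i then c (pre γ α) else 0

theorem gfun_vtx_of_nn (α : σ → ℤ) (c : (σ →₀ ℕ) → k) (β : σ →₀ ℕ) (h : ∀ i, 0 ≤ vtx β α i) :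
    gfun α c (vtx β α) = c β := by
  unfold gfun
  rw [if_pos h, pre_vtx]

theorem gfun_of_not_nn (α : σ → ℤ) (c : (σ →₀ ℕ) → k) (γ : σ → ℤ) (h : ¬ ∀ i, 0 ≤ γ i) :
    gfun α c γ = 0 := by
  unfold gfun
  rw [if_neg h]

theorem vtx_add_single (β : σ →₀ ℕ) (α : σ → ℤ) (i : σ) {γ' : σ → ℤ}
    (h1 : γ' i = vtx β α i + 1) (h2 : ∀ j, j ≠ i → γ' j = vtx β α j) :
    γ' = vtx (β + Finsupp.single i 1) α := by
  funext j
  by_cases hj : j = i
  · subst hj
    rw [h1]
    simp only [vtx, Finsupp.add_apply, Finsupp.single_eq_same]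
    push_cast
    ring
  · rw [h2 j hj]
    simp only [vtx, Finsupp.add_apply, Finsupp.single_eq_of_ne hj, add_zero]

theorem gfun_step {I : Ideal (MvPolynomial σ k)} {α : σ → ℤ} {c : (σ →₀ ℕ) → k}
    (hc : Compat I α c) {γ γ' : σ → ℤ} (hγ : γ ∈ region I α) (hγ' : γ' ∈ region I α) (i : σ)
    (h1 : γ' i = γ i + 1) (h2 : ∀ j, j ≠ i → γ' j = γ j) : gfun α c γ = gfun α c γ' := by
  obtain ⟨⟨β, hβ, e0⟩, -⟩ := (mem_region_iff I α γ).mp hγ
  subst e0
  have e := vtx_add_single β α i h1 h2
  subst e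
  by_cases hnn' : ∀ j, 0 ≤ vtx (β + Finsupp.single i 1) α j
  · have hact := act_of_mem_region hγ' hnn'
    rw [gfun_vtx_of_nn α c _ hnn', hc.step β hβ i hact]
    by_cases hnn : ∀ j, 0 ≤ vtx β α j
    · rw [gfun_vtx_of_nn α c _ hnn]
    · rw [gfun_of_not_nn α c _ hnn]
      symm
      apply hc.off
      intro h
      exact hnn h.2.1
  · rw [gfun_of_not_nn α c _ hnn']
    apply gfun_of_not_nn
    intro hnn
    apply hnn'
    intro j
    by_cases hj : j = i
    · subst hj
      rw [h1]
      have := hnn j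
      omega
    · rw [h2 j hj]
      exact hnn j

theorem gfun_adj {I : Ideal (MvPolynomial σ k)} {α : σ → ℤ} {c : (σ →₀ ℕ) → k}
    (hc : Compat I α c) {γ γ' : σ → ℤ} (hγ : γ ∈ region I α) (hγ' : γ' ∈ region I α)
    (h : (stepGraph σ).Adj γ γ') : gfun α c γ = gfun α c γ' := by
  obtain ⟨i, hi, hj⟩ := (stepGraph_adj_iff γ γ').mp h
  rcases hi with hi | hi
  · exact gfun_step hc hγ hγ' i hi hj
  · exact (gfun_step hc hγ' hγ i hi fun j hj' => (hj j hj').symm).symm

theorem gfun_walk {I : Ideal (MvPolynomial σ k)} {α : σ → ℤ} {c : (σ →₀ ℕ) → k}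
    (hc : Compat I α c) {v w : ↥(region I α)} (p : (rG I α).Walk v w) :
    gfun α c v.1 = gfun α c w.1 := by
  induction p with
  | nil => rfl
  | cons h p ih =>
    rw [← ih]
    exact gfun_adj hc (Subtype.property _) (Subtype.property _) (SimpleGraph.comap_adj.mp h)

/-- the induced function on connected components. -/
noncomputable def gComp {I : Ideal (MvPolynomial σ k)} {α : σ → ℤ} {c : (σ →₀ ℕ) → k}
    (hc : Compat I α c) : (rG I α).ConnectedComponent → k :=
  SimpleGraph.ConnectedComponent.lift (fun v => gfun α c v.1) fun _ _ p _ => gfun_walk hc p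

theorem gComp_mk {I : Ideal (MvPolynomial σ k)} {α : σ → ℤ} {c : (σ →₀ ℕ) → k}
    (hc : Compat I α c) (v : ↥(region I α)) :
    gComp hc ((rG I α).connectedComponentMk v) = gfun α c v.1 := rfl

/-- a component is good if all its vertices are nonnegative. -/
def IsGood {I : Ideal (MvPolynomial σ k)} {α : σ → ℤ} (C : (rG I α).ConnectedComponent) : Prop :=
  ∀ v : ↥(region I α), (rG I α).connectedComponentMk v = C → ∀ i, 0 ≤ v.1 i

theorem gComp_of_not_good {I : Ideal (MvPolynomial σ k)} {α : σ → ℤ} {c : (σ →₀ ℕ) → k}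
    (hc : Compat I α c) {C : (rG I α).ConnectedComponent} (hC : ¬ IsGood C) : gComp hc C = 0 := by
  unfold IsGood at hC
  push Not at hC
  obtain ⟨v, rfl, hv⟩ := hC
  rw [gComp_mk]
  apply gfun_of_not_nn
  push Not
  exact hv


/-- the good components. -/
abbrev Good (I : Ideal (MvPolynomial σ k)) (α : σ → ℤ) : Type _ :=
  {C : (rG I α).ConnectedComponent // IsGood C}

theorem gfun_add (α : σ → ℤ) (c c' : (σ →₀ ℕ) → k) (γ : σ → ℤ) :
    gfun α (c + c') γ = gfun α c γ + gfun α c' γ := by
  unfold gfun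
  split_ifs
  · rfl
  · rw [add_zero]

theorem gfun_smul (α : σ → ℤ) (a : k) (c : (σ →₀ ℕ) → k) (γ : σ → ℤ) :
    gfun α (a • c) γ = a * gfun α c γ := by
  unfold gfun
  split_ifs
  · rfl
  · rw [mul_zero]

/-- coefficient functions to functions on good components. -/
noncomputable def toGood (I : Ideal (MvPolynomial σ k)) (α : σ → ℤ) :
    ↥(compatSub I α) →ₗ[k] (Good I α → k) where
  toFun c C := gComp c.2 C.1
  map_add' c c' := by
    funext C
    obtain ⟨C, hC⟩ := C
    induction C using SimpleGraph.ConnectedComponent.ind with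
    | h v =>
      change gfun α (c.1 + c'.1) v.1 = gfun α c.1 v.1 + gfun α c'.1 v.1
      exact gfun_add α c.1 c'.1 v.1
  map_smul' a c := by
    funext C
    obtain ⟨C, hC⟩ := C
    induction C using SimpleGraph.ConnectedComponent.ind with
    | h v =>
      change gfun α (a • c.1) v.1 = a * gfun α c.1 v.1
      exact gfun_smul α a c.1 v.1

theorem toGood_injective (I : Ideal (MvPolynomial σ k)) (α : σ → ℤ) :
    Function.Injective (toGood I α) := by
  rw [← LinearMap.ker_eq_bot, LinearMap.ker_eq_bot']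
  intro c hc0
  apply Subtype.ext
  funext β
  change c.1 β = 0
  by_cases hβ : β ∈ act I α
  · have hreg := vtx_mem_region_of_act hβ
    have h1 : gComp c.2 ((rG I α).connectedComponentMk ⟨vtx β α, hreg⟩) = c.1 β := by
      rw [gComp_mk]
      exact gfun_vtx_of_nn α c.1 β hβ.2.1
    rw [← h1]
    by_cases hg : IsGood ((rG I α).connectedComponentMk ⟨vtx β α, hreg⟩)
    · exact congrFun hc0 ⟨_, hg⟩
    · exact gComp_of_not_good c.2 hg
  · exact c.2.off β hβ

/-- extension by zero of a function on good components. -/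
noncomputable def fExt {I : Ideal (MvPolynomial σ k)} {α : σ → ℤ} (f : Good I α → k)
    (C : (rG I α).ConnectedComponent) : k :=
  if hg : IsGood C then f ⟨C, hg⟩ else 0

/-- the coefficient function attached to a function on good components. -/
noncomputable def cOf {I : Ideal (MvPolynomial σ k)} {α : σ → ℤ} (f : Good I α → k)
    (β : σ →₀ ℕ) : k :=
  if h : vtx β α ∈ region I α then fExt f ((rG I α).connectedComponentMk ⟨vtx β α, h⟩) else 0

theorem compat_cOf {I : Ideal (MvPolynomial σ k)} {α : σ → ℤ} (f : Good I α → k) :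
    Compat I α (cOf f) := by
  refine ⟨fun β hβ => ?_, fun β hβ i hact => ?_⟩
  · unfold cOf
    split_ifs with h
    · unfold fExt
      split_ifs with hg
      · exfalso
        apply hβ
        exact act_of_mem_region h (hg ⟨vtx β α, h⟩ rfl)
      · rfl
    · rfl
  · have h' := vtx_mem_region_of_act hact
    have h : vtx β α ∈ region I α := by
      rw [vtx_mem_region_iff hβ]
      rintro ⟨h1, h2⟩
      apply hact.2.2
      rw [shift_add_single β α i (h1 i)]
      exact exps_add h2 _
    unfold cOf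
    rw [dif_pos h', dif_pos h]
    congr 1
    apply SimpleGraph.ConnectedComponent.connectedComponentMk_eq_of_adj
    rw [SimpleGraph.comap_adj]
    change (stepGraph σ).Adj (vtx (β + Finsupp.single i 1) α) (vtx β α)
    rw [stepGraph_adj_iff]
    refine ⟨i, Or.inr ?_, fun j hj => ?_⟩
    · simp only [vtx, Finsupp.add_apply, Finsupp.single_eq_same]
      push_cast
      ring
    · simp only [vtx, Finsupp.add_apply, Finsupp.single_eq_of_ne hj, add_zero]

theorem vtx_pre_of_mem_region {I : Ideal (MvPolynomial σ k)} {α : σ → ℤ} {γ : σ → ℤ}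
    (h : γ ∈ region I α) : vtx (pre γ α) α = γ := by
  obtain ⟨⟨β, _, e⟩, -⟩ := (mem_region_iff I α γ).mp h
  rw [e, pre_vtx]

theorem toGood_cOf {I : Ideal (MvPolynomial σ k)} {α : σ → ℤ} (f : Good I α → k) :
    toGood I α ⟨cOf f, compat_cOf f⟩ = f := by
  funext C
  obtain ⟨C, hC⟩ := C
  induction C using SimpleGraph.ConnectedComponent.ind with
  | h v =>
    change gfun α (cOf f) v.1 = _
    have hnn := hC v rfl
    unfold gfun
    rw [if_pos hnn]
    have e := vtx_pre_of_mem_region v.2
    have hreg : vtx (pre v.1 α) α ∈ region I α := by rw [e]; exact v.2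
    unfold cOf
    rw [dif_pos hreg]
    have e2 : (⟨vtx (pre v.1 α) α, hreg⟩ : ↥(region I α)) = v := Subtype.ext e
    rw [e2]
    unfold fExt
    rw [dif_pos hC]

/-- coefficient functions are functions on good components. -/
noncomputable def compatEquiv (I : Ideal (MvPolynomial σ k)) (α : σ → ℤ) :
    ↥(compatSub I α) ≃ₗ[k] (Good I α → k) :=
  LinearEquiv.ofBijective (toGood I α)
    ⟨toGood_injective I α, fun f => ⟨⟨cOf f, compat_cOf f⟩, toGood_cOf f⟩⟩

/-- **Structure theorem**: the graded piece of `T(I)` of degree `α` is the space of functions on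
the components of the region `(Ĩ + α) ∖ Ĩ` without vertices having a negative coordinate. -/
noncomputable def tPieceEquivGood {I : Ideal (MvPolynomial σ k)} (hI : IsMonomial I)
    (α : σ → ℤ) : ↥(tPiece I α) ≃ₗ[k] (Good I α → k) :=
  (tPieceEquiv hI α).trans (compatEquiv I α)


/-! ### Finite colength -/

theorem linearIndependent_std {I : Ideal (MvPolynomial σ k)} (hI : IsMonomial I) :
    LinearIndependent k (fun γ : {γ : σ →₀ ℕ // γ ∉ exps I} =>
      Ideal.Quotient.mk I (monomial γ.1 (1 : k))) := by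
  rw [linearIndependent_iff]
  intro l hl
  ext γ0
  have h := congrArg (coefQ hI γ0.1 γ0.2) hl
  rw [Finsupp.linearCombination_apply, Finsupp.sum, map_sum, map_zero] at h
  rw [Finset.sum_eq_single γ0] at h
  · rw [map_smul, coefQ_mk, coeff_monomial, if_pos rfl, smul_eq_mul, mul_one] at h
    exact h
  · intro γ _ hne
    rw [map_smul, coefQ_mk, coeff_monomial, if_neg, smul_zero]
    intro e
    exact hne (Subtype.ext e)
  · intro h0
    rw [Finsupp.notMem_support_iff.mp h0, zero_smul, map_zero]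

theorem finite_std {I : Ideal (MvPolynomial σ k)} (hI : IsMonomial I)
    [Module.Finite k (MvPolynomial σ k ⧸ I)] : Finite {γ : σ →₀ ℕ // γ ∉ exps I} :=
  (linearIndependent_std hI).finite_of_isNoetherian

/-- truncation of an integer vector. -/
noncomputable def toN (γ : σ → ℤ) : σ →₀ ℕ :=
  Finsupp.equivFunOnFinite.symm fun i => (γ i).toNat

theorem toN_apply (γ : σ → ℤ) (i : σ) : toN γ i = (γ i).toNat := rfl

theorem toN_injOn {γ γ' : σ → ℤ} (h : ∀ i, 0 ≤ γ i) (h' : ∀ i, 0 ≤ γ' i) (e : toN γ = toN γ') :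
    γ = γ' := by
  funext i
  have := DFunLike.congr_fun e i
  rw [toN_apply, toN_apply] at this
  have h1 := h i
  have h2 := h' i
  omega

theorem toN_notMem_of_mem_region {I : Ideal (MvPolynomial σ k)} {α : σ → ℤ} {γ : σ → ℤ}
    (hγ : γ ∈ region I α) (hnn : ∀ i, 0 ≤ γ i) : toN γ ∉ exps I := fun h =>
  ((mem_region_iff I α γ).mp hγ).2 ⟨hnn, h⟩

theorem finite_nnv {I : Ideal (MvPolynomial σ k)} (hI : IsMonomial I)
    [Module.Finite k (MvPolynomial σ k ⧸ I)] (α : σ → ℤ) :
    Finite {v : ↥(region I α) // ∀ i, 0 ≤ v.1 i} := by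
  haveI := finite_std hI
  let F : {v : ↥(region I α) // ∀ i, 0 ≤ v.1 i} → {γ : σ →₀ ℕ // γ ∉ exps I} :=
    fun v => ⟨toN v.1.1, toN_notMem_of_mem_region v.1.2 v.2⟩
  apply Finite.of_injective F
  intro v w e
  apply Subtype.ext
  apply Subtype.ext
  exact toN_injOn v.2 w.2 (congrArg Subtype.val e)

theorem finite_good {I : Ideal (MvPolynomial σ k)} (hI : IsMonomial I)
    [Module.Finite k (MvPolynomial σ k ⧸ I)] (α : σ → ℤ) : Finite (Good I α) := by
  haveI := finite_nnv hI α
  let F : Good I α → {v : ↥(region I α) // ∀ i, 0 ≤ v.1 i} :=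
    fun C => ⟨C.1.out, C.2 C.1.out (Quot.out_eq _)⟩
  apply Finite.of_injective F
  intro C C' e
  apply Subtype.ext
  have := congrArg (fun v => (rG I α).connectedComponentMk v.1) e
  change (rG I α).connectedComponentMk C.1.out = (rG I α).connectedComponentMk C'.1.out at this
  rw [← Quot.out_eq C.1, ← Quot.out_eq C'.1]
  exact this

theorem supp_finite_of_isGood {I : Ideal (MvPolynomial σ k)} (hI : IsMonomial I)
    [Module.Finite k (MvPolynomial σ k ⧸ I)] {α : σ → ℤ} {C : (rG I α).ConnectedComponent}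
    (hC : IsGood C) : C.supp.Finite := by
  haveI := finite_nnv hI α
  have : C.supp ⊆ {v | ∀ i, 0 ≤ v.1 i} := fun v hv => hC v hv
  apply Set.Finite.subset _ this
  exact Set.finite_coe_iff.mp (finite_nnv hI α)

/-- translating a region vertex having a negative `i`-th coordinate along another axis. -/
theorem translate_mem_region {I : Ideal (MvPolynomial σ k)} {α : σ → ℤ} {γ : σ → ℤ}
    (hγ : γ ∈ region I α) {i : σ} (hi : γ i < 0) (j : σ) (hj : j ≠ i) (t : ℕ) :
    (fun l => if l = j then γ l + t else γ l) ∈ region I α := by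
  obtain ⟨⟨β, hβ, e⟩, -⟩ := (mem_region_iff I α γ).mp hγ
  rw [mem_region_iff]
  refine ⟨⟨β + Finsupp.single j t, exps_add hβ _, ?_⟩, ?_⟩
  · funext l
    by_cases hl : l = j
    · subst hl
      rw [if_pos rfl, e]
      simp only [vtx, Finsupp.add_apply, Finsupp.single_eq_same]
      push_cast
      ring
    · rw [if_neg hl, e]
      simp only [vtx, Finsupp.add_apply, Finsupp.single_eq_of_ne hl, add_zero]
  · rintro ⟨h1, -⟩
    have := h1 i
    rw [if_neg hj.symm] at this
    omega

theorem isGood_of_supp_finite {I : Ideal (MvPolynomial σ k)} {α : σ → ℤ} [Nontrivial σ]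
    {C : (rG I α).ConnectedComponent} (hC : C.supp.Finite) : IsGood C := by
  by_contra hbad
  unfold IsGood at hbad
  push Not at hbad
  obtain ⟨v, rfl, i, hi⟩ := hbad
  obtain ⟨j, hj⟩ := exists_ne i
  let w : ℕ → ↥(region I α) := fun t =>
    ⟨fun l => if l = j then v.1 l + t else v.1 l, translate_mem_region v.2 hi j hj t⟩
  have hw0 : w 0 = v := by
    apply Subtype.ext
    funext l
    change (if l = j then v.1 l + ((0 : ℕ) : ℤ) else v.1 l) = v.1 l
    split_ifs <;> simp
  have hreach : ∀ t, (rG I α).connectedComponentMk (w t) = (rG I α).connectedComponentMk v := by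
    intro t
    induction t with
    | zero => rw [hw0]
    | succ t ih =>
      rw [← ih]
      apply SimpleGraph.ConnectedComponent.connectedComponentMk_eq_of_adj
      rw [SimpleGraph.comap_adj]
      change (stepGraph σ).Adj (w (t + 1)).1 (w t).1
      rw [stepGraph_adj_iff]
      refine ⟨j, Or.inr ?_, fun l hl => ?_⟩
      · change (if j = j then v.1 j + ((t + 1 : ℕ) : ℤ) else v.1 j) =
          (if j = j then v.1 j + (t : ℤ) else v.1 j) + 1
        rw [if_pos rfl, if_pos rfl]
        push_cast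
        ring
      · change (if l = j then v.1 l + (t : ℤ) else v.1 l) =
          (if l = j then v.1 l + ((t + 1 : ℕ) : ℤ) else v.1 l)
        rw [if_neg hl, if_neg hl]
  have hinj : Function.Injective w := by
    intro t t' e
    have := congrFun (congrArg Subtype.val e) j
    change (if j = j then v.1 j + (t : ℤ) else v.1 j) =
      (if j = j then v.1 j + (t' : ℤ) else v.1 j) at this
    rw [if_pos rfl, if_pos rfl] at this
    omega
  have : (Set.range w) ⊆ ((rG I α).connectedComponentMk v).supp := by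
    rintro _ ⟨t, rfl⟩
    exact hreach t
  exact (Set.infinite_range_of_injective hinj) (hC.subset this)

theorem isGood_iff_supp_finite {I : Ideal (MvPolynomial σ k)} (hI : IsMonomial I)
    [Module.Finite k (MvPolynomial σ k ⧸ I)] {α : σ → ℤ} [Nontrivial σ]
    (C : (rG I α).ConnectedComponent) : IsGood C ↔ C.supp.Finite :=
  ⟨supp_finite_of_isGood hI, isGood_of_supp_finite⟩

/-- **Counting theorem**: the dimension of a graded piece is the number of bounded components. -/
theorem finrank_tPiece {I : Ideal (MvPolynomial σ k)} (hI : IsMonomial I)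
    [Module.Finite k (MvPolynomial σ k ⧸ I)] (α : σ → ℤ) [Nontrivial σ] :
    Module.finrank k ↥(tPiece I α) = nBddComp I α := by
  haveI := finite_good hI α
  haveI := Fintype.ofFinite (Good I α)
  rw [(tPieceEquivGood hI α).finrank_eq, Module.finrank_fintype_fun_eq_card,
    ← Nat.card_eq_fintype_card]
  unfold nBddComp
  exact Nat.card_congr (Equiv.subtypeEquivRight fun C => isGood_iff_supp_finite hI C)

end Groth.Agent.Lib.helper10.TgtMono
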