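import Mathlib
import Groth.Prelude.Def_W4c1hilbpnTgt
import Groth.Agent.Lib.Helper10.TgtGraph

set_option linter.style.haveILetI false
set_option linter.unusedSectionVars false

namespace Groth.Agent.Lib.helper10.TgtMono

open MvPolynomial W4c1hilbpn
open scoped Classical

variable {σ : Type*} {k : Type*} [Field k] [Fintype σ]

/-! ### Homogeneous components of an arbitrary tangent vector -/

theorem compat_coefFn_gen {I : Ideal (MvPolynomial σ k)} (hI : IsMonomial I) (α : σ → ℤ)
    (φ : Tgt I) : Compat I α (coefFn hI α φ) := by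
  refine ⟨fun β hβ => ?_, fun β hβ i hact => ?_⟩
  · unfold coefFn
    rw [dif_neg hβ]
  · have hβ' : monomial (β + Finsupp.single i 1) (1 : k) ∈ I := hact.1
    have hβ0 : monomial β (1 : k) ∈ I := hβ
    have e1 : (⟨monomial (β + Finsupp.single i 1) 1, hβ'⟩ : ↥I) =
        (X i : MvPolynomial σ k) • (⟨monomial β 1, hβ0⟩ : ↥I) := by
      apply Subtype.ext
      change monomial (β + Finsupp.single i 1) (1 : k) = X i * monomial β 1
      rw [X, monomial_mul, one_mul, add_comm]
    obtain ⟨p, hp⟩ := Ideal.Quotient.mk_surjective (φ ⟨monomial β 1, hβ0⟩)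
    have e2 : φ ⟨monomial (β + Finsupp.single i 1) 1, hβ'⟩ = Ideal.Quotient.mk I (X i * p) := by
      rw [e1, map_smul, ← hp]
      rfl
    have e3 : coefFn hI α φ (β + Finsupp.single i 1) =
        coeff (shift (β + Finsupp.single i 1) α) (X i * p) := by
      unfold coefFn
      rw [dif_pos hact, e2, coefQ_mk]
    rw [e3, coeff_X_mul']
    by_cases h2 : β ∈ act I α
    · rw [shift_add_single β α i (h2.2.1 i), if_pos (by simp), add_tsub_cancel_right]
      unfold coefFn
      rw [dif_pos h2, ← hp, coefQ_mk]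
    · have h0 : coefFn hI α φ β = 0 := by
        unfold coefFn
        rw [dif_neg h2]
      rw [h0]
      have hneg : ¬ (0 ≤ (β i : ℤ) + α i) := by
        intro hi
        apply h2
        have hnn : ∀ j, 0 ≤ (β j : ℤ) + α j := by
          intro j
          by_cases hj : j = i
          · subst hj; exact hi
          · have := hact.2.1 j
            rw [Finsupp.add_apply, Finsupp.single_eq_of_ne hj, add_zero] at this
            exact this
        refine ⟨hβ, hnn, fun hs => hact.2.2 ?_⟩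
        rw [shift_add_single β α i hi]
        exact exps_add hs _
      rw [if_neg]
      rw [Finsupp.mem_support_iff, shift_apply, Finsupp.add_apply, Finsupp.single_eq_same]
      have := hact.2.1 i
      rw [Finsupp.add_apply, Finsupp.single_eq_same] at this
      push_cast at this ⊢
      omega

/-- the homogeneous component of degree `α` of a tangent vector. -/
noncomputable def hcomp {I : Ideal (MvPolynomial σ k)} (hI : IsMonomial I) (α : σ → ℤ)
    (φ : Tgt I) : Tgt I := mkTgt hI (compat_coefFn_gen hI α φ)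

theorem hcomp_mem {I : Ideal (MvPolynomial σ k)} (hI : IsMonomial I) (α : σ → ℤ)
    (φ : Tgt I) : hcomp hI α φ ∈ tPiece I α := mkTgt_mem hI _

theorem hcomp_monomial {I : Ideal (MvPolynomial σ k)} (hI : IsMonomial I) (α : σ → ℤ)
    (φ : Tgt I) (β : σ →₀ ℕ) (hβ : monomial β (1 : k) ∈ I) :
    hcomp hI α φ ⟨monomial β 1, hβ⟩ =
      coefFn hI α φ β • Ideal.Quotient.mk I (monomial (shift β α) 1) :=
  mkTgt_monomial hI _ β hβ

theorem hcomp_of_mem {I : Ideal (MvPolynomial σ k)} (hI : IsMonomial I) {α : σ → ℤ}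
    {φ : Tgt I} (hφ : φ ∈ tPiece I α) : hcomp hI α φ = φ := by
  apply tgt_ext hI
  intro β hβ
  rw [hcomp_monomial, apply_monomial hI hφ β hβ]

theorem shift_ne_of_ne {β : σ →₀ ℕ} {α α' : σ → ℤ} (h : ∀ i, 0 ≤ (β i : ℤ) + α i)
    (h' : ∀ i, 0 ≤ (β i : ℤ) + α' i) (hne : α ≠ α') : shift β α ≠ shift β α' := by
  intro e
  apply hne
  funext i
  have := DFunLike.congr_fun e i
  rw [shift_apply, shift_apply] at this
  have h1 := h i
  have h2 := h' i
  omega

theorem hcomp_of_mem_ne {I : Ideal (MvPolynomial σ k)} (hI : IsMonomial I) {α α' : σ → ℤ}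
    {φ : Tgt I} (hφ : φ ∈ tPiece I α') (hne : α ≠ α') : hcomp hI α φ = 0 := by
  apply tgt_ext hI
  intro β hβ
  rw [hcomp_monomial, LinearMap.zero_apply]
  have : coefFn hI α φ β = 0 := by
    unfold coefFn
    split_ifs with h
    · rw [apply_monomial hI hφ β hβ, map_smul]
      by_cases hnn : ∀ i, 0 ≤ (β i : ℤ) + α' i
      · rw [coefQ_mk, coeff_monomial, if_neg (shift_ne_of_ne h.2.1 hnn hne).symm, smul_zero]
      · have : β ∉ act I α' := fun h' => hnn h'.2.1
        unfold coefFn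
        rw [dif_neg this, zero_smul]
    · rfl
  rw [this, zero_smul]

theorem hcomp_add {I : Ideal (MvPolynomial σ k)} (hI : IsMonomial I) (α : σ → ℤ)
    (φ φ' : Tgt I) : hcomp hI α (φ + φ') = hcomp hI α φ + hcomp hI α φ' := by
  apply tgt_ext hI
  intro β hβ
  rw [LinearMap.add_apply, hcomp_monomial, hcomp_monomial, hcomp_monomial, coefFn_add, add_smul]

theorem hcomp_sum {I : Ideal (MvPolynomial σ k)} (hI : IsMonomial I) (α : σ → ℤ)
    {ι : Type*} (s : Finset ι) (f : ι → Tgt I) :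
    hcomp hI α (∑ j ∈ s, f j) = ∑ j ∈ s, hcomp hI α (f j) := by
  induction s using Finset.induction_on with
  | empty =>
    rw [Finset.sum_empty, Finset.sum_empty]
    exact hcomp_of_mem hI (tPiece I α).zero_mem
  | insert a s ha ih =>
    rw [Finset.sum_insert ha, Finset.sum_insert ha, hcomp_add, ih]


/-! ### Expansion in standard monomials (finite colength) -/

/-- total version of `coefQ`. -/
noncomputable def coefQ0 {I : Ideal (MvPolynomial σ k)} (hI : IsMonomial I) (δ : σ →₀ ℕ) :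
    (MvPolynomial σ k ⧸ I) →ₗ[k] k :=
  if h : δ ∈ exps I then 0 else coefQ hI δ h

theorem coefQ0_eq {I : Ideal (MvPolynomial σ k)} (hI : IsMonomial I) {δ : σ →₀ ℕ}
    (h : δ ∉ exps I) : coefQ0 hI δ = coefQ hI δ h := by
  unfold coefQ0
  rw [dif_neg h]

theorem coefQ0_mk {I : Ideal (MvPolynomial σ k)} (hI : IsMonomial I) {δ : σ →₀ ℕ}
    (h : δ ∉ exps I) (p : MvPolynomial σ k) :
    coefQ0 hI δ (Ideal.Quotient.mk I p) = coeff δ p := by
  rw [coefQ0_eq hI h, coefQ_mk]

theorem coefFn_eq {I : Ideal (MvPolynomial σ k)} (hI : IsMonomial I) {α : σ → ℤ}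
    (φ : Tgt I) {β : σ →₀ ℕ} (hβ : β ∈ act I α) (hβ' : monomial β (1 : k) ∈ I) :
    coefFn hI α φ β = coefQ0 hI (shift β α) (φ ⟨monomial β 1, hβ'⟩) := by
  unfold coefFn
  rw [dif_pos hβ, coefQ0_eq hI hβ.2.2]

/-- the finite set of standard monomials. -/
noncomputable def stdSet {I : Ideal (MvPolynomial σ k)} (hI : IsMonomial I)
    [Module.Finite k (MvPolynomial σ k ⧸ I)] : Finset (σ →₀ ℕ) :=
  (Set.finite_coe_iff.mp (finite_std hI)).toFinset

theorem mem_stdSet {I : Ideal (MvPolynomial σ k)} (hI : IsMonomial I)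
    [Module.Finite k (MvPolynomial σ k ⧸ I)] (δ : σ →₀ ℕ) : δ ∈ stdSet hI ↔ δ ∉ exps I := by
  unfold stdSet
  rw [Set.Finite.mem_toFinset]
  rfl

theorem mk_expand {I : Ideal (MvPolynomial σ k)} (hI : IsMonomial I)
    [Module.Finite k (MvPolynomial σ k ⧸ I)] (q : MvPolynomial σ k ⧸ I) :
    q = ∑ δ ∈ stdSet hI, coefQ0 hI δ q • Ideal.Quotient.mk I (monomial δ 1) := by
  obtain ⟨p, rfl⟩ := Ideal.Quotient.mk_surjective q
  have h1 : ∑ δ ∈ stdSet hI, coefQ0 hI δ (Ideal.Quotient.mk I p) •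
      Ideal.Quotient.mk I (monomial δ (1 : k)) =
      ∑ δ ∈ stdSet hI ∪ p.support, coeff δ p • Ideal.Quotient.mk I (monomial δ (1 : k)) := by
    have h0 : ∑ δ ∈ stdSet hI, coefQ0 hI δ (Ideal.Quotient.mk I p) •
        Ideal.Quotient.mk I (monomial δ (1 : k)) =
        ∑ δ ∈ stdSet hI, coeff δ p • Ideal.Quotient.mk I (monomial δ (1 : k)) := by
      refine Finset.sum_congr rfl fun δ hδ => ?_
      rw [coefQ0_mk hI ((mem_stdSet hI δ).mp hδ)]
    rw [h0]
    apply Finset.sum_subset Finset.subset_union_left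
    · intro δ _ hδ
      have : δ ∈ exps I := by
        by_contra h
        exact hδ ((mem_stdSet hI δ).mpr h)
      rw [mk_monomial_eq_zero this, smul_zero]
  have h2 : ∑ δ ∈ p.support, coeff δ p • Ideal.Quotient.mk I (monomial δ (1 : k)) =
      ∑ δ ∈ stdSet hI ∪ p.support, coeff δ p • Ideal.Quotient.mk I (monomial δ (1 : k)) := by
    apply Finset.sum_subset Finset.subset_union_right
    intro δ _ hδ
    rw [notMem_support_iff.mp hδ, zero_smul]
  rw [h1, ← h2]
  conv_lhs => rw [p.as_sum]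
  rw [map_sum]
  refine Finset.sum_congr rfl fun δ _ => ?_
  have : monomial δ (coeff δ p) = coeff δ p • monomial δ (1 : k) := by
    rw [smul_monomial, smul_eq_mul, mul_one]
  rw [this]
  rfl

/-- the degree `δ - β`. -/
def degOf (β δ : σ →₀ ℕ) : σ → ℤ := fun i => (δ i : ℤ) - β i

theorem shift_degOf (β δ : σ →₀ ℕ) : shift β (degOf β δ) = δ := by
  ext i
  rw [shift_apply, degOf]
  simp

theorem degOf_injective (β : σ →₀ ℕ) : Function.Injective (degOf β) := by
  intro δ δ' e
  ext i
  have := congrFun e i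
  unfold degOf at this
  omega

theorem degOf_shift {β : σ →₀ ℕ} {α : σ → ℤ} (h : ∀ i, 0 ≤ (β i : ℤ) + α i) :
    degOf β (shift β α) = α := by
  funext i
  rw [degOf, shift_apply]
  have := h i
  omega

theorem act_degOf {I : Ideal (MvPolynomial σ k)} {β δ : σ →₀ ℕ} (hβ : β ∈ exps I)
    (hδ : δ ∉ exps I) : β ∈ act I (degOf β δ) := by
  refine ⟨hβ, fun i => ?_, ?_⟩
  · rw [degOf]
    have : (0 : ℤ) ≤ δ i := by positivity
    linarith
  · rw [shift_degOf]
    exact hδ

theorem apply_eq_sum_hcomp {I : Ideal (MvPolynomial σ k)} (hI : IsMonomial I)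
    [Module.Finite k (MvPolynomial σ k ⧸ I)] (φ : Tgt I) (β : σ →₀ ℕ)
    (hβ : monomial β (1 : k) ∈ I) (F : Finset (σ → ℤ))
    (hF : (stdSet hI).image (degOf β) ⊆ F) :
    φ ⟨monomial β 1, hβ⟩ = ∑ α ∈ F, hcomp hI α φ ⟨monomial β 1, hβ⟩ := by
  have h1 : ∑ α ∈ F, hcomp hI α φ ⟨monomial β 1, hβ⟩ =
      ∑ α ∈ (stdSet hI).image (degOf β), hcomp hI α φ ⟨monomial β 1, hβ⟩ := by
    symm
    apply Finset.sum_subset hF
    intro α _ hα
    rw [hcomp_monomial]
    have : β ∉ act I α := by
      intro h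
      apply hα
      rw [Finset.mem_image]
      exact ⟨shift β α, (mem_stdSet hI _).mpr h.2.2, degOf_shift h.2.1⟩
    rw [(compat_coefFn_gen hI α φ).off β this, zero_smul]
  rw [h1, Finset.sum_image (fun δ _ δ' _ e => degOf_injective β e)]
  conv_lhs => rw [mk_expand hI (φ ⟨monomial β 1, hβ⟩)]
  refine Finset.sum_congr rfl fun δ hδ => ?_
  have hδ' := (mem_stdSet hI δ).mp hδ
  rw [hcomp_monomial, coefFn_eq hI φ (act_degOf hβ hδ') hβ, shift_degOf]

theorem exists_finset_gens {I : Ideal (MvPolynomial σ k)} (hI : IsMonomial I) :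
    ∃ B : Finset (σ →₀ ℕ), (∀ β ∈ B, β ∈ exps I) ∧ ∀ β' ∈ exps I, ∃ β ∈ B, β ≤ β' := by
  have hspan : I = Ideal.span ((fun s => monomial s (1 : k)) '' exps I) := by
    apply le_antisymm
    · intro p hp
      rw [mem_ideal_span_monomial_image]
      intro xi hxi
      exact ⟨xi, hI p hp xi hxi, le_refl _⟩
    · rw [Ideal.span_le]
      rintro _ ⟨β, hβ, rfl⟩
      exact hβ
  have hfg : (Ideal.span ((fun s => monomial s (1 : k)) '' exps I)).FG := by
    rw [← hspan]
    exact IsNoetherian.noetherian I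
  obtain ⟨s', hs', hss'⟩ := (Submodule.fg_span_iff_fg_span_finset_subset _).mp hfg
  refine ⟨s'.biUnion fun p => p.support, ?_, ?_⟩
  · intro β hβ
    rw [Finset.mem_biUnion] at hβ
    obtain ⟨p, hp, hβp⟩ := hβ
    obtain ⟨β0, hβ0, rfl⟩ := hs' hp
    rw [support_monomial, if_neg one_ne_zero, Finset.mem_singleton] at hβp
    rw [hβp]
    exact hβ0
  · intro β' hβ'
    have hmem : monomial β' (1 : k) ∈
        Ideal.span ((fun s => monomial s (1 : k)) '' (↑(s'.biUnion fun p => p.support) :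
          Set (σ →₀ ℕ))) := by
      have h1 : monomial β' (1 : k) ∈ Ideal.span (↑s' : Set (MvPolynomial σ k)) := by
        change monomial β' (1 : k) ∈ Submodule.span _ _
        rw [← hss']
        change _ ∈ Ideal.span _
        rw [← hspan]
        exact hβ'
      refine Ideal.span_mono ?_ h1
      intro p hp
      obtain ⟨β0, hβ0, rfl⟩ := hs' hp
      refine ⟨β0, ?_, rfl⟩
      rw [Finset.mem_coe, Finset.mem_biUnion]
      refine ⟨_, hp, ?_⟩
      rw [support_monomial, if_neg one_ne_zero]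
      exact Finset.mem_singleton_self _
    rw [mem_ideal_span_monomial_image] at hmem
    obtain ⟨si, hsi, hle⟩ := hmem β' (by
      rw [support_monomial, if_neg one_ne_zero]
      exact Finset.mem_singleton_self _)
    exact ⟨si, hsi, hle⟩

/-- every tangent vector is a finite sum of homogeneous components. -/
theorem exists_finset_sum_hcomp {I : Ideal (MvPolynomial σ k)} (hI : IsMonomial I)
    [Module.Finite k (MvPolynomial σ k ⧸ I)] (φ : Tgt I) :
    ∃ F : Finset (σ → ℤ), φ = ∑ α ∈ F, hcomp hI α φ := by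
  obtain ⟨B, hB, hB'⟩ := exists_finset_gens hI
  refine ⟨B.biUnion fun β => (stdSet hI).image (degOf β), ?_⟩
  apply tgt_ext hI
  intro β' hβ'
  obtain ⟨β, hβB, hle⟩ := hB' β' hβ'
  have hβ : monomial β (1 : k) ∈ I := hB β hβB
  have e1 : (⟨monomial β' 1, hβ'⟩ : ↥I) =
      (monomial (β' - β) (1 : k) : MvPolynomial σ k) • (⟨monomial β 1, hβ⟩ : ↥I) := by
    apply Subtype.ext
    change monomial β' (1 : k) = monomial (β' - β) (1 : k) * monomial β 1
    rw [monomial_mul, one_mul, tsub_add_cancel_of_le hle]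
  rw [e1, map_smul, map_smul]
  congr 1
  rw [LinearMap.sum_apply]
  apply apply_eq_sum_hcomp hI φ β hβ
  exact Finset.subset_biUnion_of_mem (fun β => (stdSet hI).image (degOf β)) hβB

theorem iSup_tPiece_eq_top {I : Ideal (MvPolynomial σ k)} (hI : IsMonomial I)
    [Module.Finite k (MvPolynomial σ k ⧸ I)] : ⨆ α : σ → ℤ, tPiece I α = ⊤ := by
  rw [eq_top_iff]
  intro φ _
  obtain ⟨F, hF⟩ := exists_finset_sum_hcomp hI φ
  rw [hF]
  apply Submodule.sum_mem
  intro α _
  exact Submodule.mem_iSup_of_mem α (hcomp_mem hI α φ)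

end Groth.Agent.Lib.helper10.TgtMono
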