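import Mathlib
import Groth.Prelude.Def_W4c1hilbpnTgt
import Groth.Agent.Lib.Helper10.TgtDecomp

set_option linter.style.haveILetI false
set_option linter.unusedSectionVars false

namespace Groth.Agent.Lib.helper10.TgtMono

open MvPolynomial W4c1hilbpn
open scoped Classical

variable {σ : Type*} {k : Type*} [Field k] [Fintype σ]

theorem tPiece_eq_bot_of_isEmpty_good {I : Ideal (MvPolynomial σ k)} (hI : IsMonomial I)
    (α : σ → ℤ) [IsEmpty (Good I α)] : tPiece I α = ⊥ := by
  rw [← Submodule.subsingleton_iff_eq_bot]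
  exact (tPieceEquivGood hI α).injective.subsingleton

theorem le_shift_of_nonneg (β : σ →₀ ℕ) {α : σ → ℤ} (hα : ∀ i, 0 ≤ α i) : β ≤ shift β α := by
  intro i
  rw [shift_apply]
  have := hα i
  omega

/-- nonnegative degrees: the piece vanishes. -/
theorem tPiece_eq_bot_of_nonneg {I : Ideal (MvPolynomial σ k)} (hI : IsMonomial I)
    {α : σ → ℤ} (hα : ∀ i, 0 ≤ α i) : tPiece I α = ⊥ := by
  rw [eq_bot_iff]
  intro φ hφ
  rw [Submodule.mem_bot]
  apply tgt_ext hI
  intro β hβ
  rw [apply_monomial hI hφ β hβ, LinearMap.zero_apply,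
    mk_monomial_eq_zero (exps_of_le hβ (le_shift_of_nonneg β hα)), smul_zero]

theorem exists_single_mem {I : Ideal (MvPolynomial σ k)} (hI : IsMonomial I)
    [Module.Finite k (MvPolynomial σ k ⧸ I)] (i : σ) : ∃ N : ℕ, Finsupp.single i N ∈ exps I := by
  by_contra h
  push Not at h
  haveI := finite_std hI
  let F : ℕ → {γ : σ →₀ ℕ // γ ∉ exps I} := fun t => ⟨Finsupp.single i t, h t⟩
  have hinj : Function.Injective F := by
    intro t t' e
    have := DFunLike.congr_fun (congrArg Subtype.val e) i
    change (Finsupp.single i t) i = (Finsupp.single i t') i at this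
    rwa [Finsupp.single_eq_same, Finsupp.single_eq_same] at this
  haveI := Finite.of_injective F hinj
  exact not_finite ℕ

theorem toN_mono {γ γ' : σ → ℤ} (h : ∀ i, γ i ≤ γ' i) : toN γ ≤ toN γ' := by
  intro i
  rw [toN_apply, toN_apply]
  have := h i
  omega

/-- moving up along the axis `i0`. -/
noncomputable def upv (γ : σ → ℤ) (i0 : σ) (t : ℕ) : σ → ℤ := fun l => if l = i0 then γ l + t else γ l

theorem upv_zero (γ : σ → ℤ) (i0 : σ) : upv γ i0 0 = γ := by
  funext l
  unfold upv
  split_ifs <;> simp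

theorem upv_mem_first {I : Ideal (MvPolynomial σ k)} {α : σ → ℤ} {γ : σ → ℤ}
    (hγ : ∃ β ∈ exps I, γ = vtx β α) (i0 : σ) (t : ℕ) :
    ∃ β ∈ exps I, upv γ i0 t = vtx β α := by
  obtain ⟨β, hβ, e⟩ := hγ
  refine ⟨β + Finsupp.single i0 t, exps_add hβ _, ?_⟩
  funext l
  unfold upv
  by_cases hl : l = i0
  · subst hl
    rw [if_pos rfl, e]
    simp only [vtx, Finsupp.add_apply, Finsupp.single_eq_same]
    push_cast
    ring
  · rw [if_neg hl, e]
    simp only [vtx, Finsupp.add_apply, Finsupp.single_eq_of_ne hl, add_zero]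

theorem reach_neg {I : Ideal (MvPolynomial σ k)} (hI : IsMonomial I)
    [Module.Finite k (MvPolynomial σ k ⧸ I)] {α : σ → ℤ} (hα : ∀ i, α i < 0)
    {i0 j0 : σ} (hij : j0 ≠ i0) :
    ∀ m : ℕ, ∀ v : ↥(region I α), v.1 j0 < m →
      ∃ w : ↥(region I α), (∃ i, w.1 i < 0) ∧ (rG I α).Reachable v w := by
  intro m
  induction m with
  | zero =>
    intro v hv
    exact ⟨v, ⟨j0, by simpa using hv⟩, SimpleGraph.Reachable.refl _⟩
  | succ m ih =>
    intro v hv
    by_cases hneg : ∃ i, v.1 i < 0
    · exact ⟨v, hneg, SimpleGraph.Reachable.refl _⟩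
    push Not at hneg
    have hv1 := ((mem_region_iff I α v.1).mp v.2).1
    obtain ⟨N, hN⟩ := exists_single_mem hI i0
    have hex : ∃ t, toN (upv v.1 i0 t) ∈ exps I := by
      refine ⟨N, exps_of_le hN ?_⟩
      intro l
      rw [toN_apply]
      unfold upv
      by_cases hl : l = i0
      · subst hl
        rw [if_pos rfl, Finsupp.single_eq_same]
        have := hneg l
        omega
      · rw [Finsupp.single_eq_of_ne hl]
        exact Nat.zero_le _
    have h0 : ¬ toN (upv v.1 i0 0) ∈ exps I := by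
      rw [upv_zero]
      exact toN_notMem_of_mem_region v.2 hneg
    have hfind := Nat.find_spec hex
    have hpos : Nat.find hex ≠ 0 := by
      intro e
      rw [e] at hfind
      exact h0 hfind
    obtain ⟨s, hs⟩ := Nat.exists_eq_succ_of_ne_zero hpos
    have hsnot : ¬ toN (upv v.1 i0 s) ∈ exps I := Nat.find_min hex (by omega)
    rw [hs] at hfind
    -- the vertices going up
    have hup : ∀ t, t ≤ s → upv v.1 i0 t ∈ region I α := by
      intro t ht
      rw [mem_region_iff]
      refine ⟨upv_mem_first hv1 i0 t, ?_⟩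
      rintro ⟨-, h2⟩
      apply hsnot
      refine exps_of_le h2 (toN_mono fun l => ?_)
      unfold upv
      split_ifs
      · have : (t : ℤ) ≤ s := by exact_mod_cast ht
        linarith
      · exact le_refl _
    have hreach : ∀ t (ht : t ≤ s), (rG I α).Reachable v ⟨upv v.1 i0 t, hup t ht⟩ := by
      intro t
      induction t with
      | zero =>
        intro ht
        have : (⟨upv v.1 i0 0, hup 0 ht⟩ : ↥(region I α)) = v := Subtype.ext (upv_zero _ _)
        rw [this]
      | succ t iht =>
        intro ht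
        refine (iht (by omega)).trans (SimpleGraph.Adj.reachable ?_)
        rw [SimpleGraph.comap_adj]
        change (stepGraph σ).Adj (upv v.1 i0 t) (upv v.1 i0 (t + 1))
        rw [stepGraph_adj_iff]
        refine ⟨i0, Or.inl ?_, fun l hl => ?_⟩
        · unfold upv
          rw [if_pos rfl, if_pos rfl]
          push_cast
          ring
        · unfold upv
          rw [if_neg hl, if_neg hl]
    -- the step down
    let γ2 : σ → ℤ := fun l => if l = j0 then upv v.1 i0 s l - 1 else upv v.1 i0 s l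
    have hnn1 : ∀ l, 0 ≤ upv v.1 i0 (s + 1) l := by
      intro l
      unfold upv
      split_ifs
      · have := hneg l
        positivity
      · exact hneg l
    have hγ2 : γ2 ∈ region I α := by
      rw [mem_region_iff]
      constructor
      · let ρ : σ →₀ ℕ := Finsupp.equivFunOnFinite.symm fun l =>
          (-α l - (if l = i0 then 1 else 0) - (if l = j0 then 1 else 0)).toNat
        refine ⟨toN (upv v.1 i0 (s + 1)) + ρ, exps_add hfind _, ?_⟩
        funext l
        have hρ : ρ l = (-α l - (if l = i0 then 1 else 0) - (if l = j0 then 1 else 0)).toNat :=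
          rfl
        have h1 := hnn1 l
        have h2 := hα l
        simp only [vtx, Finsupp.add_apply, toN_apply, hρ, γ2]
        unfold upv at h1 ⊢
        by_cases hl : l = i0
        · have hl' : l ≠ j0 := fun e => hij (e.symm.trans hl)
          rw [if_pos hl] at h1
          rw [if_pos hl, if_neg hl', if_pos hl, if_pos hl, if_neg hl']
          push_cast
          omega
        · rw [if_neg hl] at h1
          by_cases hl2 : l = j0
          · rw [if_pos hl2, if_neg hl, if_neg hl, if_neg hl, if_pos hl2]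
            push_cast
            omega
          · rw [if_neg hl2, if_neg hl, if_neg hl, if_neg hl, if_neg hl2]
            push_cast
            omega
      · rintro ⟨-, h2⟩
        apply hsnot
        refine exps_of_le h2 (toN_mono fun l => ?_)
        change (if l = j0 then upv v.1 i0 s l - 1 else upv v.1 i0 s l) ≤ _
        split_ifs
        · linarith
        · exact le_refl _
    have hadj : (rG I α).Adj ⟨upv v.1 i0 s, hup s le_rfl⟩ ⟨γ2, hγ2⟩ := by
      rw [SimpleGraph.comap_adj]
      change (stepGraph σ).Adj (upv v.1 i0 s) γ2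
      rw [stepGraph_adj_iff]
      refine ⟨j0, Or.inr ?_, fun l hl => ?_⟩
      · change upv v.1 i0 s j0 = (if j0 = j0 then upv v.1 i0 s j0 - 1 else upv v.1 i0 s j0) + 1
        rw [if_pos rfl]
        ring
      · change (if l = j0 then upv v.1 i0 s l - 1 else upv v.1 i0 s l) = _
        rw [if_neg hl]
    have hlt : (⟨γ2, hγ2⟩ : ↥(region I α)).1 j0 < m := by
      change (if j0 = j0 then upv v.1 i0 s j0 - 1 else upv v.1 i0 s j0) < m
      rw [if_pos rfl]
      unfold upv
      rw [if_neg hij]
      push_cast at hv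
      linarith
    obtain ⟨w, hw, hr⟩ := ih ⟨γ2, hγ2⟩ hlt
    exact ⟨w, hw, ((hreach s le_rfl).trans hadj.reachable).trans hr⟩

theorem not_isGood_of_neg {I : Ideal (MvPolynomial σ k)} (hI : IsMonomial I)
    [Module.Finite k (MvPolynomial σ k ⧸ I)] [Nontrivial σ] {α : σ → ℤ} (hα : ∀ i, α i < 0)
    (C : (rG I α).ConnectedComponent) : ¬ IsGood C := by
  induction C using SimpleGraph.ConnectedComponent.ind with
  | h v =>
    intro hgood
    obtain ⟨i0, j0, hij⟩ := exists_pair_ne σ
    obtain ⟨w, ⟨i, hi⟩, hr⟩ := reach_neg hI hα hij.symm (v.1 j0 + 1).toNat v (by omega)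
    have := hgood w (SimpleGraph.ConnectedComponent.sound hr.symm) i
    omega

/-- all-negative degrees: the piece vanishes. -/
theorem tPiece_eq_bot_of_neg {I : Ideal (MvPolynomial σ k)} (hI : IsMonomial I)
    [Module.Finite k (MvPolynomial σ k ⧸ I)] [Nontrivial σ] {α : σ → ℤ} (hα : ∀ i, α i < 0) :
    tPiece I α = ⊥ := by
  haveI : IsEmpty (Good I α) := ⟨fun C => not_isGood_of_neg hI hα C.1 C.2⟩
  exact tPiece_eq_bot_of_isEmpty_good hI α

theorem tPiece_le_sigPiece (I : Ideal (MvPolynomial σ k)) (α : σ → ℤ) :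
    tPiece I α ≤ sigPiece I {i | α i < 0} :=
  le_iSup (fun α' : {α' : σ → ℤ // ∀ i, α' i < 0 ↔ i ∈ {i | α i < 0}} => tPiece I α'.1)
    ⟨α, fun _ => Iff.rfl⟩

theorem iSup_sigPiece_eq_top {I : Ideal (MvPolynomial σ k)} (hI : IsMonomial I)
    [Module.Finite k (MvPolynomial σ k ⧸ I)] [Nontrivial σ] :
    (⨆ N : {N : Set σ // N.Nonempty ∧ N ≠ Set.univ}, sigPiece I N.1) = ⊤ := by
  rw [eq_top_iff, ← iSup_tPiece_eq_top hI]
  apply iSup_le
  intro α
  by_cases h1 : ∀ i, 0 ≤ α i
  · rw [tPiece_eq_bot_of_nonneg hI h1]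
    exact bot_le
  by_cases h2 : ∀ i, α i < 0
  · rw [tPiece_eq_bot_of_neg hI h2]
    exact bot_le
  push Not at h1 h2
  refine (tPiece_le_sigPiece I α).trans ?_
  refine le_iSup (fun N : {N : Set σ // N.Nonempty ∧ N ≠ Set.univ} => sigPiece I N.1)
    ⟨{i | α i < 0}, ?_, ?_⟩
  · obtain ⟨i, hi⟩ := h1
    exact ⟨i, hi⟩
  · intro e
    obtain ⟨i, hi⟩ := h2
    have : i ∈ {i | α i < 0} := by rw [e]; trivial
    exact absurd this (not_lt.mpr hi)

end Groth.Agent.Lib.helper10.TgtMono
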