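import Mathlib
import Groth.Prelude.Def_W4c1hilbpnTgt
import Groth.Agent.Lib.Helper10.TgtSign

set_option linter.style.haveILetI false
set_option linter.unusedSectionVars false

namespace Groth.Agent.Lib.helper10.TgtMono

open MvPolynomial W4c1hilbpn
open scoped Classical

variable {σ : Type*} {k : Type*} [Field k] [Fintype σ]

/-- the power of the irrelevant ideal. -/
noncomputable abbrev mPow (σ : Type*) (k : Type*) [Field k] (r : ℕ) : Ideal (MvPolynomial σ k) :=
  (Ideal.span (Set.range (MvPolynomial.X : σ → MvPolynomial σ k))) ^ r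

theorem mem_exps_mPow (r : ℕ) (β : σ →₀ ℕ) : β ∈ exps (mPow σ k r) ↔ r ≤ ∑ i, β i := by
  change monomial β (1 : k) ∈ idealOfVars σ k ^ r ↔ _
  rw [monomial_mem_pow_idealOfVars_iff r β one_ne_zero, Finsupp.degree_eq_sum]

theorem isMonomial_mPow (r : ℕ) : IsMonomial (mPow σ k r) := by
  intro p hp β hβ
  have hp' : p ∈ idealOfVars σ k ^ r := hp
  rw [mem_pow_idealOfVars_iff] at hp'
  change monomial β (1 : k) ∈ idealOfVars σ k ^ r
  rw [monomial_mem_pow_idealOfVars_iff r β one_ne_zero]
  exact hp' β hβ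

theorem sum_shift {β : σ →₀ ℕ} {α : σ → ℤ} (h : ∀ i, 0 ≤ (β i : ℤ) + α i) :
    ((∑ i, shift β α i : ℕ) : ℤ) = (∑ i, (β i : ℤ)) + ∑ i, α i := by
  push_cast
  rw [← Finset.sum_add_distrib]
  refine Finset.sum_congr rfl fun i _ => ?_
  rw [shift_apply]
  have := h i
  omega

theorem mem_act_mPow (r : ℕ) (α : σ → ℤ) (β : σ →₀ ℕ) :
    β ∈ act (mPow σ k r) α ↔ r ≤ ∑ i, β i ∧ (∀ i, 0 ≤ (β i : ℤ) + α i) ∧
      (∑ i, (β i : ℤ)) + ∑ i, α i < r := by
  unfold act
  rw [Set.mem_ofPred_eq, mem_exps_mPow, mem_exps_mPow]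
  constructor
  · rintro ⟨h1, h2, h3⟩
    refine ⟨h1, h2, ?_⟩
    rw [← sum_shift h2]
    push Not at h3
    exact_mod_cast h3
  · rintro ⟨h1, h2, h3⟩
    refine ⟨h1, h2, ?_⟩
    rw [← sum_shift h2] at h3
    push Not
    exact_mod_cast h3

theorem sum_add_single (β : σ →₀ ℕ) (i : σ) (t : ℕ) :
    ∑ l, (β + Finsupp.single i t) l = (∑ l, β l) + t := by
  simp only [Finsupp.add_apply]
  rw [Finset.sum_add_distrib]
  congr 1
  rw [Finset.sum_eq_single i]
  · exact Finsupp.single_eq_same
  · intro l _ hl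
    exact Finsupp.single_eq_of_ne hl
  · intro h
    exact absurd (Finset.mem_univ i) h

/-- nonnegative total degree: no active exponents. -/
theorem compat_eq_zero_of_sum_nonneg {r : ℕ} {α : σ → ℤ} (hs : 0 ≤ ∑ i, α i)
    {c : (σ →₀ ℕ) → k} (hc : Compat (mPow σ k r) α c) : c = 0 := by
  funext β
  apply hc.off
  rw [mem_act_mPow]
  rintro ⟨h1, _, h3⟩
  have : (r : ℤ) ≤ ∑ i, (β i : ℤ) := by exact_mod_cast h1
  linarith

theorem exists_sub_single {β : σ →₀ ℕ} {j : σ} (h : 1 ≤ β j) :
    ∃ β0 : σ →₀ ℕ, β = β0 + Finsupp.single j 1 := by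
  refine ⟨β - Finsupp.single j 1, ?_⟩
  ext l
  simp only [Finsupp.add_apply, Finsupp.coe_tsub, Pi.sub_apply]
  by_cases hl : l = j
  · subst hl
    rw [Finsupp.single_eq_same]
    omega
  · rw [Finsupp.single_eq_of_ne hl]
    simp

theorem sum_add_single_int (β : σ →₀ ℕ) (i : σ) (t : ℕ) :
    ∑ l, (((β + Finsupp.single i t : σ →₀ ℕ) l : ℕ) : ℤ) = (∑ l, (β l : ℤ)) + t := by
  have := sum_add_single β i t
  exact_mod_cast this

theorem act_add_single_bottom {r : ℕ} {α : σ → ℤ} (hs : ∑ i, α i ≤ -2) {β : σ →₀ ℕ}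
    (hβ : β ∈ act (mPow σ k r) α) (hr : ∑ l, β l = r) (i : σ) :
    β + Finsupp.single i 1 ∈ act (mPow σ k r) α := by
  have hβ' := (mem_act_mPow r α β).mp hβ
  rw [mem_act_mPow]
  refine ⟨?_, fun l => ?_, ?_⟩
  · rw [sum_add_single, hr]
    omega
  · have := hβ'.2.1 l
    rw [Finsupp.add_apply]
    push_cast
    have : (0 : ℤ) ≤ ((Finsupp.single i 1 : σ →₀ ℕ) l : ℤ) := by positivity
    linarith
  · rw [sum_add_single_int]
    have : ∑ l, (β l : ℤ) = r := by exact_mod_cast hr
    rw [this]
    push_cast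
    omega

/-- total degree at most `-2`: every compatible coefficient function vanishes. -/
theorem compat_eq_zero_of_sum_le {r : ℕ} {α : σ → ℤ} [Nontrivial σ] (hs : ∑ i, α i ≤ -2)
    {c : (σ →₀ ℕ) → k} (hc : Compat (mPow σ k r) α c) : c = 0 := by
  obtain ⟨j, hj⟩ : ∃ j, α j < 0 := by
    by_contra h
    push Not at h
    have : 0 ≤ ∑ i, α i := Finset.sum_nonneg fun i _ => h i
    omega
  obtain ⟨i, hij⟩ := exists_ne j
  -- step 1: the bottom level
  have step1 : ∀ t : ℕ, ∀ β : σ →₀ ℕ, β ∈ act (mPow σ k r) α → ∑ l, β l = r →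
      (β j : ℤ) + α j = t → c β = 0 := by
    intro t
    induction t using Nat.strong_induction_on with
    | _ t ih =>
      intro β hβ hr ht
      have hβ' := (mem_act_mPow r α β).mp hβ
      have hj1 : 1 ≤ β j := by
        have := hβ'.2.1 j
        omega
      have hup := act_add_single_bottom hs hβ hr i
      have e1 := hc.step _ hβ.1 i hup
      obtain ⟨β0, rfl⟩ := exists_sub_single hj1
      have e2 : β0 + Finsupp.single j 1 + Finsupp.single i 1 =
          β0 + Finsupp.single i 1 + Finsupp.single j 1 := by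
        rw [add_assoc, add_assoc, add_comm (Finsupp.single j 1)]
      have hmid : β0 + Finsupp.single i 1 ∈ exps (mPow σ k r) := by
        rw [mem_exps_mPow, sum_add_single]
        rw [sum_add_single] at hr
        omega
      rw [e2] at hup e1
      have e3 := hc.step _ hmid j hup
      rw [← e1, e3]
      have hval : (((β0 + Finsupp.single i 1 : σ →₀ ℕ) j : ℕ) : ℤ) + α j = (t : ℤ) - 1 := by
        rw [Finsupp.add_apply, Finsupp.single_eq_of_ne hij.symm]
        rw [Finsupp.add_apply, Finsupp.single_eq_same] at ht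
        push_cast at ht ⊢
        omega
      by_cases hact : β0 + Finsupp.single i 1 ∈ act (mPow σ k r) α
      · have hnn := ((mem_act_mPow r α _).mp hact).2.1 j
        rw [hval] at hnn
        apply ih (t - 1) (by omega) _ hact
        · rw [sum_add_single]
          rw [sum_add_single] at hr
          exact hr
        · rw [hval]
          omega
      · exact hc.off _ hact
  -- step 2: going down to the bottom level
  have step2 : ∀ d : ℕ, ∀ β : σ →₀ ℕ, β ∈ act (mPow σ k r) α → ∑ l, β l = r + d → c β = 0 := by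
    intro d
    induction d with
    | zero =>
      intro β hβ hr
      have hβ' := (mem_act_mPow r α β).mp hβ
      exact step1 ((β j : ℤ) + α j).toNat β hβ hr (by have := hβ'.2.1 j; omega)
    | succ d ih =>
      intro β hβ hr
      obtain ⟨l, hl⟩ : ∃ l, 1 ≤ β l := by
        by_contra h
        push Not at h
        have : ∑ l, β l = 0 := Finset.sum_eq_zero fun l _ => by have := h l; omega
        omega
      obtain ⟨β0, rfl⟩ := exists_sub_single hl
      rw [sum_add_single] at hr
      have h0 : β0 ∈ exps (mPow σ k r) := by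
        rw [mem_exps_mPow]
        omega
      rw [hc.step β0 h0 l hβ]
      by_cases hact : β0 ∈ act (mPow σ k r) α
      · exact ih β0 hact (by omega)
      · exact hc.off _ hact
  funext β
  by_cases hβ : β ∈ act (mPow σ k r) α
  · have hβ' := (mem_act_mPow r α β).mp hβ
    obtain ⟨d, hd⟩ := Nat.exists_eq_add_of_le hβ'.1
    exact step2 d β hβ hd
  · exact hc.off β hβ


/-! ### total degree `-1` -/

/-- functions vanishing off a set. -/
def suppSub {ι : Type*} (k : Type*) [Field k] (A : Set ι) : Submodule k (ι → k) where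
  carrier := {c | ∀ i, i ∉ A → c i = 0}
  zero_mem' := fun _ _ => rfl
  add_mem' := by
    intro c c' hc hc' i hi
    rw [Pi.add_apply, hc i hi, hc' i hi, add_zero]
  smul_mem' := by
    intro a c hc i hi
    rw [Pi.smul_apply, hc i hi, smul_zero]

/-- functions vanishing off `A` are functions on `A`. -/
noncomputable def suppEquiv {ι : Type*} (k : Type*) [Field k] (A : Set ι) :
    ↥(suppSub k A) ≃ₗ[k] (↥A → k) where
  toFun c a := c.1 a.1
  map_add' _ _ := rfl
  map_smul' _ _ := rfl
  invFun f := ⟨fun i => if h : i ∈ A then f ⟨i, h⟩ else 0, fun i hi => dif_neg hi⟩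
  left_inv c := by
    apply Subtype.ext
    funext i
    change (if h : i ∈ A then c.1 i else 0) = c.1 i
    split_ifs with h
    · rfl
    · exact (c.2 i h).symm
  right_inv f := by
    funext a
    change (if h : a.1 ∈ A then f ⟨a.1, h⟩ else 0) = f a
    rw [dif_pos a.2]

theorem finrank_suppSub {ι : Type*} (k : Type*) [Field k] (A : Set ι) [Finite ↥A] :
    Module.finrank k ↥(suppSub k A) = Nat.card ↥A := by
  haveI := Fintype.ofFinite ↥A
  rw [(suppEquiv k A).finrank_eq, Module.finrank_fintype_fun_eq_card, Nat.card_eq_fintype_card]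

theorem compatSub_eq_suppSub {r : ℕ} {α : σ → ℤ} (hs : ∑ i, α i = -1) :
    compatSub (mPow σ k r) α = suppSub k (act (mPow σ k r) α) := by
  ext c
  constructor
  · intro hc
    exact hc.off
  · intro hc
    refine ⟨hc, fun β hβ i hact => ?_⟩
    exfalso
    rw [mem_exps_mPow] at hβ
    have h3 := ((mem_act_mPow r α _).mp hact).2.2
    rw [sum_add_single_int, hs] at h3
    have : (r : ℤ) ≤ ∑ l, (β l : ℤ) := by exact_mod_cast hβ
    push_cast at h3
    omega

/-- the negative part of a degree. -/
noncomputable def negPart (α : σ → ℤ) : σ →₀ ℕ :=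
  Finsupp.equivFunOnFinite.symm fun i => (-α i).toNat

theorem negPart_apply (α : σ → ℤ) (i : σ) : negPart α i = (-α i).toNat := rfl

theorem mem_act_mPow_of_sum {r : ℕ} {α : σ → ℤ} (hs : ∑ i, α i = -1) (β : σ →₀ ℕ) :
    β ∈ act (mPow σ k r) α ↔ ∑ i, β i = r ∧ negPart α ≤ β := by
  rw [mem_act_mPow, hs]
  constructor
  · rintro ⟨h1, h2, h3⟩
    have h4 : (r : ℤ) ≤ ∑ l, (β l : ℤ) := by exact_mod_cast h1
    refine ⟨?_, fun i => ?_⟩
    · have : ∑ l, (β l : ℤ) = r := by omega
      exact_mod_cast this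
    · rw [negPart_apply]
      have := h2 i
      omega
  · rintro ⟨h1, h2⟩
    have h4 : ∑ l, (β l : ℤ) = r := by exact_mod_cast h1
    refine ⟨h1.ge, fun i => ?_, by omega⟩
    have := h2 i
    rw [negPart_apply] at this
    omega

theorem sum_add_finsupp (β β' : σ →₀ ℕ) : ∑ l, (β + β') l = (∑ l, β l) + ∑ l, β' l := by
  simp only [Finsupp.add_apply]
  rw [Finset.sum_add_distrib]

theorem card_act_mPow {r : ℕ} {α : σ → ℤ} (hs : ∑ i, α i = -1) :
    Nat.card ↥(act (mPow σ k r) α) =
      if ∑ i, (-α i).toNat ≤ r then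
        Nat.choose (Fintype.card σ + (r - ∑ i, (-α i).toNat) - 1) (r - ∑ i, (-α i).toNat)
      else 0 := by
  have hw : ∑ i, (-α i).toNat = ∑ i, negPart α i := rfl
  split_ifs with h
  · have hset : act (mPow σ k r) α =
        ↑((Finset.univ.finsuppAntidiag (r - ∑ i, (-α i).toNat)).image (· + negPart α)) := by
      ext β
      rw [mem_act_mPow_of_sum hs, Finset.mem_coe, Finset.mem_image]
      constructor
      · rintro ⟨h1, h2⟩
        refine ⟨β - negPart α, ?_, tsub_add_cancel_of_le h2⟩
        rw [Finset.mem_finsuppAntidiag]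
        refine ⟨?_, Finset.subset_univ _⟩
        have e := sum_add_finsupp (β - negPart α) (negPart α)
        rw [tsub_add_cancel_of_le h2, h1] at e
        change ∑ l, (β - negPart α) l = r - ∑ i, (-α i).toNat
        rw [hw]
        omega
      · rintro ⟨β', hβ', rfl⟩
        rw [Finset.mem_finsuppAntidiag] at hβ'
        refine ⟨?_, le_add_self⟩
        rw [sum_add_finsupp, hβ'.1, ← hw]
        omega
    rw [hset, Nat.card_coe_set_eq, Set.ncard_coe_finset,
      Finset.card_image_of_injective _ (add_left_injective (negPart α)),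
      Finset.card_finsuppAntidiag_nat_eq_choose, Finset.card_univ]
  · have hset : act (mPow σ k r) α = ∅ := by
      ext β
      rw [mem_act_mPow_of_sum hs]
      simp only [Set.mem_empty_iff_false, iff_false, not_and]
      intro h1 h2
      apply h
      rw [hw, ← h1]
      exact Finset.sum_le_sum fun i _ => h2 i
    rw [hset]
    simp

/-- **graded pieces of `T(m^r)`**. -/
theorem finrank_tPiece_mPow [Nontrivial σ] (r : ℕ) (α : σ → ℤ) :
    Module.finrank k ↥(tPiece (mPow σ k r) α) =
      if (∑ i, α i = -1 ∧ ∑ i, (-α i).toNat ≤ r) then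
        Nat.choose (Fintype.card σ + (r - ∑ i, (-α i).toNat) - 1) (r - ∑ i, (-α i).toNat)
      else 0 := by
  rw [(tPieceEquiv (isMonomial_mPow r) α).finrank_eq]
  by_cases hs : ∑ i, α i = -1
  · haveI : Finite ↥(act (mPow σ k r) α) := by
      apply Set.finite_coe_iff.mpr
      apply Set.Finite.subset (Finset.finite_toSet (Finset.univ.finsuppAntidiag r))
      intro β hβ
      rw [Finset.mem_coe, Finset.mem_finsuppAntidiag]
      exact ⟨((mem_act_mPow_of_sum hs β).mp hβ).1, Finset.subset_univ _⟩
    have e : Module.finrank k ↥(compatSub (mPow σ k r) α) =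
        Module.finrank k ↥(suppSub k (act (mPow σ k r) α)) := by
      rw [compatSub_eq_suppSub hs]
    rw [e, finrank_suppSub, card_act_mPow hs]
    simp only [hs, true_and]
  · rw [if_neg (fun h => hs h.1)]
    have : ∀ c : ↥(compatSub (mPow σ k r) α), c = 0 := by
      intro c
      apply Subtype.ext
      rcases lt_or_gt_of_ne hs with h | h
      · exact compat_eq_zero_of_sum_le (by omega) c.2
      · exact compat_eq_zero_of_sum_nonneg (by omega) c.2
    haveI : Subsingleton ↥(compatSub (mPow σ k r) α) := ⟨fun a b => by rw [this a, this b]⟩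
    exact Module.finrank_zero_of_subsingleton

end Groth.Agent.Lib.helper10.TgtMono
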