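import Mathlib
import Groth.Prelude.Def_W4c1hilbpnTgt
import Groth.Agent.Lib.Helper10.TgtPow

set_option linter.style.haveILetI false
set_option linter.unusedSectionVars false

namespace Groth.Agent.Lib.helper10.TgtMono

open MvPolynomial W4c1hilbpn
open scoped Classical

variable {σ : Type*} {k : Type*} [Field k] [Fintype σ]

/-- a minimal generator and a socle monomial give a nonzero tangent vector of degree
`γ - β`. -/
theorem tPiece_ne_bot_of_socle {I : Ideal (MvPolynomial σ k)} (hI : IsMonomial I)
    {β γ : σ →₀ ℕ} (hβ : β ∈ exps I)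
    (hmin : ∀ i, ∀ β0 : σ →₀ ℕ, β = β0 + Finsupp.single i 1 → β0 ∉ exps I)
    (hγ : γ ∉ exps I) (hsoc : ∀ i, γ + Finsupp.single i 1 ∈ exps I) :
    tPiece I (degOf β γ) ≠ ⊥ := by
  have hact : β ∈ act I (degOf β γ) := act_degOf hβ hγ
  have hc : Compat I (degOf β γ) (fun β' => if β' = β then (1 : k) else 0) := by
    refine ⟨fun β' hβ' => ?_, fun β' hβ' i hact' => ?_⟩
    · rw [if_neg]
      rintro rfl
      exact hβ' hact
    · have h1 : β' + Finsupp.single i 1 ≠ β := by
        intro e
        exact hmin i β' e.symm hβ'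
      have h2 : β' ≠ β := by
        rintro rfl
        apply hact'.2.2
        rw [shift_add_single β' _ i (hact.2.1 i), shift_degOf]
        exact hsoc i
      rw [if_neg h1, if_neg h2]
  intro hbot
  have hmem : mkTgt hI hc ∈ tPiece I (degOf β γ) := mkTgt_mem hI hc
  rw [hbot, Submodule.mem_bot] at hmem
  have h1 := coefFn_mkTgt hI hc β
  rw [hmem, if_pos rfl] at h1
  have h0 : coefFn hI (degOf β γ) (0 : Tgt I) β = 0 := by
    unfold coefFn
    rw [dif_pos hact, LinearMap.zero_apply, map_zero]
  rw [h0] at h1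
  exact zero_ne_one h1

/-- above every standard monomial there is a socle monomial. -/
theorem exists_socle_ge {I : Ideal (MvPolynomial σ k)} (hI : IsMonomial I)
    [Module.Finite k (MvPolynomial σ k ⧸ I)] {γ0 : σ →₀ ℕ} (hγ0 : γ0 ∉ exps I) :
    ∃ γ : σ →₀ ℕ, γ0 ≤ γ ∧ γ ∉ exps I ∧ ∀ i, γ + Finsupp.single i 1 ∈ exps I := by
  have hne : ((stdSet hI).filter (γ0 ≤ ·)).Nonempty :=
    ⟨γ0, Finset.mem_filter.mpr ⟨(mem_stdSet hI γ0).mpr hγ0, le_refl _⟩⟩
  obtain ⟨γ, hγ, hmax⟩ := Finset.exists_max_image _ (fun γ : σ →₀ ℕ => ∑ i, γ i) hne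
  rw [Finset.mem_filter, mem_stdSet] at hγ
  refine ⟨γ, hγ.2, hγ.1, fun i => ?_⟩
  by_contra h
  have hmem : γ + Finsupp.single i 1 ∈ (stdSet hI).filter (γ0 ≤ ·) :=
    Finset.mem_filter.mpr ⟨(mem_stdSet hI _).mpr h, hγ.2.trans le_self_add⟩
  have := hmax _ hmem
  rw [sum_add_single] at this
  omega


theorem sigPiece_ne_bot_of_tPiece_ne_bot {I : Ideal (MvPolynomial σ k)} {α : σ → ℤ} {N : Set σ}
    (hN : ∀ i, α i < 0 ↔ i ∈ N) (h : tPiece I α ≠ ⊥) : sigPiece I N ≠ ⊥ := by
  intro hbot
  apply h
  rw [eq_bot_iff, ← hbot]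
  exact le_iSup (fun α' : {α' : σ → ℤ // ∀ i, α' i < 0 ↔ i ∈ N} => tPiece I α'.1) ⟨α, hN⟩

/-- a minimal generator supported on `N` and a standard monomial above which all standard
monomials are smaller than the generator on `N` give a nonzero piece of sign pattern `N`. -/
theorem sigPiece_ne_bot_of_box {I : Ideal (MvPolynomial σ k)} (hI : IsMonomial I)
    [Module.Finite k (MvPolynomial σ k ⧸ I)] {β γ0 : σ →₀ ℕ} (N : Set σ)
    (hβ : β ∈ exps I)
    (hmin : ∀ i, ∀ β0 : σ →₀ ℕ, β = β0 + Finsupp.single i 1 → β0 ∉ exps I)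
    (hγ0 : γ0 ∉ exps I)
    (hbox : ∀ γ : σ →₀ ℕ, γ0 ≤ γ → γ ∉ exps I → ∀ i ∈ N, γ i < β i)
    (hN : ∀ i, i ∉ N → β i = 0) : sigPiece I N ≠ ⊥ := by
  obtain ⟨γ, hle, hγ, hsoc⟩ := exists_socle_ge hI hγ0
  apply sigPiece_ne_bot_of_tPiece_ne_bot (α := degOf β γ) _
    (tPiece_ne_bot_of_socle hI hβ hmin hγ hsoc)
  intro i
  unfold degOf
  constructor
  · intro h
    by_contra hi
    rw [hN i hi] at h
    have : (0 : ℤ) ≤ γ i := by positivity
    push_cast at h
    omega
  · intro hi
    have := hbox γ hle hγ i hi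
    omega

theorem sigPiece_eq_bot_iff (I : Ideal (MvPolynomial σ k)) (N : Set σ) :
    sigPiece I N = ⊥ ↔ ∀ α : σ → ℤ, (∀ i, α i < 0 ↔ i ∈ N) → tPiece I α = ⊥ := by
  unfold sigPiece
  rw [iSup_eq_bot]
  constructor
  · intro h α hα
    exact h ⟨α, hα⟩
  · intro h α
    exact h α.1 α.2

/-! ### Vanishing criteria -/

/-- generalisation of `reach_neg`: two negative entries and no positive entries. -/
theorem reach_neg_gen {I : Ideal (MvPolynomial σ k)} (hI : IsMonomial I)
    [Module.Finite k (MvPolynomial σ k ⧸ I)] {α : σ → ℤ} (hα : ∀ i, α i ≤ 0)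
    {i0 j0 : σ} (hij : j0 ≠ i0) (hi0 : α i0 < 0) (hj0 : α j0 < 0) :
    ∀ m : ℕ, ∀ v : ↥(region I α), v.1 j0 < m →
      ∃ w : ↥(region I α), (∃ i, w.1 i < 0) ∧ (rG I α).Reachable v w := by
  intro m
  induction m with
  | zero =>
    intro v hv
    exact ⟨v, ⟨j0, by simpa using hv⟩, SimpleGraph.Reachable.refl _⟩
  | succ m ih =>
    intro v hv
    by_cases hneg : ∃ i, v.1 i < 0
    · exact ⟨v, hneg, SimpleGraph.Reachable.refl _⟩
    push Not at hneg
    have hv1 := ((mem_region_iff I α v.1).mp v.2).1
    obtain ⟨N, hN⟩ := exists_single_mem hI i0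
    have hex : ∃ t, toN (upv v.1 i0 t) ∈ exps I := by
      refine ⟨N, exps_of_le hN ?_⟩
      intro l
      rw [toN_apply]
      unfold upv
      by_cases hl : l = i0
      · subst hl
        rw [if_pos rfl, Finsupp.single_eq_same]
        have := hneg l
        omega
      · rw [Finsupp.single_eq_of_ne hl]
        exact Nat.zero_le _
    have h0 : ¬ toN (upv v.1 i0 0) ∈ exps I := by
      rw [upv_zero]
      exact toN_notMem_of_mem_region v.2 hneg
    have hfind := Nat.find_spec hex
    have hpos : Nat.find hex ≠ 0 := by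
      intro e
      rw [e] at hfind
      exact h0 hfind
    obtain ⟨s, hs⟩ := Nat.exists_eq_succ_of_ne_zero hpos
    have hsnot : ¬ toN (upv v.1 i0 s) ∈ exps I := Nat.find_min hex (by omega)
    rw [hs] at hfind
    have hup : ∀ t, t ≤ s → upv v.1 i0 t ∈ region I α := by
      intro t ht
      rw [mem_region_iff]
      refine ⟨upv_mem_first hv1 i0 t, ?_⟩
      rintro ⟨-, h2⟩
      apply hsnot
      refine exps_of_le h2 (toN_mono fun l => ?_)
      unfold upv
      split_ifs
      · have : (t : ℤ) ≤ s := by exact_mod_cast ht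
        linarith
      · exact le_refl _
    have hreach : ∀ t (ht : t ≤ s), (rG I α).Reachable v ⟨upv v.1 i0 t, hup t ht⟩ := by
      intro t
      induction t with
      | zero =>
        intro ht
        have : (⟨upv v.1 i0 0, hup 0 ht⟩ : ↥(region I α)) = v := Subtype.ext (upv_zero _ _)
        rw [this]
      | succ t iht =>
        intro ht
        refine (iht (by omega)).trans (SimpleGraph.Adj.reachable ?_)
        rw [SimpleGraph.comap_adj]
        change (stepGraph σ).Adj (upv v.1 i0 t) (upv v.1 i0 (t + 1))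
        rw [stepGraph_adj_iff]
        refine ⟨i0, Or.inl ?_, fun l hl => ?_⟩
        · unfold upv
          rw [if_pos rfl, if_pos rfl]
          push_cast
          ring
        · unfold upv
          rw [if_neg hl, if_neg hl]
    let γ2 : σ → ℤ := fun l => if l = j0 then upv v.1 i0 s l - 1 else upv v.1 i0 s l
    have hnn1 : ∀ l, 0 ≤ upv v.1 i0 (s + 1) l := by
      intro l
      unfold upv
      split_ifs
      · have := hneg l
        positivity
      · exact hneg l
    have hγ2 : γ2 ∈ region I α := by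
      rw [mem_region_iff]
      constructor
      · let ρ : σ →₀ ℕ := Finsupp.equivFunOnFinite.symm fun l =>
          (-α l - (if l = i0 then 1 else 0) - (if l = j0 then 1 else 0)).toNat
        refine ⟨toN (upv v.1 i0 (s + 1)) + ρ, exps_add hfind _, ?_⟩
        funext l
        have hρ : ρ l = (-α l - (if l = i0 then 1 else 0) - (if l = j0 then 1 else 0)).toNat :=
          rfl
        have h1 := hnn1 l
        have h2 := hα l
        simp only [vtx, Finsupp.add_apply, toN_apply, hρ, γ2]
        unfold upv at h1 ⊢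
        by_cases hl : l = i0
        · have hl' : l ≠ j0 := fun e => hij (e.symm.trans hl)
          have h3 : α l < 0 := by rw [hl]; exact hi0
          rw [if_pos hl] at h1
          rw [if_pos hl, if_neg hl', if_pos hl, if_pos hl, if_neg hl']
          push_cast
          omega
        · rw [if_neg hl] at h1
          by_cases hl2 : l = j0
          · have h3 : α l < 0 := by rw [hl2]; exact hj0
            rw [if_pos hl2, if_neg hl, if_neg hl, if_neg hl, if_pos hl2]
            push_cast
            omega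
          · rw [if_neg hl2, if_neg hl, if_neg hl, if_neg hl, if_neg hl2]
            push_cast
            omega
      · rintro ⟨-, h2⟩
        apply hsnot
        refine exps_of_le h2 (toN_mono fun l => ?_)
        change (if l = j0 then upv v.1 i0 s l - 1 else upv v.1 i0 s l) ≤ _
        split_ifs
        · linarith
        · exact le_refl _
    have hadj : (rG I α).Adj ⟨upv v.1 i0 s, hup s le_rfl⟩ ⟨γ2, hγ2⟩ := by
      rw [SimpleGraph.comap_adj]
      change (stepGraph σ).Adj (upv v.1 i0 s) γ2
      rw [stepGraph_adj_iff]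
      refine ⟨j0, Or.inr ?_, fun l hl => ?_⟩
      · change upv v.1 i0 s j0 = (if j0 = j0 then upv v.1 i0 s j0 - 1 else upv v.1 i0 s j0) + 1
        rw [if_pos rfl]
        ring
      · change (if l = j0 then upv v.1 i0 s l - 1 else upv v.1 i0 s l) = _
        rw [if_neg hl]
    have hlt : (⟨γ2, hγ2⟩ : ↥(region I α)).1 j0 < m := by
      change (if j0 = j0 then upv v.1 i0 s j0 - 1 else upv v.1 i0 s j0) < m
      rw [if_pos rfl]
      unfold upv
      rw [if_neg hij]
      push_cast at hv
      linarith
    obtain ⟨w, hw, hr⟩ := ih ⟨γ2, hγ2⟩ hlt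
    exact ⟨w, hw, ((hreach s le_rfl).trans hadj.reachable).trans hr⟩

theorem tPiece_eq_bot_of_nonpos {I : Ideal (MvPolynomial σ k)} (hI : IsMonomial I)
    [Module.Finite k (MvPolynomial σ k ⧸ I)] {α : σ → ℤ} (hα : ∀ i, α i ≤ 0)
    {i0 j0 : σ} (hij : j0 ≠ i0) (hi0 : α i0 < 0) (hj0 : α j0 < 0) : tPiece I α = ⊥ := by
  haveI : IsEmpty (Good I α) := by
    refine ⟨fun C => ?_⟩
    obtain ⟨C, hC⟩ := C
    induction C using SimpleGraph.ConnectedComponent.ind with
    | h v =>
      obtain ⟨w, ⟨i, hi⟩, hr⟩ :=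
        reach_neg_gen hI hα hij hi0 hj0 (v.1 j0 + 1).toNat v (by omega)
      have := hC w (SimpleGraph.ConnectedComponent.sound hr.symm) i
      omega
  exact tPiece_eq_bot_of_isEmpty_good hI α

/-- a positive entry at a variable lying in the ideal kills the piece. -/
theorem tPiece_eq_bot_of_var_pos {I : Ideal (MvPolynomial σ k)} (hI : IsMonomial I)
    {α : σ → ℤ} {i0 : σ} (hx : Finsupp.single i0 1 ∈ exps I) (hi0 : 0 < α i0) :
    tPiece I α = ⊥ := by
  rw [eq_bot_iff]
  intro φ hφ
  rw [Submodule.mem_bot]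
  apply tgt_ext hI
  intro β hβ
  rw [apply_monomial hI hφ β hβ, LinearMap.zero_apply]
  by_cases hnn : ∀ i, 0 ≤ (β i : ℤ) + α i
  · have : shift β α ∈ exps I := by
      apply exps_of_le hx
      intro l
      by_cases hl : l = i0
      · subst hl
        rw [Finsupp.single_eq_same, shift_apply]
        have : (0 : ℤ) ≤ β l := by positivity
        omega
      · rw [Finsupp.single_eq_of_ne hl]
        exact Nat.zero_le _
    rw [mk_monomial_eq_zero this, smul_zero]
  · have : β ∉ act I α := fun h => hnn h.2.1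
    rw [(compat_coefFn hI hφ).off β this, zero_smul]

/-- a variable in the ideal with negative entry, together with another negative entry, kills
the piece. -/
theorem tPiece_eq_bot_of_var_neg {I : Ideal (MvPolynomial σ k)} (hI : IsMonomial I)
    {α : σ → ℤ} {i0 j : σ} (hx : Finsupp.single i0 1 ∈ exps I) (hi0 : α i0 < 0)
    (hj : α j < 0) (hji : j ≠ i0) : tPiece I α = ⊥ := by
  rw [eq_bot_iff]
  intro φ hφ
  rw [Submodule.mem_bot]
  have hc := compat_coefFn hI hφ
  -- the coefficient function vanishes, by descending induction along `j`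
  have key : ∀ t : ℕ, ∀ β : σ →₀ ℕ, (β j : ℤ) + α j < t → 1 ≤ β i0 → coefFn hI α φ β = 0 := by
    intro t
    induction t with
    | zero =>
      intro β h1 _
      apply hc.off
      intro h
      have := h.2.1 j
      omega
    | succ t ih =>
      intro β h1 h2
      by_cases hact : β ∈ act I α
      · have hj1 : 1 ≤ β j := by
          have := hact.2.1 j
          omega
        obtain ⟨β0, rfl⟩ := exists_sub_single hj1
        have h0i : 1 ≤ β0 i0 := by
          rw [Finsupp.add_apply, Finsupp.single_eq_of_ne hji.symm, add_zero] at h2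
          exact h2
        have h0 : β0 ∈ exps I := by
          apply exps_of_le hx
          intro l
          by_cases hl : l = i0
          · subst hl
            rw [Finsupp.single_eq_same]
            exact h0i
          · rw [Finsupp.single_eq_of_ne hl]
            exact Nat.zero_le _
        rw [hc.step β0 h0 j hact]
        apply ih β0 _ h0i
        rw [Finsupp.add_apply, Finsupp.single_eq_same] at h1
        push_cast at h1
        omega
      · exact hc.off β hact
  apply tgt_ext hI
  intro β hβ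
  rw [apply_monomial hI hφ β hβ, LinearMap.zero_apply]
  by_cases hact : β ∈ act I α
  · have h1 : 1 ≤ β i0 := by
      have := hact.2.1 i0
      omega
    rw [key ((β j : ℤ) + α j + 1).toNat β (by omega) h1, zero_smul]
  · rw [hc.off β hact, zero_smul]

end Groth.Agent.Lib.helper10.TgtMono
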