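import Mathlib
import Groth.Prelude.Def_W4c1hilbpnTgt
import Groth.Agent.Lib.Helper10.TgtSocle

set_option linter.style.haveILetI false
set_option linter.unusedSectionVars false

namespace Groth.Agent.Lib.helper10.TgtMono

open MvPolynomial W4c1hilbpn
open scoped Classical

variable {σ : Type*} {k : Type*} [Field k] [Fintype σ]

theorem finite_tPiece {I : Ideal (MvPolynomial σ k)} (hI : IsMonomial I)
    [Module.Finite k (MvPolynomial σ k ⧸ I)] (α : σ → ℤ) : Module.Finite k ↥(tPiece I α) := by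
  haveI := finite_good hI α
  exact Module.Finite.equiv (tPieceEquivGood hI α).symm

/-- independence: a piece meets the span of finitely many other pieces trivially. -/
theorem tPiece_inf_biSup_eq_bot {I : Ideal (MvPolynomial σ k)} (hI : IsMonomial I)
    (a : σ → ℤ) (F : Finset (σ → ℤ)) (ha : a ∉ F) :
    tPiece I a ⊓ ⨆ α ∈ F, tPiece I α = ⊥ := by
  rw [eq_bot_iff]
  rintro φ ⟨h1, h2⟩
  rw [Submodule.mem_bot]
  rw [SetLike.mem_coe, Submodule.mem_iSup_finset_iff_exists_sum] at h2
  obtain ⟨μ, hμ⟩ := h2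
  have e := hcomp_of_mem hI h1
  rw [← e, ← hμ, hcomp_sum]
  apply Finset.sum_eq_zero
  intro α hα
  exact hcomp_of_mem_ne hI (μ α).2 (fun h => ha (h ▸ hα))

/-- dimension of a finite span of pieces. -/
theorem finrank_biSup_tPiece {I : Ideal (MvPolynomial σ k)} (hI : IsMonomial I)
    (F : Finset (σ → ℤ)) (hfin : ∀ α ∈ F, Module.Finite k ↥(tPiece I α)) :
    Module.Finite k ↥(⨆ α ∈ F, tPiece I α) ∧
      Module.finrank k ↥(⨆ α ∈ F, tPiece I α) = ∑ α ∈ F, Module.finrank k ↥(tPiece I α) := by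
  induction F using Finset.induction_on with
  | empty =>
    have e : (⨆ α ∈ (∅ : Finset (σ → ℤ)), tPiece I α) = ⊥ := by simp
    rw [e, Finset.sum_empty]
    exact ⟨inferInstance, finrank_bot k _⟩
  | insert a F ha ih =>
    obtain ⟨h1, h2⟩ := ih fun α hα => hfin α (Finset.mem_insert_of_mem hα)
    haveI := hfin a (Finset.mem_insert_self a F)
    rw [Finset.iSup_insert, Finset.sum_insert ha]
    refine ⟨inferInstance, ?_⟩
    have h3 := Submodule.finrank_sup_add_finrank_inf_eq (tPiece I a) (⨆ α ∈ F, tPiece I α)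
    rw [tPiece_inf_biSup_eq_bot hI a F ha, finrank_bot, add_zero] at h3
    rw [h3, h2]

theorem iSup_subtype_eq_biSup (I : Ideal (MvPolynomial σ k)) (P : (σ → ℤ) → Prop)
    (F : Finset (σ → ℤ)) (hF : ∀ α ∈ F, P α)
    (hzero : ∀ α, P α → α ∉ F → tPiece I α = ⊥) :
    (⨆ α : {α : σ → ℤ // P α}, tPiece I α.1) = ⨆ α ∈ F, tPiece I α := by
  apply le_antisymm
  · apply iSup_le
    rintro ⟨α, hα⟩
    by_cases h : α ∈ F
    · exact le_biSup (fun α => tPiece I α) h
    · rw [hzero α hα h]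
      exact bot_le
  · apply iSup₂_le
    intro α hα
    exact le_iSup (fun α : {α : σ → ℤ // P α} => tPiece I α.1) ⟨α, hF α hα⟩

/-- dimension of the span of the pieces with degrees in a set, supported on a finite set. -/
theorem finrank_iSup_subtype {I : Ideal (MvPolynomial σ k)} (hI : IsMonomial I)
    (P : (σ → ℤ) → Prop) (F : Finset (σ → ℤ)) (hF : ∀ α ∈ F, P α)
    (hzero : ∀ α, P α → α ∉ F → tPiece I α = ⊥)
    (hfin : ∀ α ∈ F, Module.Finite k ↥(tPiece I α)) :
    Module.finrank k ↥(⨆ α : {α : σ → ℤ // P α}, tPiece I α.1) =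
      ∑ α ∈ F, Module.finrank k ↥(tPiece I α) := by
  rw [iSup_subtype_eq_biSup I P F hF hzero]
  exact (finrank_biSup_tPiece hI F hfin).2

end Groth.Agent.Lib.helper10.TgtMono
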