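import Mathlib
import Groth.Prelude.Def_W4c1hilbpnTgt
import Groth.Agent.Lib.Helper10.TgtIndep

set_option linter.style.haveILetI false
set_option linter.unusedSectionVars false

namespace Groth.Agent.Lib.helper10.TgtMono

open MvPolynomial W4c1hilbpn
open scoped Classical

variable {σ : Type*} {k : Type*} [Field k] [Fintype σ]

/-- a degree below `-N` at a variable whose `N`-th power lies in `I` kills the piece. -/
theorem tPiece_eq_bot_of_lt {I : Ideal (MvPolynomial σ k)} (hI : IsMonomial I)
    {α : σ → ℤ} {i : σ} {N : ℕ} (hN : Finsupp.single i N ∈ exps I) (hα : α i < -(N : ℤ)) :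
    tPiece I α = ⊥ := by
  rw [eq_bot_iff]
  intro φ hφ
  rw [Submodule.mem_bot]
  have hc := compat_coefFn hI hφ
  have key : ∀ t : ℕ, ∀ β : σ →₀ ℕ, (β i : ℤ) + α i < t → coefFn hI α φ β = 0 := by
    intro t
    induction t with
    | zero =>
      intro β h1
      apply hc.off
      intro h
      have := h.2.1 i
      omega
    | succ t ih =>
      intro β h1
      by_cases hact : β ∈ act I α
      · have hi1 : 1 ≤ β i := by
          have := hact.2.1 i
          omega
        obtain ⟨β0, rfl⟩ := exists_sub_single hi1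
        have h0 : β0 ∈ exps I := by
          apply exps_of_le hN
          intro l
          by_cases hl : l = i
          · subst hl
            rw [Finsupp.single_eq_same]
            have := hact.2.1 l
            rw [Finsupp.add_apply, Finsupp.single_eq_same] at this
            push_cast at this
            omega
          · rw [Finsupp.single_eq_of_ne hl]
            exact Nat.zero_le _
        rw [hc.step β0 h0 i hact]
        apply ih β0
        rw [Finsupp.add_apply, Finsupp.single_eq_same] at h1
        push_cast at h1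
        omega
      · exact hc.off β hact
  apply tgt_ext hI
  intro β hβ
  rw [apply_monomial hI hφ β hβ, LinearMap.zero_apply,
    key ((β i : ℤ) + α i + 1).toNat β (by omega), zero_smul]

theorem finrank_tPiece_eq_card_good {I : Ideal (MvPolynomial σ k)} (hI : IsMonomial I)
    [Module.Finite k (MvPolynomial σ k ⧸ I)] (α : σ → ℤ) :
    Module.finrank k ↥(tPiece I α) = Nat.card (Good I α) := by
  haveI := finite_good hI α
  haveI := Fintype.ofFinite (Good I α)
  rw [(tPieceEquivGood hI α).finrank_eq, Module.finrank_fintype_fun_eq_card,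
    Nat.card_eq_fintype_card]

/-- a finite downward closed set of naturals is an initial segment. -/
theorem mem_iff_lt_card_of_downward {S : Set ℕ} (hfin : S.Finite)
    (hdown : ∀ c c', c ≤ c' → c' ∈ S → c ∈ S) (c : ℕ) : c ∈ S ↔ c < Nat.card ↥S := by
  have hex : ∃ n, n ∉ S := by
    by_contra h
    push Not at h
    have : S = Set.univ := Set.eq_univ_of_forall h
    rw [this] at hfin
    exact Set.infinite_univ hfin
  have h1 : ∀ m, m < Nat.find hex → m ∈ S := fun m hm => by
    by_contra h
    exact Nat.find_min hex hm h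
  have h2 : ∀ m, Nat.find hex ≤ m → m ∉ S := fun m hm h =>
    Nat.find_spec hex (hdown _ _ hm h)
  have hS : S = ↑(Finset.range (Nat.find hex)) := by
    ext m
    rw [Finset.coe_range, Set.mem_Iio]
    constructor
    · intro hm
      by_contra h
      exact h2 m (not_lt.mp h) hm
    · exact h1 m
  have hcard : Nat.card ↥S = Nat.find hex := by
    conv_lhs => rw [hS]
    rw [Nat.card_coe_set_eq, Set.ncard_coe_finset, Finset.card_range]
  rw [hcard]
  constructor
  · intro hc
    by_contra h
    exact h2 c (not_lt.mp h) hc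
  · exact h1 c

/-! ### corners of good components -/

theorem region_first_of_mem {I : Ideal (MvPolynomial σ k)} {α : σ → ℤ} (v : ↥(region I α)) :
    pre v.1 α ∈ exps I ∧ vtx (pre v.1 α) α = v.1 := by
  obtain ⟨⟨β, hβ, e⟩, -⟩ := (mem_region_iff I α v.1).mp v.2
  rw [e, pre_vtx]
  exact ⟨hβ, rfl⟩

theorem exists_corner {I : Ideal (MvPolynomial σ k)} (hI : IsMonomial I)
    [Module.Finite k (MvPolynomial σ k ⧸ I)] (α : σ → ℤ) (z : σ) (K : Good I α) :
    ∃ v : ↥(region I α), (rG I α).connectedComponentMk v = K.1 ∧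
      (∀ i, i ≠ z → toN (upv v.1 i 1) ∈ exps I) ∧
      (∀ β0 : σ →₀ ℕ, pre v.1 α = β0 + Finsupp.single z 1 → β0 ∉ exps I) := by
  have hfin := supp_finite_of_isGood hI K.2
  have hne : hfin.toFinset.Nonempty := by
    refine ⟨K.1.out, ?_⟩
    rw [Set.Finite.mem_toFinset]
    exact Quot.out_eq K.1
  obtain ⟨v0, hv0, hmin⟩ := Finset.exists_min_image hfin.toFinset (fun v => v.1 z) hne
  have hne2 : (hfin.toFinset.filter fun v => v.1 z = v0.1 z).Nonempty :=
    ⟨v0, Finset.mem_filter.mpr ⟨hv0, rfl⟩⟩
  obtain ⟨v, hv, hmax⟩ := Finset.exists_max_image _ (fun v : ↥(region I α) => ∑ l, v.1 l) hne2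
  rw [Finset.mem_filter, Set.Finite.mem_toFinset] at hv
  obtain ⟨hvK, hvz⟩ := hv
  have hvK' : (rG I α).connectedComponentMk v = K.1 := hvK
  have hnn : ∀ l, 0 ≤ v.1 l := K.2 v hvK'
  have hvnot : toN v.1 ∉ exps I := toN_notMem_of_mem_region v.2 hnn
  obtain ⟨hpre, hvtx⟩ := region_first_of_mem v
  refine ⟨v, hvK', ?_, ?_⟩
  · intro i hi
    by_contra hnot
    have hreg : upv v.1 i 1 ∈ region I α := by
      rw [mem_region_iff]
      exact ⟨upv_mem_first ((mem_region_iff I α v.1).mp v.2).1 i 1, fun h => hnot h.2⟩
    have hadj : (rG I α).Adj v ⟨upv v.1 i 1, hreg⟩ := by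
      rw [SimpleGraph.comap_adj]
      change (stepGraph σ).Adj v.1 (upv v.1 i 1)
      rw [stepGraph_adj_iff]
      refine ⟨i, Or.inl ?_, fun l hl => ?_⟩
      · unfold upv
        rw [if_pos rfl]
        push_cast
        ring
      · unfold upv
        rw [if_neg hl]
    have hK2 : (rG I α).connectedComponentMk ⟨upv v.1 i 1, hreg⟩ = K.1 := by
      rw [← hvK']
      exact (SimpleGraph.ConnectedComponent.connectedComponentMk_eq_of_adj hadj).symm
    have hmem : (⟨upv v.1 i 1, hreg⟩ : ↥(region I α)) ∈
        hfin.toFinset.filter fun v => v.1 z = v0.1 z := by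
      rw [Finset.mem_filter, Set.Finite.mem_toFinset]
      refine ⟨hK2, ?_⟩
      change upv v.1 i 1 z = v0.1 z
      unfold upv
      rw [if_neg (Ne.symm hi), hvz]
    have := hmax _ hmem
    have hsum : ∑ l, upv v.1 i 1 l = (∑ l, v.1 l) + 1 := by
      unfold upv
      rw [← Finset.add_sum_erase _ _ (Finset.mem_univ i),
        ← Finset.add_sum_erase Finset.univ (fun l => v.1 l) (Finset.mem_univ i), if_pos rfl]
      have : ∑ x ∈ Finset.univ.erase i, (if x = i then v.1 x + ((1 : ℕ) : ℤ) else v.1 x) =
          ∑ x ∈ Finset.univ.erase i, v.1 x := by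
        refine Finset.sum_congr rfl fun x hx => ?_
        rw [if_neg (Finset.mem_erase.mp hx).1]
      rw [this]
      push_cast
      ring
    change ∑ l, upv v.1 i 1 l ≤ ∑ l, v.1 l at this
    rw [hsum] at this
    omega
  · intro β0 e hβ0
    have hv_eq : v.1 = vtx (β0 + Finsupp.single z 1) α := by rw [← e, hvtx]
    have hreg : vtx β0 α ∈ region I α := by
      rw [vtx_mem_region_iff hβ0]
      rintro ⟨h1, h2⟩
      apply hvnot
      apply exps_of_le h2
      intro l
      rw [shift_apply, toN_apply, hv_eq]
      simp only [vtx, Finsupp.add_apply]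
      have : (0 : ℤ) ≤ ((Finsupp.single z 1 : σ →₀ ℕ) l : ℤ) := by positivity
      push_cast
      omega
    have hadj : (rG I α).Adj v ⟨vtx β0 α, hreg⟩ := by
      rw [SimpleGraph.comap_adj]
      change (stepGraph σ).Adj v.1 (vtx β0 α)
      rw [stepGraph_adj_iff, hv_eq]
      refine ⟨z, Or.inr ?_, fun l hl => ?_⟩
      · simp only [vtx, Finsupp.add_apply, Finsupp.single_eq_same]
        push_cast
        ring
      · simp only [vtx, Finsupp.add_apply, Finsupp.single_eq_of_ne hl, add_zero]
    have hK2 : (rG I α).connectedComponentMk ⟨vtx β0 α, hreg⟩ = K.1 := by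
      rw [← hvK']
      exact (SimpleGraph.ConnectedComponent.connectedComponentMk_eq_of_adj hadj).symm
    have hmem : (⟨vtx β0 α, hreg⟩ : ↥(region I α)) ∈ hfin.toFinset := by
      rw [Set.Finite.mem_toFinset]
      exact hK2
    have := hmin _ hmem
    change v0.1 z ≤ vtx β0 α z at this
    rw [← hvz, hv_eq] at this
    simp only [vtx, Finsupp.add_apply, Finsupp.single_eq_same] at this
    push_cast at this
    omega

end Groth.Agent.Lib.helper10.TgtMono
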