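import Mathlib
import Groth.Prelude.Def_W4c1hilbpnTgt
import Groth.Agent.Lib.Helper10.TgtStair

set_option linter.style.haveILetI false
set_option linter.unusedSectionVars false

namespace Groth.Agent.Lib.helper10.TgtMono

open MvPolynomial W4c1hilbpn
open scoped Classical

variable {σ : Type*} {k : Type*} [Field k] [Fintype σ]

/-- exponents of the product of two ideals generated by disjoint sets of variables. -/
def EAB (A B : Finset σ) : Set (σ →₀ ℕ) :=
  {β | (∃ i ∈ A, 1 ≤ β i) ∧ (∃ j ∈ B, 1 ≤ β j)}

theorem EAB_comm (A B : Finset σ) : EAB A B = EAB B A := by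
  ext β
  exact and_comm

/-- the degree `e_l - e_i`. -/
noncomputable def eDiff (l i : σ) : σ → ℤ := fun x => (if x = l then 1 else 0) - (if x = i then 1 else 0)

theorem eDiff_apply (l i x : σ) :
    eDiff l i x = (if x = l then 1 else 0) - (if x = i then 1 else 0) := rfl

section typeA
variable {A B : Finset σ} (hAB : Disjoint A B) {I : Ideal (MvPolynomial σ k)}
  (hI : IsMonomial I) (hE : exps I = EAB A B)
include hAB hI hE

theorem mem_exps_iff (β : σ →₀ ℕ) :
    β ∈ exps I ↔ (∃ i ∈ A, 1 ≤ β i) ∧ (∃ j ∈ B, 1 ≤ β j) := by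
  rw [hE]
  rfl

/-- the key analysis: a nonzero coefficient at an active exponent whose shift has no `A`-part
forces the degree to be `e_l - e_i`. -/
theorem typeA (hB2 : ∃ j1 ∈ B, ∃ j2 ∈ B, j1 ≠ j2) {α : σ → ℤ} (hs : ∑ x, α x = 0)
    {c : (σ →₀ ℕ) → k} (hc : Compat I α c) {β : σ →₀ ℕ} (hβ : β ∈ act I α) (hcβ : c β ≠ 0)
    (hnoA : ∀ i ∈ A, shift β α i = 0) :
    ∃ i0 ∈ A, ∃ l, l ∉ A ∧ α = eDiff l i0 := by
  have hβE := (mem_exps_iff hAB hI hE β).mp hβ.1
  obtain ⟨⟨i0, hi0A, hi0⟩, hBβ⟩ := hβE
  have hnn := hβ.2.1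
  have hαA : ∀ i ∈ A, α i = -(β i : ℤ) := by
    intro i hi
    have h1 := hnoA i hi
    rw [shift_apply] at h1
    have h2 := hnn i
    omega
  -- (1) the `A`-part of `β` is `e_{i0}`
  have hApart : ∀ i ∈ A, β i = if i = i0 then 1 else 0 := by
    obtain ⟨β0, hβ0⟩ := exists_sub_single hi0
    have hβ0E : β0 ∉ exps I := by
      intro h0
      have hact : β0 + Finsupp.single i0 1 ∈ act I α := by rw [← hβ0]; exact hβ
      have e := hc.step β0 h0 i0 hact
      rw [← hβ0] at e
      apply hcβ
      rw [e]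
      apply hc.off
      intro h
      have h1 := h.2.1 i0
      have h2 := hαA i0 hi0A
      rw [hβ0, Finsupp.add_apply, Finsupp.single_eq_same] at h2
      push_cast at h2
      omega
    rw [mem_exps_iff hAB hI hE] at hβ0E
    have hB0 : ∃ j ∈ B, 1 ≤ β0 j := by
      obtain ⟨j, hjB, hj⟩ := hBβ
      refine ⟨j, hjB, ?_⟩
      have hne : j ≠ i0 := fun e => (Finset.disjoint_left.mp hAB) hi0A (e ▸ hjB)
      rw [hβ0, Finsupp.add_apply, Finsupp.single_eq_of_ne hne, add_zero] at hj
      exact hj
    have hA0 : ∀ i ∈ A, β0 i = 0 := by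
      intro i hi
      by_contra h
      exact hβ0E ⟨⟨i, hi, by omega⟩, hB0⟩
    intro i hi
    rw [hβ0, Finsupp.add_apply, hA0 i hi, zero_add]
    by_cases h : i = i0
    · subst h
      rw [Finsupp.single_eq_same, if_pos rfl]
    · rw [Finsupp.single_eq_of_ne h, if_neg h]
  -- (2) no negative entries off `A`
  have hoff : ∀ l, l ∉ A → 0 ≤ α l := by
    intro l hl
    by_contra hneg
    push Not at hneg
    obtain ⟨j1, hj1, j2, hj2, hj12⟩ := hB2
    obtain ⟨j, hjB, hjl⟩ : ∃ j ∈ B, j ≠ l := by
      by_cases h : j1 = l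
      · exact ⟨j2, hj2, fun e => hj12 (h.trans e.symm)⟩
      · exact ⟨j1, hj1, h⟩
    have hjA : j ∉ A := fun h => (Finset.disjoint_left.mp hAB) h hjB
    -- going down along `l` from `β + e_j`
    have key : ∀ t : ℕ, ∀ β' : σ →₀ ℕ, β' ∈ act I α → 1 ≤ β' j → (∀ i ∈ A, β' i = β i) →
        (β' l : ℤ) + α l = t → c β' = 0 := by
      intro t
      induction t with
      | zero =>
        intro β' hβ' hj' hA' ht
        have hl1 : 1 ≤ β' l := by push_cast at ht; omega
        obtain ⟨β0, hβ0⟩ := exists_sub_single hl1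
        have h0E : β0 ∈ exps I := by
          rw [mem_exps_iff hAB hI hE]
          refine ⟨⟨i0, hi0A, ?_⟩, ⟨j, hjB, ?_⟩⟩
          · have := hA' i0 hi0A
            have hne : i0 ≠ l := fun e => hl (e ▸ hi0A)
            rw [hβ0, Finsupp.add_apply, Finsupp.single_eq_of_ne hne, add_zero] at this
            rw [this]
            exact hi0
          · rw [hβ0, Finsupp.add_apply, Finsupp.single_eq_of_ne hjl, add_zero] at hj'
            exact hj'
        have hact : β0 + Finsupp.single l 1 ∈ act I α := by rw [← hβ0]; exact hβ'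
        rw [hβ0, hc.step β0 h0E l hact]
        apply hc.off
        intro h
        have := h.2.1 l
        rw [hβ0, Finsupp.add_apply, Finsupp.single_eq_same] at ht
        push_cast at ht
        omega
      | succ t ih =>
        intro β' hβ' hj' hA' ht
        have hl1 : 1 ≤ β' l := by push_cast at ht; omega
        obtain ⟨β0, hβ0⟩ := exists_sub_single hl1
        have h0E : β0 ∈ exps I := by
          rw [mem_exps_iff hAB hI hE]
          refine ⟨⟨i0, hi0A, ?_⟩, ⟨j, hjB, ?_⟩⟩
          · have := hA' i0 hi0A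
            have hne : i0 ≠ l := fun e => hl (e ▸ hi0A)
            rw [hβ0, Finsupp.add_apply, Finsupp.single_eq_of_ne hne, add_zero] at this
            rw [this]
            exact hi0
          · rw [hβ0, Finsupp.add_apply, Finsupp.single_eq_of_ne hjl, add_zero] at hj'
            exact hj'
        have hact : β0 + Finsupp.single l 1 ∈ act I α := by rw [← hβ0]; exact hβ'
        rw [hβ0, hc.step β0 h0E l hact]
        by_cases h0act : β0 ∈ act I α
        · apply ih β0 h0act
          · rw [hβ0, Finsupp.add_apply, Finsupp.single_eq_of_ne hjl, add_zero] at hj'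
            exact hj'
          · intro i hi
            have := hA' i hi
            have hne : i ≠ l := fun e => hl (e ▸ hi)
            rw [hβ0, Finsupp.add_apply, Finsupp.single_eq_of_ne hne, add_zero] at this
            exact this
          · rw [hβ0, Finsupp.add_apply, Finsupp.single_eq_same] at ht
            push_cast at ht ⊢
            omega
        · exact hc.off β0 h0act
    -- `β + e_j` is active with the same coefficient
    have hup : β + Finsupp.single j 1 ∈ act I α := by
      refine ⟨exps_add hβ.1 _, fun x => ?_, ?_⟩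
      · have := hnn x
        rw [Finsupp.add_apply]
        push_cast
        have : (0 : ℤ) ≤ ((Finsupp.single j 1 : σ →₀ ℕ) x : ℤ) := by positivity
        linarith
      · rw [shift_add_single β α j (hnn j), mem_exps_iff hAB hI hE]
        rintro ⟨⟨i, hi, h1⟩, -⟩
        have hne : i ≠ j := fun e => hjA (e ▸ hi)
        rw [Finsupp.add_apply, Finsupp.single_eq_of_ne hne, add_zero, hnoA i hi] at h1
        omega
    have e1 := hc.step β hβ.1 j hup
    apply hcβ
    rw [← e1]
    apply key ((β l : ℤ) + α l).toNat (β + Finsupp.single j 1) hup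
    · rw [Finsupp.add_apply, Finsupp.single_eq_same]
      omega
    · intro i hi
      have hne : i ≠ j := fun e => hjA (e ▸ hi)
      rw [Finsupp.add_apply, Finsupp.single_eq_of_ne hne, add_zero]
    · rw [Finsupp.add_apply, Finsupp.single_eq_of_ne hjl.symm, add_zero]
      have := hnn l
      omega
  -- (3) conclusion
  have hαA' : ∀ i ∈ A, α i = if i = i0 then -1 else 0 := by
    intro i hi
    rw [hαA i hi, hApart i hi]
    split_ifs <;> simp
  have hsplit : ∑ x, α x = ∑ x ∈ A, α x + ∑ x ∈ Finset.univ \ A, α x := by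
    rw [← Finset.sum_union Finset.disjoint_sdiff, Finset.union_sdiff_of_subset
      (Finset.subset_univ A)]
  have hsumA : ∑ x ∈ A, α x = -1 := by
    rw [Finset.sum_congr rfl hαA', Finset.sum_ite_eq' A i0, if_pos hi0A]
  have hsumC : ∑ x ∈ Finset.univ \ A, α x = 1 := by
    rw [hsplit, hsumA] at hs
    omega
  have hnnC : ∀ x ∈ Finset.univ \ A, 0 ≤ α x := fun x hx =>
    hoff x (Finset.mem_sdiff.mp hx).2
  obtain ⟨l, hl, hlpos⟩ : ∃ l ∈ Finset.univ \ A, 0 < α l := by
    by_contra h
    push Not at h
    have : ∑ x ∈ Finset.univ \ A, α x ≤ 0 := Finset.sum_nonpos h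
    omega
  have hlA : l ∉ A := (Finset.mem_sdiff.mp hl).2
  have h1 : α l + ∑ x ∈ (Finset.univ \ A).erase l, α x = 1 := by
    rw [Finset.add_sum_erase _ _ hl, hsumC]
  have h2 : 0 ≤ ∑ x ∈ (Finset.univ \ A).erase l, α x :=
    Finset.sum_nonneg fun x hx => hnnC x (Finset.mem_of_mem_erase hx)
  have hl1 : α l = 1 := by omega
  have h3 : ∑ x ∈ (Finset.univ \ A).erase l, α x = 0 := by omega
  rw [Finset.sum_eq_zero_iff_of_nonneg fun x hx => hnnC x (Finset.mem_of_mem_erase hx)] at h3
  refine ⟨i0, hi0A, l, hlA, ?_⟩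
  funext x
  unfold eDiff
  by_cases hxA : x ∈ A
  · have hxl : x ≠ l := fun e => hlA (e ▸ hxA)
    rw [hαA' x hxA, if_neg hxl]
    split_ifs <;> simp
  · have hxi : x ≠ i0 := fun e => hxA (e ▸ hi0A)
    rw [if_neg hxi, sub_zero]
    by_cases hxl : x = l
    · rw [hxl, hl1, if_pos rfl]
    · rw [if_neg hxl]
      exact h3 x (Finset.mem_erase.mpr ⟨hxl, Finset.mem_sdiff.mpr ⟨Finset.mem_univ x, hxA⟩⟩)


/-- the active exponents in degree `e_l - e_{i0}`. -/
theorem mem_act_eDiff {i0 l : σ} (hi0 : i0 ∈ A) (hl : l ∉ A) (β : σ →₀ ℕ) :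
    β ∈ act I (eDiff l i0) ↔
      β i0 = 1 ∧ (∀ i ∈ A, i ≠ i0 → β i = 0) ∧ ∃ j ∈ B, 1 ≤ β j := by
  have hli : l ≠ i0 := fun e => hl (e ▸ hi0)
  have hshift : ∀ x, (∀ y, 0 ≤ (β y : ℤ) + eDiff l i0 y) →
      (shift β (eDiff l i0) x : ℤ) = (β x : ℤ) + eDiff l i0 x := by
    intro x h
    rw [shift_apply]
    have := h x
    omega
  constructor
  · rintro ⟨h1, h2, h3⟩
    rw [mem_exps_iff hAB hI hE] at h1 h3
    obtain ⟨-, j, hjB, hj⟩ := h1
    have hjA : j ∉ A := fun h => (Finset.disjoint_left.mp hAB) h hjB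
    have hB' : ∃ j ∈ B, 1 ≤ shift β (eDiff l i0) j := by
      refine ⟨j, hjB, ?_⟩
      have := hshift j h2
      have hji : j ≠ i0 := fun e => hjA (e ▸ hi0)
      rw [eDiff_apply, if_neg hji] at this
      split_ifs at this <;> omega
    have hnoA : ∀ i ∈ A, shift β (eDiff l i0) i = 0 := by
      intro i hi
      by_contra h
      exact h3 ⟨⟨i, hi, by omega⟩, hB'⟩
    refine ⟨?_, ?_, j, hjB, hj⟩
    · have := hshift i0 h2
      rw [hnoA i0 hi0, eDiff_apply, if_neg hli.symm, if_pos rfl] at this
      push_cast at this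
      omega
    · intro i hi hne
      have := hshift i h2
      rw [hnoA i hi] at this
      have hil : i ≠ l := fun e => hl (e ▸ hi)
      rw [eDiff_apply, if_neg hil, if_neg hne] at this
      push_cast at this
      omega
  · rintro ⟨h1, h2, j, hjB, hj⟩
    have hnn : ∀ y, 0 ≤ (β y : ℤ) + eDiff l i0 y := by
      intro y
      rw [eDiff_apply]
      by_cases hy : y = i0
      · rw [hy, if_neg hli.symm, if_pos rfl, h1]
        norm_num
      · rw [if_neg hy]
        have : (0 : ℤ) ≤ β y := by positivity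
        split_ifs <;> omega
    refine ⟨?_, hnn, ?_⟩
    · rw [mem_exps_iff hAB hI hE]
      exact ⟨⟨i0, hi0, by omega⟩, ⟨j, hjB, hj⟩⟩
    · rw [mem_exps_iff hAB hI hE]
      rintro ⟨⟨i, hi, h3⟩, -⟩
      have := hshift i hnn
      have hil : i ≠ l := fun e => hl (e ▸ hi)
      rw [eDiff_apply, if_neg hil] at this
      by_cases hii : i = i0
      · rw [if_pos hii, hii, h1] at this
        rw [hii] at h3
        push_cast at this
        omega
      · rw [if_neg hii, h2 i hi hii] at this
        push_cast at this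
        omega

/-- the piece of degree `e_l - e_{i0}` is one-dimensional. -/
theorem finrank_tPiece_eDiff {i0 l : σ} (hi0 : i0 ∈ A) (hl : l ∉ A) (hB : B.Nonempty) :
    Module.finrank k ↥(tPiece I (eDiff l i0)) = 1 := by
  obtain ⟨js, hjs⟩ := hB
  have hjsA : js ∉ A := fun h => (Finset.disjoint_left.mp hAB) h hjs
  have hjsi : js ≠ i0 := fun e => hjsA (e ▸ hi0)
  set α := eDiff l i0 with hα
  obtain ⟨βs, hβsdef⟩ : ∃ βs : σ →₀ ℕ, βs = Finsupp.single i0 1 + Finsupp.single js 1 :=
    ⟨_, rfl⟩
  have hβs0 : βs i0 = 1 := by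
    rw [hβsdef, Finsupp.add_apply, Finsupp.single_eq_same, Finsupp.single_eq_of_ne hjsi.symm,
      add_zero]
  have hβsj : βs js = 1 := by
    rw [hβsdef, Finsupp.add_apply, Finsupp.single_eq_same, Finsupp.single_eq_of_ne hjsi,
      zero_add]
  have hβsx : ∀ x, x ≠ i0 → x ≠ js → βs x = 0 := by
    intro x h1 h2
    rw [hβsdef, Finsupp.add_apply, Finsupp.single_eq_of_ne h1, Finsupp.single_eq_of_ne h2,
      add_zero]
  have hsum_s : ∑ x, βs x = 2 := by
    rw [hβsdef, sum_add_single]
    have : ∑ x, (Finsupp.single i0 1 : σ →₀ ℕ) x = 1 := by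
      have := sum_add_single (0 : σ →₀ ℕ) i0 1
      rw [zero_add] at this
      rw [this]
      simp
    rw [this]
  have hPs : βs ∈ act I α := by
    rw [mem_act_eDiff hAB hI hE hi0 hl]
    refine ⟨hβs0, fun i hi hne => hβsx i hne (fun e => hjsA (e ▸ hi)), js, hjs, hβsj.ge⟩
  rw [(tPieceEquiv hI α).finrank_eq]
  -- evaluation at `βs`
  let ev : ↥(compatSub I α) →ₗ[k] k :=
    { toFun := fun c => c.1 βs
      map_add' := fun _ _ => rfl
      map_smul' := fun _ _ => rfl }
  have hconst : ∀ (c : (σ →₀ ℕ) → k), Compat I α c → ∀ t : ℕ, ∀ β : σ →₀ ℕ, β ∈ act I α →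
      βs ≤ β → ∑ x, β x = t + 2 → c β = c βs := by
    intro c hc t
    induction t with
    | zero =>
      intro β _ hle hsum
      have : β = βs := by
        ext x
        by_contra hne
        have hlt : βs x < β x := lt_of_le_of_ne (hle x) (Ne.symm hne)
        have : ∑ y, βs y < ∑ y, β y :=
          Finset.sum_lt_sum (fun y _ => hle y) ⟨x, Finset.mem_univ x, hlt⟩
        omega
      rw [this]
    | succ t ih =>
      intro β hβ hle hsum
      obtain ⟨m, hm⟩ : ∃ m, βs m < β m := by
        by_contra h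
        push Not at h
        have : ∑ y, β y ≤ ∑ y, βs y := Finset.sum_le_sum fun y _ => h y
        omega
      have hP := (mem_act_eDiff hAB hI hE hi0 hl β).mp hβ
      have hmA : m ∉ A := by
        intro hmA
        by_cases hmi : m = i0
        · rw [hmi, hβs0, hP.1] at hm
          omega
        · rw [hP.2.1 m hmA hmi] at hm
          omega
      obtain ⟨β0, hβ0⟩ := exists_sub_single (by omega : 1 ≤ β m)
      have hle0 : βs ≤ β0 := by
        intro x
        have := hle x
        rw [hβ0, Finsupp.add_apply] at this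
        by_cases hx : x = m
        · subst hx
          rw [hβ0, Finsupp.add_apply, Finsupp.single_eq_same] at hm
          omega
        · rw [Finsupp.single_eq_of_ne hx, add_zero] at this
          exact this
      have h0act : β0 ∈ act I α := by
        rw [mem_act_eDiff hAB hI hE hi0 hl]
        have hmi : i0 ≠ m := fun e => hmA (e ▸ hi0)
        refine ⟨?_, ?_, js, hjs, ?_⟩
        · have := hP.1
          rw [hβ0, Finsupp.add_apply, Finsupp.single_eq_of_ne hmi, add_zero] at this
          exact this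
        · intro i hi hne
          have := hP.2.1 i hi hne
          have him : i ≠ m := fun e => hmA (e ▸ hi)
          rw [hβ0, Finsupp.add_apply, Finsupp.single_eq_of_ne him, add_zero] at this
          exact this
        · have := hle0 js
          rw [hβsj] at this
          exact this
      have hact : β0 + Finsupp.single m 1 ∈ act I α := by rw [← hβ0]; exact hβ
      rw [hβ0, hc.step β0 h0act.1 m hact]
      apply ih β0 h0act hle0
      rw [hβ0, sum_add_single] at hsum
      omega
  have hall : ∀ (c : (σ →₀ ℕ) → k), Compat I α c → ∀ β ∈ act I α, c β = c βs := by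
    intro c hc β hβ
    have hP := (mem_act_eDiff hAB hI hE hi0 hl β).mp hβ
    have hup : β + Finsupp.single js 1 ∈ act I α := by
      rw [mem_act_eDiff hAB hI hE hi0 hl]
      refine ⟨?_, ?_, js, hjs, ?_⟩
      · rw [Finsupp.add_apply, Finsupp.single_eq_of_ne hjsi.symm, add_zero]
        exact hP.1
      · intro i hi hne
        have hij : i ≠ js := fun e => hjsA (e ▸ hi)
        rw [Finsupp.add_apply, Finsupp.single_eq_of_ne hij, add_zero]
        exact hP.2.1 i hi hne
      · rw [Finsupp.add_apply, Finsupp.single_eq_same]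
        omega
    rw [← hc.step β hβ.1 js hup]
    have hle : βs ≤ β + Finsupp.single js 1 := by
      intro x
      rw [Finsupp.add_apply]
      by_cases hx : x = i0
      · rw [hx, hβs0, hP.1]
        omega
      · by_cases hx2 : x = js
        · rw [hx2, hβsj, Finsupp.single_eq_same]
          omega
        · rw [hβsx x hx hx2]
          exact Nat.zero_le _
    have hsum : ∃ t, ∑ x, (β + Finsupp.single js 1 : σ →₀ ℕ) x = t + 2 := by
      have h1 : ∑ y, βs y ≤ ∑ y, (β + Finsupp.single js 1 : σ →₀ ℕ) y :=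
        Finset.sum_le_sum fun y _ => hle y
      rw [hsum_s] at h1
      exact ⟨_, (Nat.sub_add_cancel h1).symm⟩
    obtain ⟨t, ht⟩ := hsum
    exact hconst c hc t _ hup hle ht
  have hinj : Function.Injective ev := by
    rw [← LinearMap.ker_eq_bot, LinearMap.ker_eq_bot']
    intro c hc0
    apply Subtype.ext
    funext β
    change c.1 β = 0
    by_cases hβ : β ∈ act I α
    · rw [hall c.1 c.2 β hβ]
      exact hc0
    · exact c.2.off β hβ
  have hsurj : Function.Surjective ev := by
    intro a
    have hc0 : Compat I α (fun β => if β ∈ act I α then a else 0) := by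
      refine ⟨fun β hβ => if_neg hβ, fun β hβ m hact => ?_⟩
      rw [if_pos hact]
      have hP := (mem_act_eDiff hAB hI hE hi0 hl _).mp hact
      have hmA : m ∉ A := by
        intro hmA
        have hβE := (mem_exps_iff hAB hI hE β).mp hβ
        obtain ⟨⟨i, hi, h1⟩, -⟩ := hβE
        by_cases hmi : m = i0
        · have h2 := hP.1
          rw [hmi, Finsupp.add_apply, Finsupp.single_eq_same] at h2
          by_cases hii : i = i0
          · rw [hii] at h1
            omega
          · have h3 := hP.2.1 i hi hii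
            have : i ≠ m := fun e => hii (e.trans hmi)
            rw [Finsupp.add_apply, Finsupp.single_eq_of_ne this, add_zero] at h3
            omega
        · have h3 := hP.2.1 m hmA hmi
          rw [Finsupp.add_apply, Finsupp.single_eq_same] at h3
          omega
      have hβact : β ∈ act I α := by
        rw [mem_act_eDiff hAB hI hE hi0 hl]
        have hmi : i0 ≠ m := fun e => hmA (e ▸ hi0)
        refine ⟨?_, ?_, ((mem_exps_iff hAB hI hE β).mp hβ).2⟩
        · have := hP.1
          rw [Finsupp.add_apply, Finsupp.single_eq_of_ne hmi, add_zero] at this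
          exact this
        · intro i hi hne
          have := hP.2.1 i hi hne
          have him : i ≠ m := fun e => hmA (e ▸ hi)
          rw [Finsupp.add_apply, Finsupp.single_eq_of_ne him, add_zero] at this
          exact this
      rw [if_pos hβact]
    refine ⟨⟨_, hc0⟩, ?_⟩
    change (if βs ∈ act I α then a else 0) = a
    rw [if_pos hPs]
  rw [(LinearEquiv.ofBijective ev ⟨hinj, hsurj⟩).finrank_eq, Module.finrank_self]


end typeA

theorem eDiff_sum (l i : σ) : ∑ x, eDiff l i x = 0 := by
  simp only [eDiff_apply]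
  rw [Finset.sum_sub_distrib, Finset.sum_ite_eq' Finset.univ l, Finset.sum_ite_eq' Finset.univ i,
    if_pos (Finset.mem_univ _), if_pos (Finset.mem_univ _), sub_self]

theorem eDiff_inj {l i l' i' : σ} (h : l ≠ i) (h' : l' ≠ i') (e : eDiff l i = eDiff l' i') :
    i = i' ∧ l = l' := by
  have e1 := congrFun e i
  have e2 := congrFun e l
  rw [eDiff_apply, eDiff_apply, if_neg h.symm, if_pos rfl] at e1
  rw [eDiff_apply, eDiff_apply, if_pos rfl, if_neg h] at e2
  constructor
  · by_contra hne
    rw [if_neg hne] at e1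
    split_ifs at e1 <;> omega
  · by_contra hne
    rw [if_neg hne] at e2
    split_ifs at e2 <;> omega

/-- the set of degrees `e_l - e_i`, `i ∈ A`, `l ∉ A`. -/
noncomputable def FSet (A : Finset σ) : Finset (σ → ℤ) :=
  (A ×ˢ (Finset.univ \ A)).image fun p => eDiff p.2 p.1

theorem mem_FSet (A : Finset σ) (α : σ → ℤ) :
    α ∈ FSet A ↔ ∃ i ∈ A, ∃ l, l ∉ A ∧ α = eDiff l i := by
  unfold FSet
  rw [Finset.mem_image]
  constructor
  · rintro ⟨⟨i, l⟩, hp, rfl⟩
    rw [Finset.mem_product, Finset.mem_sdiff] at hp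
    exact ⟨i, hp.1, l, hp.2.2, rfl⟩
  · rintro ⟨i, hi, l, hl, rfl⟩
    exact ⟨(i, l), Finset.mem_product.mpr ⟨hi, Finset.mem_sdiff.mpr ⟨Finset.mem_univ l, hl⟩⟩, rfl⟩

theorem card_FSet (A : Finset σ) : (FSet A).card = A.card * (Fintype.card σ - A.card) := by
  unfold FSet
  rw [Finset.card_image_of_injOn, Finset.card_product, Finset.card_sdiff_of_subset
    (Finset.subset_univ A), Finset.card_univ]
  rintro ⟨i, l⟩ hp ⟨i', l'⟩ hp' e
  rw [Finset.mem_coe, Finset.mem_product, Finset.mem_sdiff] at hp hp'
  have h : l ≠ i := fun e => hp.2.2 (e ▸ hp.1)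
  have h' : l' ≠ i' := fun e => hp'.2.2 (e ▸ hp'.1)
  obtain ⟨e1, e2⟩ := eDiff_inj h h' e
  rw [e1, e2]

section count
variable {A B : Finset σ} (hAB : Disjoint A B) {I : Ideal (MvPolynomial σ k)}
  (hI : IsMonomial I) (hE : exps I = EAB A B)
include hAB hI hE

theorem finrank_hom0_AB (hA2 : 2 ≤ A.card) (hB2 : 2 ≤ B.card) :
    Module.finrank k ↥(⨆ α : {α : σ → ℤ // ∑ i, α i = 0}, tPiece I α.1) =
      A.card * (Fintype.card σ - A.card) + B.card * (Fintype.card σ - B.card) := by
  have hA2' := Finset.one_lt_card.mp (by omega : 1 < A.card)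
  have hB2' := Finset.one_lt_card.mp (by omega : 1 < B.card)
  have hAne : A.Nonempty := Finset.card_pos.mp (by omega)
  have hBne : B.Nonempty := Finset.card_pos.mp (by omega)
  have hE' : exps I = EAB B A := by rw [hE, EAB_comm]
  have hone : ∀ α ∈ FSet A ∪ FSet B, Module.finrank k ↥(tPiece I α) = 1 := by
    intro α hα
    rw [Finset.mem_union, mem_FSet, mem_FSet] at hα
    rcases hα with ⟨i, hi, l, hl, rfl⟩ | ⟨i, hi, l, hl, rfl⟩
    · exact finrank_tPiece_eDiff hAB hI hE hi hl hBne
    · exact finrank_tPiece_eDiff hAB.symm hI hE' hi hl hAne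
  have hdisj : Disjoint (FSet A) (FSet B) := by
    rw [Finset.disjoint_left]
    intro α h1 h2
    rw [mem_FSet] at h1 h2
    obtain ⟨i, hi, l, hl, rfl⟩ := h1
    obtain ⟨i', hi', l', hl', e⟩ := h2
    have h : l ≠ i := fun e => hl (e ▸ hi)
    have h' : l' ≠ i' := fun e => hl' (e ▸ hi')
    obtain ⟨e1, -⟩ := eDiff_inj h h' e
    exact (Finset.disjoint_left.mp hAB) hi (e1 ▸ hi')
  rw [finrank_iSup_subtype hI (fun α : σ → ℤ => ∑ i, α i = 0) (FSet A ∪ FSet B)]
  · rw [Finset.sum_congr rfl hone, Finset.sum_const, smul_eq_mul, mul_one,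
      Finset.card_union_of_disjoint hdisj, card_FSet, card_FSet]
  · intro α hα
    rw [Finset.mem_union, mem_FSet, mem_FSet] at hα
    rcases hα with ⟨i, hi, l, hl, rfl⟩ | ⟨i, hi, l, hl, rfl⟩
    · exact eDiff_sum l i
    · exact eDiff_sum l i
  · intro α hs hα
    rw [eq_bot_iff]
    intro φ hφ
    rw [Submodule.mem_bot]
    have hc := compat_coefFn hI hφ
    apply tgt_ext hI
    intro β hβ
    rw [apply_monomial hI hφ β hβ, LinearMap.zero_apply]
    by_cases hcβ : coefFn hI α φ β = 0
    · rw [hcβ, zero_smul]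
    · exfalso
      have hact : β ∈ act I α := by
        by_contra h
        exact hcβ (hc.off β h)
      have h3 := hact.2.2
      rw [mem_exps_iff hAB hI hE] at h3
      have hcases : (∀ i ∈ A, shift β α i = 0) ∨ (∀ j ∈ B, shift β α j = 0) := by
        by_contra h
        push Not at h
        obtain ⟨⟨i, hi, h1⟩, ⟨j, hj, h2⟩⟩ := h
        exact h3 ⟨⟨i, hi, by omega⟩, ⟨j, hj, by omega⟩⟩
      apply hα
      rw [Finset.mem_union, mem_FSet, mem_FSet]
      rcases hcases with h | h
      · left
        exact typeA hAB hI hE hB2' hs hc hact hcβ h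
      · right
        exact typeA hAB.symm hI hE' hA2' hs hc hact hcβ h
  · intro α hα
    have : FiniteDimensional k ↥(tPiece I α) := by
      apply FiniteDimensional.of_finrank_pos
      rw [hone α hα]
      exact Nat.one_pos
    exact this

end count

end Groth.Agent.Lib.helper10.TgtMono
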