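import Mathlib
import Groth.Prelude.Def_W4c1hilbpnTgt
import Groth.Agent.Lib.Helper10.TgtIndep

set_option linter.style.haveILetI false
set_option linter.unusedSectionVars false

namespace Groth.Agent.Lib.helper10.TgtMono

open MvPolynomial W4c1hilbpn
open scoped Classical

variable {σ : Type*} {k : Type*} [Field k] [Fintype σ]

instance finite_quot_mPow (r : ℕ) : Module.Finite k (MvPolynomial σ k ⧸ mPow σ k r) := by
  let T : Finset (σ →₀ ℕ) := (Finset.range r).biUnion fun d => Finset.univ.finsuppAntidiag d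
  refine ⟨⟨T.image fun γ => Ideal.Quotient.mk (mPow σ k r) (monomial γ (1 : k)), ?_⟩⟩
  rw [eq_top_iff]
  intro q _
  obtain ⟨p, rfl⟩ := Ideal.Quotient.mk_surjective q
  rw [p.as_sum, map_sum]
  apply Submodule.sum_mem
  intro β _
  by_cases h : β ∈ exps (mPow σ k r)
  · rw [mk_monomial_eq_zero h]
    exact zero_mem _
  · have e : monomial β (coeff β p) = coeff β p • monomial β (1 : k) := by
      rw [smul_monomial, smul_eq_mul, mul_one]
    rw [e]
    have e2 : Ideal.Quotient.mk (mPow σ k r) (coeff β p • monomial β (1 : k)) =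
        coeff β p • Ideal.Quotient.mk (mPow σ k r) (monomial β (1 : k)) := rfl
    rw [e2]
    apply Submodule.smul_mem
    apply Submodule.subset_span
    rw [Finset.coe_image]
    refine ⟨β, ?_, rfl⟩
    rw [mem_exps_mPow] at h
    rw [Finset.mem_coe, Finset.mem_biUnion]
    refine ⟨∑ i, β i, Finset.mem_range.mpr (by omega), ?_⟩
    rw [Finset.mem_finsuppAntidiag]
    exact ⟨rfl, Finset.subset_univ _⟩

theorem sum_range_choose_add (K a : ℕ) :
    ∑ m ∈ Finset.range K, (m + a).choose a = (K + a).choose (a + 1) := by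
  induction K with
  | zero => simp
  | succ K ih =>
    rw [Finset.sum_range_succ, ih]
    have : K + 1 + a = (K + a) + 1 := by ring
    rw [this, Nat.choose_succ_succ, add_comm]

/-- the double hockey-stick sum. -/
theorem double_sum (R : ℕ) :
    ∑ u ∈ Finset.range R, ∑ v ∈ Finset.range (R - u),
      ((R - 1 - u - v) + 2).choose (R - 1 - u - v) = (R + 3).choose 4 := by
  have inner : ∀ u ∈ Finset.range R, ∑ v ∈ Finset.range (R - u),
      ((R - 1 - u - v) + 2).choose (R - 1 - u - v) = ((R - 1 - u) + 3).choose 3 := by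
    intro u hu
    rw [Finset.mem_range] at hu
    have e1 : ∑ v ∈ Finset.range (R - u), ((R - 1 - u - v) + 2).choose (R - 1 - u - v) =
        ∑ v ∈ Finset.range (R - u), ((R - u - 1 - v) + 2).choose 2 := by
      refine Finset.sum_congr rfl fun v _ => ?_
      have : R - 1 - u - v = R - u - 1 - v := by omega
      rw [this, Nat.choose_symm_add]
    rw [e1, Finset.sum_range_reflect (fun m => (m + 2).choose 2) (R - u), sum_range_choose_add]
    congr 1
    omega
  rw [Finset.sum_congr rfl inner]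
  have e2 : ∑ u ∈ Finset.range R, ((R - 1 - u) + 3).choose 3 =
      ∑ m ∈ Finset.range R, (m + 3).choose 3 :=
    Finset.sum_range_reflect (fun m => (m + 3).choose 3) R
  rw [e2, sum_range_choose_add]


/-! ### three variables -/

theorem fin3_cases {i j l : Fin 3} (hij : i ≠ j) (hil : i ≠ l) (hjl : j ≠ l) (x : Fin 3) :
    x = i ∨ x = j ∨ x = l := by
  fin_cases i <;> fin_cases j <;> fin_cases l <;> fin_cases x <;> simp_all

theorem sum_three {M : Type*} [AddCommMonoid M] {i j l : Fin 3} (hij : i ≠ j) (hil : i ≠ l)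
    (hjl : j ≠ l) (f : Fin 3 → M) : ∑ x, f x = f i + f j + f l := by
  have huniv : (Finset.univ : Finset (Fin 3)) = {i, j, l} := by
    ext x
    simp only [Finset.mem_univ, Finset.mem_insert, Finset.mem_singleton, true_iff]
    exact fin3_cases hij hil hjl x
  rw [huniv, Finset.sum_insert, Finset.sum_insert, Finset.sum_singleton, add_assoc]
  · simpa using hjl
  · simp only [Finset.mem_insert, Finset.mem_singleton, not_or]
    exact ⟨hij, hil⟩

/-- the index set of pairs `(u, v)` with `u + v + 1 ≤ R`. -/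
def pairSet (R : ℕ) : Finset (Σ _ : ℕ, ℕ) :=
  (Finset.range R).sigma fun u => Finset.range (R - u)

theorem mem_pairSet (R : ℕ) (p : Σ _ : ℕ, ℕ) : p ∈ pairSet R ↔ p.1 + p.2 + 1 ≤ R := by
  unfold pairSet
  rw [Finset.mem_sigma, Finset.mem_range, Finset.mem_range]
  omega

/-- one negative entry, at `i`. -/
def phi1 (i j : Fin 3) (u v : ℕ) : Fin 3 → ℤ :=
  fun x => if x = i then -((u : ℤ) + v + 1) else if x = j then u else v

/-- two negative entries, away from `i`. -/
def phi2 (i j : Fin 3) (a b : ℕ) : Fin 3 → ℤ :=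
  fun x => if x = i then (a : ℤ) + b + 1 else if x = j then -((a : ℤ) + 1) else -((b : ℤ) + 1)

section
variable {i j l : Fin 3} (hij : i ≠ j) (hil : i ≠ l) (hjl : j ≠ l)
include hij hil hjl

theorem phi1_i (u v : ℕ) : phi1 i j u v i = -((u : ℤ) + v + 1) := by
  unfold phi1; rw [if_pos rfl]
theorem phi1_j (u v : ℕ) : phi1 i j u v j = u := by
  unfold phi1; rw [if_neg hij.symm, if_pos rfl]
theorem phi1_l (u v : ℕ) : phi1 i j u v l = v := by
  unfold phi1; rw [if_neg hil.symm, if_neg hjl.symm]
theorem phi2_i (a b : ℕ) : phi2 i j a b i = (a : ℤ) + b + 1 := by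
  unfold phi2; rw [if_pos rfl]
theorem phi2_j (a b : ℕ) : phi2 i j a b j = -((a : ℤ) + 1) := by
  unfold phi2; rw [if_neg hij.symm, if_pos rfl]
theorem phi2_l (a b : ℕ) : phi2 i j a b l = -((b : ℤ) + 1) := by
  unfold phi2; rw [if_neg hil.symm, if_neg hjl.symm]

theorem phi1_sum (u v : ℕ) : ∑ x, phi1 i j u v x = -1 := by
  rw [sum_three hij hil hjl, phi1_i hij hil hjl, phi1_j hij hil hjl, phi1_l hij hil hjl]
  ring

theorem phi1_w (u v : ℕ) : ∑ x, (-(phi1 i j u v x)).toNat = u + v + 1 := by
  rw [sum_three hij hil hjl, phi1_i hij hil hjl, phi1_j hij hil hjl, phi1_l hij hil hjl]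
  omega

theorem phi2_sum (a b : ℕ) : ∑ x, phi2 i j a b x = -1 := by
  rw [sum_three hij hil hjl, phi2_i hij hil hjl, phi2_j hij hil hjl, phi2_l hij hil hjl]
  ring

theorem phi2_w (a b : ℕ) : ∑ x, (-(phi2 i j a b x)).toNat = a + b + 2 := by
  rw [sum_three hij hil hjl, phi2_i hij hil hjl, phi2_j hij hil hjl, phi2_l hij hil hjl]
  omega

theorem phi1_sign (u v : ℕ) (x : Fin 3) : phi1 i j u v x < 0 ↔ x ∈ ({i} : Set (Fin 3)) := by
  rw [Set.mem_singleton_iff]
  rcases fin3_cases hij hil hjl x with rfl | rfl | rfl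
  · rw [phi1_i hij hil hjl]
    constructor
    · intro _; rfl
    · intro _; omega
  · rw [phi1_j hij hil hjl]
    constructor
    · intro h; omega
    · intro h; exact absurd h hij.symm
  · rw [phi1_l hij hil hjl]
    constructor
    · intro h; omega
    · intro h; exact absurd h hil.symm

theorem phi2_sign (a b : ℕ) (x : Fin 3) : phi2 i j a b x < 0 ↔ x ∈ ({i}ᶜ : Set (Fin 3)) := by
  rw [Set.mem_compl_iff, Set.mem_singleton_iff]
  rcases fin3_cases hij hil hjl x with rfl | rfl | rfl
  · rw [phi2_i hij hil hjl]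
    constructor
    · intro h; omega
    · intro h; exact absurd rfl h
  · rw [phi2_j hij hil hjl]
    constructor
    · intro _; exact hij.symm
    · intro _; omega
  · rw [phi2_l hij hil hjl]
    constructor
    · intro _; exact hil.symm
    · intro _; omega

theorem phi1_injective : Function.Injective fun p : (Σ _ : ℕ, ℕ) => phi1 i j p.1 p.2 := by
  rintro ⟨u, v⟩ ⟨u', v'⟩ e
  have e1 := congrFun e j
  have e2 := congrFun e l
  simp only [phi1_j hij hil hjl, phi1_l hij hil hjl] at e1 e2
  have h1 : u = u' := by exact_mod_cast e1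
  have h2 : v = v' := by exact_mod_cast e2
  subst h1; subst h2; rfl

theorem phi2_injective : Function.Injective fun p : (Σ _ : ℕ, ℕ) => phi2 i j p.1 p.2 := by
  rintro ⟨u, v⟩ ⟨u', v'⟩ e
  have e1 := congrFun e j
  have e2 := congrFun e l
  simp only [phi2_j hij hil hjl, phi2_l hij hil hjl] at e1 e2
  have h1 : u = u' := by omega
  have h2 : v = v' := by omega
  subst h1; subst h2; rfl

theorem eq_phi1 {α : Fin 3 → ℤ} (hsign : ∀ x, α x < 0 ↔ x ∈ ({i} : Set (Fin 3)))
    (hsum : ∑ x, α x = -1) : α = phi1 i j (α j).toNat (α l).toNat := by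
  have hj : 0 ≤ α j := by
    by_contra h
    exact hij.symm ((hsign j).mp (by omega))
  have hl : 0 ≤ α l := by
    by_contra h
    exact hil.symm ((hsign l).mp (by omega))
  rw [sum_three hij hil hjl] at hsum
  funext x
  rcases fin3_cases hij hil hjl x with rfl | rfl | rfl
  · rw [phi1_i hij hil hjl]; omega
  · rw [phi1_j hij hil hjl]; omega
  · rw [phi1_l hij hil hjl]; omega

theorem eq_phi2 {α : Fin 3 → ℤ} (hsign : ∀ x, α x < 0 ↔ x ∈ ({i}ᶜ : Set (Fin 3)))
    (hsum : ∑ x, α x = -1) : α = phi2 i j (-(α j) - 1).toNat (-(α l) - 1).toNat := by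
  have hj : α j < 0 := (hsign j).mpr hij.symm
  have hl : α l < 0 := (hsign l).mpr hil.symm
  rw [sum_three hij hil hjl] at hsum
  funext x
  rcases fin3_cases hij hil hjl x with rfl | rfl | rfl
  · rw [phi2_i hij hil hjl]; omega
  · rw [phi2_j hij hil hjl]; omega
  · rw [phi2_l hij hil hjl]; omega

end


theorem tPiece_mPow_eq_bot {σ : Type*} [Fintype σ] [Nontrivial σ] (r : ℕ) (α : σ → ℤ)
    (h : ¬ (∑ i, α i = -1 ∧ ∑ i, (-α i).toNat ≤ r)) : tPiece (mPow σ k r) α = ⊥ := by
  haveI := finite_tPiece (isMonomial_mPow (σ := σ) (k := k) r) α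
  rw [← Submodule.finrank_eq_zero, finrank_tPiece_mPow, if_neg h]

section
variable {i j l : Fin 3} (hij : i ≠ j) (hil : i ≠ l) (hjl : j ≠ l)
include hij hil hjl

theorem finrank_sigPiece_mPow_single (r : ℕ) :
    Module.finrank k ↥(sigPiece (mPow (Fin 3) k r) ({i} : Set (Fin 3))) = (r + 3).choose 4 := by
  have hmono := isMonomial_mPow (σ := Fin 3) (k := k) r
  unfold sigPiece
  rw [finrank_iSup_subtype hmono (fun α => ∀ x, α x < 0 ↔ x ∈ ({i} : Set (Fin 3)))
    ((pairSet r).image fun p => phi1 i j p.1 p.2)]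
  · rw [Finset.sum_image (fun p _ q _ e => phi1_injective hij hil hjl e)]
    unfold pairSet
    rw [Finset.sum_sigma, ← double_sum r]
    refine Finset.sum_congr rfl fun u hu => Finset.sum_congr rfl fun v hv => ?_
    rw [Finset.mem_range] at hu hv
    dsimp only
    rw [finrank_tPiece_mPow, if_pos ⟨phi1_sum hij hil hjl u v, by
      rw [phi1_w hij hil hjl]; omega⟩, phi1_w hij hil hjl, Fintype.card_fin]
    have e : r - (u + v + 1) = r - 1 - u - v := by omega
    rw [e]
    congr 1
    omega
  · intro α hα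
    rw [Finset.mem_image] at hα
    obtain ⟨p, _, rfl⟩ := hα
    exact phi1_sign hij hil hjl p.1 p.2
  · intro α hsign hα
    apply tPiece_mPow_eq_bot
    rintro ⟨h1, h2⟩
    apply hα
    rw [Finset.mem_image]
    have e := eq_phi1 hij hil hjl hsign h1
    refine ⟨⟨(α j).toNat, (α l).toNat⟩, ?_, e.symm⟩
    rw [mem_pairSet]
    rw [e, phi1_w hij hil hjl] at h2
    exact h2
  · intro α _
    exact finite_tPiece hmono α

theorem finrank_sigPiece_mPow_compl (r : ℕ) :
    Module.finrank k ↥(sigPiece (mPow (Fin 3) k r) ({i}ᶜ : Set (Fin 3))) = (r + 2).choose 4 := by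
  have hmono := isMonomial_mPow (σ := Fin 3) (k := k) r
  unfold sigPiece
  rw [finrank_iSup_subtype hmono (fun α => ∀ x, α x < 0 ↔ x ∈ ({i}ᶜ : Set (Fin 3)))
    ((pairSet (r - 1)).image fun p => phi2 i j p.1 p.2)]
  · rw [Finset.sum_image (fun p _ q _ e => phi2_injective hij hil hjl e)]
    unfold pairSet
    rw [Finset.sum_sigma]
    have hR : (r + 2).choose 4 = (r - 1 + 3).choose 4 := by
      rcases Nat.eq_zero_or_pos r with h | h
      · subst h; rfl
      · congr 1; omega
    rw [hR, ← double_sum (r - 1)]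
    refine Finset.sum_congr rfl fun u hu => Finset.sum_congr rfl fun v hv => ?_
    rw [Finset.mem_range] at hu hv
    dsimp only
    rw [finrank_tPiece_mPow, if_pos ⟨phi2_sum hij hil hjl u v, by
      rw [phi2_w hij hil hjl]; omega⟩, phi2_w hij hil hjl, Fintype.card_fin]
    have e : r - (u + v + 2) = r - 1 - 1 - u - v := by omega
    rw [e]
    congr 1
    omega
  · intro α hα
    rw [Finset.mem_image] at hα
    obtain ⟨p, _, rfl⟩ := hα
    exact phi2_sign hij hil hjl p.1 p.2
  · intro α hsign hα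
    apply tPiece_mPow_eq_bot
    rintro ⟨h1, h2⟩
    apply hα
    rw [Finset.mem_image]
    have e := eq_phi2 hij hil hjl hsign h1
    refine ⟨⟨(-(α j) - 1).toNat, (-(α l) - 1).toNat⟩, ?_, e.symm⟩
    rw [mem_pairSet]
    rw [e, phi2_w hij hil hjl] at h2
    change (-(α j) - 1).toNat + (-(α l) - 1).toNat + 1 ≤ r - 1
    omega
  · intro α _
    exact finite_tPiece hmono α

end


/-! ### the total dimension -/

section total
variable {σ : Type*} [Fintype σ] [Nontrivial σ]

theorem finrank_tPiece_mPow_eq_card (r : ℕ) {α : σ → ℤ} (hs : ∑ i, α i = -1) :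
    Module.finrank k ↥(tPiece (mPow σ k r) α) = Nat.card ↥(act (mPow σ k r) α) := by
  rw [finrank_tPiece_mPow, card_act_mPow hs]
  simp only [hs, true_and]

/-- pairs (generator, standard monomial of degree `r - 1`). -/
noncomputable def pairFin (σ : Type*) [Fintype σ] (r : ℕ) : Finset ((σ →₀ ℕ) × (σ →₀ ℕ)) :=
  (Finset.univ.finsuppAntidiag r) ×ˢ (Finset.univ.finsuppAntidiag (r - 1))

theorem mem_pairFin (r : ℕ) (p : (σ →₀ ℕ) × (σ →₀ ℕ)) :
    p ∈ pairFin σ r ↔ ∑ i, p.1 i = r ∧ ∑ i, p.2 i = r - 1 := by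
  unfold pairFin
  rw [Finset.mem_product, Finset.mem_finsuppAntidiag, Finset.mem_finsuppAntidiag]
  simp only [Finset.subset_univ, and_true]

theorem sum_degOf (β γ : σ →₀ ℕ) : ∑ i, degOf β γ i = (∑ i, (γ i : ℤ)) - ∑ i, (β i : ℤ) := by
  unfold degOf
  rw [Finset.sum_sub_distrib]

/-- the fibre of the degree map over `α` is the set of active exponents. -/
noncomputable def fibreEquiv (r : ℕ) (hr : 1 ≤ r) {α : σ → ℤ} (hs : ∑ i, α i = -1) :
    ↥(act (mPow σ k r) α) ≃ ↥((pairFin σ r).filter fun p => degOf p.1 p.2 = α) where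
  toFun β := ⟨(β.1, shift β.1 α), by
    have h := (mem_act_mPow r α β.1).mp β.2
    have hsum : ∑ i, β.1 i = r := ((mem_act_mPow_of_sum hs β.1).mp β.2).1
    rw [Finset.mem_filter, mem_pairFin]
    refine ⟨⟨hsum, ?_⟩, degOf_shift h.2.1⟩
    have e := sum_shift h.2.1
    rw [hs] at e
    have e2 : ∑ i, (β.1 i : ℤ) = r := by exact_mod_cast hsum
    rw [e2] at e
    change ∑ i, shift β.1 α i = r - 1
    omega⟩
  invFun p := ⟨p.1.1, by
    obtain ⟨⟨β, γ⟩, hp⟩ := p
    rw [Finset.mem_filter, mem_pairFin] at hp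
    obtain ⟨⟨h1, h2⟩, h3⟩ := hp
    change β ∈ act (mPow σ k r) α
    rw [mem_act_mPow, hs]
    refine ⟨h1.ge, fun i => ?_, ?_⟩
    · rw [← h3]
      unfold degOf
      have : (0 : ℤ) ≤ γ i := by positivity
      linarith
    · have : ∑ i, (β i : ℤ) = r := by exact_mod_cast h1
      omega⟩
  left_inv β := rfl
  right_inv p := by
    obtain ⟨⟨β, γ⟩, hp⟩ := p
    apply Subtype.ext
    rw [Finset.mem_filter] at hp
    change (β, shift β α) = (β, γ)
    rw [← hp.2, shift_degOf]

theorem mem_image_degOf (k : Type*) [Field k] (r : ℕ) (hr : 1 ≤ r) {α : σ → ℤ}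
    (hs : ∑ i, α i = -1)
    (hw : ∑ i, (-α i).toNat ≤ r) : α ∈ (pairFin σ r).image fun p => degOf p.1 p.2 := by
  have hpos : 0 < Nat.card ↥(act (mPow σ k r) α) := by
    rw [card_act_mPow hs, if_pos hw]
    apply Nat.choose_pos
    have : 0 < Fintype.card σ := Fintype.card_pos
    omega
  haveI : Nonempty ↥(act (mPow σ k r) α) := (Nat.card_pos_iff.mp hpos).1
  obtain ⟨β⟩ := this
  have := (fibreEquiv (k := k) r hr hs β).2
  rw [Finset.mem_filter] at this
  rw [Finset.mem_image]
  exact ⟨_, this.1, this.2⟩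

theorem finrank_tgt_mPow (r : ℕ) :
    Module.finrank k (Tgt (mPow σ k r)) =
      (Fintype.card σ + r - 1).choose r * (Fintype.card σ + (r - 1) - 1).choose (r - 1) *
        (if r = 0 then 0 else 1) := by
  have hmono := isMonomial_mPow (σ := σ) (k := k) r
  rcases Nat.eq_zero_or_pos r with hr | hr
  · subst hr
    rw [if_pos rfl, mul_zero]
    haveI : Subsingleton (MvPolynomial σ k ⧸ mPow σ k 0) := by
      apply Ideal.Quotient.subsingleton_iff.mpr
      change (Ideal.span (Set.range (MvPolynomial.X : σ → MvPolynomial σ k))) ^ 0 = ⊤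
      rw [pow_zero, Ideal.one_eq_top]
    haveI : Subsingleton (Tgt (mPow σ k 0)) :=
      ⟨fun f g => LinearMap.ext fun x => Subsingleton.elim _ _⟩
    exact Module.finrank_zero_of_subsingleton
  · rw [if_neg (by omega), mul_one]
    have h1 : Module.finrank k (Tgt (mPow σ k r)) =
        Module.finrank k ↥(⨆ α : {α : σ → ℤ // True}, tPiece (mPow σ k r) α.1) := by
      have : (⨆ α : {α : σ → ℤ // True}, tPiece (mPow σ k r) α.1) = ⊤ := by
        rw [eq_top_iff, ← iSup_tPiece_eq_top hmono]
        apply iSup_le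
        intro α
        exact le_iSup (fun α : {α : σ → ℤ // True} => tPiece (mPow σ k r) α.1) ⟨α, trivial⟩
      rw [this, finrank_top]
    rw [h1, finrank_iSup_subtype hmono (fun _ => True)
      ((pairFin σ r).image fun p => degOf p.1 p.2) (fun _ _ => trivial)]
    · have h2 : ∀ α ∈ (pairFin σ r).image fun p => degOf p.1 p.2,
          Module.finrank k ↥(tPiece (mPow σ k r) α) =
            ((pairFin σ r).filter fun p => degOf p.1 p.2 = α).card := by
        intro α hα
        rw [Finset.mem_image] at hα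
        obtain ⟨⟨β, γ⟩, hp, rfl⟩ := hα
        rw [mem_pairFin] at hp
        have hs : ∑ i, degOf β γ i = -1 := by
          rw [sum_degOf]
          have e1 : ∑ i, (β i : ℤ) = r := by exact_mod_cast hp.1
          have e2 : ∑ i, (γ i : ℤ) = ((r - 1 : ℕ) : ℤ) := by exact_mod_cast hp.2
          rw [e1, e2]
          omega
        rw [finrank_tPiece_mPow_eq_card r hs, Nat.card_congr (fibreEquiv r hr hs),
          Nat.card_eq_finsetCard]
      rw [Finset.sum_congr rfl h2, ← Finset.card_eq_sum_card_image]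
      unfold pairFin
      rw [Finset.card_product, Finset.card_finsuppAntidiag_nat_eq_choose,
        Finset.card_finsuppAntidiag_nat_eq_choose, Finset.card_univ]
    · intro α _ hα
      apply tPiece_mPow_eq_bot
      rintro ⟨hs, hw⟩
      exact hα (mem_image_degOf k r hr hs hw)
    · intro α _
      exact finite_tPiece hmono α

end total

end Groth.Agent.Lib.helper10.TgtMono
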