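import Mathlib

/-!
# Homology of short complexes of modules commutes with filtered colimits; `Tor` in the first
variable commutes with filtered colimits (helper10)
-/

set_option autoImplicit false
set_option linter.style.haveILetI false
universe u

namespace Groth.Agent.Lib.helper10.TorColim

open CategoryTheory CategoryTheory.Limits

variable {A : Type u} [CommRing A]

section elements

variable (S : ShortComplex (ModuleCat.{u} A))

theorem surjective_homologyπ : Function.Surjective S.homologyπ :=
  (ModuleCat.epi_iff_surjective _).mp inferInstance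

theorem injective_iCycles : Function.Injective S.iCycles :=
  (ModuleCat.mono_iff_injective _).mp inferInstance

theorem exists_cycles (x : S.X₂) (hx : S.g x = 0) : ∃ z : S.cycles, S.iCycles z = x := by
  have h : (ShortComplex.mk S.iCycles S.g S.iCycles_g).Exact :=
    ShortComplex.exact_of_f_is_kernel _ S.cyclesIsKernel
  rw [ShortComplex.moduleCat_exact_iff] at h
  exact h x hx

theorem exists_toCycles (z : S.cycles) (hz : S.homologyπ z = 0) : ∃ y : S.X₁, S.toCycles y = z := by
  have h : (ShortComplex.mk S.toCycles S.homologyπ S.toCycles_comp_homologyπ).Exact :=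
    ShortComplex.exact_of_g_is_cokernel _ S.homologyIsCokernel
  rw [ShortComplex.moduleCat_exact_iff] at h
  exact h z hz

end elements


section homology

variable {J : Type u} [SmallCategory J] [IsFiltered J]

theorem jointly_surjective_of_isColimit {D : J ⥤ ModuleCat.{u} A} {t : Cocone D} (ht : IsColimit t)
    (x : t.pt) : ∃ (j : J) (y : D.obj j), t.ι.app j y = x := by
  have h := isColimitOfPreserves (forget (ModuleCat.{u} A)) ht
  obtain ⟨j, y, hy⟩ := Types.jointly_surjective_of_isColimit h x
  exact ⟨j, y, hy⟩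

theorem eq_zero_of_isColimit {D : J ⥤ ModuleCat.{u} A} {t : Cocone D} (ht : IsColimit t)
    {j : J} (y : D.obj j) (hy : t.ι.app j y = 0) : ∃ (k : J) (f : j ⟶ k), D.map f y = 0 := by
  have h := isColimitOfPreserves (forget (ModuleCat.{u} A)) ht
  have h2 := (Types.FilteredColimit.isColimit_eq_iff' h y (0 : D.obj j)).mp (by
    change t.ι.app j y = t.ι.app j 0
    rw [hy, map_zero])
  obtain ⟨k, f, hf⟩ := h2
  refine ⟨k, f, ?_⟩
  change D.map f y = D.map f 0 at hf
  rw [hf, map_zero]


/-- Homology of short complexes of modules commutes with filtered colimits. -/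
noncomputable def isColimitHomology (F : J ⥤ ShortComplex (ModuleCat.{u} A)) (c : Cocone F)
    (h₁ : IsColimit (ShortComplex.π₁.mapCocone c)) (h₂ : IsColimit (ShortComplex.π₂.mapCocone c))
    (h₃ : IsColimit (ShortComplex.π₃.mapCocone c)) :
    IsColimit ((ShortComplex.homologyFunctor (ModuleCat.{u} A)).mapCocone c) := by
  apply isColimitOfReflects (forget (ModuleCat.{u} A))
  have key : ∀ (i : J) (d : (F.obj i).homology),
      ShortComplex.homologyMap (c.ι.app i) d = 0 →
      ∃ (k : J) (f : i ⟶ k), ShortComplex.homologyMap (F.map f) d = 0 := by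
    intro i d hd
    obtain ⟨z, rfl⟩ := surjective_homologyπ _ d
    have e1 : c.pt.homologyπ (ShortComplex.cyclesMap (c.ι.app i) z) = 0 := by
      rw [← hd]
      exact (ConcreteCategory.congr_hom (ShortComplex.homologyπ_naturality (c.ι.app i)) z).symm
    obtain ⟨y, hy⟩ := exists_toCycles _ _ e1
    obtain ⟨j, yj, hyj⟩ := jointly_surjective_of_isColimit h₁ y
    change (c.ι.app j).τ₁ yj = y at hyj
    let k := IsFiltered.max i j
    let a : i ⟶ k := IsFiltered.leftToMax i j
    let b : j ⟶ k := IsFiltered.rightToMax i j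
    let u : (F.obj k).X₂ := (F.map a).τ₂ ((F.obj i).iCycles z)
    let v : (F.obj k).X₂ := (F.obj k).f ((F.map b).τ₁ yj)
    have huv : (c.ι.app k).τ₂ (u - v) = 0 := by
      rw [map_sub, sub_eq_zero]
      have hu : (c.ι.app k).τ₂ u = c.pt.f y := by
        have h1 : (c.ι.app k).τ₂ u = (c.ι.app i).τ₂ ((F.obj i).iCycles z) := by
          have := c.w a
          rw [← this]
          rfl
        rw [h1]
        have h2 : (c.ι.app i).τ₂ ((F.obj i).iCycles z) =
            c.pt.iCycles (ShortComplex.cyclesMap (c.ι.app i) z) :=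
          (ConcreteCategory.congr_hom (ShortComplex.cyclesMap_i (c.ι.app i)) z).symm
        rw [h2, ← hy]
        exact ConcreteCategory.congr_hom c.pt.toCycles_i y
      have hv : (c.ι.app k).τ₂ v = c.pt.f y := by
        have h1 : (c.ι.app k).τ₂ v = c.pt.f ((c.ι.app k).τ₁ ((F.map b).τ₁ yj)) :=
          (ConcreteCategory.congr_hom (c.ι.app k).comm₁₂ ((F.map b).τ₁ yj)).symm
        rw [h1]
        have h2 : (c.ι.app k).τ₁ ((F.map b).τ₁ yj) = (c.ι.app j).τ₁ yj := by
          have := c.w b
          rw [← this]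
          rfl
        rw [h2, hyj]
      rw [hu, hv]
    obtain ⟨l, e, he⟩ := eq_zero_of_isColimit h₂ (u - v) huv
    change (F.map e).τ₂ (u - v) = 0 at he
    rw [map_sub, sub_eq_zero] at he
    refine ⟨l, a ≫ e, ?_⟩
    have e2 : ShortComplex.homologyMap (F.map (a ≫ e)) ((F.obj i).homologyπ z) =
        (F.obj l).homologyπ (ShortComplex.cyclesMap (F.map (a ≫ e)) z) :=
      ConcreteCategory.congr_hom (ShortComplex.homologyπ_naturality (F.map (a ≫ e))) z
    rw [e2]
    have e3 : ShortComplex.cyclesMap (F.map (a ≫ e)) z =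
        (F.obj l).toCycles ((F.map e).τ₁ ((F.map b).τ₁ yj)) := by
      apply injective_iCycles
      have h1 : (F.obj l).iCycles (ShortComplex.cyclesMap (F.map (a ≫ e)) z) =
          (F.map (a ≫ e)).τ₂ ((F.obj i).iCycles z) :=
        ConcreteCategory.congr_hom (ShortComplex.cyclesMap_i (F.map (a ≫ e))) z
      have h2 : (F.obj l).iCycles ((F.obj l).toCycles ((F.map e).τ₁ ((F.map b).τ₁ yj))) =
          (F.obj l).f ((F.map e).τ₁ ((F.map b).τ₁ yj)) :=
        ConcreteCategory.congr_hom (F.obj l).toCycles_i _
      rw [h1, h2]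
      have h3 : (F.map (a ≫ e)).τ₂ ((F.obj i).iCycles z) = (F.map e).τ₂ u := by
        rw [F.map_comp]
        rfl
      have h4 : (F.obj l).f ((F.map e).τ₁ ((F.map b).τ₁ yj)) = (F.map e).τ₂ v :=
        ConcreteCategory.congr_hom (F.map e).comm₁₂ ((F.map b).τ₁ yj)
      rw [h3, h4, he]
    rw [e3]
    exact ConcreteCategory.congr_hom (F.obj l).toCycles_comp_homologyπ _
  refine Types.FilteredColimit.isColimitOf' _ _ ?_ ?_
  · intro h
    change c.pt.homology at h
    obtain ⟨z, rfl⟩ := surjective_homologyπ _ h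
    obtain ⟨j, xj, hxj⟩ := jointly_surjective_of_isColimit h₂ (c.pt.iCycles z)
    change (c.ι.app j).τ₂ xj = c.pt.iCycles z at hxj
    have hg : (c.ι.app j).τ₃ ((F.obj j).g xj) = 0 := by
      have h1 : (c.ι.app j).τ₃ ((F.obj j).g xj) = c.pt.g ((c.ι.app j).τ₂ xj) :=
        (ConcreteCategory.congr_hom (c.ι.app j).comm₂₃ xj).symm
      rw [h1, hxj]
      exact ConcreteCategory.congr_hom c.pt.iCycles_g z
    obtain ⟨k, f, hf⟩ := eq_zero_of_isColimit h₃ ((F.obj j).g xj) hg
    change (F.map f).τ₃ ((F.obj j).g xj) = 0 at hf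
    have hk : (F.obj k).g ((F.map f).τ₂ xj) = 0 := by
      rw [← hf]
      exact ConcreteCategory.congr_hom (F.map f).comm₂₃ xj
    obtain ⟨zk, hzk⟩ := exists_cycles _ _ hk
    refine ⟨k, (F.obj k).homologyπ zk, ?_⟩
    change c.pt.homologyπ z = ShortComplex.homologyMap (c.ι.app k) ((F.obj k).homologyπ zk)
    have e2 : ShortComplex.homologyMap (c.ι.app k) ((F.obj k).homologyπ zk) =
        c.pt.homologyπ (ShortComplex.cyclesMap (c.ι.app k) zk) :=
      ConcreteCategory.congr_hom (ShortComplex.homologyπ_naturality (c.ι.app k)) zk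
    rw [e2]
    congr 1
    apply injective_iCycles
    have h1 : c.pt.iCycles (ShortComplex.cyclesMap (c.ι.app k) zk) =
        (c.ι.app k).τ₂ ((F.obj k).iCycles zk) :=
      ConcreteCategory.congr_hom (ShortComplex.cyclesMap_i (c.ι.app k)) zk
    rw [h1, hzk, ← hxj]
    have := c.w f
    rw [← this]
    rfl
  · intro i x y hxy
    change (F.obj i).homology at x y
    change ShortComplex.homologyMap (c.ι.app i) x = ShortComplex.homologyMap (c.ι.app i) y at hxy
    obtain ⟨k, f, hf⟩ := key i (x - y) (by rw [map_sub, hxy, sub_self])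
    refine ⟨k, f, ?_⟩
    change ShortComplex.homologyMap (F.map f) x = ShortComplex.homologyMap (F.map f) y
    rw [map_sub, sub_eq_zero] at hf
    exact hf


/-- A functor to short complexes of modules whose three components preserve `J`-colimits
(`J` filtered) has homology preserving `J`-colimits. -/
theorem preservesColimitsOfShape_shortComplex_homology {D : Type*} [Category D]
    (Φ : D ⥤ ShortComplex (ModuleCat.{u} A))
    [PreservesColimitsOfShape J (Φ ⋙ ShortComplex.π₁)]
    [PreservesColimitsOfShape J (Φ ⋙ ShortComplex.π₂)]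
    [PreservesColimitsOfShape J (Φ ⋙ ShortComplex.π₃)] :
    PreservesColimitsOfShape J (Φ ⋙ ShortComplex.homologyFunctor (ModuleCat.{u} A)) :=
  ⟨fun {K} => ⟨fun {c} hc => ⟨isColimitHomology (K ⋙ Φ) (Φ.mapCocone c)
    (isColimitOfPreserves (Φ ⋙ ShortComplex.π₁) hc)
    (isColimitOfPreserves (Φ ⋙ ShortComplex.π₂) hc)
    (isColimitOfPreserves (Φ ⋙ ShortComplex.π₃) hc)⟩⟩⟩

/-- A functor to complexes of modules whose components preserve `J`-colimits
(`J` filtered) has homology preserving `J`-colimits. -/
theorem preservesColimitsOfShape_homology {D : Type*} [Category D] {ι : Type*} (c : ComplexShape ι)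
    (Ψ : D ⥤ HomologicalComplex (ModuleCat.{u} A) c)
    [∀ i, PreservesColimitsOfShape J (Ψ ⋙ HomologicalComplex.eval _ c i)] (i : ι) :
    PreservesColimitsOfShape J (Ψ ⋙ HomologicalComplex.homologyFunctor (ModuleCat.{u} A) c i) := by
  let Φ := Ψ ⋙ HomologicalComplex.shortComplexFunctor (ModuleCat.{u} A) c i
  haveI : PreservesColimitsOfShape J (Φ ⋙ ShortComplex.π₁) :=
    inferInstanceAs (PreservesColimitsOfShape J (Ψ ⋙ HomologicalComplex.eval _ c (c.prev i)))
  haveI : PreservesColimitsOfShape J (Φ ⋙ ShortComplex.π₂) :=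
    inferInstanceAs (PreservesColimitsOfShape J (Ψ ⋙ HomologicalComplex.eval _ c i))
  haveI : PreservesColimitsOfShape J (Φ ⋙ ShortComplex.π₃) :=
    inferInstanceAs (PreservesColimitsOfShape J (Ψ ⋙ HomologicalComplex.eval _ c (c.next i)))
  have h2 : PreservesColimitsOfShape J (Ψ ⋙ HomologicalComplex.shortComplexFunctor _ c i ⋙
      ShortComplex.homologyFunctor (ModuleCat.{u} A)) :=
    preservesColimitsOfShape_shortComplex_homology (J := J) Φ
  exact preservesColimitsOfShape_of_natIso
    (Functor.isoWhiskerLeft Ψ (HomologicalComplex.homologyFunctorIso (ModuleCat.{u} A) c i).symm)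

end homology


section tor

open MonoidalCategory

/-- `M ↦ M ⊗ P•` -/
noncomputable def tcx (P : ChainComplex (ModuleCat.{u} A) ℕ) :
    ModuleCat.{u} A ⥤ ChainComplex (ModuleCat.{u} A) ℕ where
  obj M := (((tensoringLeft (ModuleCat.{u} A)).obj M).mapHomologicalComplex _).obj P
  map f := (NatTrans.mapHomologicalComplex ((tensoringLeft (ModuleCat.{u} A)).map f) _).app P
  map_id M := by
    rw [CategoryTheory.Functor.map_id, NatTrans.mapHomologicalComplex_id]
    rfl
  map_comp f g := by
    rw [CategoryTheory.Functor.map_comp, NatTrans.mapHomologicalComplex_comp]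
    rfl

/-- `Tor_p(-, N)` is computed by `M ↦ H_p(M ⊗ P•)` for a projective resolution `P•` of `N`. -/
noncomputable def torFlipIso {N : ModuleCat.{u} A} (P : ProjectiveResolution N) (p : ℕ) :
    (Tor (ModuleCat.{u} A) p).flip.obj N ≅
      tcx P.complex ⋙ HomologicalComplex.homologyFunctor (ModuleCat.{u} A) _ p :=
  NatIso.ofComponents (fun M => P.isoLeftDerivedObj ((tensoringLeft (ModuleCat.{u} A)).obj M) p) (by
    intro M M' f
    dsimp [tcx, Tor]
    rw [ProjectiveResolution.leftDerived_app_eq _ P]
    simp)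

instance (X : ModuleCat.{u} A) : PreservesColimits (tensorRight X) :=
  preservesColimits_of_natIso (BraidedCategory.tensorLeftIsoTensorRight X)

instance (P : ChainComplex (ModuleCat.{u} A) ℕ) (i : ℕ) :
    PreservesColimits (tcx P ⋙ HomologicalComplex.eval _ _ i) :=
  preservesColimits_of_natIso (F := tensorRight (P.X i))
    (NatIso.ofComponents (fun M => Iso.refl _) (by
      intro M M' f
      have h : (tcx P ⋙ HomologicalComplex.eval _ _ i).map f = (tensorRight (P.X i)).map f := rfl
      rw [h]
      exact (Category.comp_id _).trans (Category.id_comp _).symm))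

/-- `Tor_p(-, N)` commutes with filtered colimits. -/
theorem preservesColimitsOfShape_tor_flip (p : ℕ) (N : ModuleCat.{u} A)
    (J : Type u) [SmallCategory J] [IsFiltered J] :
    PreservesColimitsOfShape J ((Tor (ModuleCat.{u} A) p).flip.obj N) := by
  obtain ⟨P⟩ : Nonempty (ProjectiveResolution N) := (inferInstance : HasProjectiveResolution N).out
  have h1 : ∀ i, PreservesColimitsOfShape J (tcx P.complex ⋙ HomologicalComplex.eval _ _ i) :=
    fun i => inferInstance
  have h2 := preservesColimitsOfShape_homology (J := J) (ComplexShape.down ℕ) (tcx P.complex) p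
  exact preservesColimitsOfShape_of_natIso (torFlipIso P p).symm

end tor

end Groth.Agent.Lib.helper10.TorColim
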