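import Mathlib

/-!
Truncated Dieudonné modules: `ker F = im V` modulo `p` (helper10, S16220).
-/

set_option autoImplicit false
set_option linter.unusedSectionVars false
set_option linter.unusedVariables false

universe u v

namespace Groth.Agent.Lib.helper10

namespace TruncDieu

section Abstract

variable {W : Type u} [CommRing W] (p : ℕ) (hp : ∀ w : W, (p : W) * w = 0 → w = 0)
  (n : ℕ) (hn : 2 ≤ n)

include hp hn in
theorem quot_torsion (a : W ⧸ Ideal.span {(p : W) ^ n})
    (ha : (p : W ⧸ Ideal.span {(p : W) ^ n}) * a = 0) :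
    ∃ c : W ⧸ Ideal.span {(p : W) ^ n}, a = (p : W ⧸ Ideal.span {(p : W) ^ n}) * c := by
  obtain ⟨w, rfl⟩ := Ideal.Quotient.mk_surjective a
  have h1 : (p : W) * w ∈ Ideal.span {(p : W) ^ n} := by
    rw [← Ideal.Quotient.eq_zero_iff_mem, map_mul, map_natCast]
    exact ha
  obtain ⟨u, hu⟩ := Ideal.mem_span_singleton.mp h1
  obtain ⟨m, rfl⟩ : ∃ m, n = m + 2 := ⟨n - 2, by omega⟩
  have h2 : w = (p : W) ^ (m + 1) * u := by
    have : (p : W) * (w - (p : W) ^ (m + 1) * u) = 0 := by
      rw [mul_sub, hu]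
      ring
    exact sub_eq_zero.mp (hp _ this)
  refine ⟨Ideal.Quotient.mk _ ((p : W) ^ m * u), ?_⟩
  rw [h2, ← map_natCast (Ideal.Quotient.mk (Ideal.span {(p : W) ^ (m + 2)})) p, ← map_mul]
  congr 1
  ring

variable {M : Type v} [AddCommGroup M] [Module W M]
  [Module (W ⧸ Ideal.span {(p : W) ^ n}) M] [IsScalarTower W (W ⧸ Ideal.span {(p : W) ^ n}) M]
  [Module.Projective (W ⧸ Ideal.span {(p : W) ^ n}) M]

include hp hn in
theorem torsion_mem (x : M) (hx : (p : W) • x = 0) :
    x ∈ Ideal.span {(p : W)} • (⊤ : Submodule W M) := by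
  obtain ⟨s, hs⟩ := (Module.projective_def' (R := W ⧸ Ideal.span {(p : W) ^ n}) (P := M)).mp inferInstance
  have hx' : (p : W ⧸ Ideal.span {(p : W) ^ n}) • x = 0 := by
    rw [← hx, ← map_natCast (algebraMap W (W ⧸ Ideal.span {(p : W) ^ n})) p, algebraMap_smul]
  have hsx : (p : W ⧸ Ideal.span {(p : W) ^ n}) • s x = 0 := by
    rw [← map_smul, hx', map_zero]
  have hx2 : x = Finsupp.linearCombination (W ⧸ Ideal.span {(p : W) ^ n}) id (s x) := by
    have := DFunLike.congr_fun hs x
    exact this.symm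
  rw [hx2, Finsupp.linearCombination_apply, Finsupp.sum]
  apply Submodule.sum_mem
  intro m _
  have h1 : (p : W ⧸ Ideal.span {(p : W) ^ n}) * (s x m) = 0 := by
    have := DFunLike.congr_fun hsx m
    rwa [Finsupp.smul_apply, smul_eq_mul] at this
  obtain ⟨c, hc⟩ := quot_torsion p hp n hn _ h1
  obtain ⟨w, rfl⟩ := Ideal.Quotient.mk_surjective c
  rw [hc, id, mul_smul]
  have e1 : (Ideal.Quotient.mk (Ideal.span {(p : W) ^ n}) w) • m = w • m := by
    rw [← Ideal.Quotient.algebraMap_eq, algebraMap_smul]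
  have e2 : (p : W ⧸ Ideal.span {(p : W) ^ n}) • (w • m) = (p : W) • (w • m) := by
    rw [← map_natCast (algebraMap W (W ⧸ Ideal.span {(p : W) ^ n})) p, algebraMap_smul]
  rw [e1, e2]
  exact Submodule.smul_mem_smul (Ideal.mem_span_singleton_self _) Submodule.mem_top

theorem mem_pM_iff (x : M) :
    x ∈ Ideal.span {(p : W)} • (⊤ : Submodule W M) ↔ ∃ y : M, x = (p : W) • y := by
  rw [Submodule.ideal_span_singleton_smul]
  constructor
  · intro h
    obtain ⟨y, _, rfl⟩ := (Submodule.mem_smul_pointwise_iff_exists _ _ _).mp h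
    exact ⟨y, rfl⟩
  · rintro ⟨y, rfl⟩
    exact Submodule.smul_mem_pointwise_smul _ _ _ Submodule.mem_top

include hp hn in
theorem half {σ τ : W →+* W} (F : M →ₛₗ[σ] M) (V : M →ₛₗ[τ] M)
    (hFV : ∀ m : M, F (V m) = (p : W) • m) (hVF : ∀ m : M, V (F m) = (p : W) • m) :
    (Ideal.span {(p : W)} • (⊤ : Submodule W M)).comap F =
      Submodule.span W (Set.range V) ⊔ Ideal.span {(p : W)} • (⊤ : Submodule W M) := by
  apply le_antisymm
  · intro x hx
    rw [Submodule.mem_comap, mem_pM_iff] at hx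
    obtain ⟨y, hy⟩ := hx
    have h0 : F (x - V y) = 0 := by rw [map_sub, hFV, hy, sub_self]
    have h1 : (p : W) • (x - V y) = 0 := by rw [← hVF, h0, map_zero]
    have h2 := torsion_mem p hp n hn (x - V y) h1
    have : x = V y + (x - V y) := by abel
    rw [this]
    exact Submodule.add_mem _ (Submodule.mem_sup_left (Submodule.subset_span ⟨y, rfl⟩))
      (Submodule.mem_sup_right h2)
  · apply sup_le
    · rw [Submodule.span_le]
      rintro _ ⟨m, rfl⟩
      rw [SetLike.mem_coe, Submodule.mem_comap, hFV, mem_pM_iff]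
      exact ⟨m, rfl⟩
    · intro x hx
      rw [mem_pM_iff] at hx
      obtain ⟨y, rfl⟩ := hx
      rw [Submodule.mem_comap, LinearMap.map_smulₛₗ, map_natCast, mem_pM_iff]
      exact ⟨F y, rfl⟩

end Abstract

end TruncDieu

end Groth.Agent.Lib.helper10
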