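import Mathlib
import Groth.Prelude.Def_Versch
import Groth.Prelude.Def_AlphaP
import Groth.Agent.Lib.Helper22.CartDualAlphaP

/-!
The Verschiebung of `α_p` is trivial (helper10, S16076).
-/

set_option autoImplicit false
set_option linter.unusedSectionVars false
set_option linter.unusedVariables false

universe u

open Polynomial TensorProduct

namespace Groth.Agent.Lib.helper10

namespace VerschAlphaP

variable (p : ℕ) [hp : Fact p.Prime] (R : Type u) [CommRing R] [CharP R p]

/-- In `R[X]/(X^p)` the `p`-th power of an element is the `p`-th power of its constant term. -/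
theorem pow_p_eq (y : AlphaP.A p R) :
    y ^ p = algebraMap R (AlphaP.A p R) ((AlphaP.counitAlg p R y) ^ p) := by
  have key : (frobenius (AlphaP.A p R) p).comp (AlphaP.mk p R : R[X] →+* AlphaP.A p R) =
      (((algebraMap R (AlphaP.A p R)).comp (frobenius R p)).comp
        (AlphaP.counitAlg p R : AlphaP.A p R →+* R)).comp (AlphaP.mk p R : R[X] →+* AlphaP.A p R) := by
    apply Polynomial.ringHom_ext
    · intro a
      simp only [RingHom.comp_apply, RingHom.coe_coe, frobenius_def]
      have h1 : AlphaP.mk p R (C a) = algebraMap R (AlphaP.A p R) a := by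
        have := (AlphaP.mk p R).commutes a
        rwa [Polynomial.algebraMap_apply, Algebra.algebraMap_self_apply] at this
      rw [h1, AlgHom.commutes, ← map_pow]
      rfl
    · simp only [RingHom.comp_apply, RingHom.coe_coe, frobenius_def, AlphaP.mk_X, AlphaP.x_pow,
        AlphaP.counitAlg_x]
      rw [zero_pow hp.out.ne_zero, map_zero]
  obtain ⟨f, rfl⟩ := AlphaP.mk_surjective p R y
  exact DFunLike.congr_fun key f

open Groth.Agent.Lib.helper22.CartDualAlphaP in
/-- In the dual of `α_p`, `p`-th powers are scalars. -/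
theorem dual_pow_p (x : CartDual.D R (AlphaP.A p R)) :
    x ^ p = algebraMap R (CartDual.D R (AlphaP.A p R)) ((x 1) ^ p) := by
  obtain ⟨y, rfl⟩ := (algEquiv p R).surjective x
  have h1 : (algEquiv p R y) ^ p =
      algebraMap R (CartDual.D R (AlphaP.A p R)) ((AlphaP.counitAlg p R y) ^ p) := by
    rw [← map_pow, pow_p_eq, AlgEquiv.commutes]
  have h2 : CartDual.counit R (AlphaP.A p R) ((algEquiv p R y) ^ p) =
      (CartDual.counit R (AlphaP.A p R) (algEquiv p R y)) ^ p := by
    have := map_pow (Bialgebra.counitAlgHom R (CartDual.D R (AlphaP.A p R))) (algEquiv p R y) p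
    exact this
  have h3 : CartDual.counit R (AlphaP.A p R)
      (algebraMap R (CartDual.D R (AlphaP.A p R)) ((AlphaP.counitAlg p R y) ^ p)) =
      (AlphaP.counitAlg p R y) ^ p :=
    (Bialgebra.counitAlgHom R (CartDual.D R (AlphaP.A p R))).commutes _
  rw [h1] at h2
  rw [h3, CartDual.counit_apply] at h2
  rw [h1, h2]

theorem dual_pow_p_apply (x : CartDual.D R (AlphaP.A p R)) (a : AlphaP.A p R) :
    (x ^ p) a = (x 1) ^ p * AlphaP.counitAlg p R a := by
  rw [dual_pow_p]
  have : (algebraMap R (CartDual.D R (AlphaP.A p R)) ((x 1) ^ p)) a =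
      ((x 1) ^ p) • algebraMap R R (Coalgebra.counit (R := R) a) :=
    LinearMap.convAlgebraMap_apply _ _
  rw [this, smul_eq_mul]
  rfl

theorem main (v : AlphaP.A p R →+* FrobAlg.BaseChange p R (AlphaP.A p R))
    (hv : Versch.IsVerschiebung p R (AlphaP.A p R) v) :
    v = ((Algebra.TensorProduct.includeRight (R := R) (A := AlphaP.A p R)
            (B := FrobAlg.Twist p R)).toRingHom.comp
          (FrobAlg.toTwist p R).toRingHom).comp
            (Bialgebra.counitAlgHom R (AlphaP.A p R)).toRingHom := by
  rw [Versch.isVerschiebung_iff] at hv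
  apply RingHom.ext
  intro a
  apply Versch.evTw_injective p R (AlphaP.A p R)
  intro x
  rw [hv a x, dual_pow_p_apply]
  simp only [RingHom.comp_apply]
  have : (Algebra.TensorProduct.includeRight (R := R) (A := AlphaP.A p R)
      (B := FrobAlg.Twist p R)).toRingHom ((FrobAlg.toTwist p R).toRingHom
        ((Bialgebra.counitAlgHom R (AlphaP.A p R)).toRingHom a)) =
      (1 : AlphaP.A p R) ⊗ₜ[R] (FrobAlg.toTwist p R (AlphaP.counitAlg p R a)) := rfl
  rw [this, Versch.evTw_tmul', map_mul]

end VerschAlphaP

end Groth.Agent.Lib.helper10
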