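import Mathlib
import Groth.Agent.Lib.Helper10.HasseExp18
import Groth.Agent.Lib.Helper10.Tate5
import Groth.Agent.S12597
import Groth.Agent.S12598
import Groth.Agent.S12611
import Groth.Agent.S12614
import Groth.Agent.S12615

/-!
Weierstrass divisor of a classical linear system: local weights (helper10).
-/

set_option autoImplicit false
set_option linter.unusedSectionVars false
set_option linter.unusedVariables false
set_option linter.style.haveILetI false

universe u v

open WithZero FunFld

namespace Groth.Agent.Lib.helper10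

namespace Weier

open HasseExp

variable {k : Type u} {K : Type v} [Field k] [Field K] [Algebra k K]

/-- In characteristic `0` or greater than the degree, the orders are classical. -/
theorem orders_classical (hK : IsFunctionField k K) [IsAlgClosed k] {n : ℕ}
    (φ : Fin (n + 1) → K) (hφ : LinearIndependent k φ)
    (hchar : ringChar k = 0 ∨ (mapDiv k φ).deg < ringChar k)
    (s : K) (H : K →ₐ[k] PowerSeries K) (hH : LocRes.IsHasseFamily s H)
    (J : Fin n → ℕ) (hJ : IsOrders K (hcol (AlgHom.id k K) H φ) J) :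
    J = fun l : Fin n => (l : ℕ) + 1 := by
  obtain ⟨P⟩ := FF.exists_place hK
  have hI : StrictMono (fun l : Fin n => (l : ℕ) + 1) := by
    intro a b hab
    simp only
    exact Nat.succ_lt_succ hab
  have hle := Groth.Agent.S12611.aux k K hK φ hφ hchar (AlgHom.id k K) s H hH P (fun z hz => hz)
    (fun l : Fin n => (l : ℕ) + 1) hI (Or.inl fun l => Nat.succ_pos _)
    (fun J' hJ' hJ'1 hc => det_binomMat_succ_ne_zero k J' hJ' hJ'1 hc) J hJ
  have hge := Groth.Agent.S12611.add_le_of_strictMono J hJ.1 1 (one_le_of_isOrders_id hH φ J hJ)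
  funext l
  have h1 := hle l
  have h2 := hge l.1 l.2
  have h3 : (⟨l.1, l.2⟩ : Fin n) = l := rfl
  rw [h3] at h2
  omega

/-- The local weight of the Weierstrass divisor of a classical linear system. -/
theorem wDiv_id_apply (hK : IsFunctionField k K) [IsAlgClosed k] {n : ℕ}
    (φ : Fin (n + 1) → K) (hφ : LinearIndependent k φ)
    (hchar : ringChar k = 0 ∨ (mapDiv k φ).deg < ringChar k)
    (s : K) (H : K →ₐ[k] PowerSeries K) (hH : LocRes.IsHasseFamily s H)
    (J : Fin n → ℕ) (hJ : IsOrders K (hcol (AlgHom.id k K) H φ) J)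
    (Φ : Place k K → (K →ₐ[k] LaurentSeries k))
    (hΦ : ∀ P : Place k K, LocRes.IsExpansionAt P.1 (Φ P))
    (P : Place k K) (y : K) (hy : y ≠ 0)
    (heff : (1 : K) ∈ Submodule.span k (Set.range (y • φ))) (hnorm : ∀ i, P.1 (y * φ i) ≤ 1)
    (t : K) (ht : P.1 t = exp (-1 : ℤ)) (Ht : K →ₐ[k] PowerSeries K)
    (hHt : LocRes.IsHasseFamily t Ht) (J' : Fin n → ℕ)
    (hJ' : IsOrders (IsLocalRing.ResidueField P.O) (hcolAt P Ht (y • φ)) J') :
    wDiv (AlgHom.id k K) H Φ s φ J P = ∑ l : Fin n, ((J' l : ℤ) - ((l : ℕ) + 1)) := by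
  classical
  have hJeq := orders_classical hK φ hφ hchar s H hH J hJ
  have hφ0 : ∀ i, φ i ≠ 0 := fun i => hφ.ne_zero i
  set φ' : Fin (n + 1) → K := y • φ with hφ'
  have hφ'li : LinearIndependent k φ' := by
    have := hφ.map' (LinearMap.mulLeft k y) (by
      rw [LinearMap.ker_eq_bot]
      intro a b hab
      exact mul_left_cancel₀ hy hab)
    exact this
  have h97 := Groth.Agent.S12597.result k K hK φ hφ (AlgHom.id k K) s H hH y hy
  have hJ1 : IsOrders K (hcol (AlgHom.id k K) H φ') J := (h97.1 J).mpr hJ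
  have h98 := Groth.Agent.S12598.result k K hK φ' hφ'li (AlgHom.id k K) s H hH t Ht hHt
  have hJ2 : IsOrders K (hcol (AlgHom.id k K) Ht φ') J := (h98.1 J).mpr hJ1
  have h14 := Groth.Agent.S12614.result k K hK φ hφ (AlgHom.id k K) s H hH t Ht hHt J hJ
    (1 : Matrix (Fin (n + 1)) (Fin (n + 1)) k) (by rw [Matrix.det_one]; exact one_ne_zero) y hy φ'
    (by
      intro i
      change y * φ i = _
      congr 1
      rw [Finset.sum_eq_single i]
      · rw [Matrix.one_apply_eq, one_smul]
      · intro j _ hji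
        rw [Matrix.one_apply_ne hji.symm, zero_smul]
      · intro h
        exact absurd (Finset.mem_univ i) h) Φ hΦ
  have hnorm' : ∀ i, P.1 (φ' i) ≤ 1 := hnorm
  have h15 := Groth.Agent.S12615.result k K hK (AlgHom.id k K) P (fun z hz => hz) φ' hφ'li heff
    hnorm' t ht Ht hHt J hJ2 J' hJ' Φ hΦ
  have hdeg : (mapDiv k φ').deg = (mapDiv k φ).deg := by
    rw [hφ', mapDiv_smul hK φ hφ0 hy, FF.deg_sub, FF.deg_div hK, sub_zero]
  have hbound : ∀ l, (J' l : ℤ) ≤ (mapDiv k φ).deg := by
    intro l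
    rw [← hdeg]
    exact ordersAt_le_deg hK P φ' hφ'li heff hnorm' t ht Ht hHt J' hJ' l
  have hchar' : ringChar k = 0 ∨ ∀ r, J' r < ringChar k := by
    rcases hchar with h | h
    · exact Or.inl h
    · right
      intro r
      have := hbound r
      omega
  obtain ⟨Ψ, hΨ, hΨt⟩ := exists_expansion hK P t ht
  have hJ'1 : ∀ l, 1 ≤ J' l := by
    intro l
    have := (hJ'.2 (J' l)).mp ⟨l, rfl⟩
    exact ((isJump_succ_iff hK hΨ hΨt hHt φ' hnorm' _).mp this).1
  have hb : (binomMat k J' J).det ≠ 0 := by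
    rw [hJeq]
    exact det_binomMat_succ_ne_zero k J' hJ'.1 hJ'1 hchar'
  have hval := (h15.2 (Or.inl rfl)).mpr hb
  rw [← h14, hval]
  refine Finset.sum_congr rfl fun l _ => ?_
  rw [hJeq]
  push_cast
  ring

end Weier

end Groth.Agent.Lib.helper10
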