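import Mathlib
import Groth.Agent.Lib.Helper10.Weier1
import Groth.Agent.Lib.Helper10.FunFld26
import Groth.Agent.Lib.Helper10.SVComb
import Groth.Agent.S11044
import Groth.Agent.S12609

/-!
Weierstrass points of the canonical system: weights and count (helper10).
-/

set_option autoImplicit false
set_option linter.unusedSectionVars false
set_option linter.unusedVariables false
set_option linter.style.haveILetI false

universe u v

open WithZero FunFld

namespace Groth.Agent.Lib.helper10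

namespace Weier

open HasseExp

variable {k : Type u} {K : Type v} [Field k] [Field K] [Algebra k K]

/-- The divisor of a base-point-free complete linear system. -/
theorem mapDiv_eq_of_span (hK : IsFunctionField k K) {n : ℕ} (φ : Fin (n + 1) → K)
    (hφ : LinearIndependent k φ) (D : Divisor k K)
    (hspan : Submodule.span k (Set.range φ) = L D)
    (hbpf : ∀ P : Place k K, ell (D - Finsupp.single P 1) < ell D) : mapDiv k φ = D := by
  classical
  have hφ0 : ∀ i, φ i ≠ 0 := fun i => hφ.ne_zero i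
  have hφL : ∀ i, φ i ∈ L D := fun i => by
    rw [← hspan]
    exact Submodule.subset_span ⟨i, rfl⟩
  ext P
  rw [mapDiv_eq_iff hK φ hφ0 P (D P)]
  refine ⟨fun i => hφL i P, ?_⟩
  by_contra hne
  push_neg at hne
  have hlt : ∀ i, φ i ∈ L (D - Finsupp.single P 1) := by
    intro i Q
    by_cases hQ : Q = P
    · subst hQ
      rw [Finsupp.sub_apply, Finsupp.single_eq_same, ← FF.lt_exp_iff_le_exp_sub_one]
      exact lt_of_le_of_ne (hφL i Q) (hne i)
    · rw [Finsupp.sub_apply, Finsupp.single_eq_of_ne hQ, sub_zero]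
      exact hφL i Q
  have hle : L D ≤ L (D - Finsupp.single P 1) := by
    rw [← hspan]
    exact Submodule.span_le.mpr (by rintro _ ⟨i, rfl⟩; exact hlt i)
  have h1 := hbpf P
  haveI := FF.finiteDimensional_L hK (D - Finsupp.single P 1)
  have h2 : ell D ≤ ell (D - Finsupp.single P 1) := Submodule.finrank_mono hle
  omega

/-- The degree of the Weierstrass divisor (`τ = id`). -/
theorem deg_wDiv_id (hK : IsFunctionField k K) [IsAlgClosed k] {n : ℕ} (φ : Fin (n + 1) → K)
    (s : K) (H : K →ₐ[k] PowerSeries K) (hH : LocRes.IsHasseFamily s H) (J : Fin n → ℕ)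
    (Φ : Place k K → (K →ₐ[k] LaurentSeries k))
    (hΦ : ∀ P : Place k K, LocRes.IsExpansionAt P.1 (Φ P)) :
    (wDiv (AlgHom.id k K) H Φ s φ J).deg =
      ((n : ℤ) + 1) * (mapDiv k φ).deg + (∑ l, (J l : ℤ)) * (2 * (genus k K : ℤ) - 2) := by
  have e : (⇑(AlgHom.id k K) ∘ φ) = φ := rfl
  unfold wDiv
  rw [FF.deg_add, FF.deg_add, FF.deg_add, FF.deg_div hK, e, FF.deg_zsmul, FF.deg_zsmul,
    Tate.deg_divDiff Φ hΦ hK hH]
  ring

/-- The local weight of the canonical Weierstrass divisor: nonnegative, at most `n(n+1)/2`, and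
when maximal `2` is a non-gap. -/
theorem canonical_weight (hK : IsFunctionField k K) [IsAlgClosed k]
    (hg : 1 < genus k K) (hchar : ringChar k = 0 ∨ 2 * genus k K - 2 < ringChar k)
    (C : Divisor k K) (hC : IsCanonical k K C) {n : ℕ} (φ : Fin (n + 1) → K)
    (hφ : LinearIndependent k φ) (hspan : Submodule.span k (Set.range φ) = L C)
    (s : K) (H : K →ₐ[k] PowerSeries K) (hH : LocRes.IsHasseFamily s H) (J : Fin n → ℕ)
    (hJ : IsOrders K (hcol (AlgHom.id k K) H φ) J)
    (Φ : Place k K → (K →ₐ[k] LaurentSeries k))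
    (hΦ : ∀ P : Place k K, LocRes.IsExpansionAt P.1 (Φ P)) (P : Place k K) :
    0 ≤ wDiv (AlgHom.id k K) H Φ s φ J P ∧
    2 * wDiv (AlgHom.id k K) H Φ s φ J P ≤ (n : ℤ) * (n + 1) ∧
    (2 * wDiv (AlgHom.id k K) H Φ s φ J P = (n : ℤ) * (n + 1) → ¬ FF.IsGap P 2) := by
  classical
  have hφ0 : ∀ i, φ i ≠ 0 := fun i => hφ.ne_zero i
  have hmapDiv : mapDiv k φ = C := mapDiv_eq_of_span hK φ hφ C hspan
    (fun Q => Groth.Agent.S11044.result k K hK (by omega) C (Or.inr hC) Q)
  obtain ⟨hellC, hdegC⟩ := FF.ell_canonical hK hC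
  have hchar' : ringChar k = 0 ∨ (mapDiv k φ).deg < ringChar k := by
    rcases hchar with h | h
    · exact Or.inl h
    · right
      rw [hmapDiv, hdegC]
      omega
  have hng : n + 1 = genus k K := by
    rw [← hellC]
    unfold ell
    rw [← hspan, finrank_span_eq_card hφ, Fintype.card_fin]
  obtain ⟨j, hj⟩ := FF.exists_argmax_gen φ P
  set y := (φ j)⁻¹ with hy
  have hy0 : y ≠ 0 := inv_ne_zero (hφ0 j)
  have hφ'li : LinearIndependent k (y • φ) := by
    have := hφ.map' (LinearMap.mulLeft k y) (by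
      rw [LinearMap.ker_eq_bot]
      intro a b hab
      exact mul_left_cancel₀ hy0 hab)
    exact this
  have hnorm : ∀ i, P.1 (y * φ i) ≤ 1 := by
    intro i
    rw [hy, map_mul, map_inv₀]
    have hne : P.1 (φ j) ≠ 0 := (Valuation.ne_zero_iff _).mpr (hφ0 j)
    rw [inv_mul_le_iff₀ (zero_lt_iff.mpr hne), mul_one]
    exact hj i
  have heff : (1 : K) ∈ Submodule.span k (Set.range (y • φ)) := by
    apply Submodule.subset_span
    refine ⟨j, ?_⟩
    change y * φ j = 1
    rw [hy, inv_mul_cancel₀ (hφ0 j)]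
  obtain ⟨t, ht⟩ := FF.Place.exists_uniformizer P
  obtain ⟨Ht, hHt⟩ := exists_isHasseFamily_uniformizer hK hH P ht
  obtain ⟨J', hJ'⟩ := exists_isOrdersAt hK P (y • φ) hφ'li heff hnorm t ht Ht hHt
  have hW := wDiv_id_apply hK φ hφ hchar' s H hH J hJ Φ hΦ P y hy0 heff hnorm t ht Ht hHt J' hJ'
  obtain ⟨Ψ, hΨ, hΨt⟩ := exists_expansion hK P t ht
  have hJ'1 : ∀ l, 1 ≤ J' l := by
    intro l
    have := (hJ'.2 (J' l)).mp ⟨l, rfl⟩
    exact ((isJump_succ_iff hK hΨ hΨt hHt (y • φ) hnorm _).mp this).1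
  have hge : ∀ l : Fin n, l.1 + 1 ≤ J' l := fun l =>
    Groth.Agent.S12611.add_le_of_strictMono J' hJ'.1 1 hJ'1 l.1 l.2
  have hgapiff : ∀ j : ℕ, 1 ≤ j → (j ∈ Set.range J' ↔ FF.IsGap P (j + 1)) := by
    intro j hj1
    rw [hJ'.2 j, Groth.Agent.S12609.result k K hK C hC φ hφ hspan P y hy0 heff hnorm t ht Ht hHt
      j hj1]
    unfold FF.IsGap
    push_cast
    rw [add_sub_cancel_right]
  have hle : ∀ l : Fin n, J' l ≤ 2 * l.1 + 2 := by
    intro l
    by_contra hlt
    push_neg at hlt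
    have hcount := FF.le_gapCount hK P (l := l.1 + 2) (by omega) (by have := l.2; omega)
    unfold FF.gapCount at hcount
    have hsub : (Finset.Icc 1 (2 * (l.1 + 2) - 1)).filter (fun m => FF.IsGap P m) ⊆
        insert 1 ((Finset.Iio l).image (fun i => J' i + 1)) := by
      intro m hm
      rw [Finset.mem_filter, Finset.mem_Icc] at hm
      obtain ⟨⟨hm1, hm2⟩, hgap⟩ := hm
      rw [Finset.mem_insert]
      by_cases h1 : m = 1
      · exact Or.inl h1
      · right
        obtain ⟨j, rfl⟩ : ∃ j, m = j + 1 := ⟨m - 1, by omega⟩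
        have hj1 : 1 ≤ j := by omega
        obtain ⟨i, hi⟩ := (hgapiff j hj1).mpr hgap
        rw [Finset.mem_image]
        refine ⟨i, ?_, by rw [hi]⟩
        rw [Finset.mem_Iio]
        by_contra hnot
        rw [not_lt] at hnot
        have := hJ'.1.monotone hnot
        omega
    have hcard := Finset.card_le_card hsub
    have h2 : (insert 1 ((Finset.Iio l).image (fun i => J' i + 1))).card ≤ l.1 + 1 := by
      refine le_trans (Finset.card_insert_le _ _) ?_
      have := Finset.card_image_le (s := Finset.Iio l) (f := fun i => J' i + 1)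
      rw [Fin.card_Iio] at this
      omega
    omega
  have hsum : (2 : ℤ) * ∑ l : Fin n, (((l : ℕ) : ℤ) + 1) = (n : ℤ) * (n + 1) := by
    have := SVComb.sum_fin_succ n
    have h2 : ((2 * ∑ l : Fin n, (l.1 + 1) : ℕ) : ℤ) = ((n * (n + 1) : ℕ) : ℤ) := by rw [this]
    push_cast at h2
    exact h2
  rw [hW]
  refine ⟨Finset.sum_nonneg fun l _ => ?_, ?_, ?_⟩
  · have := hge l
    omega
  · rw [← hsum, Finset.mul_sum, Finset.mul_sum]
    apply Finset.sum_le_sum
    intro l _
    have := hle l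
    omega
  · intro heq
    have hn0 : 0 < n := by omega
    have hall : ∀ l ∈ (Finset.univ : Finset (Fin n)),
        ((J' l : ℤ) - ((l : ℕ) + 1)) = (((l : ℕ) : ℤ) + 1) := by
      have hle' : ∀ l ∈ (Finset.univ : Finset (Fin n)),
          ((J' l : ℤ) - ((l : ℕ) + 1)) ≤ (((l : ℕ) : ℤ) + 1) := by
        intro l _
        have := hle l
        omega
      have hsumeq : ∑ l : Fin n, ((J' l : ℤ) - ((l : ℕ) + 1)) = ∑ l : Fin n, (((l : ℕ) : ℤ) + 1) := by
        linarith
      exact (Finset.sum_eq_sum_iff_of_le hle').mp hsumeq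
    have h0 := hall ⟨0, hn0⟩ (Finset.mem_univ _)
    simp only [Nat.cast_zero, zero_add] at h0
    have hJ0 : J' ⟨0, hn0⟩ = 2 := by omega
    rw [← hgapiff 1 le_rfl]
    rintro ⟨i, hi⟩
    have := hJ'.1.monotone (show (⟨0, hn0⟩ : Fin n) ≤ i from Fin.mk_le_of_le_val (Nat.zero_le _))
    omega

end Weier

end Groth.Agent.Lib.helper10
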