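import Mathlib
import Groth.Agent.Lib.Helper10.Weier2

/-!
Weierstrass points of the canonical system: the count (helper10).
-/

set_option autoImplicit false
set_option linter.unusedSectionVars false
set_option linter.unusedVariables false
set_option linter.style.haveILetI false

universe u v

open WithZero FunFld

namespace Groth.Agent.Lib.helper10

namespace Weier

open HasseExp

variable {k : Type u} {K : Type v} [Field k] [Field K] [Algebra k K]

/-- There are at least `2g + 2` Weierstrass points; if exactly `2g + 2`, then `2` is a non-gap at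
each of them. -/
theorem card_support (hK : IsFunctionField k K) [IsAlgClosed k]
    (hg : 1 < genus k K) (hchar : ringChar k = 0 ∨ 2 * genus k K - 2 < ringChar k)
    (C : Divisor k K) (hC : IsCanonical k K C) {n : ℕ} (φ : Fin (n + 1) → K)
    (hφ : LinearIndependent k φ) (hspan : Submodule.span k (Set.range φ) = L C)
    (s : K) (H : K →ₐ[k] PowerSeries K) (hH : LocRes.IsHasseFamily s H) (J : Fin n → ℕ)
    (hJ : IsOrders K (hcol (AlgHom.id k K) H φ) J)
    (Φ : Place k K → (K →ₐ[k] LaurentSeries k))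
    (hΦ : ∀ P : Place k K, LocRes.IsExpansionAt P.1 (Φ P)) :
    2 * genus k K + 2 ≤ (wDiv (AlgHom.id k K) H Φ s φ J).support.card ∧
    ((wDiv (AlgHom.id k K) H Φ s φ J).support.card = 2 * genus k K + 2 →
      ∀ P ∈ (wDiv (AlgHom.id k K) H Φ s φ J).support, ¬ FF.IsGap P 2) := by
  classical
  set W := wDiv (AlgHom.id k K) H Φ s φ J with hW
  have hw := fun P => canonical_weight hK hg hchar C hC φ hφ hspan s H hH J hJ Φ hΦ P
  have hmapDiv : mapDiv k φ = C := mapDiv_eq_of_span hK φ hφ C hspan
    (fun Q => Groth.Agent.S11044.result k K hK (by omega) C (Or.inr hC) Q)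
  obtain ⟨hellC, hdegC⟩ := FF.ell_canonical hK hC
  have hchar' : ringChar k = 0 ∨ (mapDiv k φ).deg < ringChar k := by
    rcases hchar with h | h
    · exact Or.inl h
    · right
      rw [hmapDiv, hdegC]
      omega
  have hng : n + 1 = genus k K := by
    rw [← hellC]
    unfold ell
    rw [← hspan, finrank_span_eq_card hφ, Fintype.card_fin]
  have hJeq := orders_classical hK φ hφ hchar' s H hH J hJ
  have hdeg := deg_wDiv_id hK φ s H hH J Φ hΦ
  rw [← hW, hmapDiv, hdegC] at hdeg
  have hsumJ : (2 : ℤ) * ∑ l, (J l : ℤ) = (n : ℤ) * (n + 1) := by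
    rw [hJeq]
    have := SVComb.sum_fin_succ n
    have h2 : ((2 * ∑ l : Fin n, (l.1 + 1) : ℕ) : ℤ) = ((n * (n + 1) : ℕ) : ℤ) := by rw [this]
    push_cast at h2
    push_cast
    exact h2
  have hdegsum : W.deg = ∑ P ∈ W.support, W P := by
    unfold Divisor.deg Finsupp.sum
    refine Finset.sum_congr rfl fun P _ => ?_
    change W P * (P.deg : ℤ) = W P
    rw [FF.Place.deg_eq_one hK P]
    simp
  set g := genus k K with hgdef
  have hnZ : (n : ℤ) = (g : ℤ) - 1 := by
    have : ((n + 1 : ℕ) : ℤ) = (g : ℤ) := by rw [hng]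
    push_cast at this
    linarith
  have hg2 : (2 : ℤ) ≤ g := by exact_mod_cast hg
  set N := W.support.card with hN
  have hbound : (2 : ℤ) * W.deg ≤ N * ((n : ℤ) * (n + 1)) := by
    rw [hdegsum, Finset.mul_sum]
    calc ∑ P ∈ W.support, 2 * W P ≤ ∑ P ∈ W.support, ((n : ℤ) * (n + 1)) :=
          Finset.sum_le_sum fun P _ => (hw P).2.1
      _ = N * ((n : ℤ) * (n + 1)) := by
          rw [Finset.sum_const, hN]
          simp
  have h2deg : (2 : ℤ) * W.deg = (2 * (g : ℤ) + 2) * ((n : ℤ) * (n + 1)) := by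
    rw [hdeg]
    have : (2 : ℤ) * ((((n : ℤ) + 1) * (2 * (g : ℤ) - 2)) +
        (∑ l, (J l : ℤ)) * (2 * (g : ℤ) - 2)) =
        2 * ((n : ℤ) + 1) * (2 * (g : ℤ) - 2) + (2 * ∑ l, (J l : ℤ)) * (2 * (g : ℤ) - 2) := by
      ring
    rw [this, hsumJ, hnZ]
    ring
  have hm : (0 : ℤ) < (n : ℤ) * (n + 1) := by
    rw [hnZ]
    have : (0 : ℤ) < (g : ℤ) - 1 := by linarith
    positivity
  constructor
  · rw [h2deg] at hbound
    have := le_of_mul_le_mul_right hbound hm
    exact_mod_cast this
  · intro hcard P hP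
    have hsumeq : ∑ P ∈ W.support, 2 * W P = ∑ P ∈ W.support, ((n : ℤ) * (n + 1)) := by
      rw [← Finset.mul_sum, ← hdegsum, h2deg, Finset.sum_const, ← hN, hcard]
      simp
    have := (Finset.sum_eq_sum_iff_of_le (fun P _ => (hw P).2.1)).mp hsumeq P hP
    exact (hw P).2.2 this

end Weier

end Groth.Agent.Lib.helper10
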