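import Mathlib
import Groth.Agent.Lib.Helper10.Weier3
import Groth.Agent.S11047

/-!
Hyperelliptic function fields: uniqueness of the degree two subfield and the automorphisms fixing
the Weierstrass points (helper10).
-/

set_option autoImplicit false
set_option linter.unusedSectionVars false
set_option linter.unusedVariables false
set_option linter.style.haveILetI false

universe u v

open WithZero FunFld IntermediateField

namespace Groth.Agent.Lib.helper10

namespace Weier

open HasseExp FF

variable {k : Type u} {K : Type v} [Field k] [Field K] [Algebra k K]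

/-- In genus at least two, a function with at most two poles lies in any subfield `k(x)` of index
two generated by a function with at most two poles. -/
theorem mem_adjoin_of_deg_two (hK : IsFunctionField k K) (hg : 1 < genus k K) {x x' : K}
    (hx : Transcendental k x) (hdeg : Module.finrank k⟮x⟯ K = 2) (A B : Divisor k K)
    (hA : 0 ≤ A) (hB : 0 ≤ B) (hAdeg : A.deg = 2) (hBdeg : B.deg = 2)
    (hxA : x ∈ L A) (hxB : x' ∈ L B) : x' ∈ k⟮x⟯ := by
  classical
  by_contra hnot
  set u : Fin 2 → K := ![1, x'] with hu
  have huli : LinearIndependent k⟮x⟯ u := by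
    rw [hu, LinearIndependent.pair_iff]
    intro a b hab
    by_cases hb : b = 0
    · subst hb
      rw [zero_smul, add_zero, IntermediateField.smul_def, smul_eq_mul, mul_one] at hab
      refine ⟨?_, rfl⟩
      exact_mod_cast hab
    · exfalso
      apply hnot
      have hbK : (b : K) ≠ 0 := by
        intro h
        apply hb
        exact_mod_cast h
      rw [IntermediateField.smul_def, IntermediateField.smul_def, smul_eq_mul, smul_eq_mul,
        mul_one] at hab
      have : x' = ((-a / b : k⟮x⟯) : K) := by
        push_cast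
        field_simp
        linear_combination hab
      rw [this]
      exact (-a / b).2
  set g := genus k K with hgdef
  set l : ℕ := g with hl
  set D : Divisor k K := (l : ℤ) • A + B with hD
  have hAP : ∀ P : Place k K, 0 ≤ A P := fun P => hA P
  have hBP : ∀ P : Place k K, 0 ≤ B P := fun P => hB P
  have hdegD : D.deg = 2 * l + 2 := by
    rw [hD, deg_add, deg_zsmul, hAdeg, hBdeg]
    ring
  have hmem : ∀ (i : Fin (l + 1)) (j : Fin 2), x ^ (i : ℕ) * u j ∈ L D := by
    intro i j P
    rw [map_mul, map_pow]
    have e1 : P.1 x ^ (i : ℕ) ≤ WithZero.exp ((l : ℤ) * A P) := by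
      calc P.1 x ^ (i : ℕ) ≤ WithZero.exp (A P) ^ (i : ℕ) := pow_le_pow_left' (hxA P) _
        _ = WithZero.exp (((i : ℕ) : ℤ) * A P) := by
            rw [← WithZero.exp_nsmul]
            simp
        _ ≤ WithZero.exp ((l : ℤ) * A P) := by
            rw [WithZero.exp_le_exp]
            apply mul_le_mul_of_nonneg_right _ (hAP P)
            have := i.2
            omega
    have e2 : P.1 (u j) ≤ WithZero.exp (B P) := by
      fin_cases j
      · change P.1 (1 : K) ≤ _
        rw [map_one, ← WithZero.exp_zero, WithZero.exp_le_exp]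
        exact hBP P
      · exact hxB P
    calc P.1 x ^ (i : ℕ) * P.1 (u j) ≤ WithZero.exp ((l : ℤ) * A P) * WithZero.exp (B P) :=
          mul_le_mul' e1 e2
      _ = WithZero.exp (D P) := by
          rw [← WithZero.exp_add, hD, Finsupp.add_apply, Finsupp.smul_apply, smul_eq_mul]
  let w : Fin (l + 1) × Fin 2 → L D := fun p => ⟨x ^ (p.1 : ℕ) * u p.2, hmem p.1 p.2⟩
  have hb : LinearIndependent k (fun i : Fin (l + 1) => (AdjoinSimple.gen k x) ^ (i : ℕ)) := by
    apply LinearIndependent.of_comp (k⟮x⟯.val).toLinearMap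
    have h1 := (linearIndependent_pow_of_transcendental hx).comp (fun i : Fin (l + 1) => (i : ℕ))
      Fin.val_injective
    have e : (⇑(k⟮x⟯.val).toLinearMap ∘ fun i : Fin (l + 1) => (AdjoinSimple.gen k x) ^ (i : ℕ)) =
        ((fun i : ℕ => x ^ i) ∘ fun i : Fin (l + 1) => (i : ℕ)) := by
      funext i
      simp
    rw [e]
    exact h1
  have hli : LinearIndependent k w := by
    apply LinearIndependent.of_comp (L D).subtype
    have h2 := linearIndependent_smul hb huli
    have e : (⇑(L D).subtype ∘ w) =
        fun p : Fin (l + 1) × Fin 2 => (AdjoinSimple.gen k x) ^ (p.1 : ℕ) • u p.2 := by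
      funext p
      simp only [Function.comp_apply, Submodule.subtype_apply]
      rw [IntermediateField.smul_def, smul_eq_mul]
      simp [w]
    rw [e]
    exact h2
  haveI := finiteDimensional_L hK D
  have h2 := hli.fintype_card_le_finrank
  rw [Fintype.card_prod, Fintype.card_fin, Fintype.card_fin] at h2
  have h3 : (((l + 1) * 2 : ℕ) : ℤ) ≤ ell D := by
    unfold ell
    exact_mod_cast h2
  have h4 := ell_of_deg_ge hK (D := D) (by rw [hdegD]; omega)
  rw [hdegD] at h4
  push_cast at h3
  omega

/-- the fixed field of an automorphism -/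
def fixedIF (σ : K ≃ₐ[k] K) : IntermediateField k K where
  carrier := {z | σ z = z}
  mul_mem' := fun {a b} ha hb => by
    simp only [Set.mem_setOf_eq] at *
    rw [map_mul, ha, hb]
  one_mem' := map_one σ
  add_mem' := fun {a b} ha hb => by
    simp only [Set.mem_setOf_eq] at *
    rw [map_add, ha, hb]
  zero_mem' := map_zero σ
  algebraMap_mem' := fun c => σ.commutes c
  inv_mem' := fun z hz => by
    simp only [Set.mem_setOf_eq] at *
    rw [map_inv₀, hz]

theorem mem_fixedIF (σ : K ≃ₐ[k] K) (z : K) : z ∈ fixedIF σ ↔ σ z = z := Iff.rfl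

theorem comapPlace_injective (σ : K ≃ₐ[k] K) :
    Function.Injective (Groth.Agent.S11047.comapPlace σ : Place k K → Place k K) := by
  intro P Q h
  have h1 := Groth.Agent.S11047.comapPlace_symm σ.symm (Groth.Agent.S11047.comapPlace σ P)
  have h2 := Groth.Agent.S11047.comapPlace_symm σ.symm (Groth.Agent.S11047.comapPlace σ Q)
  rw [AlgEquiv.symm_symm] at h1 h2
  have e : ∀ R : Place k K, Groth.Agent.S11047.comapPlace σ.symm
      (Groth.Agent.S11047.comapPlace σ R) = R := by
    intro R
    apply Subtype.ext
    ext z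
    rw [Groth.Agent.S11047.comapPlace_apply, Groth.Agent.S11047.comapPlace_apply,
      AlgEquiv.apply_symm_apply]
  rw [← e P, ← e Q, h]

/-- The automorphisms fixing `2g + 2` places at each of which `2` is a non-gap are those fixing a
function with a double pole at one of them. -/
theorem hyperelliptic_case (hK : IsFunctionField k K) [IsAlgClosed k] (hg : 1 < genus k K)
    (S : Finset (Place k K)) (hS : S.card = 2 * genus k K + 2)
    (hgap : ∀ P ∈ S, ¬ IsGap P 2) :
    ∃ x : K, Module.finrank k⟮x⟯ K = 2 ∧ ∀ σ : K ≃ₐ[k] K,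
      (∀ P ∈ S, IsFixedPt (σ : K →ₐ[k] K) P) ↔ σ x = x := by
  classical
  obtain ⟨P₁, hP₁⟩ : S.Nonempty := Finset.card_pos.mp (by omega)
  obtain ⟨x, hxL, hxv⟩ := (not_isGap_iff P₁ 2).mp (hgap P₁ hP₁)
  have hexp2 : (1 : WithZero (Multiplicative ℤ)) < exp (((2 : ℕ) : ℤ)) := by
    rw [← exp_zero, exp_lt_exp]
    norm_num
  have hx0 : x ≠ 0 := by
    rintro rfl
    rw [map_zero] at hxv
    exact exp_ne_zero hxv.symm
  have hxtr : Transcendental k x := by
    apply transcendental_of_not_mem_range hK
    rintro ⟨c, rfl⟩
    have := P₁.2.1 c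
    rw [hxv] at this
    exact absurd this (not_le.mpr hexp2)
  set A₁ : Divisor k K := Finsupp.single P₁ ((2 : ℕ) : ℤ) with hA₁
  have hA₁0 : 0 ≤ A₁ := by
    intro Q
    by_cases hQ : Q = P₁
    · subst hQ
      rw [hA₁, Finsupp.single_eq_same]
      simp
    · rw [hA₁, Finsupp.single_eq_of_ne hQ]
      simp
  have hA₁deg : A₁.deg = 2 := by
    rw [hA₁, deg_single, Place.deg_eq_one hK P₁]
    norm_num
  have hpoles : polesDiv k x = A₁ := by
    ext Q
    rw [polesDiv_apply hK]
    by_cases hQ : Q = P₁
    · subst hQ
      have h1 := Place.val_eq_exp_neg_ord Q hx0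
      rw [hxv, exp_inj] at h1
      rw [hA₁, Finsupp.single_eq_same, ← h1]
      simp
    · have h1 := hxL Q
      rw [Finsupp.single_eq_of_ne hQ, exp_zero] at h1
      have h2 := (Place.ord_nonneg_iff Q hx0).mpr h1
      rw [hA₁, Finsupp.single_eq_of_ne hQ]
      exact max_eq_right (by omega)
  have hfinrank : Module.finrank k⟮x⟯ K = 2 := by
    have h1 := deg_polesDiv hK hxtr
    rw [hpoles, hA₁deg] at h1
    exact_mod_cast h1.symm
  refine ⟨x, hfinrank, ?_⟩
  intro σ
  constructor
  · intro hfix
    have hcp : ∀ P ∈ S, Groth.Agent.S11047.comapPlace σ P = P := fun P hP =>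
      (Groth.Agent.S11047.isFixed_iff σ P).mp (hfix P hP)
    have hσx : σ x ∈ L A₁ := by
      intro Q
      rw [← Groth.Agent.S11047.comapPlace_apply]
      refine le_trans (hxL _) ?_
      rw [exp_le_exp]
      by_cases hQ : Q = P₁
      · subst hQ
        rw [hcp Q hP₁]
      · have hne : Groth.Agent.S11047.comapPlace σ Q ≠ P₁ := by
          intro h
          apply hQ
          apply comapPlace_injective σ
          rw [h, hcp P₁ hP₁]
        rw [hA₁, Finsupp.single_eq_of_ne hne, Finsupp.single_eq_of_ne hQ]
    set T := S.erase P₁ with hT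
    set E : Divisor k K := A₁ - ∑ P ∈ T, Finsupp.single P (1 : ℤ) with hE
    have hEapply : ∀ Q : Place k K, E Q = A₁ Q - (if Q ∈ T then 1 else 0) := by
      intro Q
      rw [hE, Finsupp.sub_apply, Finsupp.finset_sum_apply]
      congr 1
      simp only [Finsupp.single_apply]
      rw [Finset.sum_ite_eq']
    have hEdeg : E.deg < 0 := by
      rw [hE, deg_sub, hA₁deg, deg_sum]
      have : ∑ P ∈ T, Divisor.deg (Finsupp.single P (1 : ℤ) : Divisor k K) = T.card := by
        rw [Finset.sum_congr rfl (g := fun _ => (1 : ℤ))]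
        · simp
        · intro P _
          rw [deg_single, Place.deg_eq_one hK P]
          norm_num
      rw [this, hT, Finset.card_erase_of_mem hP₁, hS]
      push_cast
      omega
    have hu : σ x - x ∈ L E := by
      intro Q
      rw [hEapply]
      by_cases hQT : Q ∈ T
      · rw [if_pos hQT]
        have hQS : Q ∈ S := Finset.mem_of_mem_erase hQT
        have hQne : Q ≠ P₁ := Finset.ne_of_mem_erase hQT
        rw [hA₁, Finsupp.single_eq_of_ne hQne, ← lt_exp_iff_le_exp_sub_one, exp_zero]
        have hxQ : Q.1 x ≤ 1 := by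
          have := hxL Q
          rwa [Finsupp.single_eq_of_ne hQne, exp_zero] at this
        obtain ⟨c, hc⟩ := Place.exists_const_sub_lt hK Q hxQ
        have h1 := hfix Q hQS _ hc
        have h2 : (σ : K →ₐ[k] K) (x - algebraMap k K c) = σ x - algebraMap k K c := by
          change σ (x - algebraMap k K c) = _
          rw [map_sub, σ.commutes]
        rw [h2] at h1
        have e : σ x - x = (σ x - algebraMap k K c) - (x - algebraMap k K c) := by ring
        rw [e]
        exact lt_of_le_of_lt (Valuation.map_sub _ _ _) (max_lt h1 hc)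
      · rw [if_neg hQT, sub_zero]
        exact le_trans (Valuation.map_sub _ _ _) (max_le (hσx Q) (hxL Q))
    rw [L_eq_bot_of_deg_neg hK hEdeg, Submodule.mem_bot] at hu
    exact sub_eq_zero.mp hu
  · intro hσ P hP
    obtain ⟨x', hx'L, hx'v⟩ := (not_isGap_iff P 2).mp (hgap P hP)
    have hB0 : (0 : Divisor k K) ≤ Finsupp.single P ((2 : ℕ) : ℤ) := by
      intro Q
      by_cases hQ : Q = P
      · subst hQ
        rw [Finsupp.single_eq_same]
        simp
      · rw [Finsupp.single_eq_of_ne hQ]
        simp
    have hBdeg : Divisor.deg (Finsupp.single P ((2 : ℕ) : ℤ) : Divisor k K) = 2 := by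
      rw [deg_single, Place.deg_eq_one hK P]
      norm_num
    have hmem := mem_adjoin_of_deg_two hK hg hxtr hfinrank A₁ _ hA₁0 hB0 hA₁deg hBdeg hxL hx'L
    have hle : k⟮x⟯ ≤ fixedIF σ := by
      rw [IntermediateField.adjoin_simple_le_iff]
      exact hσ
    have hσx' : σ x' = x' := hle hmem
    have hcp : Groth.Agent.S11047.comapPlace σ P = P := by
      by_contra hne
      have h1 := hx'L (Groth.Agent.S11047.comapPlace σ P)
      rw [Finsupp.single_eq_of_ne hne, exp_zero, Groth.Agent.S11047.comapPlace_apply, hσx',
        hx'v] at h1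
      exact absurd h1 (not_le.mpr hexp2)
    exact (Groth.Agent.S11047.isFixed_iff σ P).mpr hcp

end Weier

end Groth.Agent.Lib.helper10
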