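import Mathlib
import Groth.Agent.Lib.Helper10.Weier4

/-!
Weierstrass points are intrinsic (gap sequences), automorphisms permute them, and finiteness of
the automorphism group (helper10).
-/

set_option autoImplicit false
set_option linter.unusedSectionVars false
set_option linter.unusedVariables false
set_option linter.style.haveILetI false

universe u v

open WithZero FunFld IntermediateField

namespace Groth.Agent.Lib.helper10

namespace Weier

open HasseExp FF

variable {k : Type u} {K : Type v} [Field k] [Field K] [Algebra k K]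

/-- A strictly increasing sequence of `n` positive integers whose range contains `1, …, n`. -/
theorem eq_succ_of_range {n : ℕ} (J' : Fin n → ℕ) (hmono : StrictMono J')
    (h1 : ∀ l, 1 ≤ J' l) (h3 : ∀ j, 1 ≤ j → j ≤ n → j ∈ Set.range J') :
    ∀ l : Fin n, J' l = l.1 + 1 := by
  have hi : ∀ l : Fin n, l.1 + 1 ≤ J' l := fun l =>
    Groth.Agent.S12611.add_le_of_strictMono J' hmono 1 h1 l.1 l.2
  have hiii : ∀ m : ℕ, ∀ l : Fin n, l.1 = m → J' l = m + 1 := by
    intro m
    induction m using Nat.strong_induction_on with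
    | _ m ih =>
      intro l hl
      obtain ⟨i, hi'⟩ := h3 (m + 1) (by omega) (by have := l.2; omega)
      rcases lt_trichotomy i.1 m with hlt | heq | hgt
      · have := ih i.1 hlt i rfl
        omega
      · have : i = l := Fin.ext (by omega)
        rw [← this]
        exact hi'
      · have hlt : J' l < J' i := hmono (Fin.lt_def.mpr (by omega))
        have := hi l
        omega
  intro l
  exact hiii l.1 l rfl

/-- A place is not a Weierstrass point exactly when its gap sequence is `1, …, g`. -/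
theorem wDiv_eq_zero_iff (hK : IsFunctionField k K) [IsAlgClosed k]
    (hg : 1 < genus k K) (hchar : ringChar k = 0 ∨ 2 * genus k K - 2 < ringChar k)
    (C : Divisor k K) (hC : IsCanonical k K C) {n : ℕ} (φ : Fin (n + 1) → K)
    (hφ : LinearIndependent k φ) (hspan : Submodule.span k (Set.range φ) = L C)
    (s : K) (H : K →ₐ[k] PowerSeries K) (hH : LocRes.IsHasseFamily s H) (J : Fin n → ℕ)
    (hJ : IsOrders K (hcol (AlgHom.id k K) H φ) J)
    (Φ : Place k K → (K →ₐ[k] LaurentSeries k))
    (hΦ : ∀ P : Place k K, LocRes.IsExpansionAt P.1 (Φ P)) (P : Place k K) :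
    wDiv (AlgHom.id k K) H Φ s φ J P = 0 ↔
      ∀ m : ℕ, 2 ≤ m → m ≤ genus k K → FF.IsGap P m := by
  classical
  have hφ0 : ∀ i, φ i ≠ 0 := fun i => hφ.ne_zero i
  have hmapDiv : mapDiv k φ = C := mapDiv_eq_of_span hK φ hφ C hspan
    (fun Q => Groth.Agent.S11044.result k K hK (by omega) C (Or.inr hC) Q)
  obtain ⟨hellC, hdegC⟩ := FF.ell_canonical hK hC
  have hchar' : ringChar k = 0 ∨ (mapDiv k φ).deg < ringChar k := by
    rcases hchar with h | h
    · exact Or.inl h
    · right
      rw [hmapDiv, hdegC]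
      omega
  have hng : n + 1 = genus k K := by
    rw [← hellC]
    unfold ell
    rw [← hspan, finrank_span_eq_card hφ, Fintype.card_fin]
  obtain ⟨j, hj⟩ := FF.exists_argmax_gen φ P
  set y := (φ j)⁻¹ with hy
  have hy0 : y ≠ 0 := inv_ne_zero (hφ0 j)
  have hφ'li : LinearIndependent k (y • φ) := by
    have := hφ.map' (LinearMap.mulLeft k y) (by
      rw [LinearMap.ker_eq_bot]
      intro a b hab
      exact mul_left_cancel₀ hy0 hab)
    exact this
  have hnorm : ∀ i, P.1 (y * φ i) ≤ 1 := by
    intro i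
    rw [hy, map_mul, map_inv₀]
    have hne : P.1 (φ j) ≠ 0 := (Valuation.ne_zero_iff _).mpr (hφ0 j)
    rw [inv_mul_le_iff₀ (zero_lt_iff.mpr hne), mul_one]
    exact hj i
  have heff : (1 : K) ∈ Submodule.span k (Set.range (y • φ)) := by
    apply Submodule.subset_span
    refine ⟨j, ?_⟩
    change y * φ j = 1
    rw [hy, inv_mul_cancel₀ (hφ0 j)]
  obtain ⟨t, ht⟩ := FF.Place.exists_uniformizer P
  obtain ⟨Ht, hHt⟩ := exists_isHasseFamily_uniformizer hK hH P ht
  obtain ⟨J', hJ'⟩ := exists_isOrdersAt hK P (y • φ) hφ'li heff hnorm t ht Ht hHt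
  have hW := wDiv_id_apply hK φ hφ hchar' s H hH J hJ Φ hΦ P y hy0 heff hnorm t ht Ht hHt J' hJ'
  obtain ⟨Ψ, hΨ, hΨt⟩ := exists_expansion hK P t ht
  have hJ'1 : ∀ l, 1 ≤ J' l := by
    intro l
    have := (hJ'.2 (J' l)).mp ⟨l, rfl⟩
    exact ((isJump_succ_iff hK hΨ hΨt hHt (y • φ) hnorm _).mp this).1
  have hge : ∀ l : Fin n, l.1 + 1 ≤ J' l := fun l =>
    Groth.Agent.S12611.add_le_of_strictMono J' hJ'.1 1 hJ'1 l.1 l.2
  have hgapiff : ∀ j : ℕ, 1 ≤ j → (j ∈ Set.range J' ↔ FF.IsGap P (j + 1)) := by
    intro j hj1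
    rw [hJ'.2 j, Groth.Agent.S12609.result k K hK C hC φ hφ hspan P y hy0 heff hnorm t ht Ht hHt
      j hj1]
    unfold FF.IsGap
    push_cast
    rw [add_sub_cancel_right]
  rw [hW]
  constructor
  · intro hsum m hm2 hmg
    have hall := (Finset.sum_eq_zero_iff_of_nonneg (fun l _ => by
      have := hge l
      omega)).mp hsum
    have hm : m - 2 < n := by omega
    have h1 := hall ⟨m - 2, hm⟩ (Finset.mem_univ _)
    have h2 : J' ⟨m - 2, hm⟩ = m - 1 := by
      simp only at h1
      omega
    have h3 : m - 1 ∈ Set.range J' := ⟨_, h2⟩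
    have := (hgapiff (m - 1) (by omega)).mp h3
    rwa [show m - 1 + 1 = m by omega] at this
  · intro hgaps
    have h3 : ∀ j, 1 ≤ j → j ≤ n → j ∈ Set.range J' := by
      intro j hj1 hjn
      exact (hgapiff j hj1).mpr (hgaps (j + 1) (by omega) (by omega))
    have heq := eq_succ_of_range J' hJ'.1 hJ'1 h3
    apply Finset.sum_eq_zero
    intro l _
    rw [heq l]
    push_cast
    ring

theorem comapPlace_symm_comapPlace (σ : K ≃ₐ[k] K) (R : Place k K) :
    Groth.Agent.S11047.comapPlace σ.symm (Groth.Agent.S11047.comapPlace σ R) = R := by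
  apply Subtype.ext
  ext z
  rw [Groth.Agent.S11047.comapPlace_apply, Groth.Agent.S11047.comapPlace_apply,
    AlgEquiv.apply_symm_apply]

theorem comapPlace_mul (σ τ : K ≃ₐ[k] K) (P : Place k K) :
    Groth.Agent.S11047.comapPlace (σ * τ) P =
      Groth.Agent.S11047.comapPlace τ (Groth.Agent.S11047.comapPlace σ P) := by
  apply Subtype.ext
  ext z
  rw [Groth.Agent.S11047.comapPlace_apply, Groth.Agent.S11047.comapPlace_apply,
    Groth.Agent.S11047.comapPlace_apply, AlgEquiv.mul_apply]

theorem mem_L_comapPlace (σ : K ≃ₐ[k] K) (P : Place k K) (a : ℤ) (z : K) :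
    z ∈ L (Finsupp.single (Groth.Agent.S11047.comapPlace σ P) a : Divisor k K) ↔
      σ z ∈ L (Finsupp.single P a : Divisor k K) := by
  classical
  constructor
  · intro h Q
    have h1 := h (Groth.Agent.S11047.comapPlace σ Q)
    rw [Groth.Agent.S11047.comapPlace_apply] at h1
    refine le_trans h1 ?_
    rw [exp_le_exp]
    by_cases hQ : Q = P
    · subst hQ
      rw [Finsupp.single_eq_same, Finsupp.single_eq_same]
    · have hne : Groth.Agent.S11047.comapPlace σ Q ≠ Groth.Agent.S11047.comapPlace σ P :=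
        fun h' => hQ (comapPlace_injective σ h')
      rw [Finsupp.single_eq_of_ne hne, Finsupp.single_eq_of_ne hQ]
  · intro h Q'
    set Q := Groth.Agent.S11047.comapPlace σ.symm Q' with hQdef
    have hQ' : Q' = Groth.Agent.S11047.comapPlace σ Q := by
      rw [hQdef]
      have := comapPlace_symm_comapPlace σ.symm Q'
      rw [AlgEquiv.symm_symm] at this
      exact this.symm
    have h1 := h Q
    rw [hQ', Groth.Agent.S11047.comapPlace_apply]
    refine le_trans h1 ?_
    rw [exp_le_exp]
    by_cases hQ : Q = P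
    · rw [hQ, Finsupp.single_eq_same, Finsupp.single_eq_same]
    · have hne : Groth.Agent.S11047.comapPlace σ Q ≠ Groth.Agent.S11047.comapPlace σ P :=
        fun h' => hQ (comapPlace_injective σ h')
      rw [Finsupp.single_eq_of_ne hne, Finsupp.single_eq_of_ne hQ]

theorem isGap_of_isGap_comapPlace (σ : K ≃ₐ[k] K) (P : Place k K) (m : ℕ)
    (h : IsGap P m) : IsGap (Groth.Agent.S11047.comapPlace σ P) m := by
  unfold IsGap at h ⊢
  ext z
  rw [mem_L_comapPlace, mem_L_comapPlace, h]

theorem isGap_comapPlace_iff (σ : K ≃ₐ[k] K) (P : Place k K) (m : ℕ) :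
    IsGap (Groth.Agent.S11047.comapPlace σ P) m ↔ IsGap P m := by
  constructor
  · intro h
    have := isGap_of_isGap_comapPlace σ.symm _ m h
    rwa [comapPlace_symm_comapPlace] at this
  · exact isGap_of_isGap_comapPlace σ P m

/-- If the automorphisms permute a finite set of places and only finitely many fix all of them,
then there are only finitely many automorphisms. -/
theorem finite_aut (S : Finset (Place k K))
    (hinv : ∀ (σ : K ≃ₐ[k] K), ∀ P ∈ S, Groth.Agent.S11047.comapPlace σ P ∈ S)
    (hN : {ρ : K ≃ₐ[k] K | ∀ P ∈ S, Groth.Agent.S11047.comapPlace ρ P = P}.Finite) :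
    Finite (K ≃ₐ[k] K) := by
  classical
  let f : (K ≃ₐ[k] K) → (↥S → ↥S) := fun σ P =>
    ⟨Groth.Agent.S11047.comapPlace σ P.1, hinv σ P.1 P.2⟩
  have huniv : (Set.univ : Set (K ≃ₐ[k] K)).Finite := by
    apply Set.Finite.of_finite_fibers f
    · exact Set.toFinite _
    · rintro _ ⟨τ, -, rfl⟩
      have hsub : (Set.univ ∩ f ⁻¹' {f τ}) ⊆ (fun ρ => ρ * τ) ''
          {ρ : K ≃ₐ[k] K | ∀ P ∈ S, Groth.Agent.S11047.comapPlace ρ P = P} := by
        rintro σ ⟨-, hσ⟩
        rw [Set.mem_preimage, Set.mem_singleton_iff] at hσ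
        refine ⟨σ * τ⁻¹, ?_, ?_⟩
        · intro P hP
          have h1 := congrFun hσ ⟨P, hP⟩
          have h2 : Groth.Agent.S11047.comapPlace σ P = Groth.Agent.S11047.comapPlace τ P :=
            congrArg Subtype.val h1
          rw [comapPlace_mul, h2]
          exact comapPlace_symm_comapPlace τ P
        · change σ * τ⁻¹ * τ = σ
          rw [inv_mul_cancel_right]
      exact (hN.image _).subset hsub
  exact Set.finite_univ_iff.mp huniv

/-- Only finitely many automorphisms fix a given `x` with `K / k(x)` finite. -/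
theorem finite_fixing {x : K} (hfin : FiniteDimensional k⟮x⟯ K) :
    {ρ : K ≃ₐ[k] K | ρ x = x}.Finite := by
  classical
  let F : {ρ : K ≃ₐ[k] K // ρ x = x} → (K →ₐ[k⟮x⟯] K) := fun ρ =>
    { toRingHom := (ρ.1 : K →+* K)
      commutes' := fun a => by
        have hle : k⟮x⟯ ≤ fixedIF ρ.1 := by
          rw [IntermediateField.adjoin_simple_le_iff]
          exact ρ.2
        exact hle a.2 }
  have hF : Function.Injective F := by
    intro ρ₁ ρ₂ h
    apply Subtype.ext
    ext z
    exact congrArg (fun g : K →ₐ[k⟮x⟯] K => g z) h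
  haveI : Finite {ρ : K ≃ₐ[k] K // ρ x = x} := Finite.of_injective F hF
  exact Set.finite_coe_iff.mp this

end Weier

end Groth.Agent.Lib.helper10
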