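import Mathlib
import Groth.Prelude.Def_W4bk4goldsch45
import Groth.Agent.Lib.Helper10.FunFld65

/-!
# Zeta functions of function fields over finite fields (helper10), part 1: finiteness of places of
bounded degree and of effective divisors of given degree
-/

set_option autoImplicit false
set_option linter.style.haveILetI false
set_option linter.unusedSectionVars false
set_option linter.unusedVariables false

universe u v w

open FunFld Polynomial

namespace Groth.Agent.Lib.helper10.Zeta

open FF RD PA

section Finite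

variable {k : Type u} {K : Type v} [Field k] [Field K] [Algebra k K]

/-- The polynomials of degree at most `n` over a finite field form a finite set. -/
theorem finite_natDegree_le [Finite k] (n : ℕ) : {p : k[X] | p.natDegree ≤ n}.Finite := by
  have h1 : {p : k[X] | p.natDegree ≤ n} ⊆ ((Polynomial.degreeLT k (n + 1) : Submodule k k[X]) : Set k[X]) := by
    intro p hp
    rw [Set.mem_ofPred_eq] at hp
    rw [SetLike.mem_coe, Polynomial.mem_degreeLT]
    by_cases h0 : p = 0
    · rw [h0, degree_zero]
      exact WithBot.bot_lt_coe _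
    · rw [degree_eq_natDegree h0]
      exact_mod_cast Nat.lt_succ_of_le hp
  refine Set.Finite.subset ?_ h1
  have e := Polynomial.degreeLTEquiv k (n + 1)
  haveI : Finite (Polynomial.degreeLT k (n + 1)) := Finite.of_equiv _ e.symm.toEquiv
  exact Set.toFinite _

theorem finite_places_deg_le [Finite k] (hK : IsFunctionField k K) (n : ℕ) :
    {P : Place k K | P.deg ≤ n}.Finite := by
  obtain ⟨x, hx, -⟩ := hK.1
  have hpoles := finite_poles hK x
  have hpolys := finite_natDegree_le (k := k) n
  have hz : ∀ p ∈ {p : k[X] | p.natDegree ≤ n},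
      {Q : Place k K | p ≠ 0 ∧ Q.1 (aeval x p) < 1}.Finite := by
    intro p _
    by_cases hp : p = 0
    · simp [hp]
    · have h0 : aeval x p ≠ 0 := fun h => hx ⟨p, hp, h⟩
      exact (finite_zeros hK h0).subset (fun Q hQ => hQ.2)
  have hunion := hpolys.biUnion hz
  refine (hpoles.union hunion).subset ?_
  intro P hP
  rw [Set.mem_ofPred_eq] at hP
  by_cases hPx : P.1 x ≤ 1
  · right
    rw [Set.mem_iUnion₂]
    have hfd := Place.finiteDimensional_residueField hK P
    haveI hfd' : @Module.Finite k (IsLocalRing.ResidueField P.O) _ _ (Place.algRes P).toModule :=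
      hfd
    obtain ⟨xO, hxO⟩ : ∃ xO : P.O, xO = ⟨x, hPx⟩ := ⟨_, rfl⟩
    obtain ⟨xb, hxb⟩ : ∃ xb, xb = IsLocalRing.residue P.O xO := ⟨_, rfl⟩
    have hint : IsIntegral k xb := IsIntegral.of_finite k xb
    refine ⟨minpoly k xb, ?_, minpoly.ne_zero hint, ?_⟩
    · have := minpoly.natDegree_le (A := k) xb
      exact le_trans this hP
    · have h1 : IsLocalRing.residue P.O (aeval xO (minpoly k xb)) = 0 := by
        rw [Place.residue_aeval, ← hxb]
        exact minpoly.aeval k xb
      rw [Place.residue_eq_zero_iff, Place.coe_aeval, hxO] at h1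
      exact h1
  · left
    exact not_le.1 hPx

theorem coeff_mul_deg_le {D : Divisor k K} (hD : 0 ≤ D) (P : Place k K) :
    D P * (P.deg : ℤ) ≤ D.deg := by
  have h1 : Finsupp.single P (D P) ≤ D := by
    intro Q
    by_cases hQ : Q = P
    · rw [hQ, Finsupp.single_eq_same]
    · rw [Finsupp.single_eq_of_ne hQ]
      exact hD Q
  have h2 := deg_mono h1
  rwa [deg_single] at h2

/-- Over a finite constant field there are finitely many effective divisors of each degree. -/
theorem finite_effDiv [Finite k] (hK : IsFunctionField k K) (n : ℕ) :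
    {D : Divisor k K | 0 ≤ D ∧ D.deg = n}.Finite := by
  classical
  set S : Finset (Place k K) := (finite_places_deg_le hK n).toFinset with hS
  let F : (S → Fin (n + 1)) → Divisor k K := fun f =>
    Finsupp.onFinset S (fun P => if h : P ∈ S then ((f ⟨P, h⟩ : ℕ) : ℤ) else 0) (by
      intro P hP
      by_contra hn
      exact hP (dif_neg hn))
  refine (Set.finite_range F).subset ?_
  rintro D ⟨hD0, hDn⟩
  have hle : ∀ P, D P * (P.deg : ℤ) ≤ n := fun P => hDn ▸ coeff_mul_deg_le hD0 P
  have hdegpos : ∀ P : Place k K, (1 : ℤ) ≤ P.deg := fun P => by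
    exact_mod_cast Place.deg_pos hK P
  have hDle : ∀ P, D P ≤ n := by
    intro P
    have h1 := hle P
    have h2 := hdegpos P
    have h3 := hD0 P
    rw [Finsupp.zero_apply] at h3
    nlinarith
  have hsupp : ∀ P, D P ≠ 0 → P ∈ S := by
    intro P hP
    rw [hS, Set.Finite.mem_toFinset, Set.mem_ofPred_eq]
    have h1 := hle P
    have h3 := hD0 P
    rw [Finsupp.zero_apply] at h3
    have h4 : 1 ≤ D P := by omega
    have : (P.deg : ℤ) ≤ n := by nlinarith [hdegpos P]
    exact_mod_cast this
  refine ⟨fun P => ⟨(D P.1).toNat, ?_⟩, ?_⟩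
  · have h1 := hDle P.1
    have h3 := hD0 P.1
    rw [Finsupp.zero_apply] at h3
    omega
  · ext P
    show (if h : P ∈ S then _ else 0) = D P
    by_cases hP : P ∈ S
    · rw [dif_pos hP]
      have h3 := hD0 P
      rw [Finsupp.zero_apply] at h3
      show ((D P).toNat : ℤ) = D P
      exact Int.toNat_of_nonneg h3
    · rw [dif_neg hP]
      by_contra hne
      exact hP (hsupp P (Ne.symm hne))


end Finite

section Prin

variable {k : Type u} {K : Type v} [Field k] [Field K] [Algebra k K]

theorem div_one (hK : IsFunctionField k K) : FunFld.div k (1 : K) = 0 := by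
  have := div_algebraMap hK (1 : k)
  rwa [map_one] at this

theorem mem_prinDivs_iff (hK : IsFunctionField k K) (D : Divisor k K) :
    D ∈ prinDivs k K ↔ ∃ x : K, x ≠ 0 ∧ D = FunFld.div k x := by
  constructor
  · intro h
    unfold prinDivs at h
    induction h using AddSubgroup.closure_induction with
    | mem D hD =>
      obtain ⟨x, rfl⟩ := hD
      by_cases hx : x = 0
      · exact ⟨1, one_ne_zero, by rw [hx, div_zero' hK, div_one hK]⟩
      · exact ⟨x, hx, rfl⟩
    | zero => exact ⟨1, one_ne_zero, (div_one hK).symm⟩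
    | add A B _ _ hA hB =>
      obtain ⟨x, hx, rfl⟩ := hA
      obtain ⟨y, hy, rfl⟩ := hB
      exact ⟨x * y, mul_ne_zero hx hy, (FF.div_mul hK hx hy).symm⟩
    | neg A _ hA =>
      obtain ⟨x, hx, rfl⟩ := hA
      exact ⟨x⁻¹, inv_ne_zero hx, (FF.div_inv hK x).symm⟩
  · rintro ⟨x, -, rfl⟩
    exact AddSubgroup.subset_closure ⟨x, rfl⟩

theorem exists_const_of_div_eq_zero (hK : IsFunctionField k K) {u : K} (hu : u ≠ 0)
    (h : FunFld.div k u = 0) : ∃ c : kˣ, algebraMap k K c = u := by
  by_contra hcon
  have hnr : u ∉ Set.range (algebraMap k K) := by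
    rintro ⟨c, hc⟩
    have hc0 : c ≠ 0 := fun h0 => hu (by rw [← hc, h0, map_zero])
    exact hcon ⟨Units.mk0 c hc0, hc⟩
  obtain ⟨P, hP⟩ := exists_zero hK hnr
  have := div_apply hK u P
  rw [h, Finsupp.zero_apply] at this
  omega

/-- The effective divisors linearly equivalent to `D`. -/
def linSys (D : Divisor k K) : Set (Divisor k K) := {E | 0 ≤ E ∧ E - D ∈ prinDivs k K}

theorem card_linSys [Finite k] (hK : IsFunctionField k K) (D : Divisor k K) :
    Nat.card (linSys D) * (Nat.card k - 1) + 1 = Nat.card k ^ ell D := by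
  classical
  haveI := finiteDimensional_L hK D
  haveI : Finite (L D) := Module.finite_of_finite k
  choose x hx0 hx using fun E : linSys D => (mem_prinDivs_iff hK _).1 E.2.2
  have hxL : ∀ E : linSys D, x E ∈ L D := by
    intro E
    rw [mem_L_iff_div hK (hx0 E), ← hx E, add_sub_cancel]
    exact E.2.1
  let Φ : linSys D × kˣ → {f : L D // f ≠ 0} := fun p =>
    ⟨⟨(p.2 : k) • x p.1, (L D).smul_mem _ (hxL p.1)⟩, by
      intro h
      have := congrArg Subtype.val h
      simp only [Submodule.coe_zero, smul_eq_zero] at this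
      rcases this with h1 | h1
      · exact p.2.ne_zero h1
      · exact hx0 p.1 h1⟩
  have hΦ : Function.Bijective Φ := by
    constructor
    · rintro ⟨E, c⟩ ⟨E', c'⟩ h
      have h1 : (c : k) • x E = (c' : k) • x E' := congrArg (fun f => (f.1 : K)) h
      have hdiv : FunFld.div k (x E) = FunFld.div k (x E') := by
        have e1 := congrArg (FunFld.div k) h1
        rw [Algebra.smul_def, Algebra.smul_def,
          FF.div_mul hK ((_root_.map_ne_zero (algebraMap k K)).2 c.ne_zero) (hx0 E),
          FF.div_mul hK ((_root_.map_ne_zero (algebraMap k K)).2 c'.ne_zero) (hx0 E'), div_algebraMap hK,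
          div_algebraMap hK, zero_add, zero_add] at e1
        exact e1
      have hE : E = E' := by
        apply Subtype.ext
        have := (hx E).trans (hdiv.trans (hx E').symm)
        exact sub_left_injective this
      subst hE
      have hc : c = c' := by
        apply Units.ext
        have h2 : ((c : k) - (c' : k)) • x E = 0 := by rw [sub_smul, h1, sub_self]
        rcases smul_eq_zero.1 h2 with h3 | h3
        · exact sub_eq_zero.1 h3
        · exact absurd h3 (hx0 E)
      rw [hc]
    · rintro ⟨⟨f, hfL⟩, hf0⟩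
      have hf : f ≠ 0 := fun h => hf0 (Subtype.ext h)
      have hE : D + FunFld.div k f ∈ linSys D := by
        refine ⟨(mem_L_iff_div hK hf D).1 hfL, ?_⟩
        rw [add_sub_cancel_left]
        exact (mem_prinDivs_iff hK _).2 ⟨f, hf, rfl⟩
      set E : linSys D := ⟨_, hE⟩ with hEdef
      have hdiv : FunFld.div k (f / x E) = 0 := by
        rw [div_eq_mul_inv, FF.div_mul hK hf (inv_ne_zero (hx0 E)), FF.div_inv hK, ← hx E]
        show FunFld.div k f + -(D + FunFld.div k f - D) = 0
        abel
      obtain ⟨c, hc⟩ := exists_const_of_div_eq_zero hK (div_ne_zero hf (hx0 E)) hdiv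
      refine ⟨⟨E, c⟩, ?_⟩
      apply Subtype.ext
      apply Subtype.ext
      show (c : k) • x E = f
      rw [Algebra.smul_def, hc, div_mul_cancel₀ _ (hx0 E)]
  have hcard := Nat.card_congr (Equiv.ofBijective Φ hΦ)
  rw [Nat.card_prod, Nat.card_units] at hcard
  have h2 : Nat.card {f : L D // f ≠ 0} + 1 = Nat.card (L D) := by
    have e := Nat.card_congr (Equiv.optionSubtypeNe (0 : L D))
    rw [Finite.card_option] at e
    exact e
  rw [hcard, h2, Module.natCard_eq_pow_finrank (K := k) (V := L D)]
  rfl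

end Prin

section ClassGroup

variable {k : Type u} {K : Type v} [Field k] [Field K] [Algebra k K]

variable (k K) in
/-- The group of divisor classes of degree zero. -/
abbrev Pic0 : Type _ := (FunFld.degHom k K).ker ⧸ (prinDivs k K).addSubgroupOf (FunFld.degHom k K).ker

variable (k K) in
/-- Effective divisors of degree `n`. -/
abbrev Eff (n : ℕ) : Type _ := {D : Divisor k K // 0 ≤ D ∧ D.deg = n}

theorem fdegHom_apply (A : Divisor k K) : FunFld.degHom k K A = A.deg := by
  unfold FunFld.degHom Divisor.deg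
  rw [Finsupp.liftAddHom_apply]
  rfl

theorem deg_of_mem_ker (A : (FunFld.degHom k K).ker) : (A.1 : Divisor k K).deg = 0 := by
  have := A.2
  rwa [AddMonoidHom.mem_ker, fdegHom_apply] at this

theorem deg_of_mem_prinDivs (hK : IsFunctionField k K) {D : Divisor k K}
    (hD : D ∈ prinDivs k K) : D.deg = 0 := by
  obtain ⟨x, -, rfl⟩ := (mem_prinDivs_iff hK D).1 hD
  exact deg_div hK x

/-- The class map on effective divisors of degree `n`, relative to a base divisor of degree `n`. -/
noncomputable def classMap {n : ℕ} (D₀ : Divisor k K) (hD₀ : D₀.deg = n) (E : Eff k K n) :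
    Pic0 k K :=
  QuotientAddGroup.mk ⟨E.1 - D₀, by
    rw [AddMonoidHom.mem_ker, fdegHom_apply, deg_sub, E.2.2, hD₀, sub_self]⟩

theorem classMap_eq_iff (hK : IsFunctionField k K) {n : ℕ} (D₀ : Divisor k K) (hD₀ : D₀.deg = n)
    (E : Eff k K n) (A : (FunFld.degHom k K).ker) :
    classMap D₀ hD₀ E = QuotientAddGroup.mk A ↔ E.1 - (D₀ + A.1) ∈ prinDivs k K := by
  unfold classMap
  rw [QuotientAddGroup.eq, AddSubgroup.mem_addSubgroupOf]
  show -(E.1 - D₀) + A.1 ∈ prinDivs k K ↔ _
  have e1 : -(E.1 - D₀) + A.1 = -(E.1 - (D₀ + A.1)) := by abel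
  rw [e1, neg_mem_iff]

/-- The fibre of the class map over the class of `A` is the linear system of `D₀ + A`. -/
noncomputable def fibreEquiv (hK : IsFunctionField k K) {n : ℕ} (D₀ : Divisor k K)
    (hD₀ : D₀.deg = n) (A : (FunFld.degHom k K).ker) :
    {E : Eff k K n // classMap D₀ hD₀ E = QuotientAddGroup.mk A} ≃ linSys (D₀ + A.1) where
  toFun E := ⟨E.1.1, E.1.2.1, (classMap_eq_iff hK D₀ hD₀ E.1 A).1 E.2⟩
  invFun E := ⟨⟨E.1, E.2.1, by
    have h1 := deg_of_mem_prinDivs hK E.2.2
    have h2 : (A.1 : Divisor k K).deg = 0 := deg_of_mem_ker A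
    rw [deg_sub, deg_add, hD₀, h2] at h1
    linarith⟩, (classMap_eq_iff hK D₀ hD₀ _ A).2 E.2.2⟩
  left_inv E := rfl
  right_inv E := rfl

theorem classMap_surjective (hK : IsFunctionField k K) {n : ℕ} (D₀ : Divisor k K)
    (hD₀ : D₀.deg = n) (hn : genus k K ≤ n) : Function.Surjective (classMap D₀ hD₀) := by
  intro c
  obtain ⟨A, rfl⟩ := QuotientAddGroup.mk_surjective c
  have hA : (A.1 : Divisor k K).deg = 0 := deg_of_mem_ker A
  have hpos : 0 < ell (D₀ + A.1) := by
    have h1 := delta_le_genus hK (D₀ + A.1)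
    rw [deg_add, hD₀, hA] at h1
    have : (0 : ℤ) < ell (D₀ + A.1) := by
      have : (genus k K : ℤ) ≤ n := by exact_mod_cast hn
      linarith
    exact_mod_cast this
  obtain ⟨f, hf0, hf⟩ := exists_ne_zero_mem_L hK hpos
  rw [mem_L_iff_div hK hf0] at hf
  refine ⟨⟨D₀ + A.1 + FunFld.div k f, hf, ?_⟩, ?_⟩
  · rw [deg_add, deg_add, hD₀, hA, deg_div hK]
    ring
  · rw [classMap_eq_iff hK]
    have : D₀ + A.1 + FunFld.div k f - (D₀ + A.1) = FunFld.div k f := by abel
    rw [this]
    exact (mem_prinDivs_iff hK _).2 ⟨f, hf0, rfl⟩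

/-- Over a finite constant field the group of divisor classes of degree zero is finite. -/
theorem finite_pic0 [Finite k] (hK : IsFunctionField k K) : Finite (Pic0 k K) := by
  obtain ⟨P⟩ := exists_place hK
  set D₀ : Divisor k K := Finsupp.single P (genus k K : ℤ) with hD₀def
  have hD₀ : D₀.deg = ((genus k K * P.deg : ℕ) : ℤ) := by
    rw [hD₀def, deg_single]
    push_cast
    ring
  haveI : Finite (Eff k K (genus k K * P.deg)) := (finite_effDiv hK _).to_subtype
  refine Finite.of_surjective _ (classMap_surjective hK D₀ hD₀ ?_)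
  exact Nat.le_mul_of_pos_right _ (Place.deg_pos hK P)

theorem card_eff_mul [Finite k] (hK : IsFunctionField k K) {n : ℕ}
    (hn : 2 * genus k K ≤ n + 1) (D₀ : Divisor k K) (hD₀ : D₀.deg = n) :
    ((Nat.card k : ℤ) - 1) * (effDivCount k K n : ℤ) =
      (classNum k K : ℤ) * ((Nat.card k : ℤ) ^ (n + 1 - genus k K) - 1) := by
  classical
  haveI := finite_pic0 hK
  haveI : Fintype (Pic0 k K) := Fintype.ofFinite _
  haveI : Finite (Eff k K n) := (finite_effDiv hK n).to_subtype
  have hq : 1 ≤ Nat.card k := Nat.card_pos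
  have hfib : ∀ c : Pic0 k K, ((Nat.card k : ℤ) - 1) *
      (Nat.card {E : Eff k K n // classMap D₀ hD₀ E = c} : ℤ) =
      (Nat.card k : ℤ) ^ (n + 1 - genus k K) - 1 := by
    intro c
    obtain ⟨A, rfl⟩ := QuotientAddGroup.mk_surjective c
    have hA : (A.1 : Divisor k K).deg = 0 := deg_of_mem_ker A
    rw [Nat.card_congr (fibreEquiv hK D₀ hD₀ A)]
    have h1 := card_linSys hK (D₀ + A.1)
    have hell : ell (D₀ + A.1) = n + 1 - genus k K := by
      have h2 := ell_of_deg_ge hK (D := D₀ + A.1) (by
        rw [deg_add, hD₀, hA]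
        have : (2 * genus k K : ℤ) ≤ n + 1 := by exact_mod_cast hn
        linarith)
      rw [deg_add, hD₀, hA] at h2
      have : (ell (D₀ + A.1) : ℤ) = ((n + 1 - genus k K : ℕ) : ℤ) := by
        rw [h2, Nat.cast_sub (by omega)]
        push_cast
        ring
      exact_mod_cast this
    rw [hell] at h1
    have h3 : ((Nat.card (linSys (D₀ + A.1)) * (Nat.card k - 1) + 1 : ℕ) : ℤ) =
        ((Nat.card k ^ (n + 1 - genus k K) : ℕ) : ℤ) := by rw [h1]
    push_cast [Nat.cast_sub hq] at h3
    linarith
  have hsum : Nat.card (Eff k K n) =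
      ∑ c : Pic0 k K, Nat.card {E : Eff k K n // classMap D₀ hD₀ E = c} := by
    rw [← Nat.card_congr (Equiv.sigmaFiberEquiv (classMap D₀ hD₀)), Nat.card_sigma]
  unfold effDivCount classNum
  rw [hsum]
  push_cast
  rw [Finset.mul_sum, Finset.sum_congr rfl (fun c _ => hfib c), Finset.sum_const, Finset.card_univ,
    nsmul_eq_mul, ← Nat.card_eq_fintype_card (α := Pic0 k K)]

end ClassGroup

end Groth.Agent.Lib.helper10.Zeta
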