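import Mathlib

/-!
# Zeta functions (helper10), part 10: the analytic lemma for the Riemann hypothesis

If `|∑ αᵢ^r| ≤ C q^{r/2}` along an arithmetic progression of exponents and the `αᵢ` are paired by
`αᵢ αⱼ = q`, then `|αᵢ|² = q`.
-/

set_option autoImplicit false
set_option linter.style.haveILetI false
set_option linter.unusedSectionVars false
set_option linter.unusedVariables false

namespace Groth.Agent.Lib.helper10.Zeta

open Filter Topology

/-- **Simultaneous recurrence**: finitely many complex numbers of absolute value one have a common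
power, with arbitrarily large exponent, close to `1`. -/
theorem exists_pow_near_one {ι : Type*} [Fintype ι] (z : ι → ℂ) (hz : ∀ i, ‖z i‖ = 1) {ε : ℝ}
    (hε : 0 < ε) (N : ℕ) : ∃ j : ℕ, N < j ∧ ∀ i, ‖z i ^ j - 1‖ < ε := by
  obtain ⟨w, hw⟩ : ∃ w : ℕ → (ι → ℂ), w = fun m i => z i ^ m := ⟨_, rfl⟩
  have hball : ∀ m, w m ∈ Metric.closedBall (0 : ι → ℂ) 1 := by
    intro m
    rw [mem_closedBall_zero_iff, pi_norm_le_iff_of_nonneg zero_le_one]
    intro i
    rw [hw]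
    show ‖z i ^ m‖ ≤ 1
    rw [norm_pow, hz i, one_pow]
  obtain ⟨a, -, φ, hφ, hlim⟩ := (isCompact_closedBall (0 : ι → ℂ) 1).tendsto_subseq hball
  have hcau := hlim.cauchySeq
  rw [Metric.cauchySeq_iff] at hcau
  obtain ⟨M, hM⟩ := hcau ε hε
  obtain ⟨b, hb⟩ : ∃ b, b = M + φ M + N + 1 := ⟨_, rfl⟩
  have hbM : M ≤ b := by omega
  have hφb : φ M + N + 1 ≤ φ b := by
    have h0 : b ≤ φ b := hφ.id_le b
    omega
  have hd := hM b hbM M le_rfl
  refine ⟨φ b - φ M, by omega, fun i => ?_⟩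
  have h1 : ‖w (φ b) i - w (φ M) i‖ < ε := by
    have h2 : ‖(w (φ b) - w (φ M)) i‖ ≤ ‖w (φ b) - w (φ M)‖ := norm_le_pi_norm _ i
    rw [dist_eq_norm] at hd
    exact lt_of_le_of_lt h2 hd
  rw [hw] at h1
  simp only at h1
  have h3 : z i ^ φ b - z i ^ φ M = z i ^ φ M * (z i ^ (φ b - φ M) - 1) := by
    rw [mul_sub, mul_one, ← pow_add]
    congr 2
    omega
  rw [h3, norm_mul, norm_pow, hz i, one_pow, one_mul] at h1
  exact h1

/-- **The analytic lemma**: a bound `|∑ αᵢ^r| ≤ C (√q)^r` along the multiples of `r₀`, together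
with a pairing `αᵢ αⱼ = q`, forces `|αᵢ|² = q`. -/
theorem norm_sq_eq_of_sum_pow_bound {ι : Type*} [Fintype ι] (α : ι → ℂ) {q : ℝ} (hq : 0 < q)
    (hpair : ∀ i, ∃ j, α i * α j = (q : ℂ)) (C : ℝ) (r₀ : ℕ) (hr₀ : 0 < r₀)
    (hbound : ∀ j : ℕ, 0 < j → ‖∑ i, α i ^ (r₀ * j)‖ ≤ C * Real.sqrt q ^ (r₀ * j)) (i : ι) :
    ‖α i‖ ^ 2 = q := by
  have hsq : 0 < Real.sqrt q := Real.sqrt_pos.2 hq
  have hα0 : ∀ i, α i ≠ 0 := by
    intro i h
    obtain ⟨j, hj⟩ := hpair i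
    rw [h, zero_mul] at hj
    have : (q : ℂ) ≠ 0 := by exact_mod_cast hq.ne'
    exact this hj.symm
  have hnpos : ∀ i, 0 < ‖α i‖ := fun i => norm_pos_iff.2 (hα0 i)
  -- the upper bound
  have hle : ∀ i₀, ‖α i₀‖ ≤ Real.sqrt q := by
    intro i₀
    by_contra hlt
    rw [not_le] at hlt
    obtain ⟨ρ, hρ⟩ : ∃ ρ, ρ = ‖α i₀‖ / Real.sqrt q := ⟨_, rfl⟩
    have hρ1 : 1 < ρ := by
      rw [hρ, one_lt_div hsq]
      exact hlt
    obtain ⟨N, hN⟩ := pow_unbounded_of_one_lt (2 * C) hρ1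
    obtain ⟨u, hu⟩ : ∃ u : ι → ℂ, u = fun i => (α i / (‖α i‖ : ℂ)) ^ r₀ := ⟨_, rfl⟩
    have hu1 : ∀ i, ‖u i‖ = 1 := by
      intro i
      rw [hu]
      simp only
      rw [norm_pow, norm_div, Complex.norm_real, Real.norm_eq_abs, abs_of_pos (hnpos i),
        div_self (hnpos i).ne', one_pow]
    obtain ⟨j, hjN, hj⟩ := exists_pow_near_one u hu1 (by norm_num : (0 : ℝ) < 1 / 2) N
    have hj0 : 0 < j := by omega
    have hre : ∀ i, ‖α i‖ ^ (r₀ * j) / 2 ≤ (α i ^ (r₀ * j)).re := by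
      intro i
      have h1 : α i ^ (r₀ * j) = ((‖α i‖ ^ (r₀ * j) : ℝ) : ℂ) * u i ^ j := by
        rw [hu]
        simp only
        rw [← pow_mul, div_pow]
        push_cast
        rw [mul_div_cancel₀]
        exact pow_ne_zero _ (by exact_mod_cast (hnpos i).ne')
      rw [h1, Complex.re_ofReal_mul]
      have h2 : (1 : ℝ) / 2 ≤ (u i ^ j).re := by
        have h3 := hj i
        have h4 : |(u i ^ j - 1).re| ≤ ‖u i ^ j - 1‖ := Complex.abs_re_le_norm _
        rw [Complex.sub_re, Complex.one_re] at h4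
        have := abs_le.1 (h4.trans h3.le)
        linarith [this.1]
      have h5 : 0 ≤ ‖α i‖ ^ (r₀ * j) := pow_nonneg (norm_nonneg _) _
      nlinarith
    have hsum : ‖α i₀‖ ^ (r₀ * j) / 2 ≤ ‖∑ i, α i ^ (r₀ * j)‖ := by
      calc ‖α i₀‖ ^ (r₀ * j) / 2 ≤ (α i₀ ^ (r₀ * j)).re := hre i₀
        _ ≤ ∑ i, (α i ^ (r₀ * j)).re := by
          apply Finset.single_le_sum (f := fun i => (α i ^ (r₀ * j)).re)
          · intro i _
            exact le_trans (by positivity) (hre i)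
          · exact Finset.mem_univ i₀
        _ = (∑ i, α i ^ (r₀ * j)).re := (Complex.re_sum _ _).symm
        _ ≤ ‖∑ i, α i ^ (r₀ * j)‖ := Complex.re_le_norm _
    have hb := hbound j hj0
    have h6 : ρ ^ (r₀ * j) ≤ 2 * C := by
      rw [hρ, div_pow, div_le_iff₀ (pow_pos hsq _)]
      linarith
    have h7 : ρ ^ N ≤ ρ ^ (r₀ * j) := by
      apply pow_le_pow_right₀ hρ1.le
      calc N ≤ j := hjN.le
        _ = 1 * j := (one_mul j).symm
        _ ≤ r₀ * j := Nat.mul_le_mul_right j hr₀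
    linarith
  -- the lower bound from the pairing
  obtain ⟨j, hj⟩ := hpair i
  have h1 : ‖α i‖ * ‖α j‖ = q := by
    rw [← norm_mul, hj, Complex.norm_real, Real.norm_eq_abs, abs_of_pos hq]
  have h2 := hle i
  have h3 := hle j
  have h4 : Real.sqrt q * Real.sqrt q = q := Real.mul_self_sqrt hq.le
  have h5 : ‖α i‖ = Real.sqrt q := by
    apply le_antisymm h2
    by_contra hlt
    rw [not_le] at hlt
    have : ‖α i‖ * ‖α j‖ < Real.sqrt q * Real.sqrt q := by
      calc ‖α i‖ * ‖α j‖ < Real.sqrt q * ‖α j‖ := mul_lt_mul_of_pos_right hlt (hnpos j)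
        _ ≤ Real.sqrt q * Real.sqrt q := mul_le_mul_of_nonneg_left h3 hsq.le
    linarith
  rw [h5, pow_two, h4]

end Groth.Agent.Lib.helper10.Zeta
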