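import Mathlib
import Groth.Agent.Lib.Helper10.Zeta1
import Groth.Agent.Lib.Helper10.Hilb3

/-!
# Zeta functions (helper10), part 2: constant field extensions of a function field over a finite
field, as a Galois extension generated by a root of a polynomial over the constants
-/

set_option autoImplicit false
set_option linter.style.haveILetI false
set_option linter.unusedSectionVars false
set_option linter.unusedVariables false

universe u v w

open FunFld Polynomial

namespace Groth.Agent.Lib.helper10.Zeta

open FF RD PA

section Irr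

variable {k : Type u} {K : Type v} [Field k] [Field K] [Algebra k K]

/-- A monic factor over `K` of a monic polynomial over `k` has coefficients in `k`, when `k` is
algebraically closed in `K`. -/
theorem mem_lifts_of_monic_of_dvd (hK : ∀ y : K, IsAlgebraic k y → y ∈ Set.range (algebraMap k K))
    {f : k[X]} (hf : f.Monic) {g : K[X]} (hg : g.Monic) (hd : g ∣ f.map (algebraMap k K)) :
    g ∈ lifts (algebraMap k K) := by
  have h1 := integralClosure.mem_lifts_of_monic_of_dvd_map K hf hg hd
  rw [lifts_iff_coeff_lifts] at h1 ⊢
  intro n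
  obtain ⟨c, hc⟩ := h1 n
  have := hK (c : K) c.2.isAlgebraic
  rw [← hc]
  exact this

/-- An irreducible polynomial over the constants stays irreducible over the function field. -/
theorem irreducible_map_of_algClosed
    (hK : ∀ y : K, IsAlgebraic k y → y ∈ Set.range (algebraMap k K))
    {f : k[X]} (hf : Irreducible f) (hm : f.Monic) : Irreducible (f.map (algebraMap k K)) := by
  have hinj : Function.Injective (algebraMap k K) := (algebraMap k K).injective
  have hM : (f.map (algebraMap k K)).Monic := hm.map _
  rw [hM.irreducible_iff_natDegree]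
  refine ⟨?_, ?_⟩
  · intro h1
    have h2 := congrArg natDegree h1
    rw [natDegree_map, natDegree_one] at h2
    exact hf.natDegree_pos.ne' h2
  · intro a b ha hb hab
    obtain ⟨a₀, ha₀⟩ := (mem_lifts _).1 (mem_lifts_of_monic_of_dvd hK hm ha ⟨b, hab.symm⟩)
    obtain ⟨b₀, hb₀⟩ := (mem_lifts _).1
      (mem_lifts_of_monic_of_dvd hK hm hb ⟨a, by rw [← hab, mul_comm]⟩)
    have hfab : f = a₀ * b₀ := by
      apply map_injective _ hinj
      rw [Polynomial.map_mul]
      show map (algebraMap k K) f = map (algebraMap k K) a₀ * map (algebraMap k K) b₀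
      have e1 : map (algebraMap k K) a₀ = a := ha₀
      have e2 : map (algebraMap k K) b₀ = b := hb₀
      rw [e1, e2, hab]
    rcases hf.isUnit_or_isUnit hfab with h | h
    · left
      have e1 : map (algebraMap k K) a₀ = a := ha₀
      rw [← e1, natDegree_map]
      exact natDegree_eq_zero_of_isUnit h
    · right
      have e2 : map (algebraMap k K) b₀ = b := hb₀
      rw [← e2, natDegree_map]
      exact natDegree_eq_zero_of_isUnit h

end Irr

section Ext

variable {k : Type u} {K : Type v} [Field k] [Field K] [Algebra k K]

theorem exists_irreducible_natDegree [Finite k] {n : ℕ} (hn : 0 < n) :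
    ∃ f : k[X], f.Monic ∧ Irreducible f ∧ f.natDegree = n ∧ f.Separable := by
  obtain ⟨p, hp⟩ := CharP.exists k
  haveI := hp
  haveI : Fact p.Prime := ⟨CharP.char_is_prime k p⟩
  haveI : NeZero n := ⟨hn.ne'⟩
  obtain ⟨α, hα⟩ := Field.exists_primitive_element k (FiniteField.Extension k p n)
  have hint : IsIntegral k α := Algebra.IsIntegral.isIntegral α
  refine ⟨minpoly k α, minpoly.monic hint, minpoly.irreducible hint, ?_, ?_⟩
  · rw [← IntermediateField.adjoin.finrank hint, hα, IntermediateField.finrank_top',
      FiniteField.finrank_extension]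
  · exact Algebra.IsSeparable.isSeparable k α

end Ext

section Gal

variable {k : Type u} {K : Type v} [Field k] [Field K] [Algebra k K]

/-- Over a finite field, a field extension generated by a root of an irreducible polynomial with
coefficients in the finite field is Galois. -/
theorem isGalois_of_root [Finite k] {K' : Type w} [Field K'] [Algebra K K'] [Algebra k K']
    [IsScalarTower k K K'] {f : k[X]} (hm : f.Monic) (hirr : Irreducible f) (hsep : f.Separable)
    {β : K'} (hβ : aeval β f = 0) (hgen : Algebra.adjoin K ({β} : Set K') = ⊤) :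
    IsGalois K K' := by
  have hint : IsIntegral k β := ⟨f, hm, hβ⟩
  have hmin : f = minpoly k β := minpoly.eq_of_irreducible_of_monic hirr hβ hm
  -- the finite field generated by the root
  haveI : FiniteDimensional k (IntermediateField.adjoin k ({β} : Set K')) :=
    IntermediateField.adjoin.finiteDimensional hint
  haveI : Finite (IntermediateField.adjoin k ({β} : Set K')) := Module.finite_of_finite k
  have hsplit0 := Normal.splits (F := k) (K := IntermediateField.adjoin k ({β} : Set K'))
    inferInstance (IntermediateField.AdjoinSimple.gen k β)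
  rw [IntermediateField.minpoly_gen, ← hmin] at hsplit0
  have hsplit1 : (f.map (algebraMap k K')).Splits := by
    have := hsplit0.map (algebraMap (IntermediateField.adjoin k ({β} : Set K')) K')
    rwa [Polynomial.map_map, ← IsScalarTower.algebraMap_eq] at this
  have hsplit : ((f.map (algebraMap k K)).map (algebraMap K K')).Splits := by
    rw [Polynomial.map_map, ← IsScalarTower.algebraMap_eq]
    exact hsplit1
  haveI : IsSplittingField K K' (f.map (algebraMap k K)) := by
    refine ⟨hsplit, ?_⟩
    rw [eq_top_iff, ← hgen]
    apply Algebra.adjoin_mono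
    intro x hx
    rw [Set.mem_singleton_iff] at hx
    rw [hx, mem_rootSet]
    refine ⟨(hm.map _).ne_zero, ?_⟩
    rw [aeval_map_algebraMap]
    exact hβ
  exact IsGalois.of_separable_splitting_field (p := f.map (algebraMap k K)) hsep.map

end Gal

section Decomp

variable {k : Type u} {K : Type v} {K' : Type v} [Field k] [Field K] [Field K'] [Algebra k K]
  [Algebra K K'] [Algebra k K'] [IsScalarTower k K K']

theorem Place.val_eq_one_of_isAlgebraic (Q : Place k K') {c : K'} (hc : IsAlgebraic k c)
    (hc0 : c ≠ 0) : Q.1 c = 1 := by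
  apply le_antisymm (Place.val_le_one_of_isAlgebraic Q hc)
  have h2 := Place.val_le_one_of_isAlgebraic Q hc.inv
  rw [map_inv₀] at h2
  have h0 : Q.1 c ≠ 0 := (Valuation.ne_zero_iff _).2 hc0
  exact (inv_le_one₀ (zero_lt_iff.2 h0)).1 h2

/-- Elements of the residue field at `Q` fixed by the `|κ(P)|`-th power map come from `κ(P)`. -/
theorem mem_range_mapRes_of_pow_eq [Finite k] (hK : IsFunctionField k K) {P : Place k K}
    {Q : Place k K'} (hQP : IsOver Q P) (y : IsLocalRing.ResidueField Q.O)
    (hy : y ^ (Nat.card k) ^ P.deg = y) : y ∈ Set.range (Place.mapRes hQP) := by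
  classical
  have hfd := Place.finiteDimensional_residueField hK P
  haveI hfd' : @Module.Finite k (IsLocalRing.ResidueField P.O) _ _ (Place.algRes P).toModule := hfd
  haveI : Finite (IsLocalRing.ResidueField P.O) := Module.finite_of_finite k
  haveI : Fintype (IsLocalRing.ResidueField P.O) := Fintype.ofFinite _
  have hcard : Fintype.card (IsLocalRing.ResidueField P.O) = Nat.card k ^ P.deg := by
    rw [Fintype.card_eq_nat_card]
    exact Module.natCard_eq_pow_finrank (K := k) (V := IsLocalRing.ResidueField P.O)
  have hq : 2 ≤ Nat.card k := Finite.one_lt_card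
  have hd : 0 < P.deg := Place.deg_pos hK P
  have hN : 1 < Nat.card k ^ P.deg := Nat.one_lt_pow hd.ne' hq
  set N := Nat.card k ^ P.deg with hNdef
  set R : (IsLocalRing.ResidueField Q.O)[X] := X ^ N - X with hR
  have hR0 : R ≠ 0 := FiniteField.X_pow_card_sub_X_ne_zero _ hN
  have hRdeg : R.natDegree = N := FiniteField.X_pow_card_sub_X_natDegree_eq _ hN
  have hinj : Function.Injective (Place.mapRes hQP) := (Place.mapRes hQP).injective
  have hsub : Finset.univ.image (Place.mapRes hQP) ⊆ R.roots.toFinset := by
    intro z hz
    obtain ⟨x, -, rfl⟩ := Finset.mem_image.1 hz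
    rw [Multiset.mem_toFinset, mem_roots hR0, IsRoot.def, hR, eval_sub, eval_pow, eval_X,
      ← map_pow, ← hcard, FiniteField.pow_card, sub_self]
  have hcardle : R.roots.toFinset.card ≤ (Finset.univ.image (Place.mapRes hQP)).card := by
    rw [Finset.card_image_of_injective _ hinj, Finset.card_univ, hcard]
    calc R.roots.toFinset.card ≤ R.roots.card := Multiset.toFinset_card_le _
      _ ≤ R.natDegree := card_roots' R
      _ = N := hRdeg
  have heq := Finset.eq_of_subset_of_card_le hsub hcardle
  have hyR : y ∈ R.roots.toFinset := by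
    rw [Multiset.mem_toFinset, mem_roots hR0, IsRoot.def, hR, eval_sub, eval_pow, eval_X, hy,
      sub_self]
  rw [← heq] at hyR
  obtain ⟨x, -, hx⟩ := Finset.mem_image.1 hyR
  exact ⟨x, hx⟩

/-- In a constant field extension by a root of an irreducible polynomial of degree dividing
`deg P`, the decomposition groups over `P` are trivial. -/
theorem decomposition_eq_bot [Finite k] [FiniteDimensional K K'] [IsGalois K K']
    (hK : IsFunctionField k K) {f : k[X]} (hirr : Irreducible f)
    (hsep : f.Separable) {β : K'} (hβ : aeval β f = 0)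
    (hgen : IntermediateField.adjoin K ({β} : Set K') = ⊤) {P : Place k K} {Q : Place k K'}
    (hQP : IsOver Q P) (hdvd : f.natDegree ∣ P.deg) :
    (Q.O).decompositionSubgroup K = ⊥ := by
  rw [Subgroup.eq_bot_iff_forall]
  intro σ hσ
  have hf0 : f ≠ 0 := hirr.ne_zero
  have hβalg : IsAlgebraic k β := ⟨f, hf0, hβ⟩
  have hβ1 : Q.1 β ≤ 1 := Place.val_le_one_of_isAlgebraic Q hβalg
  obtain ⟨βO, hβO⟩ : ∃ b : Q.O, b = ⟨β, hβ1⟩ := ⟨_, rfl⟩
  have hβOroot : aeval βO f = 0 := by
    apply Subtype.ext
    rw [Place.coe_aeval, hβO]
    exact hβ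
  -- the residue class of `β` comes from the residue field of `P`
  have hpow : (IsLocalRing.residue Q.O βO) ^ (Nat.card k) ^ P.deg = IsLocalRing.residue Q.O βO := by
    have h1 := (hirr.natDegree_dvd_iff_dvd_X_pow_card_pow_sub_X (n := P.deg)).1 hdvd
    obtain ⟨g, hg⟩ := h1
    have h2 := congrArg (aeval (IsLocalRing.residue Q.O βO)) hg
    have hrf : aeval (IsLocalRing.residue Q.O βO) f = 0 := by
      rw [← Place.residue_aeval, hβOroot, map_zero]
    rw [map_mul, hrf, zero_mul, map_sub, map_pow, aeval_X, sub_eq_zero] at h2
    exact h2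
  obtain ⟨xb, hxb⟩ := mem_range_mapRes_of_pow_eq hK hQP _ hpow
  obtain ⟨a, rfl⟩ := IsLocalRing.residue_surjective xb
  rw [Place.mapRes_residue] at hxb
  have hlt : Q.1 (β - algebraMap K K' (a : K)) < 1 := by
    have := val_sub_lt_of_residue_eq Q hβ1 (Place.mapO hQP a).2 (by rw [← hβO]; exact hxb.symm)
    exact this
  -- so `σ` moves `β` by something small
  have hσβ : Q.1 (σ β - β) < 1 := by
    have e1 : σ β - β = σ (β - algebraMap K K' (a : K)) - (β - algebraMap K K' (a : K)) := by
      rw [map_sub, AlgEquiv.commutes]
      ring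
    rw [e1]
    refine lt_of_le_of_lt (Valuation.map_sub _ _ _) (max_lt ?_ hlt)
    rw [val_apply_of_mem_decomposition Q hσ]
    exact hlt
  -- hence fixes it
  have hfix : σ β = β := by
    by_contra hne
    have hγ : aeval (σ β) f = 0 := by
      have := Polynomial.aeval_algHom_apply ((σ : K' →ₐ[K] K').restrictScalars k) β f
      rw [hβ, map_zero] at this
      exact this
    have hγ1 : Q.1 (σ β) ≤ 1 := Place.val_le_one_of_isAlgebraic Q ⟨f, hf0, hγ⟩
    obtain ⟨γO, hγO⟩ : ∃ b : Q.O, b = ⟨σ β, hγ1⟩ := ⟨_, rfl⟩
    have hγOroot : aeval γO f = 0 := by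
      apply Subtype.ext
      rw [Place.coe_aeval, hγO]
      exact hγ
    obtain ⟨c, hc⟩ := Polynomial.binomExpansion (f.map (algebraMap k Q.O)) βO (γO - βO)
    rw [add_sub_cancel, eval_map_algebraMap, eval_map_algebraMap, hγOroot, hβOroot, zero_add,
      derivative_map, eval_map_algebraMap] at hc
    have hδ0 : γO - βO ≠ 0 := by
      intro h
      apply hne
      have := congrArg Subtype.val (sub_eq_zero.1 h)
      rw [hγO, hβO] at this
      exact this
    have hder : aeval βO (derivative f) = -(c * (γO - βO)) := by
      have h1 : (aeval βO (derivative f) + c * (γO - βO)) * (γO - βO) = 0 := by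
        rw [add_mul, mul_assoc, ← sq]
        exact hc.symm
      rcases mul_eq_zero.1 h1 with h2 | h2
      · exact eq_neg_of_add_eq_zero_left h2
      · exact absurd h2 hδ0
    have hval : Q.1 (aeval β (derivative f)) < 1 := by
      have e1 : aeval β (derivative f) = ((aeval βO (derivative f) : Q.O) : K') := by
        rw [Place.coe_aeval, hβO]
      rw [e1, hder]
      push_cast
      rw [Valuation.map_neg, map_mul]
      have e2 : ((γO : K') - (βO : K')) = σ β - β := by rw [hγO, hβO]
      rw [e2]
      calc Q.1 (c : K') * Q.1 (σ β - β) ≤ 1 * Q.1 (σ β - β) := mul_le_mul' c.2 le_rfl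
        _ < 1 := by rw [one_mul]; exact hσβ
    have hne0 : aeval β (derivative f) ≠ 0 := hsep.aeval_derivative_ne_zero hβ
    have halg : IsAlgebraic k (aeval β (derivative f)) := by
      have h1 : aeval β (derivative f) ∈ Algebra.adjoin k ({β} : Set K') :=
        aeval_mem_adjoin_singleton _ _
      have h2 : Algebra.adjoin k ({β} : Set K') ≤ integralClosure k K' :=
        Algebra.adjoin_le (Set.singleton_subset_iff.2 hβalg.isIntegral)
      exact (h2 h1 : IsIntegral k _).isAlgebraic
    rw [Place.val_eq_one_of_isAlgebraic Q halg hne0] at hval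
    exact lt_irrefl _ hval
  have hinj := Hilb.apply_injective_of_adjoin_eq_top hgen
  apply hinj
  show σ β = (1 : K' ≃ₐ[K] K') β
  rw [hfix, AlgEquiv.one_apply]

/-- A place whose degree is divisible by the degree of the constant field extension splits
completely. -/
theorem splits_completely [Finite k] [FiniteDimensional K K'] [IsGalois K K']
    (hK : IsFunctionField k K) {f : k[X]} (hirr : Irreducible f)
    (hsep : f.Separable) {β : K'} (hβ : aeval β f = 0)
    (hgen : IntermediateField.adjoin K ({β} : Set K') = ⊤) {P : Place k K}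
    (hdvd : f.natDegree ∣ P.deg) :
    Nat.card {Q : Place k K' // IsOver Q P} = Module.finrank K K' ∧
      ∀ Q : Place k K', IsOver Q P → IsOverWith Q P 1 ∧ Q.deg = P.deg := by
  obtain ⟨Q₀, hQ₀⟩ := exists_place_over (E := K') hK P
  constructor
  · have h1 := card_places_mul_card_decomposition (k := k) hQ₀
    rw [decomposition_eq_bot hK hirr hsep hβ hgen hQ₀ hdvd, Subgroup.card_bot, mul_one] at h1
    exact h1
  · intro Q hQ
    obtain ⟨e, he⟩ := hQ
    have h1 := card_decomposition_mul_deg hK he
    rw [decomposition_eq_bot hK hirr hsep hβ hgen ⟨e, he⟩ hdvd, Subgroup.card_bot, one_mul] at h1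
    have h2 := Place.deg_le_of_isOver hK (Q := Q) ⟨e, he⟩
    have h3 := isOverWith_pos he
    have h4 := Place.deg_pos hK P
    have he1 : e = 1 := by nlinarith
    subst he1
    exact ⟨he, by omega⟩

end Decomp

end Groth.Agent.Lib.helper10.Zeta
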