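import Mathlib
import Groth.Agent.Lib.Helper10.Zeta2
import Groth.Agent.Lib.Helper10.RH1

/-!
# Zeta functions (helper10), part 3: lifting divisors along sections of the places, and the
growth comparison giving F. K. Schmidt's theorem
-/

set_option autoImplicit false
set_option linter.style.haveILetI false
set_option linter.unusedSectionVars false
set_option linter.unusedVariables false

universe u v w

open FunFld Polynomial

namespace Groth.Agent.Lib.helper10.Zeta

open FF RD PA

section Lift

variable {k : Type u} {K : Type v} {K' : Type w} [Field k] [Field K] [Field K'] [Algebra k K]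
  [Algebra K K'] [Algebra k K'] [IsScalarTower k K K']

theorem eq_of_isOver {Q : Place k K'} {P P' : Place k K} (h : IsOver Q P) (h' : IsOver Q P') :
    P = P' := by
  apply Place.eq_of_O_le
  intro z hz
  obtain ⟨e, he⟩ := h
  obtain ⟨e', he'⟩ := h'
  have h1 : Q.1 (algebraMap K K' z) ≤ 1 := by
    rw [he]
    exact pow_le_one' hz e
  exact val_le_one_of_isOverWith he' h1

/-- A section of the places of the extension over the places of the base. -/
structure IsSection (s : Place k K → Place k K') : Prop where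
  isOver : ∀ P, IsOverWith (s P) P 1
  deg_eq : ∀ P, (s P).deg = P.deg

theorem IsSection.injective {s : Place k K → Place k K'} (hs : IsSection s) :
    Function.Injective s := by
  intro P P' h
  have h2 : IsOver (s P) P' := by
    rw [h]
    exact ⟨1, hs.isOver P'⟩
  exact eq_of_isOver ⟨1, hs.isOver P⟩ h2

/-- Lift a divisor along a section. -/
noncomputable def lift (s : Place k K → Place k K') (D : Divisor k K) : Divisor k K' :=
  Finsupp.mapDomain s D

theorem lift_apply_same {s : Place k K → Place k K'} (hs : IsSection s) (D : Divisor k K)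
    (P : Place k K) : lift s D (s P) = D P :=
  Finsupp.mapDomain_apply hs.injective D P

theorem lift_apply_of_notMem {s : Place k K → Place k K'} (D : Divisor k K)
    {Q : Place k K'} (hQ : Q ∉ Set.range s) : lift s D Q = 0 :=
  Finsupp.mapDomain_of_notMem_range D Q hQ

theorem lift_nonneg {s : Place k K → Place k K'} (hs : IsSection s) {D : Divisor k K}
    (hD : 0 ≤ D) : 0 ≤ lift s D := by
  intro Q
  by_cases hQ : Q ∈ Set.range s
  · obtain ⟨P, rfl⟩ := hQ
    rw [lift_apply_same hs]
    exact hD P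
  · rw [lift_apply_of_notMem D hQ]
    exact le_rfl

theorem deg_lift {s : Place k K → Place k K'} (hs : IsSection s) (D : Divisor k K) :
    (lift s D).deg = D.deg := by
  unfold Divisor.deg lift
  rw [Finsupp.sum_mapDomain_index (fun _ => zero_mul _) (fun _ _ _ => add_mul _ _ _)]
  apply Finsupp.sum_congr
  intro P _
  rw [hs.deg_eq P]

/-- Two disjoint sections give an injection of pairs of divisors. -/
theorem lift_add_lift_injective {s₁ s₂ : Place k K → Place k K'} (h₁ : IsSection s₁)
    (h₂ : IsSection s₂) (hne : ∀ P, s₁ P ≠ s₂ P) {D₁ D₂ E₁ E₂ : Divisor k K}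
    (h : lift s₁ D₁ + lift s₂ D₂ = lift s₁ E₁ + lift s₂ E₂) : D₁ = E₁ ∧ D₂ = E₂ := by
  have hdisj : ∀ P P', s₁ P ≠ s₂ P' := by
    intro P P' heq
    have h3 : IsOver (s₁ P) P' := by
      rw [heq]
      exact ⟨1, h₂.isOver P'⟩
    have : P = P' := eq_of_isOver ⟨1, h₁.isOver P⟩ h3
    subst this
    exact hne P heq
  constructor
  · ext P
    have := congrArg (fun D : Divisor k K' => D (s₁ P)) h
    simp only [Finsupp.add_apply] at this
    rw [lift_apply_same h₁, lift_apply_same h₁,
      lift_apply_of_notMem D₂ (fun ⟨P', hP'⟩ => hdisj P P' hP'.symm),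
      lift_apply_of_notMem E₂ (fun ⟨P', hP'⟩ => hdisj P P' hP'.symm), add_zero, add_zero] at this
    exact this
  · ext P
    have := congrArg (fun D : Divisor k K' => D (s₂ P)) h
    simp only [Finsupp.add_apply] at this
    rw [lift_apply_same h₂, lift_apply_same h₂,
      lift_apply_of_notMem D₁ (fun ⟨P', hP'⟩ => hdisj P' P hP'),
      lift_apply_of_notMem E₁ (fun ⟨P', hP'⟩ => hdisj P' P hP'), zero_add, zero_add] at this
    exact this

end Lift

section Count

variable {k : Type u} {K : Type v} {K' : Type w} [Field k] [Field K] [Field K'] [Algebra k K]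
  [Algebra K K'] [Algebra k K'] [IsScalarTower k K K']

/-- Counting pairs of effective divisors of the base inside the effective divisors of the
extension. -/
theorem sum_card_le {s₁ s₂ : Place k K → Place k K'} (h₁ : IsSection s₁) (h₂ : IsSection s₂)
    (hne : ∀ P, s₁ P ≠ s₂ P) {N : ℕ} [Finite (Eff k K' N)] [∀ n, Finite (Eff k K n)]
    {d : ℕ} (hd : 0 < d) (J : Finset ℕ) (hJ : ∀ j ∈ J, d * j ≤ N) :
    ∑ j ∈ J, Nat.card (Eff k K (d * j)) * Nat.card (Eff k K (N - d * j)) ≤
      Nat.card (Eff k K' N) := by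
  classical
  let Ψ : (Σ j : J, Eff k K (d * j.1) × Eff k K (N - d * j.1)) → Eff k K' N := fun x =>
    ⟨lift s₁ x.2.1.1 + lift s₂ x.2.2.1,
      add_nonneg (lift_nonneg h₁ x.2.1.2.1) (lift_nonneg h₂ x.2.2.2.1), by
        rw [deg_add, deg_lift h₁, deg_lift h₂, x.2.1.2.2, x.2.2.2.2,
          Nat.cast_sub (hJ x.1.1 x.1.2)]
        ring⟩
  have hinj : Function.Injective Ψ := by
    rintro ⟨j, D₁, D₂⟩ ⟨j', E₁, E₂⟩ h
    have h0 := congrArg Subtype.val h
    obtain ⟨e1, e2⟩ := lift_add_lift_injective h₁ h₂ hne h0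
    have hj : j = j' := by
      apply Subtype.ext
      have a1 := D₁.2.2
      have a2 := E₁.2.2
      have e1' : D₁.1 = E₁.1 := e1
      rw [e1', a2] at a1
      have : d * j'.1 = d * j.1 := by exact_mod_cast a1
      exact (Nat.eq_of_mul_eq_mul_left hd this).symm
    subst hj
    have e1' : D₁ = E₁ := Subtype.ext e1
    have e2' : D₂ = E₂ := Subtype.ext e2
    rw [e1', e2']
  have hle := Nat.card_le_card_of_injective Ψ hinj
  rw [Nat.card_sigma] at hle
  simp only [Nat.card_prod] at hle
  rw [← Finset.sum_coe_sort J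
    (fun j => Nat.card (Eff k K (d * j)) * Nat.card (Eff k K (N - d * j)))]
  exact hle

end Count

section Bounds

variable {k : Type u} {K : Type v} [Field k] [Field K] [Algebra k K]

theorem classNum_pos [Finite k] (hK : IsFunctionField k K) : 0 < classNum k K := by
  haveI := finite_pic0 hK
  unfold classNum
  exact Nat.card_pos

/-- Lower bound for the number of effective divisors of a large degree that occurs. -/
theorem pow_le_card_eff [Finite k] (hK : IsFunctionField k K) {n : ℕ}
    (hn : 2 * genus k K ≤ n) (D₀ : Divisor k K) (hD₀ : D₀.deg = n) :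
    Nat.card k ^ (n - genus k K) ≤ Nat.card (Eff k K n) := by
  have h1 := card_eff_mul hK (by omega : 2 * genus k K ≤ n + 1) D₀ hD₀
  have hq : 2 ≤ Nat.card k := Finite.one_lt_card
  have hh := classNum_pos hK
  have e1 : n + 1 - genus k K = (n - genus k K) + 1 := by omega
  rw [e1] at h1
  have hqz : (2 : ℤ) ≤ (Nat.card k : ℤ) := by exact_mod_cast hq
  have hhz : (1 : ℤ) ≤ (classNum k K : ℤ) := by exact_mod_cast hh
  have hpow : (1 : ℤ) ≤ (Nat.card k : ℤ) ^ (n - genus k K) := one_le_pow₀ (by linarith)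
  have key : ((Nat.card k : ℤ) - 1) * (Nat.card k : ℤ) ^ (n - genus k K) ≤
      ((Nat.card k : ℤ) - 1) * (effDivCount k K n : ℤ) := by
    rw [h1]
    have : ((Nat.card k : ℤ) - 1) * (Nat.card k : ℤ) ^ (n - genus k K) ≤
        (Nat.card k : ℤ) ^ (n - genus k K + 1) - 1 := by
      rw [pow_succ]
      nlinarith
    refine le_trans this ?_
    have h0 : (0 : ℤ) ≤ (Nat.card k : ℤ) ^ (n - genus k K + 1) - 1 := by
      have : (1 : ℤ) ≤ (Nat.card k : ℤ) ^ (n - genus k K + 1) := one_le_pow₀ (by linarith)
      linarith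
    nlinarith
  have h2 := le_of_mul_le_mul_left key (by linarith)
  unfold effDivCount at h2
  exact_mod_cast h2

end Bounds

section Upper

variable {k : Type u} {K : Type v} {K' : Type w} [Field k] [Field K] [Field K'] [Algebra k K]
  [Algebra K K'] [Algebra k K'] [IsScalarTower k K K']

/-- Pull a divisor of `K'/k` back to a divisor of `K'/k'` (any universes). -/
noncomputable def upDivG {k' : Type*} [Field k'] [Algebra k k'] [Algebra k' K']
    [IsScalarTower k k' K'] (D : Divisor k K') : Divisor k' K' :=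
  Finsupp.comapDomain (Place.down (k := k)) D (Place.down_injective.injOn)

theorem upDivG_apply {k' : Type*} [Field k'] [Algebra k k'] [Algebra k' K']
    [IsScalarTower k k' K'] (D : Divisor k K') (Q : Place k' K') :
    upDivG D Q = D (Place.down (k := k) Q) := rfl

theorem deg_upDivG {k' : Type*} [Field k'] [Algebra k k'] [Algebra k' K']
    [IsScalarTower k k' K'] [FiniteDimensional k k'] (D : Divisor k K') :
    (Module.finrank k k' : ℤ) * (upDivG (k' := k') D).deg = D.deg := by
  unfold Divisor.deg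
  have hbij : Set.BijOn (Place.down (k := k) (k₁ := k') (E := K'))
      (Place.down (k := k) (k₁ := k') (E := K') ⁻¹' ↑D.support) ↑D.support := by
    refine ⟨fun x hx => hx, Place.down_injective.injOn, fun y hy => ?_⟩
    exact ⟨Place.up (k₁ := k') y, by simpa [Place.down_up] using hy, Place.down_up y⟩
  have h1 := Finsupp.sum_comapDomain (Place.down (k := k) (k₁ := k') (E := K')) D
    (fun Q₀ n => n * (Q₀.deg : ℤ)) hbij
  rw [← h1]
  unfold upDivG
  rw [Finsupp.mul_sum]
  apply Finsupp.sum_congr
  intro Q _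
  simp only [Function.comp]
  rw [Place.deg_down]
  push_cast
  ring

theorem upDivG_injective {k' : Type*} [Field k'] [Algebra k k'] [Algebra k' K']
    [IsScalarTower k k' K'] [Algebra.IsAlgebraic k k'] :
    Function.Injective (upDivG (k := k) (k' := k') (K' := K')) := by
  intro D E h
  ext Q₀
  have := congrArg (fun D : Divisor k' K' => D (Place.up (k₁ := k') Q₀)) h
  simp only [upDivG_apply, Place.down_up] at this
  exact this

/-- Upper bound for the number of effective divisors of the extension, counted by degree over the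
small constant field. -/
theorem exists_card_eff_le [Finite k] [FiniteDimensional K K'] (hK : IsFunctionField k K) :
    ∃ C N₀ : ℕ, ∀ N : ℕ, N₀ ≤ N →
      Finite (Eff k K' N) ∧ Nat.card (Eff k K' N) ≤ C * Nat.card k ^ N := by
  classical
  have hE := isFunctionField_algebraicClosure' (E := K') hK
  obtain ⟨Q₁⟩ := exists_place hE
  have hr : 0 < Module.finrank k (algebraicClosure k K') := by
    have h1 := Place.deg_down (k := k) Q₁
    have h2 := Place.deg_pos' hK (Place.down (k := k) Q₁)
    rw [h1] at h2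
    exact Nat.pos_of_mul_pos_right h2
  haveI : FiniteDimensional k (algebraicClosure k K') := Module.finite_of_finrank_pos hr
  haveI : Finite (algebraicClosure k K') := Module.finite_of_finite k
  obtain ⟨r, hrdef⟩ : ∃ r, r = Module.finrank k (algebraicClosure k K') := ⟨_, rfl⟩
  have hq₁ : Nat.card (algebraicClosure k K') = Nat.card k ^ r := by
    rw [hrdef]
    exact Module.natCard_eq_pow_finrank (K := k) (V := algebraicClosure k K')
  have hq₁2 : 2 ≤ Nat.card (algebraicClosure k K') := Finite.one_lt_card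
  refine ⟨classNum (algebraicClosure k K') K' * Nat.card (algebraicClosure k K'),
    r * (2 * genus (algebraicClosure k K') K'), fun N hN => ?_⟩
  by_cases hemp : IsEmpty (Eff k K' N)
  · refine ⟨inferInstance, ?_⟩
    rw [Nat.card_of_isEmpty]
    exact Nat.zero_le _
  rw [not_isEmpty_iff] at hemp
  obtain ⟨D₀⟩ := hemp
  have hdeg : ∀ D : Eff k K' N, (r : ℤ) * (upDivG (k' := algebraicClosure k K') D.1).deg = N := by
    intro D
    rw [hrdef, deg_upDivG, D.2.2]
  have hnn : ∀ D : Eff k K' N, 0 ≤ upDivG (k' := algebraicClosure k K') D.1 := by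
    intro D Q
    rw [upDivG_apply]
    exact D.2.1 _
  obtain ⟨m, hm⟩ : ∃ m : ℕ, (upDivG (k' := algebraicClosure k K') D₀.1).deg = m :=
    ⟨_, (Int.toNat_of_nonneg (deg_nonneg (hnn D₀))).symm⟩
  have hrm : r * m = N := by
    have := hdeg D₀
    rw [hm] at this
    exact_mod_cast this
  have hdegm : ∀ D : Eff k K' N, (upDivG (k' := algebraicClosure k K') D.1).deg = m := by
    intro D
    have h1 := hdeg D
    have h2 := hdeg D₀
    rw [hm] at h2
    have hr' : (r : ℤ) ≠ 0 := by
      rw [hrdef]
      exact_mod_cast hr.ne'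
    exact mul_left_cancel₀ hr' (h1.trans h2.symm)
  let ι : Eff k K' N → Eff (algebraicClosure k K') K' m := fun D =>
    ⟨upDivG D.1, hnn D, hdegm D⟩
  have hι : Function.Injective ι := by
    intro D E h
    apply Subtype.ext
    exact upDivG_injective (congrArg Subtype.val h)
  haveI : Finite (Eff (algebraicClosure k K') K' m) := (finite_effDiv hE m).to_subtype
  haveI : Finite (Eff k K' N) := Finite.of_injective ι hι
  refine ⟨inferInstance, ?_⟩
  have hle := Nat.card_le_card_of_injective ι hι
  refine le_trans hle ?_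
  have hm2 : 2 * genus (algebraicClosure k K') K' ≤ m := by
    have : r * (2 * genus (algebraicClosure k K') K') ≤ r * m := by rw [hrm]; exact hN
    rw [hrdef] at this
    exact Nat.le_of_mul_le_mul_left this hr
  have h1 := card_eff_mul hE (by omega : 2 * genus (algebraicClosure k K') K' ≤ m + 1)
    (upDivG D₀.1) hm
  -- (q₁ - 1) a'(m) = h' (q₁^(m+1-g') - 1) ≤ h' q₁^(m+1)
  have hq₁z : (2 : ℤ) ≤ (Nat.card (algebraicClosure k K') : ℤ) := by exact_mod_cast hq₁2
  have hpowle : (Nat.card (algebraicClosure k K') : ℤ) ^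
      (m + 1 - genus (algebraicClosure k K') K') ≤
      (Nat.card (algebraicClosure k K') : ℤ) ^ (m + 1) :=
    pow_le_pow_right₀ (by linarith) (Nat.sub_le _ _)
  have hh0 : (0 : ℤ) ≤ (classNum (algebraicClosure k K') K' : ℤ) := Nat.cast_nonneg _
  have ha0 : (0 : ℤ) ≤ (effDivCount (algebraicClosure k K') K' m : ℤ) := Nat.cast_nonneg _
  have hfin : (effDivCount (algebraicClosure k K') K' m : ℤ) ≤
      (classNum (algebraicClosure k K') K' : ℤ) *
        (Nat.card (algebraicClosure k K') : ℤ) ^ (m + 1) := by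
    have e1 : (effDivCount (algebraicClosure k K') K' m : ℤ) ≤
        ((Nat.card (algebraicClosure k K') : ℤ) - 1) *
          (effDivCount (algebraicClosure k K') K' m : ℤ) := by nlinarith
    rw [h1] at e1
    refine le_trans e1 ?_
    have : (Nat.card (algebraicClosure k K') : ℤ) ^ (m + 1 - genus (algebraicClosure k K') K') - 1
        ≤ (Nat.card (algebraicClosure k K') : ℤ) ^ (m + 1) := by linarith
    exact mul_le_mul_of_nonneg_left this hh0
  have hfinN : effDivCount (algebraicClosure k K') K' m ≤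
      classNum (algebraicClosure k K') K' * Nat.card (algebraicClosure k K') ^ (m + 1) := by
    exact_mod_cast hfin
  show effDivCount (algebraicClosure k K') K' m ≤ _
  refine le_trans hfinN ?_
  rw [pow_succ, hq₁, ← pow_mul, hrm]
  apply le_of_eq
  ring

end Upper

section Final

variable {k : Type u} {K : Type v} {K' : Type w} [Field k] [Field K] [Field K'] [Algebra k K]
  [Algebra K K'] [Algebra k K'] [IsScalarTower k K K']

/-- The growth comparison: a finite extension in which every place has two distinct unramified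
places of the same degree above it cannot exist, when the degrees of the divisors of the base are
the multiples of `d`. -/
theorem false_of_two_sections [Finite k] [FiniteDimensional K K'] (hK : IsFunctionField k K)
    {d : ℕ} (hd : 0 < d) (hdeg : ∀ n : ℕ, d ∣ n → ∃ D : Divisor k K, D.deg = n)
    {s₁ s₂ : Place k K → Place k K'} (h₁ : IsSection s₁) (h₂ : IsSection s₂)
    (hne : ∀ P, s₁ P ≠ s₂ P) : False := by
  classical
  obtain ⟨C, N₀, hC⟩ := exists_card_eff_le (K' := K') hK
  obtain ⟨g, hg⟩ : ∃ g, g = genus k K := ⟨_, rfl⟩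
  obtain ⟨q, hqdef⟩ : ∃ q, q = Nat.card k := ⟨_, rfl⟩
  have hq : 2 ≤ q := by rw [hqdef]; exact Finite.one_lt_card
  obtain ⟨B, hB⟩ : ∃ B, B = C * q ^ (2 * g) := ⟨_, rfl⟩
  obtain ⟨M, hM⟩ : ∃ M, M = 4 * g + B + N₀ + 1 := ⟨_, rfl⟩
  obtain ⟨N, hN⟩ : ∃ N, N = d * M := ⟨_, rfl⟩
  have hMN : M ≤ N := by rw [hN]; exact Nat.le_mul_of_pos_left M hd
  have hN₀ : N₀ ≤ N := by omega
  obtain ⟨hfin, hle⟩ := hC N hN₀
  haveI := hfin
  haveI : ∀ n, Finite (Eff k K n) := fun n => (finite_effDiv hK n).to_subtype
  obtain ⟨J, hJdef⟩ : ∃ J : Finset ℕ, J = Finset.Icc (2 * g) (M - 2 * g) := ⟨_, rfl⟩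
  have hJmem : ∀ j ∈ J, 2 * g ≤ j ∧ j ≤ M - 2 * g := by
    intro j hj
    rw [hJdef] at hj
    exact Finset.mem_Icc.1 hj
  have hJ : ∀ j ∈ J, d * j ≤ N := by
    intro j hj
    rw [hN]
    exact Nat.mul_le_mul_left d (le_trans (hJmem j hj).2 (Nat.sub_le _ _))
  have hsum := sum_card_le h₁ h₂ hne hd J hJ
  have hterm : ∀ j ∈ J, q ^ (N - 2 * g) ≤
      Nat.card (Eff k K (d * j)) * Nat.card (Eff k K (N - d * j)) := by
    intro j hj
    obtain ⟨hj1, hj2⟩ := hJmem j hj
    have hjd : j ≤ d * j := Nat.le_mul_of_pos_left j hd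
    have e1 : 2 * g ≤ d * j := le_trans hj1 hjd
    have e3 : N - d * j = d * (M - j) := by rw [hN, Nat.mul_sub]
    have e4 : 2 * g ≤ M - j := by omega
    have e2 : 2 * g ≤ N - d * j := by
      rw [e3]
      exact le_trans e4 (Nat.le_mul_of_pos_left _ hd)
    obtain ⟨D₁, hD₁⟩ := hdeg (d * j) (dvd_mul_right d j)
    obtain ⟨D₂, hD₂⟩ := hdeg (N - d * j) (by rw [e3]; exact dvd_mul_right d _)
    have b1 := pow_le_card_eff hK (by rw [← hg]; exact e1) D₁ hD₁
    have b2 := pow_le_card_eff hK (by rw [← hg]; exact e2) D₂ hD₂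
    rw [← hqdef, ← hg] at b1 b2
    have hdj := hJ j hj
    calc q ^ (N - 2 * g) = q ^ (d * j - g) * q ^ (N - d * j - g) := by
          rw [← pow_add]
          congr 1
          omega
      _ ≤ _ := Nat.mul_le_mul b1 b2
  have hlow : J.card * q ^ (N - 2 * g) ≤
      ∑ j ∈ J, Nat.card (Eff k K (d * j)) * Nat.card (Eff k K (N - d * j)) := by
    rw [← smul_eq_mul, ← Finset.sum_const]
    exact Finset.sum_le_sum hterm
  have hJcard : J.card = M - 2 * g + 1 - 2 * g := by
    rw [hJdef, Nat.card_Icc]
  have h2gN : 2 * g ≤ N := by omega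
  have hchain : J.card * q ^ (N - 2 * g) ≤ B * q ^ (N - 2 * g) := by
    calc J.card * q ^ (N - 2 * g) ≤ _ := hlow
      _ ≤ Nat.card (Eff k K' N) := hsum
      _ ≤ C * Nat.card k ^ N := hle
      _ = B * q ^ (N - 2 * g) := by
          rw [hB, mul_assoc, ← pow_add, ← hqdef]
          congr 2
          omega
  have hqpos : 0 < q ^ (N - 2 * g) := pow_pos (by omega) _
  have hfinal := Nat.le_of_mul_le_mul_right hchain hqpos
  omega

end Final

section Schmidt

variable {k : Type u} {K : Type v} [Field k] [Field K] [Algebra k K]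

/-- **F. K. Schmidt**: over a finite constant field there are divisors of degree one. -/
theorem deg_surjective [Finite k] (hK : IsFunctionField k K) :
    Function.Surjective (Divisor.deg : Divisor k K → ℤ) := by
  classical
  obtain ⟨P₀⟩ := exists_place hK
  have hex : ∃ n : ℕ, 0 < n ∧ ∃ D : Divisor k K, D.deg = n :=
    ⟨P₀.deg, Place.deg_pos hK P₀, Finsupp.single P₀ 1, by rw [deg_single, one_mul]⟩
  obtain ⟨d, hddef⟩ : ∃ d, d = Nat.find hex := ⟨_, rfl⟩
  obtain ⟨hd, D₁, hD₁⟩ : 0 < d ∧ ∃ D : Divisor k K, D.deg = d := by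
    rw [hddef]
    exact Nat.find_spec hex
  have hmin : ∀ n : ℕ, 0 < n → (∃ D : Divisor k K, D.deg = n) → d ≤ n := by
    intro n hn h
    rw [hddef]
    exact Nat.find_min' hex ⟨hn, h⟩
  have hdz : (0 : ℤ) < d := by exact_mod_cast hd
  have hdvd : ∀ D : Divisor k K, (d : ℤ) ∣ D.deg := by
    intro D
    by_contra hnd
    have hr : 0 < D.deg % d := (Int.emod_pos_of_not_dvd hnd).resolve_left hdz.ne'
    have hr2 : D.deg % d < d := Int.emod_lt_of_pos _ hdz
    have h3 := hmin (D.deg % d).toNat (by omega) ⟨D - (D.deg / d) • D₁, by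
      rw [deg_sub, deg_zsmul, hD₁, Int.toNat_of_nonneg hr.le]
      have := Int.emod_add_mul_ediv (D.deg) d
      linarith⟩
    omega
  by_cases hd1 : d = 1
  · intro n
    refine ⟨n • D₁, ?_⟩
    rw [deg_zsmul, hD₁, hd1]
    simp
  exfalso
  have hd2 : 2 ≤ d := by omega
  have hdeg : ∀ n : ℕ, d ∣ n → ∃ D : Divisor k K, D.deg = n := by
    rintro n ⟨m, rfl⟩
    refine ⟨(m : ℤ) • D₁, ?_⟩
    rw [deg_zsmul, hD₁]
    push_cast
    ring
  have hdvdP : ∀ P : Place k K, d ∣ P.deg := by
    intro P
    have := hdvd (Finsupp.single P 1)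
    rw [deg_single, one_mul] at this
    exact_mod_cast this
  obtain ⟨f, hm, hirr, hfdeg, hsep⟩ := exists_irreducible_natDegree (k := k) hd
  have hF := irreducible_map_of_algClosed hK.2 hirr hm
  haveI : Fact (Irreducible (f.map (algebraMap k K))) := ⟨hF⟩
  have hβ : aeval (AdjoinRoot.root (f.map (algebraMap k K))) f = 0 := by
    rw [← aeval_map_algebraMap K]
    exact AdjoinRoot.eval₂_root _
  have hgenA : Algebra.adjoin K
      ({AdjoinRoot.root (f.map (algebraMap k K))} : Set (AdjoinRoot (f.map (algebraMap k K)))) = ⊤ :=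
    AdjoinRoot.adjoinRoot_eq_top
  haveI : FiniteDimensional K (AdjoinRoot (f.map (algebraMap k K))) :=
    (AdjoinRoot.powerBasis hF.ne_zero).finite
  haveI : IsGalois K (AdjoinRoot (f.map (algebraMap k K))) :=
    isGalois_of_root hm hirr hsep hβ hgenA
  have hgen : IntermediateField.adjoin K
      ({AdjoinRoot.root (f.map (algebraMap k K))} : Set (AdjoinRoot (f.map (algebraMap k K)))) = ⊤ := by
    apply IntermediateField.toSubalgebra_injective
    rw [IntermediateField.adjoin_simple_toSubalgebra_of_isAlgebraic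
      (Algebra.IsAlgebraic.isAlgebraic _), hgenA, IntermediateField.top_toSubalgebra]
  have hfr : Module.finrank K (AdjoinRoot (f.map (algebraMap k K))) = d := by
    rw [(AdjoinRoot.powerBasis hF.ne_zero).finrank, AdjoinRoot.powerBasis_dim, natDegree_map,
      hfdeg]
  have hsplit := fun P : Place k K => splits_completely hK hirr hsep hβ hgen (P := P)
    (by rw [hfdeg]; exact hdvdP P)
  have hex2 : ∀ P : Place k K, ∃ Q₁ Q₂ : Place k (AdjoinRoot (f.map (algebraMap k K))),
      IsOver Q₁ P ∧ IsOver Q₂ P ∧ Q₁ ≠ Q₂ := by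
    intro P
    have hc := (hsplit P).1
    rw [hfr] at hc
    haveI : Finite {Q : Place k (AdjoinRoot (f.map (algebraMap k K))) // IsOver Q P} :=
      (finite_places_over' hK P).to_subtype
    haveI : Nontrivial {Q : Place k (AdjoinRoot (f.map (algebraMap k K))) // IsOver Q P} :=
      Finite.one_lt_card_iff_nontrivial.1 (by rw [hc]; omega)
    obtain ⟨a, b, hab⟩ :=
      exists_pair_ne {Q : Place k (AdjoinRoot (f.map (algebraMap k K))) // IsOver Q P}
    exact ⟨a.1, b.1, a.2, b.2, fun h => hab (Subtype.ext h)⟩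
  choose s₁ s₂ hs₁ hs₂ hne using hex2
  exact false_of_two_sections hK hd hdeg
    ⟨fun P => ((hsplit P).2 _ (hs₁ P)).1, fun P => ((hsplit P).2 _ (hs₁ P)).2⟩
    ⟨fun P => ((hsplit P).2 _ (hs₂ P)).1, fun P => ((hsplit P).2 _ (hs₂ P)).2⟩ hne

end Schmidt

end Groth.Agent.Lib.helper10.Zeta
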