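import Mathlib
import Groth.Agent.Lib.Helper10.Zeta3

/-!
# Zeta functions (helper10), part 4: rationality of the zeta function and `L(1) = h`
-/

set_option autoImplicit false
set_option linter.style.haveILetI false
set_option linter.unusedSectionVars false
set_option linter.unusedVariables false

universe u v w

open FunFld

namespace Groth.Agent.Lib.helper10.Zeta

open FF RD PA PowerSeries

section Numer

variable (k : Type u) (K : Type v) [Field k] [Field K] [Algebra k K]

theorem numerZ_eq : numerZ k K = zetaZ k K - C ((Nat.card k : ℤ) + 1) * (X * zetaZ k K) +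
    C (Nat.card k : ℤ) * (X ^ 2 * zetaZ k K) := by
  unfold numerZ
  rw [map_add, map_one]
  ring

theorem coeff_zetaZ (n : ℕ) : coeff n (zetaZ k K) = (effDivCount k K n : ℤ) := by
  unfold zetaZ
  rw [coeff_mk]

theorem coeff_numerZ_zero : coeff 0 (numerZ k K) = (effDivCount k K 0 : ℤ) := by
  rw [numerZ_eq, map_add, map_sub, coeff_C_mul, coeff_C_mul, coeff_zero_X_mul,
    pow_two, mul_assoc, coeff_zero_X_mul, coeff_zetaZ]
  ring

theorem coeff_numerZ_one : coeff 1 (numerZ k K) =
    (effDivCount k K 1 : ℤ) - ((Nat.card k : ℤ) + 1) * (effDivCount k K 0 : ℤ) := by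
  rw [numerZ_eq, map_add, map_sub, coeff_C_mul, coeff_C_mul,
    show (1 : ℕ) = 0 + 1 from rfl, coeff_succ_X_mul, pow_two, mul_assoc, coeff_succ_X_mul,
    coeff_zero_X_mul, coeff_zetaZ, coeff_zetaZ]
  ring

theorem coeff_numerZ_add_two (n : ℕ) : coeff (n + 2) (numerZ k K) =
    (effDivCount k K (n + 2) : ℤ) - ((Nat.card k : ℤ) + 1) * (effDivCount k K (n + 1) : ℤ) +
      (Nat.card k : ℤ) * (effDivCount k K n : ℤ) := by
  rw [numerZ_eq, map_add, map_sub, coeff_C_mul, coeff_C_mul,
    show n + 2 = (n + 1) + 1 from rfl, coeff_succ_X_mul, pow_two, mul_assoc, coeff_succ_X_mul,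
    coeff_succ_X_mul, coeff_zetaZ, coeff_zetaZ, coeff_zetaZ]

end Numer

section Rational

variable {k : Type u} {K : Type v} [Field k] [Field K] [Algebra k K]

/-- The count of effective divisors of large degree, using F. K. Schmidt. -/
theorem card_eff_formula [Finite k] (hK : IsFunctionField k K) {n : ℕ}
    (hn : 2 * genus k K ≤ n + 1) :
    ((Nat.card k : ℤ) - 1) * (effDivCount k K n : ℤ) =
      (classNum k K : ℤ) * ((Nat.card k : ℤ) ^ (n + 1 - genus k K) - 1) := by
  obtain ⟨D₀, hD₀⟩ := deg_surjective hK (n : ℤ)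
  exact card_eff_mul hK hn D₀ hD₀

theorem card_sub_one_ne_zero [Finite k] : ((Nat.card k : ℤ) - 1) ≠ 0 := by
  have hq : 2 ≤ Nat.card k := Finite.one_lt_card
  have : (2 : ℤ) ≤ (Nat.card k : ℤ) := by exact_mod_cast hq
  omega

theorem coeff_numerZ_eq_zero [Finite k] (hK : IsFunctionField k K) {n : ℕ}
    (hn : 2 * genus k K < n) : coeff n (numerZ k K) = 0 := by
  rcases Nat.lt_or_ge n 2 with hlt | hge
  · -- `n = 1`, `g = 0`
    have hn1 : n = 1 := by omega
    have hg : genus k K = 0 := by omega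
    subst hn1
    rw [coeff_numerZ_one]
    have h0 := card_eff_formula hK (n := 0) (by omega)
    have h1 := card_eff_formula hK (n := 1) (by omega)
    rw [hg] at h0 h1
    apply mul_left_cancel₀ (card_sub_one_ne_zero (k := k))
    rw [mul_zero, mul_sub, h1, mul_left_comm, h0]
    ring
  obtain ⟨m, rfl⟩ : ∃ m, n = m + 2 := ⟨n - 2, by omega⟩
  rw [coeff_numerZ_add_two]
  have h0 := card_eff_formula hK (n := m) (by omega)
  have h1 := card_eff_formula hK (n := m + 1) (by omega)
  have h2 := card_eff_formula hK (n := m + 2) (by omega)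
  obtain ⟨e, he⟩ : ∃ e, e = m + 1 - genus k K := ⟨_, rfl⟩
  have e1 : m + 1 + 1 - genus k K = e + 1 := by omega
  have e2 : m + 2 + 1 - genus k K = e + 2 := by omega
  rw [← he] at h0
  rw [e1] at h1
  rw [e2] at h2
  apply mul_left_cancel₀ (card_sub_one_ne_zero (k := k))
  rw [mul_zero, mul_add, mul_sub, h2, mul_left_comm, h1, mul_left_comm ((Nat.card k : ℤ) - 1), h0]
  ring

/-- **Rationality** of the zeta function. -/
theorem exists_polynomial_eq_numerZ [Finite k] (hK : IsFunctionField k K) :
    ∃ p : Polynomial ℤ, (p : PowerSeries ℤ) = numerZ k K := by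
  refine ⟨trunc (2 * genus k K + 1) (numerZ k K), ?_⟩
  ext n
  rw [Polynomial.coeff_coe, coeff_trunc]
  split_ifs with h
  · rfl
  · exact (coeff_numerZ_eq_zero hK (by omega)).symm

/-- The partial sums of the coefficients of the numerator telescope. -/
theorem sum_coeff_numerZ (N : ℕ) :
    ∑ n ∈ Finset.range (N + 3), coeff n (numerZ k K) =
      (effDivCount k K (N + 2) : ℤ) - (Nat.card k : ℤ) * (effDivCount k K (N + 1) : ℤ) := by
  induction N with
  | zero =>
    rw [Finset.sum_range_succ, Finset.sum_range_succ, Finset.sum_range_one, coeff_numerZ_zero,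
      coeff_numerZ_one, show (2 : ℕ) = 0 + 2 from rfl, coeff_numerZ_add_two]
    ring
  | succ N ih =>
    rw [Finset.sum_range_succ, ih, show N + 3 = (N + 1) + 2 from rfl, coeff_numerZ_add_two]
    ring

/-- **`L(1) = h`**. -/
theorem eval_one_eq_classNum [Finite k] (hK : IsFunctionField k K) (p : Polynomial ℤ)
    (hp : (p : PowerSeries ℤ) = numerZ k K) : p.eval 1 = (classNum k K : ℤ) := by
  obtain ⟨N, hN⟩ : ∃ N, N = p.natDegree + 2 * genus k K := ⟨_, rfl⟩
  have h1 : p.eval 1 = ∑ n ∈ Finset.range (N + 3), coeff n (numerZ k K) := by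
    rw [Polynomial.eval_eq_sum_range' (n := N + 3) (by omega)]
    refine Finset.sum_congr rfl fun n _ => ?_
    rw [one_pow, mul_one, ← hp, Polynomial.coeff_coe]
  rw [h1, sum_coeff_numerZ]
  have e1 := card_eff_formula hK (n := N + 1) (by omega)
  have e2 := card_eff_formula hK (n := N + 2) (by omega)
  obtain ⟨e, he⟩ : ∃ e, e = N + 1 + 1 - genus k K := ⟨_, rfl⟩
  have he2 : N + 2 + 1 - genus k K = e + 1 := by omega
  rw [← he] at e1
  rw [he2] at e2
  apply mul_left_cancel₀ (card_sub_one_ne_zero (k := k))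
  rw [mul_sub, e2, mul_left_comm, e1]
  ring

end Rational

end Groth.Agent.Lib.helper10.Zeta
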