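import Mathlib
import Groth.Agent.Lib.Helper10.Zeta4

/-!
# Zeta functions (helper10), part 5: the functional equation
-/

set_option autoImplicit false
set_option linter.style.haveILetI false
set_option linter.unusedSectionVars false
set_option linter.unusedVariables false

universe u v w

open FunFld

namespace Groth.Agent.Lib.helper10.Zeta

open FF RD PA PowerSeries

section EllClass

variable {k : Type u} {K : Type v} [Field k] [Field K] [Algebra k K]

theorem ell_congr (hK : IsFunctionField k K) {D E : Divisor k K}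
    (h : E - D ∈ prinDivs k K) : ell E = ell D := by
  obtain ⟨x, hx0, hx⟩ := (mem_prinDivs_iff hK _).1 h
  have : E = D + FunFld.div k x := by rw [← hx]; abel
  rw [this, ell_add_div hK D hx0]

/-- `ℓ(D + c)` for a divisor class `c` of degree zero. -/
noncomputable def ellClass (hK : IsFunctionField k K) (D : Divisor k K) : Pic0 k K → ℕ :=
  Quotient.lift (fun A : (FunFld.degHom k K).ker => ell (D + A.1)) (by
    intro A B hAB
    have h1 : -A + B ∈ (prinDivs k K).addSubgroupOf (FunFld.degHom k K).ker :=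
      QuotientAddGroup.leftRel_apply.1 hAB
    rw [AddSubgroup.mem_addSubgroupOf] at h1
    symm
    apply ell_congr hK
    have : D + (B : Divisor k K) - (D + (A : Divisor k K)) = -(A : Divisor k K) + B := by abel
    rw [this]
    exact h1)

theorem ellClass_mk (hK : IsFunctionField k K) (D : Divisor k K) (A : (FunFld.degHom k K).ker) :
    ellClass hK D (QuotientAddGroup.mk A) = ell (D + A.1) := rfl

theorem ellClass_add (hK : IsFunctionField k K) (D : Divisor k K) (A : (FunFld.degHom k K).ker)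
    (c : Pic0 k K) : ellClass hK (D + A.1) c = ellClass hK D (c + QuotientAddGroup.mk A) := by
  obtain ⟨B, rfl⟩ := QuotientAddGroup.mk_surjective c
  rw [← QuotientAddGroup.mk_add, ellClass_mk, ellClass_mk]
  congr 1
  push_cast
  abel

theorem sum_ellClass_eq_of_deg_eq [Fintype (Pic0 k K)] (hK : IsFunctionField k K)
    {D D' : Divisor k K} (h : D.deg = D'.deg) {M : Type*} [AddCommMonoid M] (f : ℕ → M) :
    ∑ c : Pic0 k K, f (ellClass hK D c) = ∑ c : Pic0 k K, f (ellClass hK D' c) := by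
  have hA : D' - D ∈ (FunFld.degHom k K).ker := by
    rw [AddMonoidHom.mem_ker, fdegHom_apply, deg_sub, h, sub_self]
  obtain ⟨A, hAdef⟩ : ∃ A : (FunFld.degHom k K).ker, A.1 = D' - D := ⟨⟨D' - D, hA⟩, rfl⟩
  have e : D' = D + A.1 := by
    rw [hAdef]
    abel
  rw [e]
  rw [← Equiv.sum_comp (Equiv.addRight (QuotientAddGroup.mk A : Pic0 k K))
    (fun c => f (ellClass hK D c))]
  refine Finset.sum_congr rfl fun c _ => ?_
  rw [ellClass_add]
  rfl

theorem ellClass_riemann_roch (hK : IsFunctionField k K) {W : Divisor k K}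
    (hW : IsCanonical k K W) (D : Divisor k K) (c : Pic0 k K) :
    (ellClass hK D c : ℤ) = D.deg + 1 - genus k K + ellClass hK (W - D) (-c) := by
  obtain ⟨A, rfl⟩ := QuotientAddGroup.mk_surjective c
  rw [← QuotientAddGroup.mk_neg, ellClass_mk, ellClass_mk, riemann_roch hK hW (D + A.1), deg_add,
    deg_of_mem_ker A, add_zero]
  congr 3
  push_cast
  abel

theorem ellClass_eq_zero_of_deg_neg (hK : IsFunctionField k K) {D : Divisor k K} (h : D.deg < 0)
    (c : Pic0 k K) : ellClass hK D c = 0 := by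
  obtain ⟨A, rfl⟩ := QuotientAddGroup.mk_surjective c
  rw [ellClass_mk]
  apply ell_eq_zero_of_deg_neg hK
  rw [deg_add, deg_of_mem_ker A, add_zero]
  exact h

end EllClass

section FunctionalEquation

variable {k : Type u} {K : Type v} [Field k] [Field K] [Algebra k K]

/-- `(q - 1) a(n) = ∑_c (q^{ℓ(D₀ + c)} - 1)`. -/
theorem card_eff_eq_sum [Finite k] [Fintype (Pic0 k K)] (hK : IsFunctionField k K) {n : ℕ}
    (D₀ : Divisor k K) (hD₀ : D₀.deg = n) :
    ((Nat.card k : ℤ) - 1) * (effDivCount k K n : ℤ) =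
      ∑ c : Pic0 k K, ((Nat.card k : ℤ) ^ (ellClass hK D₀ c) - 1) := by
  classical
  haveI : Finite (Eff k K n) := (finite_effDiv hK n).to_subtype
  have hq : 1 ≤ Nat.card k := Nat.card_pos
  have hfib : ∀ c : Pic0 k K, ((Nat.card k : ℤ) - 1) *
      (Nat.card {E : Eff k K n // classMap D₀ hD₀ E = c} : ℤ) =
      (Nat.card k : ℤ) ^ (ellClass hK D₀ c) - 1 := by
    intro c
    obtain ⟨A, rfl⟩ := QuotientAddGroup.mk_surjective c
    rw [Nat.card_congr (fibreEquiv hK D₀ hD₀ A), ellClass_mk]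
    have h1 := card_linSys hK (D₀ + A.1)
    have h3 : ((Nat.card (linSys (D₀ + A.1)) * (Nat.card k - 1) + 1 : ℕ) : ℤ) =
        ((Nat.card k ^ (ell (D₀ + A.1)) : ℕ) : ℤ) := by rw [h1]
    push_cast [Nat.cast_sub hq] at h3
    linarith
  have hsum : Nat.card (Eff k K n) =
      ∑ c : Pic0 k K, Nat.card {E : Eff k K n // classMap D₀ hD₀ E = c} := by
    rw [← Nat.card_congr (Equiv.sigmaFiberEquiv (classMap D₀ hD₀)), Nat.card_sigma]
  unfold effDivCount
  rw [hsum]
  push_cast
  rw [Finset.mul_sum, Finset.sum_congr rfl (fun c _ => hfib c)]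

/-- A chosen divisor of each degree. -/
noncomputable def baseDiv [Finite k] (hK : IsFunctionField k K) (n : ℤ) : Divisor k K :=
  Classical.choose (deg_surjective hK n)

theorem deg_baseDiv [Finite k] (hK : IsFunctionField k K) (n : ℤ) : (baseDiv hK n).deg = n :=
  Classical.choose_spec (deg_surjective hK n)

/-- `B(n) = ∑_{c ∈ Pic^n} q^{ℓ(c)}`. -/
noncomputable def Bsum [Finite k] [Fintype (Pic0 k K)] (hK : IsFunctionField k K) (n : ℤ) : ℚ :=
  ∑ c : Pic0 k K, (Nat.card k : ℚ) ^ (ellClass hK (baseDiv hK n) c)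

theorem card_ne_zero' [Finite k] : (Nat.card k : ℚ) ≠ 0 := by
  have hq : 2 ≤ Nat.card k := Finite.one_lt_card
  have : (2 : ℚ) ≤ (Nat.card k : ℚ) := by exact_mod_cast hq
  linarith

theorem card_sub_one_ne_zero' [Finite k] : (Nat.card k : ℚ) - 1 ≠ 0 := by
  have hq : 2 ≤ Nat.card k := Finite.one_lt_card
  have : (2 : ℚ) ≤ (Nat.card k : ℚ) := by exact_mod_cast hq
  linarith

theorem Bsum_symm [Finite k] [Fintype (Pic0 k K)] (hK : IsFunctionField k K) (n : ℤ) :
    Bsum hK n = (Nat.card k : ℚ) ^ (n + 1 - genus k K) * Bsum hK (2 * genus k K - 2 - n) := by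
  obtain ⟨W, hW⟩ := exists_canonical hK
  have hWd := (ell_canonical hK hW).2
  unfold Bsum
  have hterm : ∀ c : Pic0 k K, (Nat.card k : ℚ) ^ (ellClass hK (baseDiv hK n) c) =
      (Nat.card k : ℚ) ^ (n + 1 - genus k K) *
        (Nat.card k : ℚ) ^ (ellClass hK (W - baseDiv hK n) (-c)) := by
    intro c
    rw [← zpow_natCast, ellClass_riemann_roch hK hW, deg_baseDiv, zpow_add₀ card_ne_zero',
      zpow_natCast]
  rw [Finset.sum_congr rfl (fun c _ => hterm c), ← Finset.mul_sum]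
  congr 1
  have hneg := Equiv.sum_comp (Equiv.neg (Pic0 k K))
    (fun c => (Nat.card k : ℚ) ^ (ellClass hK (W - baseDiv hK n) c))
  simp only [Equiv.neg_apply] at hneg
  rw [hneg]
  apply sum_ellClass_eq_of_deg_eq hK _ (fun e => (Nat.card k : ℚ) ^ e)
  rw [deg_sub, hWd, deg_baseDiv, deg_baseDiv]

theorem Bsum_of_neg [Finite k] [Fintype (Pic0 k K)] (hK : IsFunctionField k K) {n : ℤ}
    (hn : n < 0) : Bsum hK n = classNum k K := by
  unfold Bsum
  have : ∀ c : Pic0 k K, (Nat.card k : ℚ) ^ (ellClass hK (baseDiv hK n) c) = 1 := by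
    intro c
    rw [ellClass_eq_zero_of_deg_neg hK (by rw [deg_baseDiv]; exact hn), pow_zero]
  rw [Finset.sum_congr rfl (fun c _ => this c), Finset.sum_const, Finset.card_univ, nsmul_eq_mul,
    mul_one, ← Nat.card_eq_fintype_card]
  rfl

theorem Bsum_natCast [Finite k] [Fintype (Pic0 k K)] (hK : IsFunctionField k K) (n : ℕ) :
    ((Nat.card k : ℚ) - 1) * (effDivCount k K n : ℚ) = Bsum hK n - classNum k K := by
  have h := card_eff_eq_sum hK (baseDiv hK n) (deg_baseDiv hK n)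
  have h' := congrArg (Int.cast : ℤ → ℚ) h
  push_cast at h'
  rw [h', Finset.sum_sub_distrib, Finset.sum_const, Finset.card_univ, nsmul_eq_mul, mul_one,
    ← Nat.card_eq_fintype_card]
  rfl

variable (k K) in
/-- `a(n)` extended by zero to negative `n`. -/
noncomputable def aZ (n : ℤ) : ℚ := if 0 ≤ n then (effDivCount k K n.toNat : ℚ) else 0

theorem aZ_natCast (n : ℕ) : aZ k K (n : ℤ) = effDivCount k K n := by
  unfold aZ
  rw [if_pos (Int.natCast_nonneg n), Int.toNat_natCast]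

theorem aZ_of_neg {n : ℤ} (hn : n < 0) : aZ k K n = 0 := by
  unfold aZ
  rw [if_neg (by omega)]

theorem aZ_mul [Finite k] [Fintype (Pic0 k K)] (hK : IsFunctionField k K) (n : ℤ) :
    ((Nat.card k : ℚ) - 1) * aZ k K n = Bsum hK n - classNum k K := by
  rcases lt_or_ge n 0 with hn | hn
  · rw [aZ_of_neg hn, Bsum_of_neg hK hn, mul_zero, sub_self]
  · obtain ⟨m, rfl⟩ := Int.eq_ofNat_of_zero_le hn
    rw [aZ_natCast, Bsum_natCast]

theorem coeff_numerZ_eq_aZ (i : ℕ) : ((coeff i (numerZ k K) : ℤ) : ℚ) =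
    aZ k K i - ((Nat.card k : ℚ) + 1) * aZ k K ((i : ℤ) - 1) +
      (Nat.card k : ℚ) * aZ k K ((i : ℤ) - 2) := by
  rcases i with _ | _ | m
  · rw [coeff_numerZ_zero, aZ_natCast, aZ_of_neg (by norm_num), aZ_of_neg (by norm_num)]
    push_cast
    ring
  · rw [coeff_numerZ_one, aZ_natCast, aZ_of_neg (n := ((0 + 1 : ℕ) : ℤ) - 2) (by norm_num),
      show (((0 + 1 : ℕ) : ℤ) - 1) = ((0 : ℕ) : ℤ) by norm_num, aZ_natCast]
    push_cast
    ring
  · rw [coeff_numerZ_add_two, aZ_natCast,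
      show (((m + 1 + 1 : ℕ) : ℤ) - 1) = ((m + 1 : ℕ) : ℤ) by push_cast; ring,
      show (((m + 1 + 1 : ℕ) : ℤ) - 2) = ((m : ℕ) : ℤ) by push_cast; ring, aZ_natCast, aZ_natCast]
    push_cast
    ring

theorem coeff_numerZ_mul [Finite k] [Fintype (Pic0 k K)] (hK : IsFunctionField k K) (i : ℕ) :
    ((Nat.card k : ℚ) - 1) * ((coeff i (numerZ k K) : ℤ) : ℚ) =
      Bsum hK i - ((Nat.card k : ℚ) + 1) * Bsum hK ((i : ℤ) - 1) +
        (Nat.card k : ℚ) * Bsum hK ((i : ℤ) - 2) := by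
  rw [coeff_numerZ_eq_aZ]
  have h0 := aZ_mul hK (i : ℤ)
  have h1 := aZ_mul hK ((i : ℤ) - 1)
  have h2 := aZ_mul hK ((i : ℤ) - 2)
  linear_combination h0 - ((Nat.card k : ℚ) + 1) * h1 + (Nat.card k : ℚ) * h2

/-- The **functional equation** for the coefficients of the numerator. -/
theorem coeff_numerZ_symm [Finite k] (hK : IsFunctionField k K) {i : ℕ}
    (hi : i ≤ 2 * genus k K) :
    ((coeff (2 * genus k K - i) (numerZ k K) : ℤ) : ℚ) =
      (Nat.card k : ℚ) ^ ((genus k K : ℤ) - i) * ((coeff i (numerZ k K) : ℤ) : ℚ) := by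
  haveI := finite_pic0 hK
  haveI : Fintype (Pic0 k K) := Fintype.ofFinite _
  apply mul_left_cancel₀ (card_sub_one_ne_zero' (k := k))
  rw [mul_left_comm, coeff_numerZ_mul hK, coeff_numerZ_mul hK]
  have hq := card_ne_zero' (k := k)
  have hc : ((2 * genus k K - i : ℕ) : ℤ) = 2 * (genus k K : ℤ) - i := by
    rw [Nat.cast_sub hi]
    push_cast
    ring
  rw [hc, Bsum_symm hK (2 * (genus k K : ℤ) - i), Bsum_symm hK (2 * (genus k K : ℤ) - i - 1),
    Bsum_symm hK (2 * (genus k K : ℤ) - i - 2)]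
  have e0 : 2 * (genus k K : ℤ) - 2 - (2 * (genus k K : ℤ) - i) = (i : ℤ) - 2 := by ring
  have e1 : 2 * (genus k K : ℤ) - 2 - (2 * (genus k K : ℤ) - i - 1) = (i : ℤ) - 1 := by ring
  have e2 : 2 * (genus k K : ℤ) - 2 - (2 * (genus k K : ℤ) - i - 2) = (i : ℤ) := by ring
  have p0 : 2 * (genus k K : ℤ) - i + 1 - genus k K = ((genus k K : ℤ) - i) + 1 := by ring
  have p1 : 2 * (genus k K : ℤ) - i - 1 + 1 - genus k K = ((genus k K : ℤ) - i) := by ring
  have p2 : 2 * (genus k K : ℤ) - i - 2 + 1 - genus k K = ((genus k K : ℤ) - i) - 1 := by ring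
  rw [e0, e1, e2, p0, p1, p2, zpow_add_one₀ hq, zpow_sub_one₀ hq]
  field_simp
  ring

theorem effDivCount_zero_ne_zero [Finite k] (hK : IsFunctionField k K) :
    effDivCount k K 0 ≠ 0 := by
  unfold effDivCount
  haveI : Finite {D : Divisor k K // 0 ≤ D ∧ D.deg = ((0 : ℕ) : ℤ)} :=
    (finite_effDiv hK 0).to_subtype
  haveI : Nonempty {D : Divisor k K // 0 ≤ D ∧ D.deg = ((0 : ℕ) : ℤ)} :=
    ⟨⟨0, le_refl _, by rw [deg_zero]; rfl⟩⟩
  exact Nat.card_pos.ne'

/-- The numerator of the zeta function has degree exactly `2g`. -/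
theorem coeff_numerZ_two_genus_ne_zero [Finite k] (hK : IsFunctionField k K) :
    coeff (2 * genus k K) (numerZ k K) ≠ 0 := by
  have h := coeff_numerZ_symm hK (i := 0) (Nat.zero_le _)
  rw [Nat.sub_zero, coeff_numerZ_zero] at h
  intro h0
  rw [h0] at h
  have h1 : (Nat.card k : ℚ) ^ ((genus k K : ℤ) - (0 : ℕ)) ≠ 0 := zpow_ne_zero _ card_ne_zero'
  have h2 : (((effDivCount k K 0 : ℕ) : ℤ) : ℚ) ≠ 0 := by
    exact_mod_cast effDivCount_zero_ne_zero hK
  exact mul_ne_zero h1 h2 (by rw [← h]; norm_num)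

end FunctionalEquation

end Groth.Agent.Lib.helper10.Zeta
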