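import Mathlib
import Groth.Agent.Lib.Helper10.Zeta5

/-!
# Zeta functions (helper10), part 6: factorisation of the numerator over `ℂ`
-/

set_option autoImplicit false
set_option linter.style.haveILetI false
set_option linter.unusedSectionVars false
set_option linter.unusedVariables false

universe u v w

open FunFld

namespace Groth.Agent.Lib.helper10.Zeta

section PairFactor

open Polynomial

variable (q : ℂ)

/-- The twisted reflection `t^n P(q/t)`. -/
noncomputable def tw (n : ℕ) (P : ℂ[X]) : ℂ[X] := reflect n (P.comp (C q * X))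

theorem natDegree_comp_CX_le (P : ℂ[X]) : (P.comp (C q * X)).natDegree ≤ P.natDegree := by
  calc (P.comp (C q * X)).natDegree ≤ P.natDegree * (C q * X).natDegree := natDegree_comp_le
    _ ≤ P.natDegree * 1 := by
      apply Nat.mul_le_mul_left
      exact (natDegree_C_mul_le q X).trans natDegree_X_le
    _ = P.natDegree := mul_one _

theorem tw_mul {P₁ P₂ : ℂ[X]} {n₁ n₂ : ℕ} (h₁ : P₁.natDegree ≤ n₁) (h₂ : P₂.natDegree ≤ n₂) :
    tw q (n₁ + n₂) (P₁ * P₂) = tw q n₁ P₁ * tw q n₂ P₂ := by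
  unfold tw
  rw [mul_comp, reflect_mul _ _ ((natDegree_comp_CX_le q P₁).trans h₁)
    ((natDegree_comp_CX_le q P₂).trans h₂)]

theorem coeff_tw (n : ℕ) (P : ℂ[X]) {i : ℕ} (hi : i ≤ n) :
    (tw q n P).coeff i = P.coeff (n - i) * q ^ (n - i) := by
  unfold tw
  rw [coeff_reflect, revAt_le hi, comp_C_mul_X_coeff]

theorem eval_tw {n : ℕ} {P : ℂ[X]} (hP : P.natDegree ≤ n) {x : ℂ} (hx : x ≠ 0) :
    (tw q n P).eval x = x ^ n * P.eval (q / x) := by
  unfold tw
  haveI : Invertible x⁻¹ := invertibleOfNonzero (inv_ne_zero hx)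
  have h := eval₂_reflect_mul_pow (RingHom.id ℂ) x⁻¹ n (P.comp (C q * X))
    ((natDegree_comp_CX_le q P).trans hP)
  rw [invOf_eq_inv, inv_inv] at h
  change eval x (reflect n (P.comp (C q * X))) * x⁻¹ ^ n = eval x⁻¹ (P.comp (C q * X)) at h
  rw [eval_comp, eval_mul, eval_C, eval_X] at h
  rw [div_eq_mul_inv, ← h, inv_pow]
  field_simp

theorem tw_X_sub_C (b : ℂ) : tw q 1 (X - C b) = C q - C b * X := by
  unfold tw
  rw [sub_comp, X_comp, C_comp, reflect_sub]
  have h1 : reflect 1 (C q * X) = C q := by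
    have := reflect_C_mul_X_pow 1 1 (c := q)
    rw [pow_one, revAt_le (le_refl 1), Nat.sub_self, pow_zero, mul_one] at this
    exact this
  rw [h1, reflect_C, pow_one]

theorem tw_pair (hq : q ≠ 0) {b : ℂ} (hb : b ≠ 0) :
    tw q 2 ((X - C b) * (X - C (q / b))) = C q * ((X - C b) * (X - C (q / b))) := by
  rw [show (2 : ℕ) = 1 + 1 from rfl, tw_mul q (natDegree_X_sub_C_le b) (natDegree_X_sub_C_le _),
    tw_X_sub_C, tw_X_sub_C]
  have e1 : C q = C b * C (q / b) := by
    rw [← C_mul, mul_div_cancel₀ _ hb]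
  have e2 : C q - C b * X = -C b * (X - C (q / b)) := by
    rw [e1]
    ring
  have e3 : C q - C (q / b) * X = -C (q / b) * (X - C b) := by
    rw [e1]
    ring
  rw [e2, e3, e1]
  ring

theorem natDegree_pair (b c : ℂ) : ((X - C b) * (X - C c)).natDegree = 2 := by
  rw [natDegree_mul (X_sub_C_ne_zero b) (X_sub_C_ne_zero c), natDegree_X_sub_C, natDegree_X_sub_C]

theorem monic_pair (b c : ℂ) : ((X - C b) * (X - C c)).Monic :=
  (monic_X_sub_C b).mul (monic_X_sub_C c)

/-- A monic complex polynomial of degree `2m` with `t^{2m} P(q/t) = q^m P(t)` is a product of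
`m` pairs `(X - β)(X - q/β)`. -/
theorem exists_pair_factor (hq : q ≠ 0) : ∀ (m : ℕ) (P : ℂ[X]), P.Monic → P.natDegree = 2 * m →
    tw q (2 * m) P = C (q ^ m) * P →
    ∃ β : Fin m → ℂ, (∀ j, β j ≠ 0) ∧ P = ∏ j, ((X - C (β j)) * (X - C (q / β j))) := by
  intro m
  induction m with
  | zero =>
    intro P hP hdeg _
    refine ⟨Fin.elim0, fun j => j.elim0, ?_⟩
    rw [Finset.univ_eq_empty, Finset.prod_empty]
    exact eq_one_of_monic_natDegree_zero hP hdeg
  | succ m ih =>
    intro P hP hdeg hsym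
    have hdeg0 : P.degree ≠ 0 := by
      rw [degree_eq_natDegree hP.ne_zero, hdeg]
      exact_mod_cast (by omega : 2 * (m + 1) ≠ 0)
    obtain ⟨b, hb⟩ := IsAlgClosed.exists_root P hdeg0
    have h0 : P.coeff 0 ≠ 0 := by
      have h1 : (tw q (2 * (m + 1)) P).coeff 0 = (C (q ^ (m + 1)) * P).coeff 0 := by rw [hsym]
      rw [coeff_tw q _ P (Nat.zero_le _), Nat.sub_zero, ← hdeg, hP.coeff_natDegree, one_mul,
        coeff_C_mul] at h1
      intro h
      rw [h, mul_zero] at h1
      exact pow_ne_zero _ hq h1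
    have hb0 : b ≠ 0 := by
      rintro rfl
      rw [IsRoot.def, ← coeff_zero_eq_eval_zero] at hb
      exact h0 hb
    have hsym_eval : ∀ x : ℂ, x ≠ 0 →
        x ^ (2 * (m + 1)) * P.eval (q / x) = q ^ (m + 1) * P.eval x := by
      intro x hx
      rw [← eval_tw q hdeg.le hx, hsym, eval_mul, eval_C]
    have hb' : P.IsRoot (q / b) := by
      have h1 := hsym_eval b hb0
      rw [IsRoot.def] at hb
      rw [hb, mul_zero] at h1
      exact (mul_eq_zero.1 h1).resolve_left (pow_ne_zero _ hb0)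
    have hQdvd : (X - C b) * (X - C (q / b)) ∣ P := by
      by_cases hne : q / b = b
      · -- double root
        have hbq' : q = b * b := (div_eq_iff hb0).1 hne
        obtain ⟨P₁, hP₁⟩ := dvd_iff_isRoot.2 hb
        have hP₁m : P₁.Monic := (monic_X_sub_C b).of_mul_monic_left (hP₁ ▸ hP)
        have hP₁d : P₁.natDegree = 2 * m + 1 := by
          have h1 := congrArg natDegree hP₁
          rw [(monic_X_sub_C b).natDegree_mul hP₁m, natDegree_X_sub_C, hdeg] at h1
          omega
        have h2 : tw q (1 + (2 * m + 1)) P = (C q - C b * X) * tw q (2 * m + 1) P₁ := by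
          rw [hP₁, tw_mul q (natDegree_X_sub_C_le b) hP₁d.le, tw_X_sub_C]
        rw [show 1 + (2 * m + 1) = 2 * (m + 1) by ring, hsym, hP₁] at h2
        have e2 : C q - C b * X = -C b * (X - C b) := by
          have e1 : C q = C b * C b := by
            rw [← C_mul, ← hbq']
          rw [e1]
          ring
        rw [e2] at h2
        have h3 : C (q ^ (m + 1)) * P₁ = -C b * tw q (2 * m + 1) P₁ := by
          apply mul_left_cancel₀ (X_sub_C_ne_zero b)
          rw [← mul_assoc, mul_comm (X - C b) (C (q ^ (m + 1))), mul_assoc, h2]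
          ring
        have h4 := congrArg (eval b) h3
        rw [eval_mul, eval_C, eval_mul, eval_neg, eval_C, eval_tw q hP₁d.le hb0, hne] at h4
        have hbq : b ^ 2 = q := by
          rw [hbq', pow_two]
        have h5 : b * b ^ (2 * m + 1) = q ^ (m + 1) := by
          rw [← pow_succ', show 2 * m + 1 + 1 = 2 * (m + 1) by ring, pow_mul, hbq]
        have h6 : (2 * q ^ (m + 1)) * eval b P₁ = 0 := by
          have : -b * (b ^ (2 * m + 1) * eval b P₁) = -(q ^ (m + 1)) * eval b P₁ := by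
            rw [← h5]
            ring
          rw [this] at h4
          linear_combination h4
        have h7 : eval b P₁ = 0 :=
          (mul_eq_zero.1 h6).resolve_left (mul_ne_zero two_ne_zero (pow_ne_zero _ hq))
        obtain ⟨P₂, hP₂⟩ := dvd_iff_isRoot.2 h7
        refine ⟨P₂, ?_⟩
        rw [hP₁, hP₂, hne]
        ring
      · refine IsCoprime.mul_dvd (isCoprime_X_sub_C_of_isUnit_sub ?_) (dvd_iff_isRoot.2 hb)
          (dvd_iff_isRoot.2 hb')
        exact (sub_ne_zero.2 (Ne.symm hne)).isUnit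
    obtain ⟨P₁, hP₁⟩ := hQdvd
    have hP₁m : P₁.Monic := (monic_pair b (q / b)).of_mul_monic_left (hP₁ ▸ hP)
    have hP₁d : P₁.natDegree = 2 * m := by
      have h1 := congrArg natDegree hP₁
      rw [(monic_pair b (q / b)).natDegree_mul hP₁m, natDegree_pair, hdeg] at h1
      omega
    have hP₁s : tw q (2 * m) P₁ = C (q ^ m) * P₁ := by
      have h2 : tw q (2 + 2 * m) P = C q * ((X - C b) * (X - C (q / b))) * tw q (2 * m) P₁ := by
        rw [hP₁, tw_mul q (natDegree_pair b (q / b)).le hP₁d.le, tw_pair q hq hb0]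
      rw [show 2 + 2 * m = 2 * (m + 1) by ring, hsym, hP₁] at h2
      have hne0 : C q * ((X - C b) * (X - C (q / b))) ≠ 0 :=
        mul_ne_zero (C_ne_zero.2 hq) (monic_pair b (q / b)).ne_zero
      apply mul_left_cancel₀ hne0
      rw [← h2, pow_succ, C_mul]
      ring
    obtain ⟨β, hβ0, hβ⟩ := ih P₁ hP₁m hP₁d hP₁s
    refine ⟨Fin.cons b β, ?_, ?_⟩
    · intro j
      refine Fin.cases ?_ (fun i => ?_) j
      · rw [Fin.cons_zero]
        exact hb0
      · rw [Fin.cons_succ]
        exact hβ0 i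
    · rw [Fin.prod_univ_succ]
      simp only [Fin.cons_zero, Fin.cons_succ]
      rw [← hβ, hP₁]

theorem reflect_X_sub_C (b : ℂ) : reflect 1 (X - C b) = 1 - C b * X := by
  rw [reflect_sub, reflect_one_X, reflect_C, pow_one]

theorem reflect_pair (b c : ℂ) :
    reflect 2 ((X - C b) * (X - C c)) = (1 - C b * X) * (1 - C c * X) := by
  rw [show (2 : ℕ) = 1 + 1 from rfl, reflect_mul _ _ (natDegree_X_sub_C_le b)
    (natDegree_X_sub_C_le c), reflect_X_sub_C, reflect_X_sub_C]

theorem natDegree_prod_pairs_le {m : ℕ} (b c : Fin m → ℂ) :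
    (∏ j, ((X - C (b j)) * (X - C (c j)))).natDegree ≤ 2 * m := by
  refine (natDegree_prod_le _ _).trans ?_
  rw [Finset.sum_congr rfl (fun j _ => natDegree_pair (b j) (c j)), Finset.sum_const,
    Finset.card_univ, Fintype.card_fin, smul_eq_mul, mul_comm]

theorem reflect_prod_pairs : ∀ (m : ℕ) (b c : Fin m → ℂ),
    reflect (2 * m) (∏ j, ((X - C (b j)) * (X - C (c j)))) =
      ∏ j, ((1 - C (b j) * X) * (1 - C (c j) * X)) := by
  intro m
  induction m with
  | zero =>
    intro b c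
    rw [Finset.univ_eq_empty, Finset.prod_empty, Finset.prod_empty, mul_zero, reflect_one, pow_zero]
  | succ m ih =>
    intro b c
    rw [Fin.prod_univ_succ, Fin.prod_univ_succ, show 2 * (m + 1) = 2 + 2 * m by ring,
      reflect_mul _ _ (natDegree_pair _ _).le
        (natDegree_prod_pairs_le (fun j => b j.succ) (fun j => c j.succ)),
      reflect_pair, ih]

/-- Arrange `m` pairs `(β, q/β)` symmetrically on `Fin (2m)`. -/
theorem exists_arrangement {m : ℕ} (β : Fin m → ℂ) (hβ : ∀ j, β j ≠ 0) :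
    ∃ α : Fin (2 * m) → ℂ, (∀ i, ∃ j, α i = β j ∨ α i = q / β j) ∧
      (∀ i, α i * α (Fin.rev i) = q) ∧
      ∀ F : ℂ → ℂ[X], ∏ i, F (α i) = ∏ j, (F (β j) * F (q / β j)) := by
  obtain ⟨f, hf⟩ : ∃ f : Fin 2 × Fin m → ℂ,
      f = fun p => if p.1 = 0 then β p.2 else q / β (Fin.rev p.2) := ⟨_, rfl⟩
  have hrev : ∀ p : Fin 2 × Fin m,
      Fin.rev (finProdFinEquiv p) = finProdFinEquiv (Fin.rev p.1, Fin.rev p.2) := by
    rintro ⟨a, j⟩
    apply Fin.ext
    have hj := j.2
    fin_cases a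
    · simp only [finProdFinEquiv, Equiv.coe_fn_mk, Fin.val_rev]
      simp
      omega
    · simp only [finProdFinEquiv, Equiv.coe_fn_mk, Fin.val_rev]
      simp
      omega
  refine ⟨fun i => f (finProdFinEquiv.symm i), ?_, ?_, ?_⟩
  · intro i
    obtain ⟨⟨a, j⟩, rfl⟩ := finProdFinEquiv.surjective i
    beta_reduce
    rw [Equiv.symm_apply_apply, hf]
    by_cases ha : a = 0
    · exact ⟨j, Or.inl (by simp [ha])⟩
    · exact ⟨Fin.rev j, Or.inr (by simp [ha])⟩
  · intro i
    obtain ⟨⟨a, j⟩, rfl⟩ := finProdFinEquiv.surjective i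
    rw [hrev]
    beta_reduce
    rw [Equiv.symm_apply_apply, Equiv.symm_apply_apply, hf]
    fin_cases a
    · simp only [Fin.zero_eta, if_true, Fin.rev_rev]
      have : Fin.rev (0 : Fin 2) ≠ 0 := by decide
      rw [if_neg this, mul_div_cancel₀ _ (hβ j)]
    · have h1 : (⟨1, by norm_num⟩ : Fin 2) ≠ 0 := by decide
      have h2 : Fin.rev (⟨1, by norm_num⟩ : Fin 2) = 0 := by decide
      simp only [h2, if_true]
      rw [if_neg h1, div_mul_cancel₀ _ (hβ _)]
  · intro F
    rw [← Equiv.prod_comp finProdFinEquiv (fun i => F (f (finProdFinEquiv.symm i)))]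
    simp only [Equiv.symm_apply_apply]
    rw [Fintype.prod_prod_type, Fin.prod_univ_two, hf]
    simp only [if_true]
    have h1 : (1 : Fin 2) ≠ 0 := by decide
    simp only [if_neg h1]
    rw [Finset.prod_mul_distrib]
    congr 1
    exact Equiv.prod_comp Fin.revPerm (fun j => F (q / β j))

end PairFactor

section Factor

open FF RD PA

variable {k : Type u} {K : Type v} [Field k] [Field K] [Algebra k K]

theorem effDivCount_zero (hK : IsFunctionField k K) : effDivCount k K 0 = 1 := by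
  unfold effDivCount
  have key : ∀ D : Divisor k K, 0 ≤ D → D.deg = ((0 : ℕ) : ℤ) → D = 0 := by
    intro D hD hdeg
    ext P
    have h1 := coeff_mul_deg_le hD P
    have h2 : 0 ≤ D P := hD P
    have h3 : (0 : ℤ) < P.deg := by exact_mod_cast Place.deg_pos hK P
    rw [hdeg] at h1
    rw [Finsupp.zero_apply]
    push_cast at h1
    nlinarith
  rw [Nat.card_eq_one_iff_unique]
  refine ⟨⟨?_⟩, ⟨⟨0, le_refl _, by rw [deg_zero]; rfl⟩⟩⟩
  rintro ⟨D, hD, hdeg⟩ ⟨E, hE, hdegE⟩
  apply Subtype.ext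
  exact (key D hD hdeg).trans (key E hE hdegE).symm

theorem coeff_tw_of_lt (q : ℂ) (n : ℕ) (P : Polynomial ℂ) {i : ℕ} (hi : n < i) :
    (tw q n P).coeff i = P.coeff i * q ^ i := by
  unfold tw
  rw [Polynomial.coeff_reflect, Polynomial.revAt_eq_self_of_lt hi, Polynomial.comp_C_mul_X_coeff]

/-- The numerator of the zeta function factors over `ℂ` as `∏ (1 - αᵢ t)` with algebraic integers
`αᵢ` such that `αᵢ α_{2g-1-i} = q`. -/
theorem exists_factorization [Finite k] (hK : IsFunctionField k K) :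
    ∃ α : Fin (2 * genus k K) → ℂ, (∀ i, IsIntegral ℤ (α i)) ∧
      PowerSeries.map (Int.castRingHom ℂ) (numerZ k K) =
        ((∏ i, (1 - Polynomial.C (α i) * Polynomial.X) : Polynomial ℂ) : PowerSeries ℂ) ∧
      ∀ i, α i * α (Fin.rev i) = (Nat.card k : ℂ) := by
  obtain ⟨g, hg⟩ : ∃ g, g = genus k K := ⟨_, rfl⟩
  obtain ⟨q, hqdef⟩ : ∃ q : ℂ, q = (Nat.card k : ℂ) := ⟨_, rfl⟩
  have hq : q ≠ 0 := by
    rw [hqdef]
    have : Nat.card k ≠ 0 := Nat.card_pos.ne'
    exact_mod_cast this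
  rw [← hg, ← hqdef]
  obtain ⟨p, hp⟩ := exists_polynomial_eq_numerZ (k := k) (K := K) hK
  have hpc : ∀ i, p.coeff i = PowerSeries.coeff i (numerZ k K) := fun i => by
    rw [← hp, Polynomial.coeff_coe]
  have hpdeg : p.natDegree ≤ 2 * g := by
    rw [Polynomial.natDegree_le_iff_coeff_eq_zero]
    intro i hi
    rw [hpc, coeff_numerZ_eq_zero hK (by rw [← hg]; exact hi)]
  obtain ⟨Ls, hLs⟩ : ∃ Ls : Polynomial ℤ, Ls = Polynomial.reflect (2 * g) p := ⟨_, rfl⟩
  have hLs_coeff : ∀ i, i ≤ 2 * g → Ls.coeff i = p.coeff (2 * g - i) := by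
    intro i hi
    rw [hLs, Polynomial.coeff_reflect, Polynomial.revAt_le hi]
  have hLs_le : Ls.natDegree ≤ 2 * g := by
    rw [Polynomial.natDegree_le_iff_coeff_eq_zero]
    intro i hi
    rw [hLs, Polynomial.coeff_reflect, Polynomial.revAt_eq_self_of_lt hi]
    exact Polynomial.coeff_eq_zero_of_natDegree_lt (lt_of_le_of_lt hpdeg hi)
  have hLs_top : Ls.coeff (2 * g) = 1 := by
    rw [hLs_coeff _ (le_refl _), Nat.sub_self, hpc, coeff_numerZ_zero, effDivCount_zero hK]
    rfl
  have hLs_monic : Ls.Monic := Polynomial.monic_of_natDegree_le_of_coeff_eq_one _ hLs_le hLs_top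
  have hLs_deg : Ls.natDegree = 2 * g := by
    apply le_antisymm hLs_le
    apply Polynomial.le_natDegree_of_ne_zero
    rw [hLs_top]
    exact one_ne_zero
  obtain ⟨P, hPdef⟩ : ∃ P : Polynomial ℂ, P = Ls.map (Int.castRingHom ℂ) := ⟨_, rfl⟩
  have hPm : P.Monic := hPdef ▸ hLs_monic.map _
  have hPd : P.natDegree = 2 * g := by
    rw [hPdef, hLs_monic.natDegree_map, hLs_deg]
  have hPs : tw q (2 * g) P = Polynomial.C (q ^ g) * P := by
    ext i
    by_cases hi : i ≤ 2 * g
    · rw [coeff_tw q _ _ hi, Polynomial.coeff_C_mul, hPdef, Polynomial.coeff_map,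
        Polynomial.coeff_map, hLs_coeff _ (Nat.sub_le _ _), hLs_coeff _ hi,
        Nat.sub_sub_self hi, hpc, hpc]
      have h := coeff_numerZ_symm hK (i := i) (by rw [← hg]; exact hi)
      rw [← hg] at h
      have h' := congrArg (Rat.cast : ℚ → ℂ) h
      push_cast at h'
      rw [← hqdef] at h'
      change ((PowerSeries.coeff i (numerZ k K) : ℤ) : ℂ) * q ^ (2 * g - i) =
        q ^ g * ((PowerSeries.coeff (2 * g - i) (numerZ k K) : ℤ) : ℂ)
      rw [h', ← mul_assoc, ← zpow_natCast q g, ← zpow_add₀ hq, ← zpow_natCast q (2 * g - i),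
        Nat.cast_sub hi]
      push_cast
      rw [mul_comm]
      congr 2
      ring
    · rw [not_le] at hi
      rw [coeff_tw_of_lt q _ _ hi, Polynomial.coeff_C_mul,
        Polynomial.coeff_eq_zero_of_natDegree_lt (by rw [hPd]; exact hi), zero_mul, mul_zero]
  obtain ⟨β, hβ0, hβ⟩ := exists_pair_factor q hq g P hPm hPd hPs
  obtain ⟨α, hα_mem, hα_rev, hα_prod⟩ := exists_arrangement q β hβ0
  refine ⟨α, ?_, ?_, hα_rev⟩
  · intro i
    refine ⟨Ls, hLs_monic, ?_⟩
    rw [Polynomial.eval₂_eq_eval_map]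
    change Polynomial.eval (α i) (Ls.map (Int.castRingHom ℂ)) = 0
    rw [← hPdef, hβ, Polynomial.eval_prod]
    obtain ⟨j, hj⟩ := hα_mem i
    apply Finset.prod_eq_zero (Finset.mem_univ j)
    rw [Polynomial.eval_mul, Polynomial.eval_sub, Polynomial.eval_sub, Polynomial.eval_X,
      Polynomial.eval_C, Polynomial.eval_C]
    rcases hj with hj | hj
    · rw [hj, sub_self, zero_mul]
    · rw [hj, sub_self, mul_zero]
  · rw [← hp, ← Polynomial.polynomial_map_coe, Polynomial.coe_inj,
      hα_prod (fun a => 1 - Polynomial.C a * Polynomial.X), ← reflect_prod_pairs, ← hβ, hPdef, hLs,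
      Polynomial.reflect_map, Polynomial.reflect_reflect]

end Factor

end Groth.Agent.Lib.helper10.Zeta
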