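import Mathlib
import Groth.Agent.Lib.Helper10.Zeta6

/-!
# Zeta functions (helper10), part 7: the logarithmic derivative of the zeta series

`n a(n) = ∑_{m=1}^n N_m a(n-m)` where `N_m = ∑_{deg P ∣ m} deg P`.
-/

set_option autoImplicit false
set_option linter.style.haveILetI false
set_option linter.unusedSectionVars false
set_option linter.unusedVariables false

universe u v w

open FunFld

namespace Groth.Agent.Lib.helper10.Zeta

open FF RD PA

section LogDeriv

variable {k : Type u} {K : Type v} [Field k] [Field K] [Algebra k K]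

/-- The finite set of places of degree at most `n`. -/
noncomputable def placesLE [Finite k] (hK : IsFunctionField k K) (n : ℕ) : Finset (Place k K) :=
  (finite_places_deg_le hK n).toFinset

theorem mem_placesLE [Finite k] (hK : IsFunctionField k K) {n : ℕ} {P : Place k K} :
    P ∈ placesLE hK n ↔ P.deg ≤ n := by
  unfold placesLE
  rw [Set.Finite.mem_toFinset]
  rfl

/-- `N_m = ∑_{deg P ∣ m} deg P`, the number of points over the extension of degree `m`. -/
noncomputable def ptCount [Finite k] (hK : IsFunctionField k K) (m : ℕ) : ℕ :=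
  ∑ P ∈ placesLE hK m, if P.deg ∣ m then P.deg else 0

theorem single_le_iff {D : Divisor k K} (hD : 0 ≤ D) (P : Place k K) (j : ℤ) :
    (Finsupp.single P j : Divisor k K) ≤ D ↔ j ≤ D P := by
  constructor
  · intro h
    have := h P
    rwa [Finsupp.single_eq_same] at this
  · intro h Q
    by_cases hQ : Q = P
    · rw [hQ, Finsupp.single_eq_same]
      exact h
    · rw [Finsupp.single_eq_of_ne hQ]
      exact hD Q

/-- Effective divisors of degree `n` containing `j P` correspond to effective divisors of degree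
`n - j deg P`. -/
noncomputable def shiftEquiv (P : Place k K) (j n : ℕ) (h : j * P.deg ≤ n) :
    {D : Eff k K n // (j : ℤ) ≤ D.1 P} ≃ Eff k K (n - j * P.deg) where
  toFun D := ⟨D.1.1 - Finsupp.single P (j : ℤ),
    sub_nonneg.2 ((single_le_iff D.1.2.1 P j).2 D.2), by
      rw [deg_sub, deg_single, D.1.2.2, Nat.cast_sub h]
      push_cast
      ring⟩
  invFun D' := ⟨⟨D'.1 + Finsupp.single P (j : ℤ),
    add_nonneg D'.2.1 (Finsupp.single_nonneg.2 (Int.natCast_nonneg j)), by
      rw [deg_add, deg_single, D'.2.2, Nat.cast_sub h]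
      push_cast
      ring⟩, by
      show (j : ℤ) ≤ (D'.1 + Finsupp.single P (j : ℤ)) P
      rw [Finsupp.add_apply, Finsupp.single_eq_same]
      have := D'.2.1 P
      rw [Finsupp.zero_apply] at this
      omega⟩
  left_inv D := by
    apply Subtype.ext
    apply Subtype.ext
    show D.1.1 - Finsupp.single P (j : ℤ) + Finsupp.single P (j : ℤ) = D.1.1
    abel
  right_inv D' := by
    apply Subtype.ext
    show D'.1 + Finsupp.single P (j : ℤ) - Finsupp.single P (j : ℤ) = D'.1
    abel

theorem coeff_le_of_eff (hK : IsFunctionField k K) {n : ℕ} (D : Eff k K n) (P : Place k K) :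
    0 ≤ D.1 P ∧ D.1 P * (P.deg : ℤ) ≤ n := by
  constructor
  · have := D.2.1 P
    rwa [Finsupp.zero_apply] at this
  · have := coeff_mul_deg_le D.2.1 P
    rwa [D.2.2] at this

theorem card_shift [Finite k] (hK : IsFunctionField k K) (P : Place k K) (j n : ℕ) (hj : 1 ≤ j) :
    Nat.card {D : Eff k K n // (j : ℤ) ≤ D.1 P} =
      if j * P.deg ≤ n then effDivCount k K (n - j * P.deg) else 0 := by
  split_ifs with h
  · exact Nat.card_congr (shiftEquiv P j n h)
  · haveI : IsEmpty {D : Eff k K n // (j : ℤ) ≤ D.1 P} := by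
      constructor
      rintro ⟨D, hD⟩
      have h1 := (coeff_le_of_eff hK D P).2
      apply h
      have h2 : (j : ℤ) * (P.deg : ℤ) ≤ D.1 P * (P.deg : ℤ) :=
        mul_le_mul_of_nonneg_right hD (Int.natCast_nonneg _)
      have : ((j * P.deg : ℕ) : ℤ) ≤ n := by
        push_cast
        exact h2.trans h1
      exact_mod_cast this
    exact Nat.card_of_isEmpty

theorem sum_indicator_le (n : ℕ) {c : ℤ} (h0 : 0 ≤ c) (hn : c ≤ n) :
    ∑ j ∈ Finset.Icc 1 n, (if (j : ℤ) ≤ c then (1 : ℤ) else 0) = c := by
  obtain ⟨c', rfl⟩ := Int.eq_ofNat_of_zero_le h0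
  have hn' : c' ≤ n := by exact_mod_cast hn
  rw [Finset.sum_boole]
  have : (Finset.Icc 1 n).filter (fun j : ℕ => (j : ℤ) ≤ (c' : ℤ)) = Finset.Icc 1 c' := by
    ext j
    simp only [Finset.mem_filter, Finset.mem_Icc, Nat.cast_le]
    omega
  rw [this, Nat.card_Icc]
  simp

theorem sum_dvd_reindex (d n : ℕ) (hd : 1 ≤ d) (g : ℕ → ℤ) :
    ∑ m ∈ Finset.Icc 1 n, (if d ∣ m then g m else 0) =
      ∑ j ∈ Finset.Icc 1 n, (if j * d ≤ n then g (j * d) else 0) := by
  rw [← Finset.sum_filter, ← Finset.sum_filter]
  refine Finset.sum_nbij' (fun m => m / d) (fun j => j * d) ?_ ?_ ?_ ?_ ?_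
  · intro m hm
    simp only [Finset.mem_filter, Finset.mem_Icc] at hm ⊢
    obtain ⟨⟨h1, h2⟩, c, rfl⟩ := hm
    rw [Nat.mul_div_cancel_left c (by omega)]
    have hc : 1 ≤ c := by
      rcases Nat.eq_zero_or_pos c with rfl | h
      · omega
      · exact h
    refine ⟨⟨hc, ?_⟩, ?_⟩
    · calc c = 1 * c := (one_mul c).symm
        _ ≤ d * c := Nat.mul_le_mul_right c hd
        _ ≤ n := h2
    · rw [mul_comm]
      exact h2
  · intro j hj
    simp only [Finset.mem_filter, Finset.mem_Icc] at hj ⊢
    obtain ⟨⟨h1, h2⟩, h3⟩ := hj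
    refine ⟨⟨?_, h3⟩, Dvd.intro_left j rfl⟩
    calc 1 = 1 * 1 := rfl
      _ ≤ j * d := Nat.mul_le_mul h1 hd
  · intro m hm
    simp only [Finset.mem_filter, Finset.mem_Icc] at hm
    exact Nat.div_mul_cancel hm.2
  · intro j hj
    exact Nat.mul_div_cancel j (by omega)
  · intro m hm
    simp only [Finset.mem_filter, Finset.mem_Icc] at hm
    rw [Nat.div_mul_cancel hm.2]

theorem sum_coeff_eq [Finite k] (hK : IsFunctionField k K) (P : Place k K) (n : ℕ)
    [Fintype (Eff k K n)] :
    ∑ D : Eff k K n, D.1 P = ∑ j ∈ Finset.Icc 1 n,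
      ((if j * P.deg ≤ n then effDivCount k K (n - j * P.deg) else 0 : ℕ) : ℤ) := by
  classical
  have hdeg : (1 : ℤ) ≤ P.deg := by exact_mod_cast Place.deg_pos hK P
  have h1 : ∀ D : Eff k K n, D.1 P =
      ∑ j ∈ Finset.Icc 1 n, (if (j : ℤ) ≤ D.1 P then (1 : ℤ) else 0) := by
    intro D
    obtain ⟨h0, hle⟩ := coeff_le_of_eff hK D P
    rw [sum_indicator_le n h0 (by nlinarith)]
  rw [Finset.sum_congr rfl (fun D _ => h1 D), Finset.sum_comm]
  refine Finset.sum_congr rfl fun j hj => ?_
  rw [Finset.mem_Icc] at hj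
  rw [← card_shift hK P j n hj.1, Finset.sum_boole, Nat.card_eq_fintype_card,
    Fintype.card_subtype]

/-- **The logarithmic derivative of the zeta series**: `n a(n) = ∑_{m=1}^n N_m a(n-m)`. -/
theorem mul_effDivCount [Finite k] (hK : IsFunctionField k K) (n : ℕ) :
    n * effDivCount k K n =
      ∑ m ∈ Finset.Icc 1 n, ptCount hK m * effDivCount k K (n - m) := by
  classical
  haveI : Finite (Eff k K n) := (finite_effDiv hK n).to_subtype
  haveI : Fintype (Eff k K n) := Fintype.ofFinite _
  have key : ((n * effDivCount k K n : ℕ) : ℤ) =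
      ((∑ m ∈ Finset.Icc 1 n, ptCount hK m * effDivCount k K (n - m) : ℕ) : ℤ) := by
    -- left side
    have hL : ((n * effDivCount k K n : ℕ) : ℤ) =
        ∑ P ∈ placesLE hK n, (∑ D : Eff k K n, D.1 P) * (P.deg : ℤ) := by
      have h1 : ((n * effDivCount k K n : ℕ) : ℤ) = ∑ D : Eff k K n, (D.1 : Divisor k K).deg := by
        rw [Finset.sum_congr rfl (fun D _ => D.2.2), Finset.sum_const, Finset.card_univ,
          nsmul_eq_mul]
        unfold effDivCount
        rw [Nat.card_eq_fintype_card]
        push_cast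
        ring
      have h2 : ∀ D : Eff k K n, (D.1 : Divisor k K).deg =
          ∑ P ∈ placesLE hK n, D.1 P * (P.deg : ℤ) := by
        intro D
        unfold Divisor.deg
        apply Finsupp.sum_of_support_subset
        · intro P hP
          rw [Finsupp.mem_support_iff] at hP
          rw [mem_placesLE]
          obtain ⟨h0, hle⟩ := coeff_le_of_eff hK D P
          have h3 : (1 : ℤ) ≤ D.1 P := by omega
          have : (P.deg : ℤ) ≤ n := by
            calc (P.deg : ℤ) = 1 * (P.deg : ℤ) := (one_mul _).symm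
              _ ≤ D.1 P * (P.deg : ℤ) := mul_le_mul_of_nonneg_right h3 (Int.natCast_nonneg _)
              _ ≤ n := hle
          exact_mod_cast this
        · intro P _
          rw [zero_mul]
      rw [h1, Finset.sum_congr rfl (fun D _ => h2 D), Finset.sum_comm]
      refine Finset.sum_congr rfl fun P _ => ?_
      rw [Finset.sum_mul]
    -- right side
    have hR : ((∑ m ∈ Finset.Icc 1 n, ptCount hK m * effDivCount k K (n - m) : ℕ) : ℤ) =
        ∑ P ∈ placesLE hK n, (∑ m ∈ Finset.Icc 1 n,
          (if P.deg ∣ m then (effDivCount k K (n - m) : ℤ) else 0)) * (P.deg : ℤ) := by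
      push_cast
      have h1 : ∀ m ∈ Finset.Icc 1 n, ((ptCount hK m : ℕ) : ℤ) =
          ∑ P ∈ placesLE hK n, (if P.deg ∣ m then (P.deg : ℤ) else 0) := by
        intro m hm
        rw [Finset.mem_Icc] at hm
        unfold ptCount
        push_cast
        apply Finset.sum_subset_zero_on_sdiff
        · intro P hP
          rw [mem_placesLE] at hP ⊢
          omega
        · intro P hP
          rw [Finset.mem_sdiff, mem_placesLE, mem_placesLE] at hP
          rw [if_neg]
          intro hdvd
          exact hP.2 (Nat.le_of_dvd (by omega) hdvd)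
        · intro P _
          rfl
      rw [Finset.sum_congr rfl (fun m hm => by rw [h1 m hm, Finset.sum_mul]), Finset.sum_comm]
      refine Finset.sum_congr rfl fun P _ => ?_
      rw [Finset.sum_mul]
      refine Finset.sum_congr rfl fun m _ => ?_
      split_ifs <;> ring
    rw [hL, hR]
    refine Finset.sum_congr rfl fun P _ => ?_
    congr 1
    rw [sum_coeff_eq hK P n, sum_dvd_reindex P.deg n (Place.deg_pos hK P)
      (fun m => (effDivCount k K (n - m) : ℤ))]
    refine Finset.sum_congr rfl fun j _ => ?_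
    split_ifs <;> simp
  exact_mod_cast key

theorem ptCount_zero [Finite k] (hK : IsFunctionField k K) : ptCount hK 0 = 0 := by
  unfold ptCount
  apply Finset.sum_eq_zero
  intro P hP
  rw [mem_placesLE] at hP
  have := Place.deg_pos hK P
  omega

open PowerSeries in
/-- The zeta series with coefficients in a commutative ring `R`. -/
noncomputable def zetaR (k : Type u) (K : Type v) [Field k] [Field K] [Algebra k K]
    (R : Type*) [CommRing R] : PowerSeries R :=
  PowerSeries.mk fun n => (effDivCount k K n : R)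

open PowerSeries in
/-- The series `∑ N_m t^m`. -/
noncomputable def ptSeries [Finite k] (hK : IsFunctionField k K) (R : Type*) [CommRing R] :
    PowerSeries R :=
  PowerSeries.mk fun m => (ptCount hK m : R)

open PowerSeries in
theorem zetaR_eq_map (R : Type*) [CommRing R] :
    zetaR k K R = PowerSeries.map (Int.castRingHom R) (zetaZ k K) := by
  ext n
  unfold zetaR zetaZ
  rw [coeff_map, coeff_mk, coeff_mk]
  simp

open PowerSeries in
/-- **The logarithmic derivative of the zeta series**, as an identity of power series: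
`t Z'(t) = (∑ N_m t^m) Z(t)`. -/
theorem X_mul_derivative_zetaR [Finite k] (hK : IsFunctionField k K) (R : Type*) [CommRing R] :
    X * derivative R (zetaR k K R) = ptSeries hK R * zetaR k K R := by
  ext n
  rcases n with _ | n
  · rw [coeff_zero_X_mul, coeff_mul, Finset.Nat.sum_antidiagonal_eq_sum_range_succ_mk]
    simp [ptSeries, ptCount_zero hK]
  · rw [coeff_succ_X_mul, coeff_derivative, coeff_mul,
      Finset.Nat.sum_antidiagonal_eq_sum_range_succ_mk]
    unfold zetaR ptSeries
    simp only [coeff_mk]
    have h := mul_effDivCount hK (n + 1)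
    have h' := congrArg (Nat.cast : ℕ → R) h
    push_cast at h'
    rw [mul_comm, h', Finset.sum_range_succ' _ (n + 1), ptCount_zero hK]
    simp only [Nat.cast_zero, zero_mul, add_zero]
    rw [Finset.range_eq_Ico, Finset.sum_Ico_add' (fun m => (ptCount hK m : R) *
      (effDivCount k K (n + 1 - m) : R)) 0 (n + 1) 1]
    rfl

end LogDeriv

end Groth.Agent.Lib.helper10.Zeta
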