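import Mathlib
import Groth.Agent.Lib.Helper10.Zeta7

/-!
# Zeta functions (helper10), part 8: formal logarithmic derivatives
-/

set_option autoImplicit false
set_option linter.style.haveILetI false
set_option linter.unusedSectionVars false
set_option linter.unusedVariables false

universe u v w

open FunFld

namespace Groth.Agent.Lib.helper10.Zeta

section LogD

open PowerSeries

variable {F : Type*} [Field F]

/-- `g` is the logarithmic derivative `t f'/f` of `f`. -/
def LogD (f g : PowerSeries F) : Prop := X * derivative F f = f * g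

theorem LogD.mul {f₁ f₂ g₁ g₂ : PowerSeries F} (h₁ : LogD f₁ g₁) (h₂ : LogD f₂ g₂) :
    LogD (f₁ * f₂) (g₁ + g₂) := by
  unfold LogD at *
  rw [Derivation.leibniz, smul_eq_mul, smul_eq_mul, mul_add, mul_left_comm, h₂, mul_left_comm X,
    h₁]
  ring

theorem LogD.one : LogD (1 : PowerSeries F) 0 := by
  unfold LogD
  rw [derivative_one, mul_zero, mul_zero]

theorem LogD.prod {ι : Type*} (s : Finset ι) (f g : ι → PowerSeries F)
    (h : ∀ i ∈ s, LogD (f i) (g i)) : LogD (∏ i ∈ s, f i) (∑ i ∈ s, g i) := by
  classical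
  induction s using Finset.induction_on with
  | empty =>
    rw [Finset.prod_empty, Finset.sum_empty]
    exact LogD.one
  | insert a s ha ih =>
    rw [Finset.prod_insert ha, Finset.sum_insert ha]
    exact (h a (Finset.mem_insert_self a s)).mul
      (ih fun i hi => h i (Finset.mem_insert_of_mem hi))

theorem LogD.unique_right {f g g' : PowerSeries F} (hf : f ≠ 0) (h : LogD f g) (h' : LogD f g') :
    g = g' := by
  unfold LogD at *
  exact mul_left_cancel₀ hf (h.symm.trans h')

/-- The series `c t / (1 - c t) = ∑_{m ≥ 1} c^m t^m`. -/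
noncomputable def geomS (c : F) : PowerSeries F := PowerSeries.mk fun m => if m = 0 then 0 else c ^ m

theorem coeff_geomS (c : F) (m : ℕ) : coeff m (geomS c) = if m = 0 then 0 else c ^ m := by
  unfold geomS
  rw [coeff_mk]

theorem logD_one_sub (c : F) : LogD (1 - C c * X) (-geomS c) := by
  unfold LogD
  rw [map_sub, derivative_one, zero_sub, Derivation.leibniz, derivative_C, derivative_X,
    smul_eq_mul, smul_eq_mul, mul_zero, add_zero, mul_one]
  ext n
  rw [mul_neg, mul_neg, map_neg, map_neg, neg_inj, sub_mul, one_mul, map_sub]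
  rcases n with _ | n
  · rw [coeff_zero_X_mul, mul_assoc, coeff_C_mul, coeff_zero_X_mul, coeff_geomS]
    simp
  · rw [coeff_succ_X_mul, coeff_C, mul_assoc, coeff_C_mul, coeff_succ_X_mul, coeff_geomS,
      coeff_geomS, if_neg (Nat.succ_ne_zero n)]
    rcases n with _ | n
    · simp
    · rw [if_neg (Nat.succ_ne_zero n), if_neg (Nat.succ_ne_zero n)]
      ring

/-- In characteristic zero a power series with constant coefficient `1` is determined by its
logarithmic derivative. -/
theorem LogD.unique_left [CharZero F] {f h g : PowerSeries F} (hf : LogD f g) (hh : LogD h g)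
    (hf0 : constantCoeff f = 1) (hh0 : constantCoeff h = 1) : f = h := by
  unfold LogD at hf hh
  have hg0 : coeff 0 g = 0 := by
    have := congrArg (coeff 0) hf
    rw [coeff_zero_X_mul, coeff_mul, Finset.Nat.antidiagonal_zero, Finset.sum_singleton,
      coeff_zero_eq_constantCoeff_apply, hf0, one_mul] at this
    exact this.symm
  ext n
  induction n using Nat.strong_induction_on with
  | _ n ih =>
    rcases n with _ | n
    · rw [coeff_zero_eq_constantCoeff_apply, coeff_zero_eq_constantCoeff_apply, hf0, hh0]
    · have h1 := congrArg (coeff (n + 1)) hf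
      have h2 := congrArg (coeff (n + 1)) hh
      rw [coeff_succ_X_mul, coeff_derivative, coeff_mul,
        Finset.Nat.sum_antidiagonal_eq_sum_range_succ_mk, Finset.sum_range_succ] at h1 h2
      simp only [Nat.sub_self] at h1 h2
      rw [hg0, mul_zero, add_zero] at h1 h2
      have h3 : ∑ x ∈ Finset.range (n + 1), coeff x f * coeff (n + 1 - x) g =
          ∑ x ∈ Finset.range (n + 1), coeff x h * coeff (n + 1 - x) g := by
        refine Finset.sum_congr rfl fun x hx => ?_
        rw [Finset.mem_range] at hx
        rw [ih x hx]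
      rw [← h3, ← h1] at h2
      have hne : ((n : F) + 1) ≠ 0 := by exact_mod_cast Nat.succ_ne_zero n
      exact (mul_right_cancel₀ hne h2).symm

/-- The expected logarithmic derivative of `∏ (1 - αᵢ t) / ((1 - t)(1 - q t))`. -/
noncomputable def expLogD {ι : Type*} [Fintype ι] (q : F) (α : ι → F) : PowerSeries F :=
  geomS 1 + geomS q - ∑ i, geomS (α i)

theorem coeff_expLogD {ι : Type*} [Fintype ι] (q : F) (α : ι → F) {m : ℕ} (hm : m ≠ 0) :
    coeff m (expLogD q α) = 1 + q ^ m - ∑ i, α i ^ m := by
  unfold expLogD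
  rw [map_sub, map_add, map_sum, coeff_geomS, coeff_geomS, if_neg hm, if_neg hm, one_pow]
  congr 1
  refine Finset.sum_congr rfl fun i _ => ?_
  rw [coeff_geomS, if_neg hm]

theorem constantCoeff_one_sub (c : F) : constantCoeff (1 - C c * X : PowerSeries F) = 1 := by
  rw [map_sub, map_one, map_mul, constantCoeff_X, mul_zero, sub_zero]

theorem constantCoeff_prod_one_sub {ι : Type*} [Fintype ι] (α : ι → F) :
    constantCoeff (∏ i, (1 - C (α i) * X : PowerSeries F)) = 1 := by
  rw [map_prod]
  exact Finset.prod_eq_one fun i _ => constantCoeff_one_sub _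

theorem logD_numer {ι : Type*} [Fintype ι] (q : F) (α : ι → F) {Z S : PowerSeries F}
    (hZ : LogD Z S) :
    LogD ((1 - C 1 * X) * (1 - C q * X) * Z) (-geomS 1 + -geomS q + S) :=
  ((logD_one_sub 1).mul (logD_one_sub q)).mul hZ

theorem logD_prod_one_sub {ι : Type*} [Fintype ι] (α : ι → F) :
    LogD (∏ i, (1 - C (α i) * X : PowerSeries F)) (∑ i, -geomS (α i)) :=
  LogD.prod _ _ _ fun i _ => logD_one_sub (α i)

/-- From the factorisation of the numerator to the logarithmic derivative. -/
theorem logD_eq_of_factor {ι : Type*} [Fintype ι] (q : F) (α : ι → F) {Z S : PowerSeries F}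
    (hZ : LogD Z S)
    (hfac : (1 - C 1 * X) * (1 - C q * X) * Z = ∏ i, (1 - C (α i) * X : PowerSeries F)) :
    S = expLogD q α := by
  have h1 := logD_numer q α hZ
  rw [hfac] at h1
  have hne : (∏ i, (1 - C (α i) * X : PowerSeries F)) ≠ 0 := by
    intro h0
    have := constantCoeff_prod_one_sub α
    rw [h0, map_zero] at this
    exact zero_ne_one this
  have h2 := LogD.unique_right hne h1 (logD_prod_one_sub α)
  unfold expLogD
  rw [Finset.sum_neg_distrib] at h2
  linear_combination h2

/-- From the logarithmic derivative to the factorisation of the numerator. -/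
theorem factor_of_logD_eq [CharZero F] {ι : Type*} [Fintype ι] (q : F) (α : ι → F)
    {Z : PowerSeries F} (hZ : LogD Z (expLogD q α)) (hZ0 : constantCoeff Z = 1) :
    (1 - C 1 * X) * (1 - C q * X) * Z = ∏ i, (1 - C (α i) * X : PowerSeries F) := by
  have h1 := logD_numer q α hZ
  have h2 := logD_prod_one_sub α
  have e : -geomS 1 + -geomS q + expLogD q α = ∑ i, -geomS (α i) := by
    unfold expLogD
    rw [Finset.sum_neg_distrib]
    ring
  rw [e] at h1
  apply LogD.unique_left h1 h2
  · rw [map_mul, map_mul, constantCoeff_one_sub, constantCoeff_one_sub, hZ0]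
    ring
  · exact constantCoeff_prod_one_sub α

end LogD

section Apply

open PowerSeries FF RD PA

variable {k : Type u} {K : Type v} [Field k] [Field K] [Algebra k K]

theorem logD_zetaR [Finite k] (hK : IsFunctionField k K) :
    LogD (zetaR k K ℂ) (ptSeries hK ℂ) := by
  unfold LogD
  rw [X_mul_derivative_zetaR hK ℂ, mul_comm]

theorem constantCoeff_zetaR (hK : IsFunctionField k K) :
    constantCoeff (zetaR k K ℂ) = 1 := by
  unfold zetaR
  rw [← coeff_zero_eq_constantCoeff_apply, coeff_mk, effDivCount_zero hK, Nat.cast_one]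

theorem map_numerZ :
    PowerSeries.map (Int.castRingHom ℂ) (numerZ k K) =
      (1 - C 1 * X) * (1 - C (Nat.card k : ℂ) * X) * zetaR k K ℂ := by
  unfold numerZ
  rw [map_mul, map_mul, map_sub, map_sub, map_one, map_mul, PowerSeries.map_X, PowerSeries.map_C,
    zetaR_eq_map, map_one, one_mul]
  simp

theorem coe_prod_one_sub {ι : Type*} [Fintype ι] (α : ι → ℂ) :
    ((∏ i, (1 - Polynomial.C (α i) * Polynomial.X) : Polynomial ℂ) : PowerSeries ℂ) =
      ∏ i, (1 - C (α i) * X : PowerSeries ℂ) := by
  rw [← Polynomial.coeToPowerSeries.ringHom_apply, map_prod]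
  refine Finset.prod_congr rfl fun i _ => ?_
  rw [Polynomial.coeToPowerSeries.ringHom_apply]
  simp

/-- The number of points over the extension of degree `m` in terms of the reciprocal roots of the
numerator of the zeta function. -/
theorem ptCount_eq [Finite k] (hK : IsFunctionField k K) {ι : Type*} [Fintype ι] (α : ι → ℂ)
    (hα : PowerSeries.map (Int.castRingHom ℂ) (numerZ k K) =
      ((∏ i, (1 - Polynomial.C (α i) * Polynomial.X) : Polynomial ℂ) : PowerSeries ℂ))
    {m : ℕ} (hm : m ≠ 0) :
    (ptCount hK m : ℂ) = 1 + (Nat.card k : ℂ) ^ m - ∑ i, α i ^ m := by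
  rw [map_numerZ, coe_prod_one_sub] at hα
  have h := logD_eq_of_factor (Nat.card k : ℂ) α (logD_zetaR hK) hα
  have h2 := congrArg (coeff m) h
  rw [coeff_expLogD _ _ hm] at h2
  rw [← h2]
  unfold ptSeries
  rw [coeff_mk]

/-- Conversely the point counts determine the numerator. -/
theorem map_numerZ_eq_of_ptCount [Finite k] (hK : IsFunctionField k K) {ι : Type*} [Fintype ι]
    (α : ι → ℂ)
    (h : ∀ m : ℕ, m ≠ 0 → (ptCount hK m : ℂ) = 1 + (Nat.card k : ℂ) ^ m - ∑ i, α i ^ m) :
    PowerSeries.map (Int.castRingHom ℂ) (numerZ k K) =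
      ((∏ i, (1 - Polynomial.C (α i) * Polynomial.X) : Polynomial ℂ) : PowerSeries ℂ) := by
  rw [map_numerZ, coe_prod_one_sub]
  apply factor_of_logD_eq _ _ _ (constantCoeff_zetaR hK)
  have e : ptSeries hK ℂ = expLogD (Nat.card k : ℂ) α := by
    ext m
    by_cases hm : m = 0
    · subst hm
      unfold ptSeries expLogD
      rw [coeff_mk, ptCount_zero hK, map_sub, map_add, map_sum, coeff_geomS, coeff_geomS]
      simp [coeff_geomS]
    · rw [coeff_expLogD _ _ hm, ← h m hm]
      unfold ptSeries
      rw [coeff_mk]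
  rw [← e]
  exact logD_zetaR hK

end Apply

end Groth.Agent.Lib.helper10.Zeta
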