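import Mathlib
import Groth.Agent.Lib.Helper10.Zeta8

/-!
# Zeta functions (helper10), part 9: the decomposition law in constant field extensions
-/

set_option autoImplicit false
set_option linter.style.haveILetI false
set_option linter.unusedSectionVars false
set_option linter.unusedVariables false

universe u v w

open FunFld Polynomial

namespace Groth.Agent.Lib.helper10.Zeta

open FF RD PA

section Decomp2

variable {k : Type u} {K : Type v} {K' : Type w} [Field k] [Field K] [Field K'] [Algebra k K]
  [Algebra K K'] [Algebra k K'] [IsScalarTower k K K']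

/-- Elements of the residue field at `Q` fixed by the `|κ(P)|`-th power map come from `κ(P)`
(universe-general version). -/
theorem mem_range_mapRes_of_pow_eq' [Finite k] (hK : IsFunctionField k K) {P : Place k K}
    {Q : Place k K'} (hQP : IsOver Q P) (y : IsLocalRing.ResidueField Q.O)
    (hy : y ^ (Nat.card k) ^ P.deg = y) : y ∈ Set.range (Place.mapRes hQP) := by
  classical
  have hfd := Place.finiteDimensional_residueField hK P
  haveI hfd' : @Module.Finite k (IsLocalRing.ResidueField P.O) _ _ (Place.algRes P).toModule := hfd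
  haveI : Finite (IsLocalRing.ResidueField P.O) := Module.finite_of_finite k
  haveI : Fintype (IsLocalRing.ResidueField P.O) := Fintype.ofFinite _
  have hcard : Fintype.card (IsLocalRing.ResidueField P.O) = Nat.card k ^ P.deg := by
    rw [Fintype.card_eq_nat_card]
    exact Module.natCard_eq_pow_finrank (K := k) (V := IsLocalRing.ResidueField P.O)
  have hq : 2 ≤ Nat.card k := Finite.one_lt_card
  have hd : 0 < P.deg := Place.deg_pos hK P
  have hN : 1 < Nat.card k ^ P.deg := Nat.one_lt_pow hd.ne' hq
  set N := Nat.card k ^ P.deg with hNdef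
  set R : (IsLocalRing.ResidueField Q.O)[X] := X ^ N - X with hR
  have hR0 : R ≠ 0 := FiniteField.X_pow_card_sub_X_ne_zero _ hN
  have hRdeg : R.natDegree = N := FiniteField.X_pow_card_sub_X_natDegree_eq _ hN
  have hinj : Function.Injective (Place.mapRes hQP) := (Place.mapRes hQP).injective
  have hsub : Finset.univ.image (Place.mapRes hQP) ⊆ R.roots.toFinset := by
    intro z hz
    obtain ⟨x, -, rfl⟩ := Finset.mem_image.1 hz
    rw [Multiset.mem_toFinset, mem_roots hR0, IsRoot.def, hR, eval_sub, eval_pow, eval_X,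
      ← map_pow, ← hcard, FiniteField.pow_card, sub_self]
  have hcardle : R.roots.toFinset.card ≤ (Finset.univ.image (Place.mapRes hQP)).card := by
    rw [Finset.card_image_of_injective _ hinj, Finset.card_univ, hcard]
    calc R.roots.toFinset.card ≤ R.roots.card := Multiset.toFinset_card_le _
      _ ≤ R.natDegree := card_roots' R
      _ = N := hRdeg
  have heq := Finset.eq_of_subset_of_card_le hsub hcardle
  have hyR : y ∈ R.roots.toFinset := by
    rw [Multiset.mem_toFinset, mem_roots hR0, IsRoot.def, hR, eval_sub, eval_pow, eval_X, hy,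
      sub_self]
  rw [← heq] at hyR
  obtain ⟨x, -, hx⟩ := Finset.mem_image.1 hyR
  exact ⟨x, hx⟩

/-- The decomposition group at `Q | P` fixes every algebraic constant of degree dividing
`deg P`. -/
theorem apply_eq_of_mem_decomposition [Finite k]
    (hK : IsFunctionField k K) {f : k[X]} (hirr : Irreducible f)
    (hsep : f.Separable) {β : K'} (hβ : aeval β f = 0) {P : Place k K} {Q : Place k K'}
    (hQP : IsOver Q P) (hdvd : f.natDegree ∣ P.deg) {σ : K' ≃ₐ[K] K'}
    (hσ : σ ∈ (Q.O).decompositionSubgroup K) : σ β = β := by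
  have hf0 : f ≠ 0 := hirr.ne_zero
  have hβalg : IsAlgebraic k β := ⟨f, hf0, hβ⟩
  have hβ1 : Q.1 β ≤ 1 := Place.val_le_one_of_isAlgebraic Q hβalg
  obtain ⟨βO, hβO⟩ : ∃ b : Q.O, b = ⟨β, hβ1⟩ := ⟨_, rfl⟩
  have hβOroot : aeval βO f = 0 := by
    apply Subtype.ext
    rw [Place.coe_aeval, hβO]
    exact hβ
  have hpow : (IsLocalRing.residue Q.O βO) ^ (Nat.card k) ^ P.deg = IsLocalRing.residue Q.O βO := by
    have h1 := (hirr.natDegree_dvd_iff_dvd_X_pow_card_pow_sub_X (n := P.deg)).1 hdvd
    obtain ⟨g, hg⟩ := h1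
    have h2 := congrArg (aeval (IsLocalRing.residue Q.O βO)) hg
    have hrf : aeval (IsLocalRing.residue Q.O βO) f = 0 := by
      rw [← Place.residue_aeval, hβOroot, map_zero]
    rw [map_mul, hrf, zero_mul, map_sub, map_pow, aeval_X, sub_eq_zero] at h2
    exact h2
  obtain ⟨xb, hxb⟩ := mem_range_mapRes_of_pow_eq' hK hQP _ hpow
  obtain ⟨a, rfl⟩ := IsLocalRing.residue_surjective xb
  rw [Place.mapRes_residue] at hxb
  have hlt : Q.1 (β - algebraMap K K' (a : K)) < 1 := by
    have := val_sub_lt_of_residue_eq Q hβ1 (Place.mapO hQP a).2 (by rw [← hβO]; exact hxb.symm)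
    exact this
  have hσβ : Q.1 (σ β - β) < 1 := by
    have e1 : σ β - β = σ (β - algebraMap K K' (a : K)) - (β - algebraMap K K' (a : K)) := by
      rw [map_sub, AlgEquiv.commutes]
      ring
    rw [e1]
    refine lt_of_le_of_lt (Valuation.map_sub _ _ _) (max_lt ?_ hlt)
    rw [val_apply_of_mem_decomposition Q hσ]
    exact hlt
  by_contra hne
  have hγ : aeval (σ β) f = 0 := by
    have := Polynomial.aeval_algHom_apply ((σ : K' →ₐ[K] K').restrictScalars k) β f
    rw [hβ, map_zero] at this
    exact this
  have hγ1 : Q.1 (σ β) ≤ 1 := Place.val_le_one_of_isAlgebraic Q ⟨f, hf0, hγ⟩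
  obtain ⟨γO, hγO⟩ : ∃ b : Q.O, b = ⟨σ β, hγ1⟩ := ⟨_, rfl⟩
  have hγOroot : aeval γO f = 0 := by
    apply Subtype.ext
    rw [Place.coe_aeval, hγO]
    exact hγ
  obtain ⟨c, hc⟩ := Polynomial.binomExpansion (f.map (algebraMap k Q.O)) βO (γO - βO)
  rw [add_sub_cancel, eval_map_algebraMap, eval_map_algebraMap, hγOroot, hβOroot, zero_add,
    derivative_map, eval_map_algebraMap] at hc
  have hδ0 : γO - βO ≠ 0 := by
    intro h
    apply hne
    have := congrArg Subtype.val (sub_eq_zero.1 h)
    rw [hγO, hβO] at this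
    exact this
  have hder : aeval βO (derivative f) = -(c * (γO - βO)) := by
    have h1 : (aeval βO (derivative f) + c * (γO - βO)) * (γO - βO) = 0 := by
      rw [add_mul, mul_assoc, ← sq]
      exact hc.symm
    rcases mul_eq_zero.1 h1 with h2 | h2
    · exact eq_neg_of_add_eq_zero_left h2
    · exact absurd h2 hδ0
  have hval : Q.1 (aeval β (derivative f)) < 1 := by
    have e1 : aeval β (derivative f) = ((aeval βO (derivative f) : Q.O) : K') := by
      rw [Place.coe_aeval, hβO]
    rw [e1, hder]
    push_cast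
    rw [Valuation.map_neg, map_mul]
    have e2 : ((γO : K') - (βO : K')) = σ β - β := by rw [hγO, hβO]
    rw [e2]
    calc Q.1 (c : K') * Q.1 (σ β - β) ≤ 1 * Q.1 (σ β - β) := mul_le_mul' c.2 le_rfl
      _ < 1 := by rw [one_mul]; exact hσβ
  have hne0 : aeval β (derivative f) ≠ 0 := hsep.aeval_derivative_ne_zero hβ
  have halg : IsAlgebraic k (aeval β (derivative f)) := by
    have h1 : aeval β (derivative f) ∈ Algebra.adjoin k ({β} : Set K') :=
      aeval_mem_adjoin_singleton _ _
    have h2 : Algebra.adjoin k ({β} : Set K') ≤ integralClosure k K' :=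
      Algebra.adjoin_le (Set.singleton_subset_iff.2 hβalg.isIntegral)
    exact (h2 h1 : IsIntegral k _).isAlgebraic
  rw [Place.val_eq_one_of_isAlgebraic Q halg hne0] at hval
  exact lt_irrefl _ hval

open IntermediateField in
theorem finrank_adjoin_const (hK : IsFunctionField k K) {f : k[X]} (hm : f.Monic)
    (hirr : Irreducible f) {β : K'} (hβ : aeval β f = 0) :
    Module.finrank K K⟮β⟯ = f.natDegree := by
  have hirrK := irreducible_map_of_algClosed hK.2 hirr hm
  have hroot : aeval β (f.map (algebraMap k K)) = 0 := by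
    rw [aeval_map_algebraMap]
    exact hβ
  have hmin := minpoly.eq_of_irreducible_of_monic hirrK hroot (hm.map _)
  have hint : IsIntegral K β := ⟨f.map (algebraMap k K), hm.map _, hroot⟩
  rw [IntermediateField.adjoin.finrank hint, ← hmin, natDegree_map]

open IntermediateField in
/-- The order of the decomposition group times the degree of any constant subextension of degree
dividing `deg P` divides the degree of the extension. -/
theorem card_decomposition_mul_dvd [Finite k] [FiniteDimensional K K'] [IsGalois K K']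
    (hK : IsFunctionField k K) {f : k[X]} (hm : f.Monic) (hirr : Irreducible f)
    (hsep : f.Separable) {β : K'} (hβ : aeval β f = 0) {P : Place k K} {Q : Place k K'}
    (hQP : IsOver Q P) (hdvd : f.natDegree ∣ P.deg) :
    Nat.card ((Q.O).decompositionSubgroup K) * f.natDegree ∣ Module.finrank K K' := by
  have hle : (Q.O).decompositionSubgroup K ≤ (K⟮β⟯).fixingSubgroup := by
    intro σ hσ
    rw [IntermediateField.mem_fixingSubgroup_iff]
    have hfix := apply_eq_of_mem_decomposition hK hirr hsep hβ hQP hdvd hσ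
    have h1 : K⟮β⟯ ≤ IntermediateField.fixedField (Subgroup.zpowers σ) := by
      rw [IntermediateField.adjoin_simple_le_iff, IntermediateField.mem_fixedField_iff]
      intro τ hτ
      obtain ⟨j, rfl⟩ := Subgroup.mem_zpowers_iff.1 hτ
      have : ∀ j : ℕ, (σ ^ j) β = β := by
        intro j
        induction j with
        | zero => rfl
        | succ j ih => rw [pow_succ, AlgEquiv.mul_apply, hfix, ih]
      rcases Int.eq_nat_or_neg j with ⟨m, rfl | rfl⟩
      · rw [zpow_natCast]
        exact this m
      · rw [zpow_neg, zpow_natCast]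
        have h2 := this m
        have h3 : (σ ^ m)⁻¹ ((σ ^ m) β) = β := by
          show ((σ ^ m)⁻¹ * (σ ^ m)) β = β
          rw [inv_mul_cancel]
          rfl
        rw [h2] at h3
        exact h3
    intro x hx
    have h2 := h1 hx
    rw [IntermediateField.mem_fixedField_iff] at h2
    exact h2 σ (Subgroup.mem_zpowers σ)
  have h1 := Subgroup.card_dvd_of_le hle
  rw [IsGalois.card_fixingSubgroup_eq_finrank] at h1
  rw [← Module.finrank_mul_finrank K K⟮β⟯ K', finrank_adjoin_const hK hm hirr hβ, mul_comm]
  exact Nat.mul_dvd_mul_left _ h1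

theorem Place.deg_dvd_of_isOver {P : Place k K}
    {Q : Place k K'} (hQP : IsOver Q P) : P.deg ∣ Q.deg := by
  rw [← Place.finrank_fieldRange_mapRes hQP]
  have htower : Module.finrank k (Place.mapRes hQP).fieldRange *
      Module.finrank (Place.mapRes hQP).fieldRange (IsLocalRing.ResidueField Q.O) =
      @Module.finrank k (IsLocalRing.ResidueField Q.O) _ _ (Place.algRes Q).toModule :=
    Module.finrank_mul_finrank k _ _
  exact Dvd.intro _ htower

/-- The degree of an algebraic constant divides the degree of every place. -/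
theorem natDegree_dvd_deg (hK'fd : ∀ Q : Place k K',
      @Module.Finite k (IsLocalRing.ResidueField Q.O) _ _ (Place.algRes Q).toModule)
    {f : k[X]} (hirr : Irreducible f) {β : K'} (hβ : aeval β f = 0) (Q : Place k K') :
    f.natDegree ∣ Q.deg := by
  have hf0 : f ≠ 0 := hirr.ne_zero
  have hβalg : IsAlgebraic k β := ⟨f, hf0, hβ⟩
  have hβ1 : Q.1 β ≤ 1 := Place.val_le_one_of_isAlgebraic Q hβalg
  obtain ⟨βO, hβO⟩ : ∃ b : Q.O, b = ⟨β, hβ1⟩ := ⟨_, rfl⟩
  have hβOroot : aeval βO f = 0 := by
    apply Subtype.ext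
    rw [Place.coe_aeval, hβO]
    exact hβ
  have hrf : aeval (IsLocalRing.residue Q.O βO) f = 0 := by
    rw [← Place.residue_aeval, hβOroot, map_zero]
  letI : Algebra k (IsLocalRing.ResidueField Q.O) := Place.algRes Q
  haveI : Module.Finite k (IsLocalRing.ResidueField Q.O) := hK'fd Q
  have hint : IsIntegral k (IsLocalRing.residue Q.O βO) :=
    Algebra.IsIntegral.isIntegral _
  have key := minpoly.Irreducible.eq_minpoly hirr hrf
  have h1 := minpoly.degree_dvd (K := k) (L := IsLocalRing.ResidueField Q.O) hint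
  have h2 : f.natDegree = (minpoly k (IsLocalRing.residue Q.O βO)).natDegree := by
    rw [key, natDegree_C_mul (leadingCoeff_ne_zero.mpr hf0)]
  rw [h2]
  exact h1

open IntermediateField in
/-- Inside a finite constant extension there is a constant of every degree dividing the degree of
the extension. -/
theorem exists_const_of_dvd [Finite k] {f : k[X]} (hirr : Irreducible f) {β : K'}
    (hβ : aeval β f = 0) {g : ℕ} (hg : 0 < g) (hgn : g ∣ f.natDegree) :
    ∃ (f' : k[X]) (β' : K'), f'.Monic ∧ Irreducible f' ∧ f'.Separable ∧ f'.natDegree = g ∧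
      aeval β' f' = 0 := by
  obtain ⟨f', hm', hirr', hdeg', hsep'⟩ := exists_irreducible_natDegree (k := k) hg
  haveI : Fact (Irreducible f') := ⟨hirr'⟩
  have hf0 : f ≠ 0 := hirr.ne_zero
  have halg : IsAlgebraic k β := ⟨f, hf0, hβ⟩
  have hint : IsIntegral k β := halg.isIntegral
  haveI : FiniteDimensional k k⟮β⟯ := IntermediateField.adjoin.finiteDimensional hint
  haveI : Finite k⟮β⟯ := Module.finite_of_finite k
  have hfr : Module.finrank k k⟮β⟯ = f.natDegree := by
    rw [IntermediateField.adjoin.finrank hint]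
    have key := minpoly.Irreducible.eq_minpoly hirr hβ
    rw [key, natDegree_C_mul (leadingCoeff_ne_zero.mpr hf0)]
  have hfr' : Module.finrank k (AdjoinRoot f') = g := by
    rw [← hdeg']
    exact finrank_quotient_span_eq_natDegree
  obtain ⟨φ⟩ := FiniteField.nonempty_algHom_of_finrank_dvd (F := k) (K := AdjoinRoot f')
    (L := k⟮β⟯) (by rw [hfr, hfr']; exact hgn)
  refine ⟨f', ((φ (AdjoinRoot.root f') : k⟮β⟯) : K'), hm', hirr', hsep', hdeg', ?_⟩
  have h1 : aeval (φ (AdjoinRoot.root f')) f' = 0 := by
    rw [Polynomial.aeval_algHom_apply, AdjoinRoot.aeval_eq, AdjoinRoot.mk_self, map_zero]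
  have h2 := Polynomial.aeval_algHom_apply (IntermediateField.val k⟮β⟯)
    (φ (AdjoinRoot.root f')) f'
  rw [h1, map_zero] at h2
  exact h2

/-- **The decomposition law for constant field extensions** (of a function field over a finite
field): a place of degree `d` has exactly `gcd(d, n)` places above it in the constant field
extension of degree `n`, each unramified and of degree `lcm(d, n)` over the small constant
field. -/
theorem decomposition_law [Finite k] [FiniteDimensional K K'] [IsGalois K K']
    (hK : IsFunctionField k K) {f : k[X]} (hm : f.Monic) (hirr : Irreducible f)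
    (hsep : f.Separable) {β : K'} (hβ : aeval β f = 0)
    (hgen : IntermediateField.adjoin K ({β} : Set K') = ⊤) (P : Place k K) :
    Nat.card {Q : Place k K' // IsOver Q P} = Nat.gcd P.deg f.natDegree ∧
      ∀ Q : Place k K', IsOver Q P → IsOverWith Q P 1 ∧ Q.deg = Nat.lcm P.deg f.natDegree := by
  obtain ⟨d, hd⟩ : ∃ d, d = P.deg := ⟨_, rfl⟩
  obtain ⟨n, hn⟩ : ∃ n, n = f.natDegree := ⟨_, rfl⟩
  have hdpos : 0 < d := hd ▸ Place.deg_pos hK P
  have hnK : Module.finrank K K' = n := by
    rw [← IntermediateField.finrank_top', ← hgen, finrank_adjoin_const hK hm hirr hβ, hn]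
  have hnpos : 0 < n := by
    rw [← hnK]
    exact Module.finrank_pos
  have hgpos : 0 < Nat.gcd d n := Nat.gcd_pos_of_pos_left _ hdpos
  obtain ⟨f', β', hm', hirr', hsep', hdeg', hβ'⟩ :=
    exists_const_of_dvd hirr hβ hgpos (hn ▸ Nat.gcd_dvd_right d n)
  have hfd : ∀ Q : Place k K',
      @Module.Finite k (IsLocalRing.ResidueField Q.O) _ _ (Place.algRes Q).toModule :=
    fun Q => Place.finiteDimensional_residueField' hK Q
  have hgl : Nat.gcd d n * Nat.lcm d n = d * n := Nat.gcd_mul_lcm d n
  -- the key computation for one place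
  have key : ∀ (Q : Place k K') (e : ℕ), IsOverWith Q P e →
      e = 1 ∧ Q.deg = Nat.lcm d n ∧
        Nat.card ((Q.O).decompositionSubgroup K) * Nat.gcd d n = n := by
    intro Q e he
    have hQP : IsOver Q P := ⟨e, he⟩
    have h2 := card_decomposition_mul_deg hK he
    have h3 := card_decomposition_mul_dvd hK hm' hirr' hsep' hβ' hQP
      (by rw [hdeg', hd]; exact Nat.gcd_dvd_left _ _)
    rw [hdeg', hnK] at h3
    have h3' : Nat.card ((Q.O).decompositionSubgroup K) * Nat.gcd d n ≤ n :=
      Nat.le_of_dvd hnpos h3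
    have h4 : d ∣ Q.deg := hd ▸ Place.deg_dvd_of_isOver hQP
    have h5 : n ∣ Q.deg := hn ▸ natDegree_dvd_deg hfd hirr hβ Q
    have hL : Nat.lcm d n ∣ Q.deg := Nat.lcm_dvd h4 h5
    have hQpos : 0 < Q.deg := Place.deg_pos' hK Q
    have hLle : Nat.lcm d n ≤ Q.deg := Nat.le_of_dvd hQpos hL
    have hepos : 0 < e := isOverWith_pos he
    rw [← hd] at h2
    obtain ⟨D, hD⟩ : ∃ D, D = Nat.card ((Q.O).decompositionSubgroup K) := ⟨_, rfl⟩
    rw [← hD] at h2 h3' ⊢
    obtain ⟨G, hG⟩ : ∃ G, G = Nat.gcd d n := ⟨_, rfl⟩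
    obtain ⟨L, hLdef⟩ : ∃ L, L = Nat.lcm d n := ⟨_, rfl⟩
    rw [← hG] at h3' hgl hgpos ⊢
    rw [← hLdef] at hgl hLle ⊢
    -- e * deg Q * G = D * d * G ≤ n * d = G * L
    have h6 : e * Q.deg * G ≤ G * L := by
      calc e * Q.deg * G = D * d * G := by rw [h2]
        _ = (D * G) * d := by ring
        _ ≤ n * d := Nat.mul_le_mul_right d h3'
        _ = G * L := by rw [hgl]; ring
    have h7 : e * Q.deg ≤ L := by
      have : G * (e * Q.deg) ≤ G * L := by
        calc G * (e * Q.deg) = e * Q.deg * G := by ring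
          _ ≤ G * L := h6
      exact Nat.le_of_mul_le_mul_left this hgpos
    have h8 : Q.deg ≤ e * Q.deg := Nat.le_mul_of_pos_left _ hepos
    have hQL : Q.deg = L := le_antisymm (h8.trans h7) hLle
    have he1 : e = 1 := by
      have h9 : e * Q.deg ≤ 1 * Q.deg := by
        rw [one_mul]
        exact h7.trans hLle
      have := Nat.le_of_mul_le_mul_right h9 hQpos
      omega
    refine ⟨he1, hQL, ?_⟩
    rw [he1, one_mul, hQL] at h2
    have h10 : (D * G) * d = n * d := by
      calc (D * G) * d = (D * d) * G := by ring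
        _ = L * G := by rw [h2]
        _ = n * d := by rw [mul_comm L G, hgl]; ring
    exact Nat.eq_of_mul_eq_mul_right hdpos h10
  obtain ⟨Q₀, e₀, he₀⟩ := exists_place_over (E := K') hK P
  constructor
  · have h1 := card_places_mul_card_decomposition (k := k) (⟨e₀, he₀⟩ : IsOver Q₀ P)
    obtain ⟨-, -, h3⟩ := key Q₀ e₀ he₀
    rw [hnK, ← h3, mul_comm (Nat.card _) (Nat.gcd d n)] at h1
    have hDpos : 0 < Nat.card ((Q₀.O).decompositionSubgroup K) := Nat.card_pos
    rw [← hd, ← hn]
    exact Nat.eq_of_mul_eq_mul_right hDpos h1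
  · rintro Q ⟨e, he⟩
    obtain ⟨he1, hQL, -⟩ := key Q e he
    rw [← hd, ← hn]
    exact ⟨he1 ▸ he, hQL⟩

end Decomp2

section ConstExt

universe u'

variable {k : Type u} {K : Type v} {k' : Type u'} {K' : Type w} [Field k] [Field K] [Field k']
  [Field K'] [Algebra k K] [Algebra k k'] [Algebra K K'] [Algebra k' K'] [Algebra k K']
  [IsScalarTower k K K'] [IsScalarTower k k' K']

open IntermediateField in
/-- A constant field extension of finite fields is generated by a root of a separable irreducible
polynomial over the small constant field. -/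
theorem exists_generator_constExt [Finite k] [Finite k'] (hK : IsFunctionField k K)
    (hdeg : Module.finrank K K' = Module.finrank k k') :
    ∃ (f : k[X]) (β : K'), f.Monic ∧ Irreducible f ∧ f.Separable ∧
      f.natDegree = Module.finrank k k' ∧ aeval β f = 0 ∧
      IntermediateField.adjoin K ({β} : Set K') = ⊤ := by
  haveI : FiniteDimensional k k' := Module.Finite.of_finite
  obtain ⟨β₀, hβ₀⟩ := Field.exists_primitive_element k k'
  have hint : IsIntegral k β₀ := Algebra.IsIntegral.isIntegral β₀
  have hdegf : (minpoly k β₀).natDegree = Module.finrank k k' := by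
    rw [← IntermediateField.adjoin.finrank hint, hβ₀, IntermediateField.finrank_top']
  have hroot : aeval (algebraMap k' K' β₀) (minpoly k β₀) = 0 := by
    rw [aeval_algebraMap_apply, minpoly.aeval, map_zero]
  have hpos : 0 < Module.finrank K K' := by
    rw [hdeg]
    exact Module.finrank_pos
  haveI : FiniteDimensional K K' := Module.finite_of_finrank_pos hpos
  refine ⟨minpoly k β₀, algebraMap k' K' β₀, minpoly.monic hint, minpoly.irreducible hint,
    Algebra.IsSeparable.isSeparable k β₀, hdegf, hroot, ?_⟩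
  apply IntermediateField.eq_of_le_of_finrank_eq le_top
  rw [finrank_adjoin_const hK (minpoly.monic hint) (minpoly.irreducible hint) hroot, hdegf,
    IntermediateField.finrank_top', hdeg]

/-- The place of `K` under a place of the constant extension. -/
noncomputable def under [Algebra.IsAlgebraic K K'] (hK : IsFunctionField k K)
    (Q' : Place k' K') : Place k K :=
  Classical.choose (exists_place_under hK (Place.down (k := k) Q'))

theorem isOver_under [Algebra.IsAlgebraic K K'] (hK : IsFunctionField k K) (Q' : Place k' K') :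
    IsOver (Place.down (k := k) Q') (under hK Q') :=
  Classical.choose_spec (exists_place_under hK (Place.down (k := k) Q'))

theorem under_eq_iff [Algebra.IsAlgebraic K K'] (hK : IsFunctionField k K) (Q' : Place k' K')
    (P : Place k K) : under hK Q' = P ↔ IsOver (Place.down (k := k) Q') P := by
  constructor
  · rintro rfl
    exact isOver_under hK Q'
  · intro h
    exact eq_of_isOver (isOver_under hK Q') h

/-- The places of the constant extension over `P`, with either constant field. -/
noncomputable def fibreUnderEquiv [Algebra.IsAlgebraic K K'] [Algebra.IsAlgebraic k k']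
    (hK : IsFunctionField k K) (P : Place k K) :
    {Q' : Place k' K' // under hK Q' = P} ≃ {Q : Place k K' // IsOver Q P} where
  toFun Q' := ⟨Place.down (k := k) Q'.1, (under_eq_iff hK Q'.1 P).1 Q'.2⟩
  invFun Q := ⟨Place.up (k₁ := k') Q.1, (under_eq_iff hK _ P).2 (by
    rw [Place.down_up]
    exact Q.2)⟩
  left_inv Q' := Subtype.ext (Place.up_down Q'.1)
  right_inv Q := Subtype.ext (Place.down_up Q.1)

theorem lcm_div_eq (d n : ℕ) (hd : 0 < d) (hn : 0 < n) :
    Nat.lcm d n = n * (d / Nat.gcd d n) := by
  obtain ⟨G, hG⟩ : ∃ G, G = Nat.gcd d n := ⟨_, rfl⟩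
  have hGd : G ∣ d := hG ▸ Nat.gcd_dvd_left d n
  obtain ⟨c, hc⟩ := hGd
  have hg : 0 < G := hG ▸ Nat.gcd_pos_of_pos_left _ hd
  have h1 : d / G = c := Nat.div_eq_of_eq_mul_right hg hc
  have h2 := Nat.gcd_mul_lcm d n
  rw [← hG] at h2 ⊢
  rw [h1]
  have h3 : G * Nat.lcm d n = G * (n * c) := by
    rw [h2, hc]
    ring
  exact Nat.eq_of_mul_eq_mul_left hg h3

theorem div_gcd_dvd_iff (d n m : ℕ) (hd : 0 < d) (hn : 0 < n) :
    d / Nat.gcd d n ∣ m ↔ d ∣ m * n := by
  obtain ⟨G, hG⟩ : ∃ G, G = Nat.gcd d n := ⟨_, rfl⟩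
  have hGd : G ∣ d := hG ▸ Nat.gcd_dvd_left d n
  have hGn : G ∣ n := hG ▸ Nat.gcd_dvd_right d n
  obtain ⟨c, hc⟩ := hGd
  obtain ⟨c', hc'⟩ := hGn
  have hg : 0 < G := hG ▸ Nat.gcd_pos_of_pos_left _ hd
  have h1 : d / G = c := Nat.div_eq_of_eq_mul_right hg hc
  have h2 : n / G = c' := Nat.div_eq_of_eq_mul_right hg hc'
  have hcop : Nat.Coprime c c' := by
    have := Nat.coprime_div_gcd_div_gcd (m := d) (n := n) (hG ▸ hg)
    rwa [← hG, h1, h2] at this
  rw [← hG, h1]
  constructor
  · intro h
    obtain ⟨t, rfl⟩ := h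
    rw [hc, hc']
    exact ⟨t * c', by ring⟩
  · intro h
    rw [hc, hc'] at h
    have h2 : G * c ∣ G * (m * c') := by
      have : m * (G * c') = G * (m * c') := by ring
      rwa [this] at h
    have h3 : c ∣ m * c' := (Nat.mul_dvd_mul_iff_left hg).1 h2
    exact hcop.dvd_of_dvd_mul_right h3

/-- **Point counts in constant field extensions**: `N_m(K') = N_{mn}(K)` for the constant field
extension `K'/K` of degree `n`. -/
theorem ptCount_constExt [Finite k] [Finite k'] (hK : IsFunctionField k K)
    (hK' : IsFunctionField k' K') (hdeg : Module.finrank K K' = Module.finrank k k') (m : ℕ) :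
    ptCount hK' m = ptCount hK (m * Module.finrank k k') := by
  classical
  rcases Nat.eq_zero_or_pos m with rfl | hm
  · rw [zero_mul, ptCount_zero, ptCount_zero]
  obtain ⟨f, β, hmon, hirr, hsep, hfn, hβ, hgen⟩ := exists_generator_constExt (K' := K') hK hdeg
  obtain ⟨n, hn⟩ : ∃ n, n = Module.finrank k k' := ⟨_, rfl⟩
  haveI : FiniteDimensional k k' := Module.Finite.of_finite
  have hnpos : 0 < n := hn ▸ Module.finrank_pos
  have hpos : 0 < Module.finrank K K' := by
    rw [hdeg]
    exact Module.finrank_pos
  haveI : FiniteDimensional K K' := Module.finite_of_finrank_pos hpos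
  haveI : Algebra.IsAlgebraic k k' := Algebra.IsAlgebraic.of_finite k k'
  haveI : IsGalois K K' := by
    refine isGalois_of_root (k := k) hmon hirr hsep hβ ?_
    have hβalg : IsAlgebraic K β := Algebra.IsAlgebraic.isAlgebraic β
    rw [← IntermediateField.adjoin_simple_toSubalgebra_of_isAlgebraic hβalg, hgen,
      IntermediateField.top_toSubalgebra]
  have hfn' : f.natDegree = n := hfn.trans hn.symm
  rw [← hn]
  have law : ∀ P : Place k K, Nat.card {Q : Place k K' // IsOver Q P} = Nat.gcd P.deg n ∧
      ∀ Q : Place k K', IsOver Q P → IsOverWith Q P 1 ∧ Q.deg = Nat.lcm P.deg n := by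
    intro P
    have := decomposition_law hK hmon hirr hsep hβ hgen P
    rwa [hfn'] at this
  -- degrees of the places of the extension
  have hdegQ : ∀ Q' : Place k' K', Q'.deg = (under hK Q').deg / Nat.gcd (under hK Q').deg n := by
    intro Q'
    have h1 := ((law (under hK Q')).2 _ (isOver_under hK Q')).2
    rw [Place.deg_down, ← hn, lcm_div_eq _ _ (Place.deg_pos hK _) hnpos] at h1
    exact Nat.eq_of_mul_eq_mul_left hnpos h1
  unfold ptCount
  rw [← Finset.sum_filter, ← Finset.sum_filter]
  have hmaps : ∀ Q' ∈ (placesLE hK' m).filter (fun Q' => Q'.deg ∣ m),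
      under hK Q' ∈ (placesLE hK (m * n)).filter (fun P => P.deg ∣ m * n) := by
    intro Q' hQ'
    rw [Finset.mem_filter] at hQ' ⊢
    have h1 : (under hK Q').deg ∣ m * n := by
      rw [← div_gcd_dvd_iff _ _ _ (Place.deg_pos hK _) hnpos, ← hdegQ]
      exact hQ'.2
    refine ⟨?_, h1⟩
    rw [mem_placesLE]
    exact Nat.le_of_dvd (Nat.mul_pos hm hnpos) h1
  rw [← Finset.sum_fiberwise_of_maps_to hmaps]
  refine Finset.sum_congr rfl fun P hP => ?_
  rw [Finset.mem_filter] at hP
  -- the fibre over `P`
  have hfib : ∀ Q' : Place k' K', Q' ∈ ((placesLE hK' m).filter (fun Q' => Q'.deg ∣ m)).filter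
      (fun Q' => under hK Q' = P) ↔ under hK Q' = P := by
    intro Q'
    rw [Finset.mem_filter, Finset.mem_filter, mem_placesLE]
    constructor
    · exact fun h => h.2
    · intro h
      have h1 : Q'.deg ∣ m := by
        rw [hdegQ, h, div_gcd_dvd_iff _ _ _ (Place.deg_pos hK _) hnpos]
        exact hP.2
      exact ⟨⟨Nat.le_of_dvd hm h1, h1⟩, h⟩
  have hterm : ∀ Q' ∈ ((placesLE hK' m).filter (fun Q' => Q'.deg ∣ m)).filter
      (fun Q' => under hK Q' = P), Q'.deg = P.deg / Nat.gcd P.deg n := by
    intro Q' hQ'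
    rw [hfib] at hQ'
    rw [hdegQ, hQ']
  rw [Finset.sum_congr rfl hterm, Finset.sum_const, smul_eq_mul]
  haveI : Finite {Q : Place k K' // IsOver Q P} := (finite_places_over' (E := K') hK P).to_subtype
  haveI : Finite {Q' : Place k' K' // under hK Q' = P} :=
    Finite.of_equiv _ (fibreUnderEquiv hK P).symm
  haveI : Fintype {Q' : Place k' K' // under hK Q' = P} := Fintype.ofFinite _
  have hcard : (((placesLE hK' m).filter (fun Q' => Q'.deg ∣ m)).filter
      (fun Q' => under hK Q' = P)).card = Nat.gcd P.deg n := by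
    rw [← Fintype.card_of_subtype _ hfib, ← Nat.card_eq_fintype_card,
      Nat.card_congr (fibreUnderEquiv hK P)]
    exact (law P).1
  rw [hcard]
  exact Nat.mul_div_cancel' (Nat.gcd_dvd_left _ _)

theorem ptCount_one {k : Type u} {K : Type v} [Field k] [Field K] [Algebra k K] [Finite k]
    (hK : IsFunctionField k K) :
    ptCount hK 1 = Nat.card {P : Place k K // P.deg = 1} := by
  classical
  unfold ptCount
  have h1 : ∀ P ∈ placesLE hK 1, (if P.deg ∣ 1 then P.deg else 0) = 1 := by
    intro P hP
    rw [mem_placesLE] at hP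
    have := Place.deg_pos hK P
    have h2 : P.deg = 1 := by omega
    rw [h2]
    simp
  rw [Finset.sum_congr rfl h1, Finset.sum_const, smul_eq_mul, mul_one]
  have hmem : ∀ P : Place k K, P ∈ placesLE hK 1 ↔ P.deg = 1 := by
    intro P
    rw [mem_placesLE]
    have := Place.deg_pos hK P
    omega
  haveI : Finite {P : Place k K // P.deg = 1} :=
    Finite.of_injective (fun P => (⟨P.1, (hmem P.1).2 P.2⟩ : placesLE hK 1))
      (fun P Q h => Subtype.ext (congrArg (fun x : placesLE hK 1 => x.1) h))
  haveI : Fintype {P : Place k K // P.deg = 1} := Fintype.ofFinite _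
  rw [Nat.card_eq_fintype_card, Fintype.card_of_subtype _ hmem]

/-- **S11061**: the numerator of the zeta function of a constant field extension. -/
theorem map_numerZ_constExt [Finite k] [Finite k'] (hK : IsFunctionField k K)
    (hK' : IsFunctionField k' K') (hdeg : Module.finrank K K' = Module.finrank k k')
    {ι : Type*} [Fintype ι] (α : ι → ℂ)
    (hα : PowerSeries.map (Int.castRingHom ℂ) (numerZ k K) =
      ((∏ i, (1 - Polynomial.C (α i) * Polynomial.X) : Polynomial ℂ) : PowerSeries ℂ)) :
    PowerSeries.map (Int.castRingHom ℂ) (numerZ k' K') =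
      ((∏ i, (1 - Polynomial.C (α i ^ Module.finrank k k') * Polynomial.X) : Polynomial ℂ) :
        PowerSeries ℂ) := by
  haveI : FiniteDimensional k k' := Module.Finite.of_finite
  have hnpos : 0 < Module.finrank k k' := Module.finrank_pos
  apply map_numerZ_eq_of_ptCount hK'
  intro m hm
  rw [ptCount_constExt hK hK' hdeg m,
    ptCount_eq hK α hα (Nat.mul_ne_zero hm hnpos.ne')]
  have hcard : (Nat.card k' : ℂ) = (Nat.card k : ℂ) ^ Module.finrank k k' := by
    have := Module.natCard_eq_pow_finrank (K := k) (V := k')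
    rw [this]
    push_cast
    rfl
  rw [hcard, ← pow_mul, mul_comm m]
  congr 1
  refine Finset.sum_congr rfl fun i _ => ?_
  rw [← pow_mul]

/-- **S11062**: the number of rational places of a constant field extension. -/
theorem card_places_deg_one_constExt [Finite k] [Finite k'] (hK : IsFunctionField k K)
    (hK' : IsFunctionField k' K') (hdeg : Module.finrank K K' = Module.finrank k k')
    {ι : Type*} [Fintype ι] (α : ι → ℂ)
    (hα : PowerSeries.map (Int.castRingHom ℂ) (numerZ k K) =
      ((∏ i, (1 - Polynomial.C (α i) * Polynomial.X) : Polynomial ℂ) : PowerSeries ℂ)) :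
    (Nat.card {P : Place k' K' // P.deg = 1} : ℂ) =
      1 + (Nat.card k : ℂ) ^ Module.finrank k k' - ∑ i, α i ^ Module.finrank k k' := by
  haveI : FiniteDimensional k k' := Module.Finite.of_finite
  have hnpos : 0 < Module.finrank k k' := Module.finrank_pos
  rw [← ptCount_one hK', ptCount_constExt hK hK' hdeg 1, one_mul, ptCount_eq hK α hα hnpos.ne']

end ConstExt

end Groth.Agent.Lib.helper10.Zeta
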