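import Mathlib
import Groth.Agent.Lib.Helper10.Zeta9

/-!
# Zeta functions (helper10), part 11: Bombieri's upper bound, twisted by an automorphism
-/

set_option autoImplicit false
set_option linter.style.haveILetI false
set_option linter.unusedSectionVars false
set_option linter.unusedVariables false

universe u v w

open FunFld Polynomial

namespace Groth.Agent.Lib.helper10.Zeta

open FF RD PA

section Bombieri

variable {k : Type u} {E : Type v} [Field k] [Field E] [Algebra k E]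

/-- One step in the pole filtration at a place of degree one. -/
theorem ell_single_step' (hE : IsFunctionField k E) (P : Place k E) (hP : P.deg = 1) (m : ℕ) :
    (IsGap P m ∧ ell (Finsupp.single P (m : ℤ) : Divisor k E) =
        ell (Finsupp.single P ((m : ℤ) - 1) : Divisor k E)) ∨
    (¬ IsGap P m ∧ ell (Finsupp.single P (m : ℤ) : Divisor k E) =
        ell (Finsupp.single P ((m : ℤ) - 1) : Divisor k E) + 1) := by
  classical
  have hle : (Finsupp.single P ((m : ℤ) - 1) : Divisor k E) ≤ Finsupp.single P (m : ℤ) := by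
    intro Q
    by_cases hQ : Q = P
    · subst hQ; simp
    · simp [Finsupp.single_eq_of_ne hQ]
  have h1 := ell_le_add hE hle
  rw [deg_single, deg_single, hP] at h1
  have h2 := ell_mono hE hle
  have h3 : ell (Finsupp.single P (m : ℤ) : Divisor k E) ≤
      ell (Finsupp.single P ((m : ℤ) - 1) : Divisor k E) + 1 := by
    have : (ell (Finsupp.single P (m : ℤ) : Divisor k E) : ℤ) ≤
        ell (Finsupp.single P ((m : ℤ) - 1) : Divisor k E) + 1 := by
      push_cast at h1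
      linarith
    exact_mod_cast this
  by_cases hgap : IsGap P m
  · left
    refine ⟨hgap, ?_⟩
    unfold ell
    rw [hgap]
  · right
    refine ⟨hgap, ?_⟩
    by_contra hne
    have heq : ell (Finsupp.single P (m : ℤ) : Divisor k E) =
        ell (Finsupp.single P ((m : ℤ) - 1) : Divisor k E) := by omega
    apply hgap
    haveI := finiteDimensional_L hE (Finsupp.single P (m : ℤ) : Divisor k E)
    exact (Submodule.eq_of_le_of_finrank_eq (L_single_le P m) heq.symm).symm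

/-- At a place of degree one, `L(N P)` has a family of `ℓ(N P)` functions with pairwise distinct
pole orders in `[0, N]`. -/
theorem exists_nongap_family (hE : IsFunctionField k E) (P : Place k E) (hP : P.deg = 1) (N : ℕ) :
    ∃ J : Finset ℕ, (∀ j ∈ J, j ≤ N) ∧ J.card = ell (Finsupp.single P (N : ℤ) : Divisor k E) ∧
      ∀ j ∈ J, ∃ u : E, u ∈ L (Finsupp.single P (j : ℤ) : Divisor k E) ∧
        P.1 u = WithZero.exp (j : ℤ) := by
  classical
  induction N with
  | zero =>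
    refine ⟨{0}, ?_, ?_, ?_⟩
    · intro j hj
      rw [Finset.mem_singleton] at hj
      omega
    · rw [Finset.card_singleton]
      simp only [Nat.cast_zero, Finsupp.single_zero]
      exact (ell_zero hE).symm
    · intro j hj
      rw [Finset.mem_singleton] at hj
      subst hj
      refine ⟨1, ?_, ?_⟩
      · intro Q
        rw [Valuation.map_one]
        simp
      · rw [Valuation.map_one]
        simp
  | succ N ih =>
    obtain ⟨J, hJle, hJcard, hJ⟩ := ih
    have e : (((N + 1 : ℕ) : ℤ)) - 1 = (N : ℤ) := by push_cast; ring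
    rcases ell_single_step' hE P hP (N + 1) with ⟨hg, h⟩ | ⟨hg, h⟩
    · refine ⟨J, fun j hj => (hJle j hj).trans (Nat.le_succ N), ?_, hJ⟩
      rw [h, e]
      exact hJcard
    · refine ⟨insert (N + 1) J, ?_, ?_, ?_⟩
      · intro j hj
        rcases Finset.mem_insert.1 hj with rfl | hj
        · exact le_rfl
        · exact (hJle j hj).trans (Nat.le_succ N)
      · rw [Finset.card_insert_of_notMem, hJcard, h, e]
        intro hmem
        have := hJle _ hmem
        omega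
      · intro j hj
        rcases Finset.mem_insert.1 hj with rfl | hj
        · exact (not_isGap_iff P (N + 1)).1 hg
        · exact hJ j hj

theorem comapAut_eq_iff (P Q : Place k E) (σ : E ≃ₐ[k] E) :
    Q = Place.comapAut (F := k) P σ ↔ Place.comapAut (F := k) Q σ.symm = P := by
  constructor
  · rintro rfl
    apply Subtype.ext
    ext z
    show P.1 (σ (σ.symm z)) = P.1 z
    rw [AlgEquiv.apply_symm_apply]
  · rintro rfl
    apply Subtype.ext
    ext z
    show Q.1 z = Q.1 (σ.symm (σ z))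
    rw [AlgEquiv.symm_apply_apply]

/-- The kernel element in Bombieri's argument. -/
theorem exists_kernel (hE : IsFunctionField k E) (σ : E ≃ₐ[k] E) (Q₀ : Place k E)
    (q₀ m n : ℕ) (J : Finset ℕ) (hJm : ∀ j ∈ J, j ≤ m) (u : ℕ → E)
    (hu : ∀ j ∈ J, u j ∈ L (Finsupp.single Q₀ (j : ℤ) : Divisor k E))
    (hdim : ell (Finsupp.single Q₀ ((q₀ * m : ℕ) : ℤ) +
      Finsupp.single (Place.comapAut (F := k) Q₀ σ.symm) (n : ℤ) : Divisor k E) <
        J.card * ell (Finsupp.single Q₀ (n : ℤ) : Divisor k E)) :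
    ∃ y : ℕ → E, (∀ j ∈ J, y j ∈ L (Finsupp.single Q₀ (n : ℤ) : Divisor k E)) ∧
      (∃ j ∈ J, y j ≠ 0) ∧ ∑ j ∈ J, u j ^ q₀ * σ (y j) = 0 := by
  classical
  obtain ⟨D₁, hD₁⟩ : ∃ D₁ : Divisor k E, D₁ = Finsupp.single Q₀ (n : ℤ) := ⟨_, rfl⟩
  obtain ⟨Q₁, hQ₁⟩ : ∃ Q₁ : Place k E, Q₁ = Place.comapAut (F := k) Q₀ σ.symm := ⟨_, rfl⟩
  obtain ⟨D₂, hD₂⟩ : ∃ D₂ : Divisor k E, D₂ = Finsupp.single Q₀ ((q₀ * m : ℕ) : ℤ) +
      Finsupp.single Q₁ (n : ℤ) := ⟨_, rfl⟩
  rw [← hQ₁, ← hD₂, ← hD₁] at hdim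
  rw [← hD₁]
  haveI := finiteDimensional_L hE D₁
  haveI := finiteDimensional_L hE D₂
  let Ψ₀ : (↥J → ↥(L D₁)) →ₗ[k] E :=
    ∑ j : ↥J, (LinearMap.mulLeft k (u j ^ q₀)) ∘ₗ σ.toLinearMap ∘ₗ (L D₁).subtype ∘ₗ
      (LinearMap.proj j)
  have hΨ₀ : ∀ y, Ψ₀ y = ∑ j : ↥J, u j ^ q₀ * σ (y j : E) := by
    intro y
    simp [Ψ₀, LinearMap.sum_apply]
  have hmem : ∀ y, Ψ₀ y ∈ L D₂ := by
    intro y
    rw [hΨ₀]
    apply Submodule.sum_mem
    intro j _
    intro P
    rw [map_mul, map_pow]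
    have h1 := hu j j.2 P
    have hD₁app : ∀ P' : Place k E, D₁ P' = (Finsupp.single Q₀ (n : ℤ) : Divisor k E) P' :=
      fun P' => by rw [hD₁]
    have h2 := (y j).2 (Place.comapAut (F := k) P σ)
    rw [Place.comapAut_apply, hD₁app] at h2
    have h3 : P.1 (u j) ^ q₀ ≤ WithZero.exp ((Finsupp.single Q₀ ((q₀ * m : ℕ) : ℤ) :
        Divisor k E) P) := by
      rw [Finsupp.single_apply] at h1 ⊢
      split_ifs at h1 ⊢ with h
      · calc P.1 (u j) ^ q₀ ≤ (WithZero.exp ((j : ℕ) : ℤ)) ^ q₀ := pow_le_pow_left' h1 q₀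
          _ = WithZero.exp ((q₀ : ℤ) * ((j : ℕ) : ℤ)) := by
            rw [← WithZero.exp_nsmul, nsmul_eq_mul]
          _ ≤ _ := by
            rw [WithZero.exp_le_exp]
            push_cast
            exact mul_le_mul_of_nonneg_left (by exact_mod_cast hJm j j.2) (Int.natCast_nonneg _)
      · rw [WithZero.exp_zero] at h1 ⊢
        exact pow_le_one' h1 q₀
    have h4 : P.1 (σ (y j : E)) ≤ WithZero.exp ((Finsupp.single Q₁ (n : ℤ) : Divisor k E) P) := by
      rw [Finsupp.single_apply] at h2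
      rw [Finsupp.single_apply]
      have hiff := comapAut_eq_iff P Q₀ σ
      rw [← hQ₁] at hiff
      split_ifs at h2 ⊢ with h h' h'
      · exact h2
      · exact absurd (hiff.2 h) h'
      · exact absurd (hiff.1 h') h
      · exact h2
    rw [hD₂, Finsupp.add_apply, WithZero.exp_add]
    exact mul_le_mul' h3 h4
  let Ψ := LinearMap.codRestrict (L D₂) Ψ₀ hmem
  have hlt : Module.finrank k ↥(L D₂) < Module.finrank k (↥J → ↥(L D₁)) := by
    rw [Module.finrank_pi_fintype]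
    simp only [Finset.sum_const, Finset.card_univ, Fintype.card_coe, smul_eq_mul]
    exact hdim
  have hker := LinearMap.ker_ne_bot_of_finrank_lt (f := Ψ) hlt
  obtain ⟨y, hy, hy0⟩ := Submodule.exists_mem_ne_zero_of_ne_bot hker
  refine ⟨fun j => if h : j ∈ J then (y ⟨j, h⟩ : E) else 0, ?_, ?_, ?_⟩
  · intro j hj
    beta_reduce
    rw [dif_pos hj]
    exact (y ⟨j, hj⟩).2
  · by_contra hall
    push Not at hall
    apply hy0
    funext j
    have := hall j j.2
    beta_reduce at this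
    rw [dif_pos j.2] at this
    exact Subtype.ext this
  · have h0 : Ψ₀ y = 0 := by
      have := LinearMap.mem_ker.1 hy
      exact congrArg Subtype.val this
    rw [hΨ₀] at h0
    rw [← Finset.sum_coe_sort J]
    refine Eq.trans (Finset.sum_congr rfl ?_) h0
    intro j _
    beta_reduce
    rw [dif_pos j.2]

/-- **Bombieri's bound, twisted by an automorphism** `σ`: if `q₀ = q^s > (g+1)²`, then the places
`P` with `σ y ≡ y^{q₀²} mod P` have total degree at most `q₀² + (2g+1) q₀`. -/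
theorem bombieri_twisted [Finite k] (hE : IsFunctionField k E) (σ : E ≃ₐ[k] E) (Q₀ : Place k E)
    (hQ₀ : Q₀.deg = 1) (s : ℕ) (q₀ : ℕ) (hq₀ : q₀ = Nat.card k ^ s)
    (hbig : (genus k E + 1) ^ 2 < q₀) (S : Finset (Place k E))
    (hS : ∀ P ∈ S, ∀ y : E, P.1 y ≤ 1 → P.1 (σ y - y ^ (q₀ * q₀)) < 1) :
    ∑ P ∈ S, P.deg ≤ q₀ * q₀ + (2 * genus k E + 1) * q₀ := by
  classical
  obtain ⟨g, hg⟩ : ∃ g, g = genus k E := ⟨_, rfl⟩
  rw [← hg] at hbig ⊢
  have hq₀pos : 0 < q₀ := lt_of_le_of_lt (Nat.zero_le _) hbig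
  obtain ⟨m, hm⟩ : ∃ m, m + 1 = q₀ := ⟨q₀ - 1, by omega⟩
  obtain ⟨n, hn⟩ : ∃ n, n = 2 * g + q₀ := ⟨_, rfl⟩
  obtain ⟨J, hJm, hJcard, hJ⟩ := exists_nongap_family hE Q₀ hQ₀ m
  choose! u hu huv using hJ
  -- characteristic
  haveI : Fintype k := Fintype.ofFinite k
  obtain ⟨p, hchar, e, hp, hcard⟩ := FiniteField.card' k
  haveI : Fact p.Prime := ⟨hp⟩
  haveI := hchar
  haveI : CharP E p := charP_of_injective_algebraMap (algebraMap k E).injective p
  have hq₀p : q₀ = p ^ ((e : ℕ) * s) := by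
    rw [hq₀, Nat.card_eq_fintype_card, hcard, pow_mul]
  -- dimensions
  have hell_n : (ell (Finsupp.single Q₀ (n : ℤ) : Divisor k E) : ℤ) = n + 1 - g := by
    have h1 : 2 * (genus k E : ℤ) - 1 ≤ Divisor.deg (Finsupp.single Q₀ (n : ℤ) : Divisor k E) := by
      rw [deg_single, hQ₀, ← hg, hn]
      push_cast
      omega
    rw [ell_of_deg_ge hE h1, deg_single, hQ₀, ← hg]
    push_cast
    ring
  have hell_m : (m : ℤ) + 1 - g ≤ ell (Finsupp.single Q₀ (m : ℤ) : Divisor k E) := by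
    have := delta_le_genus hE (Finsupp.single Q₀ (m : ℤ) : Divisor k E)
    rw [deg_single, hQ₀, ← hg] at this
    push_cast at this
    linarith
  obtain ⟨Q₁, hQ₁⟩ : ∃ Q₁ : Place k E, Q₁ = Place.comapAut (F := k) Q₀ σ.symm := ⟨_, rfl⟩
  have hQ₁deg : Q₁.deg = 1 := by
    rw [hQ₁, Place.deg_comapAut, hQ₀]
  have hell_2 : (ell (Finsupp.single Q₀ ((q₀ * m : ℕ) : ℤ) + Finsupp.single Q₁ (n : ℤ) :
      Divisor k E) : ℤ) = q₀ * m + n + 1 - g := by
    have hdeg : Divisor.deg (Finsupp.single Q₀ ((q₀ * m : ℕ) : ℤ) + Finsupp.single Q₁ (n : ℤ) :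
        Divisor k E) = q₀ * m + n := by
      rw [deg_add, deg_single, deg_single, hQ₀, hQ₁deg]
      push_cast
      ring
    have h1 : 2 * (genus k E : ℤ) - 1 ≤ Divisor.deg (Finsupp.single Q₀ ((q₀ * m : ℕ) : ℤ) +
        Finsupp.single Q₁ (n : ℤ) : Divisor k E) := by
      rw [hdeg, ← hg, hn]
      push_cast
      have : (0 : ℤ) ≤ (q₀ : ℤ) * m := by positivity
      omega
    rw [ell_of_deg_ge hE h1, hdeg, ← hg]
  have hdim : ell (Finsupp.single Q₀ ((q₀ * m : ℕ) : ℤ) +
      Finsupp.single (Place.comapAut (F := k) Q₀ σ.symm) (n : ℤ) : Divisor k E) <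
        J.card * ell (Finsupp.single Q₀ (n : ℤ) : Divisor k E) := by
    rw [← hQ₁, hJcard]
    suffices hZ : (ell (Finsupp.single Q₀ ((q₀ * m : ℕ) : ℤ) + Finsupp.single Q₁ (n : ℤ) :
        Divisor k E) : ℤ) < (ell (Finsupp.single Q₀ (m : ℤ) : Divisor k E) : ℤ) *
          (ell (Finsupp.single Q₀ (n : ℤ) : Divisor k E) : ℤ) by exact_mod_cast hZ
    rw [hell_n, hell_2]
    have hm' : (m : ℤ) = q₀ - 1 := by
      have : ((m + 1 : ℕ) : ℤ) = q₀ := by exact_mod_cast hm
      push_cast at this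
      linarith
    have hn' : (n : ℤ) = 2 * g + q₀ := by exact_mod_cast hn
    have hbig' : ((g : ℤ) + 1) ^ 2 < q₀ := by exact_mod_cast hbig
    have hpos : (0 : ℤ) ≤ (n : ℤ) + 1 - g := by rw [hn']; linarith [Int.natCast_nonneg g, Int.natCast_nonneg q₀]
    have h1 := mul_le_mul_of_nonneg_right hell_m hpos
    have h2 : ((m : ℤ) + 1 - g) * ((n : ℤ) + 1 - g) - ((q₀ : ℤ) * m + n + 1 - g) =
        q₀ - ((g : ℤ) + 1) ^ 2 := by
      rw [hm', hn']
      ring
    linarith
  obtain ⟨y, hyL, ⟨j₀, hj₀, hyj₀⟩, hker⟩ := exists_kernel hE σ Q₀ q₀ m n J hJm u hu hdim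
  obtain ⟨z, hz⟩ : ∃ z : E, z = ∑ j ∈ J, u j * y j ^ q₀ := ⟨_, rfl⟩
  -- `z ≠ 0`
  have hz0 : z ≠ 0 := by
    obtain ⟨J', hJ'⟩ : ∃ J' : Finset ℕ, J' = J.filter (fun j => y j ≠ 0) := ⟨_, rfl⟩
    have hzJ' : z = ∑ j ∈ J', u j * y j ^ q₀ := by
      rw [hz, hJ', Finset.sum_filter]
      apply Finset.sum_congr rfl
      intro j hj
      split_ifs with h
      · rfl
      · push Not at h
        rw [h, zero_pow hq₀pos.ne', mul_zero]
    have hJ'ne : J'.Nonempty := ⟨j₀, by rw [hJ']; exact Finset.mem_filter.2 ⟨hj₀, hyj₀⟩⟩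
    have hval : ∀ j ∈ J', Q₀.1 (u j * y j ^ q₀) =
        WithZero.exp ((j : ℤ) + q₀ * WithZero.log (Q₀.1 (y j))) := by
      intro j hj
      rw [hJ'] at hj
      obtain ⟨hjJ, hyj⟩ := Finset.mem_filter.1 hj
      have hne : Q₀.1 (y j) ≠ 0 := (Valuation.ne_zero_iff _).2 hyj
      rw [map_mul, map_pow, huv j hjJ, WithZero.exp_add]
      congr 1
      conv_lhs => rw [← WithZero.exp_log hne]
      rw [← WithZero.exp_nsmul, nsmul_eq_mul]
    have hw_inj : ∀ j ∈ J', ∀ j' ∈ J', Q₀.1 (u j * y j ^ q₀) = Q₀.1 (u j' * y j' ^ q₀) →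
        j = j' := by
      intro j hj j' hj' heq
      rw [hval j hj, hval j' hj'] at heq
      have heq' := WithZero.exp_injective heq
      have hjm : j ≤ m := hJm j (by rw [hJ'] at hj; exact (Finset.mem_filter.1 hj).1)
      have hjm' : j' ≤ m := hJm j' (by rw [hJ'] at hj'; exact (Finset.mem_filter.1 hj').1)
      have h1 : ((j : ℤ) + q₀ * WithZero.log (Q₀.1 (y j))) % (q₀ : ℤ) = j := by
        rw [Int.add_mul_emod_self_left]
        apply Int.emod_eq_of_lt (Int.natCast_nonneg _)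
        exact_mod_cast (by omega : j < q₀)
      have h2 : ((j' : ℤ) + q₀ * WithZero.log (Q₀.1 (y j'))) % (q₀ : ℤ) = j' := by
        rw [Int.add_mul_emod_self_left]
        apply Int.emod_eq_of_lt (Int.natCast_nonneg _)
        exact_mod_cast (by omega : j' < q₀)
      rw [heq', h2] at h1
      exact_mod_cast h1.symm
    obtain ⟨j₁, hj₁, hmax⟩ := Finset.exists_max_image J' (fun j => Q₀.1 (u j * y j ^ q₀)) hJ'ne
    have hsum := Valuation.map_sum_eq_of_lt Q₀.1 hj₁ (f := fun j => u j * y j ^ q₀) (by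
      intro i hi
      rw [Finset.mem_sdiff, Finset.mem_singleton] at hi
      exact lt_of_le_of_ne (hmax i hi.1) (fun h => hi.2 (hw_inj i hi.1 j₁ hj₁ h)))
    intro h0
    rw [← hzJ', h0, Valuation.map_zero] at hsum
    beta_reduce at hsum
    rw [hval j₁ hj₁] at hsum
    exact WithZero.exp_ne_zero hsum.symm
  -- `z ∈ L((m + q₀ n) Q₀)`
  obtain ⟨D₃, hD₃⟩ : ∃ D₃ : Divisor k E, D₃ = Finsupp.single Q₀ ((m : ℤ) + q₀ * n) := ⟨_, rfl⟩
  have hzL : z ∈ L D₃ := by
    rw [hz]
    apply Submodule.sum_mem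
    intro j hj P
    rw [map_mul, map_pow]
    have h1 := hu j hj P
    have h2 := hyL j hj P
    rw [hD₃]
    by_cases hP : P = Q₀
    · subst hP
      rw [Finsupp.single_eq_same] at h1 h2 ⊢
      calc P.1 (u j) * P.1 (y j) ^ q₀
          ≤ WithZero.exp (j : ℤ) * WithZero.exp (n : ℤ) ^ q₀ :=
            mul_le_mul' h1 (pow_le_pow_left' h2 q₀)
        _ = WithZero.exp ((j : ℤ) + q₀ * n) := by
            rw [← WithZero.exp_nsmul, nsmul_eq_mul, ← WithZero.exp_add]
        _ ≤ _ := by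
            rw [WithZero.exp_le_exp]
            have : (j : ℤ) ≤ m := by exact_mod_cast hJm j hj
            linarith
    · rw [Finsupp.single_eq_of_ne hP, WithZero.exp_zero] at h1 h2 ⊢
      exact mul_le_one' h1 (pow_le_one' h2 q₀)
  -- vanishing
  have hvan : ∀ P ∈ S, P ≠ Q₀ → P.1 z < 1 := by
    intro P hPS hPne
    have hu1 : ∀ j ∈ J, P.1 (u j) ≤ 1 := by
      intro j hj
      have := hu j hj P
      rwa [Finsupp.single_eq_of_ne hPne, WithZero.exp_zero] at this
    have hy1 : ∀ j ∈ J, P.1 (y j) ≤ 1 := by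
      intro j hj
      have := hyL j hj P
      rwa [Finsupp.single_eq_of_ne hPne, WithZero.exp_zero] at this
    have hpow : z ^ q₀ = ∑ j ∈ J, u j ^ q₀ * (y j) ^ (q₀ * q₀) := by
      rw [hz]
      conv_lhs => rw [hq₀p]
      rw [sum_pow_char_pow, ← hq₀p]
      apply Finset.sum_congr rfl
      intro j _
      rw [mul_pow, ← pow_mul]
    have hdiff : z ^ q₀ = ∑ j ∈ J, u j ^ q₀ * (y j ^ (q₀ * q₀) - σ (y j)) := by
      rw [hpow, ← sub_zero (∑ j ∈ J, u j ^ q₀ * (y j) ^ (q₀ * q₀)), ← hker,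
        ← Finset.sum_sub_distrib]
      apply Finset.sum_congr rfl
      intro j _
      ring
    have hlt : P.1 (z ^ q₀) < 1 := by
      rw [hdiff]
      apply Valuation.map_sum_lt _ one_ne_zero
      intro j hj
      rw [map_mul, map_pow]
      calc P.1 (u j) ^ q₀ * P.1 (y j ^ (q₀ * q₀) - σ (y j))
          ≤ 1 * P.1 (y j ^ (q₀ * q₀) - σ (y j)) :=
            mul_le_mul' (pow_le_one' (hu1 j hj) _) le_rfl
        _ < 1 := by
            rw [one_mul, Valuation.map_sub_swap]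
            exact hS P hPS (y j) (hy1 j hj)
    by_contra hge
    rw [not_lt] at hge
    have : 1 ≤ P.1 (z ^ q₀) := by
      rw [map_pow]
      exact one_le_pow_of_one_le' hge _
    exact absurd hlt (not_lt.2 this)
  -- degree count
  obtain ⟨S', hS'⟩ : ∃ S' : Finset (Place k E), S' = S.erase Q₀ := ⟨_, rfl⟩
  have hdiv := (mem_L_iff_div hE hz0 D₃).1 hzL
  have hA : (0 : Divisor k E) ≤ D₃ + FunFld.div k z - ∑ P ∈ S', Finsupp.single P (1 : ℤ) := by
    intro P
    rw [Finsupp.coe_sub, Pi.sub_apply, Finsupp.coe_finset_sum, Finset.sum_apply]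
    by_cases hP : P ∈ S'
    · rw [Finset.sum_eq_single_of_mem P hP (fun b _ hb => Finsupp.single_eq_of_ne hb.symm),
        Finsupp.single_eq_same]
      rw [hS'] at hP
      have hPne : P ≠ Q₀ := Finset.ne_of_mem_erase hP
      have hPS : P ∈ S := Finset.mem_of_mem_erase hP
      have hlt := hvan P hPS hPne
      rw [Finsupp.add_apply, div_apply hE, hD₃, Finsupp.single_eq_of_ne hPne]
      have hz1 : P.1 z ≠ 0 := (Valuation.ne_zero_iff _).2 hz0
      have hlt' : WithZero.exp (WithZero.log (P.1 z)) < WithZero.exp 0 := by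
        rw [WithZero.exp_log hz1, WithZero.exp_zero]
        exact hlt
      rw [WithZero.exp_lt_exp] at hlt'
      unfold Place.ord
      show (0 : ℤ) ≤ 0 + -WithZero.log (P.1 z) - 1
      omega
    · rw [Finset.sum_eq_zero (fun b hb => Finsupp.single_eq_of_ne (by
        rintro rfl
        exact hP hb))]
      have := hdiv P
      simpa using this
  have hdegA := deg_nonneg hA
  rw [deg_sub, deg_add, deg_div hE, deg_sum, hD₃, deg_single, hQ₀] at hdegA
  have hsum' : ∑ P ∈ S', Divisor.deg (Finsupp.single P (1 : ℤ) : Divisor k E) =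
      ((∑ P ∈ S', P.deg : ℕ) : ℤ) := by
    push_cast
    apply Finset.sum_congr rfl
    intro P _
    rw [deg_single, one_mul]
  rw [hsum'] at hdegA
  have hle : ∑ P ∈ S, P.deg ≤ 1 + ∑ P ∈ S', P.deg := by
    by_cases hQS : Q₀ ∈ S
    · rw [hS', ← Finset.add_sum_erase S _ hQS, hQ₀]
    · rw [hS', Finset.erase_eq_of_notMem hQS]
      omega
  have hfin : ((∑ P ∈ S', P.deg : ℕ) : ℤ) ≤ (m : ℤ) + q₀ * n := by
    push_cast at hdegA ⊢
    linarith
  have hfin' : ∑ P ∈ S', P.deg ≤ m + q₀ * n := by exact_mod_cast hfin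
  calc ∑ P ∈ S, P.deg ≤ 1 + (m + q₀ * n) := hle.trans (by omega)
    _ = q₀ * q₀ + (2 * g + 1) * q₀ := by
      rw [hn, ← hm]
      ring

end Bombieri

end Groth.Agent.Lib.helper10.Zeta
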