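import Mathlib
import Groth.Agent.Lib.Helper10.Zeta11

/-!
# Zeta functions (helper10), part 12: Frobenius-twisted point counts in a Galois extension
-/

set_option autoImplicit false
set_option linter.style.haveILetI false
set_option linter.unusedSectionVars false
set_option linter.unusedVariables false

universe u v w

open FunFld Polynomial

namespace Groth.Agent.Lib.helper10.Zeta

open FF RD PA

section Frob

variable {k : Type u} {F : Type v} {E : Type w} [Field k] [Field F] [Field E]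
  [Algebra k F] [Algebra F E] [Algebra k E] [IsScalarTower k F E]

/-- The places at which the map `σ` induces the `N`-th power map on the residue field. -/
def frobSet (σ : E → E) (N : ℕ) : Set (Place k E) :=
  {Q | ∀ y : E, Q.1 y ≤ 1 → Q.1 (σ y - y ^ N) < 1}

theorem mem_decomposition_of_mem_frobSet (Q : Place k E) (σ : E ≃ₐ[F] E) (N : ℕ)
    (h : Q ∈ frobSet (k := k) (σ : E → E) N) : σ ∈ (Q.O).decompositionSubgroup F := by
  rw [mem_decomposition_iff]
  symm
  apply Place.eq_of_O_le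
  intro z hz
  have hz1 : Q.1 z ≤ 1 := hz
  show Q.1 (σ z) ≤ 1
  have : σ z = (σ z - z ^ N) + z ^ N := by ring
  rw [this]
  refine (Q.1.map_add _ _).trans (max_le (h z hz1).le ?_)
  rw [map_pow]
  exact pow_le_one' hz1 N

theorem mem_frobSet_iff (Q : Place k E) (σ : (Q.O).decompositionSubgroup F) (N : ℕ) :
    Q ∈ frobSet (k := k) ((σ.1 : E ≃ₐ[F] E) : E → E) N ↔
      ∀ x : IsLocalRing.ResidueField Q.O, decompToAut Q σ x = x ^ N := by
  constructor
  · intro h x
    obtain ⟨w, rfl⟩ := IsLocalRing.residue_surjective x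
    rw [decompToAut_apply, ← IsLocalRing.ResidueField.residue_smul, ← map_pow, ← sub_eq_zero,
      ← map_sub, Place.residue_eq_zero_iff]
    exact h w.1 w.2
  · intro h y hy
    have h1 := h (IsLocalRing.residue Q.O ⟨y, hy⟩)
    rw [decompToAut_apply, ← IsLocalRing.ResidueField.residue_smul, ← map_pow, ← sub_eq_zero,
      ← map_sub, Place.residue_eq_zero_iff] at h1
    exact h1

end Frob

/-- In a finite field with `q^d` elements, `x ↦ x^{q^r}` is the identity only if `d ∣ r`. -/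
theorem dvd_of_forall_pow_eq {κ : Type*} [Field κ] [Finite κ] {q d r : ℕ} (hq : 2 ≤ q)
    (hcard : Nat.card κ = q ^ d) (h : ∀ x : κ, x ^ (q ^ r) = x) : d ∣ r := by
  classical
  haveI : Fintype κ := Fintype.ofFinite κ
  obtain ⟨ζ, hζ⟩ := IsCyclic.exists_generator (α := κˣ)
  have hord : orderOf ζ = q ^ d - 1 := by
    rw [orderOf_eq_card_of_forall_mem_zpowers hζ, Nat.card_units, hcard]
  have hqr : 1 ≤ q ^ r := Nat.one_le_pow _ _ (by omega)
  have h1 : ζ ^ (q ^ r - 1) = 1 := by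
    have h2 : ζ ^ (q ^ r) = ζ := by
      apply Units.ext
      rw [Units.val_pow_eq_pow_val]
      exact h _
    have h3 : ζ ^ (q ^ r - 1) * ζ = ζ := by
      rw [← pow_succ, Nat.sub_add_cancel hqr]
      exact h2
    exact mul_eq_right.mp h3
  have hdvd : q ^ d - 1 ∣ q ^ r - 1 := hord ▸ orderOf_dvd_of_pow_eq_one h1
  have hgcd := Nat.pow_sub_one_gcd_pow_sub_one q d r
  rw [Nat.gcd_eq_left hdvd] at hgcd
  have hqd : 1 ≤ q ^ d := Nat.one_le_pow _ _ (by omega)
  have hqg : 1 ≤ q ^ Nat.gcd d r := Nat.one_le_pow _ _ (by omega)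
  have heq : q ^ d = q ^ Nat.gcd d r := by omega
  have := Nat.pow_right_injective hq heq
  rw [this]
  exact Nat.gcd_dvd_right d r

section Count

variable {k : Type u} {F : Type v} {E : Type w} [Field k] [Field F] [Field E]
  [Algebra k F] [Algebra F E] [Algebra k E] [IsScalarTower k F E]

/-- The number of `σ` in the Galois group acting at `Q` as the `q^r`-power Frobenius is `e(Q|P)` if
`deg P ∣ r`, and `0` otherwise. -/
theorem card_frob [Finite k] [FiniteDimensional F E] [IsGalois F E] (hF : IsFunctionField k F)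
    {Q : Place k E} {P : Place k F} {e : ℕ} (he : IsOverWith Q P e) (r : ℕ) :
    Nat.card {σ : E ≃ₐ[F] E // Q ∈ frobSet (k := k) (σ : E → E) (Nat.card k ^ r)} =
      if P.deg ∣ r then e else 0 := by
  classical
  obtain ⟨q, hq⟩ : ∃ q, q = Nat.card k := ⟨_, rfl⟩
  rw [← hq]
  have hq2 : 2 ≤ q := hq ▸ Finite.one_lt_card
  haveI hfdQ : @Module.Finite k (IsLocalRing.ResidueField Q.O) _ _ (Place.algRes Q).toModule :=
    Place.finiteDimensional_residueField' hF Q
  haveI : Algebra.IsAlgebraic k (IsLocalRing.ResidueField Q.O) := Algebra.IsAlgebraic.of_finite _ _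
  haveI : Algebra.IsSeparable k (IsLocalRing.ResidueField Q.O) := inferInstance
  have hfdP := Place.finiteDimensional_residueField hF P
  haveI hfdP' : @Module.Finite k (IsLocalRing.ResidueField P.O) _ _ (Place.algRes P).toModule :=
    hfdP
  haveI : Finite (IsLocalRing.ResidueField P.O) := Module.finite_of_finite k
  have hcardP : Nat.card (IsLocalRing.ResidueField P.O) = q ^ P.deg := by
    rw [hq]
    exact Module.natCard_eq_pow_finrank (K := k) (V := IsLocalRing.ResidueField P.O)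
  have hQP : IsOver Q P := ⟨e, he⟩
  have hfixP : ∀ (σ : (Q.O).decompositionSubgroup F) (y : IsLocalRing.ResidueField P.O),
      decompToAut Q σ (Place.mapRes hQP y) = Place.mapRes hQP y := by
    intro σ y
    have hff := fixedField_decompToAut (F := F) hQP
    have hy : Place.mapRes hQP y ∈ (Place.mapRes hQP).fieldRange := ⟨y, rfl⟩
    rw [← hff, IntermediateField.mem_fixedField_iff] at hy
    exact hy _ ⟨σ, rfl⟩
  split_ifs with hdvd
  · haveI : Fintype k := Fintype.ofFinite k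
    obtain ⟨φ, hφdef⟩ : ∃ φ : (IsLocalRing.ResidueField Q.O) ≃ₐ[k] (IsLocalRing.ResidueField Q.O),
        φ = (FiniteField.frobeniusAlgEquivOfAlgebraic k (IsLocalRing.ResidueField Q.O)) ^ r :=
      ⟨_, rfl⟩
    have hφ : ∀ x, φ x = x ^ (q ^ r) := by
      intro x
      rw [hφdef, AlgEquiv.coe_pow, FiniteField.coe_frobeniusAlgEquivOfAlgebraic_iterate, hq,
        Nat.card_eq_fintype_card]
    have hφmem : φ ∈ (decompToAut (F := F) Q).range := by
      rw [← IntermediateField.fixingSubgroup_fixedField (decompToAut (F := F) Q).range,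
        fixedField_decompToAut hQP, IntermediateField.mem_fixingSubgroup_iff]
      rintro x ⟨y, rfl⟩
      rw [hφ]
      show (Place.mapRes hQP y) ^ (q ^ r) = Place.mapRes hQP y
      rw [← map_pow]
      congr 1
      obtain ⟨c, hc⟩ := hdvd
      rw [hc, pow_mul, ← hcardP]
      haveI : Fintype (IsLocalRing.ResidueField P.O) := Fintype.ofFinite _
      rw [Nat.card_eq_fintype_card]
      exact FiniteField.pow_card_pow c y
    obtain ⟨τ₀, hτ₀⟩ := hφmem
    have hD : ∀ σ : E ≃ₐ[F] E, Q ∈ frobSet (k := k) (σ : E → E) (q ^ r) →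
        σ ∈ (Q.O).decompositionSubgroup F := fun σ hσ => mem_decomposition_of_mem_frobSet Q σ _ hσ
    have hiff : ∀ σ : (Q.O).decompositionSubgroup F,
        Q ∈ frobSet (k := k) ((σ.1 : E ≃ₐ[F] E) : E → E) (q ^ r) ↔ decompToAut Q σ = φ := by
      intro σ
      rw [mem_frobSet_iff]
      constructor
      · intro h
        ext x
        rw [h, hφ]
      · intro h x
        rw [h, hφ]
    have hequiv : {σ : E ≃ₐ[F] E // Q ∈ frobSet (k := k) (σ : E → E) (q ^ r)} ≃
        (decompToAut (F := F) Q).ker :=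
      { toFun := fun σ => ⟨τ₀⁻¹ * ⟨σ.1, hD σ.1 σ.2⟩, by
          rw [MonoidHom.mem_ker, map_mul, map_inv, hτ₀, (hiff ⟨σ.1, hD σ.1 σ.2⟩).1 σ.2,
            inv_mul_cancel]⟩
        invFun := fun ι => ⟨(τ₀ * ι.1).1, by
          have := (hiff (τ₀ * ι.1)).2 (by
            rw [map_mul, hτ₀, MonoidHom.mem_ker.1 ι.2, mul_one])
          exact this⟩
        left_inv := by
          intro σ
          apply Subtype.ext
          show ((τ₀ * (τ₀⁻¹ * ⟨σ.1, hD σ.1 σ.2⟩) : (Q.O).decompositionSubgroup F) : E ≃ₐ[F] E) = σ.1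
          rw [mul_inv_cancel_left]
        right_inv := by
          intro ι
          apply Subtype.ext
          show (τ₀⁻¹ * ⟨(τ₀ * ι.1).1, _⟩ : (Q.O).decompositionSubgroup F) = ι.1
          have : (⟨(τ₀ * ι.1).1, (τ₀ * ι.1).2⟩ : (Q.O).decompositionSubgroup F) = τ₀ * ι.1 := rfl
          rw [this, inv_mul_cancel_left] }
    rw [Nat.card_congr hequiv, ker_decompToAut]
    exact card_inertia_eq hF he
  · rw [Nat.card_eq_zero]
    left
    constructor
    rintro ⟨σ, hσ⟩
    have hσD := mem_decomposition_of_mem_frobSet Q σ _ hσ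
    have h1 := (mem_frobSet_iff Q ⟨σ, hσD⟩ _).1 hσ
    apply hdvd
    apply dvd_of_forall_pow_eq hq2 hcardP (r := r)
    intro y
    apply (Place.mapRes hQP).injective
    rw [map_pow, ← h1]
    exact hfixP _ y

end Count

section Sum

variable {k : Type u} {F : Type v} {E : Type w} [Field k] [Field F] [Field E]
  [Algebra k F] [Algebra F E] [Algebra k E] [IsScalarTower k F E]

variable (k) in
open scoped Classical in
/-- The total degree of the places at which `σ` acts as the `N`-th power map (`0` if there are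
infinitely many). -/
noncomputable def frobCount (σ : E → E) (N : ℕ) : ℕ :=
  if h : (frobSet (k := k) σ N).Finite then ∑ Q ∈ h.toFinset, Q.deg else 0

theorem frobCount_eq_sum (σ : E → E) (N : ℕ) (S : Finset (Place k E))
    (hS : ∀ Q, Q ∈ S ↔ Q ∈ frobSet (k := k) σ N) : frobCount k σ N = ∑ Q ∈ S, Q.deg := by
  classical
  have hfin : (frobSet (k := k) σ N).Finite := S.finite_toSet.subset (fun Q hQ => (hS Q).2 hQ)
  unfold frobCount
  rw [dif_pos hfin]
  apply Finset.sum_congr _ (fun _ _ => rfl)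
  ext Q
  rw [Set.Finite.mem_toFinset, hS]

/-- **Double counting in a Galois extension**: the Frobenius-twisted counts of the Galois group sum
to `[E : F] N_r(F)`. -/
theorem sum_frobCount [Finite k] [FiniteDimensional F E] [IsGalois F E] [Fintype (E ≃ₐ[F] E)]
    (hF : IsFunctionField k F) {r : ℕ} (hr : 0 < r) :
    ∑ σ : E ≃ₐ[F] E, frobCount k (σ : E → E) (Nat.card k ^ r) =
      Module.finrank F E * ptCount hF r := by
  classical
  obtain ⟨PP, hPP⟩ : ∃ PP : Finset (Place k F), PP = (placesLE hF r).filter (fun P => P.deg ∣ r) :=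
    ⟨_, rfl⟩
  obtain ⟨ovr, hovrdef⟩ : ∃ ovr : Place k F → Finset (Place k E),
      ovr = fun P => (finite_places_over' (E := E) hF P).toFinset := ⟨_, rfl⟩
  have hovr : ∀ P Q, Q ∈ ovr P ↔ IsOver Q P := by
    intro P Q
    rw [hovrdef]
    exact Set.Finite.mem_toFinset _
  obtain ⟨U, hU⟩ : ∃ U : Finset (Place k E), U = PP.biUnion ovr := ⟨_, rfl⟩
  have hsub : ∀ σ : E ≃ₐ[F] E, ∀ Q ∈ frobSet (k := k) (σ : E → E) (Nat.card k ^ r), Q ∈ U := by
    intro σ Q hQ
    obtain ⟨P, e, he⟩ := exists_place_under hF Q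
    have hc := card_frob hF he r
    have hpos : 0 < Nat.card {σ : E ≃ₐ[F] E // Q ∈ frobSet (k := k) (σ : E → E)
        (Nat.card k ^ r)} := Nat.card_pos_iff.2 ⟨⟨⟨σ, hQ⟩⟩, inferInstance⟩
    have hdvd : P.deg ∣ r := by
      by_contra h
      rw [hc, if_neg h] at hpos
      exact lt_irrefl _ hpos
    rw [hU, Finset.mem_biUnion]
    refine ⟨P, ?_, (hovr P Q).2 ⟨e, he⟩⟩
    rw [hPP]
    exact Finset.mem_filter.2 ⟨(mem_placesLE hF).2 (Nat.le_of_dvd hr hdvd), hdvd⟩
  have hcount : ∀ σ : E ≃ₐ[F] E, frobCount k (σ : E → E) (Nat.card k ^ r) =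
      ∑ Q ∈ U, if Q ∈ frobSet (k := k) (σ : E → E) (Nat.card k ^ r) then Q.deg else 0 := by
    intro σ
    rw [← Finset.sum_filter]
    apply frobCount_eq_sum
    intro Q
    rw [Finset.mem_filter]
    exact ⟨fun h => h.2, fun h => ⟨hsub σ Q h, h⟩⟩
  simp_rw [hcount]
  rw [Finset.sum_comm, hU, Finset.sum_biUnion]
  · have hP : ∀ P ∈ PP, ∑ Q ∈ ovr P, ∑ σ : E ≃ₐ[F] E,
        (if Q ∈ frobSet (k := k) (σ : E → E) (Nat.card k ^ r) then Q.deg else 0) =
          Module.finrank F E * P.deg := by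
      intro P hPPP
      rw [hPP] at hPPP
      have hdvd : P.deg ∣ r := (Finset.mem_filter.1 hPPP).2
      rw [← sum_ramIdx_mul_deg hF P (ovr P) (hovr P)]
      apply Finset.sum_congr rfl
      intro Q hQ
      obtain ⟨e, he⟩ := (hovr P Q).1 hQ
      rw [ramIdx_eq he, ← Finset.sum_filter, Finset.sum_const, smul_eq_mul]
      congr 1
      have hc := card_frob hF he r
      rw [if_pos hdvd] at hc
      rw [← hc, ← Fintype.card_subtype]
      exact Nat.card_eq_fintype_card.symm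
    rw [Finset.sum_congr rfl hP, ← Finset.mul_sum]
    congr 1
    unfold ptCount
    rw [hPP, Finset.sum_filter]
  · intro P _ P' _ hne
    rw [Function.onFun, Finset.disjoint_left]
    intro Q hQ hQ'
    exact hne (eq_of_isOver ((hovr P Q).1 hQ) ((hovr P' Q).1 hQ'))

end Sum

section Bound

variable {k : Type u} {E : Type w} [Field k] [Field E] [Algebra k E]

/-- Bombieri's bound for the twisted counts. -/
theorem frobCount_le [Finite k] (hE : IsFunctionField k E) (σ : E ≃ₐ[k] E) (Q₀ : Place k E)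
    (hQ₀ : Q₀.deg = 1) (s : ℕ) (q₀ : ℕ) (hq₀ : q₀ = Nat.card k ^ s)
    (hbig : (genus k E + 1) ^ 2 < q₀) :
    frobCount k (σ : E → E) (q₀ * q₀) ≤ q₀ * q₀ + (2 * genus k E + 1) * q₀ := by
  classical
  unfold frobCount
  split_ifs with h
  · apply bombieri_twisted hE σ Q₀ hQ₀ s q₀ hq₀ hbig
    intro P hP
    rw [Set.Finite.mem_toFinset] at hP
    exact hP
  · exact Nat.zero_le _

variable {F₀ : Type v} {M : Type*} [Field F₀] [Field M] [Algebra k F₀] [Algebra F₀ E]
  [IsScalarTower k F₀ E] [Algebra k M] [Algebra M E] [IsScalarTower k M E]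

/-- **The main estimate, abstractly**: if `E/F₀` and `E/M` are finite Galois, `F₀ ⊆ M` inside `E`, `E` has a
place of degree one and `N_r(F₀) = q^r + 1`, then `|N_{2s}(M) - q^{2s} - 1| ≤ [E:F₀] (2 g_E + 1) q^s`
as soon as `q^s > (g_E + 1)²`. -/
theorem ptCount_bound [Finite k] [FiniteDimensional F₀ E] [IsGalois F₀ E] [FiniteDimensional M E]
    [IsGalois M E] (hE : IsFunctionField k E) (hF₀ : IsFunctionField k F₀)
    (hM : IsFunctionField k M)
    (hsub : ∀ a : F₀, algebraMap F₀ E a ∈ Set.range (algebraMap M E))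
    (Q₀ : Place k E) (hQ₀ : Q₀.deg = 1) (s : ℕ) (hs : 0 < s)
    (hrat : ptCount hF₀ (2 * s) = Nat.card k ^ (2 * s) + 1)
    (hbig : (genus k E + 1) ^ 2 < Nat.card k ^ s) :
    |(ptCount hM (2 * s) : ℤ) - ((Nat.card k : ℤ) ^ (2 * s) + 1)| ≤
      (Module.finrank F₀ E : ℤ) * (2 * genus k E + 1) * (Nat.card k : ℤ) ^ s := by
  classical
  haveI : Fintype (E ≃ₐ[F₀] E) := Fintype.ofFinite _
  haveI : Fintype (E ≃ₐ[M] E) := Fintype.ofFinite _
  obtain ⟨q₀, hq₀⟩ : ∃ q₀, q₀ = Nat.card k ^ s := ⟨_, rfl⟩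
  obtain ⟨g, hg⟩ : ∃ g, g = genus k E := ⟨_, rfl⟩
  have hqq : Nat.card k ^ (2 * s) = q₀ * q₀ := by
    rw [hq₀, two_mul, pow_add]
  obtain ⟨B, hB⟩ : ∃ B, B = q₀ * q₀ + (2 * g + 1) * q₀ := ⟨_, rfl⟩
  rw [← hq₀] at hbig
  have h2s : 0 < 2 * s := by omega
  -- the two identities
  have hsumG := sum_frobCount (E := E) hF₀ h2s
  have hsumH := sum_frobCount (E := E) hM h2s
  rw [hqq] at hsumG hsumH hrat
  rw [hrat] at hsumG
  -- the upper bounds
  have hupG : ∀ σ : E ≃ₐ[F₀] E, frobCount k (σ : E → E) (q₀ * q₀) ≤ B := by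
    intro σ
    have := frobCount_le hE (σ.restrictScalars k) Q₀ hQ₀ s q₀ hq₀ hbig
    rw [← hg, ← hB] at this
    exact this
  -- the lower bounds
  obtain ⟨nG, hnG⟩ : ∃ nG, nG = Module.finrank F₀ E := ⟨_, rfl⟩
  have hcardG : Fintype.card (E ≃ₐ[F₀] E) = nG := by
    rw [← Nat.card_eq_fintype_card, hnG]
    exact IsGalois.card_aut_eq_finrank F₀ E
  have hnGpos : 0 < nG := hnG ▸ Module.finrank_pos
  rw [← hnG] at hsumG
  have hlowG : ∀ σ : E ≃ₐ[F₀] E,
      nG * (q₀ * q₀ + 1) ≤ frobCount k (σ : E → E) (q₀ * q₀) + (nG - 1) * B := by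
    intro σ
    rw [← hsumG, ← Finset.add_sum_erase Finset.univ _ (Finset.mem_univ σ)]
    apply Nat.add_le_add_left
    calc ∑ τ ∈ Finset.univ.erase σ, frobCount k (τ : E → E) (q₀ * q₀)
        ≤ ∑ τ ∈ Finset.univ.erase σ, B := Finset.sum_le_sum (fun τ _ => hupG τ)
      _ = (nG - 1) * B := by
        rw [Finset.sum_const, smul_eq_mul, Finset.card_erase_of_mem (Finset.mem_univ σ),
          Finset.card_univ, hcardG]
  -- transfer to the subgroup
  have hH : ∀ τ : E ≃ₐ[M] E, frobCount k (τ : E → E) (q₀ * q₀) ≤ B ∧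
      nG * (q₀ * q₀ + 1) ≤ frobCount k (τ : E → E) (q₀ * q₀) + (nG - 1) * B := by
    intro τ
    obtain ⟨σ, hσ⟩ : ∃ σ : E ≃ₐ[F₀] E, (σ : E → E) = (τ : E → E) := by
      refine ⟨AlgEquiv.ofRingEquiv (f := τ.toRingEquiv) ?_, rfl⟩
      intro a
      obtain ⟨b, hb⟩ := hsub a
      rw [← hb]
      exact τ.commutes b
    rw [← hσ]
    exact ⟨hupG σ, hlowG σ⟩
  obtain ⟨nH, hnH⟩ : ∃ nH, nH = Module.finrank M E := ⟨_, rfl⟩
  have hcardH : Fintype.card (E ≃ₐ[M] E) = nH := by
    rw [← Nat.card_eq_fintype_card, hnH]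
    exact IsGalois.card_aut_eq_finrank M E
  have hnHpos : 0 < nH := hnH ▸ Module.finrank_pos
  rw [← hnH] at hsumH
  obtain ⟨N, hN⟩ : ∃ N, N = ptCount hM (2 * s) := ⟨_, rfl⟩
  rw [← hN] at hsumH ⊢
  have hup : nH * N ≤ nH * B := by
    rw [← hsumH]
    calc ∑ τ : E ≃ₐ[M] E, frobCount k (τ : E → E) (q₀ * q₀)
        ≤ ∑ τ : E ≃ₐ[M] E, B := Finset.sum_le_sum (fun τ _ => (hH τ).1)
      _ = nH * B := by rw [Finset.sum_const, smul_eq_mul, Finset.card_univ, hcardH]
  have hlow : nH * (nG * (q₀ * q₀ + 1)) ≤ nH * (N + (nG - 1) * B) := by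
    calc nH * (nG * (q₀ * q₀ + 1)) = ∑ τ : E ≃ₐ[M] E, nG * (q₀ * q₀ + 1) := by
          rw [Finset.sum_const, smul_eq_mul, Finset.card_univ, hcardH]
      _ ≤ ∑ τ : E ≃ₐ[M] E, (frobCount k (τ : E → E) (q₀ * q₀) + (nG - 1) * B) :=
          Finset.sum_le_sum (fun τ _ => (hH τ).2)
      _ = nH * (N + (nG - 1) * B) := by
          rw [Finset.sum_add_distrib, hsumH, Finset.sum_const, smul_eq_mul, Finset.card_univ,
            hcardH, mul_add]
  have hup' : N ≤ B := Nat.le_of_mul_le_mul_left hup hnHpos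
  have hlow' : nG * (q₀ * q₀ + 1) ≤ N + (nG - 1) * B := Nat.le_of_mul_le_mul_left hlow hnHpos
  -- arithmetic in `ℤ`
  have hqq' : (Nat.card k : ℤ) ^ (2 * s) = (q₀ : ℤ) * q₀ := by exact_mod_cast hqq
  have hq₀' : (Nat.card k : ℤ) ^ s = (q₀ : ℤ) := by exact_mod_cast hq₀.symm
  rw [hqq', hq₀', ← hg]
  have hupZ : (N : ℤ) ≤ (q₀ : ℤ) * q₀ + (2 * g + 1) * q₀ := by
    have : (N : ℤ) ≤ (B : ℤ) := by exact_mod_cast hup'
    rw [hB] at this
    push_cast at this
    exact this
  have hlowZ : (nG : ℤ) * ((q₀ : ℤ) * q₀ + 1) ≤ N + ((nG : ℤ) - 1) * ((q₀ : ℤ) * q₀ + (2 * g + 1) * q₀) := by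
    have : ((nG * (q₀ * q₀ + 1) : ℕ) : ℤ) ≤ ((N + (nG - 1) * B : ℕ) : ℤ) := by exact_mod_cast hlow'
    rw [hB] at this
    push_cast [Nat.cast_sub hnGpos] at this
    exact this
  have hnG1 : (1 : ℤ) ≤ nG := by exact_mod_cast hnGpos
  have hq₀nn : (0 : ℤ) ≤ q₀ := Int.natCast_nonneg _
  have hgnn : (0 : ℤ) ≤ g := Int.natCast_nonneg _
  have hprod : (0 : ℤ) ≤ (2 * (g : ℤ) + 1) * q₀ := by positivity
  rw [abs_le]
  constructor
  · nlinarith
  · nlinarith

end Bound

end Groth.Agent.Lib.helper10.Zeta
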