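import Mathlib
import Groth.Agent.Lib.Helper10.Zeta12

/-!
# Zeta functions (helper10), part 13: tower lemmas for the proof of the Riemann hypothesis
-/

set_option autoImplicit false
set_option linter.style.haveILetI false
set_option linter.unusedSectionVars false
set_option linter.unusedVariables false

universe u v w

open FunFld Polynomial IntermediateField

namespace Groth.Agent.Lib.helper10.Zeta

open FF RD PA

section Lift

variable {A B E : Type*} [Field A] [Field B] [Field E]

/-- A ring homomorphism `A → B` obtained from `A → E` landing inside the image of `B → E`. -/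
noncomputable def liftHom (f : A →+* E) (g : B →+* E) (h : ∀ a, f a ∈ Set.range g) : A →+* B where
  toFun a := Classical.choose (h a)
  map_one' := g.injective (by
    have h1 := Classical.choose_spec (h 1)
    show g (Classical.choose (h 1)) = g 1
    rw [h1, map_one, map_one])
  map_mul' a b := g.injective (by
    have h1 := Classical.choose_spec (h (a * b))
    have h2 := Classical.choose_spec (h a)
    have h3 := Classical.choose_spec (h b)
    show g (Classical.choose (h (a * b))) = g (Classical.choose (h a) * Classical.choose (h b))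
    rw [h1, map_mul f, map_mul g, h2, h3])
  map_zero' := g.injective (by
    have h1 := Classical.choose_spec (h 0)
    show g (Classical.choose (h 0)) = g 0
    rw [h1, map_zero, map_zero])
  map_add' a b := g.injective (by
    have h1 := Classical.choose_spec (h (a + b))
    have h2 := Classical.choose_spec (h a)
    have h3 := Classical.choose_spec (h b)
    show g (Classical.choose (h (a + b))) = g (Classical.choose (h a) + Classical.choose (h b))
    rw [h1, map_add f, map_add g, h2, h3])

theorem liftHom_spec (f : A →+* E) (g : B →+* E) (h : ∀ a, f a ∈ Set.range g) (a : A) :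
    g (liftHom f g h a) = f a := Classical.choose_spec (h a)

end Lift

section Tower

variable {F M E : Type*} [Field F] [Field M] [Field E] [Algebra F E] [Algebra M E]

theorem isGalois_of_range_le [IsGalois F E]
    (h : ∀ a : F, algebraMap F E a ∈ Set.range (algebraMap M E)) : IsGalois M E := by
  letI := (liftHom (algebraMap F E) (algebraMap M E) h).toAlgebra
  haveI : IsScalarTower F M E := IsScalarTower.of_algebraMap_eq (fun a =>
    (liftHom_spec (algebraMap F E) (algebraMap M E) h a).symm)
  exact IsGalois.tower_top_of_isGalois F M E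

theorem finite_of_range_le [Module.Finite F E]
    (h : ∀ a : F, algebraMap F E a ∈ Set.range (algebraMap M E)) : Module.Finite M E :=
  finite_of_ringHom (liftHom (algebraMap F E) (algebraMap M E) h)
    (fun a => liftHom_spec (algebraMap F E) (algebraMap M E) h a)

end Tower

section FF

variable {k : Type u} {M : Type v} {E : Type w} [Field k] [Field M] [Field E] [Algebra k M]
  [Algebra M E] [Algebra k E] [IsScalarTower k M E]

/-- A subfield of finite index of a function field is a function field, over the same constants. -/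
theorem isFunctionField_of_tower [FiniteDimensional M E] (hE : IsFunctionField k E) :
    IsFunctionField k M := by
  have hinj : Function.Injective (algebraMap M E) := (algebraMap M E).injective
  refine ⟨?_, ?_⟩
  · have hex : ∃ x : M, Transcendental k x := by
      by_contra hno
      push Not at hno
      haveI : Algebra.IsAlgebraic k M := ⟨fun x => by
        by_contra hx
        exact hno x hx⟩
      haveI : Algebra.IsAlgebraic M E := Algebra.IsAlgebraic.of_finite M E
      haveI : Algebra.IsAlgebraic k E := Algebra.IsAlgebraic.trans k M E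
      obtain ⟨⟨x, hx, -⟩, -⟩ := hE
      exact hx (Algebra.IsAlgebraic.isAlgebraic x)
    obtain ⟨x, hx⟩ := hex
    refine ⟨x, hx, ?_⟩
    have hx' : Transcendental k (algebraMap M E x) := by
      intro halg
      exact hx ((isAlgebraic_algebraMap_iff hinj).mp halg)
    haveI hfin : FiniteDimensional k⟮algebraMap M E x⟯ E := finiteDimensional_adjoin hE hx'
    have hmem : ∀ a : k⟮algebraMap M E x⟯, algebraMap k⟮algebraMap M E x⟯ E a ∈
        Set.range (algebraMap k⟮x⟯ E) := by
      rintro ⟨a, ha⟩
      show a ∈ Set.range (algebraMap k⟮x⟯ E)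
      induction ha using IntermediateField.adjoin_induction with
      | mem y hy =>
        rw [Set.mem_singleton_iff.mp hy]
        exact ⟨⟨x, mem_adjoin_simple_self k x⟩, rfl⟩
      | algebraMap c =>
        refine ⟨algebraMap k k⟮x⟯ c, ?_⟩
        show algebraMap M E (algebraMap k⟮x⟯ M (algebraMap k k⟮x⟯ c)) = algebraMap k E c
        rw [IsScalarTower.algebraMap_apply k M E]
        rfl
      | add a b _ _ ha hb =>
        obtain ⟨a', rfl⟩ := ha
        obtain ⟨b', rfl⟩ := hb
        exact ⟨a' + b', map_add _ _ _⟩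
      | inv a _ ha =>
        obtain ⟨a', rfl⟩ := ha
        exact ⟨a'⁻¹, map_inv₀ _ _⟩
      | mul a b _ _ ha hb =>
        obtain ⟨a', rfl⟩ := ha
        obtain ⟨b', rfl⟩ := hb
        exact ⟨a' * b', map_mul _ _ _⟩
    haveI : Module.Finite k⟮x⟯ E := finite_of_range_le hmem
    exact Module.Finite.of_injective (IsScalarTower.toAlgHom k⟮x⟯ M E).toLinearMap hinj
  · intro y hy
    have hy' : IsAlgebraic k (algebraMap M E y) := hy.algebraMap
    obtain ⟨c, hc⟩ := hE.2 _ hy'
    refine ⟨c, hinj ?_⟩
    rw [← IsScalarTower.algebraMap_apply, hc]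

end FF

section Rational

variable {k : Type u} {K : Type v} [Field k] [Field K] [Algebra k K]

/-- The rational function field `k(x)` has genus zero. -/
theorem genus_adjoin_simple (hK : IsFunctionField k K) {x : K} (hx : Transcendental k x) :
    genus k k⟮x⟯ = 0 := by
  apply genus_eq_zero_of_adjoin_eq_top (isFunctionField_adjoin_simple hK hx)
    (x := AdjoinSimple.gen k x)
  rw [eq_top_iff]
  intro c _
  obtain ⟨r, s, hrs⟩ := (mem_adjoin_simple_iff k (c : K)).1 c.2
  rw [mem_adjoin_simple_iff]
  refine ⟨r, s, ?_⟩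
  apply Subtype.ext
  rw [hrs]
  have e1 : ∀ q : k[X], ((aeval (AdjoinSimple.gen k x) q : k⟮x⟯) : K) = aeval x q := by
    intro q
    have := Polynomial.aeval_algHom_apply (IsScalarTower.toAlgHom k k⟮x⟯ K)
      (AdjoinSimple.gen k x) q
    rw [IsScalarTower.coe_toAlgHom', AdjoinSimple.algebraMap_gen] at this
    exact this.symm
  push_cast
  rw [e1, e1]

/-- A function field of genus zero over a field with `q` elements has `N_r = q^r + 1`. -/
theorem ptCount_of_genus_zero [Finite k] (hK : IsFunctionField k K) (hg : genus k K = 0) {r : ℕ}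
    (hr : r ≠ 0) : ptCount hK r = Nat.card k ^ r + 1 := by
  obtain ⟨α, -, hα, -⟩ := exists_factorization hK
  have h1 := ptCount_eq hK α hα hr
  haveI : IsEmpty (Fin (2 * genus k K)) := by
    rw [hg]
    exact Fin.isEmpty'
  rw [Finset.univ_eq_empty, Finset.sum_empty, sub_zero] at h1
  have h2 : ((ptCount hK r : ℕ) : ℂ) = ((Nat.card k ^ r + 1 : ℕ) : ℂ) := by
    rw [h1]
    push_cast
    ring
  exact_mod_cast h2

end Rational

section Main

/-- **The main estimate from a Galois tower over a constant field extension.** -/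
theorem main_estimate_of_tower
    {k K k' K' F₀' E : Type*} [Field k] [Finite k] [Field K] [Algebra k K]
    [Field k'] [Finite k'] [Algebra k k']
    [Field K'] [Algebra K K'] [Algebra k' K'] [Algebra k K'] [IsScalarTower k K K']
    [IsScalarTower k k' K']
    [Field E] [Algebra k' E] [Algebra K' E] [IsScalarTower k' K' E]
    [Field F₀'] [Algebra k' F₀'] [Algebra F₀' E] [IsScalarTower k' F₀' E]
    [FiniteDimensional F₀' E] [IsGalois F₀' E] [FiniteDimensional K' E] [IsGalois K' E]
    (hK : IsFunctionField k K) (hK' : IsFunctionField k' K')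
    (hdeg : Module.finrank K K' = Module.finrank k k')
    (hE : IsFunctionField k' E) (hF₀' : IsFunctionField k' F₀') (hg0 : genus k' F₀' = 0)
    (hsub : ∀ a : F₀', algebraMap F₀' E a ∈ Set.range (algebraMap K' E))
    (Q₀ : Place k' E) (hQ₀ : Q₀.deg = 1) :
    ∃ (C : ℝ) (r₀ : ℕ), 0 < r₀ ∧ ∀ j : ℕ, 0 < j →
      |(ptCount hK (r₀ * j) : ℝ) - (Nat.card k : ℝ) ^ (r₀ * j) - 1| ≤
        C * Real.sqrt (Nat.card k) ^ (r₀ * j) := by
  obtain ⟨n, hn⟩ : ∃ n, n = Module.finrank k k' := ⟨_, rfl⟩
  haveI : FiniteDimensional k k' := Module.Finite.of_finite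
  have hnpos : 0 < n := hn ▸ Module.finrank_pos
  obtain ⟨q, hq⟩ : ∃ q, q = Nat.card k := ⟨_, rfl⟩
  have hq2 : 2 ≤ q := hq ▸ Finite.one_lt_card
  have hq' : Nat.card k' = q ^ n := by
    rw [hq, hn]
    exact Module.natCard_eq_pow_finrank (K := k) (V := k')
  obtain ⟨g, hg⟩ : ∃ g, g = genus k' E := ⟨_, rfl⟩
  obtain ⟨s₀, hs₀⟩ : ∃ s₀, s₀ = (g + 1) ^ 2 := ⟨_, rfl⟩
  have hs₀pos : 0 < s₀ := by rw [hs₀]; positivity
  have hbig₀ : (g + 1) ^ 2 < (q ^ n) ^ s₀ := by
    rw [← hs₀]
    calc s₀ < 2 ^ s₀ := Nat.lt_two_pow_self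
      _ ≤ (q ^ n) ^ s₀ := by
        apply Nat.pow_le_pow_left
        calc 2 ≤ q := hq2
          _ = q ^ 1 := (pow_one q).symm
          _ ≤ q ^ n := Nat.pow_le_pow_right (by omega) hnpos
  refine ⟨(Module.finrank F₀' E : ℝ) * (2 * g + 1), 2 * s₀ * n, by positivity, ?_⟩
  intro j hj
  obtain ⟨s, hs⟩ : ∃ s, s = s₀ * j := ⟨_, rfl⟩
  have hspos : 0 < s := by rw [hs]; positivity
  have hr : 2 * s₀ * n * j = 2 * s * n := by rw [hs]; ring
  rw [hr]
  have hbig : (genus k' E + 1) ^ 2 < Nat.card k' ^ s := by
    rw [← hg, hq']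
    calc (g + 1) ^ 2 < (q ^ n) ^ s₀ := hbig₀
      _ ≤ (q ^ n) ^ s := by
        apply Nat.pow_le_pow_right (Nat.pow_pos (by omega))
        rw [hs]
        exact Nat.le_mul_of_pos_right s₀ hj
  have hrat : ptCount hF₀' (2 * s) = Nat.card k' ^ (2 * s) + 1 :=
    ptCount_of_genus_zero hF₀' hg0 (by omega)
  have hb := ptCount_bound hE hF₀' hK' hsub Q₀ hQ₀ s hspos hrat hbig
  rw [ptCount_constExt hK hK' hdeg, ← hn, hq', ← hg] at hb
  have hbR : |((ptCount hK (2 * s * n) : ℤ) : ℝ) - ((((q ^ n : ℕ) : ℤ) : ℝ) ^ (2 * s) + 1)| ≤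
      ((Module.finrank F₀' E : ℤ) : ℝ) * (2 * ((g : ℤ) : ℝ) + 1) * (((q ^ n : ℕ) : ℤ) : ℝ) ^ s := by
    exact_mod_cast hb
  rw [← hq]
  have e1 : ((((q ^ n : ℕ) : ℤ) : ℝ)) ^ (2 * s) = (q : ℝ) ^ (2 * s * n) := by
    push_cast
    rw [← pow_mul]
    congr 1
    ring
  have hqnn : (0 : ℝ) ≤ (q : ℝ) := Nat.cast_nonneg _
  have e2 : ((((q ^ n : ℕ) : ℤ) : ℝ)) ^ s = Real.sqrt (q : ℝ) ^ (2 * s * n) := by
    push_cast
    rw [← pow_mul, show 2 * s * n = 2 * (n * s) by ring, pow_mul (Real.sqrt (q : ℝ)) 2 (n * s),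
      Real.sq_sqrt hqnn]
  rw [e1, e2] at hbR
  have e3 : ((ptCount hK (2 * s * n) : ℤ) : ℝ) = (ptCount hK (2 * s * n) : ℝ) := by push_cast; rfl
  rw [e3] at hbR
  calc |(ptCount hK (2 * s * n) : ℝ) - (q : ℝ) ^ (2 * s * n) - 1|
      = |(ptCount hK (2 * s * n) : ℝ) - ((q : ℝ) ^ (2 * s * n) + 1)| := by
        congr 1
        ring
    _ ≤ _ := by
        refine hbR.trans (le_of_eq ?_)
        push_cast
        ring

end Main

end Groth.Agent.Lib.helper10.Zeta
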