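import Mathlib
import Groth.Agent.Lib.Helper10.Zeta13

/-!
# Zeta functions (helper10), part 14: the Galois tower and the main estimate
-/

set_option autoImplicit false
set_option linter.style.haveILetI false
set_option linter.unusedSectionVars false
set_option linter.unusedVariables false

universe u v w

open FunFld Polynomial IntermediateField

namespace Groth.Agent.Lib.helper10.Zeta

open FF RD PA

section Consts

variable {k : Type u} {F : Type v} {E : Type w} [Field k] [Field F] [Field E]
  [Algebra k F] [Algebra F E] [Algebra k E] [IsScalarTower k F E]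

/-- The constants of a finite extension of a function field are finite over the base constants. -/
theorem finiteDimensional_constants [FiniteDimensional F E] (hF : IsFunctionField k F) :
    FiniteDimensional k (algebraicClosure k E) := by
  obtain ⟨⟨x, hx, hfin⟩, -⟩ := hF
  have hx'tr : Transcendental k (algebraMap F E x) :=
    (transcendental_algebraMap_iff (algebraMap F E).injective).mpr hx
  haveI : FiniteDimensional k⟮algebraMap F E x⟯ E := by
    apply Module.finite_of_finrank_pos
    rw [finrank_adjoin_algebraMap (k := k) (E := E) x]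
    haveI := hfin
    exact Nat.mul_pos Module.finrank_pos Module.finrank_pos
  exact finiteDimensional_algebraicClosure hx'tr

end Consts

section Sep

variable {k : Type u} {K : Type v} [Field k] [Field K] [Algebra k K]

/-- A function field over a finite field has a separating element. -/
theorem exists_separating [Finite k] (hK : IsFunctionField k K) :
    ∃ x : K, Transcendental k x ∧ Algebra.IsSeparable k⟮x⟯ K := by
  obtain ⟨⟨x₀, hx₀, hfin₀⟩, -⟩ := hK
  haveI := hfin₀
  haveI : Algebra.EssFiniteType k k⟮x₀⟯ :=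
    IntermediateField.essFiniteType_iff.2 ⟨{x₀}, by simp⟩
  haveI : Algebra.EssFiniteType k K := Algebra.EssFiniteType.comp k k⟮x₀⟯ K
  obtain ⟨s, hs, hsep⟩ := exists_isTranscendenceBasis_and_isSeparable_of_perfectField k K
  have hb₀ : IsTranscendenceBasis k (fun _ : PUnit.{v + 1} => x₀) := by
    have hind : AlgebraicIndependent k (fun _ : PUnit.{v + 1} => x₀) :=
      algebraicIndependent_unique_type_iff.2 hx₀
    rw [hind.isTranscendenceBasis_iff_isAlgebraic, ← IntermediateField.isAlgebraic_adjoin_iff_top]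
    have : Set.range (fun _ : PUnit.{v + 1} => x₀) = {x₀} := by
      ext y
      simp [eq_comm]
    rw [this]
    exact Algebra.IsAlgebraic.of_finite _ _
  have hcard := hs.cardinalMk_eq hb₀
  rw [Cardinal.mk_coe_finset, Cardinal.mk_punit] at hcard
  have hcard' : s.card = 1 := by exact_mod_cast hcard
  obtain ⟨x, rfl⟩ := Finset.card_eq_one.1 hcard'
  refine ⟨x, ?_, ?_⟩
  · have := hs.1
    exact this.transcendental ⟨x, by simp⟩
  · have h : adjoin k ((({x} : Finset K) : Set K)) = k⟮x⟯ := by rw [Finset.coe_singleton]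
    exact h ▸ hsep

end Sep

section B4

variable {k : Type*} {K : Type*} {k' : Type*} {E : Type*} [Field k] [Finite k] [Field K]
  [Algebra k K] [Field k'] [Finite k'] [Algebra k k'] [Field E] [Algebra K E] [Algebra k E]
  [IsScalarTower k K E] [Algebra k' E] [IsScalarTower k k' E]

omit [Finite k] [Finite k'] in
/-- Elements of `k(x)` land in `k'(x)`. -/
theorem algebraMap_mem_adjoin_of_mem {x : K} {b : K} (hb : b ∈ k⟮x⟯) :
    algebraMap K E b ∈ k'⟮algebraMap K E x⟯ := by
  induction hb using IntermediateField.adjoin_induction with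
  | mem y hy =>
    rw [Set.mem_singleton_iff.mp hy]
    exact mem_adjoin_simple_self _ _
  | algebraMap c =>
    rw [← IsScalarTower.algebraMap_apply k K E, IsScalarTower.algebraMap_apply k k' E]
    exact IntermediateField.algebraMap_mem _ _
  | add a b _ _ ha hb => rw [map_add]; exact add_mem ha hb
  | inv a _ ha => rw [map_inv₀]; exact inv_mem ha
  | mul a b _ _ ha hb => rw [map_mul]; exact mul_mem ha hb

/-- The main estimate, given a Galois extension `E` of `k(x)` containing `K`, whose constant field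
`k'` is finite over `k` and which has a place of degree one. -/
theorem main_estimate_of_top (hK : IsFunctionField k K) {x : K} (hx : Transcendental k x)
    {F₀ : Type*} [Field F₀] [Algebra F₀ E] [FiniteDimensional F₀ E] [IsGalois F₀ E]
    (hF₀ : ∀ a : F₀, ∃ b ∈ k⟮x⟯, algebraMap K E b = algebraMap F₀ E a)
    (hE : IsFunctionField k' E) (Q' : Place k' E) (hQ' : Q'.deg = 1) :
    ∃ (C : ℝ) (r₀ : ℕ), 0 < r₀ ∧ ∀ j : ℕ, 0 < j →
      |(ptCount hK (r₀ * j) : ℝ) - (Nat.card k : ℝ) ^ (r₀ * j) - 1| ≤
        C * Real.sqrt (Nat.card k) ^ (r₀ * j) := by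
  classical
  haveI : FiniteDimensional k k' := Module.Finite.of_finite
  haveI : Algebra.IsAlgebraic k k' := Algebra.IsAlgebraic.of_finite k k'
  have hF₀K : ∀ a : F₀, algebraMap F₀ E a ∈ Set.range (algebraMap K E) := by
    intro a
    obtain ⟨b, -, hb⟩ := hF₀ a
    exact ⟨b, hb⟩
  haveI : FiniteDimensional K E := finite_of_range_le hF₀K
  haveI : IsGalois K E := isGalois_of_range_le hF₀K
  -- the rational subfield over `k'`
  obtain ⟨xE, hxE⟩ : ∃ xE : E, xE = algebraMap K E x := ⟨_, rfl⟩
  have hxEk : Transcendental k xE := by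
    rw [hxE]
    exact (transcendental_algebraMap_iff (algebraMap K E).injective).mpr hx
  have hxE' : Transcendental k' xE := by
    intro halg
    exact hxEk (halg.restrictScalars k)
  have hF₀' : IsFunctionField k' k'⟮xE⟯ := isFunctionField_adjoin_simple hE hxE'
  have hg0 : genus k' k'⟮xE⟯ = 0 := genus_adjoin_simple hE hxE'
  haveI : FiniteDimensional k'⟮xE⟯ E := finiteDimensional_adjoin hE hxE'
  have hF₀x : ∀ a : F₀, algebraMap F₀ E a ∈ Set.range (algebraMap k'⟮xE⟯ E) := by
    intro a
    obtain ⟨b, hb, hab⟩ := hF₀ a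
    rw [← hab]
    have := algebraMap_mem_adjoin_of_mem (k' := k') (E := E) hb
    rw [← hxE] at this
    exact ⟨⟨_, this⟩, rfl⟩
  haveI : IsGalois k'⟮xE⟯ E := isGalois_of_range_le hF₀x
  -- a primitive element of `k'/k`
  obtain ⟨β'', hβ''⟩ := Field.exists_primitive_element k k'
  obtain ⟨β', hβ'⟩ : ∃ β' : E, β' = algebraMap k' E β'' := ⟨_, rfl⟩
  have hmem' : ∀ c : k', algebraMap k' E c ∈ K⟮β'⟯ := by
    intro c
    have hc : c ∈ k⟮β''⟯ := by
      rw [hβ'']
      trivial
    induction hc using IntermediateField.adjoin_induction with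
    | mem y hy =>
      rw [Set.mem_singleton_iff.mp hy, ← hβ']
      exact mem_adjoin_simple_self _ _
    | algebraMap a =>
      rw [← IsScalarTower.algebraMap_apply k k' E, IsScalarTower.algebraMap_apply k K E]
      exact IntermediateField.algebraMap_mem _ _
    | add a b _ _ ha hb => rw [map_add]; exact add_mem ha hb
    | inv a _ ha => rw [map_inv₀]; exact inv_mem ha
    | mul a b _ _ ha hb => rw [map_mul]; exact mul_mem ha hb
  have hmem : ∀ c : k', algebraMap k' E c ∈ Set.range (algebraMap K⟮β'⟯ E) :=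
    fun c => ⟨⟨_, hmem' c⟩, rfl⟩
  letI : Algebra k' K⟮β'⟯ := (liftHom (algebraMap k' E) (algebraMap K⟮β'⟯ E) hmem).toAlgebra
  haveI : IsScalarTower k' K⟮β'⟯ E := IsScalarTower.of_algebraMap_eq (fun c =>
    (liftHom_spec (algebraMap k' E) (algebraMap K⟮β'⟯ E) hmem c).symm)
  haveI : IsScalarTower k k' K⟮β'⟯ := IsScalarTower.of_algebraMap_eq (fun a => by
    apply (algebraMap K⟮β'⟯ E).injective
    rw [← IsScalarTower.algebraMap_apply k K⟮β'⟯ E]
    show _ = algebraMap K⟮β'⟯ E (liftHom (algebraMap k' E) (algebraMap K⟮β'⟯ E) hmem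
      (algebraMap k k' a))
    rw [liftHom_spec, ← IsScalarTower.algebraMap_apply k k' E])
  have hK' : IsFunctionField k' K⟮β'⟯ := isFunctionField_of_tower hE
  have hdeg : Module.finrank K K⟮β'⟯ = Module.finrank k k' := by
    have hint : IsIntegral k β'' := Algebra.IsIntegral.isIntegral β''
    have hmp : minpoly k β' = minpoly k β'' := by
      rw [hβ']
      exact minpoly.algebraMap_eq (algebraMap k' E).injective β''
    rw [finrank_adjoin_const hK (f := minpoly k β'') (minpoly.monic hint)
      (minpoly.irreducible hint) (by rw [← hmp]; exact minpoly.aeval k β'),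
      ← IntermediateField.adjoin.finrank hint, hβ'', IntermediateField.finrank_top']
  have hsub : ∀ a : k'⟮xE⟯, algebraMap k'⟮xE⟯ E a ∈ Set.range (algebraMap K⟮β'⟯ E) := by
    rintro ⟨a, ha⟩
    suffices a ∈ K⟮β'⟯ from ⟨⟨_, this⟩, rfl⟩
    induction ha using IntermediateField.adjoin_induction with
    | mem y hy =>
      rw [Set.mem_singleton_iff.mp hy, hxE]
      exact IntermediateField.algebraMap_mem _ _
    | algebraMap c => exact hmem' c
    | add a b _ _ ha hb => exact add_mem ha hb
    | inv a _ ha => exact inv_mem ha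
    | mul a b _ _ ha hb => exact mul_mem ha hb
  exact main_estimate_of_tower hK hK' hdeg hE hF₀' hg0 hsub Q' hQ'

end B4

section B2

variable {k₀ : Type*} {E₀ : Type*} {E : Type*} [Field k₀] [Finite k₀] [Field E₀] [Algebra k₀ E₀]
  [Field E] [Algebra E₀ E] [Algebra k₀ E] [IsScalarTower k₀ E₀ E]

/-- A constant field extension of degree `deg P₁` has a place of degree one over its constants. -/
theorem exists_rational_place_constExt (hE₀ : IsFunctionField k₀ E₀)
    {f₁ : k₀[X]} (hmon : f₁.Monic) (hirr : Irreducible f₁) (hsep : f₁.Separable)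
    {β : E} (hβ : aeval β f₁ = 0) (hgen : Algebra.adjoin E₀ ({β} : Set E) = ⊤)
    (P₁ : Place k₀ E₀) (hdeg : f₁.natDegree = P₁.deg) :
    FiniteDimensional E₀ E ∧ ∃ Q' : Place (algebraicClosure k₀ E) E, Q'.deg = 1 := by
  classical
  obtain ⟨d, hd⟩ : ∃ d, d = P₁.deg := ⟨_, rfl⟩
  have hdpos : 0 < d := hd ▸ Place.deg_pos hE₀ P₁
  rw [← hd] at hdeg
  have hgenI : IntermediateField.adjoin E₀ ({β} : Set E) = ⊤ :=
    IntermediateField.adjoin_eq_top_of_algebra _ _ hgen
  have hfr : Module.finrank E₀ E = d := by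
    rw [← IntermediateField.finrank_top', ← hgenI, finrank_adjoin_const hE₀ hmon hirr hβ, hdeg]
  haveI hfd : FiniteDimensional E₀ E := Module.finite_of_finrank_pos (by rw [hfr]; exact hdpos)
  refine ⟨hfd, ?_⟩
  haveI : IsGalois E₀ E := isGalois_of_root hmon hirr hsep hβ hgen
  obtain ⟨hcard, hQ⟩ := decomposition_law hE₀ hmon hirr hsep hβ hgenI P₁
  rw [← hd, hdeg, Nat.gcd_self] at hcard
  have hne : Nonempty {Q : Place k₀ E // IsOver Q P₁} := by
    by_contra hemp
    rw [not_nonempty_iff] at hemp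
    rw [Nat.card_of_isEmpty] at hcard
    omega
  obtain ⟨⟨Q, hQP⟩⟩ := hne
  have hQdeg : Q.deg = d := by
    rw [(hQ Q hQP).2, ← hd, hdeg, Nat.lcm_self]
  haveI : Algebra.IsAlgebraic k₀ (algebraicClosure k₀ E) := algebraicClosure.isAlgebraic k₀ E
  haveI : FiniteDimensional k₀ (algebraicClosure k₀ E) := finiteDimensional_constants (F := E₀) hE₀
  have hE : IsFunctionField (algebraicClosure k₀ E) E :=
    isFunctionField_algebraicClosure' (F := E₀) hE₀
  obtain ⟨Q', hQ'⟩ : ∃ Q' : Place (algebraicClosure k₀ E) E, Q' = Place.up Q := ⟨_, rfl⟩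
  have h1 := Place.deg_down (k := k₀) Q'
  rw [hQ', Place.down_up, hQdeg] at h1
  rw [← hQ'] at h1
  have hβalg : IsAlgebraic k₀ β := ⟨f₁, hirr.ne_zero, hβ⟩
  have hle : k₀⟮β⟯ ≤ algebraicClosure k₀ E := by
    rw [IntermediateField.adjoin_simple_le_iff]
    exact mem_algebraicClosure_iff.mpr hβalg
  have hint : IsIntegral k₀ β := hβalg.isIntegral
  have hmin : f₁ = minpoly k₀ β := minpoly.eq_of_irreducible_of_monic hirr hβ hmon
  have h2 : Module.finrank k₀ k₀⟮β⟯ = d := by
    rw [IntermediateField.adjoin.finrank hint, ← hmin, hdeg]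
  have h3 : d ≤ Module.finrank k₀ (algebraicClosure k₀ E) := by
    rw [← h2]
    exact IntermediateField.finrank_le_of_le_right hle
  have h4 : 0 < Q'.deg := Place.deg_pos hE Q'
  refine ⟨Q', ?_⟩
  have h5 : d * Q'.deg ≤ d := by
    calc d * Q'.deg ≤ Module.finrank k₀ (algebraicClosure k₀ E) * Q'.deg :=
          Nat.mul_le_mul_right _ h3
      _ = d := h1.symm
  have h6 : Q'.deg ≤ 1 := by
    by_contra hgt
    rw [not_le] at hgt
    have : d * 2 ≤ d * Q'.deg := Nat.mul_le_mul_left _ hgt
    omega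
  omega

end B2

section B3

/-- Adjoining a constant to a Galois extension of `F₀` gives a Galois extension of `F₀`. -/
theorem isGalois_constExt {k F₀ E₀ E : Type*} [Field k] [Finite k] [Field F₀] [Field E₀] [Field E]
    [Algebra F₀ E₀] [Algebra E₀ E] [Algebra F₀ E] [IsScalarTower F₀ E₀ E]
    [FiniteDimensional F₀ E₀] [IsGalois F₀ E₀]
    [Algebra k F₀] [Algebra k E₀] [IsScalarTower k F₀ E₀] [Algebra k E] [IsScalarTower k E₀ E]
    {β : E} (hβ : IsAlgebraic k β) (hgen : Algebra.adjoin E₀ ({β} : Set E) = ⊤) :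
    IsGalois F₀ E := by
  obtain ⟨f, hf⟩ : ∃ f, f = minpoly k β := ⟨_, rfl⟩
  have hint : IsIntegral k β := hβ.isIntegral
  have hm : f.Monic := hf ▸ minpoly.monic hint
  have hirr : Irreducible f := hf ▸ minpoly.irreducible hint
  have hsep : f.Separable := PerfectField.separable_of_irreducible hirr
  have hroot : aeval β f = 0 := hf ▸ minpoly.aeval k β
  haveI : IsGalois E₀ E := isGalois_of_root hm hirr hsep hroot hgen
  haveI : Algebra.IsSeparable F₀ E := Algebra.IsSeparable.trans F₀ E₀ E
  haveI : FiniteDimensional k (IntermediateField.adjoin k ({β} : Set E)) :=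
    IntermediateField.adjoin.finiteDimensional hint
  haveI : Finite (IntermediateField.adjoin k ({β} : Set E)) := Module.finite_of_finite k
  have hsplit0 := Normal.splits (F := k) (K := IntermediateField.adjoin k ({β} : Set E))
    inferInstance (IntermediateField.AdjoinSimple.gen k β)
  rw [IntermediateField.minpoly_gen, ← hf] at hsplit0
  have hsplit1 : (f.map (algebraMap k E)).Splits := by
    have := hsplit0.map (algebraMap (IntermediateField.adjoin k ({β} : Set E)) E)
    rwa [Polynomial.map_map, ← IsScalarTower.algebraMap_eq] at this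
  have hsplit : ((f.map (algebraMap k E₀)).map (algebraMap E₀ E)).Splits := by
    rw [Polynomial.map_map, ← IsScalarTower.algebraMap_eq]
    exact hsplit1
  haveI hsf : IsSplittingField E₀ E (f.map (algebraMap k E₀)) := by
    refine ⟨hsplit, ?_⟩
    rw [eq_top_iff, ← hgen]
    apply Algebra.adjoin_mono
    intro x hx
    rw [Set.mem_singleton_iff] at hx
    rw [hx, mem_rootSet]
    refine ⟨(hm.map _).ne_zero, ?_⟩
    rw [aeval_map_algebraMap]
    exact hroot
  obtain ⟨h, hhsep, hhsplit⟩ := IsGalois.is_separable_splitting_field F₀ E₀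
  haveI := hhsplit
  haveI : IsSplittingField E₀ E ((f.map (algebraMap k F₀)).map (algebraMap F₀ E₀)) := by
    rw [Polynomial.map_map, ← IsScalarTower.algebraMap_eq]
    exact hsf
  haveI := IsSplittingField.mul (F := F₀) (K := E₀) (L := E) h (f.map (algebraMap k F₀))
    hhsep.ne_zero (hm.map _).ne_zero
  haveI : Normal F₀ E := Normal.of_isSplittingField (h * f.map (algebraMap k F₀))
  exact ⟨⟩

end B3

section B6

/-- The main estimate, given the Galois closure `E₀` and its constant field extension `E`. -/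
theorem main_estimate_of_constExt {k K F₀ E₀ k₀ E : Type*} [Field k] [Finite k] [Field K]
    [Algebra k K] (hK : IsFunctionField k K) {x : K} (hx : Transcendental k x)
    [Field F₀] [Algebra k F₀] [Algebra F₀ K] [IsScalarTower k F₀ K]
    (hF₀x : ∀ a : F₀, algebraMap F₀ K a ∈ k⟮x⟯)
    [Field E₀] [Algebra K E₀] [Algebra F₀ E₀] [IsScalarTower F₀ K E₀] [Algebra k E₀]
    [IsScalarTower k K E₀] [IsScalarTower k F₀ E₀] [FiniteDimensional F₀ E₀] [IsGalois F₀ E₀]
    [Field k₀] [Finite k₀] [Algebra k k₀] [Algebra k₀ E₀] [IsScalarTower k k₀ E₀]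
    (hE₀ : IsFunctionField k₀ E₀) (P₁ : Place k₀ E₀)
    {f₁ : k₀[X]} (hmon : f₁.Monic) (hirr : Irreducible f₁) (hsep : f₁.Separable)
    (hdeg : f₁.natDegree = P₁.deg)
    [Field E] [Algebra E₀ E] [Algebra k₀ E] [IsScalarTower k₀ E₀ E] [Algebra K E]
    [IsScalarTower K E₀ E] [Algebra k E] [IsScalarTower k K E] [IsScalarTower k k₀ E]
    [IsScalarTower k E₀ E] [Algebra F₀ E] [IsScalarTower F₀ E₀ E] [IsScalarTower F₀ K E]
    {β : E} (hβ : aeval β f₁ = 0) (hgen : Algebra.adjoin E₀ ({β} : Set E) = ⊤) :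
    ∃ (C : ℝ) (r₀ : ℕ), 0 < r₀ ∧ ∀ j : ℕ, 0 < j →
      |(ptCount hK (r₀ * j) : ℝ) - (Nat.card k : ℝ) ^ (r₀ * j) - 1| ≤
        C * Real.sqrt (Nat.card k) ^ (r₀ * j) := by
  classical
  obtain ⟨hfd, Q', hQ'⟩ := exists_rational_place_constExt hE₀ hmon hirr hsep hβ hgen P₁ hdeg
  haveI := hfd
  haveI : FiniteDimensional k₀ (algebraicClosure k₀ E) := finiteDimensional_constants (F := E₀) hE₀
  haveI : Finite (algebraicClosure k₀ E) := Module.finite_of_finite k₀
  have hE : IsFunctionField (algebraicClosure k₀ E) E :=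
    isFunctionField_algebraicClosure' (F := E₀) hE₀
  haveI : FiniteDimensional k k₀ := Module.Finite.of_finite
  haveI : Algebra.IsAlgebraic k k₀ := Algebra.IsAlgebraic.of_finite k k₀
  have hβalg₀ : IsAlgebraic k₀ β := ⟨f₁, hirr.ne_zero, hβ⟩
  have hβalg : IsAlgebraic k β := hβalg₀.restrictScalars k
  haveI : IsGalois F₀ E := isGalois_constExt (k := k) (E₀ := E₀) hβalg hgen
  haveI : FiniteDimensional F₀ E := Module.Finite.trans E₀ E
  have hF₀ : ∀ a : F₀, ∃ b ∈ k⟮x⟯, algebraMap K E b = algebraMap F₀ E a := fun a =>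
    ⟨algebraMap F₀ K a, hF₀x a, (IsScalarTower.algebraMap_apply F₀ K E a).symm⟩
  exact main_estimate_of_top (k' := algebraicClosure k₀ E) hK hx hF₀ hE Q' hQ'

end B6

section B7

/-- The main estimate, given the Galois closure `E₀` of `K/k(x)`. -/
theorem main_estimate_of_closure {k K F₀ E₀ : Type*} [Field k] [Finite k] [Field K]
    [Algebra k K] (hK : IsFunctionField k K) {x : K} (hx : Transcendental k x)
    [Field F₀] [Algebra k F₀] [Algebra F₀ K] [IsScalarTower k F₀ K]
    (hF₀x : ∀ a : F₀, algebraMap F₀ K a ∈ k⟮x⟯)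
    [Field E₀] [Algebra K E₀] [Algebra F₀ E₀] [IsScalarTower F₀ K E₀] [Algebra k E₀]
    [IsScalarTower k K E₀] [IsScalarTower k F₀ E₀] [FiniteDimensional F₀ E₀] [IsGalois F₀ E₀] :
    ∃ (C : ℝ) (r₀ : ℕ), 0 < r₀ ∧ ∀ j : ℕ, 0 < j →
      |(ptCount hK (r₀ * j) : ℝ) - (Nat.card k : ℝ) ^ (r₀ * j) - 1| ≤
        C * Real.sqrt (Nat.card k) ^ (r₀ * j) := by
  classical
  haveI : FiniteDimensional K E₀ := Module.Finite.of_restrictScalars_finite F₀ K E₀
  haveI : FiniteDimensional k (algebraicClosure k E₀) := finiteDimensional_constants (F := K) hK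
  haveI : Finite (algebraicClosure k E₀) := Module.finite_of_finite k
  have hE₀ : IsFunctionField (algebraicClosure k E₀) E₀ :=
    isFunctionField_algebraicClosure' (F := K) hK
  obtain ⟨P₁⟩ := exists_place hE₀
  have hd₁ : 0 < P₁.deg := Place.deg_pos hE₀ P₁
  obtain ⟨f₁, hmon, hirr, hdeg, hsep⟩ :=
    exists_irreducible_natDegree (k := algebraicClosure k E₀) hd₁
  have hpirr : Irreducible (f₁.map (algebraMap (algebraicClosure k E₀) E₀)) :=
    irreducible_map_of_algClosed hE₀.2 hirr hmon
  haveI : Fact (Irreducible (f₁.map (algebraMap (algebraicClosure k E₀) E₀))) := ⟨hpirr⟩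
  have hβ : aeval (AdjoinRoot.root (f₁.map (algebraMap (algebraicClosure k E₀) E₀))) f₁ = 0 := by
    have := AdjoinRoot.eval₂_root (f₁.map (algebraMap (algebraicClosure k E₀) E₀))
    rw [Polynomial.eval₂_map] at this
    rw [Polynomial.aeval_def]
    exact this
  exact main_estimate_of_constExt (k₀ := algebraicClosure k E₀)
    (E := AdjoinRoot (f₁.map (algebraMap (algebraicClosure k E₀) E₀))) hK hx hF₀x hE₀ P₁ hmon hirr
    hsep hdeg hβ (AdjoinRoot.adjoinRoot_eq_top)

end B7

section B8

variable {k : Type u} {K : Type v} [Field k] [Field K] [Algebra k K]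

/-- **The main estimate**: `|N_r - q^r - 1| ≤ C q^{r/2}` along an arithmetic progression of `r`. -/
theorem main_estimate [Finite k] (hK : IsFunctionField k K) :
    ∃ (C : ℝ) (r₀ : ℕ), 0 < r₀ ∧ ∀ j : ℕ, 0 < j →
      |(ptCount hK (r₀ * j) : ℝ) - (Nat.card k : ℝ) ^ (r₀ * j) - 1| ≤
        C * Real.sqrt (Nat.card k) ^ (r₀ * j) := by
  obtain ⟨x, hx, hsep⟩ := exists_separating hK
  haveI := hsep
  haveI : FiniteDimensional k⟮x⟯ K := finiteDimensional_adjoin hK hx
  haveI : Algebra.IsSeparable k⟮x⟯ (SeparableClosure K) :=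
    Algebra.IsSeparable.trans k⟮x⟯ K (SeparableClosure K)
  haveI : IsSepClosure k⟮x⟯ (SeparableClosure K) := ⟨inferInstance, inferInstance⟩
  haveI : IsGalois k⟮x⟯ (SeparableClosure K) := inferInstance
  haveI : IsScalarTower k K (normalClosure k⟮x⟯ K (SeparableClosure K)) :=
    IsScalarTower.of_algebraMap_eq (fun c => by
      apply Subtype.ext
      show algebraMap k (SeparableClosure K) c = algebraMap K (SeparableClosure K) (algebraMap k K c)
      rw [← IsScalarTower.algebraMap_apply])
  exact main_estimate_of_closure (F₀ := k⟮x⟯)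
    (E₀ := normalClosure k⟮x⟯ K (SeparableClosure K)) hK hx (fun a => a.2)

end B8

end Groth.Agent.Lib.helper10.Zeta
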