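import Mathlib
import Groth.Agent.Lib.Helper10.Zeta14
import Groth.Agent.Lib.Helper10.Zeta10

/-!
# Zeta functions (helper10), part 15: the Riemann hypothesis for function fields over finite fields
-/

set_option autoImplicit false
set_option linter.style.haveILetI false
set_option linter.unusedSectionVars false
set_option linter.unusedVariables false

universe u v w

open FunFld Polynomial

namespace Groth.Agent.Lib.helper10.Zeta

open FF RD PA

section RH

variable {k : Type u} {K : Type v} [Field k] [Field K] [Algebra k K]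

/-- **The Riemann hypothesis**: the reciprocal roots of `L_K` have absolute value `√q`. -/
theorem norm_sq_eq_card [Finite k] (hK : IsFunctionField k K) {ι : Type*} [Fintype ι]
    (α : ι → ℂ)
    (hα : PowerSeries.map (Int.castRingHom ℂ) (numerZ k K) =
      ((∏ i, (1 - Polynomial.C (α i) * Polynomial.X) : Polynomial ℂ) : PowerSeries ℂ))
    (hpair : ∀ i, ∃ j, α i * α j = (Nat.card k : ℂ)) (i : ι) :
    ‖α i‖ ^ 2 = (Nat.card k : ℝ) := by
  obtain ⟨C, r₀, hr₀, hME⟩ := main_estimate hK
  have hqpos : (0 : ℝ) < (Nat.card k : ℝ) := by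
    have : 0 < Nat.card k := Nat.card_pos
    exact_mod_cast this
  refine norm_sq_eq_of_sum_pow_bound α hqpos (fun i => ?_) C r₀ hr₀ (fun j hj => ?_) i
  · obtain ⟨j, hj⟩ := hpair i
    exact ⟨j, by rw [hj]; push_cast; rfl⟩
  · have hm : r₀ * j ≠ 0 := (Nat.mul_pos hr₀ hj).ne'
    have h1 := ptCount_eq hK α hα hm
    have h2 : ∑ i, α i ^ (r₀ * j) =
        (((1 : ℝ) + (Nat.card k : ℝ) ^ (r₀ * j) - (ptCount hK (r₀ * j) : ℝ) : ℝ) : ℂ) := by
      push_cast
      rw [h1]
      ring
    rw [h2, Complex.norm_real, Real.norm_eq_abs]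
    have h3 := hME j hj
    rw [abs_sub_comm] at h3
    calc |(1 : ℝ) + (Nat.card k : ℝ) ^ (r₀ * j) - (ptCount hK (r₀ * j) : ℝ)|
        = |(Nat.card k : ℝ) ^ (r₀ * j) - ((ptCount hK (r₀ * j) : ℝ) - 1)| := by
          congr 1
          ring
      _ = |(ptCount hK (r₀ * j) : ℝ) - (Nat.card k : ℝ) ^ (r₀ * j) - 1| := by
          rw [abs_sub_comm]
          congr 1
          ring
      _ ≤ _ := hME j hj

end RH

end Groth.Agent.Lib.helper10.Zeta
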